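import Mathlib
import Cfsg.Agent.Lib.Helper1.MEO.Defs

/-!
# Project MEO (S2264), piece E : `pow_eq_of_roots_mult`

Over an algebraically closed field of characteristic `p`: if every eigenvalue `μ` of `A` has `μ^N = c` and
multiplicity at most `p^a`, then `A^(N p^a) = c^(p^a)`.  The characteristic polynomial divides
`(T^N - c)^(p^a) = T^(N p^a) - c^(p^a)` (compare root multisets), and Cayley-Hamilton concludes.
-/

set_option autoImplicit false

namespace Cfsg.Agent.Lib.Helper1.MEO

open Polynomial in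
/-- MEO-E -/
theorem pow_eq_of_roots_mult {K : Type*} [Field K] [IsAlgClosed K] (p : ℕ) [Fact p.Prime]
    [CharP K p] {n : Type*} [Fintype n] [DecidableEq n] (A : Matrix n n K) (N a : ℕ)
    (hN : 0 < N) (c : K)
    (hroot : ∀ μ : K, A.charpoly.IsRoot μ → μ ^ N = c)
    (hmult : ∀ μ : K, A.charpoly.rootMultiplicity μ ≤ p ^ a) :
    A ^ (N * p ^ a) = (c ^ (p ^ a)) • (1 : Matrix n n K) := by
  classical
  have hχ0 : A.charpoly ≠ 0 := (Matrix.charpoly_monic A).ne_zero
  have hsplit : A.charpoly.Splits := IsAlgClosed.splits _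
  have hg0' : (X ^ N - C c : K[X]) ≠ 0 := X_pow_sub_C_ne_zero hN c
  have hle : A.charpoly.roots ≤ ((X ^ N - C c : K[X]) ^ (p ^ a)).roots := by
    rw [Multiset.le_iff_count]
    intro μ
    rw [count_roots, roots_pow, Multiset.count_nsmul, count_roots]
    by_cases hμ : A.charpoly.IsRoot μ
    · have h1 : (X ^ N - C c : K[X]).IsRoot μ := by
        rw [IsRoot.def, eval_sub, eval_pow, eval_X, eval_C, hroot μ hμ, sub_self]
      have h2 : 1 ≤ rootMultiplicity μ (X ^ N - C c : K[X]) :=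
        (rootMultiplicity_pos hg0').2 h1
      calc rootMultiplicity μ A.charpoly ≤ p ^ a := hmult μ
        _ = p ^ a * 1 := (mul_one _).symm
        _ ≤ p ^ a * rootMultiplicity μ (X ^ N - C c : K[X]) := Nat.mul_le_mul_left _ h2
    · rw [rootMultiplicity_eq_zero hμ]
      exact Nat.zero_le _
  obtain ⟨h, hh⟩ := hsplit.dvd_of_roots_le_roots hχ0 hle
  have hgA : aeval A ((X ^ N - C c : K[X]) ^ (p ^ a)) = 0 := by
    rw [hh, map_mul, Matrix.aeval_self_charpoly, zero_mul]
  have hg2 : (X ^ N - C c : K[X]) ^ (p ^ a) = X ^ (N * p ^ a) - C (c ^ (p ^ a)) := by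
    rw [sub_pow_char_pow, ← pow_mul, ← C_pow]
  rw [hg2, map_sub, map_pow, aeval_X, aeval_C, sub_eq_zero] at hgA
  rw [hgA, Algebra.algebraMap_eq_smul_one]

end Cfsg.Agent.Lib.Helper1.MEO
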