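import Mathlib
import Cfsg.Agent.Lib.Helper1.MEO.Defs
import Cfsg.Agent.Lib.helper15.SpRegSemi

/-!
# Project MEO (S2264), piece G2 : `roots_data`

Root data of the characteristic polynomial (over an algebraically closed extension `K`) of a matrix of
determinant 1 over a finite field `F`, with inverse-symmetric root multiplicities: the roots are nonzero,
closed under `x ↦ x^|F|` (with multiplicities) and under inversion, the multiplicities add up to the size,
and the multiplicity of `-1` is even.
-/

set_option autoImplicit false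

namespace Cfsg.Agent.Lib.Helper1.MEO

open Polynomial

/-- MEO-G2 : root data of a matrix over a finite field -/
theorem roots_data {F : Type*} [Field F] [Fintype F] {ι : Type*} [Fintype ι] [DecidableEq ι]
    {K : Type*} [Field K] [Algebra F K] [IsAlgClosed K] [DecidableEq K]
    (A : Matrix ι ι F) (hdet : A.det = 1)
    (hinv : ∀ ν : K, ν ≠ 0 →
      (A.map (algebraMap F K)).charpoly.rootMultiplicity ν⁻¹ =
        (A.map (algebraMap F K)).charpoly.rootMultiplicity ν) :
    (∀ x ∈ (A.map (algebraMap F K)).charpoly.roots.toFinset,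
      1 ≤ (A.map (algebraMap F K)).charpoly.rootMultiplicity x) ∧
    (0 : K) ∉ (A.map (algebraMap F K)).charpoly.roots.toFinset ∧
    (∀ x ∈ (A.map (algebraMap F K)).charpoly.roots.toFinset,
      x ^ Fintype.card F ∈ (A.map (algebraMap F K)).charpoly.roots.toFinset ∧
      (A.map (algebraMap F K)).charpoly.rootMultiplicity (x ^ Fintype.card F) =
        (A.map (algebraMap F K)).charpoly.rootMultiplicity x) ∧
    (∀ x ∈ (A.map (algebraMap F K)).charpoly.roots.toFinset,
      x⁻¹ ∈ (A.map (algebraMap F K)).charpoly.roots.toFinset) ∧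
    ∑ x ∈ (A.map (algebraMap F K)).charpoly.roots.toFinset,
      (A.map (algebraMap F K)).charpoly.rootMultiplicity x = Fintype.card ι ∧
    ((-1 : K) ≠ 1 → Even ((A.map (algebraMap F K)).charpoly.rootMultiplicity (-1))) := by
  obtain ⟨χ, hχ⟩ : ∃ χ : K[X], χ = (A.map (algebraMap F K)).charpoly := ⟨_, rfl⟩
  rw [← hχ] at hinv ⊢
  have hχ0 : χ ≠ 0 := by
    rw [hχ]
    exact (Matrix.charpoly_monic _).ne_zero
  have hmem : ∀ x : K, x ∈ χ.roots.toFinset ↔ 1 ≤ χ.rootMultiplicity x := by
    intro x
    rw [Multiset.mem_toFinset, mem_roots hχ0, ← rootMultiplicity_pos hχ0]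
    exact Iff.rfl
  have hdetK : (A.map (algebraMap F K)).det = 1 := by
    have h1 := RingHom.map_det (algebraMap F K) A
    rw [hdet, map_one, RingHom.mapMatrix_apply] at h1
    exact h1.symm
  -- 0 is not a root
  have h0 : (0 : K) ∉ χ.roots.toFinset := by
    intro h
    rw [Multiset.mem_toFinset, mem_roots hχ0, IsRoot.def, ← coeff_zero_eq_eval_zero] at h
    have h2 := Matrix.det_eq_sign_charpoly_coeff (A.map (algebraMap F K))
    rw [← hχ, h, mul_zero, hdetK] at h2
    exact one_ne_zero h2
  -- Frobenius
  obtain ⟨p, hpc⟩ := CharP.exists F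
  obtain ⟨n, hp, hq⟩ := FiniteField.card F p
  have hpf : Fact p.Prime := ⟨hp⟩
  have hcK : CharP K p := charP_of_injective_algebraMap (algebraMap F K).injective p
  have hfrob : ∀ x : K, χ.rootMultiplicity (x ^ Fintype.card F) = χ.rootMultiplicity x := by
    intro x
    have hfix : ∀ a : F, (iterateFrobenius K p n) (algebraMap F K a) = algebraMap F K a := by
      intro a
      rw [iterateFrobenius_def, ← hq, ← map_pow, FiniteField.pow_card]
    have := Cfsg.Agent.Lib.helper15.SpRegSemi.mult_frob A (iterateFrobenius K p n) hfix x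
    rw [iterateFrobenius_def, ← hq, ← hχ] at this
    exact this
  -- inverse
  have hinvmem : ∀ x ∈ χ.roots.toFinset, x⁻¹ ∈ χ.roots.toFinset := by
    intro x hx
    have hx0 : x ≠ 0 := fun h => h0 (h ▸ hx)
    rw [hmem, hinv x hx0]
    exact (hmem x).1 hx
  refine ⟨fun x hx => (hmem x).1 hx, h0, ?_, hinvmem, ?_, ?_⟩
  · intro x hx
    refine ⟨?_, hfrob x⟩
    rw [hmem, hfrob x]
    exact (hmem x).1 hx
  · have h1 : ∑ x ∈ χ.roots.toFinset, χ.rootMultiplicity x =
        ∑ x ∈ χ.roots.toFinset, χ.roots.count x :=
      Finset.sum_congr rfl fun x _ => (count_roots χ).symm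
    rw [h1, Multiset.toFinset_sum_count_eq]
    have hsplit : χ.Splits := IsAlgClosed.splits χ
    rw [splits_iff_card_roots.1 hsplit, hχ, Matrix.charpoly_natDegree_eq_dim]
  · intro hne
    by_cases hm1 : (-1 : K) ∈ χ.roots.toFinset
    · have hprod : ∏ x ∈ χ.roots.toFinset, x ^ χ.roots.count x = 1 := by
        rw [← Finset.prod_multiset_count, hχ, ← Matrix.det_eq_prod_roots_charpoly, hdetK]
      rw [← Finset.mul_prod_erase _ _ hm1] at hprod
      have hrest : ∏ x ∈ χ.roots.toFinset.erase (-1), x ^ χ.roots.count x = 1 := by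
        apply Finset.prod_involution (fun x _ => x⁻¹)
        · intro x hx
          have hxs := Finset.mem_of_mem_erase hx
          have hx0 : x ≠ 0 := fun h => h0 (h ▸ hxs)
          rw [count_roots, count_roots, hinv x hx0, inv_pow, mul_inv_cancel₀ (pow_ne_zero _ hx0)]
        · intro x hx hfx hxx
          apply hfx
          have hxs := Finset.mem_of_mem_erase hx
          have hx0 : x ≠ 0 := fun h => h0 (h ▸ hxs)
          have hsq : x * x = 1 := by
            nth_rewrite 1 [← hxx]
            exact inv_mul_cancel₀ hx0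
          rcases mul_self_eq_one_iff.1 hsq with h | h
          · rw [h, one_pow]
          · exact absurd h (Finset.ne_of_mem_erase hx)
        · intro x hx
          exact inv_inv x
        · intro x hx
          have hxs := Finset.mem_of_mem_erase hx
          refine Finset.mem_erase.2 ⟨?_, hinvmem x hxs⟩
          intro h
          apply Finset.ne_of_mem_erase hx
          have : x = (x⁻¹)⁻¹ := (inv_inv x).symm
          rw [this, h, inv_neg, inv_one]
      rw [hrest, mul_one, count_roots] at hprod
      exact (neg_one_pow_eq_one_iff_even hne).1 hprod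
    · have : χ.rootMultiplicity (-1) = 0 := by
        have := (hmem (-1)).not.1 hm1
        omega
      rw [this]
      exact ⟨0, rfl⟩

end Cfsg.Agent.Lib.Helper1.MEO
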