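import Mathlib
import Cfsg.Prelude.Def_GeometricClasses
import Cfsg.Agent.Lib.Helper27.ASC.Defs
import Cfsg.Agent.Lib.helper23.ASCO.Defs
import Cfsg.Agent.Lib.Helper19.ASG.Defs
import Cfsg.Agent.Lib.Helper1.ASGCLIF3
import Cfsg.Agent.Lib.Lead.Reindex
import Cfsg.Agent.Lib.Helper25.ASO.Defs

set_option autoImplicit false
set_option linter.unusedVariables false
set_option linter.unusedSectionVars false

/-!
# Project ASO, piece ADJ : the adjoint involution `oadj Q M = G⁻¹ Mᵀ G` of the polar form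
-/

namespace Cfsg.Agent.Lib.Helper25.ASO

open Cfsg Cfsg.Geo Cfsg.Agent.Lib.Helper27.ASC Cfsg.Agent.Lib.helper23.ASCO Cfsg.Agent.Lib.Helper19.ASG
open scoped MatrixGroups Matrix Kronecker

variable {n : ℕ} {F : Type*} [Field F] [Fintype F]

/-- the Gram matrix of the polar form is the matrix of the bundled polar bilinear form -/
theorem asoadj_gram_eq (Q : QuadraticForm F (Fin n → F)) :
    gramMatrix (QuadraticMap.polar (⇑Q)) = LinearMap.BilinForm.toMatrix' (QuadraticMap.polarBilin Q) := by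
  ext i j
  rw [LinearMap.BilinForm.toMatrix'_apply]
  rfl

/-- the polar form in terms of its Gram matrix -/
theorem asoadj_polar_eq (Q : QuadraticForm F (Fin n → F)) (u v : Fin n → F) :
    QuadraticMap.polar (⇑Q) u v = u ⬝ᵥ (gramMatrix (QuadraticMap.polar (⇑Q)) *ᵥ v) := by
  rw [asoadj_gram_eq, ← Matrix.toBilin'_apply', Matrix.toBilin'_toMatrix']
  rfl

/-- the Gram matrix is symmetric -/
theorem asoadj_gram_symm (Q : QuadraticForm F (Fin n → F)) :
    (gramMatrix (QuadraticMap.polar (⇑Q))).transpose = gramMatrix (QuadraticMap.polar (⇑Q)) := by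
  ext i j
  exact QuadraticMap.polar_comm _ _ _

/-- the Gram matrix is invertible -/
theorem asoadj_gram_det (Q : QuadraticForm F (Fin n → F)) (hQ : (QuadraticMap.polarBilin Q).Nondegenerate) :
    IsUnit (gramMatrix (QuadraticMap.polar (⇑Q))).det := by
  rw [asoadj_gram_eq, isUnit_iff_ne_zero, ← Matrix.nondegenerate_iff_det_ne_zero]
  exact (LinearMap.BilinForm.nondegenerate_toMatrix'_iff).mpr hQ

theorem asoadj_inv_mul (Q : QuadraticForm F (Fin n → F)) (hQ : (QuadraticMap.polarBilin Q).Nondegenerate) :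
    (gramMatrix (QuadraticMap.polar (⇑Q)))⁻¹ * gramMatrix (QuadraticMap.polar (⇑Q)) = 1 :=
  Matrix.nonsing_inv_mul _ (asoadj_gram_det Q hQ)

theorem asoadj_mul_inv (Q : QuadraticForm F (Fin n → F)) (hQ : (QuadraticMap.polarBilin Q).Nondegenerate) :
    gramMatrix (QuadraticMap.polar (⇑Q)) * (gramMatrix (QuadraticMap.polar (⇑Q)))⁻¹ = 1 :=
  Matrix.mul_nonsing_inv _ (asoadj_gram_det Q hQ)

/-- two matrices with the same bilinear form are equal -/
theorem asoadj_ext (A B : Matrix (Fin n) (Fin n) F) (h : ∀ u v : Fin n → F, u ⬝ᵥ (A *ᵥ v) = u ⬝ᵥ (B *ᵥ v)) :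
    A = B := by
  ext i j
  have := h (Pi.single i 1) (Pi.single j 1)
  simpa using this

/-- `G * oadj M = Mᵀ * G` -/
theorem asoadj_gram_mul (Q : QuadraticForm F (Fin n → F)) (hQ : (QuadraticMap.polarBilin Q).Nondegenerate)
    (M : Matrix (Fin n) (Fin n) F) :
    gramMatrix (QuadraticMap.polar (⇑Q)) * oadj (⇑Q) M = M.transpose * gramMatrix (QuadraticMap.polar (⇑Q)) := by
  unfold oadj
  rw [← Matrix.mul_assoc, ← Matrix.mul_assoc, asoadj_mul_inv Q hQ, Matrix.one_mul]

/-- ADJ : the defining property of the adjoint. -/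
theorem oadj_spec (Q : QuadraticForm F (Fin n → F)) (hQ : (QuadraticMap.polarBilin Q).Nondegenerate)
    (M : Matrix (Fin n) (Fin n) F) (u v : Fin n → F) :
    QuadraticMap.polar (⇑Q) (M *ᵥ u) v = QuadraticMap.polar (⇑Q) u (oadj (⇑Q) M *ᵥ v) := by
  rw [asoadj_polar_eq, asoadj_polar_eq, Matrix.mulVec_mulVec, asoadj_gram_mul Q hQ, ← Matrix.mulVec_mulVec,
    Matrix.dotProduct_mulVec u M.transpose, Matrix.vecMul_transpose]

/-- ADJ : uniqueness of the adjoint. -/
theorem oadj_unique (Q : QuadraticForm F (Fin n → F)) (hQ : (QuadraticMap.polarBilin Q).Nondegenerate)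
    (M M' : Matrix (Fin n) (Fin n) F)
    (h : ∀ u v : Fin n → F, QuadraticMap.polar (⇑Q) (M *ᵥ u) v = QuadraticMap.polar (⇑Q) u (M' *ᵥ v)) :
    M' = oadj (⇑Q) M := by
  have h1 : gramMatrix (QuadraticMap.polar (⇑Q)) * M' = gramMatrix (QuadraticMap.polar (⇑Q)) * oadj (⇑Q) M := by
    apply asoadj_ext
    intro u v
    have h2 := h u v
    rw [oadj_spec Q hQ M u v, asoadj_polar_eq, asoadj_polar_eq, Matrix.mulVec_mulVec, Matrix.mulVec_mulVec] at h2
    exact h2.symm
  calc M' = (gramMatrix (QuadraticMap.polar (⇑Q)))⁻¹ * (gramMatrix (QuadraticMap.polar (⇑Q)) * M') := by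
        rw [← Matrix.mul_assoc, asoadj_inv_mul Q hQ, Matrix.one_mul]
    _ = (gramMatrix (QuadraticMap.polar (⇑Q)))⁻¹ * (gramMatrix (QuadraticMap.polar (⇑Q)) * oadj (⇑Q) M) := by rw [h1]
    _ = oadj (⇑Q) M := by rw [← Matrix.mul_assoc, asoadj_inv_mul Q hQ, Matrix.one_mul]

/-- ADJ : the adjoint is an anti-automorphism of order two of the matrix algebra. -/
theorem oadj_mul (Q : QuadraticForm F (Fin n → F)) (hQ : (QuadraticMap.polarBilin Q).Nondegenerate)
    (M M' : Matrix (Fin n) (Fin n) F) : oadj (⇑Q) (M * M') = oadj (⇑Q) M' * oadj (⇑Q) M := by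
  symm
  apply oadj_unique Q hQ
  intro u v
  rw [← Matrix.mulVec_mulVec, oadj_spec Q hQ M, oadj_spec Q hQ M', Matrix.mulVec_mulVec]

/-- ADJ -/
theorem oadj_one (Q : QuadraticForm F (Fin n → F)) (hQ : (QuadraticMap.polarBilin Q).Nondegenerate) :
    oadj (⇑Q) (1 : Matrix (Fin n) (Fin n) F) = 1 := by
  unfold oadj
  rw [Matrix.transpose_one, Matrix.mul_one, asoadj_inv_mul Q hQ]

/-- ADJ -/
theorem oadj_add (Q : QuadraticForm F (Fin n → F)) (M M' : Matrix (Fin n) (Fin n) F) :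
    oadj (⇑Q) (M + M') = oadj (⇑Q) M + oadj (⇑Q) M' := by
  unfold oadj
  rw [Matrix.transpose_add, Matrix.mul_add, Matrix.add_mul]

/-- ADJ -/
theorem oadj_smul (Q : QuadraticForm F (Fin n → F)) (c : F) (M : Matrix (Fin n) (Fin n) F) :
    oadj (⇑Q) (c • M) = c • oadj (⇑Q) M := by
  unfold oadj
  rw [Matrix.transpose_smul, Matrix.mul_smul, Matrix.smul_mul]

/-- ADJ : uses the symmetry of the polar form. -/
theorem oadj_oadj (Q : QuadraticForm F (Fin n → F)) (hQ : (QuadraticMap.polarBilin Q).Nondegenerate)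
    (M : Matrix (Fin n) (Fin n) F) : oadj (⇑Q) (oadj (⇑Q) M) = M := by
  symm
  apply oadj_unique Q hQ
  intro u v
  rw [QuadraticMap.polar_comm (⇑Q) (oadj (⇑Q) M *ᵥ u) v, ← oadj_spec Q hQ M v u, QuadraticMap.polar_comm]

/-- isometries preserve the polar form -/
theorem asoadj_iso_polar (Q : QuadraticForm F (Fin n → F)) (g : GL (Fin n) F) (hg : g ∈ isometryGroup F (⇑Q))
    (u v : Fin n → F) :
    QuadraticMap.polar (⇑Q) ((g : Matrix (Fin n) (Fin n) F) *ᵥ u) ((g : Matrix (Fin n) (Fin n) F) *ᵥ v) =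
      QuadraticMap.polar (⇑Q) u v := by
  have h : ∀ x : Fin n → F, Q ((g : Matrix (Fin n) (Fin n) F) *ᵥ x) = Q x := fun x => hg x x
  unfold QuadraticMap.polar
  rw [← Matrix.mulVec_add, h, h, h]

/-- ADJ : the adjoint of an isometry is its inverse. -/
theorem oadj_of_iso (Q : QuadraticForm F (Fin n → F)) (hQ : (QuadraticMap.polarBilin Q).Nondegenerate)
    (g : GL (Fin n) F) (hg : g ∈ isometryGroup F (⇑Q)) :
    oadj (⇑Q) (g : Matrix (Fin n) (Fin n) F) = ((g⁻¹ : GL (Fin n) F) : Matrix (Fin n) (Fin n) F) := by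
  symm
  apply oadj_unique Q hQ
  intro u v
  have h1 := asoadj_iso_polar Q g hg u (((g⁻¹ : GL (Fin n) F) : Matrix (Fin n) (Fin n) F) *ᵥ v)
  rw [Matrix.mulVec_mulVec, ← Units.val_mul, mul_inv_cancel, Units.val_one, Matrix.one_mulVec] at h1
  exact h1

end Cfsg.Agent.Lib.Helper25.ASO
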