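import Mathlib
import Cfsg.Prelude.Def_Characters

set_option autoImplicit false
set_option linter.style.haveILetI false
set_option linter.unusedSimpArgs false
set_option linter.deprecated false

namespace Cfsg.Agent.Lib.Helper25

open scoped ComplexConjugate ComplexOrder
open Matrix

theorem matrix_trace_inv_of_group {G : Type*} [Group G] [Fintype G] {n : Type*} [Fintype n]
    [DecidableEq n] (A : G →* Matrix n n ℂ) (h : G) :
    Matrix.trace (A h⁻¹) = conj (Matrix.trace (A h)) := by
  classical
  set H : Matrix n n ℂ := ∑ g : G, (A g)ᴴ * A g with hH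
  have hinj : ∀ g : G, Function.Injective (A g).mulVec := by
    intro g
    rw [Matrix.mulVec_injective_iff_isUnit]
    refine ⟨⟨A g, A g⁻¹, ?_, ?_⟩, rfl⟩
    · rw [← map_mul, mul_inv_cancel, map_one]
    · rw [← map_mul, inv_mul_cancel, map_one]
  have hpd : H.PosDef := by
    apply Matrix.posDef_sum Finset.univ_nonempty
    intro g _
    exact Matrix.PosDef.conjTranspose_mul_self (A g) (hinj g)
  have hunit : IsUnit H := hpd.isUnit
  have hinv : (A h)ᴴ * H * A h = H := by
    rw [hH, Finset.mul_sum, Finset.sum_mul]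
    refine Fintype.sum_bijective (· * h) (Group.mulRight_bijective h) _ _ fun g ↦ ?_
    rw [map_mul, Matrix.conjTranspose_mul]
    simp only [Matrix.mul_assoc]
  have hdet : IsUnit H.det := (Matrix.isUnit_iff_isUnit_det H).mp hunit
  have key : A h⁻¹ = H⁻¹ * (A h)ᴴ * H := by
    have h1 : A h * A h⁻¹ = 1 := by rw [← map_mul, mul_inv_cancel, map_one]
    have h2 : (A h)ᴴ * H = H * A h⁻¹ := by
      calc (A h)ᴴ * H = (A h)ᴴ * H * (A h * A h⁻¹) := by rw [h1, Matrix.mul_one]
        _ = ((A h)ᴴ * H * A h) * A h⁻¹ := by simp only [Matrix.mul_assoc]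
        _ = H * A h⁻¹ := by rw [hinv]
    rw [Matrix.mul_assoc, h2, ← Matrix.mul_assoc, Matrix.nonsing_inv_mul _ hdet, Matrix.one_mul]
  rw [key, Matrix.trace_mul_cycle, Matrix.mul_nonsing_inv _ hdet, Matrix.one_mul,
    Matrix.trace_conjTranspose]
  rfl


open scoped ComplexConjugate

theorem char_inv {G : Type*} [Group G] [Finite G] {V : Type*} [AddCommGroup V] [Module ℂ V]
    [FiniteDimensional ℂ V] (ρ : Representation ℂ G V) (g : G) :
    ρ.character g⁻¹ = conj (ρ.character g) := by
  classical
  haveI := Fintype.ofFinite G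
  let b := Module.finBasis ℂ V
  let A : G →* Matrix (Fin (Module.finrank ℂ V)) (Fin (Module.finrank ℂ V)) ℂ :=
    ((LinearMap.toMatrixAlgEquiv b : (V →ₗ[ℂ] V) ≃ₐ[ℂ] _) : (V →ₗ[ℂ] V) →* _).comp ρ
  have hA : ∀ x : G, ρ.character x = Matrix.trace (A x) := by
    intro x
    simp only [Representation.character, A]
    rw [LinearMap.trace_eq_matrix_trace ℂ b]
    rfl
  rw [hA, hA, matrix_trace_inv_of_group A g]


open scoped ComplexConjugate

theorem classInner_rep {G : Type*} [Group G] [Fintype G] {V W : Type*} [AddCommGroup V] [Module ℂ V]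
    [FiniteDimensional ℂ V] [AddCommGroup W] [Module ℂ W] [FiniteDimensional ℂ W]
    (ρ : Representation ℂ G V) (σ : Representation ℂ G W) [ρ.IsIrreducible] [σ.IsIrreducible] :
    (Nonempty (Representation.Equiv σ ρ) → Cfsg.classInner ρ.character σ.character = 1) ∧
    (¬ Nonempty (Representation.Equiv σ ρ) → Cfsg.classInner ρ.character σ.character = 0) := by
  classical
  have hne : (Nat.card G : ℂ) ≠ 0 := by
    exact_mod_cast Nat.card_pos.ne'
  haveI : Invertible (Nat.card G : ℂ) := invertibleOfNonzero hne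
  have key : Cfsg.classInner ρ.character σ.character =
      if Nonempty (Representation.Equiv σ ρ) then 1 else 0 := by
    have := Representation.char_orthonormal ρ σ
    simp only [Cfsg.classInner]
    rw [← this]
    congr 1
    refine Finset.sum_congr rfl fun g _ => ?_
    rw [char_inv]
  constructor
  · intro h; rw [key, if_pos h]
  · intro h; rw [key, if_neg h]

theorem irr_classInner {G : Type*} [Group G] [Fintype G] (χ ψ : Cfsg.IrrCharacter G) :
    Cfsg.classInner (χ : G → ℂ) (ψ : G → ℂ) = if χ = ψ then 1 else 0 := by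
  classical
  obtain ⟨n, ρ, hρ, hχ⟩ := χ.2
  obtain ⟨m, σ, hσ, hψ⟩ := ψ.2
  haveI := hρ
  haveI := hσ
  by_cases h : χ = ψ
  · rw [if_pos h]
    have h1 := (classInner_rep ρ ρ).1 ⟨Representation.Equiv.refl ρ⟩
    rw [← h, ← hχ]
    exact h1
  · rw [if_neg h, ← hχ, ← hψ]
    apply (classInner_rep ρ σ).2
    rintro ⟨e⟩
    apply h
    apply Subtype.ext
    rw [← hχ, ← hψ]
    exact (Representation.char_iso e).symm


open scoped ComplexConjugate

theorem classInner_add_left {G : Type*} [Group G] [Fintype G] (f g h : G → ℂ) :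
    Cfsg.classInner (f + g) h = Cfsg.classInner f h + Cfsg.classInner g h := by
  simp only [Cfsg.classInner, Pi.add_apply, add_mul, Finset.sum_add_distrib, mul_add]

theorem classInner_smul_left {G : Type*} [Group G] [Fintype G] (c : ℂ) (f h : G → ℂ) :
    Cfsg.classInner (c • f) h = c * Cfsg.classInner f h := by
  simp only [Cfsg.classInner, Pi.smul_apply, smul_eq_mul, Finset.mul_sum]
  refine Finset.sum_congr rfl fun x _ => ?_
  ring

theorem classInner_zero_left {G : Type*} [Group G] [Fintype G] (h : G → ℂ) :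
    Cfsg.classInner (0 : G → ℂ) h = 0 := by
  simp [Cfsg.classInner]

theorem classInner_sum_left {G : Type*} [Group G] [Fintype G] {ι : Type*} (s : Finset ι)
    (f : ι → G → ℂ) (h : G → ℂ) :
    Cfsg.classInner (∑ i ∈ s, f i) h = ∑ i ∈ s, Cfsg.classInner (f i) h := by
  classical
  induction s using Finset.induction_on with
  | empty => simp [classInner_zero_left]
  | insert a s ha ih => rw [Finset.sum_insert ha, Finset.sum_insert ha, classInner_add_left, ih]

theorem irr_linearIndependent (G : Type*) [Group G] [Finite G] :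
    LinearIndependent ℂ (fun χ : Cfsg.IrrCharacter G => (χ : G → ℂ)) := by
  classical
  haveI := Fintype.ofFinite G
  rw [linearIndependent_iff']
  intro s c hc i hi
  have h1 : Cfsg.classInner (∑ j ∈ s, c j • (j : G → ℂ)) (i : G → ℂ) = 0 := by
    rw [hc, classInner_zero_left]
  rw [classInner_sum_left] at h1
  simp only [classInner_smul_left, irr_classInner] at h1
  rw [Finset.sum_eq_single i] at h1
  · simpa using h1
  · intro j _ hji
    simp [hji]
  · intro h; exact absurd hi h

instance irr_finite (G : Type*) [Group G] [Finite G] : Finite (Cfsg.IrrCharacter G) :=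
  (irr_linearIndependent G).finite


open scoped ComplexConjugate

theorem commuting_end_scalar {G : Type*} [Group G] {V : Type*} [AddCommGroup V] [Module ℂ V]
    [FiniteDimensional ℂ V] (ρ : Representation ℂ G V) [ρ.IsIrreducible] (T : V →ₗ[ℂ] V)
    (hT : ∀ g : G, T ∘ₗ ρ g = ρ g ∘ₗ T) : ∃ c : ℂ, T = c • LinearMap.id := by
  let T' : Representation.IntertwiningMap ρ ρ := ⟨T, hT⟩
  obtain ⟨c, hc⟩ :=
    (Representation.IsIrreducible.algebraMap_intertwiningMap_bijective_of_isAlgClosed (ρ := ρ)).2 T'
  refine ⟨c, ?_⟩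
  have : T'.toLinearMap = (c • (1 : Representation.IntertwiningMap ρ ρ)).toLinearMap := by
    rw [← hc]; rfl
  exact this

theorem finrank_ne_zero_of_irr {G : Type*} [Group G] {V : Type*} [AddCommGroup V] [Module ℂ V]
    [FiniteDimensional ℂ V] (ρ : Representation ℂ G V) [ρ.IsIrreducible] :
    Module.finrank ℂ V ≠ 0 := by
  haveI : IsSimpleModule (MonoidAlgebra ℂ G) ρ.asModule := inferInstance
  haveI : Nontrivial ρ.asModule := IsSimpleModule.nontrivial (MonoidAlgebra ℂ G) ρ.asModule
  haveI : Nontrivial V := ‹Nontrivial ρ.asModule›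
  exact Module.finrank_pos.ne'

theorem sum_conj_rep {G : Type*} [Group G] [Fintype G] {V : Type*} [AddCommGroup V] [Module ℂ V]
    [FiniteDimensional ℂ V] (ρ : Representation ℂ G V) [ρ.IsIrreducible] (g : G) :
    ∑ y : G, ρ (y * g * y⁻¹) =
      ((Nat.card G : ℂ) * ρ.character g / ρ.character 1) • (LinearMap.id : V →ₗ[ℂ] V) := by
  classical
  set T : V →ₗ[ℂ] V := ∑ y : G, ρ (y * g * y⁻¹) with hT
  have hcomm : ∀ h : G, T ∘ₗ ρ h = ρ h ∘ₗ T := by
    intro h
    rw [← Module.End.mul_eq_comp, ← Module.End.mul_eq_comp, hT, Finset.sum_mul, Finset.mul_sum]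
    refine Fintype.sum_bijective (fun y => h⁻¹ * y) (Group.mulLeft_bijective h⁻¹) _ _ fun y ↦ ?_
    rw [← map_mul, ← map_mul]
    congr 1
    group
  obtain ⟨c, hc⟩ := commuting_end_scalar ρ T hcomm
  have htr : LinearMap.trace ℂ V T = (Nat.card G : ℂ) * ρ.character g := by
    rw [hT, map_sum]
    have : ∀ y : G, LinearMap.trace ℂ V (ρ (y * g * y⁻¹)) = ρ.character g := by
      intro y
      exact Representation.char_conj ρ g y
    simp only [this, Finset.sum_const, Finset.card_univ, nsmul_eq_mul, Nat.card_eq_fintype_card]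
  have htr2 : LinearMap.trace ℂ V T = c * ρ.character 1 := by
    rw [hc, map_smul, LinearMap.trace_id, Representation.char_one, smul_eq_mul]
  have h1 : ρ.character 1 ≠ 0 := by
    rw [Representation.char_one]
    exact_mod_cast finrank_ne_zero_of_irr ρ
  rw [hc]
  congr 1
  rw [eq_div_iff h1, ← htr2, htr]




def subrepOrderIso {G : Type*} [Monoid G] {V W : Type*} [AddCommGroup V] [Module ℂ V]
    [AddCommGroup W] [Module ℂ W] (ρ : Representation ℂ G V) (σ : Representation ℂ G W)
    (e : V ≃ₗ[ℂ] W) (h : ∀ g v, e (ρ g v) = σ g (e v)) :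
    Subrepresentation ρ ≃o Subrepresentation σ where
  toFun S := ⟨S.toSubmodule.map (e : V →ₗ[ℂ] W), by
    rintro g _ ⟨v, hv, rfl⟩
    exact ⟨ρ g v, S.apply_mem_toSubmodule g hv, h g v⟩⟩
  invFun T := ⟨T.toSubmodule.comap (e : V →ₗ[ℂ] W), by
    intro g v hv
    simp only [Submodule.mem_comap, LinearEquiv.coe_coe] at hv ⊢
    rw [h]
    exact T.apply_mem_toSubmodule g hv⟩
  left_inv S := by
    apply Subrepresentation.toSubmodule_injective
    simp only
    exact Submodule.comap_map_eq_of_injective e.injective _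
  right_inv T := by
    apply Subrepresentation.toSubmodule_injective
    simp only
    exact Submodule.map_comap_eq_of_surjective e.surjective _
  map_rel_iff' := by
    intro S T
    change S.toSubmodule.map (e : V →ₗ[ℂ] W) ≤ T.toSubmodule.map (e : V →ₗ[ℂ] W) ↔ S.toSubmodule ≤ T.toSubmodule
    exact Submodule.map_le_map_iff_of_injective e.injective _ _

theorem isIrreducible_of_equiv {G : Type*} [Monoid G] {V W : Type*} [AddCommGroup V] [Module ℂ V]
    [AddCommGroup W] [Module ℂ W] (ρ : Representation ℂ G V) (σ : Representation ℂ G W)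
    (e : V ≃ₗ[ℂ] W) (h : ∀ g v, e (ρ g v) = σ g (e v)) [hρ : ρ.IsIrreducible] : σ.IsIrreducible :=
  (subrepOrderIso ρ σ e h).isSimpleOrder_iff.mp hρ

theorem isIrrCharacter_of_irreducible {G : Type*} [Group G] {V : Type*} [AddCommGroup V]
    [Module ℂ V] [FiniteDimensional ℂ V] (ρ : Representation ℂ G V) [ρ.IsIrreducible] :
    Cfsg.IsIrrCharacter G ρ.character := by
  let e : V ≃ₗ[ℂ] (Fin (Module.finrank ℂ V) → ℂ) := (Module.finBasis ℂ V).equivFun
  let σ : Representation ℂ G (Fin (Module.finrank ℂ V) → ℂ) :=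
    ((e.conjAlgEquiv ℂ : Module.End ℂ V ≃ₐ[ℂ] _) : Module.End ℂ V →* _).comp ρ
  have hσ : ∀ g v, e (ρ g v) = σ g (e v) := by
    intro g v
    simp [σ, LinearEquiv.conjAlgEquiv_apply, LinearEquiv.conj_apply]
  refine ⟨Module.finrank ℂ V, σ, isIrreducible_of_equiv ρ σ e hσ, ?_⟩
  funext g
  simp only [Representation.character]
  have : σ g = e.conj (ρ g) := rfl
  rw [this, LinearMap.trace_conj']




attribute [local instance] RestrictScalars.moduleOrig in
theorem fd_restrict {G : Type*} [Group G] [Finite G]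
    (S : Submodule (MonoidAlgebra ℂ G) (MonoidAlgebra ℂ G)) :
    Module.Finite ℂ (RestrictScalars ℂ (MonoidAlgebra ℂ G) S) := by
  haveI : Module.Finite (MonoidAlgebra ℂ G) (RestrictScalars ℂ (MonoidAlgebra ℂ G) S) :=
    inferInstanceAs (Module.Finite (MonoidAlgebra ℂ G) S)
  exact Module.Finite.trans (MonoidAlgebra ℂ G) _

set_option backward.isDefEq.respectTransparency false in
theorem eq_zero_of_orthogonal_irr {G : Type*} [Group G] [Fintype G] (f : G → ℂ)
    (hf : ∀ g h : G, f (h * g * h⁻¹) = f g)
    (horth : ∀ χ : Cfsg.IrrCharacter G, ∑ g, f g * (χ : G → ℂ) g = 0) : f = 0 := by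
  classical
  set z : MonoidAlgebra ℂ G := ∑ g, f g • MonoidAlgebra.of ℂ G g with hz
  have hz_of : ∀ h : G, MonoidAlgebra.of ℂ G h * z = z * MonoidAlgebra.of ℂ G h := by
    intro h
    rw [hz, Finset.mul_sum, Finset.sum_mul]
    refine Fintype.sum_bijective (fun g => h * g * h⁻¹) (MulAut.conj h).bijective _ _ fun g ↦ ?_
    rw [hf, mul_smul_comm, smul_mul_assoc, ← map_mul, ← map_mul]
    congr 2
    group
  have hzc : ∀ a : MonoidAlgebra ℂ G, a * z = z * a := by
    intro a
    induction a using MonoidAlgebra.induction_on with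
    | of g => exact hz_of g
    | add a b ha hb => rw [add_mul, mul_add, ha, hb]
    | smul r a ha => rw [smul_mul_assoc, mul_smul_comm, ha]
  have key : ∀ S : Submodule (MonoidAlgebra ℂ G) (MonoidAlgebra ℂ G),
      IsSimpleModule (MonoidAlgebra ℂ G) S → ∀ s ∈ S, z * s = 0 := by
    intro S hS s hs
    let ρ := Representation.ofModule (k := ℂ) (G := G) S
    haveI : ρ.IsIrreducible := (Representation.isSimpleModule_iff_irreducible_ofModule S).mp hS
    haveI : Module.Finite ℂ (RestrictScalars ℂ (MonoidAlgebra ℂ G) S) := fd_restrict S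
    set T := ρ.asAlgebraHom z with hT
    have hTsum : T = ∑ g, f g • ρ g := by
      rw [hT, hz, map_sum]
      refine Finset.sum_congr rfl fun g _ => ?_
      rw [map_smul, Representation.asAlgebraHom_of]
    have hTcomm : ∀ h : G, T ∘ₗ ρ h = ρ h ∘ₗ T := by
      intro h
      rw [← Module.End.mul_eq_comp, ← Module.End.mul_eq_comp, hT,
        ← Representation.asAlgebraHom_of ρ h, ← map_mul, ← map_mul, hz_of]
    obtain ⟨c, hc⟩ := commuting_end_scalar ρ T hTcomm
    have htr : LinearMap.trace ℂ _ T = 0 := by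
      rw [hTsum, map_sum]
      have := horth ⟨ρ.character, isIrrCharacter_of_irreducible ρ⟩
      simp only [map_smul, smul_eq_mul]
      exact this
    have hc0 : c = 0 := by
      rw [hc, map_smul, LinearMap.trace_id, smul_eq_mul] at htr
      rcases mul_eq_zero.mp htr with h | h
      · exact h
      · exact absurd (by exact_mod_cast h) (finrank_ne_zero_of_irr ρ)
    have hT0 : T = 0 := by rw [hc, hc0, zero_smul]
    have h1 := Representation.ofModule_asAlgebraHom_apply_apply (k := ℂ) (G := G) S z
      ((RestrictScalars.addEquiv ℂ (MonoidAlgebra ℂ G) S).symm ⟨s, hs⟩)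
    rw [← hT, hT0, LinearMap.zero_apply, AddEquiv.apply_symm_apply] at h1
    have h2 : z • (⟨s, hs⟩ : S) = 0 := by
      have := congrArg (RestrictScalars.addEquiv ℂ (MonoidAlgebra ℂ G) S) h1
      rw [AddEquiv.apply_symm_apply, map_zero] at this
      exact this.symm
    have h3 := congrArg (Subtype.val) h2
    simpa using h3
  let N : Submodule (MonoidAlgebra ℂ G) (MonoidAlgebra ℂ G) :=
    { carrier := {m | z * m = 0}
      add_mem' := by
        intro a b ha hb
        simp only [Set.mem_setOf_eq] at *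
        rw [mul_add, ha, hb, add_zero]
      zero_mem' := by simp
      smul_mem' := by
        intro a m hm
        simp only [Set.mem_setOf_eq, smul_eq_mul] at *
        rw [← mul_assoc, ← hzc, mul_assoc, hm, mul_zero] }
  haveI : NeZero (Nat.card G : ℂ) := ⟨by exact_mod_cast Nat.card_pos.ne'⟩
  have htop : (⊤ : Submodule (MonoidAlgebra ℂ G) (MonoidAlgebra ℂ G)) ≤ N := by
    rw [← IsSemisimpleModule.sSup_simples_eq_top]
    apply sSup_le
    intro S hS s hs
    exact key S hS s hs
  have hz0 : z = 0 := by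
    have : (1 : MonoidAlgebra ℂ G) ∈ N := htop trivial
    simpa [N] using this
  funext g
  have := congrArg (fun a : MonoidAlgebra ℂ G => a.coeff g) hz0
  simp only [hz, MonoidAlgebra.coeff_sum, MonoidAlgebra.coeff_smul, MonoidAlgebra.of_apply,
    MonoidAlgebra.coeff_single, Finsupp.coe_finset_sum, Finsupp.coe_smul, Finset.sum_apply,
    Pi.smul_apply, smul_eq_mul, MonoidAlgebra.coeff_zero, Finsupp.coe_zero, Pi.zero_apply] at this
  rw [Finset.sum_eq_single g] at this
  · simpa using this
  · intro h _ hne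
    simp [Finsupp.single_apply, hne]
  · intro h; exact absurd (Finset.mem_univ g) h


end Cfsg.Agent.Lib.Helper25
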