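import Mathlib
import Cfsg.Prelude.Def_Characters
import Cfsg.Agent.Lib.Helper25.CharBasic

set_option autoImplicit false
set_option linter.style.haveILetI false
set_option linter.unusedSimpArgs false
set_option linter.deprecated false

namespace Cfsg.Agent.Lib.Helper25
open scoped ComplexConjugate

theorem irr_conj_invariant {G : Type*} [Group G] (χ : Cfsg.IrrCharacter G) (g h : G) :
    (χ : G → ℂ) (h * g * h⁻¹) = (χ : G → ℂ) g := by
  obtain ⟨n, ρ, hρ, hχ⟩ := χ.2
  rw [← hχ]
  exact Representation.char_conj ρ g h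

theorem irr_inv {G : Type*} [Group G] [Finite G] (χ : Cfsg.IrrCharacter G) (g : G) :
    (χ : G → ℂ) g⁻¹ = conj ((χ : G → ℂ) g) := by
  obtain ⟨n, ρ, hρ, hχ⟩ := χ.2
  rw [← hχ]
  exact char_inv ρ g

theorem irr_one_eq_finrank {G : Type*} [Group G] (χ : Cfsg.IrrCharacter G) :
    ∃ n : ℕ, 0 < n ∧ (χ : G → ℂ) 1 = (n : ℂ) := by
  obtain ⟨n, ρ, hρ, hχ⟩ := χ.2
  haveI := hρ
  refine ⟨Module.finrank ℂ (Fin n → ℂ), Nat.pos_of_ne_zero (finrank_ne_zero_of_irr ρ), ?_⟩
  rw [← hχ, Representation.char_one]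

theorem irr_one_ne_zero {G : Type*} [Group G] (χ : Cfsg.IrrCharacter G) :
    (χ : G → ℂ) 1 ≠ 0 := by
  obtain ⟨n, hn, h⟩ := irr_one_eq_finrank χ
  rw [h]
  exact_mod_cast hn.ne'

theorem classInner_sub_left {G : Type*} [Group G] [Fintype G] (f g h : G → ℂ) :
    Cfsg.classInner (f - g) h = Cfsg.classInner f h - Cfsg.classInner g h := by
  simp only [Cfsg.classInner, Pi.sub_apply, sub_mul, Finset.sum_sub_distrib, mul_sub]

theorem classFunction_expansion {G : Type*} [Group G] [Fintype G] [Fintype (Cfsg.IrrCharacter G)]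
    (f : G → ℂ) (hf : ∀ g h : G, f (h * g * h⁻¹) = f g) :
    f = ∑ χ : Cfsg.IrrCharacter G, Cfsg.classInner f (χ : G → ℂ) • (χ : G → ℂ) := by
  classical
  set F : G → ℂ := f - ∑ χ : Cfsg.IrrCharacter G, Cfsg.classInner f (χ : G → ℂ) • (χ : G → ℂ)
    with hF
  have hne : (Nat.card G : ℂ) ≠ 0 := by exact_mod_cast Nat.card_pos.ne'
  have hFclass : ∀ g h : G, F (h * g * h⁻¹) = F g := by
    intro g h
    simp only [hF, Pi.sub_apply, Finset.sum_apply, Pi.smul_apply, smul_eq_mul, hf,
      irr_conj_invariant]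
  have hFin : ∀ ψ : Cfsg.IrrCharacter G, Cfsg.classInner F (ψ : G → ℂ) = 0 := by
    intro ψ
    rw [hF, classInner_sub_left, classInner_sum_left]
    simp only [classInner_smul_left, irr_classInner]
    rw [Finset.sum_eq_single ψ]
    · simp
    · intro χ _ hχ; simp [hχ]
    · intro h; exact absurd (Finset.mem_univ ψ) h
  have hF0 : (fun g => conj (F g)) = 0 := by
    apply eq_zero_of_orthogonal_irr
    · intro g h
      simp only [hFclass]
    · intro ψ
      have := hFin ψ
      simp only [Cfsg.classInner] at this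
      rcases mul_eq_zero.mp this with h | h
      · exact absurd (inv_eq_zero.mp h) hne
      · have h2 := congrArg conj h
        rw [map_sum, map_zero] at h2
        rw [← h2]
        refine Finset.sum_congr rfl fun g _ => ?_
        rw [map_mul, Complex.conj_conj]
  have hF1 : F = 0 := by
    funext g
    have := congrFun hF0 g
    simpa using this
  rw [hF, sub_eq_zero] at hF1
  exact hF1

end Cfsg.Agent.Lib.Helper25

namespace Cfsg.Agent.Lib.Helper25
open scoped ComplexConjugate

theorem card_conj_mul_card_centralizer {G : Type*} [Group G] [Finite G] (h : G) :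
    Nat.card {x : G // IsConj h x} * Nat.card (Subgroup.centralizer ({h} : Set G)) = Nat.card G := by
  classical
  haveI := Fintype.ofFinite G
  have h1 := MulAction.card_orbit_mul_card_stabilizer_eq_card_group (ConjAct G) h
  rw [Subgroup.nat_card_centralizer_nat_card_stabilizer]
  have h2 : Nat.card {x : G // IsConj h x} = Fintype.card (MulAction.orbit (ConjAct G) h) := by
    rw [← Nat.card_eq_fintype_card]
    apply Nat.card_congr
    apply Equiv.subtypeEquivRight
    intro x
    rw [ConjAct.mem_orbit_conjAct]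
    exact isConj_comm
  rw [h2, Nat.card_eq_fintype_card, h1, Nat.card_eq_fintype_card]
  rfl

theorem irr_isConj_eq {G : Type*} [Group G] (χ : Cfsg.IrrCharacter G) {g h : G} (hc : IsConj g h) :
    (χ : G → ℂ) g = (χ : G → ℂ) h := by
  obtain ⟨c, hc⟩ := isConj_iff.mp hc
  rw [← hc, irr_conj_invariant]

theorem irr_column_orthogonality {G : Type*} [Group G] [Fintype G] [Fintype (Cfsg.IrrCharacter G)]
    [DecidableRel (IsConj : G → G → Prop)] (g h : G) :
    ∑ χ : Cfsg.IrrCharacter G, (χ : G → ℂ) g * conj ((χ : G → ℂ) h) =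
      if IsConj h g then (Nat.card (Subgroup.centralizer ({h} : Set G)) : ℂ) else 0 := by
  classical
  set f : G → ℂ := fun x => if IsConj h x then 1 else 0 with hf
  have hfclass : ∀ x y : G, f (y * x * y⁻¹) = f x := by
    intro x y
    simp only [hf]
    have : IsConj h (y * x * y⁻¹) ↔ IsConj h x := by
      constructor
      · intro hh
        exact hh.trans (isConj_iff.mpr ⟨y⁻¹, by group⟩)
      · intro hh
        exact hh.trans (isConj_iff.mpr ⟨y, rfl⟩)
    simp only [this]
  have hne : (Nat.card G : ℂ) ≠ 0 := by exact_mod_cast Nat.card_pos.ne'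
  have hcne : (Nat.card (Subgroup.centralizer ({h} : Set G)) : ℂ) ≠ 0 := by
    exact_mod_cast Nat.card_pos.ne'
  have hinner : ∀ χ : Cfsg.IrrCharacter G, Cfsg.classInner f (χ : G → ℂ) =
      conj ((χ : G → ℂ) h) / (Nat.card (Subgroup.centralizer ({h} : Set G)) : ℂ) := by
    intro χ
    simp only [Cfsg.classInner, hf]
    have h1 : ∑ x : G, (if IsConj h x then (1 : ℂ) else 0) * conj ((χ : G → ℂ) x) =
        (Nat.card {x : G // IsConj h x} : ℂ) * conj ((χ : G → ℂ) h) := by
      have : ∀ x : G, (if IsConj h x then (1 : ℂ) else 0) * conj ((χ : G → ℂ) x) =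
          if IsConj h x then conj ((χ : G → ℂ) h) else 0 := by
        intro x
        split_ifs with hx
        · rw [one_mul, irr_isConj_eq χ hx]
        · rw [zero_mul]
      simp only [this]
      rw [← Finset.sum_filter, Finset.sum_const, nsmul_eq_mul]
      congr 2
      rw [Nat.card_eq_fintype_card, Fintype.card_subtype]
    rw [h1]
    have h2 := card_conj_mul_card_centralizer h
    have h3 : (Nat.card G : ℂ) = (Nat.card {x : G // IsConj h x} : ℂ) *
        (Nat.card (Subgroup.centralizer ({h} : Set G)) : ℂ) := by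
      rw [← h2]; push_cast; ring
    rw [h3]
    have hcl : (Nat.card {x : G // IsConj h x} : ℂ) ≠ 0 := by
      intro h0
      rw [h0, zero_mul] at h3
      exact hne h3
    field_simp
  have hexp := congrFun (classFunction_expansion f hfclass) g
  simp only [hinner, Finset.sum_apply, Pi.smul_apply, smul_eq_mul] at hexp
  have : ∑ χ : Cfsg.IrrCharacter G, (χ : G → ℂ) g * conj ((χ : G → ℂ) h) =
      (Nat.card (Subgroup.centralizer ({h} : Set G)) : ℂ) * f g := by
    rw [hexp, Finset.mul_sum]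
    refine Finset.sum_congr rfl fun χ _ => ?_
    field_simp
  rw [this, hf]
  simp only
  split_ifs <;> simp

end Cfsg.Agent.Lib.Helper25


namespace Cfsg.Agent.Lib.Helper25
open scoped ComplexConjugate

/-- Σ_y χ(y g y⁻¹ h) = |G| χ(g) χ(h) / χ(1). -/
theorem irr_sum_conj_mul {G : Type*} [Group G] [Fintype G] (χ : Cfsg.IrrCharacter G) (g h : G) :
    ∑ y : G, (χ : G → ℂ) (y * g * y⁻¹ * h) =
      (Nat.card G : ℂ) * (χ : G → ℂ) g * (χ : G → ℂ) h / (χ : G → ℂ) 1 := by
  obtain ⟨n, ρ, hρ, hχ⟩ := χ.2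
  haveI := hρ
  rw [← hχ]
  have h1 := sum_conj_rep ρ g
  have h2 : ∑ y : G, ρ.character (y * g * y⁻¹ * h) =
      LinearMap.trace ℂ _ ((∑ y : G, ρ (y * g * y⁻¹)) * ρ h) := by
    rw [Finset.sum_mul, map_sum]
    refine Finset.sum_congr rfl fun y _ => ?_
    rw [← map_mul]
    rfl
  rw [h2, h1, smul_mul_assoc, map_smul, smul_eq_mul]
  have : (LinearMap.id : (Fin n → ℂ) →ₗ[ℂ] (Fin n → ℂ)) * ρ h = ρ h := by
    rw [Module.End.mul_eq_comp, LinearMap.id_comp]
  rw [this]
  change _ * ρ.character h = _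
  ring

/-- Σ_{a,b} χ(a x a⁻¹ b y b⁻¹) = |G|² χ(x) χ(y) / χ(1). -/
theorem irr_sum_conj_conj {G : Type*} [Group G] [Fintype G] (χ : Cfsg.IrrCharacter G) (x y : G) :
    ∑ a : G, ∑ b : G, (χ : G → ℂ) (a * x * a⁻¹ * (b * y * b⁻¹)) =
      (Nat.card G : ℂ) ^ 2 * (χ : G → ℂ) x * (χ : G → ℂ) y / (χ : G → ℂ) 1 := by
  have h1 : ∀ b : G, ∑ a : G, (χ : G → ℂ) (a * x * a⁻¹ * (b * y * b⁻¹)) =
      (Nat.card G : ℂ) * (χ : G → ℂ) x * (χ : G → ℂ) y / (χ : G → ℂ) 1 := by
    intro b
    rw [irr_sum_conj_mul, irr_conj_invariant]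
  rw [Finset.sum_comm]
  simp only [h1, Finset.sum_const, Finset.card_univ, nsmul_eq_mul, Nat.card_eq_fintype_card]
  ring

end Cfsg.Agent.Lib.Helper25

namespace Cfsg.Agent.Lib.Helper25
open scoped ComplexConjugate

theorem isConj_of_irr_eq {G : Type*} [Group G] [Finite G] (g h : G)
    (hh : ∀ χ : Cfsg.IrrCharacter G, (χ : G → ℂ) g = (χ : G → ℂ) h) : IsConj h g := by
  classical
  haveI := Fintype.ofFinite G
  haveI := Fintype.ofFinite (Cfsg.IrrCharacter G)
  have h1 := irr_column_orthogonality g h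
  have h2 := irr_column_orthogonality h h
  simp only [hh] at h1
  rw [h1, if_pos (IsConj.refl h)] at h2
  by_contra hcon
  rw [if_neg hcon] at h2
  have hcne : (Nat.card (Subgroup.centralizer ({h} : Set G)) : ℂ) ≠ 0 := by
    exact_mod_cast Nat.card_pos.ne'
  exact hcne h2.symm

end Cfsg.Agent.Lib.Helper25
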