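import Mathlib
import Cfsg.Prelude.Def_Characters
import Cfsg.Agent.Lib.Helper25.CharOrth

set_option autoImplicit false
set_option linter.style.haveILetI false
set_option linter.unusedSimpArgs false
set_option linter.deprecated false

namespace Cfsg.Agent.Lib.Helper25
open scoped ComplexConjugate

theorem isIrreducible_of_finrank_eq_one {G : Type*} [Monoid G] {V : Type*} [AddCommGroup V]
    [Module ℂ V] [FiniteDimensional ℂ V] (ρ : Representation ℂ G V)
    (h : Module.finrank ℂ V = 1) : ρ.IsIrreducible := by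
  haveI : Nontrivial V := Module.nontrivial_of_finrank_pos (R := ℂ) (by omega)
  haveI : Nontrivial (Subrepresentation ρ) := by
    refine ⟨⟨⊥, ⊤, ?_⟩⟩
    intro hbt
    have := congrArg Subrepresentation.toSubmodule hbt
    exact bot_ne_top this
  refine ⟨fun S => ?_⟩
  have hS : Module.finrank ℂ S.toSubmodule ≤ 1 := h ▸ Submodule.finrank_le _
  rcases Nat.le_one_iff_eq_zero_or_eq_one.mp hS with h0 | h1
  · left
    apply Subrepresentation.toSubmodule_injective
    exact Submodule.finrank_eq_zero.mp h0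
  · right
    apply Subrepresentation.toSubmodule_injective
    exact Submodule.eq_top_of_finrank_eq (by rw [h1, h])

/-- The trivial character as an irreducible character. -/
noncomputable def trivIrr (G : Type*) [Group G] : Cfsg.IrrCharacter G :=
  ⟨fun _ => 1, 1, Representation.trivial ℂ G (Fin 1 → ℂ),
    isIrreducible_of_finrank_eq_one _ (by simp), by
      funext g
      simp [Representation.character]⟩

@[simp] theorem trivIrr_apply (G : Type*) [Group G] (g : G) : (trivIrr G : G → ℂ) g = 1 := rfl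

theorem end_eq_trace_smul_of_finrank_one {V : Type*} [AddCommGroup V] [Module ℂ V]
    [FiniteDimensional ℂ V] (h : Module.finrank ℂ V = 1) (f : V →ₗ[ℂ] V) :
    f = LinearMap.trace ℂ V f • LinearMap.id := by
  obtain ⟨v, hv⟩ := finrank_eq_one_iff'.mp h
  obtain ⟨c, hc⟩ := hv.2 (f v)
  have hf : f = c • LinearMap.id := by
    apply LinearMap.ext
    intro w
    obtain ⟨d, hd⟩ := hv.2 w
    rw [← hd, map_smul, ← hc, LinearMap.smul_apply, LinearMap.id_apply, smul_comm]
  have htr : LinearMap.trace ℂ V f = c := by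
    rw [hf, map_smul, LinearMap.trace_id, h]; simp
  rw [htr]; exact hf

theorem irr_linear_mul {G : Type*} [Group G] (χ : Cfsg.IrrCharacter G)
    (h1 : (χ : G → ℂ) 1 = 1) (g h : G) :
    (χ : G → ℂ) (g * h) = (χ : G → ℂ) g * (χ : G → ℂ) h := by
  obtain ⟨n, ρ, hρ, hχ⟩ := χ.2
  rw [← hχ] at h1 ⊢
  rw [Representation.char_one] at h1
  have hfr : Module.finrank ℂ (Fin n → ℂ) = 1 := by exact_mod_cast h1
  simp only [Representation.character]
  rw [map_mul, end_eq_trace_smul_of_finrank_one hfr (ρ g), end_eq_trace_smul_of_finrank_one hfr (ρ h)]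
  simp only [smul_mul_smul_comm, map_smul, smul_eq_mul]
  have : (LinearMap.id : (Fin n → ℂ) →ₗ[ℂ] (Fin n → ℂ)) * LinearMap.id = LinearMap.id := by
    rw [Module.End.mul_eq_comp, LinearMap.id_comp]
  rw [this, LinearMap.trace_id, hfr]
  simp

/-- A linear character as a monoid hom to `ℂˣ`. -/
noncomputable def irrLinearHom {G : Type*} [Group G] (χ : Cfsg.IrrCharacter G)
    (h1 : (χ : G → ℂ) 1 = 1) : G →* ℂˣ :=
  MonoidHom.toHomUnits
    { toFun := (χ : G → ℂ)
      map_one' := h1
      map_mul' := irr_linear_mul χ h1 }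

theorem irrLinearHom_apply {G : Type*} [Group G] (χ : Cfsg.IrrCharacter G)
    (h1 : (χ : G → ℂ) 1 = 1) (g : G) : ((irrLinearHom χ h1 g : ℂˣ) : ℂ) = (χ : G → ℂ) g := rfl

theorem irr_linear_commutator {G : Type*} [Group G] (χ : Cfsg.IrrCharacter G)
    (h1 : (χ : G → ℂ) 1 = 1) {w : G} (hw : w ∈ commutator G) : (χ : G → ℂ) w = 1 := by
  have : w ∈ (irrLinearHom χ h1).ker := Abelianization.commutator_subset_ker _ hw
  rw [MonoidHom.mem_ker] at this
  rw [← irrLinearHom_apply χ h1, this]
  rfl

theorem irr_linear_mul_commutator {G : Type*} [Group G] (χ : Cfsg.IrrCharacter G)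
    (h1 : (χ : G → ℂ) 1 = 1) (g : G) {w : G} (hw : w ∈ commutator G) :
    (χ : G → ℂ) (g * w) = (χ : G → ℂ) g := by
  rw [irr_linear_mul χ h1, irr_linear_commutator χ h1 hw, mul_one]

theorem irr_linear_mul_conj {G : Type*} [Group G] [Finite G] (χ : Cfsg.IrrCharacter G)
    (h1 : (χ : G → ℂ) 1 = 1) (g : G) : (χ : G → ℂ) g * conj ((χ : G → ℂ) g) = 1 := by
  rw [← irr_inv, ← irr_linear_mul χ h1, mul_inv_cancel, h1]

end Cfsg.Agent.Lib.Helper25
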