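import Mathlib
import Cfsg.Agent.Lib.Lead.BCG.Defs

set_option autoImplicit false

/-!
# BCG row X4 (`gl_same`), helper25.
-/

namespace Cfsg.Agent.Lib.Lead.BCG

open Polynomial Module Matrix Cfsg.Agent.Lib.Helper13.S5955 Cfsg.Agent.Lib.helper15.S5972
  Cfsg.Agent.Lib.Helper18.ONE Cfsg.Agent.Lib.Lead.BCS

/-- `toLin'` commutes with powers. -/
theorem bcgx4_toLin_pow {F : Type*} [Field F] {ι : Type} [Fintype ι] [DecidableEq ι]
    (M : Matrix ι ι F) (k : ℕ) : (Matrix.toLin' M) ^ k = Matrix.toLin' (M ^ k) := by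
  induction k with
  | zero => simp [Matrix.toLin'_one]; rfl
  | succ k ih => rw [pow_succ, pow_succ, ih, Matrix.toLin'_mul]; rfl

/-- X4 [S]: the same for `GL`. -/
theorem gl_same {F : Type*} [Field F] {ι : Type} [Fintype ι] [DecidableEq ι] (X : GL ι F)
    (k : ℕ) : X ^ k = 1 ↔ (Matrix.toLin' (X : Matrix ι ι F)) ^ k = 1 := by
  rw [bcgx4_toLin_pow]
  constructor
  · intro h
    rw [← Units.val_pow_eq_pow_val, h]
    simp [Matrix.toLin'_one]
    rfl
  · intro h
    have h1 : ((X ^ k : GL ι F) : Matrix ι ι F) = 1 := by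
      rw [Units.val_pow_eq_pow_val]
      apply Matrix.toLin'.injective
      rw [h, Matrix.toLin'_one]
      rfl
    exact Units.ext h1

end Cfsg.Agent.Lib.Lead.BCG
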