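import Mathlib
import Cfsg.Prelude.Def_Characters
import Cfsg.Agent.Lib.Helper25.CharLinear

set_option autoImplicit false
set_option linter.style.haveILetI false
set_option linter.unusedSimpArgs false
set_option linter.deprecated false

namespace Cfsg.Agent.Lib.Helper25
open scoped ComplexConjugate

theorem sum_normal_rep {G : Type*} [Group G] {V : Type*} [AddCommGroup V] [Module ℂ V]
    [FiniteDimensional ℂ V] (ρ : Representation ℂ G V) [ρ.IsIrreducible] (N : Subgroup G)
    [N.Normal] [Fintype N] (hN : ∃ n ∈ N, ρ n ≠ 1) : ∑ n : N, ρ (n : G) = 0 := by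
  classical
  set P : V →ₗ[ℂ] V := ∑ n : N, ρ (n : G) with hP
  have hcomm : ∀ g : G, P ∘ₗ ρ g = ρ g ∘ₗ P := by
    intro g
    rw [← Module.End.mul_eq_comp, ← Module.End.mul_eq_comp, hP, Finset.sum_mul, Finset.mul_sum]
    refine Fintype.sum_bijective (MulAut.conjNormal g⁻¹ : N ≃* N) (MulAut.conjNormal g⁻¹ : N ≃* N).bijective _ _ fun n ↦ ?_
    rw [← map_mul, ← map_mul]
    congr 1
    simp only [MulAut.conjNormal_apply, inv_inv]
    group
  obtain ⟨c, hc⟩ := commuting_end_scalar ρ P hcomm
  have hfix : ∀ m : N, ρ (m : G) * P = P := by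
    intro m
    rw [hP, Finset.mul_sum]
    refine Fintype.sum_bijective (fun n => m * n) (Group.mulLeft_bijective m) _ _ fun n ↦ ?_
    rw [← map_mul]
    rfl
  by_contra hne
  have hc0 : c ≠ 0 := by
    intro h0
    apply hne
    rw [hc, h0, zero_smul]
  obtain ⟨n, hn, hρn⟩ := hN
  apply hρn
  have := hfix ⟨n, hn⟩
  rw [hc, mul_smul_comm] at this
  have h2 : ρ n * LinearMap.id = (LinearMap.id : V →ₗ[ℂ] V) := smul_right_injective _ hc0 this
  rw [Module.End.mul_eq_comp, LinearMap.comp_id] at h2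
  exact h2

theorem irr_sum_normal {G : Type*} [Group G] (χ : Cfsg.IrrCharacter G) (N : Subgroup G)
    [N.Normal] [Fintype N] (hN : ∃ n ∈ N, (χ : G → ℂ) n ≠ (χ : G → ℂ) 1) (x : G) :
    ∑ n : N, (χ : G → ℂ) (x * (n : G)) = 0 := by
  obtain ⟨k, ρ, hρ, hχ⟩ := χ.2
  haveI := hρ
  rw [← hχ] at hN ⊢
  have hN' : ∃ n ∈ N, ρ n ≠ 1 := by
    obtain ⟨n, hn, h⟩ := hN
    refine ⟨n, hn, fun h1 => h ?_⟩
    simp only [Representation.character, h1, map_one]
  have h0 := sum_normal_rep ρ N hN'
  have : ∑ n : N, ρ.character (x * (n : G)) =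
      LinearMap.trace ℂ _ (ρ x * ∑ n : N, ρ (n : G)) := by
    rw [Finset.mul_sum, map_sum]
    refine Finset.sum_congr rfl fun n _ => ?_
    rw [← map_mul]; rfl
  rw [this, h0, mul_zero, map_zero]

/-- Inner product of the indicator function of a conjugacy class with an irreducible character. -/
theorem classInner_indicator {G : Type*} [Group G] [Fintype G] (h : G) (χ : Cfsg.IrrCharacter G)
    [DecidablePred (IsConj h)] :
    Cfsg.classInner (fun x => if IsConj h x then (1 : ℂ) else 0) (χ : G → ℂ) =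
      conj ((χ : G → ℂ) h) / (Nat.card (Subgroup.centralizer ({h} : Set G)) : ℂ) := by
  classical
  have hne : (Nat.card G : ℂ) ≠ 0 := by exact_mod_cast Nat.card_pos.ne'
  have hcne : (Nat.card (Subgroup.centralizer ({h} : Set G)) : ℂ) ≠ 0 := by
    exact_mod_cast Nat.card_pos.ne'
  simp only [Cfsg.classInner]
  have h1 : ∑ x : G, (if IsConj h x then (1 : ℂ) else 0) * conj ((χ : G → ℂ) x) =
      (Nat.card {x : G // IsConj h x} : ℂ) * conj ((χ : G → ℂ) h) := by
    have : ∀ x : G, (if IsConj h x then (1 : ℂ) else 0) * conj ((χ : G → ℂ) x) =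
        if IsConj h x then conj ((χ : G → ℂ) h) else 0 := by
      intro x
      split_ifs with hx
      · rw [one_mul, irr_isConj_eq χ hx]
      · rw [zero_mul]
    simp only [this]
    rw [← Finset.sum_filter, Finset.sum_const, nsmul_eq_mul]
    congr 2
    rw [Nat.card_eq_fintype_card, Fintype.card_subtype]
  rw [h1]
  have h2 := card_conj_mul_card_centralizer h
  have h3 : (Nat.card G : ℂ) = (Nat.card {x : G // IsConj h x} : ℂ) *
      (Nat.card (Subgroup.centralizer ({h} : Set G)) : ℂ) := by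
    rw [← h2]; push_cast; ring
  rw [h3]
  have hcl : (Nat.card {x : G // IsConj h x} : ℂ) ≠ 0 := by
    intro h0
    rw [h0, zero_mul] at h3
    exact hne h3
  field_simp

/-- If `f` is constant on cosets of the normal subgroup `N` and `N` is not in the kernel of `χ`,
then `f` is orthogonal to `χ`. -/
theorem classInner_eq_zero_of_coset_const {G : Type*} [Group G] [Fintype G]
    (χ : Cfsg.IrrCharacter G) (N : Subgroup G) [N.Normal]
    (hN : ∃ n ∈ N, (χ : G → ℂ) n ≠ (χ : G → ℂ) 1) (f : G → ℂ)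
    (hf : ∀ x : G, ∀ n ∈ N, f (x * n) = f x) : Cfsg.classInner f (χ : G → ℂ) = 0 := by
  classical
  haveI : Fintype N := Fintype.ofFinite N
  have hNne : (Fintype.card N : ℂ) ≠ 0 := by
    exact_mod_cast Fintype.card_ne_zero
  simp only [Cfsg.classInner]
  have key : (Fintype.card N : ℂ) * ∑ x : G, f x * conj ((χ : G → ℂ) x) = 0 := by
    have h1 : ∀ n : N, ∑ x : G, f x * conj ((χ : G → ℂ) x) =
        ∑ x : G, f x * conj ((χ : G → ℂ) (x * (n : G))) := by
      intro n
      refine Fintype.sum_bijective (fun x => x * (n : G)⁻¹) (Group.mulRight_bijective _) _ _ fun x ↦ ?_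
      rw [inv_mul_cancel_right]
      have := hf (x * (n : G)⁻¹) n n.2
      rw [inv_mul_cancel_right] at this
      rw [this]
    have h2 : (Fintype.card N : ℂ) * ∑ x : G, f x * conj ((χ : G → ℂ) x) =
        ∑ n : N, ∑ x : G, f x * conj ((χ : G → ℂ) (x * (n : G))) := by
      rw [← Finset.sum_congr rfl (fun n _ => h1 n), Finset.sum_const, Finset.card_univ,
        nsmul_eq_mul]
    rw [h2, Finset.sum_comm]
    apply Finset.sum_eq_zero
    intro x _
    rw [← Finset.mul_sum, ← map_sum, irr_sum_normal χ N hN x, map_zero, mul_zero]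
  rcases mul_eq_zero.mp key with h | h
  · exact absurd h hNne
  · rw [h, mul_zero]

end Cfsg.Agent.Lib.Helper25
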