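import Mathlib
import Cfsg.Prelude.Def_Characters
import Cfsg.Agent.Lib.Helper25.CharNormal

set_option autoImplicit false
set_option linter.style.haveILetI false
set_option linter.unusedSimpArgs false
set_option linter.deprecated false

namespace Cfsg.Agent.Lib.Helper25
open scoped ComplexConjugate

/-- Convolution of irreducible characters: `Σ_x χ(x) ψ(x⁻¹ z) = δ_{χψ} |G| ψ(z)/ψ(1)`. -/
theorem irr_convolution {G : Type*} [Group G] [Fintype G] (χ ψ : Cfsg.IrrCharacter G) (z : G) :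
    ∑ x : G, (χ : G → ℂ) x * (ψ : G → ℂ) (x⁻¹ * z) =
      if χ = ψ then (Nat.card G : ℂ) * (ψ : G → ℂ) z / (ψ : G → ℂ) 1 else 0 := by
  classical
  obtain ⟨k, ρ, hρ, hψ⟩ := ψ.2
  haveI := hρ
  have hne : (Nat.card G : ℂ) ≠ 0 := by exact_mod_cast Nat.card_pos.ne'
  set E : (Fin k → ℂ) →ₗ[ℂ] (Fin k → ℂ) := ∑ x : G, (χ : G → ℂ) x • ρ x⁻¹ with hE
  have hcomm : ∀ g : G, E ∘ₗ ρ g = ρ g ∘ₗ E := by
    intro g
    rw [← Module.End.mul_eq_comp, ← Module.End.mul_eq_comp, hE, Finset.sum_mul, Finset.mul_sum]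
    refine Fintype.sum_bijective (fun x => g⁻¹ * x * g⁻¹⁻¹) (MulAut.conj g⁻¹).bijective _ _ fun x ↦ ?_
    rw [irr_conj_invariant, smul_mul_assoc, mul_smul_comm, ← map_mul, ← map_mul]
    congr 2
    group
  obtain ⟨c, hc⟩ := commuting_end_scalar ρ E hcomm
  have htr : LinearMap.trace ℂ _ E = (Nat.card G : ℂ) * Cfsg.classInner (χ : G → ℂ) (ψ : G → ℂ) := by
    rw [hE, map_sum]
    simp only [Cfsg.classInner, map_smul, smul_eq_mul]
    rw [← mul_assoc, mul_inv_cancel₀ hne, one_mul]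
    refine Finset.sum_congr rfl fun x _ => ?_
    rw [← irr_inv, ← hψ]
    rfl
  have h1 : (ψ : G → ℂ) 1 ≠ 0 := irr_one_ne_zero ψ
  have htr2 : LinearMap.trace ℂ _ E = c * (ψ : G → ℂ) 1 := by
    rw [hc, map_smul, LinearMap.trace_id, ← hψ, Representation.char_one, smul_eq_mul]
  have hsum : ∑ x : G, (χ : G → ℂ) x * (ψ : G → ℂ) (x⁻¹ * z) = c * (ψ : G → ℂ) z := by
    have : ∑ x : G, (χ : G → ℂ) x * (ψ : G → ℂ) (x⁻¹ * z) = LinearMap.trace ℂ _ (E * ρ z) := by
      rw [hE, Finset.sum_mul, map_sum]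
      refine Finset.sum_congr rfl fun x _ => ?_
      rw [smul_mul_assoc, map_smul, smul_eq_mul, ← map_mul, ← hψ]
      rfl
    rw [this, hc, smul_mul_assoc, map_smul, smul_eq_mul]
    have : (LinearMap.id : (Fin k → ℂ) →ₗ[ℂ] (Fin k → ℂ)) * ρ z = ρ z := by
      rw [Module.End.mul_eq_comp, LinearMap.id_comp]
    rw [this, ← hψ]
    rfl
  rw [hsum]
  rw [irr_classInner] at htr
  split_ifs with h
  · rw [if_pos h, mul_one] at htr
    have : c = (Nat.card G : ℂ) / (ψ : G → ℂ) 1 := by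
      rw [eq_div_iff h1, ← htr2, htr]
    rw [this]; ring
  · rw [if_neg h, mul_zero] at htr
    have : c = 0 := by
      rcases mul_eq_zero.mp (htr2.symm.trans htr) with h' | h'
      · exact h'
      · exact absurd h' h1
    rw [this, zero_mul]

/-- The number of `y` with `y a y⁻¹ = b` is `|C(a)|` if `a, b` are conjugate and `0` otherwise. -/
theorem card_conjugators {G : Type*} [Group G] [Finite G] (a b : G) [Decidable (IsConj a b)] :
    Nat.card {y : G // y * a * y⁻¹ = b} =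
      if IsConj a b then Nat.card (Subgroup.centralizer ({a} : Set G)) else 0 := by
  classical
  split_ifs with h
  · obtain ⟨c, hc⟩ := isConj_iff.mp h
    apply Nat.card_congr
    refine ⟨fun y => ⟨c⁻¹ * y.1, ?_⟩, fun u => ⟨c * u.1, ?_⟩, ?_, ?_⟩
    · rw [Subgroup.mem_centralizer_iff]
      intro w hw
      rw [Set.mem_singleton_iff] at hw
      rw [hw]
      have hy : y.1 * a * y.1⁻¹ = c * a * c⁻¹ := y.2.trans hc.symm
      have h2 : c⁻¹ * (y.1 * a * y.1⁻¹) * c = a := by rw [hy]; group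
      calc a * (c⁻¹ * y.1) = (c⁻¹ * (y.1 * a * y.1⁻¹) * c) * (c⁻¹ * y.1) := by rw [h2]
        _ = c⁻¹ * y.1 * a := by group
    · have hu := u.2
      rw [Subgroup.mem_centralizer_iff] at hu
      have := hu a rfl
      rw [← hc]
      calc c * u.1 * a * (c * u.1)⁻¹ = c * (u.1 * a) * u.1⁻¹ * c⁻¹ := by group
        _ = c * (a * u.1) * u.1⁻¹ * c⁻¹ := by rw [this]
        _ = c * a * c⁻¹ := by group
    · intro y; ext; simp
    · intro u; ext; simp
  · rw [Nat.card_eq_zero]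
    left
    refine ⟨fun y => h ?_⟩
    exact isConj_iff.mpr ⟨y.1, y.2⟩

end Cfsg.Agent.Lib.Helper25
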