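import Mathlib
import Cfsg.Prelude.Def_Characters
import Cfsg.Agent.Lib.Helper25.CharConv

set_option autoImplicit false
set_option linter.style.haveILetI false
set_option linter.unusedSimpArgs false
set_option linter.deprecated false

namespace Cfsg.Agent.Lib.Helper25
open scoped ComplexConjugate

theorem norm_char_le {G : Type*} [Group G] [Finite G] {V : Type*} [AddCommGroup V] [Module ℂ V]
    [FiniteDimensional ℂ V] (ρ : Representation ℂ G V) (g : G) :
    ‖ρ.character g‖ ≤ (Module.finrank ℂ V : ℝ) := by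
  classical
  set f : Module.End ℂ V := ρ g with hf
  have hm : 0 < orderOf g := orderOf_pos g
  have hfm : f ^ orderOf g = 1 := by
    rw [hf, ← map_pow, pow_orderOf_eq_one, map_one]
  have hroots : ∀ μ ∈ f.charpoly.roots, ‖μ‖ = 1 := by
    intro μ hμ
    have hroot : f.charpoly.IsRoot μ := (Polynomial.mem_roots'.mp hμ).2
    have hev : f.HasEigenvalue μ := (Module.End.hasEigenvalue_iff_isRoot_charpoly f μ).mpr hroot
    obtain ⟨v, hv⟩ := hev.exists_hasEigenvector
    have h1 : (f ^ orderOf g) v = μ ^ orderOf g • v := hv.pow_apply (orderOf g)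
    rw [hfm, Module.End.one_apply] at h1
    have h2 : μ ^ orderOf g = 1 := by
      by_contra hne
      have : (μ ^ orderOf g - 1) • v = 0 := by rw [sub_smul, one_smul, ← h1, sub_self]
      rcases smul_eq_zero.mp this with h | h
      · exact hne (sub_eq_zero.mp h)
      · exact hv.2 h
    exact Complex.norm_eq_one_of_pow_eq_one h2 hm.ne'
  have htr : LinearMap.trace ℂ V f = f.charpoly.roots.sum :=
    Module.End.trace_eq_sum_roots_charpoly_of_splits (IsAlgClosed.splits _)
  change ‖LinearMap.trace ℂ V f‖ ≤ _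
  rw [htr]
  calc ‖f.charpoly.roots.sum‖ ≤ (f.charpoly.roots.map fun μ => ‖μ‖).sum := norm_multiset_sum_le _
    _ ≤ (f.charpoly.roots.card : ℝ) := by
      have : (f.charpoly.roots.map fun μ => ‖μ‖) = f.charpoly.roots.map fun _ => (1 : ℝ) :=
        Multiset.map_congr rfl hroots
      rw [this, Multiset.map_const', Multiset.sum_replicate, nsmul_eq_mul, mul_one]
    _ = (Module.finrank ℂ V : ℝ) := by
      rw [IsAlgClosed.card_roots_eq_natDegree, LinearMap.charpoly_natDegree]

theorem irr_norm_le {G : Type*} [Group G] [Finite G] (χ : Cfsg.IrrCharacter G) (g : G) :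
    ‖(χ : G → ℂ) g‖ ≤ ‖(χ : G → ℂ) 1‖ := by
  obtain ⟨k, ρ, hρ, hχ⟩ := χ.2
  rw [← hχ, Representation.char_one]
  simpa using norm_char_le ρ g

end Cfsg.Agent.Lib.Helper25
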