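import Mathlib
import Cfsg.Prelude.Def_BlockRank
import Cfsg.Agent.Lib.Helper25.CharBound

set_option autoImplicit false
open Cfsg

namespace Cfsg.Agent.Lib.Helper25

theorem sum_subgroup_char {G : Type*} [Group G] (H : Subgroup G) [Fintype H]
    {V : Type*} [AddCommGroup V] [Module ℂ V] [FiniteDimensional ℂ V]
    (ρ : Representation ℂ G V) :
    ∃ k : ℕ, ∑ x : H, ρ.character (x : G) = (Nat.card H : ℂ) * k := by
  let σ : Representation ℂ H V := ρ.comp H.subtype
  have hne : (Nat.card H : ℂ) ≠ 0 := by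
    have : 0 < Nat.card H := Nat.card_pos
    exact_mod_cast this.ne'
  haveI : Invertible (Nat.card H : ℂ) := invertibleOfNonzero hne
  have h := Representation.card_inv_mul_sum_char_eq_finrank σ
  refine ⟨Module.finrank ℂ (Representation.invariants σ), ?_⟩
  rw [← h, ← mul_assoc, mul_inv_cancel₀ hne, one_mul]
  rfl

theorem sum_subgroup_irr {G : Type*} [Group G] (H : Subgroup G) [Fintype H]
    (ψ : Cfsg.IrrCharacter G) :
    ∃ k : ℕ, ∑ x : H, (ψ : G → ℂ) (x : G) = (Nat.card H : ℂ) * k := by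
  obtain ⟨n, ρ, _, hρ⟩ := ψ.2
  obtain ⟨k, hk⟩ := sum_subgroup_char H ρ
  exact ⟨k, by rw [← hk, ← hρ]⟩

theorem pRegular_iff_eq_one {G : Type*} [Group G] (p : ℕ) [Fact p.Prime] (P : Subgroup G)
    (hP : IsPGroup p P) (x : P) : Cfsg.IsPRegular p (x : G) ↔ x = 1 := by
  unfold Cfsg.IsPRegular
  constructor
  · intro h
    obtain ⟨k, hk⟩ := hP x
    have h1 : orderOf x ∣ p ^ k := orderOf_dvd_of_pow_eq_one hk
    obtain ⟨j, _, hj⟩ := (Nat.dvd_prime_pow (Fact.out : p.Prime)).1 h1
    rw [Subgroup.orderOf_coe] at h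
    rw [hj] at h
    have : j = 0 := by
      by_contra hne
      exact h (dvd_pow_self p hne)
    rw [this, pow_zero] at hj
    exact orderOf_eq_one_iff.1 hj
  · intro h
    rw [h]
    simp only [OneMemClass.coe_one, orderOf_one, Nat.dvd_one]
    exact (Fact.out : p.Prime).ne_one

end Cfsg.Agent.Lib.Helper25
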