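import Mathlib
import Cfsg.Prelude.Def_BlockRank
import Cfsg.Agent.Lib.Helper25.CharRestrict

set_option autoImplicit false
set_option linter.deprecated false
open Cfsg

namespace Cfsg.Agent.Lib.Helper25
open scoped ComplexConjugate TensorProduct


theorem irr_eq_bot_or_top {G : Type*} [Monoid G] {V : Type*} [AddCommGroup V] [Module ℂ V]
    (ρ : Representation ℂ G V) [ρ.IsIrreducible] (W : Submodule ℂ V)
    (hW : ∀ g : G, ∀ v ∈ W, ρ g v ∈ W) : W = ⊥ ∨ W = ⊤ := by
  let S : Subrepresentation ρ := ⟨W, fun g v hv => hW g v hv⟩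
  rcases eq_bot_or_eq_top S with h | h
  · left
    have := congrArg Subrepresentation.toSubmodule h
    exact this
  · right
    have := congrArg Subrepresentation.toSubmodule h
    exact this

theorem dual_isIrreducible {G : Type*} [Group G] {V : Type*} [AddCommGroup V] [Module ℂ V]
    [FiniteDimensional ℂ V] (ρ : Representation ℂ G V) [ρ.IsIrreducible] :
    ρ.dual.IsIrreducible := by
  have hfr : Module.finrank ℂ V ≠ 0 := finrank_ne_zero_of_irr ρ
  haveI : Nontrivial V := (Module.finrank_pos_iff (R := ℂ)).1 (Nat.pos_of_ne_zero hfr)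
  haveI : Nontrivial (Module.Dual ℂ V) := by
    apply (Module.finrank_pos_iff (R := ℂ)).1
    rw [Subspace.dual_finrank_eq]
    exact Nat.pos_of_ne_zero hfr
  refine { exists_pair_ne := ⟨⊥, ⊤, ?_⟩, eq_bot_or_eq_top := ?_ }
  · intro h
    have h2 := congrArg Subrepresentation.toSubmodule h
    exact bot_ne_top h2
  · intro S
    have hinv : ∀ g : G, ∀ v ∈ S.toSubmodule.dualCoannihilator,
        ρ g v ∈ S.toSubmodule.dualCoannihilator := by
      intro g v hv
      rw [Submodule.mem_dualCoannihilator] at hv ⊢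
      intro f hf
      have h1 := S.apply_mem_toSubmodule g⁻¹ hf
      have h2 := hv _ h1
      rw [Representation.dual_apply, inv_inv] at h2
      exact h2
    rcases irr_eq_bot_or_top ρ _ hinv with h | h
    · right
      apply Subrepresentation.toSubmodule_injective
      have := Subspace.dualCoannihilator_dualAnnihilator_eq (W := S.toSubmodule)
      rw [h] at this
      rw [← this]
      simp
      rfl
    · left
      apply Subrepresentation.toSubmodule_injective
      have := Subspace.dualCoannihilator_dualAnnihilator_eq (W := S.toSubmodule)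
      rw [h] at this
      rw [← this]
      simp
      rfl



theorem trace_map_comp_comm {k : Type*} [Field k] {V : Type*} [AddCommGroup V] [Module k V]
    [FiniteDimensional k V] (A B : V →ₗ[k] V) :
    LinearMap.trace k (V ⊗[k] V) ((TensorProduct.map A B) ∘ₗ (TensorProduct.comm k V V).toLinearMap)
      = LinearMap.trace k V (A ∘ₗ B) := by
  classical
  let b := Module.finBasis k V
  rw [LinearMap.trace_eq_matrix_trace k (b.tensorProduct b),
    LinearMap.trace_eq_matrix_trace k b]
  simp only [Matrix.trace, Matrix.diag_apply, LinearMap.toMatrix_apply]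
  rw [Fintype.sum_prod_type]
  refine Finset.sum_congr rfl fun i _ => ?_
  simp only [Module.Basis.tensorProduct_apply, LinearMap.comp_apply, LinearEquiv.coe_coe,
    TensorProduct.comm_tmul, TensorProduct.map_tmul, Module.Basis.tensorProduct_repr_tmul_apply]
  conv_rhs => rw [← b.sum_repr (B (b i))]
  simp only [map_sum, map_smul, Finsupp.coe_finset_sum, Finset.sum_apply, Finsupp.coe_smul,
    Pi.smul_apply]



noncomputable def irrConj {G : Type*} [Group G] [Finite G] (χ : Cfsg.IrrCharacter G) :
    Cfsg.IrrCharacter G :=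
  ⟨fun g => conj ((χ : G → ℂ) g), by
    obtain ⟨n, ρ, hρ, hχ⟩ := χ.2
    haveI := hρ
    haveI := dual_isIrreducible ρ
    have := isIrrCharacter_of_irreducible ρ.dual
    convert this using 1
    funext g
    rw [Representation.char_dual, char_inv, hχ]⟩

theorem irrConj_apply {G : Type*} [Group G] [Finite G] (χ : Cfsg.IrrCharacter G) (g : G) :
    (irrConj χ : G → ℂ) g = conj ((χ : G → ℂ) g) := rfl

theorem fs_zero_of_not_real {G : Type*} [Group G] [Fintype G] {V : Type*} [AddCommGroup V]
    [Module ℂ V] [FiniteDimensional ℂ V] (ρ : Representation ℂ G V) [ρ.IsIrreducible]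
    (h : ∃ s : G, conj (ρ.character s) ≠ ρ.character s) :
    ∑ s : G, ρ.character (s * s) = 0 := by
  classical
  have hne : (Nat.card G : ℂ) ≠ 0 := by
    exact_mod_cast Nat.card_pos.ne'
  haveI : Invertible (Nat.card G : ℂ) := invertibleOfNonzero hne
  haveI := dual_isIrreducible ρ
  have hnoequiv : ¬ Nonempty (Representation.Equiv ρ.dual ρ) := by
    rintro ⟨e⟩
    obtain ⟨s, hs⟩ := h
    apply hs
    have := congrFun (Representation.char_iso e) s
    rw [Representation.char_dual, char_inv] at this
    exact this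
  have h0 := (classInner_rep ρ ρ.dual).2 hnoequiv
  have hfin : Module.finrank ℂ (Representation.invariants (Representation.tprod ρ ρ)) = 0 := by
    have h1 := Representation.card_inv_mul_sum_char_eq_finrank (Representation.tprod ρ ρ)
    have h2 : (Nat.card G : ℂ)⁻¹ * ∑ g : G, (Representation.tprod ρ ρ).character g = 0 := by
      rw [← h0]
      simp only [Cfsg.classInner]
      congr 1
      refine Finset.sum_congr rfl fun g _ => ?_
      rw [Representation.char_tensor, Pi.mul_apply, Representation.char_dual, char_inv,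
        Complex.conj_conj]
    rw [h2] at h1
    exact_mod_cast h1.symm
  have hbot : Representation.invariants (Representation.tprod ρ ρ) = ⊥ :=
    Submodule.finrank_eq_zero.1 hfin
  have hT : ∑ g : G, (Representation.tprod ρ ρ) g = 0 := by
    apply LinearMap.ext
    intro v
    have hmem : (∑ g : G, (Representation.tprod ρ ρ) g) v ∈
        Representation.invariants (Representation.tprod ρ ρ) := by
      intro x
      rw [LinearMap.sum_apply, map_sum]
      refine Fintype.sum_bijective (x * ·) (Group.mulLeft_bijective x) _ _ fun g ↦ ?_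
      rw [map_mul]
      rfl
    rw [hbot] at hmem
    simpa using hmem
  have key : ∀ s : G, ρ.character (s * s) = LinearMap.trace ℂ (V ⊗[ℂ] V)
      ((Representation.tprod ρ ρ) s ∘ₗ (TensorProduct.comm ℂ V V).toLinearMap) := by
    intro s
    rw [Representation.tprod_apply, trace_map_comp_comm, Representation.character, map_mul]
    rfl
  simp_rw [key]
  rw [← map_sum]
  have : ∑ x : G, (Representation.tprod ρ ρ) x ∘ₗ (TensorProduct.comm ℂ V V).toLinearMap =
      (∑ x : G, (Representation.tprod ρ ρ) x) ∘ₗ (TensorProduct.comm ℂ V V).toLinearMap := by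
    apply LinearMap.ext
    intro v
    simp only [LinearMap.sum_apply, LinearMap.comp_apply]
  rw [this, hT, LinearMap.zero_comp, map_zero]



theorem sum_sq_conj {G : Type*} [Group G] [Fintype G] (χ : Cfsg.IrrCharacter G) :
    ∑ s : G, conj ((χ : G → ℂ) (s * s)) = ∑ s : G, (χ : G → ℂ) (s * s) := by
  refine Fintype.sum_bijective (fun s => s⁻¹) (inv_involutive (G := G)).bijective _ _ fun s ↦ ?_
  rw [← irr_inv, mul_inv_rev]

theorem sqrt_count_expansion {G : Type*} [Group G] [Fintype G] [Fintype (Cfsg.IrrCharacter G)]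
    (g : G) :
    (Nat.card {h : G // h * h = g} : ℂ) =
      ∑ χ : Cfsg.IrrCharacter G,
        ((Nat.card G : ℂ)⁻¹ * ∑ s : G, (χ : G → ℂ) (s * s)) * (χ : G → ℂ) g := by
  classical
  set θ : G → ℂ := fun g => (Nat.card {h : G // h * h = g} : ℂ) with hθ
  have hclass : ∀ g x : G, θ (x * g * x⁻¹) = θ g := by
    intro g x
    simp only [hθ]
    congr 1
    apply Nat.card_congr
    refine ⟨fun h => ⟨x⁻¹ * h.1 * x, ?_⟩, fun h => ⟨x * h.1 * x⁻¹, ?_⟩, ?_, ?_⟩
    · have := h.2
      calc x⁻¹ * h.1 * x * (x⁻¹ * h.1 * x) = x⁻¹ * (h.1 * h.1) * x := by group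
        _ = g := by rw [this]; group
    · have := h.2
      calc x * h.1 * x⁻¹ * (x * h.1 * x⁻¹) = x * (h.1 * h.1) * x⁻¹ := by group
        _ = x * g * x⁻¹ := by rw [this]
    · intro h; apply Subtype.ext; simp only; group
    · intro h; apply Subtype.ext; simp only; group
  have hexp := classFunction_expansion θ hclass
  have hinner : ∀ χ : Cfsg.IrrCharacter G, Cfsg.classInner θ (χ : G → ℂ) =
      (Nat.card G : ℂ)⁻¹ * ∑ s : G, (χ : G → ℂ) (s * s) := by
    intro χ
    rw [← sum_sq_conj]
    simp only [Cfsg.classInner]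
    congr 1
    rw [← Finset.sum_fiberwise (Finset.univ : Finset G) (fun s => s * s)
      (fun s => conj ((χ : G → ℂ) (s * s)))]
    refine Finset.sum_congr rfl fun g _ => ?_
    rw [Finset.sum_congr rfl (g := fun _ => conj ((χ : G → ℂ) g))]
    · rw [Finset.sum_const, nsmul_eq_mul]
      congr 1
      simp only [hθ]
      rw [Nat.card_eq_fintype_card, Fintype.card_subtype]
    · intro s hs
      rw [(Finset.mem_filter.1 hs).2]
  have := congrFun hexp g
  rw [Finset.sum_apply] at this
  simp only [Pi.smul_apply, smul_eq_mul, hinner] at this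
  exact this


theorem irr_real_of_fs_ne_zero {G : Type*} [Group G] [Fintype G] (χ : Cfsg.IrrCharacter G)
    (h : ∑ s : G, (χ : G → ℂ) (s * s) ≠ 0) (g : G) : ((χ : G → ℂ) g).im = 0 := by
  obtain ⟨n, ρ, hρ, hχ⟩ := χ.2
  haveI := hρ
  by_contra hne
  apply h
  rw [← hχ]
  apply fs_zero_of_not_real ρ
  refine ⟨g, ?_⟩
  rw [hχ]
  intro hc
  apply hne
  have := Complex.conj_eq_iff_im.1 hc
  exact this

theorem exists_real_irr_ne_zero_of_not_square {G : Type*} [Group G] [Finite G] (g : G)
    (hg : ¬ ∃ u : G, u * u = g) :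
    ∃ χ : Cfsg.IrrCharacter G, ¬ ((χ : G → ℂ) = fun _ => (1 : ℂ)) ∧
      (∀ g : G, ((χ : G → ℂ) g).im = 0) ∧ (χ : G → ℂ) g ≠ 0 := by
  classical
  haveI := Fintype.ofFinite G
  haveI := Fintype.ofFinite (Cfsg.IrrCharacter G)
  have h0 : (Nat.card {h : G // h * h = g} : ℂ) = 0 := by
    haveI : IsEmpty {h : G // h * h = g} := ⟨fun h => hg ⟨h.1, h.2⟩⟩
    simp
  have hexp := sqrt_count_expansion g
  rw [h0] at hexp
  have hne : (Nat.card G : ℂ) ≠ 0 := by
    exact_mod_cast Nat.card_pos.ne'
  by_contra hcon
  push Not at hcon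
  have hterm : ∀ χ : Cfsg.IrrCharacter G, χ ≠ trivIrr G →
      ((Nat.card G : ℂ)⁻¹ * ∑ s : G, (χ : G → ℂ) (s * s)) * (χ : G → ℂ) g = 0 := by
    intro χ hχ
    by_cases hs : ∑ s : G, (χ : G → ℂ) (s * s) = 0
    · rw [hs, mul_zero, zero_mul]
    · have h1 : ¬ ((χ : G → ℂ) = fun _ => (1 : ℂ)) := by
        intro h
        apply hχ
        apply Subtype.ext
        rw [h]
        rfl
      rw [hcon χ h1 (irr_real_of_fs_ne_zero χ hs), mul_zero]
  rw [Finset.sum_eq_single (trivIrr G) (fun χ _ hχ => hterm χ hχ)
    (fun h => absurd (Finset.mem_univ _) h)] at hexp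
  simp only [trivIrr_apply, Finset.sum_const, Finset.card_univ, nsmul_eq_mul, mul_one] at hexp
  rw [← Nat.card_eq_fintype_card, inv_mul_cancel₀ hne] at hexp
  exact zero_ne_one hexp


end Cfsg.Agent.Lib.Helper25
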