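import Mathlib
import Cfsg.Prelude.Def_BlockRank
import Cfsg.Prelude.Def_Blocks
import Cfsg.Agent.Lib.Helper25.CharReal

set_option autoImplicit false
set_option linter.deprecated false
set_option linter.style.haveILetI false
open Cfsg

namespace Cfsg.Agent.Lib.Helper25
open scoped ComplexConjugate


theorem classInner_conj_symm {G : Type*} [Group G] [Fintype G] (f h : G → ℂ) :
    Cfsg.classInner h f = conj (Cfsg.classInner f h) := by
  simp only [Cfsg.classInner, map_mul, map_sum, Complex.conj_conj, map_inv₀, Complex.conj_natCast]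
  congr 1
  refine Finset.sum_congr rfl fun g _ => ?_
  ring

theorem classInner_parseval {G : Type*} [Group G] [Fintype G] [Fintype (Cfsg.IrrCharacter G)]
    (f : G → ℂ) (hf : ∀ g h : G, f (h * g * h⁻¹) = f g) :
    Cfsg.classInner f f = ∑ μ : Cfsg.IrrCharacter G,
      Cfsg.classInner f (μ : G → ℂ) * conj (Cfsg.classInner f (μ : G → ℂ)) := by
  have hexp := classFunction_expansion f hf
  have h1 := congrArg (fun F => Cfsg.classInner F f) hexp
  rw [h1, classInner_sum_left]
  refine Finset.sum_congr rfl fun μ _ => ?_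
  rw [classInner_smul_left, classInner_conj_symm f (μ : G → ℂ)]

theorem classInner_char_irr_nat {G : Type*} [Group G] [Fintype G] {V : Type*} [AddCommGroup V]
    [Module ℂ V] [FiniteDimensional ℂ V] (σ : Representation ℂ G V) (μ : Cfsg.IrrCharacter G) :
    ∃ n : ℕ, Cfsg.classInner σ.character (μ : G → ℂ) = n := by
  obtain ⟨m, τ, hτ, hμ⟩ := μ.2
  have hne : (Nat.card G : ℂ) ≠ 0 := by
    exact_mod_cast Nat.card_pos.ne'
  haveI : Invertible (Nat.card G : ℂ) := invertibleOfNonzero hne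
  refine ⟨Module.finrank ℂ (Representation.IntertwiningMap τ σ), ?_⟩
  rw [← Representation.card_inv_mul_sum_char_mul_char_eq_finrank τ σ]
  simp only [Cfsg.classInner]
  congr 1
  refine Finset.sum_congr rfl fun g _ => ?_
  rw [char_inv, hμ]

theorem irr_one_of_comm {G : Type*} [CommGroup G] (μ : Cfsg.IrrCharacter G) :
    (μ : G → ℂ) 1 = 1 := by
  obtain ⟨m, τ, hτ, hμ⟩ := μ.2
  haveI := hτ
  rw [← hμ, Representation.char_one]
  have := Representation.IsIrreducible.finrank_eq_one_of_isMulCommutative τ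
  rw [this]
  simp

theorem abelian_bound {A : Type*} [CommGroup A] [Fintype A] {V : Type*} [AddCommGroup V]
    [Module ℂ V] [FiniteDimensional ℂ V] (σ : Representation ℂ A V) :
    (Nat.card A : ℝ) * (Module.finrank ℂ V : ℝ) ≤ ∑ a : A, ‖σ.character a‖ ^ 2 := by
  classical
  haveI := Fintype.ofFinite (Cfsg.IrrCharacter A)
  have hcl : ∀ g h : A, σ.character (h * g * h⁻¹) = σ.character g := fun g h =>
    Representation.char_conj σ g h
  choose n hn using fun μ : Cfsg.IrrCharacter A => classInner_char_irr_nat σ μ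
  have h1 : (Module.finrank ℂ V : ℂ) = ∑ μ : Cfsg.IrrCharacter A, (n μ : ℂ) := by
    have hexp := congrFun (classFunction_expansion σ.character hcl) 1
    rw [Representation.char_one, Finset.sum_apply] at hexp
    rw [hexp]
    refine Finset.sum_congr rfl fun μ _ => ?_
    rw [Pi.smul_apply, hn, irr_one_of_comm, smul_eq_mul, mul_one]
  have h2 := classInner_parseval σ.character hcl
  simp only [hn, Complex.conj_natCast] at h2
  have hne : (Nat.card A : ℂ) ≠ 0 := by
    exact_mod_cast Nat.card_pos.ne'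
  have h3 : ∑ a : A, σ.character a * conj (σ.character a) =
      (Nat.card A : ℂ) * ∑ μ : Cfsg.IrrCharacter A, (n μ : ℂ) * (n μ : ℂ) := by
    rw [← h2]
    simp only [Cfsg.classInner]
    rw [← mul_assoc, mul_inv_cancel₀ hne, one_mul]
  have h4 : ∑ a : A, σ.character a * conj (σ.character a) =
      ((∑ a : A, ‖σ.character a‖ ^ 2 : ℝ) : ℂ) := by
    push_cast
    refine Finset.sum_congr rfl fun a _ => ?_
    rw [Complex.mul_conj, Complex.normSq_eq_norm_sq]
    push_cast
    rfl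
  have h5 : (∑ a : A, ‖σ.character a‖ ^ 2 : ℝ) =
      (Nat.card A : ℝ) * ((∑ μ : Cfsg.IrrCharacter A, n μ * n μ : ℕ) : ℝ) := by
    have : ((∑ a : A, ‖σ.character a‖ ^ 2 : ℝ) : ℂ) =
        (((Nat.card A : ℝ) * ((∑ μ : Cfsg.IrrCharacter A, n μ * n μ : ℕ) : ℝ) : ℝ) : ℂ) := by
      rw [← h4, h3]
      push_cast
      rfl
    exact_mod_cast this
  have h6 : Module.finrank ℂ V = ∑ μ : Cfsg.IrrCharacter A, n μ := by
    exact_mod_cast h1
  rw [h5, h6]
  have hle : ∑ μ : Cfsg.IrrCharacter A, n μ ≤ ∑ μ : Cfsg.IrrCharacter A, n μ * n μ := by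
    apply Finset.sum_le_sum
    intro μ _
    nlinarith [Nat.zero_le (n μ)]
  have hcard : (0 : ℝ) ≤ (Nat.card A : ℝ) := by positivity
  apply mul_le_mul_of_nonneg_left _ hcard
  exact_mod_cast hle


theorem irr_sum_norm_sq {G : Type*} [Group G] [Fintype G] (χ : Cfsg.IrrCharacter G) :
    ∑ g : G, ‖(χ : G → ℂ) g‖ ^ 2 = (Nat.card G : ℝ) := by
  have h := irr_classInner χ χ
  rw [if_pos rfl] at h
  simp only [Cfsg.classInner] at h
  have hne : (Nat.card G : ℂ) ≠ 0 := by
    exact_mod_cast Nat.card_pos.ne'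
  have h2 : ∑ g : G, (χ : G → ℂ) g * conj ((χ : G → ℂ) g) = (Nat.card G : ℂ) := by
    field_simp at h
    exact h
  have h4 : ∑ g : G, (χ : G → ℂ) g * conj ((χ : G → ℂ) g) =
      ((∑ g : G, ‖(χ : G → ℂ) g‖ ^ 2 : ℝ) : ℂ) := by
    push_cast
    refine Finset.sum_congr rfl fun a _ => ?_
    rw [Complex.mul_conj, Complex.normSq_eq_norm_sq]
    push_cast
    rfl
  rw [h4] at h2
  exact_mod_cast h2

theorem charDegree_irr {G : Type*} [Group G] (χ : Cfsg.IrrCharacter G) :
    ((Cfsg.charDegree (χ : G → ℂ) : ℕ) : ℂ) = (χ : G → ℂ) 1 ∧ 0 < Cfsg.charDegree (χ : G → ℂ) := by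
  obtain ⟨n, hn, h⟩ := irr_one_eq_finrank χ
  have : Cfsg.charDegree (χ : G → ℂ) = n := by
    unfold Cfsg.charDegree
    rw [h]
    simp
  rw [this, h]
  exact ⟨rfl, hn⟩

theorem abelian_subgroup_card_mul_degree_le {G : Type*} [Group G] [Finite G]
    (χ : Cfsg.IrrCharacter G) (A : Subgroup G) (hA : ∀ a b : A, a * b = b * a) :
    Nat.card A * Cfsg.charDegree (χ : G → ℂ) ≤ Nat.card G := by
  classical
  haveI := Fintype.ofFinite G
  haveI : Fintype A := Fintype.ofFinite A
  obtain ⟨hd, _⟩ := charDegree_irr χ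
  obtain ⟨n, ρ, hρ, hχ⟩ := χ.2
  letI : CommGroup A := { (inferInstance : Group A) with mul_comm := hA }
  let σ : Representation ℂ A (Fin n → ℂ) := ρ.comp A.subtype
  have hb := abelian_bound σ
  have hσ : ∀ a : A, σ.character a = (χ : G → ℂ) (a : G) := by
    intro a
    rw [← hχ]
    rfl
  simp only [hσ] at hb
  have hfr : (Module.finrank ℂ (Fin n → ℂ) : ℂ) = (Cfsg.charDegree (χ : G → ℂ) : ℂ) := by
    rw [hd, ← hχ, Representation.char_one]
  have hfr' : Module.finrank ℂ (Fin n → ℂ) = Cfsg.charDegree (χ : G → ℂ) := by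
    exact_mod_cast hfr
  rw [hfr'] at hb
  have hle : ∑ a : A, ‖(χ : G → ℂ) (a : G)‖ ^ 2 ≤ ∑ g : G, ‖(χ : G → ℂ) g‖ ^ 2 := by
    rw [← Finset.sum_subtype (Finset.univ.filter (· ∈ A)) (by simp)
      (fun g => ‖(χ : G → ℂ) g‖ ^ 2)]
    apply Finset.sum_le_sum_of_subset_of_nonneg (Finset.filter_subset _ _)
    intro g _ _
    positivity
  rw [irr_sum_norm_sq] at hle
  have := hb.trans hle
  exact_mod_cast this


theorem irr_degree_sq_le {G : Type*} [Group G] [Finite G] (χ : Cfsg.IrrCharacter G) :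
    Cfsg.charDegree (χ : G → ℂ) * Cfsg.charDegree (χ : G → ℂ) ≤ Nat.card G := by
  classical
  haveI := Fintype.ofFinite G
  obtain ⟨hd, _⟩ := charDegree_irr χ
  have h1 := irr_sum_norm_sq χ
  have h2 : ‖(χ : G → ℂ) 1‖ ^ 2 ≤ ∑ g : G, ‖(χ : G → ℂ) g‖ ^ 2 :=
    Finset.single_le_sum (f := fun g => ‖(χ : G → ℂ) g‖ ^ 2) (fun g _ => by positivity)
      (Finset.mem_univ 1)
  rw [h1, ← hd] at h2
  simp only [Complex.norm_natCast] at h2
  have : ((Cfsg.charDegree (χ : G → ℂ) * Cfsg.charDegree (χ : G → ℂ) : ℕ) : ℝ) ≤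
      (Nat.card G : ℝ) := by
    push_cast
    nlinarith
  exact_mod_cast this


end Cfsg.Agent.Lib.Helper25
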