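import Mathlib
import Cfsg.Prelude.Def_BlockRank
import Cfsg.Agent.Lib.Helper25.CharAbelian
import Cfsg.Agent.S0139

set_option autoImplicit false
set_option linter.deprecated false
open Cfsg

namespace Cfsg.Agent.Lib.Helper25
open scoped ComplexConjugate


theorem exists_hom_prime_range {A : Type*} [CommGroup A] [Finite A] [Nontrivial A] :
    ∃ (q : ℕ) (μ : A →* ℂˣ), q.Prime ∧ Nat.card μ.range = q := by
  haveI : NeZero (Monoid.exponent A) := ⟨Monoid.exponent_ne_zero_of_finite⟩
  obtain ⟨e⟩ := CommGroup.monoidHom_mulEquiv_of_hasEnoughRootsOfUnity A ℂ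
  haveI : Finite (A →* ℂˣ) := Finite.of_equiv A e.symm.toEquiv
  obtain ⟨a, ha⟩ := exists_ne (1 : A)
  set l : A →* ℂˣ := e.symm a with hl
  have hl1 : l ≠ 1 := by
    intro h
    apply ha
    have := congrArg e h
    rw [hl, e.apply_symm_apply, map_one] at this
    exact this
  have hm0 : orderOf l ≠ 0 := (orderOf_pos l).ne'
  have hm1 : orderOf l ≠ 1 := fun h => hl1 (orderOf_eq_one_iff.1 h)
  set q := (orderOf l).minFac with hq
  have hqp : q.Prime := Nat.minFac_prime hm1
  have hqd : q ∣ orderOf l := Nat.minFac_dvd _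
  set μ : A →* ℂˣ := l ^ (orderOf l / q) with hμ
  have hμord : orderOf μ = q := orderOf_pow_orderOf_div hm0 hqd
  refine ⟨q, μ, hqp, ?_⟩
  haveI : NeZero q := ⟨hqp.ne_zero⟩
  have hle : μ.range ≤ rootsOfUnity q ℂ := by
    rintro _ ⟨b, rfl⟩
    rw [mem_rootsOfUnity]
    have : μ ^ q = 1 := by rw [← hμord]; exact pow_orderOf_eq_one μ
    have h2 := congrArg (fun f : A →* ℂˣ => f b) this
    simpa using h2
  have hcard : Nat.card (rootsOfUnity q ℂ) = q := Complex.card_rootsOfUnity q
  have hdvd : Nat.card μ.range ∣ q := by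
    rw [← hcard]
    exact Subgroup.card_dvd_of_le hle
  rcases (Nat.dvd_prime hqp).1 hdvd with h | h
  · exfalso
    have hbot : μ.range = ⊥ := Subgroup.card_eq_one.1 h
    have : μ = 1 := by
      ext b
      have : μ b ∈ μ.range := ⟨b, rfl⟩
      rw [hbot, Subgroup.mem_bot] at this
      rw [this]; rfl
    rw [this, orderOf_one] at hμord
    exact hqp.ne_one hμord.symm
  · exact h


noncomputable def linRep {G : Type*} [Group G] (μ : G →* ℂˣ) : Representation ℂ G ℂ where
  toFun g := ((μ g : ℂˣ) : ℂ) • LinearMap.id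
  map_one' := by
    simp only [map_one, Units.val_one, one_smul]
    rfl
  map_mul' g h := by
    apply LinearMap.ext
    intro v
    simp only [map_mul, Units.val_mul, LinearMap.smul_apply, LinearMap.id_coe, id_eq, smul_eq_mul,
      Module.End.mul_apply]
    ring

theorem linRep_character {G : Type*} [Group G] (μ : G →* ℂˣ) (g : G) :
    (linRep μ).character g = ((μ g : ℂˣ) : ℂ) := by
  simp [Representation.character, linRep]

noncomputable def linIrr {G : Type*} [Group G] (μ : G →* ℂˣ) : Cfsg.IrrCharacter G :=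
  ⟨fun g => ((μ g : ℂˣ) : ℂ), by
    haveI := isIrreducible_of_finrank_eq_one (linRep μ) (by simp)
    have := isIrrCharacter_of_irreducible (linRep μ)
    convert this using 1
    funext g
    rw [linRep_character]⟩

theorem linIrr_apply {G : Type*} [Group G] (μ : G →* ℂˣ) (g : G) :
    (linIrr μ : G → ℂ) g = ((μ g : ℂˣ) : ℂ) := rfl


theorem quotient_irreducible {G : Type*} [Group G] {V : Type*} [AddCommGroup V] [Module ℂ V]
    (ρ : Representation ℂ G V) [ρ.IsIrreducible] (K : Subgroup G) [K.Normal] (hK : K ≤ ρ.ker) :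
    Representation.IsIrreducible (QuotientGroup.lift K ρ hK : Representation ℂ (G ⧸ K) V) := by
  let σ : Representation ℂ (G ⧸ K) V := QuotientGroup.lift K ρ hK
  have hσ : ∀ g : G, σ (g : G ⧸ K) = ρ g := fun g => rfl
  let e : Subrepresentation ρ ≃o Subrepresentation σ :=
    { toFun := fun S => ⟨S.toSubmodule, by
        intro x v hv
        obtain ⟨g, rfl⟩ := QuotientGroup.mk_surjective x
        rw [hσ]
        exact S.apply_mem_toSubmodule g hv⟩
      invFun := fun S => ⟨S.toSubmodule, by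
        intro g v hv
        rw [← hσ]
        exact S.apply_mem_toSubmodule (g : G ⧸ K) hv⟩
      left_inv := fun S => rfl
      right_inv := fun S => rfl
      map_rel_iff' := Iff.rfl }
  exact e.isSimpleOrder_iff.mp ‹ρ.IsIrreducible›

theorem quotient_setup {G : Type*} [Group G] [Finite G] (χ : Cfsg.IrrCharacter G) :
    ∃ (K : Subgroup G) (_ : K.Normal) (n : ℕ) (σ : Representation ℂ (G ⧸ K) (Fin n → ℂ)),
      σ.IsIrreducible ∧
      (∀ g : G, g ∈ K ↔ (χ : G → ℂ) g = (χ : G → ℂ) 1) ∧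
      (∀ g : G, σ.character (g : G ⧸ K) = (χ : G → ℂ) g) ∧
      (∀ x : G ⧸ K, σ.character x = σ.character 1 → x = 1) := by
  obtain ⟨n, ρ, hρ, hχ⟩ := χ.2
  haveI := hρ
  have hker : ∀ g : G, g ∈ ρ.ker ↔ (χ : G → ℂ) g = (χ : G → ℂ) 1 := by
    intro g
    rw [MonoidHom.mem_ker, ← hχ, Representation.char_one, Cfsg.Agent.S0139.result ρ g]
    rfl
  haveI : (ρ.ker).Normal := MonoidHom.normal_ker ρ
  let σ : Representation ℂ (G ⧸ ρ.ker) (Fin n → ℂ) := QuotientGroup.lift ρ.ker ρ le_rfl
  have hσ : ∀ g : G, σ.character (g : G ⧸ ρ.ker) = (χ : G → ℂ) g := by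
    intro g
    rw [← hχ]
    rfl
  refine ⟨ρ.ker, inferInstance, n, σ, quotient_irreducible ρ ρ.ker le_rfl, hker, hσ, ?_⟩
  intro x hx
  obtain ⟨g, rfl⟩ := QuotientGroup.mk_surjective x
  have h1 : σ.character (1 : G ⧸ ρ.ker) = (χ : G → ℂ) 1 := hσ 1
  rw [hσ, h1, ← hker] at hx
  exact (QuotientGroup.eq_one_iff g).2 hx


end Cfsg.Agent.Lib.Helper25
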