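import Mathlib
import Cfsg.Prelude.Def_BlockRank
import Cfsg.Prelude.Def_Transfer
import Cfsg.Agent.Lib.Helper25.CharAbelian
import Cfsg.Agent.S0139

set_option autoImplicit false
set_option linter.deprecated false
open Cfsg

namespace Cfsg.Agent.Lib.Helper25
open scoped ComplexConjugate


theorem two_classes_extract {G : Type*} [Group G] [Finite G] (χ : Cfsg.IrrCharacter G)
    (hχ : Nat.card {C : ConjClasses G // ∃ g ∈ C.carrier, (χ : G → ℂ) g ≠ 0} = 2) :
    ∃ x : G, x ≠ 1 ∧ (χ : G → ℂ) x ≠ 0 ∧ ∀ g : G, (χ : G → ℂ) g ≠ 0 → g = 1 ∨ IsConj x g := by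
  classical
  let c1 : {C : ConjClasses G // ∃ g ∈ C.carrier, (χ : G → ℂ) g ≠ 0} :=
    ⟨ConjClasses.mk 1, 1, ConjClasses.mem_carrier_mk, irr_one_ne_zero χ⟩
  obtain ⟨c2, hc2, huniq⟩ := (Nat.card_eq_two_iff' c1).1 hχ
  obtain ⟨x, hxmem, hx⟩ := c2.2
  have hxc2 : ConjClasses.mk x = c2.1 := ConjClasses.mem_carrier_iff_mk_eq.1 hxmem
  refine ⟨x, ?_, hx, ?_⟩
  · rintro rfl
    apply hc2
    apply Subtype.ext
    exact hxc2.symm
  · intro g hg
    let c : {C : ConjClasses G // ∃ g ∈ C.carrier, (χ : G → ℂ) g ≠ 0} :=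
      ⟨ConjClasses.mk g, g, ConjClasses.mem_carrier_mk, hg⟩
    by_cases hc : c = c1
    · left
      have h1 : ConjClasses.mk g = ConjClasses.mk 1 := congrArg Subtype.val hc
      rw [ConjClasses.mk_eq_mk_iff_isConj] at h1
      exact (isConj_one_left.1 h1)
    · right
      have h2 : c = c2 := huniq c hc
      have h1 : ConjClasses.mk g = c2.1 := congrArg Subtype.val h2
      rw [← hxc2, ConjClasses.mk_eq_mk_iff_isConj] at h1
      exact h1.symm

theorem sum_two_classes {G : Type*} [Group G] [Fintype G] (x : G) (hx : x ≠ 1) (f : G → ℂ)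
    (h0 : ∀ g : G, f g ≠ 0 → g = 1 ∨ IsConj x g) (hc : ∀ g : G, IsConj x g → f g = f x) :
    ∑ g : G, f g = f 1 + (Nat.card {g : G // IsConj x g} : ℂ) * f x := by
  classical
  have hsplit : ∀ g : G, f g = (if g = 1 then f 1 else 0) + (if IsConj x g then f x else 0) := by
    intro g
    by_cases h1 : g = 1
    · subst h1
      have : ¬ IsConj x 1 := fun h => hx (isConj_one_left.1 h)
      rw [if_pos rfl, if_neg this, add_zero]
    · by_cases h2 : IsConj x g
      · rw [if_neg h1, if_pos h2, zero_add, hc g h2]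
      · simp only [h1, h2, if_false, add_zero]
        by_contra hne
        rcases h0 g hne with h | h
        · exact h1 h
        · exact h2 h
  rw [Finset.sum_congr rfl (fun g _ => hsplit g), Finset.sum_add_distrib, Finset.sum_ite_eq',
    if_pos (Finset.mem_univ _), Finset.sum_ite, Finset.sum_const, Finset.sum_const_zero, add_zero,
    nsmul_eq_mul, Nat.card_eq_fintype_card, Fintype.card_subtype]


theorem gagola_ne_triv {G : Type*} [Group G] [Finite G] (hG : 2 < Nat.card G)
    (χ : Cfsg.IrrCharacter G) (x : G) (hx1 : x ≠ 1)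
    (hsupp : ∀ g : G, (χ : G → ℂ) g ≠ 0 → g = 1 ∨ IsConj x g) : χ ≠ trivIrr G := by
  classical
  haveI := Fintype.ofFinite G
  intro h
  have hall : ∀ g : G, g = 1 ∨ IsConj x g := by
    intro g
    apply hsupp
    rw [h, trivIrr_apply]
    exact one_ne_zero
  have hcard : Nat.card {g : G // IsConj x g} + 1 = Nat.card G := by
    have h1 : Nat.card {g : G // IsConj x g} = Nat.card {g : G // g ≠ 1} := by
      apply Nat.card_congr
      refine Equiv.subtypeEquivRight ?_
      intro g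
      constructor
      · intro hc h1
        subst h1
        exact hx1 (isConj_one_left.1 hc)
      · intro h1
        exact (hall g).resolve_left h1
    rw [h1, Nat.card_eq_fintype_card, Nat.card_eq_fintype_card, Fintype.card_subtype_compl,
      Fintype.card_subtype_eq]
    have : 0 < Fintype.card G := Fintype.card_pos
    omega
  have h2 := card_conj_mul_card_centralizer x
  have h3 : Nat.card {g : G // IsConj x g} ∣ Nat.card G := Dvd.intro _ h2
  rw [← hcard] at h3
  have h4 : Nat.card {g : G // IsConj x g} ∣ 1 := (Nat.dvd_add_right dvd_rfl).1 h3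
  have h5 := Nat.dvd_one.1 h4
  omega

theorem gagola_sum_zero {G : Type*} [Group G] [Finite G] (hG : 2 < Nat.card G)
    (χ : Cfsg.IrrCharacter G) (x : G) (hx1 : x ≠ 1)
    (hsupp : ∀ g : G, (χ : G → ℂ) g ≠ 0 → g = 1 ∨ IsConj x g) :
    (χ : G → ℂ) 1 + (Nat.card {g : G // IsConj x g} : ℂ) * (χ : G → ℂ) x = 0 := by
  classical
  haveI := Fintype.ofFinite G
  have hne := gagola_ne_triv hG χ x hx1 hsupp
  have h0 := irr_classInner χ (trivIrr G)
  rw [if_neg hne] at h0
  simp only [Cfsg.classInner, trivIrr_apply, map_one, mul_one] at h0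
  have hcard : (Nat.card G : ℂ) ≠ 0 := by exact_mod_cast Nat.card_pos.ne'
  have h1 : ∑ g : G, (χ : G → ℂ) g = 0 := by
    rcases mul_eq_zero.1 h0 with h | h
    · exact absurd (inv_eq_zero.1 h) hcard
    · exact h
  rw [← h1]
  exact (sum_two_classes x hx1 _ hsupp (fun g hg => (irr_isConj_eq χ hg).symm)).symm

theorem gagola_other_kernel {G : Type*} [Group G] [Finite G] (hG : 2 < Nat.card G)
    (χ : Cfsg.IrrCharacter G) (x : G) (hx1 : x ≠ 1)
    (hsupp : ∀ g : G, (χ : G → ℂ) g ≠ 0 → g = 1 ∨ IsConj x g)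
    (ψ : Cfsg.IrrCharacter G) (hψ : ψ ≠ χ) : (ψ : G → ℂ) x = (ψ : G → ℂ) 1 := by
  classical
  haveI := Fintype.ofFinite G
  have h0 := irr_classInner ψ χ
  rw [if_neg hψ] at h0
  simp only [Cfsg.classInner] at h0
  have hcard : (Nat.card G : ℂ) ≠ 0 := by exact_mod_cast Nat.card_pos.ne'
  have h1 : ∑ g : G, (ψ : G → ℂ) g * conj ((χ : G → ℂ) g) = 0 := by
    rcases mul_eq_zero.1 h0 with h | h
    · exact absurd (inv_eq_zero.1 h) hcard
    · exact h
  have h2 := sum_two_classes x hx1 (fun g => (ψ : G → ℂ) g * conj ((χ : G → ℂ) g))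
    (by
      intro g hg
      apply hsupp
      intro h
      apply hg
      simp only [h, map_zero, mul_zero])
    (by
      intro g hg
      rw [irr_isConj_eq χ hg, irr_isConj_eq ψ hg])
  rw [h1] at h2
  have h3 := gagola_sum_zero hG χ x hx1 hsupp
  obtain ⟨n, hn, hχ1⟩ := irr_one_eq_finrank χ
  have h4 : conj ((χ : G → ℂ) 1) = (χ : G → ℂ) 1 := by rw [hχ1]; simp
  have h5 : (Nat.card {g : G // IsConj x g} : ℂ) * conj ((χ : G → ℂ) x) = - (χ : G → ℂ) 1 := by
    have := congrArg conj h3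
    simp only [map_add, map_mul, Complex.conj_natCast, map_zero, h4] at this
    linear_combination this
  rw [h4] at h2
  have h6 : ((ψ : G → ℂ) 1 - (ψ : G → ℂ) x) * (χ : G → ℂ) 1 = 0 := by
    linear_combination h2.symm - (ψ : G → ℂ) x * h5
  rcases mul_eq_zero.1 h6 with h | h
  · exact (sub_eq_zero.1 h).symm
  · exact absurd h (irr_one_ne_zero χ)


theorem gagola_faithful {G : Type*} [Group G] [Finite G] (hG : 2 < Nat.card G)
    (χ : Cfsg.IrrCharacter G) (x : G) (hx1 : x ≠ 1)
    (hsupp : ∀ g : G, (χ : G → ℂ) g ≠ 0 → g = 1 ∨ IsConj x g) (g : G)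
    (hg : (χ : G → ℂ) g = (χ : G → ℂ) 1) : g = 1 := by
  have hne : (χ : G → ℂ) g ≠ 0 := by rw [hg]; exact irr_one_ne_zero χ
  rcases hsupp g hne with h | h
  · exact h
  · exfalso
    have h3 := gagola_sum_zero hG χ x hx1 hsupp
    rw [← irr_isConj_eq χ h] at hg
    rw [hg] at h3
    obtain ⟨n, hn, hχ1⟩ := irr_one_eq_finrank χ
    rw [hχ1] at h3
    have : ((n + Nat.card {g : G // IsConj x g} * n : ℕ) : ℂ) = 0 := by
      push_cast
      exact h3
    have h4 : n + Nat.card {g : G // IsConj x g} * n = 0 := by exact_mod_cast this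
    omega

noncomputable def irrKer {G : Type*} [Group G] (ψ : Cfsg.IrrCharacter G) : Subgroup G :=
  (Classical.choose (Classical.choose_spec ψ.2)).ker

instance irrKer_normal {G : Type*} [Group G] (ψ : Cfsg.IrrCharacter G) : (irrKer ψ).Normal :=
  MonoidHom.normal_ker _

theorem mem_irrKer {G : Type*} [Group G] [Finite G] (ψ : Cfsg.IrrCharacter G) (g : G) :
    g ∈ irrKer ψ ↔ (ψ : G → ℂ) g = (ψ : G → ℂ) 1 := by
  have hspec := Classical.choose_spec (Classical.choose_spec ψ.2)
  unfold irrKer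
  rw [MonoidHom.mem_ker]
  have h1 := congrFun hspec.2 g
  have h2 := congrFun hspec.2 1
  rw [← h1, ← h2, Representation.char_one, Cfsg.Agent.S0139.result _ g]
  rfl


theorem sum_irr_ne_zero {G : Type*} [Group G] [Fintype (Cfsg.IrrCharacter G)]
    (a : Cfsg.IrrCharacter G → ℂ) (h : ∀ ψ, 0 ≤ (a ψ).re) (h1 : 0 < (a (trivIrr G)).re) :
    ∑ ψ : Cfsg.IrrCharacter G, a ψ ≠ 0 := by
  intro h0
  have h2 : ∑ ψ : Cfsg.IrrCharacter G, (a ψ).re = 0 := by
    rw [← Complex.re_sum, h0, Complex.zero_re]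
  have h3 := (Finset.sum_eq_zero_iff_of_nonneg (fun ψ _ => h ψ)).1 h2 (trivIrr G)
    (Finset.mem_univ _)
  linarith

noncomputable def gagolaN {G : Type*} [Group G] (χ : Cfsg.IrrCharacter G) : Subgroup G :=
  ⨅ ψ : {ψ : Cfsg.IrrCharacter G // ψ ≠ χ}, irrKer ψ.1

instance gagolaN_normal {G : Type*} [Group G] (χ : Cfsg.IrrCharacter G) : (gagolaN χ).Normal :=
  Subgroup.normal_iInf_normal (fun ψ => irrKer_normal ψ.1)

theorem mem_gagolaN {G : Type*} [Group G] [Finite G] (χ : Cfsg.IrrCharacter G) (g : G) :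
    g ∈ gagolaN χ ↔ ∀ ψ : Cfsg.IrrCharacter G, ψ ≠ χ → (ψ : G → ℂ) g = (ψ : G → ℂ) 1 := by
  unfold gagolaN
  rw [Subgroup.mem_iInf]
  constructor
  · intro h ψ hψ
    exact (mem_irrKer ψ g).1 (h ⟨ψ, hψ⟩)
  · intro h ψ
    exact (mem_irrKer ψ.1 g).2 (h ψ.1 ψ.2)

theorem irr_mul_conj_one_re_nonneg {G : Type*} [Group G] (ψ : Cfsg.IrrCharacter G) :
    0 ≤ ((ψ : G → ℂ) 1 * conj ((ψ : G → ℂ) 1)).re := by
  rw [Complex.mul_conj]
  simp only [Complex.ofReal_re]
  exact Complex.normSq_nonneg _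

theorem gagolaN_iff {G : Type*} [Group G] [Finite G] (hG : 2 < Nat.card G)
    (χ : Cfsg.IrrCharacter G) (x : G) (hx1 : x ≠ 1)
    (hsupp : ∀ g : G, (χ : G → ℂ) g ≠ 0 → g = 1 ∨ IsConj x g) (g : G) :
    g ∈ gagolaN χ ↔ g = 1 ∨ IsConj x g := by
  classical
  haveI := Fintype.ofFinite G
  haveI := Fintype.ofFinite (Cfsg.IrrCharacter G)
  constructor
  · intro hg
    rw [mem_gagolaN] at hg
    by_contra hcon
    push Not at hcon
    obtain ⟨hg1, hgx⟩ := hcon
    have hχg : (χ : G → ℂ) g = 0 := by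
      by_contra h
      rcases hsupp g h with h' | h'
      · exact hg1 h'
      · exact hgx h'
    have hcol := irr_column_orthogonality g (1 : G)
    rw [if_neg (fun h => hg1 (isConj_one_right.1 h))] at hcol
    refine sum_irr_ne_zero (fun ψ : Cfsg.IrrCharacter G => (ψ : G → ℂ) g * conj ((ψ : G → ℂ) 1)) ?_ ?_ hcol
    · intro ψ
      by_cases hψ : ψ = χ
      · rw [hψ, hχg, zero_mul]
        simp
      · rw [hg ψ hψ]
        exact irr_mul_conj_one_re_nonneg ψ
    · simp
  · rintro (rfl | h)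
    · exact Subgroup.one_mem _
    · rw [mem_gagolaN]
      intro ψ hψ
      rw [← irr_isConj_eq ψ h]
      exact gagola_other_kernel hG χ x hx1 hsupp ψ hψ


theorem gagola_minimal {G : Type*} [Group G] [Finite G] (hG : 2 < Nat.card G)
    (χ : Cfsg.IrrCharacter G) (x : G) (hx1 : x ≠ 1)
    (hsupp : ∀ g : G, (χ : G → ℂ) g ≠ 0 → g = 1 ∨ IsConj x g)
    (M : Subgroup G) (hM : M.Normal) (hM1 : M ≠ ⊥) : x ∈ M := by
  classical
  haveI := Fintype.ofFinite G
  haveI := Fintype.ofFinite (Cfsg.IrrCharacter G)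
  haveI := hM
  by_contra hxM
  obtain ⟨m, hmM, hm1⟩ : ∃ m ∈ M, m ≠ 1 := by
    obtain ⟨a, ha⟩ := Subgroup.ne_bot_iff_exists_ne_one.1 hM1
    exact ⟨(a : G), a.2, fun h => ha (Subtype.ext h)⟩
  set f : G → ℂ := fun g => if g ∈ M then 1 else 0 with hf
  have hfclass : ∀ g h : G, f (h * g * h⁻¹) = f g := by
    intro g h
    simp only [hf]
    have : h * g * h⁻¹ ∈ M ↔ g ∈ M := by
      constructor
      · intro h1
        have := hM.conj_mem _ h1 h⁻¹
        simpa [mul_assoc] using this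
      · intro h1
        exact hM.conj_mem _ h1 h
    simp only [this]
  have hfcoset : ∀ y : G, ∀ n ∈ M, f (y * n) = f y := by
    intro y n hn
    simp only [hf]
    have : y * n ∈ M ↔ y ∈ M := by
      constructor
      · intro h1
        have := M.mul_mem h1 (M.inv_mem hn)
        simpa using this
      · intro h1
        exact M.mul_mem h1 hn
    simp only [this]
  have hexp := congrFun (classFunction_expansion f hfclass) x
  rw [Finset.sum_apply] at hexp
  have hfx : f x = 0 := by simp only [hf, if_neg hxM]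
  rw [hfx] at hexp
  refine sum_irr_ne_zero
    (fun ψ : Cfsg.IrrCharacter G => (Cfsg.classInner f (ψ : G → ℂ) • (ψ : G → ℂ)) x) ?_ ?_ hexp.symm
  · intro ψ
    by_cases hψ : ∃ n ∈ M, (ψ : G → ℂ) n ≠ (ψ : G → ℂ) 1
    · rw [Pi.smul_apply, classInner_eq_zero_of_coset_const ψ M hψ f hfcoset, zero_smul]
      simp
    · push Not at hψ
      have hψχ : ψ ≠ χ := by
        rintro rfl
        exact hm1 (gagola_faithful hG ψ x hx1 hsupp m (hψ m hmM))
      rw [Pi.smul_apply, gagola_other_kernel hG χ x hx1 hsupp ψ hψχ, smul_eq_mul]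
      have hinner : Cfsg.classInner f (ψ : G → ℂ) =
          (Nat.card G : ℂ)⁻¹ * ((Nat.card M : ℂ) * conj ((ψ : G → ℂ) 1)) := by
        simp only [Cfsg.classInner]
        congr 1
        have : ∀ g : G, f g * conj ((ψ : G → ℂ) g) =
            if g ∈ M then conj ((ψ : G → ℂ) 1) else 0 := by
          intro g
          simp only [hf]
          by_cases hg : g ∈ M
          · rw [if_pos hg, if_pos hg, one_mul, hψ g hg]
          · rw [if_neg hg, if_neg hg, zero_mul]
        rw [Finset.sum_congr rfl (fun g _ => this g), Finset.sum_ite, Finset.sum_const,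
          Finset.sum_const_zero, add_zero, nsmul_eq_mul]
        congr 2
        rw [Nat.card_eq_fintype_card, Fintype.card_subtype]
      rw [hinner]
      have hpos : (0 : ℝ) ≤ (Nat.card G : ℝ)⁻¹ * (Nat.card M : ℝ) := by positivity
      have : (Nat.card G : ℂ)⁻¹ * ((Nat.card M : ℂ) * conj ((ψ : G → ℂ) 1)) * (ψ : G → ℂ) 1 =
          (((Nat.card G : ℝ)⁻¹ * (Nat.card M : ℝ) : ℝ) : ℂ) *
            ((ψ : G → ℂ) 1 * conj ((ψ : G → ℂ) 1)) := by
        push_cast
        ring
      rw [this, Complex.re_ofReal_mul]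
      exact mul_nonneg hpos (irr_mul_conj_one_re_nonneg ψ)
  · have hψ : ∀ n ∈ M, (trivIrr G : G → ℂ) n = (trivIrr G : G → ℂ) 1 := fun n _ => rfl
    rw [Pi.smul_apply, trivIrr_apply, smul_eq_mul, mul_one]
    have hinner : Cfsg.classInner f (trivIrr G : G → ℂ) =
        (Nat.card G : ℂ)⁻¹ * (Nat.card M : ℂ) := by
      simp only [Cfsg.classInner, trivIrr_apply, map_one, mul_one]
      congr 1
      simp only [hf]
      rw [Finset.sum_ite, Finset.sum_const, Finset.sum_const_zero, add_zero, nsmul_eq_mul, mul_one]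
      congr 1
      rw [Nat.card_eq_fintype_card, Fintype.card_subtype]
    rw [hinner]
    have : (Nat.card G : ℂ)⁻¹ * (Nat.card M : ℂ) =
        (((Nat.card G : ℝ)⁻¹ * (Nat.card M : ℝ) : ℝ) : ℂ) := by push_cast; ring
    rw [this, Complex.ofReal_re]
    have h1 : (0 : ℝ) < (Nat.card G : ℝ) := by exact_mod_cast Nat.card_pos
    have h2 : (0 : ℝ) < (Nat.card M : ℝ) := by exact_mod_cast Nat.card_pos
    positivity


theorem elemAb_of_conj_transitive {G : Type*} [Group G] [Finite G] (N : Subgroup G) [hN : N.Normal]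
    (x : G) (hxN : x ∈ N) (hx1 : x ≠ 1) (h : ∀ g ∈ N, g = 1 ∨ IsConj x g) :
    ∃ p : ℕ, p.Prime ∧ Cfsg.IsElementaryAbelian p N := by
  have hm0 : orderOf x ≠ 0 := (orderOf_pos x).ne'
  have hm1 : orderOf x ≠ 1 := fun h => hx1 (orderOf_eq_one_iff.1 h)
  set p := (orderOf x).minFac with hp
  have hpp : p.Prime := Nat.minFac_prime hm1
  have hpd : p ∣ orderOf x := Nat.minFac_dvd _
  haveI : Fact p.Prime := ⟨hpp⟩
  have hconj_pow : ∀ g : G, IsConj x g → g ^ orderOf x = 1 := by
    intro g hg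
    obtain ⟨c, hc⟩ := isConj_iff.1 hg
    rw [← hc, conj_pow, pow_orderOf_eq_one, mul_one, mul_inv_cancel]
  have hordx : orderOf x = p := by
    set y := x ^ (orderOf x / p) with hy
    have hyord : orderOf y = p := orderOf_pow_orderOf_div hm0 hpd
    have hyN : y ∈ N := N.pow_mem hxN _
    have hy1 : y ≠ 1 := by
      intro h1
      rw [h1, orderOf_one] at hyord
      exact hpp.ne_one hyord.symm
    have hxy : IsConj x y := (h y hyN).resolve_left hy1
    obtain ⟨c, hc⟩ := isConj_iff.1 hxy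
    have hxp : x ^ p = 1 := by
      have h1 : y ^ p = 1 := by rw [← hyord]; exact pow_orderOf_eq_one y
      rw [← hc, conj_pow] at h1
      have h2 : x ^ p = c⁻¹ * (c * x ^ p * c⁻¹) * c := by group
      rw [h2, h1]
      group
    have h3 : orderOf x ∣ p := orderOf_dvd_of_pow_eq_one hxp
    rcases (Nat.dvd_prime hpp).1 h3 with h4 | h4
    · exact absurd h4 hm1
    · exact h4
  have hpow : ∀ a ∈ N, a ^ p = 1 := by
    intro a ha
    rcases h a ha with rfl | hc
    · exact one_pow _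
    · rw [← hordx]
      exact hconj_pow a hc
  refine ⟨p, hpp, ?_, hpow⟩
  have hPG : IsPGroup p N := by
    intro g
    refine ⟨1, ?_⟩
    rw [pow_one]
    apply Subtype.ext
    rw [Subgroup.coe_pow]
    exact hpow g g.2
  haveI : Nontrivial N := ⟨⟨⟨x, hxN⟩, 1, fun h => hx1 (congrArg Subtype.val h)⟩⟩
  haveI : Nontrivial (Subgroup.center N) := hPG.center_nontrivial
  obtain ⟨z, hz⟩ := exists_ne (1 : Subgroup.center N)
  have hz1 : ((z : N) : G) ≠ 1 := by
    intro h1
    apply hz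
    apply Subtype.ext
    apply Subtype.ext
    exact h1
  have hzcent : ∀ b : N, b * (z : N) = (z : N) * b := by
    intro b
    exact (Subgroup.mem_center_iff.1 z.2 b)
  have hxz : IsConj x ((z : N) : G) := (h _ (z : N).2).resolve_left hz1
  have hcomm : ∀ a b : N, a * b = b * a := by
    intro a b
    by_cases ha1 : (a : G) = 1
    · have : a = 1 := Subtype.ext ha1
      rw [this, one_mul, mul_one]
    · have hxa : IsConj x (a : G) := (h _ a.2).resolve_left ha1
      have hza : IsConj ((z : N) : G) (a : G) := hxz.symm.trans hxa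
      obtain ⟨c, hc⟩ := isConj_iff.1 hza
      apply Subtype.ext
      rw [Subgroup.coe_mul, Subgroup.coe_mul]
      have hb' : c⁻¹ * (b : G) * c ∈ N := by
        have := hN.conj_mem _ b.2 c⁻¹
        rw [inv_inv] at this
        exact this
      have h1 := congrArg Subtype.val (hzcent ⟨c⁻¹ * (b : G) * c, hb'⟩)
      simp only [Subgroup.coe_mul] at h1
      rw [← hc]
      calc c * ((z : N) : G) * c⁻¹ * (b : G)
          = c * (((z : N) : G) * (c⁻¹ * (b : G) * c)) * c⁻¹ := by group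
        _ = c * ((c⁻¹ * (b : G) * c) * ((z : N) : G)) * c⁻¹ := by rw [← h1]
        _ = (b : G) * (c * ((z : N) : G) * c⁻¹) := by group
  exact ⟨⟨fun a b => hcomm a b⟩⟩


end Cfsg.Agent.Lib.Helper25
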