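import Mathlib
import Cfsg.Prelude.Def_Blocks
import Cfsg.Agent.Lib.helper7.BlockEval
import Cfsg.Agent.Lib.helper7.BlockCover2
import Cfsg.Agent.Lib.Helper25.CharLinear

/-!
The defect groups of the principal block are the Sylow `p`-subgroups (S4652).
-/

set_option autoImplicit false

namespace Cfsg.Agent.Lib.Helper25
open Cfsg.Agent.Lib.helper7
open scoped ComplexConjugate Pointwise

/-- the principal block is the block of the trivial character -/
theorem pb_principal_eq {G : Type*} [Group G] (M : Ideal Cfsg.AlgInt) :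
    Cfsg.principalBlock M G = Cfsg.blockOf M ((trivIrr G : Cfsg.IrrCharacter G) : G → ℂ) := rfl

theorem pb_centralChar_triv {G : Type*} [Group G] (g : G) :
    Cfsg.centralChar (fun _ : G => (1 : ℂ)) g =
      (((Subgroup.centralizer ({g} : Set G)).index : Cfsg.AlgInt) : ℂ) := by
  unfold Cfsg.centralChar
  simp

/-- a defect class of the principal block has centralizer of index prime to `p` -/
theorem pb_not_dvd_index {G : Type*} [Group G] [Fintype G] (p : ℕ) [Fact p.Prime]
    (M : Ideal Cfsg.AlgInt) (hM : Cfsg.IsPModular p M) (g : G)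
    (hg : Cfsg.IsDefectClass M (Cfsg.principalBlock M G) g) :
    ¬ p ∣ (Subgroup.centralizer ({g} : Set G)).index := by
  intro hdvd
  haveI : Fintype (Cfsg.IrrCharacter G) := Fintype.ofFinite _
  have hMp := h7_isPrime_of_isPModular hM
  have h1 : trivIrr G ∈ Cfsg.principalBlock M G := h7_sameBlock_refl hMp _
  apply hg.2.2 (trivIrr G) h1
  have h2 : ((trivIrr G : Cfsg.IrrCharacter G) : G → ℂ) = fun _ => 1 := rfl
  rw [h2, pb_centralChar_triv]
  apply h7_memLocalIdeal_of_mem hMp
  obtain ⟨k, hk⟩ := hdvd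
  rw [hk]
  push_cast
  exact M.mul_mem_right _ hM.2.2

/-- Sylow subgroups of a centralizer of index prime to `p` are Sylow in `G` -/
theorem pb_sylow_of_centralizer {G : Type*} [Group G] [Finite G] (p : ℕ) [Fact p.Prime] (g : G)
    (hidx : ¬ p ∣ (Subgroup.centralizer ({g} : Set G)).index)
    (P : Sylow p (Subgroup.centralizer ({g} : Set G))) :
    ∃ S : Sylow p G, (S : Subgroup G) =
      (P : Subgroup (Subgroup.centralizer ({g} : Set G))).map
        (Subgroup.centralizer ({g} : Set G)).subtype := by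
  have hp : IsPGroup p ((P : Subgroup (Subgroup.centralizer ({g} : Set G))).map
      (Subgroup.centralizer ({g} : Set G)).subtype) := P.isPGroup'.map _
  have hi : ¬ p ∣ ((P : Subgroup (Subgroup.centralizer ({g} : Set G))).map
      (Subgroup.centralizer ({g} : Set G)).subtype).index := by
    rw [Subgroup.index_map_subtype]
    intro h
    rcases (Nat.Prime.dvd_mul (Fact.out : p.Prime)).mp h with h | h
    · exact P.not_dvd_index h
    · exact hidx h
  exact ⟨hp.toSylow hi, IsPGroup.toSylow_coe hp hi⟩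

theorem pb_irr_conj {G : Type*} [Group G] (χ : Cfsg.IrrCharacter G) (x g : G) :
    (χ : G → ℂ) (x * g * x⁻¹) = (χ : G → ℂ) g :=
  h7_irr_isClassFunction χ.2 g x

theorem pb_defectClass_conj {G : Type*} [Group G] [Fintype G] (M : Ideal Cfsg.AlgInt)
    (B : Set (Cfsg.IrrCharacter G)) (g x : G) (hg : Cfsg.IsDefectClass M B g) :
    Cfsg.IsDefectClass M B (x * g * x⁻¹) := by
  have h1 : Cfsg.blockCoeff B (x * g * x⁻¹) = Cfsg.blockCoeff B g := by
    unfold Cfsg.blockCoeff
    congr 1
    apply finsum_mem_congr rfl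
    intro χ _
    rw [pb_irr_conj]
  have h2 : ∀ χ : Cfsg.IrrCharacter G, Cfsg.centralChar (χ : G → ℂ) (x * g * x⁻¹) =
      Cfsg.centralChar (χ : G → ℂ) g := by
    intro χ
    unfold Cfsg.centralChar
    rw [pb_irr_conj]
    have := h7_index_centralizer_equiv (MulAut.conj x) g
    rw [MulAut.conj_apply] at this
    rw [this]
  refine ⟨?_, ?_, ?_⟩
  · rw [h1]; exact hg.1
  · rw [h1]; exact hg.2.1
  · intro χ hχ
    rw [h2]
    exact hg.2.2 χ hχ

theorem pb_main {G : Type*} [Group G] [Fintype G] (p : ℕ) [Fact p.Prime] (M : Ideal Cfsg.AlgInt)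
    (hM : Cfsg.IsPModular p M) (D : Subgroup G) :
    Cfsg.IsDefectGroup p M (Cfsg.principalBlock M G) D ↔
      ∃ S : Sylow p G, (S : Subgroup G) = D := by
  classical
  haveI : Fintype (Cfsg.IrrCharacter G) := Fintype.ofFinite _
  have hMp := h7_isPrime_of_isPModular hM
  constructor
  · rintro ⟨g, hg, P, hD⟩
    obtain ⟨S, hS⟩ := pb_sylow_of_centralizer p g (pb_not_dvd_index p M hM g hg) P
    exact ⟨S, by rw [hS, hD]⟩
  · rintro ⟨S, rfl⟩
    obtain ⟨g₀, hg₀⟩ := h7_exists_defect_class hMp (trivIrr G)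
    rw [← pb_principal_eq] at hg₀
    have hidx := pb_not_dvd_index p M hM g₀ hg₀
    obtain ⟨P₀⟩ : Nonempty (Sylow p (Subgroup.centralizer ({g₀} : Set G))) := inferInstance
    obtain ⟨S₀, hS₀⟩ := pb_sylow_of_centralizer p g₀ hidx P₀
    obtain ⟨x, hx⟩ := MulAction.exists_smul_eq G S₀ S
    have hmem : ∀ s ∈ (S : Subgroup G), x⁻¹ * s * x ∈ Subgroup.centralizer ({g₀} : Set G) := by
      intro s hs
      rw [← hx, Sylow.coe_subgroup_smul, Subgroup.mem_smul_pointwise_iff_exists] at hs
      obtain ⟨t, ht, rfl⟩ := hs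
      rw [MulAut.smul_def, MulAut.conj_apply]
      have : x⁻¹ * (x * t * x⁻¹) * x = t := by group
      rw [this]
      rw [hS₀] at ht
      obtain ⟨u, _, rfl⟩ := ht
      exact u.2
    refine ⟨x * g₀ * x⁻¹, pb_defectClass_conj M _ g₀ x hg₀, ?_⟩
    have hle : (S : Subgroup G) ≤ Subgroup.centralizer ({x * g₀ * x⁻¹} : Set G) := by
      intro s hs
      have h1 := hmem s hs
      rw [Subgroup.mem_centralizer_iff] at h1 ⊢
      intro y hy
      rw [Set.mem_singleton_iff] at hy
      subst hy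
      have h2 := h1 g₀ rfl
      have h3 : x * (g₀ * (x⁻¹ * s * x)) * x⁻¹ = x * ((x⁻¹ * s * x) * g₀) * x⁻¹ := by rw [h2]
      calc x * g₀ * x⁻¹ * s = x * (g₀ * (x⁻¹ * s * x)) * x⁻¹ := by group
        _ = x * ((x⁻¹ * s * x) * g₀) * x⁻¹ := h3
        _ = s * (x * g₀ * x⁻¹) := by group
    have hp : IsPGroup p ((S : Subgroup G).subgroupOf
        (Subgroup.centralizer ({x * g₀ * x⁻¹} : Set G))) :=
      S.isPGroup'.comap_of_injective _ (Subgroup.subtype_injective _)
    have hi : ¬ p ∣ ((S : Subgroup G).subgroupOf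
        (Subgroup.centralizer ({x * g₀ * x⁻¹} : Set G))).index := by
      intro h
      apply S.not_dvd_index
      rw [← Subgroup.relIndex_mul_index hle]
      exact Dvd.dvd.mul_right h _
    refine ⟨hp.toSylow hi, ?_⟩
    rw [IsPGroup.toSylow_coe, Subgroup.subgroupOf_map_subtype, inf_eq_left.mpr hle]

end Cfsg.Agent.Lib.Helper25
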