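import Mathlib
import Cfsg.Prelude.Def_BlockRank
import Cfsg.Agent.Lib.Helper25.CharAbelian

set_option autoImplicit false
set_option linter.deprecated false
open Cfsg

namespace Cfsg.Agent.Lib.Helper25
open scoped ComplexConjugate


theorem inv_sum_zero {G : Type*} [Group G] [Fintype G] [Fintype (Cfsg.IrrCharacter G)]
    (x : G) (hx : x * x = 1) (z : G)
    (hz : ∀ g : G, IsConj x g → g * z * g⁻¹ ≠ z⁻¹) :
    ∑ χ : Cfsg.IrrCharacter G,
      (χ : G → ℂ) x * (χ : G → ℂ) x * conj ((χ : G → ℂ) z) / (χ : G → ℂ) 1 = 0 := by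
  classical
  have hne : (Nat.card G : ℂ) ≠ 0 := by exact_mod_cast Nat.card_pos.ne'
  have hnoconj : ∀ a b : G, ¬ IsConj z (a * x * a⁻¹ * (b * x * b⁻¹)) := by
    intro a b hc
    obtain ⟨h, hh⟩ := isConj_iff.1 hc
    set u := a * x * a⁻¹ with hu
    set v := b * x * b⁻¹ with hv
    have huu : u * u = 1 := by
      rw [hu]
      calc a * x * a⁻¹ * (a * x * a⁻¹) = a * (x * x) * a⁻¹ := by group
        _ = 1 := by rw [hx]; group
    have hvv : v * v = 1 := by
      rw [hv]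
      calc b * x * b⁻¹ * (b * x * b⁻¹) = b * (x * x) * b⁻¹ := by group
        _ = 1 := by rw [hx]; group
    have huinv : u⁻¹ = u := inv_eq_of_mul_eq_one_right huu
    have hvinv : v⁻¹ = v := inv_eq_of_mul_eq_one_right hvv
    apply hz (h⁻¹ * u * h)
    · have : IsConj x u := isConj_iff.2 ⟨a, rfl⟩
      refine this.trans (isConj_iff.2 ⟨h⁻¹, ?_⟩)
      rw [inv_inv]
    · have h1 : z = h⁻¹ * (u * v) * h := by rw [← hh]; group
      have h2 : z⁻¹ = h⁻¹ * (v * u) * h := by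
        rw [h1]
        simp only [mul_inv_rev, inv_inv, huinv, hvinv]
        group
      rw [h2]
      conv_lhs => rw [h1]
      calc h⁻¹ * u * h * (h⁻¹ * (u * v) * h) * (h⁻¹ * u * h)⁻¹
          = h⁻¹ * ((u * u) * v * u⁻¹) * h := by group
        _ = h⁻¹ * (v * u) * h := by rw [huu, huinv, one_mul]
  have key : ∑ a : G, ∑ b : G, ∑ χ : Cfsg.IrrCharacter G,
      (χ : G → ℂ) (a * x * a⁻¹ * (b * x * b⁻¹)) * conj ((χ : G → ℂ) z) = 0 := by
    refine Finset.sum_eq_zero fun a _ => Finset.sum_eq_zero fun b _ => ?_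
    rw [irr_column_orthogonality, if_neg (hnoconj a b)]
  have key2 : ∑ a : G, ∑ b : G, ∑ χ : Cfsg.IrrCharacter G,
      (χ : G → ℂ) (a * x * a⁻¹ * (b * x * b⁻¹)) * conj ((χ : G → ℂ) z) =
      (Nat.card G : ℂ) ^ 2 * ∑ χ : Cfsg.IrrCharacter G,
        (χ : G → ℂ) x * (χ : G → ℂ) x * conj ((χ : G → ℂ) z) / (χ : G → ℂ) 1 := by
    have : ∀ a : G, ∑ b : G, ∑ χ : Cfsg.IrrCharacter G,
        (χ : G → ℂ) (a * x * a⁻¹ * (b * x * b⁻¹)) * conj ((χ : G → ℂ) z) =
        ∑ χ : Cfsg.IrrCharacter G, ∑ b : G,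
        (χ : G → ℂ) (a * x * a⁻¹ * (b * x * b⁻¹)) * conj ((χ : G → ℂ) z) := fun a =>
      Finset.sum_comm
    simp_rw [this]
    rw [Finset.sum_comm, Finset.mul_sum]
    refine Finset.sum_congr rfl fun χ _ => ?_
    simp_rw [← Finset.sum_mul]
    rw [irr_sum_conj_conj]
    ring
  rw [key2] at key
  rcases mul_eq_zero.1 key with h | h
  · exact absurd ((pow_eq_zero_iff (two_ne_zero)).1 h) hne
  · exact h


theorem centralizer_formula {G : Type*} [Group G] [Fintype G] [Fintype (Cfsg.IrrCharacter G)]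
    (x : G) (hx : x * x = 1) (P : Subgroup G) [Fintype P]
    (hinv : ∀ g : G, IsConj x g → ∀ z ∈ P, z ≠ 1 → g * z * g⁻¹ ≠ z⁻¹)
    (k : Cfsg.IrrCharacter G → ℕ)
    (hk : ∀ χ : Cfsg.IrrCharacter G, ∑ z : P, (χ : G → ℂ) (z : G) = (Nat.card P : ℂ) * k χ) :
    (Nat.card (Subgroup.centralizer ({x} : Set G)) : ℂ) =
      ∑ χ : Cfsg.IrrCharacter G,
        (χ : G → ℂ) x * (χ : G → ℂ) x * ((Nat.card P : ℂ) * k χ) / (χ : G → ℂ) 1 := by
  classical
  have hxinv : x⁻¹ = x := inv_eq_of_mul_eq_one_right hx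
  have hS : ∀ z : P, (∑ χ : Cfsg.IrrCharacter G,
      (χ : G → ℂ) x * (χ : G → ℂ) x * conj ((χ : G → ℂ) (z : G)) / (χ : G → ℂ) 1) =
      if z = 1 then (Nat.card (Subgroup.centralizer ({x} : Set G)) : ℂ) else 0 := by
    intro z
    by_cases hz : z = 1
    · rw [if_pos hz, hz]
      have hcol := irr_column_orthogonality x x
      rw [if_pos (IsConj.refl x)] at hcol
      rw [← hcol]
      refine Finset.sum_congr rfl fun χ _ => ?_
      obtain ⟨n, hn, h1⟩ := irr_one_eq_finrank χ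
      have hne := irr_one_ne_zero χ
      have hc1 : conj ((χ : G → ℂ) 1) = (χ : G → ℂ) 1 := by rw [h1]; simp
      have hcx : conj ((χ : G → ℂ) x) = (χ : G → ℂ) x := by rw [← irr_inv, hxinv]
      rw [OneMemClass.coe_one, hc1, hcx]
      field_simp
    · rw [if_neg hz]
      apply inv_sum_zero x hx
      intro g hg
      exact hinv g hg z z.2 (fun h => hz (Subtype.ext h))
  have h1 : ∑ z : P, (∑ χ : Cfsg.IrrCharacter G,
      (χ : G → ℂ) x * (χ : G → ℂ) x * conj ((χ : G → ℂ) (z : G)) / (χ : G → ℂ) 1) =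
      (Nat.card (Subgroup.centralizer ({x} : Set G)) : ℂ) := by
    simp_rw [hS]
    rw [Finset.sum_ite_eq' Finset.univ (1 : P), if_pos (Finset.mem_univ _)]
  rw [← h1, Finset.sum_comm]
  refine Finset.sum_congr rfl fun χ _ => ?_
  have h2 : ∑ z : P, conj ((χ : G → ℂ) (z : G)) = (Nat.card P : ℂ) * k χ := by
    rw [← map_sum, hk]
    simp
  rw [← h2, Finset.mul_sum, Finset.sum_div]


end Cfsg.Agent.Lib.Helper25
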