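import Mathlib
import Cfsg.Prelude.Def_BlockRank
import Cfsg.Agent.Lib.Helper25.CharInvol
import Cfsg.Agent.Lib.helper2.CharInt

set_option autoImplicit false
set_option linter.deprecated false
open Cfsg

namespace Cfsg.Agent.Lib.Helper25
open scoped ComplexConjugate


theorem arith_core {ι : Type*} [Fintype ι] (p : ℕ) (hpp : p.Prime) (d k : ι → ℕ) (α : ι → ℂ)
    (hd0 : ∀ i, 0 < d i) (hα : ∀ i, IsIntegral ℤ (α i)) (c e C : ℕ)
    (hv : ∀ i, (d i).factorization p + e ≤ c)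
    (hform : (C : ℂ) = ∑ i, α i * (((p ^ c : ℕ) : ℂ) * k i) / (d i : ℂ)) : p ^ e ∣ C := by
  classical
  by_cases hemp : IsEmpty ι
  · have : (C : ℂ) = 0 := by
      rw [hform]
      exact Finset.sum_eq_zero (fun i _ => (hemp.false i).elim)
    have : C = 0 := by exact_mod_cast this
    rw [this]
    exact dvd_zero _
  rw [not_isEmpty_iff] at hemp
  obtain ⟨i₀⟩ := hemp
  have hec : e ≤ c := le_trans (Nat.le_add_left _ _) (hv i₀)
  set T : ℕ := ∏ i : ι, ordCompl[p] (d i) with hT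
  have hTcop : Nat.Coprime p T := by
    apply Nat.Coprime.prod_right
    intro i _
    exact Nat.coprime_ordCompl hpp (hd0 i).ne'
  have hdvd : ∀ i, d i ∣ p ^ (c - e) * T := by
    intro i
    have h1 : ordProj[p] (d i) * ordCompl[p] (d i) = d i := Nat.ordProj_mul_ordCompl_eq_self _ _
    rw [← h1]
    apply Nat.mul_dvd_mul
    · apply pow_dvd_pow p
      have := hv i
      omega
    · exact Finset.dvd_prod_of_mem _ (Finset.mem_univ i)
  choose m hm using hdvd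
  have hkey : ((T * C : ℕ) : ℂ) / ((p ^ e : ℕ) : ℂ) =
      ∑ i : ι, α i * ((k i : ℂ) * (m i : ℂ)) := by
    have hpne : ((p ^ e : ℕ) : ℂ) ≠ 0 := by
      exact_mod_cast (pow_pos hpp.pos _).ne'
    rw [div_eq_iff hpne]
    push_cast
    rw [hform, Finset.mul_sum, Finset.sum_mul]
    refine Finset.sum_congr rfl fun i _ => ?_
    have hne : (d i : ℂ) ≠ 0 := by exact_mod_cast (hd0 i).ne'
    have h2 : ((p ^ (c - e) * T : ℕ) : ℂ) = ((d i * m i : ℕ) : ℂ) := by rw [hm i]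
    push_cast at h2
    have h3 : (p : ℂ) ^ c = (p : ℂ) ^ e * (p : ℂ) ^ (c - e) := by
      rw [← pow_add]
      congr 1
      omega
    field_simp
    push_cast
    rw [h3]
    linear_combination α i * (k i : ℂ) * (p : ℂ) ^ e * h2
  have hint : IsIntegral ℤ (((T * C : ℕ) : ℂ) / ((p ^ e : ℕ) : ℂ)) := by
    rw [hkey]
    apply IsIntegral.sum
    intro i _
    have hk' : IsIntegral ℤ ((k i : ℂ)) := by
      have := isIntegral_algebraMap (R := ℤ) (A := ℂ) (x := (k i : ℤ))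
      simpa using this
    have hm' : IsIntegral ℤ ((m i : ℂ)) := by
      have := isIntegral_algebraMap (R := ℤ) (A := ℂ) (x := (m i : ℤ))
      simpa using this
    exact (hα i).mul (hk'.mul hm')
  have hdv := Cfsg.Agent.Lib.helper2.nat_dvd_of_isIntegral_div (T * C) (p ^ e)
    (pow_pos hpp.pos _).ne' hint
  apply Nat.Coprime.dvd_of_dvd_mul_left _ hdv
  exact Nat.Coprime.pow_left _ hTcop


theorem class_prod_sum_zero {G : Type*} [Group G] [Fintype G] [Fintype (Cfsg.IrrCharacter G)]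
    (y z u : G) (hnoconj : ∀ a b : G, ¬ IsConj u (a * y * a⁻¹ * (b * z * b⁻¹))) :
    ∑ χ : Cfsg.IrrCharacter G,
      (χ : G → ℂ) y * (χ : G → ℂ) z * conj ((χ : G → ℂ) u) / (χ : G → ℂ) 1 = 0 := by
  classical
  have hne : (Nat.card G : ℂ) ≠ 0 := by exact_mod_cast Nat.card_pos.ne'
  have key : ∑ a : G, ∑ b : G, ∑ χ : Cfsg.IrrCharacter G,
      (χ : G → ℂ) (a * y * a⁻¹ * (b * z * b⁻¹)) * conj ((χ : G → ℂ) u) = 0 := by
    refine Finset.sum_eq_zero fun a _ => Finset.sum_eq_zero fun b _ => ?_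
    rw [irr_column_orthogonality, if_neg (hnoconj a b)]
  have key2 : ∑ a : G, ∑ b : G, ∑ χ : Cfsg.IrrCharacter G,
      (χ : G → ℂ) (a * y * a⁻¹ * (b * z * b⁻¹)) * conj ((χ : G → ℂ) u) =
      (Nat.card G : ℂ) ^ 2 * ∑ χ : Cfsg.IrrCharacter G,
        (χ : G → ℂ) y * (χ : G → ℂ) z * conj ((χ : G → ℂ) u) / (χ : G → ℂ) 1 := by
    have : ∀ a : G, ∑ b : G, ∑ χ : Cfsg.IrrCharacter G,
        (χ : G → ℂ) (a * y * a⁻¹ * (b * z * b⁻¹)) * conj ((χ : G → ℂ) u) =
        ∑ χ : Cfsg.IrrCharacter G, ∑ b : G,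
        (χ : G → ℂ) (a * y * a⁻¹ * (b * z * b⁻¹)) * conj ((χ : G → ℂ) u) := fun a =>
      Finset.sum_comm
    simp_rw [this]
    rw [Finset.sum_comm, Finset.mul_sum]
    refine Finset.sum_congr rfl fun χ _ => ?_
    simp_rw [← Finset.sum_mul]
    rw [irr_sum_conj_conj]
    ring
  rw [key2] at key
  rcases mul_eq_zero.1 key with h | h
  · exact absurd ((pow_eq_zero_iff (two_ne_zero)).1 h) hne
  · exact h

theorem centralizer_formula' {G : Type*} [Group G] [Fintype G] [Fintype (Cfsg.IrrCharacter G)]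
    (z : G) (P : Subgroup G) [Fintype P]
    (hno : ∀ u ∈ P, u ≠ 1 → ∀ a b : G, ¬ IsConj u (a * z * a⁻¹ * (b * z⁻¹ * b⁻¹)))
    (k : Cfsg.IrrCharacter G → ℕ)
    (hk : ∀ χ : Cfsg.IrrCharacter G, ∑ u : P, (χ : G → ℂ) (u : G) = (Nat.card P : ℂ) * k χ) :
    (Nat.card (Subgroup.centralizer ({z} : Set G)) : ℂ) =
      ∑ χ : Cfsg.IrrCharacter G,
        (χ : G → ℂ) z * conj ((χ : G → ℂ) z) * ((Nat.card P : ℂ) * k χ) / (χ : G → ℂ) 1 := by
  classical
  have hS : ∀ u : P, (∑ χ : Cfsg.IrrCharacter G,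
      (χ : G → ℂ) z * (χ : G → ℂ) z⁻¹ * conj ((χ : G → ℂ) (u : G)) / (χ : G → ℂ) 1) =
      if u = 1 then (Nat.card (Subgroup.centralizer ({z} : Set G)) : ℂ) else 0 := by
    intro u
    by_cases hu : u = 1
    · rw [if_pos hu, hu]
      have hcol := irr_column_orthogonality z z
      rw [if_pos (IsConj.refl z)] at hcol
      rw [← hcol]
      refine Finset.sum_congr rfl fun χ _ => ?_
      obtain ⟨n, hn, h1⟩ := irr_one_eq_finrank χ
      have hne := irr_one_ne_zero χ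
      have hc1 : conj ((χ : G → ℂ) 1) = (χ : G → ℂ) 1 := by rw [h1]; simp
      rw [OneMemClass.coe_one, hc1, irr_inv]
      field_simp
    · rw [if_neg hu]
      apply class_prod_sum_zero z z⁻¹ u
      exact hno u u.2 (fun h => hu (Subtype.ext h))
  have h1 : ∑ u : P, (∑ χ : Cfsg.IrrCharacter G,
      (χ : G → ℂ) z * (χ : G → ℂ) z⁻¹ * conj ((χ : G → ℂ) (u : G)) / (χ : G → ℂ) 1) =
      (Nat.card (Subgroup.centralizer ({z} : Set G)) : ℂ) := by
    simp_rw [hS]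
    rw [Finset.sum_ite_eq' Finset.univ (1 : P), if_pos (Finset.mem_univ _)]
  rw [← h1, Finset.sum_comm]
  refine Finset.sum_congr rfl fun χ _ => ?_
  have h2 : ∑ u : P, conj ((χ : G → ℂ) (u : G)) = (Nat.card P : ℂ) * k χ := by
    rw [← map_sum, hk]
    simp
  rw [← h2, Finset.mul_sum, Finset.sum_div, irr_inv]


end Cfsg.Agent.Lib.Helper25
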