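import Mathlib
import Cfsg.Agent.Lib.Helper25.CharClassProd

/-!
Counting 2-defect-zero characters against classes of elements of order 3 normalizing no
nontrivial 2-subgroup (class-product counting mod 2 plus a rank bound over the algebraic
integers modulo 2).
-/

set_option autoImplicit false
set_option linter.deprecated false

namespace Cfsg.Agent.Lib.Helper25
open scoped Pointwise ComplexConjugate


theorem klein_four_lemma {G : Type*} [Group G] (x y : G) (hx3 : x * x * x = 1)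
    (hy2 : y * y = 1) (hyx : (y * x) * (y * x) * (y * x) = 1)
    (hno : ∀ Q : Subgroup G, IsPGroup 2 ↥Q → x ∈ Subgroup.normalizer (Q : Set G) → Q = ⊥) :
    y = 1 := by
  have hxinv : x⁻¹ = x * x := by
    rw [inv_eq_iff_mul_eq_one, ← mul_assoc]; exact hx3
  set y₁ := y with hy₁
  set y₂ := x * y * x⁻¹ with hy₂
  set y₃ := x⁻¹ * y * x with hy₃
  have h11 : y₁ * y₁ = 1 := hy2
  have h22 : y₂ * y₂ = 1 := by
    rw [hy₂]
    calc x * y * x⁻¹ * (x * y * x⁻¹) = x * (y * y) * x⁻¹ := by group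
      _ = 1 := by rw [hy2]; group
  have h33 : y₃ * y₃ = 1 := by
    rw [hy₃]
    calc x⁻¹ * y * x * (x⁻¹ * y * x) = x⁻¹ * (y * y) * x := by group
      _ = 1 := by rw [hy2]; group
  have h123 : y₁ * y₂ * y₃ = 1 := by
    rw [hy₁, hy₂, hy₃]
    have : y * (x * y * x⁻¹) * (x⁻¹ * y * x) = y * x * y * (x⁻¹ * x⁻¹) * y * x := by group
    rw [this]
    have h2 : x⁻¹ * x⁻¹ = x := by
      rw [hxinv]
      calc x * x * (x * x) = (x * x * x) * x := by group
        _ = x := by rw [hx3, one_mul]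
    rw [h2]
    calc y * x * y * x * y * x = (y * x) * (y * x) * (y * x) := by group
      _ = 1 := hyx
  have h12 : y₁ * y₂ = y₃ := by
    have : y₁ * y₂ = y₃⁻¹ := eq_inv_of_mul_eq_one_left h123
    rw [this]
    exact inv_eq_of_mul_eq_one_right h33
  have hc12 : y₁ * y₂ = y₂ * y₁ := by
    have h : (y₁ * y₂) * (y₁ * y₂) = 1 := by rw [h12]; exact h33
    have h1inv : y₁⁻¹ = y₁ := inv_eq_of_mul_eq_one_right h11
    have h2inv : y₂⁻¹ = y₂ := inv_eq_of_mul_eq_one_right h22
    have : y₁ * y₂ = (y₁ * y₂)⁻¹ := (inv_eq_of_mul_eq_one_right h).symm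
    rw [this, mul_inv_rev, h1inv, h2inv]
  have hc13 : y₁ * y₃ = y₃ * y₁ := by
    rw [← h12]
    calc y₁ * (y₁ * y₂) = y₁ * (y₂ * y₁) := by rw [hc12]
      _ = (y₁ * y₂) * y₁ := by group
  have hc23 : y₂ * y₃ = y₃ * y₂ := by
    rw [← h12]
    calc y₂ * (y₁ * y₂) = (y₂ * y₁) * y₂ := by group
      _ = (y₁ * y₂) * y₂ := by rw [hc12]
  set gens : Set G := {y₁, y₂, y₃} with hgens
  have hcomm : ∀ a ∈ gens, ∀ b ∈ gens, a * b = b * a := by
    intro a ha b hb
    simp only [hgens, Set.mem_insert_iff, Set.mem_singleton_iff] at ha hb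
    rcases ha with rfl | rfl | rfl <;> rcases hb with rfl | rfl | rfl
    · rfl
    · exact hc12
    · exact hc13
    · exact hc12.symm
    · rfl
    · exact hc23
    · exact hc13.symm
    · exact hc23.symm
    · rfl
  set Q := Subgroup.closure gens with hQ
  haveI := Subgroup.isMulCommutative_closure hcomm
  have hsq : ∀ q ∈ Q, q * q = 1 := by
    intro q hq
    induction hq using Subgroup.closure_induction with
    | mem a ha =>
      simp only [hgens, Set.mem_insert_iff, Set.mem_singleton_iff] at ha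
      rcases ha with rfl | rfl | rfl
      · exact h11
      · exact h22
      · exact h33
    | one => simp
    | mul a b ha hb iha ihb =>
      have hab : a * b = b * a := by
        have := mul_comm' (⟨a, ha⟩ : Q) ⟨b, hb⟩
        exact congrArg Subtype.val this
      calc a * b * (a * b) = a * (b * a) * b := by group
        _ = a * (a * b) * b := by rw [hab]
        _ = (a * a) * (b * b) := by group
        _ = 1 := by rw [iha, ihb, one_mul]
    | inv a ha iha =>
      have : a⁻¹ = a := inv_eq_of_mul_eq_one_right iha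
      rw [this]; exact iha
  have hQ2 : IsPGroup 2 Q := by
    intro g
    refine ⟨1, ?_⟩
    rw [pow_one, pow_two]
    apply Subtype.ext
    exact hsq g g.2
  have hxconj : MulAut.conj x '' gens = gens := by
    have e1 : MulAut.conj x y₁ = y₂ := by rw [MulAut.conj_apply]
    have e2 : MulAut.conj x y₂ = y₃ := by
      rw [MulAut.conj_apply, hy₂, hy₃]
      have h2 : x⁻¹ * x⁻¹ = x := by
        rw [hxinv]
        calc x * x * (x * x) = (x * x * x) * x := by group
          _ = x := by rw [hx3, one_mul]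
      calc x * (x * y * x⁻¹) * x⁻¹ = (x * x) * y * (x⁻¹ * x⁻¹) := by group
        _ = x⁻¹ * y * x := by rw [h2, ← hxinv]
    have e3 : MulAut.conj x y₃ = y₁ := by
      rw [MulAut.conj_apply, hy₃, hy₁]; group
    rw [hgens, Set.image_insert_eq, Set.image_insert_eq, Set.image_singleton, e1, e2, e3]
    ext a
    simp only [Set.mem_insert_iff, Set.mem_singleton_iff]
    tauto
  have hnorm : x ∈ Subgroup.normalizer (Q : Set G) := by
    rw [Subgroup.mem_normalizer_iff_map_conj_eq, hQ, MonoidHom.map_closure]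
    congr 1
  have hbot := hno Q hQ2 hnorm
  have hy1Q : y₁ ∈ Q := Subgroup.subset_closure (by simp [hgens])
  rw [hbot, Subgroup.mem_bot] at hy1Q
  exact hy1Q


theorem count_parity_aux {G : Type*} [Group G] [Finite G] (x xj c : G) (hx3 : x * x * x = 1)
    (hxj3 : xj * xj * xj = 1) (hc : c = xj⁻¹)
    (hno : ∀ Q : Subgroup G, IsPGroup 2 ↥Q → xj ∈ Subgroup.normalizer (Q : Set G) → Q = ⊥)
    [Decidable (IsConj x xj)] :
    Nat.card {a : G // IsConj x a ∧ IsConj x (a⁻¹ * c)} % 2 =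
      if IsConj x xj then 1 else 0 := by
  classical
  haveI := Fintype.ofFinite G
  have hcxj : c * xj = 1 := by rw [hc]; group
  have hc3 : c * c * c = 1 := by
    rw [hc]
    have : xj⁻¹ * xj⁻¹ * xj⁻¹ = (xj * xj * xj)⁻¹ := by group
    rw [this, hxj3, inv_one]
  clear hc
  have hcc : c * c = c⁻¹ := by
    rw [eq_inv_iff_mul_eq_one]; exact hc3
  have hconj3 : ∀ a : G, IsConj x a → a * a * a = 1 := by
    intro a ha
    obtain ⟨g, hg⟩ := isConj_iff.1 ha
    rw [← hg]
    calc g * x * g⁻¹ * (g * x * g⁻¹) * (g * x * g⁻¹) = g * (x * x * x) * g⁻¹ := by group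
      _ = 1 := by rw [hx3]; group
  let X := {a : G // IsConj x a ∧ IsConj x (a⁻¹ * c)}
  have hτmem : ∀ a : X, IsConj x (c⁻¹ * a.1⁻¹ * c⁻¹) ∧ IsConj x ((c⁻¹ * a.1⁻¹ * c⁻¹)⁻¹ * c) := by
    intro a
    constructor
    · refine a.2.2.trans (isConj_iff.2 ⟨c * a.1, ?_⟩)
      calc c * a.1 * (a.1⁻¹ * c) * (c * a.1)⁻¹ = c * c * a.1⁻¹ * c⁻¹ := by group
        _ = c⁻¹ * a.1⁻¹ * c⁻¹ := by rw [hcc]
    · refine a.2.1.trans (isConj_iff.2 ⟨c, ?_⟩)
      calc c * a.1 * c⁻¹ = c * a.1 * (c * c) := by rw [hcc]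
        _ = (c⁻¹ * a.1⁻¹ * c⁻¹)⁻¹ * c := by group
  let f : Function.End X := fun a => ⟨c⁻¹ * a.1⁻¹ * c⁻¹, hτmem a⟩
  have hf : f ^ 2 ^ 1 = 1 := by
    rw [pow_one, pow_two]
    funext a
    apply Subtype.ext
    change c⁻¹ * (c⁻¹ * a.1⁻¹ * c⁻¹)⁻¹ * c⁻¹ = a.1
    group
  haveI : Fact (Nat.Prime 2) := ⟨Nat.prime_two⟩
  have hmod := Equiv.Perm.card_fixedPoints_modEq (p := 2) (n := 1) hf
  have hfix : ∀ a : X, a ∈ Function.fixedPoints f ↔ a.1 = xj := by
    intro a
    rw [Function.mem_fixedPoints, Function.IsFixedPt]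
    constructor
    · intro h
      have h1 : c⁻¹ * a.1⁻¹ * c⁻¹ = a.1 := congrArg Subtype.val h
      set y := a.1 * c with hy
      have hy2 : y * y = 1 := by
        rw [hy]
        have h2 : a.1 * c * a.1 = c⁻¹ := by
          have : a.1 * c * a.1 = a.1 * c * (c⁻¹ * a.1⁻¹ * c⁻¹) := by rw [h1]
          rw [this]; group
        calc a.1 * c * (a.1 * c) = (a.1 * c * a.1) * c := by group
          _ = 1 := by rw [h2]; group
      have hyx : (y * xj) * (y * xj) * (y * xj) = 1 := by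
        have : y * xj = a.1 := by rw [hy, mul_assoc, hcxj, mul_one]
        rw [this]
        exact hconj3 a.1 a.2.1
      have hy1 := klein_four_lemma xj y hxj3 hy2 hyx hno
      rw [hy] at hy1
      calc a.1 = a.1 * (c * xj) := by rw [hcxj, mul_one]
        _ = (a.1 * c) * xj := by group
        _ = xj := by rw [hy1, one_mul]
    · intro h
      apply Subtype.ext
      change c⁻¹ * a.1⁻¹ * c⁻¹ = a.1
      rw [h]
      have h1 : c⁻¹ = xj := by
        rw [inv_eq_iff_eq_inv]; exact eq_inv_of_mul_eq_one_left hcxj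
      rw [h1]
      group
  have hcardX : Nat.card X = Fintype.card X := Nat.card_eq_fintype_card
  change Nat.card X % 2 = _
  rw [hcardX]
  unfold Nat.ModEq at hmod
  rw [hmod]
  split_ifs with hconj
  · have hxjX : IsConj x xj ∧ IsConj x (xj⁻¹ * c) := by
      refine ⟨hconj, ?_⟩
      have : xj⁻¹ * c = xj := by
        have h1 : c = xj⁻¹ := eq_inv_of_mul_eq_one_left hcxj
        rw [h1]
        calc xj⁻¹ * xj⁻¹ = xj⁻¹ * xj⁻¹ * (xj * xj * xj) := by rw [hxj3, mul_one]
          _ = xj := by group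
      rw [this]; exact hconj
    have : Fintype.card (Function.fixedPoints f) = 1 := by
      rw [Fintype.card_eq_one_iff]
      refine ⟨⟨⟨xj, hxjX⟩, (hfix _).2 rfl⟩, ?_⟩
      rintro ⟨a, ha⟩
      apply Subtype.ext
      apply Subtype.ext
      exact (hfix a).1 ha
    rw [this]
  · have : Fintype.card (Function.fixedPoints f) = 0 := by
      rw [Fintype.card_eq_zero_iff]
      refine ⟨fun ⟨a, ha⟩ => ?_⟩
      have h1 := (hfix a).1 ha
      apply hconj
      rw [← h1]
      exact a.2.1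
    rw [this]

theorem count_parity {G : Type*} [Group G] [Finite G] (x xj : G) (hx3 : x * x * x = 1)
    (hxj3 : xj * xj * xj = 1)
    (hno : ∀ Q : Subgroup G, IsPGroup 2 ↥Q → xj ∈ Subgroup.normalizer (Q : Set G) → Q = ⊥)
    [Decidable (IsConj x xj)] :
    Nat.card {a : G // IsConj x a ∧ IsConj x (a⁻¹ * xj⁻¹)} % 2 =
      if IsConj x xj then 1 else 0 :=
  count_parity_aux x xj xj⁻¹ hx3 hxj3 rfl hno


theorem pairs_count {G : Type*} [Group G] [Finite G] (x c : G) :
    Nat.card {st : G × G // st.1 * x * st.1⁻¹ * (st.2 * x * st.2⁻¹) = c} =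
      Nat.card {a : G // IsConj x a ∧ IsConj x (a⁻¹ * c)} *
        (Nat.card (Subgroup.centralizer ({x} : Set G)) *
          Nat.card (Subgroup.centralizer ({x} : Set G))) := by
  classical
  haveI := Fintype.ofFinite G
  let X := {a : G // IsConj x a ∧ IsConj x (a⁻¹ * c)}
  let F : X → Type _ := fun a => {s : G // s * x * s⁻¹ = a.1} × {t : G // t * x * t⁻¹ = a.1⁻¹ * c}
  have e : {st : G × G // st.1 * x * st.1⁻¹ * (st.2 * x * st.2⁻¹) = c} ≃ Σ a : X, F a :=
    { toFun := fun st => ⟨⟨st.1.1 * x * st.1.1⁻¹, isConj_iff.2 ⟨st.1.1, rfl⟩,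
          isConj_iff.2 ⟨st.1.2, by
            have h := st.2
            exact eq_inv_mul_of_mul_eq h⟩⟩, ⟨st.1.1, rfl⟩, ⟨st.1.2, by
            have h := st.2
            exact eq_inv_mul_of_mul_eq h⟩⟩
      invFun := fun p => ⟨(p.2.1.1, p.2.2.1), by
        have h1 := p.2.1.2
        have h2 := p.2.2.2
        simp only
        rw [h1, h2]; group⟩
      left_inv := fun st => rfl
      right_inv := fun p => by
        obtain ⟨⟨a, ha⟩, ⟨s, hs⟩, ⟨t, ht⟩⟩ := p
        simp only at hs ht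
        subst hs
        rfl }
  rw [Nat.card_congr e, Nat.card_sigma]
  have hF : ∀ a : X, Nat.card (F a) = Nat.card (Subgroup.centralizer ({x} : Set G)) *
      Nat.card (Subgroup.centralizer ({x} : Set G)) := by
    intro a
    rw [Nat.card_prod, card_conjugators, card_conjugators, if_pos a.2.1, if_pos a.2.2]
  simp only [hF]
  rw [Finset.sum_const, Finset.card_univ, smul_eq_mul, ← Nat.card_eq_fintype_card]


theorem irr_regular_indicator {G : Type*} [Group G] [Fintype G] [Fintype (Cfsg.IrrCharacter G)]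
    [DecidableEq G] (g : G) :
    ∑ χ : Cfsg.IrrCharacter G, (χ : G → ℂ) g * (χ : G → ℂ) 1 =
      if g = 1 then (Nat.card G : ℂ) else 0 := by
  classical
  have h := irr_column_orthogonality g (1 : G)
  have hc1 : ∀ χ : Cfsg.IrrCharacter G, conj ((χ : G → ℂ) 1) = (χ : G → ℂ) 1 := by
    intro χ
    obtain ⟨n, hn, h1⟩ := irr_one_eq_finrank χ
    rw [h1]; simp
  simp_rw [hc1] at h
  rw [h]
  by_cases hg : g = 1
  · rw [if_pos hg, if_pos (by rw [hg])]
    have : Subgroup.centralizer ({1} : Set G) = ⊤ := by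
      ext y
      simp [Subgroup.mem_centralizer_iff]
    rw [this, Nat.card_congr (Subgroup.topEquiv (G := G)).toEquiv]
  · rw [if_neg hg, if_neg]
    intro hc
    apply hg
    exact (isConj_one_right.1 hc)

theorem pairs_char_formula {G : Type*} [Group G] [Fintype G] [Fintype (Cfsg.IrrCharacter G)]
    (x c : G) :
    (Nat.card {st : G × G // st.1 * x * st.1⁻¹ * (st.2 * x * st.2⁻¹) = c} : ℂ) =
      ∑ χ : Cfsg.IrrCharacter G,
        (Nat.card G : ℂ) / (χ : G → ℂ) 1 *
          ((χ : G → ℂ) x * (χ : G → ℂ) x * (χ : G → ℂ) c⁻¹) := by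
  classical
  have hne : (Nat.card G : ℂ) ≠ 0 := by exact_mod_cast Nat.card_pos.ne'
  have hcount : (Nat.card {st : G × G // st.1 * x * st.1⁻¹ * (st.2 * x * st.2⁻¹) = c} : ℂ) *
      (Nat.card G : ℂ) =
      ∑ a : G, ∑ b : G, ∑ χ : Cfsg.IrrCharacter G,
        (χ : G → ℂ) (a * x * a⁻¹ * (b * x * b⁻¹ * c⁻¹)) * (χ : G → ℂ) 1 := by
    simp_rw [irr_regular_indicator]
    rw [Nat.card_eq_fintype_card, Fintype.card_subtype, Finset.card_filter, Nat.cast_sum,
      Finset.sum_mul, Fintype.sum_prod_type]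
    refine Finset.sum_congr rfl fun a _ => Finset.sum_congr rfl fun b _ => ?_
    have hiff : a * x * a⁻¹ * (b * x * b⁻¹) = c ↔ a * x * a⁻¹ * (b * x * b⁻¹ * c⁻¹) = 1 := by
      have : a * x * a⁻¹ * (b * x * b⁻¹ * c⁻¹) = a * x * a⁻¹ * (b * x * b⁻¹) * c⁻¹ := by group
      rw [this, mul_inv_eq_one]
    by_cases h : a * x * a⁻¹ * (b * x * b⁻¹) = c
    · rw [if_pos h, if_pos (hiff.1 h)]; simp
    · rw [if_neg h, if_neg (fun h' => h (hiff.2 h'))]; simp
  have hsum : ∑ a : G, ∑ b : G, ∑ χ : Cfsg.IrrCharacter G,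
        (χ : G → ℂ) (a * x * a⁻¹ * (b * x * b⁻¹ * c⁻¹)) * (χ : G → ℂ) 1 =
      (Nat.card G : ℂ) * ∑ χ : Cfsg.IrrCharacter G,
        (Nat.card G : ℂ) / (χ : G → ℂ) 1 *
          ((χ : G → ℂ) x * (χ : G → ℂ) x * (χ : G → ℂ) c⁻¹) := by
    have h1 : ∀ a : G, ∑ b : G, ∑ χ : Cfsg.IrrCharacter G,
        (χ : G → ℂ) (a * x * a⁻¹ * (b * x * b⁻¹ * c⁻¹)) * (χ : G → ℂ) 1 =
        ∑ χ : Cfsg.IrrCharacter G, ∑ b : G,
        (χ : G → ℂ) (a * x * a⁻¹ * (b * x * b⁻¹ * c⁻¹)) * (χ : G → ℂ) 1 := fun a =>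
      Finset.sum_comm
    simp_rw [h1]
    rw [Finset.sum_comm, Finset.mul_sum]
    refine Finset.sum_congr rfl fun χ _ => ?_
    have h2 : ∑ a : G, ∑ b : G,
        (χ : G → ℂ) (a * x * a⁻¹ * (b * x * b⁻¹ * c⁻¹)) * (χ : G → ℂ) 1 =
        ∑ b : G, (∑ a : G, (χ : G → ℂ) (a * x * a⁻¹ * (b * x * b⁻¹ * c⁻¹))) * (χ : G → ℂ) 1 := by
      rw [Finset.sum_comm]
      refine Finset.sum_congr rfl fun b _ => ?_
      rw [Finset.sum_mul]
    rw [h2]
    simp_rw [irr_sum_conj_mul]
    rw [← Finset.sum_mul]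
    have h3 : ∑ b : G, (Nat.card G : ℂ) * (χ : G → ℂ) x * (χ : G → ℂ) (b * x * b⁻¹ * c⁻¹) /
        (χ : G → ℂ) 1 =
        (Nat.card G : ℂ) * (χ : G → ℂ) x / (χ : G → ℂ) 1 *
          ∑ b : G, (χ : G → ℂ) (b * x * b⁻¹ * c⁻¹) := by
      rw [Finset.mul_sum]
      refine Finset.sum_congr rfl fun b _ => ?_
      ring
    rw [h3, irr_sum_conj_mul]
    have hne1 := irr_one_ne_zero χ
    field_simp
  rw [hsum] at hcount
  have : (Nat.card {st : G × G // st.1 * x * st.1⁻¹ * (st.2 * x * st.2⁻¹) = c} : ℂ) *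
      (Nat.card G : ℂ) = (∑ χ : Cfsg.IrrCharacter G,
        (Nat.card G : ℂ) / (χ : G → ℂ) 1 *
          ((χ : G → ℂ) x * (χ : G → ℂ) x * (χ : G → ℂ) c⁻¹)) * (Nat.card G : ℂ) := by
    rw [hcount]; ring
  exact mul_right_cancel₀ hne this


theorem two_not_unit_integralClosure :
    Ideal.span {(2 : integralClosure ℤ ℂ)} ≠ ⊤ := by
  intro h
  rw [Ideal.span_singleton_eq_top] at h
  obtain ⟨b, hb⟩ := h.exists_right_inv
  have hb' : (2 : ℂ) * (b : ℂ) = 1 := by
    have h2 : ((2 : integralClosure ℤ ℂ) : ℂ) = 2 := by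
      rw [← one_add_one_eq_two]; push_cast; norm_num
    have := congrArg (fun z : integralClosure ℤ ℂ => (z : ℂ)) hb
    simp only [Subalgebra.coe_mul, Subalgebra.coe_one, h2] at this
    exact this
  have hbi : IsIntegral ℤ (b : ℂ) := b.2
  have hb2 : (b : ℂ) = ((1 : ℕ) : ℂ) / ((2 : ℕ) : ℂ) := by
    push_cast
    field_simp
    rw [mul_comm]; exact hb'
  rw [hb2] at hbi
  have := Cfsg.Agent.Lib.helper2.nat_dvd_of_isIntegral_div 1 2 (by norm_num) hbi
  omega

theorem mod_two_rank_bound {ι κ : Type*} [Fintype ι] [Fintype κ] [DecidableEq ι]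
    (D : κ → Prop) [DecidablePred D]
    (N : ι → ι → ℕ) (q : κ → ℕ) (u : ι → κ → ℂ) (v : κ → ι → ℂ)
    (hu : ∀ i k, IsIntegral ℤ (u i k)) (hv : ∀ k j, IsIntegral ℤ (v k j))
    (hN : ∀ i j, (N i j : ℂ) = ∑ k, (q k : ℂ) * u i k * v k j)
    (hq : ∀ k, ¬ D k → 2 ∣ q k)
    (hpar : ∀ i j, N i j % 2 = if i = j then 1 else 0) :
    Fintype.card ι ≤ Fintype.card {k // D k} := by
  classical
  set I : Ideal (integralClosure ℤ ℂ) := Ideal.span {(2 : integralClosure ℤ ℂ)} with hIdef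
  have hI : I ≠ ⊤ := two_not_unit_integralClosure
  haveI : Nontrivial ((integralClosure ℤ ℂ) ⧸ I) := Ideal.Quotient.nontrivial_iff.2 hI
  set φ : (integralClosure ℤ ℂ) →+* (integralClosure ℤ ℂ) ⧸ I := Ideal.Quotient.mk I with hφdef
  set U : ι → κ → integralClosure ℤ ℂ := fun i k => ⟨u i k, hu i k⟩ with hU
  set V : κ → ι → integralClosure ℤ ℂ := fun k j => ⟨v k j, hv k j⟩ with hV
  have hφ2 : φ 2 = 0 := Ideal.Quotient.eq_zero_iff_mem.2 (Ideal.mem_span_singleton_self 2)
  have hNO : ∀ i j, ((N i j : ℕ) : integralClosure ℤ ℂ) =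
      ∑ k, ((q k : ℕ) : integralClosure ℤ ℂ) * U i k * V k j := by
    intro i j
    apply Subtype.ext
    push_cast
    rw [hN]
  have hφN : ∀ i j, φ ((N i j : ℕ) : integralClosure ℤ ℂ) = if i = j then 1 else 0 := by
    intro i j
    have h1 := hpar i j
    have h2 : N i j = 2 * (N i j / 2) + N i j % 2 := (Nat.div_add_mod _ _).symm
    rw [h2]
    push_cast
    rw [map_add, map_mul, hφ2, zero_mul, zero_add, h1]
    split_ifs <;> simp
  have hφq : ∀ k, ¬ D k → φ ((q k : ℕ) : integralClosure ℤ ℂ) = 0 := by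
    intro k hk
    obtain ⟨m, hm⟩ := hq k hk
    rw [hm]
    push_cast
    rw [map_mul, hφ2, zero_mul]
  set B : Matrix ι {k // D k} ((integralClosure ℤ ℂ) ⧸ I) :=
    fun i k => φ (((q k.1 : ℕ) : integralClosure ℤ ℂ) * U i k.1) with hB
  set C : Matrix {k // D k} ι ((integralClosure ℤ ℂ) ⧸ I) := fun k j => φ (V k.1 j) with hC
  have hBC : B * C = 1 := by
    ext i j
    rw [Matrix.mul_apply, Matrix.one_apply, ← hφN i j, hNO i j, map_sum,
      ← Fintype.sum_subtype_add_sum_subtype D]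
    have hz : ∑ k : {k // ¬ D k}, φ (((q k.1 : ℕ) : integralClosure ℤ ℂ) * U i k.1 * V k.1 j) = 0 := by
      refine Finset.sum_eq_zero fun k _ => ?_
      rw [map_mul, map_mul, hφq k.1 k.2, zero_mul, zero_mul]
    rw [hz, add_zero]
    refine Finset.sum_congr rfl fun k _ => ?_
    simp only [hB, hC]
    rw [← map_mul]
  have hinj : Function.Injective (Matrix.mulVecLin C) := by
    intro a b hab
    have hab' : C.mulVec a = C.mulVec b := hab
    have h3 : B.mulVec (C.mulVec a) = B.mulVec (C.mulVec b) := by rw [hab']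
    rwa [Matrix.mulVec_mulVec, Matrix.mulVec_mulVec, hBC, Matrix.one_mulVec,
      Matrix.one_mulVec] at h3
  exact card_le_of_injective ((integralClosure ℤ ℂ) ⧸ I) (Matrix.mulVecLin C) hinj


theorem odd_centralizer_of_hno {G : Type*} [Group G] [Finite G] (x : G)
    (hno : ∀ Q : Subgroup G, IsPGroup 2 ↥Q → x ∈ Subgroup.normalizer (Q : Set G) → Q = ⊥) :
    Nat.card (Subgroup.centralizer ({x} : Set G)) % 2 = 1 := by
  by_contra hodd
  have h2 : 2 ∣ Nat.card (Subgroup.centralizer ({x} : Set G)) := by omega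
  haveI : Fact (Nat.Prime 2) := ⟨Nat.prime_two⟩
  obtain ⟨t, ht⟩ := exists_prime_orderOf_dvd_card' 2 h2
  have htx : (t : G) * x = x * (t : G) := by
    have := t.2
    rw [Subgroup.mem_centralizer_iff] at this
    exact (this x (Set.mem_singleton x)).symm
  have hord : orderOf (t : G) = 2 := by rw [Subgroup.orderOf_coe]; exact ht
  have hQ2 : IsPGroup 2 (Subgroup.zpowers (t : G)) := by
    apply IsPGroup.of_card (n := 1)
    rw [Nat.card_zpowers, hord, pow_one]
  have hnorm : x ∈ Subgroup.normalizer ((Subgroup.zpowers (t : G)) : Set G) := by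
    rw [Subgroup.mem_normalizer_iff_map_conj_eq, MonoidHom.map_zpowers]
    congr 1
    show x * (t : G) * x⁻¹ = (t : G)
    rw [← htx]; group
  have hbot := hno _ hQ2 hnorm
  rw [Subgroup.zpowers_eq_bot] at hbot
  rw [hbot, orderOf_one] at hord
  omega


theorem even_quot_of_not_defect_zero {G : Type*} [Group G] [Finite G] (χ : Cfsg.IrrCharacter G)
    (h : ¬ (Cfsg.charDegree (χ : G → ℂ)).factorization 2 = (Nat.card G).factorization 2) :
    Cfsg.charDegree (χ : G → ℂ) ∣ Nat.card G ∧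
      2 ∣ Nat.card G / Cfsg.charDegree (χ : G → ℂ) := by
  obtain ⟨n, hn, h1, hdvd⟩ := Cfsg.Agent.Lib.helper2.irr_degree_dvd_card χ
  obtain ⟨hd1, hd0⟩ := charDegree_irr χ
  have hnd : n = Cfsg.charDegree (χ : G → ℂ) := by
    have : (n : ℂ) = (Cfsg.charDegree (χ : G → ℂ) : ℂ) := by rw [hd1, h1]
    exact_mod_cast this
  rw [← hnd] at h ⊢
  refine ⟨hdvd, ?_⟩
  have hG : Nat.card G ≠ 0 := Nat.card_pos.ne'
  have hle : n.factorization 2 ≤ (Nat.card G).factorization 2 :=
    (Nat.factorization_le_iff_dvd hn.ne' hG).2 hdvd 2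
  have hlt : n.factorization 2 < (Nat.card G).factorization 2 := lt_of_le_of_ne hle h
  have hf : (Nat.card G / n).factorization 2 = (Nat.card G).factorization 2 - n.factorization 2 := by
    rw [Nat.factorization_div hdvd]; rfl
  apply Nat.dvd_of_factorization_pos
  rw [hf]
  omega

theorem charDegree_dvd_card {G : Type*} [Group G] [Finite G] (χ : Cfsg.IrrCharacter G) :
    Cfsg.charDegree (χ : G → ℂ) ∣ Nat.card G := by
  obtain ⟨n, hn, h1, hdvd⟩ := Cfsg.Agent.Lib.helper2.irr_degree_dvd_card χ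
  obtain ⟨hd1, hd0⟩ := charDegree_irr χ
  have hnd : n = Cfsg.charDegree (χ : G → ℂ) := by
    have : (n : ℂ) = (Cfsg.charDegree (χ : G → ℂ) : ℂ) := by rw [hd1, h1]
    exact_mod_cast this
  rw [← hnd]; exact hdvd

theorem defect_zero_count {G : Type*} [Group G] [Finite G] {ι : Type*} [Fintype ι]
    (x : ι → G) (hx3 : ∀ i, x i * x i * x i = 1)
    (hno : ∀ i, ∀ Q : Subgroup G, IsPGroup 2 ↥Q → x i ∈ Subgroup.normalizer (Q : Set G) → Q = ⊥)
    (hinj : ∀ i j, IsConj (x i) (x j) → i = j) :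
    Fintype.card ι ≤ Nat.card {χ : Cfsg.IrrCharacter G //
      (Cfsg.charDegree (χ : G → ℂ)).factorization 2 = (Nat.card G).factorization 2} := by
  classical
  haveI := Fintype.ofFinite G
  haveI : Fintype (Cfsg.IrrCharacter G) := Fintype.ofFinite _
  rw [Nat.card_eq_fintype_card]
  refine mod_two_rank_bound
    (fun χ : Cfsg.IrrCharacter G =>
      (Cfsg.charDegree (χ : G → ℂ)).factorization 2 = (Nat.card G).factorization 2)
    (fun i j => Nat.card {st : G × G //
      st.1 * x i * st.1⁻¹ * (st.2 * x i * st.2⁻¹) = (x j)⁻¹})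
    (fun χ => Nat.card G / Cfsg.charDegree (χ : G → ℂ))
    (fun i χ => (χ : G → ℂ) (x i) * (χ : G → ℂ) (x i))
    (fun χ j => (χ : G → ℂ) (x j)) ?_ ?_ ?_ ?_ ?_
  · intro i χ
    exact (Cfsg.Agent.Lib.helper2.irr_integral χ _).mul (Cfsg.Agent.Lib.helper2.irr_integral χ _)
  · intro χ j
    exact Cfsg.Agent.Lib.helper2.irr_integral χ _
  · intro i j
    rw [pairs_char_formula (x i) (x j)⁻¹]
    refine Finset.sum_congr rfl fun χ _ => ?_
    have hdvd := charDegree_dvd_card χ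
    obtain ⟨hd1, hd0⟩ := charDegree_irr χ
    rw [inv_inv, Nat.cast_div hdvd (by exact_mod_cast hd0.ne'), hd1]
    ring
  · intro χ hχ
    exact (even_quot_of_not_defect_zero χ hχ).2
  · intro i j
    rw [pairs_count, Nat.mul_mod, Nat.mul_mod (Nat.card _) (Nat.card _),
      odd_centralizer_of_hno (x i) (hno i), count_parity (x i) (x j) (hx3 i) (hx3 j) (hno j)]
    by_cases hij : i = j
    · rw [if_pos hij, if_pos (by rw [hij])]
    · rw [if_neg hij, if_neg (fun h => hij (hinj i j h))]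

end Cfsg.Agent.Lib.Helper25
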