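import Mathlib
import Cfsg.Prelude.Def_Blocks
import Cfsg.Agent.Lib.Helper25.CharQuot
import Cfsg.Agent.Lib.Helper25.Gagola
import Cfsg.Agent.Lib.Helper25.DefectZeroCount

/-!
Codegrees `|G : ker χ| / χ(1)`: divisibility, kernels in simple groups, characters of degree
prime to `p`.
-/

set_option autoImplicit false
set_option linter.deprecated false

namespace Cfsg.Agent.Lib.Helper25

open scoped ComplexConjugate

variable {G : Type*} [Group G]

/-- `|ker χ| * χ(1)` divides `|G|`. -/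
theorem ker_mul_degree_dvd [Finite G] (χ : Cfsg.IrrCharacter G) :
    Nat.card {g : G // (χ : G → ℂ) g = (χ : G → ℂ) 1} * Cfsg.charDegree (χ : G → ℂ) ∣
      Nat.card G := by
  obtain ⟨K, hKn, n, σ, hσ, hK, hchar, _⟩ := quotient_setup χ
  haveI := hσ
  have hcardK : Nat.card {g : G // (χ : G → ℂ) g = (χ : G → ℂ) 1} = Nat.card K := by
    apply Nat.card_congr
    exact Equiv.subtypeEquivRight (fun g => (hK g).symm)
  have hdeg := Cfsg.Agent.Lib.helper2.degree_dvd_card σ
  have hfr : Module.finrank ℂ (Fin n → ℂ) = Cfsg.charDegree (χ : G → ℂ) := by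
    obtain ⟨hd1, _⟩ := charDegree_irr χ
    have h1 : σ.character 1 = (χ : G → ℂ) 1 := hchar 1
    rw [Representation.char_one] at h1
    have : ((Module.finrank ℂ (Fin n → ℂ) : ℕ) : ℂ) = ((Cfsg.charDegree (χ : G → ℂ) : ℕ) : ℂ) := by
      rw [h1, hd1]
    exact_mod_cast this
  rw [hfr] at hdeg
  rw [hcardK, ← Subgroup.card_mul_index K]
  exact Nat.mul_dvd_mul_left _ hdeg

theorem codegree_dvd_card [Finite G] (χ : Cfsg.IrrCharacter G) :
    Nat.card G / (Nat.card {g : G // (χ : G → ℂ) g = (χ : G → ℂ) 1} *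
      Cfsg.charDegree (χ : G → ℂ)) ∣ Nat.card G :=
  Nat.div_dvd_of_dvd (ker_mul_degree_dvd χ)

theorem ker_card_one_of_simple [Finite G] (hS : IsSimpleGroup G) (χ : Cfsg.IrrCharacter G)
    (hχ : χ ≠ trivIrr G) : Nat.card {g : G // (χ : G → ℂ) g = (χ : G → ℂ) 1} = 1 := by
  classical
  haveI := Fintype.ofFinite G
  have hcard : Nat.card {g : G // (χ : G → ℂ) g = (χ : G → ℂ) 1} = Nat.card (irrKer χ) := by
    apply Nat.card_congr
    exact Equiv.subtypeEquivRight (fun g => (mem_irrKer χ g).symm)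
  rw [hcard]
  rcases hS.eq_bot_or_eq_top_of_normal (irrKer χ) (irrKer_normal χ) with h | h
  · rw [h]; simp
  · exfalso
    apply hχ
    have hall : ∀ g : G, (χ : G → ℂ) g = (χ : G → ℂ) 1 := by
      intro g
      rw [← mem_irrKer, h]
      exact Subgroup.mem_top g
    have h1 := irr_classInner χ (trivIrr G)
    unfold Cfsg.classInner at h1
    simp only [trivIrr_apply, map_one, mul_one, hall, Finset.sum_const, Finset.card_univ,
      nsmul_eq_mul] at h1
    by_contra hne
    rw [if_neg hne] at h1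
    have hG : (Nat.card G : ℂ) ≠ 0 := by exact_mod_cast Nat.card_pos.ne'
    have h2 : (χ : G → ℂ) 1 = 0 := by
      rw [Nat.card_eq_fintype_card] at h1 hG
      field_simp at h1
      exact h1
    exact irr_one_ne_zero χ h2

theorem exists_nontriv_coprime_degree [Finite G] (p : ℕ) (hp : p.Prime) (hpG : p ∣ Nat.card G) :
    ∃ χ : Cfsg.IrrCharacter G, χ ≠ trivIrr G ∧ ¬ p ∣ Cfsg.charDegree (χ : G → ℂ) := by
  classical
  haveI := Fintype.ofFinite G
  haveI : Fintype (Cfsg.IrrCharacter G) := Fintype.ofFinite _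
  by_contra hcon
  push Not at hcon
  have hsum : (∑ χ : Cfsg.IrrCharacter G, Cfsg.charDegree (χ : G → ℂ) ^ 2) = Nat.card G := by
    have h := irr_regular_indicator (G := G) 1
    rw [if_pos rfl] at h
    have : ((∑ χ : Cfsg.IrrCharacter G, Cfsg.charDegree (χ : G → ℂ) ^ 2 : ℕ) : ℂ) =
        ((Nat.card G : ℕ) : ℂ) := by
      rw [← h]
      push_cast
      refine Finset.sum_congr rfl fun χ _ => ?_
      rw [(charDegree_irr χ).1]
      ring
    exact_mod_cast this
  have hsplit : (∑ χ : Cfsg.IrrCharacter G, Cfsg.charDegree (χ : G → ℂ) ^ 2) =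
      1 + ∑ χ ∈ Finset.univ.erase (trivIrr G), Cfsg.charDegree (χ : G → ℂ) ^ 2 := by
    rw [← Finset.add_sum_erase Finset.univ _ (Finset.mem_univ (trivIrr G))]
    congr 1
    have : Cfsg.charDegree ((trivIrr G : Cfsg.IrrCharacter G) : G → ℂ) = 1 := by
      have h1 := (charDegree_irr (trivIrr G)).1
      rw [trivIrr_apply] at h1
      exact_mod_cast h1
    rw [this]; norm_num
  have hdvd : p ∣ ∑ χ ∈ Finset.univ.erase (trivIrr G), Cfsg.charDegree (χ : G → ℂ) ^ 2 := by
    apply Finset.dvd_sum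
    intro χ hχ
    have hne : χ ≠ trivIrr G := (Finset.mem_erase.1 hχ).1
    exact dvd_pow (hcon χ hne) (by norm_num)
  rw [hsum] at hsplit
  rw [hsplit] at hpG
  have : p ∣ 1 := (Nat.dvd_add_left hdvd).1 hpG
  exact hp.one_lt.ne' (Nat.dvd_one.1 this)

end Cfsg.Agent.Lib.Helper25
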