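import Mathlib

/-!
Class number of a coprime split extension by an abelian normal subgroup, by counting commuting
pairs.
-/

set_option autoImplicit false
set_option linter.deprecated false

namespace Cfsg.Agent.Lib.Helper25

open Finset

variable {A : Type*} [CommGroup A]

def kgv_dl (σ : A ≃* A) : A →* A where
  toFun v := v / σ v
  map_one' := by simp
  map_mul' a b := by simp [div_mul_div_comm]

@[simp] theorem kgv_dl_apply (σ : A ≃* A) (v : A) : kgv_dl σ v = v / σ v := rfl

theorem kgv_dl_comm (σ τ : A ≃* A) (hc : ∀ v, σ (τ v) = τ (σ v)) (v : A) :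
    kgv_dl σ (kgv_dl τ v) = kgv_dl τ (kgv_dl σ v) := by
  simp only [kgv_dl_apply, map_div, hc]
  rw [div_div_div_comm]

theorem kgv_pow_orbit (σ : A ≃* A) (v u : A) (hu : u = v / σ v) (hfix : σ u = u) (k : ℕ) :
    (σ ^ k) v = v / u ^ k := by
  induction k with
  | zero => simp
  | succ k ih =>
    rw [pow_succ', MulAut.mul_apply, ih, map_div, map_pow, hfix]
    have : σ v = v / u := by rw [hu]; simp
    rw [this, pow_succ, div_div, mul_comm]

theorem kgv_ker_inf_range (σ : A ≃* A) (n : ℕ) (hn : σ ^ n = 1) [Finite A]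
    (hcop : Nat.Coprime n (Nat.card A)) (u : A) (hk : u ∈ (kgv_dl σ).ker) (hr : u ∈ (kgv_dl σ).range) :
    u = 1 := by
  obtain ⟨v, hv⟩ := hr
  have hfix : σ u = u := by
    have := (MonoidHom.mem_ker).1 hk
    rw [kgv_dl_apply, div_eq_one] at this
    exact this.symm
  have h1 := kgv_pow_orbit σ v u (by rw [← hv]; rfl) hfix n
  rw [hn, MulAut.one_apply] at h1
  have h2 : u ^ n = 1 := by
    have : v * u ^ n = v := by
      nth_rewrite 1 [h1]; simp
    simpa using this
  have h3 : u ^ Nat.card A = 1 := pow_card_eq_one'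
  have h4 : orderOf u ∣ Nat.gcd n (Nat.card A) :=
    Nat.dvd_gcd (orderOf_dvd_of_pow_eq_one h2) (orderOf_dvd_of_pow_eq_one h3)
  rw [hcop.gcd_eq_one, Nat.dvd_one, orderOf_eq_one_iff] at h4
  exact h4


theorem kgv_card_ker_mul_card_range [Finite A] (f : A →* A) :
    Nat.card f.ker * Nat.card f.range = Nat.card A := by
  rw [← Subgroup.index_ker, Subgroup.card_mul_index]

theorem kgv_decomp [Finite A] (σ : A ≃* A) (n : ℕ) (hn : σ ^ n = 1)
    (hcop : Nat.Coprime n (Nat.card A)) (v : A) :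
    ∃ k ∈ (kgv_dl σ).ker, ∃ i ∈ (kgv_dl σ).range, v = k * i := by
  classical
  haveI := Fintype.ofFinite A
  let f : (kgv_dl σ).ker × (kgv_dl σ).range → A := fun p => p.1.1 * p.2.1
  have hinj : Function.Injective f := by
    rintro ⟨⟨k, hk⟩, ⟨i, hi⟩⟩ ⟨⟨k', hk'⟩, ⟨i', hi'⟩⟩ h
    simp only [f] at h
    have h1 : k'⁻¹ * k = i' * i⁻¹ := by
      rw [inv_mul_eq_iff_eq_mul, ← mul_assoc, eq_mul_inv_iff_mul_eq, h]
    have h2 : k'⁻¹ * k = 1 :=
      kgv_ker_inf_range σ n hn hcop _ (Subgroup.mul_mem _ (Subgroup.inv_mem _ hk') hk)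
        (h1 ▸ Subgroup.mul_mem _ hi' (Subgroup.inv_mem _ hi))
    have h3 : k = k' := by rw [inv_mul_eq_one] at h2; exact h2.symm
    subst h3
    have h4 : i = i' := mul_left_cancel h
    subst h4
    rfl
  have hcard : Fintype.card ((kgv_dl σ).ker × (kgv_dl σ).range) = Fintype.card A := by
    rw [Fintype.card_prod, ← Nat.card_eq_fintype_card, ← Nat.card_eq_fintype_card,
      ← Nat.card_eq_fintype_card, kgv_card_ker_mul_card_range]
  have hbij := (Fintype.bijective_iff_injective_and_card f).2 ⟨hinj, hcard⟩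
  obtain ⟨⟨⟨k, hk⟩, ⟨i, hi⟩⟩, hp⟩ := hbij.2 v
  exact ⟨k, hk, i, hi, hp.symm⟩

theorem kgv_fiber_count [Fintype A] [DecidableEq A] (f : A →* A) (x : A) :
    (∑ w : A, if f w = x then 1 else 0) = if x ∈ f.range then Nat.card f.ker else 0 := by
  split_ifs with hx
  · rw [← Finset.card_filter]
    have h1 : (1 : A) ∈ Set.range f := ⟨1, map_one f⟩
    rw [MonoidHom.card_fiber_eq_of_mem_range f hx h1, Nat.card_eq_fintype_card,
      Fintype.card_subtype]
    congr 1
    ext g
    simp [MonoidHom.mem_ker]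
  · apply Finset.sum_eq_zero
    intro w _
    rw [if_neg]
    intro h
    exact hx ⟨w, h⟩

theorem kgv_core [Fintype A] [DecidableEq A] (σ τ : A ≃* A) (hc : ∀ v, σ (τ v) = τ (σ v))
    (n : ℕ) (hn : σ ^ n = 1) (hcop : Nat.Coprime n (Nat.card A)) :
    (∑ v : A, ∑ w : A, if v * σ w = w * τ v then 1 else 0) =
      Nat.card A * ∑ u : A, if (σ u = u ∧ τ u = u) then 1 else 0 := by
  have hcond : ∀ v w : A, (v * σ w = w * τ v) ↔ kgv_dl σ w = kgv_dl τ v := by
    intro v w
    simp only [kgv_dl_apply]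
    rw [div_eq_div_iff_mul_eq_mul]
    constructor
    · intro h; exact h.symm
    · intro h; exact h.symm
  have h1 : ∀ v : A, (∑ w : A, if v * σ w = w * τ v then 1 else 0)
      = if kgv_dl τ v ∈ (kgv_dl σ).range then Nat.card (kgv_dl σ).ker else 0 := by
    intro v
    rw [← kgv_fiber_count]
    apply Finset.sum_congr rfl
    intro w _
    simp only [hcond]
  simp only [h1]
  rw [← Finset.sum_filter, Finset.sum_const, smul_eq_mul, ← Finset.card_filter]
  have hT : #{v : A | kgv_dl τ v ∈ (kgv_dl σ).range} =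
      #{u : A | σ u = u ∧ τ u = u} * Nat.card (kgv_dl σ).range := by
    have hI : Nat.card (kgv_dl σ).range = #{i : A | i ∈ (kgv_dl σ).range} := by
      rw [Nat.card_eq_fintype_card, Fintype.card_subtype]
    rw [hI, ← Finset.card_product]
    symm
    apply Finset.card_bij (fun p _ => p.1 * p.2)
    · rintro ⟨c, i⟩ hp
      simp only [mem_product, mem_filter, mem_univ, true_and] at hp ⊢
      obtain ⟨⟨hc1, hc2⟩, w, hw⟩ := hp
      rw [map_mul]
      have : kgv_dl τ c = 1 := by simp [hc2]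
      rw [this, one_mul, ← hw, ← kgv_dl_comm σ τ hc]
      exact ⟨_, rfl⟩
    · rintro ⟨c, i⟩ hp ⟨c', i'⟩ hp' h
      simp only [mem_product, mem_filter, mem_univ, true_and] at hp hp' h
      have hck : c ∈ (kgv_dl σ).ker := by
        rw [MonoidHom.mem_ker]; simp [hp.1.1]
      have hck' : c' ∈ (kgv_dl σ).ker := by
        rw [MonoidHom.mem_ker]; simp [hp'.1.1]
      have h1 : c'⁻¹ * c = i' * i⁻¹ := by
        rw [inv_mul_eq_iff_eq_mul, ← mul_assoc, eq_mul_inv_iff_mul_eq, h]
      have h2 : c'⁻¹ * c = 1 :=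
        kgv_ker_inf_range σ n hn hcop _ (Subgroup.mul_mem _ (Subgroup.inv_mem _ hck') hck)
          (h1 ▸ Subgroup.mul_mem _ hp'.2 (Subgroup.inv_mem _ hp.2))
      have h3 : c = c' := by rw [inv_mul_eq_one] at h2; exact h2.symm
      subst h3
      have h4 : i = i' := mul_left_cancel h
      subst h4
      rfl
    · intro t ht
      simp only [mem_filter, mem_univ, true_and] at ht
      obtain ⟨k, hk, i, hi, rfl⟩ := kgv_decomp σ n hn hcop t
      have hσk : σ k = k := by
        have := (MonoidHom.mem_ker).1 hk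
        rw [kgv_dl_apply, div_eq_one] at this
        exact this.symm
      have hτi : kgv_dl τ i ∈ (kgv_dl σ).range := by
        obtain ⟨w, hw⟩ := hi
        rw [← hw, ← kgv_dl_comm σ τ hc]
        exact ⟨_, rfl⟩
      have hτk : kgv_dl τ k ∈ (kgv_dl σ).range := by
        have : kgv_dl τ k = kgv_dl τ (k * i) * (kgv_dl τ i)⁻¹ := by rw [map_mul, mul_inv_cancel_right]
        rw [this]
        exact Subgroup.mul_mem _ ht (Subgroup.inv_mem _ hτi)
      have hτk' : kgv_dl τ k ∈ (kgv_dl σ).ker := by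
        rw [MonoidHom.mem_ker, kgv_dl_comm σ τ hc, (MonoidHom.mem_ker).1 hk, map_one]
      have := kgv_ker_inf_range σ n hn hcop _ hτk' hτk
      rw [kgv_dl_apply, div_eq_one] at this
      refine ⟨(k, i), ?_, rfl⟩
      simp only [mem_product, mem_filter, mem_univ, true_and]
      exact ⟨⟨hσk, this.symm⟩, hi⟩
  rw [hT, ← kgv_card_ker_mul_card_range (kgv_dl σ)]
  ring

variable {X : Type*} [Group X]

theorem kgv_core_V (V : Subgroup X) [V.Normal] [Fintype V] [DecidableEq X]
    (hab : ∀ a ∈ V, ∀ b ∈ V, a * b = b * a) (g h : X) (hgh : g * h = h * g)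
    (n : ℕ) (hn : g ^ n = 1) (hcop : Nat.Coprime n (Nat.card V)) :
    (∑ v : V, ∑ w : V, if v * MulAut.conjNormal g w = w * MulAut.conjNormal h v then 1 else 0) =
      Nat.card V * ∑ u : V, if (MulAut.conjNormal g u = u ∧ MulAut.conjNormal h u = u)
        then 1 else 0 := by
  letI : CommGroup V := { (inferInstance : Group V) with
    mul_comm := fun a b => Subtype.ext (hab a a.2 b b.2) }
  have hc : ∀ v : V, (MulAut.conjNormal g : V ≃* V) ((MulAut.conjNormal h : V ≃* V) v) =
      (MulAut.conjNormal h : V ≃* V) ((MulAut.conjNormal g : V ≃* V) v) := by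
    intro v
    rw [← MulAut.mul_apply, ← MulAut.mul_apply, ← map_mul, ← map_mul, hgh]
  have hn' : (MulAut.conjNormal g : V ≃* V) ^ n = 1 := by
    rw [← map_pow, hn, map_one]
  exact kgv_core (A := V) (MulAut.conjNormal g) (MulAut.conjNormal h) hc n hn' hcop


theorem kgv_decomp_unique (V G : Subgroup X) (hGV : Subgroup.IsComplement' V G)
    {a a' b b' : X} (ha : a ∈ V) (ha' : a' ∈ V) (hb : b ∈ G) (hb' : b' ∈ G)
    (h : a * b = a' * b') : a = a' ∧ b = b' := by
  have := hGV.1 (a₁ := (⟨⟨a, ha⟩, ⟨b, hb⟩⟩ : ↥(V : Set X) × ↥(G : Set X)))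
    (a₂ := (⟨⟨a', ha'⟩, ⟨b', hb'⟩⟩ : ↥(V : Set X) × ↥(G : Set X))) h
  simp only [Prod.mk.injEq, Subtype.mk.injEq] at this
  exact this

theorem kgv_comm_iff (V G : Subgroup X) [V.Normal] (hGV : Subgroup.IsComplement' V G)
    (v w : V) (g h : G) :
    ((v : X) * g) * ((w : X) * h) = ((w : X) * h) * ((v : X) * g) ↔
      ((g : X) * h = h * g ∧ v * MulAut.conjNormal (g : X) w = w * MulAut.conjNormal (h : X) v) := by
  have e1 : ((v : X) * g) * ((w : X) * h) = ((v : X) * ((g : X) * w * (g : X)⁻¹)) * ((g : X) * h) := by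
    group
  have e2 : ((w : X) * h) * ((v : X) * g) = ((w : X) * ((h : X) * v * (h : X)⁻¹)) * ((h : X) * g) := by
    group
  rw [e1, e2]
  have m1 : (v : X) * ((g : X) * w * (g : X)⁻¹) ∈ V :=
    V.mul_mem v.2 (Subgroup.Normal.conj_mem inferInstance _ w.2 _)
  have m2 : (w : X) * ((h : X) * v * (h : X)⁻¹) ∈ V :=
    V.mul_mem w.2 (Subgroup.Normal.conj_mem inferInstance _ v.2 _)
  constructor
  · intro hh
    obtain ⟨h1, h2⟩ := kgv_decomp_unique V G hGV m1 m2 (G.mul_mem g.2 h.2) (G.mul_mem h.2 g.2) hh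
    refine ⟨h2, ?_⟩
    apply Subtype.ext
    simpa [MulAut.conjNormal_apply] using h1
  · rintro ⟨h1, h2⟩
    have h2' := congrArg Subtype.val h2
    simp only [Subgroup.coe_mul, MulAut.conjNormal_apply] at h2'
    rw [h1, h2']


theorem kgv_fix_iff (V : Subgroup X) [V.Normal] (g : X) (u : V) :
    MulAut.conjNormal g u = u ↔ g * (u : X) = u * g := by
  rw [Subtype.ext_iff, MulAut.conjNormal_apply, mul_inv_eq_iff_eq_mul]

theorem kgv_inner_count (V G : Subgroup X) [V.Normal] [Fintype V] [Fintype G] [DecidableEq X]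
    (hab : ∀ a ∈ V, ∀ b ∈ V, a * b = b * a)
    (hGV : Subgroup.IsComplement' V G) (hcop : (Nat.card V).Coprime (Nat.card G)) (g h : G) :
    (∑ v : V, ∑ w : V, if ((v : X) * g) * ((w : X) * h) = ((w : X) * h) * ((v : X) * g)
      then 1 else 0) =
    Nat.card V * ∑ u : V, if ((g : X) * h = h * g ∧ (g : X) * u = u * g ∧ (h : X) * u = u * h)
      then 1 else 0 := by
  by_cases hgh : (g : X) * h = h * g
  · have hn : (g : X) ^ (orderOf (g : X)) = 1 := pow_orderOf_eq_one _
    have hc : Nat.Coprime (orderOf (g : X)) (Nat.card V) :=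
      Nat.Coprime.coprime_dvd_left (Subgroup.orderOf_dvd_natCard G g.2) hcop.symm
    have := kgv_core_V V hab (g : X) (h : X) hgh _ hn hc
    calc _ = (∑ v : V, ∑ w : V,
          if v * MulAut.conjNormal (g : X) w = w * MulAut.conjNormal (h : X) v then 1 else 0) := by
          apply Finset.sum_congr rfl
          intro v _
          apply Finset.sum_congr rfl
          intro w _
          simp only [kgv_comm_iff V G hGV, hgh, true_and]
      _ = _ := this
      _ = _ := by
          congr 1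
          apply Finset.sum_congr rfl
          intro u _
          simp only [kgv_fix_iff, hgh, true_and]
  · have h1 : ∀ v w : V, ¬ (((v : X) * g) * ((w : X) * h) = ((w : X) * h) * ((v : X) * g)) := by
      intro v w hh
      exact hgh ((kgv_comm_iff V G hGV v w g h).1 hh).1
    simp only [h1, hgh, false_and, if_false, Finset.sum_const_zero, mul_zero]

theorem kgv_pairs_formula (V G : Subgroup X) [V.Normal] [Fintype X] [Fintype V] [Fintype G]
    [DecidableEq X]
    (hab : ∀ a ∈ V, ∀ b ∈ V, a * b = b * a)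
    (hGV : Subgroup.IsComplement' V G) (hcop : (Nat.card V).Coprime (Nat.card G)) :
    (∑ x : X, ∑ y : X, if x * y = y * x then 1 else 0) =
    Nat.card V * ∑ u : V, ∑ g : G, ∑ h : G,
      if ((g : X) * h = h * g ∧ (g : X) * u = u * g ∧ (h : X) * u = u * h) then 1 else 0 := by
  let e : V × G ≃ X := Equiv.ofBijective (fun p => (p.1 : X) * p.2) hGV
  have he : ∀ p : V × G, e p = (p.1 : X) * p.2 := fun p => rfl
  calc (∑ x : X, ∑ y : X, if x * y = y * x then 1 else 0)
      = ∑ p : V × G, ∑ q : V × G, if e p * e q = e q * e p then 1 else 0 := by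
        rw [← Equiv.sum_comp e]
        apply Finset.sum_congr rfl
        intro p _
        rw [← Equiv.sum_comp e]
    _ = ∑ g : G, ∑ h : G, ∑ v : V, ∑ w : V,
          if ((v : X) * g) * ((w : X) * h) = ((w : X) * h) * ((v : X) * g) then 1 else 0 := by
        simp only [Fintype.sum_prod_type, he]
        rw [Finset.sum_comm]
        apply Finset.sum_congr rfl
        intro g _
        exact (Finset.sum_congr rfl (fun v _ => Finset.sum_comm)).trans Finset.sum_comm
    _ = ∑ g : G, ∑ h : G, Nat.card V * ∑ u : V,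
          if ((g : X) * h = h * g ∧ (g : X) * u = u * g ∧ (h : X) * u = u * h) then 1 else 0 := by
        apply Finset.sum_congr rfl
        intro g _
        apply Finset.sum_congr rfl
        intro h _
        exact kgv_inner_count V G hab hGV hcop g h
    _ = _ := by
        simp only [← Finset.mul_sum]
        congr 1
        exact (Finset.sum_congr rfl (fun g _ => Finset.sum_comm)).trans Finset.sum_comm


theorem kgv_card_commute_eq_sum (Y : Type*) [Group Y] [Fintype Y] [DecidableEq Y] :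
    Nat.card {p : Y × Y // Commute p.1 p.2} = ∑ a : Y, ∑ b : Y, if a * b = b * a then 1 else 0 := by
  classical
  rw [Nat.card_eq_fintype_card, Fintype.card_subtype, Finset.card_filter,
    Fintype.sum_prod_type]
  apply Finset.sum_congr rfl
  intro a _
  apply Finset.sum_congr rfl
  intro b _
  simp only [commute_iff_eq]

theorem kgv_sum_inf (G Z : Subgroup X) [Fintype G] [Fintype ↥(G ⊓ Z)] [DecidablePred (· ∈ Z)]
    (φ : X → ℕ) :
    ∑ c : ↥(G ⊓ Z), φ c = ∑ g : G, if (g : X) ∈ Z then φ g else 0 := by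
  rw [← Finset.sum_filter]
  apply Finset.sum_bij (fun c _ => (⟨c.1, c.2.1⟩ : G))
  · intro c _
    simp only [mem_filter, mem_univ, true_and]
    exact c.2.2
  · intro c _ d _ h
    apply Subtype.ext
    simpa using h
  · intro g hg
    simp only [mem_filter, mem_univ, true_and] at hg
    exact ⟨⟨g.1, ⟨g.2, hg⟩⟩, mem_univ _, rfl⟩
  · intro c _
    rfl

theorem kgv_cp_centralizer (G : Subgroup X) [Fintype G] [DecidableEq X] (u : X) :
    (∑ g : G, ∑ h : G,
      if ((g : X) * h = h * g ∧ (g : X) * u = u * g ∧ (h : X) * u = u * h) then 1 else 0) =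
    Nat.card (ConjClasses ↥(G ⊓ Subgroup.centralizer ({u} : Set X))) *
      Nat.card ↥(G ⊓ Subgroup.centralizer ({u} : Set X)) := by
  classical
  haveI : Fintype ↥(G ⊓ Subgroup.centralizer ({u} : Set X)) :=
    Fintype.ofInjective (fun c => (⟨c.1, c.2.1⟩ : G)) (by
      intro c d h; apply Subtype.ext; simpa using h)
  rw [← card_comm_eq_card_conjClasses_mul_card, kgv_card_commute_eq_sum]
  have h1 : ∀ c d : ↥(G ⊓ Subgroup.centralizer ({u} : Set X)),
      (c * d = d * c) ↔ ((c : X) * d = d * c) := by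
    intro c d
    rw [Subtype.ext_iff]
    rfl
  simp only [h1]
  rw [kgv_sum_inf G (Subgroup.centralizer ({u} : Set X))
    (fun x => ∑ d : ↥(G ⊓ Subgroup.centralizer ({u} : Set X)), if x * d = d * x then 1 else 0)]
  apply Finset.sum_congr rfl
  intro g _
  rw [kgv_sum_inf G (Subgroup.centralizer ({u} : Set X)) (fun y => if (g : X) * y = y * g then 1 else 0)]
  simp only [Subgroup.mem_centralizer_singleton_iff]
  by_cases hg : (g : X) * u = u * g
  · rw [if_pos hg]
    apply Finset.sum_congr rfl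
    intro h _
    by_cases hh : (h : X) * u = u * h
    · simp [hg, hh]
    · simp [hh]
  · rw [if_neg hg]
    simp [hg]


theorem kgv_conj_comm_iff (a g u : X) :
    (a * g * a⁻¹) * (a * u * a⁻¹) = (a * u * a⁻¹) * (a * g * a⁻¹) ↔ g * u = u * g := by
  have e1 : (a * g * a⁻¹) * (a * u * a⁻¹) = a * (g * u) * a⁻¹ := by group
  have e2 : (a * u * a⁻¹) * (a * g * a⁻¹) = a * (u * g) * a⁻¹ := by group
  rw [e1, e2, mul_left_inj, mul_right_inj]

theorem kgv_card_inf (G : Subgroup X) [Fintype G] [DecidableEq X] (u : X) :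
    Nat.card ↥(G ⊓ Subgroup.centralizer ({u} : Set X)) =
      ∑ g : G, if (g : X) * u = u * g then 1 else 0 := by
  classical
  haveI : Fintype ↥(G ⊓ Subgroup.centralizer ({u} : Set X)) :=
    Fintype.ofInjective (fun c => (⟨c.1, c.2.1⟩ : G)) (by
      intro c d h; apply Subtype.ext; simpa using h)
  have := kgv_sum_inf G (Subgroup.centralizer ({u} : Set X)) (fun _ => 1)
  rw [Nat.card_eq_fintype_card, Fintype.card_eq_sum_ones, this]
  apply Finset.sum_congr rfl
  intro g _
  simp only [Subgroup.mem_centralizer_singleton_iff]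

theorem kgv_cardG_conj (G : Subgroup X) [Fintype G] [DecidableEq X] (a : G) (u : X) :
    (∑ g : G, if (g : X) * ((a : X) * u * (a : X)⁻¹) = ((a : X) * u * (a : X)⁻¹) * g then 1 else 0) =
      ∑ g : G, if (g : X) * u = u * g then 1 else 0 := by
  rw [← Equiv.sum_comp (MulAut.conj a).toEquiv]
  apply Finset.sum_congr rfl
  intro g _
  have : (((MulAut.conj a).toEquiv g : G) : X) = (a : X) * g * (a : X)⁻¹ := by
    simp [MulAut.conj_apply]
  rw [this]
  simp only [kgv_conj_comm_iff]

theorem kgv_cpG_conj (G : Subgroup X) [Fintype G] [DecidableEq X] (a : G) (u : X) :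
    (∑ g : G, ∑ h : G, if ((g : X) * h = h * g ∧
        (g : X) * ((a : X) * u * (a : X)⁻¹) = ((a : X) * u * (a : X)⁻¹) * g ∧
        (h : X) * ((a : X) * u * (a : X)⁻¹) = ((a : X) * u * (a : X)⁻¹) * h) then 1 else 0) =
      ∑ g : G, ∑ h : G,
        if ((g : X) * h = h * g ∧ (g : X) * u = u * g ∧ (h : X) * u = u * h) then 1 else 0 := by
  rw [← Equiv.sum_comp (MulAut.conj a).toEquiv]
  apply Finset.sum_congr rfl
  intro g _
  rw [← Equiv.sum_comp (MulAut.conj a).toEquiv]
  apply Finset.sum_congr rfl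
  intro h _
  have hc : ∀ g : G, (((MulAut.conj a).toEquiv g : G) : X) = (a : X) * g * (a : X)⁻¹ := by
    intro g
    simp [MulAut.conj_apply]
  rw [hc, hc]
  simp only [kgv_conj_comm_iff]

theorem kgv_F_conj (G : Subgroup X) [Finite G] (a : X) (ha : a ∈ G) (u : X) :
    Nat.card (ConjClasses ↥(G ⊓ Subgroup.centralizer ({a * u * a⁻¹} : Set X))) =
      Nat.card (ConjClasses ↥(G ⊓ Subgroup.centralizer ({u} : Set X))) := by
  classical
  haveI := Fintype.ofFinite G
  have h1 := kgv_cp_centralizer G (a * u * a⁻¹)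
  have h2 := kgv_cp_centralizer G u
  have h3 := kgv_cpG_conj G ⟨a, ha⟩ u
  have h4 := kgv_cardG_conj G ⟨a, ha⟩ u
  rw [← kgv_card_inf, ← kgv_card_inf] at h4
  simp only at h3 h4
  rw [h1, h2, h4] at h3
  haveI : Finite ↥(G ⊓ Subgroup.centralizer ({u} : Set X)) :=
    Finite.of_injective (fun c => (⟨c.1, c.2.1⟩ : G)) (by
      intro c d h; apply Subtype.ext; simpa using h)
  have hpos : 0 < Nat.card ↥(G ⊓ Subgroup.centralizer ({u} : Set X)) := Nat.card_pos
  exact Nat.eq_of_mul_eq_mul_right hpos h3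


theorem kgv_fiber_S (V G : Subgroup X) [Fintype G] [DecidableEq X] (S : Finset X)
    (hrep : ∀ v ∈ V, ∃! s, s ∈ S ∧ ∃ g ∈ G, g * v * g⁻¹ = s) (u : X) (hu : u ∈ V) :
    (∑ g : G, if (g : X) * u * (g : X)⁻¹ ∈ S then 1 else 0) =
      ∑ g : G, if (g : X) * u = u * g then 1 else 0 := by
  obtain ⟨s₀, ⟨hs₀, g₀, hg₀, hgs⟩, huniq⟩ := hrep u hu
  rw [← Equiv.sum_comp (Equiv.mulLeft (⟨g₀, hg₀⟩ : G))]
  apply Finset.sum_congr rfl
  intro c _
  have e1 : ((Equiv.mulLeft (⟨g₀, hg₀⟩ : G) c : G) : X) = g₀ * c := rfl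
  rw [e1]
  have e2 : g₀ * (c : X) * u * (g₀ * (c : X))⁻¹ = g₀ * ((c : X) * u * (c : X)⁻¹) * g₀⁻¹ := by group
  rw [e2]
  by_cases hc : (c : X) * u = u * c
  · rw [if_pos hc, if_pos]
    have : (c : X) * u * (c : X)⁻¹ = u := by rw [hc]; group
    rw [this, hgs]
    exact hs₀
  · rw [if_neg hc, if_neg]
    intro hmem
    have := huniq _ ⟨hmem, g₀ * (c : X), G.mul_mem hg₀ c.2, e2⟩
    rw [← hgs, mul_left_inj, mul_right_inj, mul_inv_eq_iff_eq_mul] at this
    exact hc this

theorem kgv_orbit_sum (V G : Subgroup X) [V.Normal] [Fintype V] [Fintype G] [DecidableEq X]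
    (S : Finset X) (hSV : ∀ s ∈ S, s ∈ V)
    (hrep : ∀ v ∈ V, ∃! s, s ∈ S ∧ ∃ g ∈ G, g * v * g⁻¹ = s) (F : X → ℕ)
    (hF : ∀ a ∈ G, ∀ u : X, F (a * u * a⁻¹) = F u) :
    (∑ u : V, (∑ g : G, if (g : X) * u = u * g then 1 else 0) * F u) =
      Nat.card G * ∑ s ∈ S, F s := by
  have hA : ∀ u : V, (∑ g : G, if (g : X) * u = u * g then 1 else 0) * F u =
      ∑ g : G, ∑ s ∈ S, if (g : X) * u * (g : X)⁻¹ = s then F u else 0 := by
    intro u
    rw [← kgv_fiber_S V G S hrep u u.2, Finset.sum_mul]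
    apply Finset.sum_congr rfl
    intro g _
    rw [Finset.sum_ite_eq]
    split_ifs <;> simp
  simp only [hA]
  have hB : ∀ s ∈ S, ∀ g : G, (∑ u : V, if (g : X) * u * (g : X)⁻¹ = s then F u else 0) = F s := by
    intro s hs g
    have hmem : (g : X)⁻¹ * s * g ∈ V := by
      have := Subgroup.Normal.conj_mem (inferInstance : V.Normal) s (hSV s hs) (g : X)⁻¹
      simpa using this
    rw [Finset.sum_eq_single (⟨(g : X)⁻¹ * s * g, hmem⟩ : V)]
    · have e : (g : X) * ((g : X)⁻¹ * s * g) * (g : X)⁻¹ = s := by group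
      simp only [e, if_true]
      have := hF (g : X)⁻¹ (G.inv_mem g.2) s
      simpa using this
    · intro u _ hne
      rw [if_neg]
      intro h
      apply hne
      apply Subtype.ext
      simp only
      rw [← h]
      group
    · intro h
      exact absurd (mem_univ _) h
  calc (∑ u : V, ∑ g : G, ∑ s ∈ S, if (g : X) * u * (g : X)⁻¹ = s then F u else 0)
      = ∑ s ∈ S, ∑ g : G, ∑ u : V, if (g : X) * u * (g : X)⁻¹ = s then F u else 0 := by
        exact ((Finset.sum_congr rfl (fun u _ => Finset.sum_comm)).trans Finset.sum_comm).trans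
          (Finset.sum_congr rfl (fun s _ => Finset.sum_comm))
    _ = ∑ s ∈ S, ∑ g : G, F s := by
        apply Finset.sum_congr rfl
        intro s hs
        apply Finset.sum_congr rfl
        intro g _
        exact hB s hs g
    _ = _ := by
        simp only [Finset.sum_const, smul_eq_mul, Finset.card_univ, ← Finset.mul_sum,
          Nat.card_eq_fintype_card]

theorem kgv_formula {X : Type*} [Group X] [Finite X] (V : Subgroup X) [V.Normal]
    (hab : ∀ a ∈ V, ∀ b ∈ V, a * b = b * a) (G : Subgroup X)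
    (hGV : Subgroup.IsComplement' V G) (hcop : (Nat.card V).Coprime (Nat.card G))
    (S : Finset X) (hSV : ∀ s ∈ S, s ∈ V)
    (hrep : ∀ v ∈ V, ∃! s, s ∈ S ∧ ∃ g ∈ G, g * v * g⁻¹ = s) :
    Nat.card (ConjClasses X) =
      ∑ s ∈ S, Nat.card (ConjClasses ↥(G ⊓ Subgroup.centralizer ({s} : Set X))) := by
  classical
  haveI := Fintype.ofFinite X
  haveI : Fintype V := Fintype.ofFinite V
  haveI : Fintype G := Fintype.ofFinite G
  have h1 := card_comm_eq_card_conjClasses_mul_card X
  rw [kgv_card_commute_eq_sum, kgv_pairs_formula V G hab hGV hcop] at h1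
  have h2 : ∀ u : V, (∑ g : G, ∑ h : G,
      if ((g : X) * h = h * g ∧ (g : X) * u = u * g ∧ (h : X) * u = u * h) then 1 else 0) =
      (∑ g : G, if (g : X) * u = u * g then 1 else 0) *
        Nat.card (ConjClasses ↥(G ⊓ Subgroup.centralizer ({(u : X)} : Set X))) := by
    intro u
    rw [kgv_cp_centralizer G (u : X), kgv_card_inf, mul_comm]
  simp only [h2] at h1
  rw [kgv_orbit_sum V G S hSV hrep
    (fun u => Nat.card (ConjClasses ↥(G ⊓ Subgroup.centralizer ({u} : Set X))))
    (fun a ha u => kgv_F_conj G a ha u), ← mul_assoc, hGV.card_mul, mul_comm] at h1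
  exact (Nat.eq_of_mul_eq_mul_right Nat.card_pos h1).symm

end Cfsg.Agent.Lib.Helper25
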