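import Mathlib
import Cfsg.Agent.Lib.Helper24.FSCount
import Cfsg.Agent.Lib.Helper25.Gagola
import Cfsg.Agent.Lib.Helper25.CharNormal
import Cfsg.Agent.Lib.helper7.Induction

/-!
Real constituents of Frobenius-Schur indicator +1 in a permutation character: there is exactly
one (the trivial character) iff the core of the point stabilizer has odd index.
-/

set_option autoImplicit false
set_option linter.deprecated false

namespace Cfsg.Agent.Lib.Helper25
open Cfsg.Agent.Lib.Helper24 Cfsg.Agent.Lib.helper7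
open scoped ComplexConjugate

variable {G : Type*} [Group G]



theorem irr_mul_of_ker [Finite G] (χ : Cfsg.IrrCharacter G) (g k : G)
    (hk : (χ : G → ℂ) k = (χ : G → ℂ) 1) : (χ : G → ℂ) (g * k) = (χ : G → ℂ) g := by
  obtain ⟨n, ρ, hρ, hχ⟩ := χ.2
  rw [← hχ] at hk ⊢
  rw [Representation.char_one, Cfsg.Agent.S0139.result] at hk
  simp only [Representation.character, map_mul, hk]
  rfl

/-- Summing a function of the coset over the group. -/
theorem sum_quotient_mk [Fintype G] (K : Subgroup G) [K.Normal] [Fintype K] [Fintype (G ⧸ K)]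
    (F : G ⧸ K → ℂ) :
    ∑ g : G, F (g : G ⧸ K) = (Nat.card K : ℂ) * ∑ c : G ⧸ K, F c := by
  classical
  have hout : ∀ c : G ⧸ K, ((Quotient.out c : G) : G ⧸ K) = c := fun c => Quotient.out_eq' c
  have hmk : ∀ (c : G ⧸ K) (k : K), (((Quotient.out c : G) * (k : G) : G) : G ⧸ K) = c := by
    intro c k
    rw [QuotientGroup.mk_mul, (QuotientGroup.eq_one_iff (k : G)).2 k.2, mul_one, hout]
  let e : (G ⧸ K) × K → G := fun p => (Quotient.out p.1 : G) * (p.2 : G)
  have he : Function.Bijective e := by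
    constructor
    · rintro ⟨c, k⟩ ⟨c', k'⟩ h
      have h' : (Quotient.out c : G) * (k : G) = (Quotient.out c' : G) * (k' : G) := h
      have hc : c = c' := by
        have := congrArg (fun g : G => (g : G ⧸ K)) h'
        simp only [hmk] at this
        exact this
      subst hc
      have : (k : G) = (k' : G) := mul_left_cancel h'
      rw [Subtype.ext this]
    · intro g
      have hmem : (Quotient.out (g : G ⧸ K) : G)⁻¹ * g ∈ K := by
        rw [← QuotientGroup.eq, hout]
      refine ⟨((g : G ⧸ K), ⟨_, hmem⟩), ?_⟩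
      show (Quotient.out (g : G ⧸ K) : G) * ((Quotient.out (g : G ⧸ K) : G)⁻¹ * g) = g
      group
  rw [← Equiv.sum_comp (Equiv.ofBijective e he) (fun g => F (g : G ⧸ K)), Fintype.sum_prod_type,
    Finset.mul_sum]
  refine Finset.sum_congr rfl fun c _ => ?_
  have : ∀ k : K, F (((Equiv.ofBijective e he) (c, k) : G) : G ⧸ K) = F c := by
    intro k
    show F (((Quotient.out c : G) * (k : G) : G) : G ⧸ K) = F c
    rw [hmk]
  simp only [this, Finset.sum_const, Finset.card_univ, nsmul_eq_mul, Nat.card_eq_fintype_card]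

theorem sum_sq_of_odd_index [Fintype G] (K : Subgroup G) [K.Normal] (hodd : Odd K.index)
    (χ : Cfsg.IrrCharacter G) (hK : ∀ n ∈ K, (χ : G → ℂ) n = (χ : G → ℂ) 1) :
    ∑ g : G, (χ : G → ℂ) (g * g) = ∑ g : G, (χ : G → ℂ) g := by
  classical
  haveI : Fintype K := Fintype.ofFinite _
  haveI : Fintype (G ⧸ K) := Fintype.ofFinite _
  set F : G ⧸ K → ℂ := fun c => (χ : G → ℂ) (Quotient.out c) with hF
  have hFg : ∀ g : G, F (g : G ⧸ K) = (χ : G → ℂ) g := by
    intro g
    obtain ⟨k, hk⟩ := QuotientGroup.mk_out_eq_mul K g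
    simp only [hF]
    rw [hk]
    exact irr_mul_of_ker χ g k (hK k k.2)
  have h1 : ∑ g : G, (χ : G → ℂ) (g * g) = ∑ g : G, (fun c : G ⧸ K => F (c * c)) (g : G ⧸ K) := by
    refine Finset.sum_congr rfl fun g _ => ?_
    show (χ : G → ℂ) (g * g) = F ((g : G ⧸ K) * (g : G ⧸ K))
    rw [← QuotientGroup.mk_mul, hFg]
  have h2 : ∑ g : G, (χ : G → ℂ) g = ∑ g : G, F (g : G ⧸ K) := by
    refine Finset.sum_congr rfl fun g _ => ?_
    rw [hFg]
  rw [h1, h2, sum_quotient_mk K (fun c : G ⧸ K => F (c * c)), sum_quotient_mk K F]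
  congr 1
  have hcop : (Nat.card (G ⧸ K)).Coprime 2 := by
    have : Nat.card (G ⧸ K) = K.index := rfl
    rw [this]
    exact Nat.coprime_two_right.2 hodd
  have := Equiv.sum_comp (powCoprime hcop) F
  rw [← this]
  refine Finset.sum_congr rfl fun c _ => ?_
  show F (c * c) = F (c ^ 2)
  rw [pow_two]



/-- multiplicity of χ in the permutation character on cosets of H -/
theorem perm_mult [Fintype G] (H : Subgroup G) [Fintype H] (χ : Cfsg.IrrCharacter G) (k : ℕ)
    (hk : ∑ x : H, (χ : G → ℂ) (x : G) = (Nat.card H : ℂ) * k) :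
    Cfsg.classInner (Cfsg.indFun H (fun _ : H => (1 : ℂ))) (χ : G → ℂ) = (k : ℂ) := by
  have hcf : Cfsg.IsClassFunction G (χ : G → ℂ) := fun g h => irr_conj_invariant χ g h
  rw [h7_frobenius_reciprocity H _ _ hcf]
  unfold Cfsg.classInner
  have hH : (Nat.card H : ℂ) ≠ 0 := by exact_mod_cast Nat.card_pos.ne'
  have : ∑ g : H, (1 : ℂ) * conj ((χ : G → ℂ) (g : G)) = conj (∑ g : H, (χ : G → ℂ) (g : G)) := by
    rw [map_sum]
    refine Finset.sum_congr rfl fun g _ => ?_
    rw [one_mul]
  rw [this, hk]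
  simp only [map_mul, map_natCast]
  field_simp

theorem perm_mult_zero [Finite G] (H : Subgroup G) [Fintype H] (χ : Cfsg.IrrCharacter G)
    (hN : ∃ n ∈ H.normalCore, (χ : G → ℂ) n ≠ (χ : G → ℂ) 1) :
    ∑ x : H, (χ : G → ℂ) (x : G) = 0 := by
  classical
  haveI : Fintype H.normalCore := Fintype.ofFinite _
  have hle : H.normalCore ≤ H := Subgroup.normalCore_le H
  have h0 : ∀ x : G, ∑ n : H.normalCore, (χ : G → ℂ) (x * (n : G)) = 0 :=
    fun x => irr_sum_normal χ H.normalCore hN x
  have h1 : ∀ n : H.normalCore, ∑ x : H, (χ : G → ℂ) ((x : G) * (n : G)) =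
      ∑ x : H, (χ : G → ℂ) (x : G) := by
    intro n
    exact Equiv.sum_comp (Equiv.mulRight (⟨(n : G), hle n.2⟩ : H)) (fun x : H => (χ : G → ℂ) (x : G))
  have h2 : ∑ n : H.normalCore, ∑ x : H, (χ : G → ℂ) ((x : G) * (n : G)) = 0 := by
    rw [Finset.sum_comm]
    exact Finset.sum_eq_zero fun x _ => h0 x
  simp only [h1, Finset.sum_const, Finset.card_univ, nsmul_eq_mul] at h2
  rcases mul_eq_zero.1 h2 with h | h
  · exfalso
    have : (Fintype.card H.normalCore : ℂ) ≠ 0 := by exact_mod_cast Fintype.card_ne_zero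
    exact this h
  · exact h

theorem card_sq_mem [Fintype G] [Fintype (Cfsg.IrrCharacter G)] (H : Subgroup G) [Fintype H]
    (k : Cfsg.IrrCharacter G → ℕ)
    (hk : ∀ χ : Cfsg.IrrCharacter G, ∑ x : H, (χ : G → ℂ) (x : G) = (Nat.card H : ℂ) * k χ) :
    (Nat.card {y : G // y * y ∈ H} : ℂ) =
      (Nat.card H : ℂ) * ∑ χ : Cfsg.IrrCharacter G, fsNu χ * (k χ : ℂ) := by
  classical
  have e : {y : G // y * y ∈ H} ≃ Σ h : H, {y : G // y * y = (h : G)} :=
    { toFun := fun y => ⟨⟨y.1 * y.1, y.2⟩, ⟨y.1, rfl⟩⟩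
      invFun := fun p => ⟨p.2.1, by rw [p.2.2]; exact p.1.2⟩
      left_inv := fun y => rfl
      right_inv := fun p => by
        obtain ⟨⟨h, hh⟩, ⟨y, hy⟩⟩ := p
        simp only at hy
        subst hy
        rfl }
  rw [Nat.card_congr e, Nat.card_sigma, Nat.cast_sum]
  simp_rw [sqrt_count_expansion]
  rw [Finset.sum_comm, Finset.mul_sum]
  refine Finset.sum_congr rfl fun χ _ => ?_
  rw [← Finset.mul_sum, hk χ]
  unfold fsNu
  ring



theorem triv_of_odd_core [Fintype G] (H : Subgroup G) (hodd : Odd H.normalCore.index)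
    (χ : Cfsg.IrrCharacter G)
    (hm : Cfsg.classInner (Cfsg.indFun H (fun _ : H => (1 : ℂ))) (χ : G → ℂ) ≠ 0)
    (hν : (Nat.card G : ℂ)⁻¹ * ∑ g : G, (χ : G → ℂ) (g * g) = 1) : χ = trivIrr G := by
  classical
  haveI : Fintype H := Fintype.ofFinite _
  obtain ⟨k, hk⟩ := sum_subgroup_irr H χ
  have hmk := perm_mult H χ k hk
  have hK : ∀ n ∈ H.normalCore, (χ : G → ℂ) n = (χ : G → ℂ) 1 := by
    by_contra hcon
    push Not at hcon
    have h0 := perm_mult_zero H χ hcon
    rw [h0] at hk
    have hH : (Nat.card H : ℂ) ≠ 0 := by exact_mod_cast Nat.card_pos.ne'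
    have : (k : ℂ) = 0 := by
      rcases mul_eq_zero.1 hk.symm with h | h
      · exact absurd h hH
      · exact h
    rw [hmk, this] at hm
    exact hm rfl
  rw [sum_sq_of_odd_index H.normalCore hodd χ hK] at hν
  have h1 := irr_classInner χ (trivIrr G)
  unfold Cfsg.classInner at h1
  simp only [trivIrr_apply, map_one, mul_one] at h1
  rw [hν] at h1
  by_contra hne
  rw [if_neg hne] at h1
  exact one_ne_zero h1

theorem triv_mem [Fintype G] (H : Subgroup G) :
    Cfsg.classInner (Cfsg.indFun H (fun _ : H => (1 : ℂ))) (trivIrr G : G → ℂ) ≠ 0 ∧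
    (∀ g : G, (starRingEnd ℂ) ((trivIrr G : G → ℂ) g) = (trivIrr G : G → ℂ) g) ∧
    (Nat.card G : ℂ)⁻¹ * ∑ g : G, (trivIrr G : G → ℂ) (g * g) = 1 := by
  classical
  haveI : Fintype H := Fintype.ofFinite _
  refine ⟨?_, ?_, ?_⟩
  · have hk : ∑ x : H, (trivIrr G : G → ℂ) (x : G) = (Nat.card H : ℂ) * ((1 : ℕ) : ℂ) := by
      simp [Nat.card_eq_fintype_card]
    rw [perm_mult H (trivIrr G) 1 hk]
    norm_num
  · intro g
    simp
  · exact fsNu_triv



/-- If the core has even index, some element outside `H` squares into `H`. -/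
theorem exists_sq_mem_not_mem [Finite G] (H : Subgroup G) (heven : ¬ Odd H.normalCore.index) :
    ∃ y : G, y ∉ H ∧ y * y ∈ H := by
  have h2 : 2 ∣ Nat.card (G ⧸ H.normalCore) := by
    have : Nat.card (G ⧸ H.normalCore) = H.normalCore.index := rfl
    rw [this]
    exact even_iff_two_dvd.1 (Nat.not_odd_iff_even.1 heven)
  haveI : Fact (Nat.Prime 2) := ⟨Nat.prime_two⟩
  obtain ⟨c, hc⟩ := exists_prime_orderOf_dvd_card' 2 h2
  obtain ⟨x, rfl⟩ := QuotientGroup.mk_surjective c
  have hx1 : x ∉ H.normalCore := by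
    intro hx
    have : ((x : G) : G ⧸ H.normalCore) = 1 := (QuotientGroup.eq_one_iff x).2 hx
    rw [this, orderOf_one] at hc
    omega
  have hx2 : x * x ∈ H.normalCore := by
    rw [← QuotientGroup.eq_one_iff, QuotientGroup.mk_mul, ← pow_two, ← hc, pow_orderOf_eq_one]
  have hx1' : ∃ b : G, b * x * b⁻¹ ∉ H := by
    by_contra hcon
    push Not at hcon
    exact hx1 hcon
  obtain ⟨b, hb⟩ := hx1'
  refine ⟨b * x * b⁻¹, hb, ?_⟩
  have : b * x * b⁻¹ * (b * x * b⁻¹) = b * (x * x) * b⁻¹ := by group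
  rw [this]
  exact Subgroup.normalCore_le H ((Subgroup.normalCore_normal H).conj_mem _ hx2 b)

theorem card_sq_mem_gt [Finite G] (H : Subgroup G) (y : G) (hy : y ∉ H) (hyy : y * y ∈ H) :
    Nat.card H + 1 ≤ Nat.card {z : G // z * z ∈ H} := by
  classical
  let f : Option H → {z : G // z * z ∈ H} := fun o =>
    match o with
    | none => ⟨y, hyy⟩
    | some h => ⟨(h : G), H.mul_mem h.2 h.2⟩
  have hf : Function.Injective f := by
    intro a b hab
    cases a with
    | none =>
      cases b with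
      | none => rfl
      | some h =>
        exfalso
        have : y = (h : G) := congrArg (fun z : {z : G // z * z ∈ H} => (z : G)) hab
        exact hy (this ▸ h.2)
    | some h =>
      cases b with
      | none =>
        exfalso
        have : (h : G) = y := congrArg (fun z : {z : G // z * z ∈ H} => (z : G)) hab
        exact hy (this ▸ h.2)
      | some h' =>
        have : (h : G) = (h' : G) := congrArg (fun z : {z : G // z * z ∈ H} => (z : G)) hab
        rw [Subtype.ext this]
  have hle := Nat.card_le_card_of_injective f hf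
  haveI : Fintype H := Fintype.ofFinite _
  rwa [Nat.card_eq_fintype_card (α := Option H), Fintype.card_option,
    ← Nat.card_eq_fintype_card] at hle



theorem odd_of_unique [Fintype G] (H : Subgroup G)
    (huniq : ∀ χ : Cfsg.IrrCharacter G,
      Cfsg.classInner (Cfsg.indFun H (fun _ : H => (1 : ℂ))) (χ : G → ℂ) ≠ 0 →
      (∀ g : G, (starRingEnd ℂ) ((χ : G → ℂ) g) = (χ : G → ℂ) g) →
      (Nat.card G : ℂ)⁻¹ * ∑ g : G, (χ : G → ℂ) (g * g) = 1 → χ = trivIrr G) :
    Odd H.normalCore.index := by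
  classical
  by_contra heven
  haveI : Fintype H := Fintype.ofFinite _
  haveI : Fintype (Cfsg.IrrCharacter G) := Fintype.ofFinite _
  obtain ⟨y, hy, hyy⟩ := exists_sq_mem_not_mem H heven
  have hgt := card_sq_mem_gt H y hy hyy
  choose k hk using fun χ : Cfsg.IrrCharacter G => sum_subgroup_irr H χ
  have hcount := card_sq_mem H k hk
  have hH : (Nat.card H : ℂ) ≠ 0 := by exact_mod_cast Nat.card_pos.ne'
  have hktriv : k (trivIrr G) = 1 := by
    have h := hk (trivIrr G)
    simp only [trivIrr_apply, Finset.sum_const, Finset.card_univ, nsmul_eq_mul, mul_one] at h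
    rw [← Nat.card_eq_fintype_card] at h
    have h' : (Nat.card H : ℂ) * 1 = (Nat.card H : ℂ) * (k (trivIrr G) : ℂ) := by rw [mul_one]; exact h
    have := mul_left_cancel₀ hH h'
    exact_mod_cast this.symm
  set a : Cfsg.IrrCharacter G → ℕ := fun χ => if fsNu χ = -1 then k χ else 0 with ha
  have hterm : ∀ χ : Cfsg.IrrCharacter G,
      fsNu χ * (k χ : ℂ) = (if χ = trivIrr G then 1 else 0) - (a χ : ℂ) := by
    intro χ
    by_cases hχ : χ = trivIrr G
    · rw [if_pos hχ, hχ, fsNu_triv, hktriv]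
      simp only [ha]
      rw [if_neg (by rw [fsNu_triv]; norm_num)]
      simp
    · rw [if_neg hχ]
      rcases fsNu_cases χ with h0 | ⟨h1 | h1, hreal⟩
      · simp only [ha]
        rw [h0, if_neg (by norm_num)]
        simp
      · -- ν = 1: then k χ = 0
        have hk0 : k χ = 0 := by
          by_contra hne
          apply hχ
          apply huniq χ
          · rw [perm_mult H χ (k χ) (hk χ)]
            exact_mod_cast hne
          · intro g
            exact Complex.conj_eq_iff_im.2 (hreal g)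
          · exact h1
        simp only [ha]
        rw [hk0, h1, if_neg (by norm_num)]
        simp
      · simp only [ha]
        rw [h1, if_pos rfl]
        ring
  have hsum : ∑ χ : Cfsg.IrrCharacter G, fsNu χ * (k χ : ℂ) =
      1 - ((∑ χ : Cfsg.IrrCharacter G, a χ : ℕ) : ℂ) := by
    simp_rw [hterm]
    rw [Finset.sum_sub_distrib, Finset.sum_ite_eq' Finset.univ (trivIrr G)]
    simp
  rw [hsum] at hcount
  have hnat : Nat.card {y : G // y * y ∈ H} + Nat.card H * (∑ χ : Cfsg.IrrCharacter G, a χ) =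
      Nat.card H := by
    have : ((Nat.card {y : G // y * y ∈ H} + Nat.card H * (∑ χ : Cfsg.IrrCharacter G, a χ) : ℕ) : ℂ) =
        ((Nat.card H : ℕ) : ℂ) := by
      push_cast
      rw [hcount]
      push_cast
      ring
    exact_mod_cast this
  have : Nat.card {y : G // y * y ∈ H} ≤ Nat.card H := by
    rw [← hnat]; exact Nat.le_add_right _ _
  omega


end Cfsg.Agent.Lib.Helper25
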