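import Mathlib
import Cfsg.Agent.S0860
import Cfsg.Agent.Lib.Helper11.IndNormal
import Cfsg.Agent.Lib.Helper25.CharReal

/-!
Orbits of a group on the real irreducible characters and on the real classes of a normal
subgroup of odd index (Brauer's permutation lemma for a permutation pair plus Burnside counting).
-/

set_option autoImplicit false
set_option linter.deprecated false

namespace Cfsg.Agent.Lib.Helper25
open Cfsg.Agent.S0860 Cfsg.Agent.Lib.Helper11
open scoped ComplexConjugate

variable {G : Type*} [Group G]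


theorem brauer_perm_pair {G : Type*} [Group G] [Finite G]
    (π : Cfsg.IrrCharacter G → Cfsg.IrrCharacter G) (τ : Equiv.Perm (ConjClasses G))
    (hcompat : ∀ (χ : Cfsg.IrrCharacter G) (g g' : G),
      ConjClasses.mk g' = τ (ConjClasses.mk g) → ((π χ : Cfsg.IrrCharacter G) : G → ℂ) g' =
        (χ : G → ℂ) g) :
    Nat.card {χ : Cfsg.IrrCharacter G // π χ = χ} = Nat.card {C : ConjClasses G // τ C = C} := by
  classical
  have := Fintype.ofFinite G
  have := Fintype.ofFinite (Cfsg.IrrCharacter G)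
  have := Fintype.ofFinite (ConjClasses G)
  let P : Matrix (Cfsg.IrrCharacter G) (Cfsg.IrrCharacter G) ℂ := fun χ ψ => if π χ = ψ then 1 else 0
  let Q : Matrix (ConjClasses G) (ConjClasses G) ℂ := fun C' C => if τ C' = C then 1 else 0
  have hPX : P * tblX G = tblX G * Q := by
    ext χ C
    rw [Matrix.mul_apply, Matrix.mul_apply]
    simp only [P, Q, ite_mul, one_mul, zero_mul, mul_ite, mul_one, mul_zero]
    rw [Finset.sum_ite_eq Finset.univ (π χ) (fun ψ => tblX G ψ C)]
    simp only [Finset.mem_univ, if_true]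
    have : ∀ C' : ConjClasses G, (τ C' = C) ↔ (τ.symm C = C') := by
      intro C'
      constructor
      · intro h; rw [← h, Equiv.symm_apply_apply]
      · intro h; rw [← h, Equiv.apply_symm_apply]
    simp only [this]
    rw [Finset.sum_ite_eq Finset.univ (τ.symm C) (fun C' => tblX G χ C')]
    simp only [Finset.mem_univ, if_true]
    unfold tblX
    apply hcompat
    have e1 : ConjClasses.mk (Quotient.out C) = C := Quotient.out_eq C
    have e2 : ConjClasses.mk (Quotient.out (τ.symm C)) = τ.symm C := Quotient.out_eq _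
    rw [e1, e2, Equiv.apply_symm_apply]
  have htr : Matrix.trace P = Matrix.trace Q := by
    calc Matrix.trace P = Matrix.trace (P * (tblX G * tblY G)) := by rw [tblX_mul_tblY, mul_one]
      _ = Matrix.trace ((P * tblX G) * tblY G) := by rw [Matrix.mul_assoc]
      _ = Matrix.trace ((tblX G * Q) * tblY G) := by rw [hPX]
      _ = Matrix.trace (tblX G * (Q * tblY G)) := by rw [Matrix.mul_assoc]
      _ = Matrix.trace ((Q * tblY G) * tblX G) := by rw [Matrix.trace_mul_comm]
      _ = Matrix.trace (Q * (tblY G * tblX G)) := by rw [Matrix.mul_assoc]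
      _ = Matrix.trace Q := by rw [tblY_mul_tblX, mul_one]
  have hP : Matrix.trace P = (Nat.card {χ : Cfsg.IrrCharacter G // π χ = χ} : ℂ) := by
    have : Matrix.trace P = ∑ χ : Cfsg.IrrCharacter G, if π χ = χ then (1 : ℂ) else 0 := rfl
    rw [this, Finset.sum_boole, Nat.card_eq_fintype_card, Fintype.card_subtype]
  have hQ : Matrix.trace Q = (Nat.card {C : ConjClasses G // τ C = C} : ℂ) := by
    have : Matrix.trace Q = ∑ C : ConjClasses G, if τ C = C then (1 : ℂ) else 0 := rfl
    rw [this, Finset.sum_boole, Nat.card_eq_fintype_card, Fintype.card_subtype]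
  rw [hP, hQ] at htr
  exact_mod_cast htr


theorem orbit_count_eq {G X Y : Type*} [Group G] [Finite G] [MulAction G X] [MulAction G Y]
    [Finite X] [Finite Y]
    (h : ∀ g : G, Nat.card (MulAction.fixedBy X g) = Nat.card (MulAction.fixedBy Y g)) :
    Nat.card (MulAction.orbitRel.Quotient G X) = Nat.card (MulAction.orbitRel.Quotient G Y) := by
  classical
  haveI := Fintype.ofFinite G
  haveI := Fintype.ofFinite X
  haveI := Fintype.ofFinite Y
  haveI : Fintype (MulAction.orbitRel.Quotient G X) := Fintype.ofFinite _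
  haveI : Fintype (MulAction.orbitRel.Quotient G Y) := Fintype.ofFinite _
  have h1 := MulAction.sum_card_fixedBy_eq_card_orbits_mul_card_group G X
  have h2 := MulAction.sum_card_fixedBy_eq_card_orbits_mul_card_group G Y
  have h3 : (∑ g : G, Fintype.card (MulAction.fixedBy X g)) =
      ∑ g : G, Fintype.card (MulAction.fixedBy Y g) := by
    refine Finset.sum_congr rfl fun g _ => ?_
    have := h g
    rwa [Nat.card_eq_fintype_card, Nat.card_eq_fintype_card] at this
  rw [h1, h2] at h3
  have hpos : 0 < Fintype.card G := Fintype.card_pos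
  rw [Nat.card_eq_fintype_card, Nat.card_eq_fintype_card]
  exact Nat.eq_of_mul_eq_mul_right hpos h3


theorem twisted_fixed_iff {G Z : Type*} [Group G] [MulAction G Z] (K : Subgroup G) [K.Normal]
    (hodd : Odd K.index) (ι : Z → Z) (hι : ∀ z, ι (ι z) = z)
    (hcomm : ∀ (g : G) (z : Z), ι (g • z) = g • ι z)
    (hK : ∀ x ∈ K, ∀ z : Z, x • z = z) (g : G) (z : Z) :
    ι (g • z) = z ↔ (ι z = z ∧ g • z = z) := by
  constructor
  · intro h
    have h1 : g • z = ι z := by rw [← h, hι, h]
    have h2 : (g ^ 2) • z = z := by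
      rw [pow_two, mul_smul, h1, ← hcomm, h]
    have hst2 : g ^ 2 ∈ MulAction.stabilizer G z := MulAction.mem_stabilizer_iff.2 h2
    have hKst : g ^ K.index ∈ MulAction.stabilizer G z :=
      MulAction.mem_stabilizer_iff.2 (hK _ (Subgroup.pow_index_mem K g) z)
    obtain ⟨m, hm⟩ := hodd
    have hg : g = (g ^ 2) ^ (m + 1) * (g ^ K.index)⁻¹ := by
      rw [hm, ← pow_mul, eq_mul_inv_iff_mul_eq, ← pow_succ']
      congr 1
    have hst : g ∈ MulAction.stabilizer G z := by
      rw [hg]
      exact Subgroup.mul_mem _ (Subgroup.pow_mem _ hst2 _) (Subgroup.inv_mem _ hKst)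
    have h3 : g • z = z := MulAction.mem_stabilizer_iff.1 hst
    exact ⟨by rw [← h1, h3], h3⟩
  · rintro ⟨h1, h2⟩
    rw [h2, h1]

/-- The induced action on the fixed points of an involution commuting with the action. -/
@[reducible] def fixedSubAction {G Z : Type*} [Group G] [MulAction G Z] (ι : Z → Z)
    (hcomm : ∀ (g : G) (z : Z), ι (g • z) = g • ι z) : MulAction G {z : Z // ι z = z} where
  smul g z := ⟨g • z.1, by rw [hcomm, z.2]⟩
  one_smul z := Subtype.ext (one_smul _ _)
  mul_smul g h z := Subtype.ext (mul_smul _ _ _)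

theorem real_orbit_count {G Z W : Type*} [Group G] [Finite G] [MulAction G Z] [MulAction G W]
    [Finite Z] [Finite W] (K : Subgroup G) [K.Normal] (hodd : Odd K.index)
    (ιZ : Z → Z) (hιZ : ∀ z, ιZ (ιZ z) = z)
    (hcommZ : ∀ (g : G) (z : Z), ιZ (g • z) = g • ιZ z)
    (hKZ : ∀ x ∈ K, ∀ z : Z, x • z = z)
    (ιW : W → W) (hιW : ∀ z, ιW (ιW z) = z)
    (hcommW : ∀ (g : G) (z : W), ιW (g • z) = g • ιW z)
    (hKW : ∀ x ∈ K, ∀ z : W, x • z = z)
    (hbrauer : ∀ g : G, Nat.card {z : Z // ιZ (g • z) = z} = Nat.card {w : W // ιW (g • w) = w}) :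
    Nat.card (Quot (fun a b : {z : Z // ιZ z = z} => ∃ g : G, g • a.1 = b.1)) =
      Nat.card (Quot (fun a b : {w : W // ιW w = w} => ∃ g : G, g • a.1 = b.1)) := by
  letI instZ : MulAction G {z : Z // ιZ z = z} := fixedSubAction ιZ hcommZ
  letI instW : MulAction G {w : W // ιW w = w} := fixedSubAction ιW hcommW
  have e1 : Quot (fun a b : {z : Z // ιZ z = z} => ∃ g : G, g • a.1 = b.1) ≃
      MulAction.orbitRel.Quotient G {z : Z // ιZ z = z} := by
    refine Quot.congrRight fun a b => ?_
    show (∃ g : G, g • a.1 = b.1) ↔ a ∈ MulAction.orbit G b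
    rw [MulAction.mem_orbit_iff]
    constructor
    · rintro ⟨g, hg⟩
      refine ⟨g⁻¹, Subtype.ext ?_⟩
      show g⁻¹ • b.1 = a.1
      rw [← hg, inv_smul_smul]
    · rintro ⟨g, hg⟩
      refine ⟨g⁻¹, ?_⟩
      have : g • b.1 = a.1 := congrArg Subtype.val hg
      rw [← this, inv_smul_smul]
  have e2 : Quot (fun a b : {w : W // ιW w = w} => ∃ g : G, g • a.1 = b.1) ≃
      MulAction.orbitRel.Quotient G {w : W // ιW w = w} := by
    refine Quot.congrRight fun a b => ?_
    show (∃ g : G, g • a.1 = b.1) ↔ a ∈ MulAction.orbit G b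
    rw [MulAction.mem_orbit_iff]
    constructor
    · rintro ⟨g, hg⟩
      refine ⟨g⁻¹, Subtype.ext ?_⟩
      show g⁻¹ • b.1 = a.1
      rw [← hg, inv_smul_smul]
    · rintro ⟨g, hg⟩
      refine ⟨g⁻¹, ?_⟩
      have : g • b.1 = a.1 := congrArg Subtype.val hg
      rw [← this, inv_smul_smul]
  rw [Nat.card_congr e1, Nat.card_congr e2]
  apply orbit_count_eq
  intro g
  have f1 : MulAction.fixedBy {z : Z // ιZ z = z} g ≃ {z : Z // ιZ (g • z) = z} :=
    { toFun := fun a => ⟨a.1.1, (twisted_fixed_iff K hodd ιZ hιZ hcommZ hKZ g a.1.1).2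
        ⟨a.1.2, congrArg Subtype.val a.2⟩⟩
      invFun := fun z => ⟨⟨z.1, ((twisted_fixed_iff K hodd ιZ hιZ hcommZ hKZ g z.1).1 z.2).1⟩,
        Subtype.ext ((twisted_fixed_iff K hodd ιZ hιZ hcommZ hKZ g z.1).1 z.2).2⟩
      left_inv := fun a => rfl
      right_inv := fun z => rfl }
  have f2 : MulAction.fixedBy {w : W // ιW w = w} g ≃ {w : W // ιW (g • w) = w} :=
    { toFun := fun a => ⟨a.1.1, (twisted_fixed_iff K hodd ιW hιW hcommW hKW g a.1.1).2
        ⟨a.1.2, congrArg Subtype.val a.2⟩⟩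
      invFun := fun z => ⟨⟨z.1, ((twisted_fixed_iff K hodd ιW hιW hcommW hKW g z.1).1 z.2).1⟩,
        Subtype.ext ((twisted_fixed_iff K hodd ιW hιW hcommW hKW g z.1).1 z.2).2⟩
      left_inv := fun a => rfl
      right_inv := fun z => rfl }
  rw [Nat.card_congr f1, Nat.card_congr f2]
  exact hbrauer g



noncomputable def conjIrr (K : Subgroup G) [K.Normal] (g : G) (θ : Cfsg.IrrCharacter K) :
    Cfsg.IrrCharacter K :=
  ⟨cj K θ.1 g⁻¹, isIrr_cj K θ.1 θ.2 g⁻¹⟩

theorem conjIrr_conj (K : Subgroup G) [hK : K.Normal] (g : G) (θ : Cfsg.IrrCharacter K) (k : K) :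
    (conjIrr K g θ : K → ℂ) ⟨g * k * g⁻¹, hK.conj_mem k k.2 g⟩ = (θ : K → ℂ) k := by
  show cj K θ.1 g⁻¹ ⟨g * k * g⁻¹, hK.conj_mem k k.2 g⟩ = θ.1 k
  rw [cj_apply]
  apply congrArg
  apply Subtype.ext
  show g⁻¹ * (g * k * g⁻¹) * g⁻¹⁻¹ = k
  group

@[reducible] noncomputable def irrMulAction (K : Subgroup G) [K.Normal] :
    MulAction G (Cfsg.IrrCharacter K) where
  smul := conjIrr K
  one_smul θ := Subtype.ext (by
    show cj K θ.1 (1 : G)⁻¹ = θ.1
    rw [inv_one, cj_one])
  mul_smul g h θ := Subtype.ext (by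
    show cj K θ.1 (g * h)⁻¹ = cj K (cj K θ.1 h⁻¹) g⁻¹
    rw [cj_mul, mul_inv_rev])

def classAct (K : Subgroup G) [K.Normal] (g : G) : ConjClasses K → ConjClasses K :=
  ConjClasses.map (MulAut.conjNormal g : K ≃* K).toMonoidHom

theorem classAct_mk (K : Subgroup G) [K.Normal] (g : G) (k : K) :
    classAct K g (ConjClasses.mk k) = ConjClasses.mk ((MulAut.conjNormal g : K ≃* K) k) := rfl

@[reducible] def classMulAction (K : Subgroup G) [K.Normal] : MulAction G (ConjClasses K) where
  smul := classAct K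
  one_smul C := by
    obtain ⟨a, rfl⟩ := ConjClasses.mk_surjective C
    show classAct K 1 (ConjClasses.mk a) = ConjClasses.mk a
    rw [classAct_mk, map_one, MulAut.one_apply]
  mul_smul g h C := by
    obtain ⟨a, rfl⟩ := ConjClasses.mk_surjective C
    show classAct K (g * h) (ConjClasses.mk a) = classAct K g (classAct K h (ConjClasses.mk a))
    rw [classAct_mk, classAct_mk, classAct_mk, map_mul, MulAut.mul_apply]

theorem isConj_inv_inv {H : Type*} [Group H] {a b : H} (h : IsConj a b) : IsConj a⁻¹ b⁻¹ := by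
  obtain ⟨c, hc⟩ := isConj_iff.1 h
  refine isConj_iff.2 ⟨c, ?_⟩
  rw [← hc]; group

def invClass (H : Type*) [Group H] : ConjClasses H → ConjClasses H :=
  Quotient.map (fun a => a⁻¹) (fun _ _ h => isConj_inv_inv h)

theorem invClass_mk (H : Type*) [Group H] (a : H) :
    invClass H (ConjClasses.mk a) = ConjClasses.mk a⁻¹ := rfl

theorem invClass_invClass (H : Type*) [Group H] (C : ConjClasses H) :
    invClass H (invClass H C) = C := by
  obtain ⟨a, rfl⟩ := ConjClasses.mk_surjective C
  rw [invClass_mk, invClass_mk, inv_inv]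

theorem invClass_classAct (K : Subgroup G) [K.Normal] (g : G) (C : ConjClasses K) :
    invClass K (classAct K g C) = classAct K g (invClass K C) := by
  obtain ⟨a, rfl⟩ := ConjClasses.mk_surjective C
  rw [classAct_mk, invClass_mk, invClass_mk, classAct_mk, map_inv]

theorem classAct_of_mem (K : Subgroup G) [K.Normal] (x : G) (hx : x ∈ K) (C : ConjClasses K) :
    classAct K x C = C := by
  obtain ⟨a, rfl⟩ := ConjClasses.mk_surjective C
  rw [classAct_mk, ConjClasses.mk_eq_mk_iff_isConj]
  apply IsConj.symm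
  refine isConj_iff.2 ⟨⟨x, hx⟩, ?_⟩
  apply Subtype.ext
  rfl

theorem irrConj_irrConj {H : Type*} [Group H] [Finite H] (θ : Cfsg.IrrCharacter H) :
    irrConj (irrConj θ) = θ := by
  apply Subtype.ext
  funext k
  show conj (conj (θ.1 k)) = θ.1 k
  exact Complex.conj_conj _

theorem irrConj_conjIrr (K : Subgroup G) [K.Normal] [Finite K] (g : G)
    (θ : Cfsg.IrrCharacter K) : irrConj (conjIrr K g θ) = conjIrr K g (irrConj θ) := by
  apply Subtype.ext
  rfl

theorem conjIrr_of_mem (K : Subgroup G) [K.Normal] (x : G) (hx : x ∈ K)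
    (θ : Cfsg.IrrCharacter K) : conjIrr K x θ = θ := by
  apply Subtype.ext
  funext k
  show cj K θ.1 x⁻¹ k = θ.1 k
  rw [cj_apply]
  have h := irr_conj_invariant θ k (⟨x, hx⟩ : K)⁻¹
  rw [← h]
  apply congrArg
  apply Subtype.ext
  rfl



theorem classAct_inv_classAct (K : Subgroup G) [K.Normal] (g : G) (C : ConjClasses K) :
    classAct K g⁻¹ (classAct K g C) = C := by
  obtain ⟨a, rfl⟩ := ConjClasses.mk_surjective C
  rw [classAct_mk, classAct_mk, ← MulAut.mul_apply, ← map_mul, inv_mul_cancel, map_one,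
    MulAut.one_apply]

theorem classAct_classAct_inv (K : Subgroup G) [K.Normal] (g : G) (C : ConjClasses K) :
    classAct K g (classAct K g⁻¹ C) = C := by
  have := classAct_inv_classAct K g⁻¹ C
  rwa [inv_inv] at this

theorem brauer_twisted (K : Subgroup G) [K.Normal] [Finite K] (g : G) :
    Nat.card {θ : Cfsg.IrrCharacter K // irrConj (conjIrr K g θ) = θ} =
      Nat.card {C : ConjClasses K // invClass K (classAct K g C) = C} := by
  let τ : Equiv.Perm (ConjClasses K) :=
    { toFun := fun C => invClass K (classAct K g C)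
      invFun := fun C => invClass K (classAct K g⁻¹ C)
      left_inv := fun C => by
        show invClass K (classAct K g⁻¹ (invClass K (classAct K g C))) = C
        rw [← invClass_classAct, invClass_invClass, classAct_inv_classAct]
      right_inv := fun C => by
        show invClass K (classAct K g (invClass K (classAct K g⁻¹ C))) = C
        rw [← invClass_classAct, invClass_invClass, classAct_classAct_inv] }
  refine brauer_perm_pair (fun θ => irrConj (conjIrr K g θ)) τ ?_
  intro θ k k' h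
  have h' : ConjClasses.mk k' = ConjClasses.mk ((MulAut.conjNormal g : K ≃* K) k)⁻¹ := h
  rw [ConjClasses.mk_eq_mk_iff_isConj] at h'
  show conj ((conjIrr K g θ : K → ℂ) k') = (θ : K → ℂ) k
  rw [irr_isConj_eq (conjIrr K g θ) h', irr_inv, Complex.conj_conj]
  exact conjIrr_conj K g θ k

theorem card_quot_real_classes (K : Subgroup G) [hKn : K.Normal] :
    Nat.card (Quot (fun x y : {x : ↥K // IsConj x x⁻¹} => ∃ g : G, (y.1 : G) = g * x.1 * g⁻¹)) =
      Nat.card (Quot (fun a b : {C : ConjClasses K // invClass K C = C} =>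
        ∃ g : G, classAct K g a.1 = b.1)) := by
  have hreal : ∀ x : {x : ↥K // IsConj x x⁻¹}, invClass K (ConjClasses.mk x.1) =
      ConjClasses.mk x.1 := by
    intro x
    rw [invClass_mk, ConjClasses.mk_eq_mk_iff_isConj]
    exact x.2.symm
  let f : Quot (fun x y : {x : ↥K // IsConj x x⁻¹} => ∃ g : G, (y.1 : G) = g * x.1 * g⁻¹) →
      Quot (fun a b : {C : ConjClasses K // invClass K C = C} =>
        ∃ g : G, classAct K g a.1 = b.1) :=
    Quot.map (fun x => ⟨ConjClasses.mk x.1, hreal x⟩) (by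
      rintro x y ⟨g, hg⟩
      refine ⟨g, ?_⟩
      show classAct K g (ConjClasses.mk x.1) = ConjClasses.mk y.1
      rw [classAct_mk]
      congr 1
      apply Subtype.ext
      rw [hg]
      rfl)
  apply Nat.card_eq_of_bijective f
  constructor
  · intro a b
    induction a using Quot.inductionOn with
    | _ x =>
    induction b using Quot.inductionOn with
    | _ y =>
    intro hxy
    have hxy' : Quot.mk (fun a b : {C : ConjClasses K // invClass K C = C} =>
        ∃ g : G, classAct K g a.1 = b.1) ⟨ConjClasses.mk x.1, hreal x⟩ =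
        Quot.mk _ ⟨ConjClasses.mk y.1, hreal y⟩ := hxy
    rw [Quot.eq] at hxy'
    have hequiv : Equivalence (fun a b : {C : ConjClasses K // invClass K C = C} =>
        ∃ g : G, classAct K g a.1 = b.1) := by
      refine ⟨fun a => ⟨1, ?_⟩, ?_, ?_⟩
      · exact (classMulAction K).one_smul a.1
      · rintro a b ⟨g, hg⟩
        exact ⟨g⁻¹, by rw [← hg, classAct_inv_classAct]⟩
      · rintro a b c ⟨g, hg⟩ ⟨h, hh⟩
        refine ⟨h * g, ?_⟩
        rw [← hh, ← hg]
        exact (classMulAction K).mul_smul h g a.1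
    rw [hequiv.eqvGen_iff] at hxy'
    obtain ⟨g, hg⟩ := hxy'
    have hg' : classAct K g (ConjClasses.mk x.1) = ConjClasses.mk y.1 := hg
    rw [classAct_mk, ConjClasses.mk_eq_mk_iff_isConj] at hg'
    obtain ⟨c, hc⟩ := isConj_iff.1 hg'
    apply Quot.sound
    refine ⟨(c : G) * g, ?_⟩
    have hc' := congrArg (fun z : K => (z : G)) hc
    simp only [Subgroup.coe_mul, Subgroup.coe_inv, MulAut.conjNormal_apply] at hc'
    rw [← hc']
    group
  · intro b
    induction b using Quot.inductionOn with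
    | _ C =>
    obtain ⟨C, hC⟩ := C
    obtain ⟨a, rfl⟩ := ConjClasses.mk_surjective C
    have ha : IsConj a a⁻¹ := by
      rw [invClass_mk, ConjClasses.mk_eq_mk_iff_isConj] at hC
      exact hC.symm
    exact ⟨Quot.mk _ ⟨a, ha⟩, rfl⟩



theorem irrConj_eq_self_iff {H : Type*} [Group H] [Finite H] (θ : Cfsg.IrrCharacter H) :
    irrConj θ = θ ↔ ∀ k : H, ((θ : H → ℂ) k).im = 0 := by
  constructor
  · intro h k
    have := congrArg (fun ψ : Cfsg.IrrCharacter H => (ψ : H → ℂ) k) h
    simp only [irrConj_apply] at this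
    exact Complex.conj_eq_iff_im.1 this
  · intro h
    apply Subtype.ext
    funext k
    show conj ((θ : H → ℂ) k) = (θ : H → ℂ) k
    exact Complex.conj_eq_iff_im.2 (h k)

theorem conjIrr_eq_iff (K : Subgroup G) [hKn : K.Normal] (g : G) (θ η : Cfsg.IrrCharacter K) :
    conjIrr K g θ = η ↔
      ∀ k k' : ↥K, (k' : G) = g * (k : G) * g⁻¹ → (η : K → ℂ) k' = (θ : K → ℂ) k := by
  constructor
  · intro h k k' hk
    rw [← h]
    have : k' = ⟨g * k * g⁻¹, hKn.conj_mem k k.2 g⟩ := Subtype.ext hk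
    rw [this]
    exact conjIrr_conj K g θ k
  · intro h
    apply Subtype.ext
    funext k'
    have hmem : g⁻¹ * (k' : G) * g ∈ K := by
      have := hKn.conj_mem k' k'.2 g⁻¹
      rwa [inv_inv] at this
    have h1 := h ⟨g⁻¹ * (k' : G) * g, hmem⟩ k' (by
      show (k' : G) = g * (g⁻¹ * (k' : G) * g) * g⁻¹
      group)
    rw [h1]
    have h2 := conjIrr_conj K g θ ⟨g⁻¹ * (k' : G) * g, hmem⟩
    rw [← h2]
    apply congrArg
    apply Subtype.ext
    show (k' : G) = g * (g⁻¹ * (k' : G) * g) * g⁻¹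
    group

theorem card_quot_real_chars (K : Subgroup G) [hKn : K.Normal] [Finite K] :
    Nat.card (Quot (fun θ η : {θ : Cfsg.IrrCharacter ↥K // (∀ k : ↥K, ((θ : ↥K → ℂ) k).im = 0)} =>
      ∃ g : G, ∀ k k' : ↥K, (k' : G) = g * (k : G) * g⁻¹ →
        (η.1 : ↥K → ℂ) k' = (θ.1 : ↥K → ℂ) k)) =
    Nat.card (Quot (fun a b : {θ : Cfsg.IrrCharacter K // irrConj θ = θ} =>
        ∃ g : G, conjIrr K g a.1 = b.1)) := by
  apply Nat.card_congr
  refine Quot.congr (Equiv.subtypeEquivRight (fun θ => (irrConj_eq_self_iff θ).symm)) ?_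
  intro θ η
  constructor
  · rintro ⟨g, hg⟩
    exact ⟨g, (conjIrr_eq_iff K g θ.1 η.1).2 hg⟩
  · rintro ⟨g, hg⟩
    exact ⟨g, (conjIrr_eq_iff K g θ.1 η.1).1 hg⟩


end Cfsg.Agent.Lib.Helper25
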