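import Mathlib
import Cfsg.Agent.S0133
import Cfsg.Agent.Lib.helper2.CharInt
import Cfsg.Agent.Lib.helper7.Clifford
import Cfsg.Agent.Lib.Helper24.GaloisNorm
import Cfsg.Agent.Lib.Helper25.RealOrbits
import Cfsg.Agent.Lib.Helper25.DefectZeroCount
import Cfsg.Agent.Lib.Helper25.PermReal
import Cfsg.Agent.Lib.Helper25.KGVCount

/-!
Class number bound for a split extension by an abelian normal Sylow subgroup, through the
norm of character values on the normal subgroup.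
-/

set_option autoImplicit false
set_option linter.deprecated false

namespace Cfsg.Agent.Lib.Helper25
open Cfsg.Agent.Lib.Helper11 Cfsg.Agent.Lib.helper2 Cfsg.Agent.Lib.helper7 Cfsg.Agent.Lib.Helper24
open scoped ComplexConjugate

open Finset

theorem knb_sum_pow_prime_pow {R : Type*} [CommRing R] (p : ℕ) (hp : p.Prime) (n : ℕ)
    {ι : Type*} (s : Finset ι) (f : ι → R) :
    ∃ r : R, (∑ i ∈ s, f i) ^ p ^ n = ∑ i ∈ s, (f i) ^ p ^ n + (p : R) * r := by
  classical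
  induction s using Finset.induction_on with
  | empty =>
    refine ⟨0, ?_⟩
    have : p ^ n ≠ 0 := pow_ne_zero _ hp.ne_zero
    simp [zero_pow this]
  | insert a s ha ih =>
    obtain ⟨r, hr⟩ := ih
    obtain ⟨r', hr'⟩ := exists_add_pow_prime_pow_eq hp (f a) (∑ i ∈ s, f i) n
    refine ⟨r + f a * (∑ i ∈ s, f i) * r', ?_⟩
    rw [Finset.sum_insert ha, Finset.sum_insert ha, hr', hr]
    ring

theorem knb_sum_pow_prime_pow_int (p : ℕ) (hp : p.Prime) (n : ℕ)
    {ι : Type*} (s : Finset ι) (f : ι → ℂ) (hf : ∀ i ∈ s, IsIntegral ℤ (f i)) :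
    ∃ r : ℂ, IsIntegral ℤ r ∧ (∑ i ∈ s, f i) ^ p ^ n = ∑ i ∈ s, (f i) ^ p ^ n + (p : ℂ) * r := by
  classical
  let f' : ι → integralClosure ℤ ℂ := fun i => if h : i ∈ s then ⟨f i, hf i h⟩ else 0
  obtain ⟨r, hr⟩ := knb_sum_pow_prime_pow p hp n s f'
  refine ⟨(r : ℂ), r.2, ?_⟩
  have e1 : ∀ i ∈ s, ((f' i : integralClosure ℤ ℂ) : ℂ) = f i := by
    intro i hi
    simp only [f', dif_pos hi]
  have e2 : ∑ i ∈ s, ((f' i : integralClosure ℤ ℂ) : ℂ) = ∑ i ∈ s, f i :=
    Finset.sum_congr rfl e1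
  have e3 : ∑ i ∈ s, ((f' i : integralClosure ℤ ℂ) : ℂ) ^ p ^ n = ∑ i ∈ s, (f i) ^ p ^ n :=
    Finset.sum_congr rfl (fun i hi => by rw [e1 i hi])
  rw [← e2, ← e3]
  have := congrArg (fun x : integralClosure ℤ ℂ => (x : ℂ)) hr
  push_cast at this
  exact this

theorem knb_sum_roots_ne_zero (p : ℕ) (hp : p.Prime) (n : ℕ)
    {ι : Type*} (s : Finset ι) (f : ι → ℂ) (hf : ∀ i ∈ s, (f i) ^ p ^ n = 1)
    (hs : ¬ p ∣ s.card) : ∑ i ∈ s, f i ≠ 0 := by
  intro h0
  have hint : ∀ i ∈ s, IsIntegral ℤ (f i) := by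
    intro i hi
    exact IsIntegral.of_pow (pow_pos hp.pos n) (by rw [hf i hi]; exact isIntegral_one)
  obtain ⟨r, hr, h⟩ := knb_sum_pow_prime_pow_int p hp n s f hint
  rw [h0, zero_pow (pow_ne_zero _ hp.ne_zero), Finset.sum_congr rfl hf, Finset.sum_const,
    nsmul_eq_mul, mul_one] at h
  apply hs
  apply Cfsg.Agent.Lib.helper2.nat_dvd_of_isIntegral_div _ _ hp.ne_zero
  have hpc : (p : ℂ) ≠ 0 := by exact_mod_cast hp.ne_zero
  have : (s.card : ℂ) / (p : ℂ) = -r := by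
    field_simp
    linear_combination -h
  rw [this]
  exact hr.neg

theorem knb_orbit_card_dvd {X : Type*} [Group X] [Fintype X] (V : Subgroup X) [hV : V.Normal]
    (θ : Cfsg.IrrCharacter V) [DecidableEq (V → ℂ)] :
    (Finset.univ.image (fun g : X => cj V θ.1 g)).card ∣ V.index := by
  letI := irrMulAction V
  have h1 : V ≤ MulAction.stabilizer X θ := by
    intro x hx
    rw [MulAction.mem_stabilizer_iff]
    exact conjIrr_of_mem V x hx θ
  have h2 := Subgroup.index_dvd_of_le h1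
  rw [MulAction.index_stabilizer] at h2
  have h3 : ((Finset.univ.image (fun g : X => cj V θ.1 g) : Finset (V → ℂ)) : Set (V → ℂ)) =
      Subtype.val '' (MulAction.orbit X θ) := by
    ext ψ
    simp only [Finset.coe_image, Finset.coe_univ, Set.image_univ, Set.mem_range, Set.mem_image]
    constructor
    · rintro ⟨g, rfl⟩
      refine ⟨g⁻¹ • θ, ⟨g⁻¹, rfl⟩, ?_⟩
      show cj V θ.1 g⁻¹⁻¹ = cj V θ.1 g
      rw [inv_inv]
    · rintro ⟨μ, ⟨g, rfl⟩, rfl⟩
      exact ⟨g⁻¹, rfl⟩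
  have h4 : (Finset.univ.image (fun g : X => cj V θ.1 g)).card = (MulAction.orbit X θ).ncard := by
    rw [← Set.ncard_coe_finset, h3, Set.ncard_image_of_injective _ Subtype.val_injective]
  rw [h4]
  exact h2

theorem knb_irr_ne_zero_on_sylow {X : Type*} [Group X] [Finite X] (p : ℕ) [hp : Fact p.Prime]
    (V : Subgroup X) [hV : V.Normal] (hVp : IsPGroup p V) (hidx : ¬ p ∣ V.index)
    (hab : ∀ a ∈ V, ∀ b ∈ V, a * b = b * a) (χ : Cfsg.IrrCharacter X) (v : X) (hv : v ∈ V) :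
    (χ : X → ℂ) v ≠ 0 := by
  classical
  haveI := Fintype.ofFinite X
  haveI : Fintype V := Fintype.ofFinite V
  haveI : IsMulCommutative V := ⟨⟨fun a b => Subtype.ext (hab a a.2 b b.2)⟩⟩
  have hres := isCharacter_restrict (isCharacter_of_irr χ) V
  have h1 : (fun n : V => (χ : X → ℂ) n) 1 ≠ 0 := irr_one_ne_zero χ
  obtain ⟨θ, m, hm, hθ⟩ := isCharacter_exists_constituent hres h1
  have hcon : Cfsg.classInner (fun n : V => (χ : X → ℂ) n) (θ : V → ℂ) ≠ 0 := by
    rw [hθ]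
    exact_mod_cast hm.ne'
  obtain ⟨e, he, -, hexp⟩ := h7_clifford V χ.1 χ.2 θ.1 θ.2 hcon
  obtain ⟨a, ha⟩ := (IsPGroup.iff_card).1 hVp
  have hval := congrFun hexp ⟨v, hv⟩
  simp only [Pi.smul_apply, Finset.sum_apply, smul_eq_mul] at hval
  rw [hval]
  apply mul_ne_zero
  · exact_mod_cast he.ne'
  · apply knb_sum_roots_ne_zero p hp.out a
    · intro ψ hψ
      obtain ⟨g, -, rfl⟩ := Finset.mem_image.1 hψ
      let μ : Cfsg.IrrCharacter V := ⟨cj V θ.1 g, isIrr_cj V θ.1 θ.2 g⟩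
      have hμ1 : (μ : V → ℂ) 1 = 1 := gn_irr_one_of_isMulCommutative μ
      have := gn_irr_linear_pow μ hμ1 ⟨v, hv⟩ (p ^ a)
      show (μ : V → ℂ) ⟨v, hv⟩ ^ p ^ a = 1
      rw [← this, ← ha, pow_card_eq_one', hμ1]
    · intro hdvd
      exact hidx (dvd_trans hdvd (knb_orbit_card_dvd V θ))

theorem knb_sum_sq_ker {X : Type*} [Group X] [Fintype X] [Fintype (Cfsg.IrrCharacter X)]
    (V : Subgroup X) [hV : V.Normal] [Fintype V]
    [DecidablePred (fun χ : Cfsg.IrrCharacter X => ∀ w ∈ V, (χ : X → ℂ) w = (χ : X → ℂ) 1)] :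
    (Nat.card V : ℂ) * ∑ χ ∈ Finset.univ.filter
        (fun χ : Cfsg.IrrCharacter X => ∀ w ∈ V, (χ : X → ℂ) w = (χ : X → ℂ) 1),
        (χ : X → ℂ) 1 * (χ : X → ℂ) 1 = (Nat.card X : ℂ) := by
  classical
  have h1 : ∑ w : V, ∑ χ : Cfsg.IrrCharacter X, (χ : X → ℂ) (w : X) * (χ : X → ℂ) 1 =
      (Nat.card X : ℂ) := by
    rw [Finset.sum_eq_single (1 : V)]
    · rw [irr_regular_indicator]
      simp
    · intro w _ hw
      rw [irr_regular_indicator, if_neg]
      intro h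
      apply hw
      exact Subtype.ext h
    · intro h
      exact absurd (Finset.mem_univ _) h
  rw [Finset.sum_comm] at h1
  rw [← h1, Finset.mul_sum, Finset.sum_filter]
  apply Finset.sum_congr rfl
  intro χ _
  split_ifs with hχ
  · rw [← Finset.sum_mul]
    have : ∑ w : V, (χ : X → ℂ) (w : X) = (Nat.card V : ℂ) * (χ : X → ℂ) 1 := by
      rw [Finset.sum_congr rfl (fun (w : V) _ => hχ (w : X) w.2), Finset.sum_const, Finset.card_univ,
        nsmul_eq_mul, Nat.card_eq_fintype_card]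
    rw [this]
    ring
  · push Not at hχ
    have := irr_sum_normal χ V hχ 1
    simp only [one_mul] at this
    rw [← Finset.sum_mul, this, zero_mul]

theorem knb_ker_mul_left {X : Type*} [Group X] [Finite X] (χ : Cfsg.IrrCharacter X) (w g : X)
    (hw : (χ : X → ℂ) w = (χ : X → ℂ) 1) : (χ : X → ℂ) (w * g) = (χ : X → ℂ) g := by
  have h1 : w * g = g * (g⁻¹ * w * g) := by group
  have h2 : (χ : X → ℂ) (g⁻¹ * w * g) = (χ : X → ℂ) 1 := by
    have := irr_conj_invariant χ w g⁻¹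
    rw [inv_inv] at this
    rw [this, hw]
  rw [h1, irr_mul_of_ker χ g _ h2]

theorem knb_restrict_irr {X : Type*} [Group X] [Finite X] (V G : Subgroup X) [hV : V.Normal]
    (hGV : Subgroup.IsComplement' V G) (χ : Cfsg.IrrCharacter X)
    (hχ : ∀ w ∈ V, (χ : X → ℂ) w = (χ : X → ℂ) 1) :
    Cfsg.IsIrrCharacter G (fun g : G => (χ : X → ℂ) g) := by
  classical
  haveI := Fintype.ofFinite X
  haveI : Fintype V := Fintype.ofFinite V
  haveI : Fintype G := Fintype.ofFinite G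
  apply h7_irr_of_norm_one (isCharacter_restrict (isCharacter_of_irr χ) G)
  have h1 := irr_classInner χ χ
  rw [if_pos rfl] at h1
  unfold Cfsg.classInner at h1 ⊢
  let e : V × G ≃ X := Equiv.ofBijective (fun p => (p.1 : X) * p.2) hGV
  have he : ∀ p : V × G, e p = (p.1 : X) * p.2 := fun p => rfl
  rw [← Equiv.sum_comp e, Fintype.sum_prod_type] at h1
  have h2 : ∀ (w : V) (g : G), (χ : X → ℂ) (e (w, g)) * conj ((χ : X → ℂ) (e (w, g))) =
      (χ : X → ℂ) g * conj ((χ : X → ℂ) g) := by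
    intro w g
    rw [he]
    simp only
    rw [knb_ker_mul_left χ w g (hχ w w.2)]
  simp only [h2, Finset.sum_const, Finset.card_univ, nsmul_eq_mul] at h1
  have hcard : (Nat.card X : ℂ) = (Fintype.card V : ℂ) * (Nat.card G : ℂ) := by
    rw [← hGV.card_mul_card, Nat.card_eq_fintype_card (α := V)]
    push_cast
    rfl
  rw [hcard] at h1
  have hV0 : (Fintype.card V : ℂ) ≠ 0 := by
    have : 0 < Fintype.card V := Fintype.card_pos
    exact_mod_cast this.ne'
  rw [← h1]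
  field_simp

theorem knb_card_ker_le {X : Type*} [Group X] [Finite X] (V G : Subgroup X) [hV : V.Normal]
    (hGV : Subgroup.IsComplement' V G) :
    Nat.card {χ : Cfsg.IrrCharacter X // ∀ w ∈ V, (χ : X → ℂ) w = (χ : X → ℂ) 1} ≤
      Nat.card (ConjClasses G) := by
  rw [← Cfsg.Agent.S0133.result (G := G)]
  let f : {χ : Cfsg.IrrCharacter X // ∀ w ∈ V, (χ : X → ℂ) w = (χ : X → ℂ) 1} →
      Cfsg.IrrCharacter G := fun χ => ⟨fun g : G => (χ.1 : X → ℂ) g, knb_restrict_irr V G hGV χ.1 χ.2⟩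
  apply Nat.card_le_card_of_injective f
  intro χ ψ h
  apply Subtype.ext
  apply Subtype.ext
  funext x
  obtain ⟨⟨w, g⟩, rfl⟩ := hGV.2 x
  simp only
  rw [knb_ker_mul_left χ.1 w g (χ.2 w w.2), knb_ker_mul_left ψ.1 w g (ψ.2 w w.2)]
  have := congrFun (congrArg Subtype.val h) g
  exact this

theorem knb_centralizer_pow_coprime {X : Type*} [Group X] [Finite X] (v : X) (k : ℕ)
    (hk : (Nat.card X).Coprime k) :
    Subgroup.centralizer ({v ^ k} : Set X) = Subgroup.centralizer ({v} : Set X) := by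
  ext x
  rw [Subgroup.mem_centralizer_singleton_iff, Subgroup.mem_centralizer_singleton_iff]
  constructor
  · intro h
    have hc : k.Coprime (orderOf v) :=
      Nat.Coprime.coprime_dvd_right (orderOf_dvd_natCard v) hk.symm
    obtain ⟨m, hm⟩ := exists_pow_eq_self_of_coprime hc
    have : Commute x (v ^ k) := h
    have h2 := this.pow_right m
    rw [hm] at h2
    exact h2
  · intro h
    have : Commute x v := h
    exact this.pow_right k

theorem knb_card_centralizer_split {X : Type*} [Group X] [Finite X] (V G : Subgroup X) [V.Normal]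
    (hab : ∀ a ∈ V, ∀ b ∈ V, a * b = b * a)
    (hGV : Subgroup.IsComplement' V G) (v : X) (hv : v ∈ V) :
    Nat.card (Subgroup.centralizer ({v} : Set X)) =
      Nat.card V * Nat.card ↥(G ⊓ Subgroup.centralizer ({v} : Set X)) := by
  classical
  haveI := Fintype.ofFinite X
  haveI : Fintype V := Fintype.ofFinite V
  haveI : Fintype G := Fintype.ofFinite G
  rw [kgv_card_inf, Nat.card_eq_fintype_card, Fintype.card_subtype, Finset.card_filter]
  let e : V × G ≃ X := Equiv.ofBijective (fun p => (p.1 : X) * p.2) hGV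
  have he : ∀ p : V × G, e p = (p.1 : X) * p.2 := fun p => rfl
  rw [← Equiv.sum_comp e, Fintype.sum_prod_type]
  have h2 : ∀ (w : V) (g : G), (if e (w, g) ∈ Subgroup.centralizer ({v} : Set X) then 1 else 0) =
      if (g : X) * v = v * g then 1 else 0 := by
    intro w g
    rw [he, Subgroup.mem_centralizer_singleton_iff]
    simp only
    have hwv : v * (w : X) = w * v := hab v hv w w.2
    have : (w : X) * g * v = v * ((w : X) * g) ↔ (g : X) * v = v * g := by
      rw [← mul_assoc v, hwv, mul_assoc, mul_assoc, mul_right_inj]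
    simp only [this]
  simp only [h2, Finset.sum_const, Finset.card_univ, smul_eq_mul, Nat.card_eq_fintype_card]

theorem knb_sum_normsq_all {X : Type*} [Group X] [Fintype X] [Fintype (Cfsg.IrrCharacter X)] (g : X) :
    ∑ χ : Cfsg.IrrCharacter X, ‖(χ : X → ℂ) g‖ ^ 2 =
      (Nat.card (Subgroup.centralizer ({g} : Set X)) : ℝ) := by
  classical
  have h := irr_column_orthogonality g g
  rw [if_pos (IsConj.refl g)] at h
  have h2 : ∀ χ : Cfsg.IrrCharacter X, (χ : X → ℂ) g * conj ((χ : X → ℂ) g) =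
      ((‖(χ : X → ℂ) g‖ ^ 2 : ℝ) : ℂ) := by
    intro χ
    rw [Complex.mul_conj']
    push_cast
    rfl
  simp only [h2] at h
  exact_mod_cast h

theorem knorr_bound {X : Type*} [Group X] [Finite X] (p : ℕ) [Fact p.Prime] (V : Subgroup X)
    [V.Normal] (hVp : IsPGroup p V) (hidx : ¬ p ∣ V.index)
    (hab : ∀ a ∈ V, ∀ b ∈ V, a * b = b * a) (G : Subgroup X)
    (hGV : Subgroup.IsComplement' V G) (v : X) (hv : v ∈ V) :
    Nat.card (ConjClasses X) + Nat.card G ≤
      Nat.card ↥(G ⊓ Subgroup.centralizer ({v} : Set X)) * Nat.card V +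
        Nat.card (ConjClasses G) := by
  classical
  haveI := Fintype.ofFinite X
  haveI : Fintype V := Fintype.ofFinite V
  haveI : Fintype G := Fintype.ofFinite G
  haveI : Fintype (Cfsg.IrrCharacter X) := Fintype.ofFinite _
  set n := Nat.card X with hn
  set K := (Finset.range n).filter (Nat.Coprime n) with hK
  have hKpos : 0 < K.card := by
    rw [hK, ← Nat.totient_eq_card_coprime]
    exact Nat.totient_pos.mpr Nat.card_pos
  set T := Finset.univ.filter
    (fun χ : Cfsg.IrrCharacter X => ∀ w ∈ V, (χ : X → ℂ) w = (χ : X → ℂ) 1) with hT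
  set S := Finset.univ.filter
    (fun χ : Cfsg.IrrCharacter X => ¬ ∀ w ∈ V, (χ : X → ℂ) w = (χ : X → ℂ) 1) with hS
  have hlow : ∀ χ : Cfsg.IrrCharacter X, (K.card : ℝ) ≤ ∑ k ∈ K, ‖(χ : X → ℂ) (v ^ k)‖ ^ 2 :=
    fun χ => gn_char_sum_sq (isCharacter_of_irr χ) v (knb_irr_ne_zero_on_sylow p V hVp hidx hab χ v hv)
  have hall : ∀ k ∈ K, ∑ χ : Cfsg.IrrCharacter X, ‖(χ : X → ℂ) (v ^ k)‖ ^ 2 =
      (Nat.card (Subgroup.centralizer ({v} : Set X)) : ℝ) := by
    intro k hk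
    rw [knb_sum_normsq_all, knb_centralizer_pow_coprime v k (Finset.mem_filter.1 hk).2]
  have hTsum : (Nat.card V : ℝ) * ∑ χ ∈ T, ‖(χ : X → ℂ) 1‖ ^ 2 = (Nat.card X : ℝ) := by
    have h := knb_sum_sq_ker (X := X) V
    have h2 : ∀ χ : Cfsg.IrrCharacter X, (χ : X → ℂ) 1 * (χ : X → ℂ) 1 =
        ((‖(χ : X → ℂ) 1‖ ^ 2 : ℝ) : ℂ) := by
      intro χ
      obtain ⟨d, hd⟩ := isCharacter_one_eq_nat (isCharacter_of_irr χ)
      rw [hd, Complex.norm_natCast]
      push_cast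
      ring
    simp only [h2] at h
    exact_mod_cast h
  have hTk : ∀ k ∈ K, ∑ χ ∈ T, ‖(χ : X → ℂ) (v ^ k)‖ ^ 2 = ∑ χ ∈ T, ‖(χ : X → ℂ) 1‖ ^ 2 := by
    intro k _
    apply Finset.sum_congr rfl
    intro χ hχ
    rw [(Finset.mem_filter.1 hχ).2 (v ^ k) (V.pow_mem hv k)]
  have hsplit : ∀ k ∈ K, ∑ χ ∈ S, ‖(χ : X → ℂ) (v ^ k)‖ ^ 2 =
      (Nat.card (Subgroup.centralizer ({v} : Set X)) : ℝ) - ∑ χ ∈ T, ‖(χ : X → ℂ) 1‖ ^ 2 := by
    intro k hk
    rw [← hall k hk, ← hTk k hk, hT, hS, ← Finset.sum_filter_add_sum_filter_not Finset.univ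
      (fun χ : Cfsg.IrrCharacter X => ∀ w ∈ V, (χ : X → ℂ) w = (χ : X → ℂ) 1)]
    ring
  have hmain : (S.card : ℝ) * (K.card : ℝ) ≤
      (K.card : ℝ) * ((Nat.card (Subgroup.centralizer ({v} : Set X)) : ℝ) -
        ∑ χ ∈ T, ‖(χ : X → ℂ) 1‖ ^ 2) := by
    calc (S.card : ℝ) * (K.card : ℝ) = ∑ χ ∈ S, (K.card : ℝ) := by
          rw [Finset.sum_const, nsmul_eq_mul]
      _ ≤ ∑ χ ∈ S, ∑ k ∈ K, ‖(χ : X → ℂ) (v ^ k)‖ ^ 2 := Finset.sum_le_sum (fun χ _ => hlow χ)
      _ = ∑ k ∈ K, ∑ χ ∈ S, ‖(χ : X → ℂ) (v ^ k)‖ ^ 2 := Finset.sum_comm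
      _ = ∑ k ∈ K, ((Nat.card (Subgroup.centralizer ({v} : Set X)) : ℝ) -
            ∑ χ ∈ T, ‖(χ : X → ℂ) 1‖ ^ 2) := Finset.sum_congr rfl hsplit
      _ = _ := by rw [Finset.sum_const, nsmul_eq_mul]
  have hKR : (0 : ℝ) < (K.card : ℝ) := by exact_mod_cast hKpos
  have h5 : (S.card : ℝ) ≤ (Nat.card (Subgroup.centralizer ({v} : Set X)) : ℝ) -
        ∑ χ ∈ T, ‖(χ : X → ℂ) 1‖ ^ 2 := by
    rw [mul_comm] at hmain
    exact le_of_mul_le_mul_left hmain hKR
  have hVpos : (0 : ℝ) < (Nat.card V : ℝ) := by exact_mod_cast Nat.card_pos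
  have h6 : ∑ χ ∈ T, ‖(χ : X → ℂ) 1‖ ^ 2 = (Nat.card G : ℝ) := by
    have hXc : (Nat.card X : ℝ) = (Nat.card V : ℝ) * (Nat.card G : ℝ) := by
      rw [← hGV.card_mul_card]; push_cast; rfl
    rw [hXc] at hTsum
    exact mul_left_cancel₀ hVpos.ne' hTsum
  rw [h6] at h5
  have hST : S.card + T.card = Nat.card (ConjClasses X) := by
    rw [← Cfsg.Agent.S0133.result, Nat.card_eq_fintype_card, ← Finset.card_univ, hS, hT, add_comm,
      Finset.card_filter_add_card_filter_not]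
  have hTle : T.card ≤ Nat.card (ConjClasses G) := by
    have := knb_card_ker_le V G hGV
    rw [Nat.card_eq_fintype_card, Fintype.card_subtype] at this
    exact this
  have hcent := knb_card_centralizer_split V G hab hGV v hv
  have h7 : S.card + Nat.card G ≤ Nat.card (Subgroup.centralizer ({v} : Set X)) := by
    have : (S.card : ℝ) + (Nat.card G : ℝ) ≤ (Nat.card (Subgroup.centralizer ({v} : Set X)) : ℝ) := by
      linarith
    exact_mod_cast this
  rw [hcent] at h7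
  rw [← hST]
  have : Nat.card V * Nat.card ↥(G ⊓ Subgroup.centralizer ({v} : Set X)) =
      Nat.card ↥(G ⊓ Subgroup.centralizer ({v} : Set X)) * Nat.card V := mul_comm _ _
  omega

end Cfsg.Agent.Lib.Helper25
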