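import Mathlib
import Cfsg.Prelude.Def_Characters
import Cfsg.Prelude.Def_Blocks
import Cfsg.Prelude.Def_Transfer
import Cfsg.Prelude.Def_Solvable
import Cfsg.Agent.Lib.Helper25.CharOrth
import Cfsg.Agent.Lib.Helper25.CharLinear
import Cfsg.Agent.Lib.Helper25.CharAbelian
import Cfsg.Agent.Lib.Helper25.CharQuot
import Cfsg.Agent.Lib.Helper25.Codegree
import Cfsg.Agent.Lib.Helper25.KnorrBound
import Cfsg.Agent.Lib.Helper24.GaloisNorm
import Cfsg.Agent.Lib.helper7.CharCentral
import Cfsg.Agent.Lib.Helper18.PPrimeCore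
import Cfsg.Agent.Lib.Helper11.LinCharDual
import Cfsg.Agent.Lib.Helper11.AbelianQuot
import Cfsg.Agent.Lib.helper2.Ito
import Cfsg.Agent.Lib.Helper1.Frat

/-! Nilpotent groups with exactly one irreducible character of degree divisible by p are the
extraspecial 2-groups (S4762). -/

set_option autoImplicit false

namespace Cfsg.Agent.Lib.Helper25
open Cfsg.Agent.Lib.helper7 Cfsg.Agent.Lib.Helper24
open scoped ComplexConjugate commutatorElement

/-- inflation of an irreducible character along a surjective hom -/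
theorem xs_inflate {G Q : Type*} [Group G] [Group Q] (f : G →* Q) (hf : Function.Surjective f)
    (α : Cfsg.IrrCharacter Q) : Cfsg.IsIrrCharacter G (fun g => (α : Q → ℂ) (f g)) := by
  obtain ⟨n, ρ, hρ, hα⟩ := α.2
  let σ : Representation ℂ G (Fin n → ℂ) := ρ.comp f
  have hσ : ∀ g : G, σ g = ρ (f g) := fun g => rfl
  let e : Subrepresentation ρ ≃o Subrepresentation σ :=
    { toFun := fun S => ⟨S.toSubmodule, by
        intro g v hv
        rw [hσ]
        exact S.apply_mem_toSubmodule (f g) hv⟩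
      invFun := fun S => ⟨S.toSubmodule, by
        intro x v hv
        obtain ⟨g, rfl⟩ := hf x
        rw [← hσ]
        exact S.apply_mem_toSubmodule g hv⟩
      left_inv := fun S => rfl
      right_inv := fun S => rfl
      map_rel_iff' := Iff.rfl }
  refine ⟨n, σ, e.isSimpleOrder_iff.mp hρ, ?_⟩
  funext g
  rw [← hα]
  rfl

noncomputable def xs_infl {G Q : Type*} [Group G] [Group Q] (f : G →* Q)
    (hf : Function.Surjective f) (α : Cfsg.IrrCharacter Q) : Cfsg.IrrCharacter G :=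
  ⟨fun g => (α : Q → ℂ) (f g), xs_inflate f hf α⟩

theorem xs_infl_apply {G Q : Type*} [Group G] [Group Q] (f : G →* Q)
    (hf : Function.Surjective f) (α : Cfsg.IrrCharacter Q) (g : G) :
    (xs_infl f hf α : G → ℂ) g = (α : Q → ℂ) (f g) := rfl

/-- a character whose kernel contains the commutator subgroup is linear -/
theorem xs_linear_of_comm_le_ker {G : Type*} [Group G] [Finite G] (χ : Cfsg.IrrCharacter G)
    (h : ∀ w ∈ commutator G, (χ : G → ℂ) w = (χ : G → ℂ) 1) : (χ : G → ℂ) 1 = 1 := by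
  obtain ⟨K, hKn, n, σ, hσ, hK, hchar, _⟩ := quotient_setup χ
  haveI := hσ
  have hle : commutator G ≤ K := fun w hw => (hK w).mpr (h w hw)
  haveI : IsMulCommutative (G ⧸ K) := ⟨⟨fun a b => by
    obtain ⟨x, rfl⟩ := QuotientGroup.mk_surjective a
    obtain ⟨y, rfl⟩ := QuotientGroup.mk_surjective b
    rw [← QuotientGroup.mk_mul, ← QuotientGroup.mk_mul, QuotientGroup.eq]
    apply hle
    have : (x * y)⁻¹ * (y * x) = ⁅y⁻¹, x⁻¹⁆ := by
      rw [commutatorElement_def]; group
    rw [this, commutator_def]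
    exact Subgroup.commutator_mem_commutator (Subgroup.mem_top _) (Subgroup.mem_top _)⟩⟩
  have h1 := gn_irr_one_of_isMulCommutative
    (⟨σ.character, isIrrCharacter_of_irreducible σ⟩ : Cfsg.IrrCharacter (G ⧸ K))
  have h2 := hchar 1
  rw [← h2]
  exact h1

theorem xs_linear_iff {G : Type*} [Group G] [Finite G] (χ : Cfsg.IrrCharacter G) :
    (χ : G → ℂ) 1 = 1 ↔ ∀ w ∈ commutator G, (χ : G → ℂ) w = (χ : G → ℂ) 1 := by
  constructor
  · intro h1 w hw
    rw [irr_linear_commutator χ h1 hw, h1]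
  · exact xs_linear_of_comm_le_ker χ

/-- the number of linear characters times `|G'|` is `|G|` -/
theorem xs_card_linear {G : Type*} [Group G] [Finite G] :
    Nat.card (commutator G) * Nat.card {χ : Cfsg.IrrCharacter G // (χ : G → ℂ) 1 = 1} =
      Nat.card G := by
  classical
  haveI := Fintype.ofFinite G
  haveI : Fintype (Cfsg.IrrCharacter G) := Fintype.ofFinite _
  haveI : Fintype (commutator G) := Fintype.ofFinite _
  have h := knb_sum_sq_ker (commutator G)
  have h2 : ∑ χ ∈ Finset.univ.filter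
        (fun χ : Cfsg.IrrCharacter G => ∀ w ∈ commutator G, (χ : G → ℂ) w = (χ : G → ℂ) 1),
        (χ : G → ℂ) 1 * (χ : G → ℂ) 1 =
      (Nat.card {χ : Cfsg.IrrCharacter G // (χ : G → ℂ) 1 = 1} : ℂ) := by
    rw [Nat.card_eq_fintype_card, Fintype.card_subtype]
    have hf : Finset.univ.filter
        (fun χ : Cfsg.IrrCharacter G => ∀ w ∈ commutator G, (χ : G → ℂ) w = (χ : G → ℂ) 1) =
        Finset.univ.filter (fun χ : Cfsg.IrrCharacter G => (χ : G → ℂ) 1 = 1) := by
      ext χ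
      simp only [Finset.mem_filter, Finset.mem_univ, true_and]
      exact (xs_linear_iff χ).symm
    rw [hf]
    rw [Finset.sum_congr rfl (fun χ hχ => by
      rw [(Finset.mem_filter.mp hχ).2, mul_one])]
    simp
  rw [h2] at h
  exact_mod_cast h

/-- if every irreducible character is linear, the group is abelian -/
theorem xs_comm_of_all_linear {G : Type*} [Group G] [Finite G]
    (h : ∀ χ : Cfsg.IrrCharacter G, (χ : G → ℂ) 1 = 1) (a b : G) : a * b = b * a := by
  classical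
  haveI := Fintype.ofFinite G
  haveI : Fintype (Cfsg.IrrCharacter G) := Fintype.ofFinite _
  have hw : ⁅a, b⁆ ∈ commutator G := by
    rw [commutator_def]
    exact Subgroup.commutator_mem_commutator (Subgroup.mem_top _) (Subgroup.mem_top _)
  have h1 := irr_regular_indicator ⁅a, b⁆
  have h2 : ∑ χ : Cfsg.IrrCharacter G, (χ : G → ℂ) ⁅a, b⁆ * (χ : G → ℂ) 1 =
      ∑ χ : Cfsg.IrrCharacter G, (χ : G → ℂ) 1 * (χ : G → ℂ) 1 := by
    apply Finset.sum_congr rfl
    intro χ _
    rw [irr_linear_commutator χ (h χ) hw, h χ]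
  have h3 := irr_regular_indicator (1 : G)
  rw [if_pos rfl] at h3
  rw [h2, h3] at h1
  have hne : (Nat.card G : ℂ) ≠ 0 := by exact_mod_cast Nat.card_pos.ne'
  have h4 : ⁅a, b⁆ = 1 := by
    by_contra hc
    rw [if_neg hc] at h1
    exact hne h1
  rw [commutatorElement_def] at h4
  calc a * b = (a * b * a⁻¹ * b⁻¹) * (b * a) := by group
    _ = b * a := by rw [h4, one_mul]

theorem xs_degree_dvd {G : Type*} [Group G] [Finite G] (χ : Cfsg.IrrCharacter G) :
    Cfsg.charDegree (χ : G → ℂ) ∣ Nat.card G :=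
  dvd_of_mul_left_dvd (ker_mul_degree_dvd χ)

/-- In a group with `G' = Z(G)` of order two, a nonlinear irreducible character has
`2 χ(1)^2 = |G|`. -/
theorem xs_nonlinear_sq {G : Type*} [Group G] [Finite G]
    (hcz : commutator G = Subgroup.center G) (hz2 : Nat.card (Subgroup.center G) = 2)
    (χ : Cfsg.IrrCharacter G) (hχ : (χ : G → ℂ) 1 ≠ 1) :
    2 * ((χ : G → ℂ) 1 * (χ : G → ℂ) 1) = (Nat.card G : ℂ) := by
  classical
  haveI := Fintype.ofFinite G
  -- a central element outside the kernel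
  have h1 : ∃ z ∈ Subgroup.center G, (χ : G → ℂ) z ≠ (χ : G → ℂ) 1 := by
    by_contra hcon
    push Not at hcon
    apply hχ
    apply xs_linear_of_comm_le_ker χ
    intro w hw
    rw [hcz] at hw
    exact hcon w hw
  obtain ⟨z, hzc, hzχ⟩ := h1
  have hz1 : z ≠ 1 := by
    intro h
    rw [h] at hzχ
    exact hzχ rfl
  -- the centre is {1, z}
  have hZ : ∀ c ∈ Subgroup.center G, c = 1 ∨ c = z := by
    intro c hc
    by_cases hc1 : c = 1
    · left; exact hc1
    · right
      obtain ⟨y, _, hy⟩ := (Nat.card_eq_two_iff' (1 : Subgroup.center G)).mp hz2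
      have e1 : (⟨c, hc⟩ : Subgroup.center G) = y := hy _ (fun h => hc1 (congrArg Subtype.val h))
      have e2 : (⟨z, hzc⟩ : Subgroup.center G) = y := hy _ (fun h => hz1 (congrArg Subtype.val h))
      exact congrArg Subtype.val (e1.trans e2.symm)
  -- χ(z) = -χ(1)
  obtain ⟨cz, hcz'⟩ := h7_central_char χ.2 z hzc
  have hzz : z * z = 1 := by
    have hmem : z * z ∈ Subgroup.center G := Subgroup.mul_mem _ hzc hzc
    rcases hZ _ hmem with h | h
    · exact h
    · exfalso
      have : z = 1 := by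
        have := congrArg (fun t => z⁻¹ * t) h
        simpa using this
      exact hz1 this
  have hχ1 : (χ : G → ℂ) 1 ≠ 0 := irr_one_ne_zero χ
  have hcz1 : (χ : G → ℂ) z = cz * (χ : G → ℂ) 1 := by
    have := hcz' 1
    rwa [mul_one] at this
  have hcz2 : cz * cz = 1 := by
    have h2 := hcz' z
    rw [hzz, hcz1] at h2
    have : (χ : G → ℂ) 1 * (cz * cz - 1) = 0 := by
      linear_combination -h2
    rcases mul_eq_zero.mp this with h | h
    · exact absurd h hχ1
    · exact sub_eq_zero.mp h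
  have hczne : cz ≠ 1 := by
    intro h
    apply hzχ
    rw [hcz1, h, one_mul]
  have hczm : cz = -1 := by
    have : (cz - 1) * (cz + 1) = 0 := by ring_nf; rw [sq, hcz2]; ring
    rcases mul_eq_zero.mp this with h | h
    · exact absurd (sub_eq_zero.mp h) hczne
    · exact eq_neg_of_add_eq_zero_left h
  -- vanishing off the centre
  have hvan : ∀ x : G, x ∉ Subgroup.center G → (χ : G → ℂ) x = 0 := by
    intro x hx
    rw [Subgroup.mem_center_iff] at hx
    push Not at hx
    obtain ⟨y, hy⟩ := hx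
    have hc : y * x * y⁻¹ * x⁻¹ ∈ Subgroup.center G := by
      rw [← hcz, commutator_def]
      have : y * x * y⁻¹ * x⁻¹ = ⁅y, x⁆ := by rw [commutatorElement_def]
      rw [this]
      exact Subgroup.commutator_mem_commutator (Subgroup.mem_top _) (Subgroup.mem_top _)
    have hcne : y * x * y⁻¹ * x⁻¹ ≠ 1 := by
      intro h
      apply hy
      have : y * x = (y * x * y⁻¹ * x⁻¹) * (x * y) := by group
      rw [this, h, one_mul]
    have hcz3 : y * x * y⁻¹ * x⁻¹ = z := by
      rcases hZ _ hc with h | h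
      · exact absurd h hcne
      · exact h
    have hshift : y * x * y⁻¹ = z * x := by
      rw [← hcz3]; group
    apply h7_vanish_of_central_shift χ.2 z hzc z (Subgroup.mem_zpowers z) _ x y hshift
    intro hmem
    rw [h7_mem_shiftKer] at hmem
    have := hmem 1
    rw [mul_one] at this
    exact hzχ this
  -- norm computation
  have hnorm : ∑ g : G, (χ : G → ℂ) g * conj ((χ : G → ℂ) g) = (Nat.card G : ℂ) := by
    have h := irr_classInner χ χ
    rw [if_pos rfl] at h
    simp only [Cfsg.classInner] at h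
    have hG : (Nat.card G : ℂ) ≠ 0 := by exact_mod_cast Nat.card_pos.ne'
    field_simp at h
    exact h
  have hconj1 : conj ((χ : G → ℂ) 1) = (χ : G → ℂ) 1 := by
    obtain ⟨hd, _⟩ := charDegree_irr χ
    rw [← hd]
    simp
  rw [← hnorm]
  have hsum : ∑ g : G, (χ : G → ℂ) g * conj ((χ : G → ℂ) g) =
      ∑ g ∈ ({1, z} : Finset G), (χ : G → ℂ) g * conj ((χ : G → ℂ) g) := by
    symm
    apply Finset.sum_subset (Finset.subset_univ _)
    intro g _ hg
    have : g ∉ Subgroup.center G := by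
      intro hgc
      apply hg
      rcases hZ g hgc with h | h
      · rw [h]; simp
      · rw [h]; simp
    rw [hvan g this, zero_mul]
  rw [hsum, Finset.sum_pair hz1.symm, hcz1, hczm, hconj1]
  simp only [map_mul, map_neg, map_one, hconj1]
  ring

theorem xs_two_dvd_iff {G : Type*} [Group G] [Finite G] (hP : IsPGroup 2 G)
    (χ : Cfsg.IrrCharacter G) :
    2 ∣ Cfsg.charDegree (χ : G → ℂ) ↔ (χ : G → ℂ) 1 ≠ 1 := by
  obtain ⟨hd, hpos⟩ := charDegree_irr χ
  constructor
  · intro h2 h1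
    rw [← hd] at h1
    have : Cfsg.charDegree (χ : G → ℂ) = 1 := by exact_mod_cast h1
    rw [this] at h2
    omega
  · intro h1
    have hdvd := xs_degree_dvd χ
    obtain ⟨n, hn⟩ := IsPGroup.iff_card.mp hP
    rw [hn] at hdvd
    obtain ⟨k, _, hk⟩ := (Nat.dvd_prime_pow Nat.prime_two).mp hdvd
    rcases Nat.eq_zero_or_pos k with h0 | h0
    · exfalso
      apply h1
      rw [← hd, hk, h0]
      simp
    · rw [hk]
      exact dvd_pow_self 2 h0.ne'

theorem xs_backward {G : Type*} [Group G] [Finite G] (hG : Cfsg.IsExtraspecial 2 G) :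
    Nat.card {χ : Cfsg.IrrCharacter G // 2 ∣ Cfsg.charDegree (χ : G → ℂ)} = 1 := by
  classical
  haveI := Fintype.ofFinite G
  haveI : Fintype (Cfsg.IrrCharacter G) := Fintype.ofFinite _
  obtain ⟨⟨hP, _, hcz⟩, hz2⟩ := hG
  have hlin := xs_card_linear (G := G)
  rw [hcz, hz2] at hlin
  have hreg := irr_regular_indicator (1 : G)
  rw [if_pos rfl] at hreg
  have hG0 : (Nat.card G : ℂ) ≠ 0 := by exact_mod_cast Nat.card_pos.ne'
  have hcongr : Nat.card {χ : Cfsg.IrrCharacter G // 2 ∣ Cfsg.charDegree (χ : G → ℂ)} =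
      Nat.card {χ : Cfsg.IrrCharacter G // (χ : G → ℂ) 1 ≠ 1} := by
    apply Nat.card_congr
    exact Equiv.subtypeEquivRight (fun χ => xs_two_dvd_iff hP χ)
  rw [hcongr]
  have hsplit : ∑ χ : Cfsg.IrrCharacter G, (χ : G → ℂ) 1 * (χ : G → ℂ) 1 =
      (Nat.card {χ : Cfsg.IrrCharacter G // (χ : G → ℂ) 1 = 1} : ℂ) +
      (Nat.card {χ : Cfsg.IrrCharacter G // (χ : G → ℂ) 1 ≠ 1} : ℂ) * ((Nat.card G : ℂ) / 2) := by
    rw [← Finset.sum_filter_add_sum_filter_not Finset.univ
      (fun χ : Cfsg.IrrCharacter G => (χ : G → ℂ) 1 = 1)]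
    congr 1
    · rw [Finset.sum_congr rfl (fun χ hχ => by
        rw [(Finset.mem_filter.mp hχ).2, mul_one])]
      rw [Nat.card_eq_fintype_card, Fintype.card_subtype]
      simp
    · rw [Finset.sum_congr rfl (fun χ hχ => by
        have := xs_nonlinear_sq hcz hz2 χ (Finset.mem_filter.mp hχ).2
        have h2 : (χ : G → ℂ) 1 * (χ : G → ℂ) 1 = (Nat.card G : ℂ) / 2 := by
          rw [← this]; ring
        rw [h2])]
      have hc2 : Nat.card {χ : Cfsg.IrrCharacter G // (χ : G → ℂ) 1 ≠ 1} =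
          (Finset.univ.filter (fun χ : Cfsg.IrrCharacter G => ¬ (χ : G → ℂ) 1 = 1)).card := by
        rw [Nat.card_eq_fintype_card, Fintype.card_subtype]
      rw [hc2, Finset.sum_const, nsmul_eq_mul]
  rw [hsplit] at hreg
  have hlinC : (2 : ℂ) * (Nat.card {χ : Cfsg.IrrCharacter G // (χ : G → ℂ) 1 = 1} : ℂ) =
      (Nat.card G : ℂ) := by exact_mod_cast hlin
  have h3 : (Nat.card {χ : Cfsg.IrrCharacter G // (χ : G → ℂ) 1 ≠ 1} : ℂ) = 1 := by
    have h4 : (Nat.card {χ : Cfsg.IrrCharacter G // (χ : G → ℂ) 1 ≠ 1} : ℂ) *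
        ((Nat.card G : ℂ) / 2) = (Nat.card G : ℂ) / 2 := by
      linear_combination hreg - hlinC / 2
    have hne : (Nat.card G : ℂ) / 2 ≠ 0 := div_ne_zero hG0 (by norm_num)
    exact mul_right_cancel₀ hne (h4.trans (one_mul _).symm)
  exact_mod_cast h3

theorem xs_index_pPrimeCore {G : Type*} [Group G] [Finite G] [Group.IsNilpotent G] (p : ℕ)
    [Fact p.Prime] : ∃ k : ℕ, (Cfsg.pPrimeCore p G).index = p ^ k := by
  refine ⟨_, Nat.eq_prime_pow_of_unique_prime_dvd Subgroup.index_ne_zero_of_finite ?_⟩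
  intro q hq hqd
  by_contra hne
  haveI : Fact q.Prime := ⟨hq⟩
  obtain ⟨Q⟩ : Nonempty (Sylow q G) := inferInstance
  have hQn : (Q : Subgroup G).Normal := inferInstance
  have hcard : (Nat.card (Q : Subgroup G)).Coprime p := by
    rw [Sylow.card_eq_multiplicity]
    apply Nat.Coprime.pow_left
    exact (Nat.coprime_primes hq (Fact.out : p.Prime)).mpr hne
  have hle : (Q : Subgroup G) ≤ Cfsg.pPrimeCore p G :=
    Cfsg.Agent.Lib.Helper18.le_pPrimeCore_h18 hQn hcard
  have h1 : (Cfsg.pPrimeCore p G).index ∣ (Q : Subgroup G).index := Subgroup.index_dvd_of_le hle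
  exact Q.not_dvd_index (dvd_trans hqd h1)

theorem xs_exists_beta {G : Type*} [Group G] [Finite G] [Group.IsNilpotent G] (P : Subgroup G)
    [P.Normal] (hP : P ≠ ⊤) :
    ∃ β : G →* ℂˣ, (∀ x ∈ P, β x = 1) ∧ ∃ g : G, β g ≠ 1 := by
  haveI : Nontrivial (G ⧸ P) := by
    rw [← not_subsingleton_iff_nontrivial]
    intro h
    apply hP
    exact QuotientGroup.subgroup_eq_top_of_subsingleton P h
  have hlt := Group.IsSolvable.commutator_lt_top_of_nontrivial (G := G ⧸ P)
  obtain ⟨w, -, hw⟩ := SetLike.exists_of_lt hlt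
  have hcomm : ∀ a b : (G ⧸ P) ⧸ commutator (G ⧸ P), a * b = b * a := by
    intro a b
    obtain ⟨x, rfl⟩ := QuotientGroup.mk_surjective a
    obtain ⟨y, rfl⟩ := QuotientGroup.mk_surjective b
    rw [← QuotientGroup.mk_mul, ← QuotientGroup.mk_mul, QuotientGroup.eq]
    have : (x * y)⁻¹ * (y * x) = ⁅y⁻¹, x⁻¹⁆ := by
      rw [commutatorElement_def]; group
    rw [this, commutator_def]
    exact Subgroup.commutator_mem_commutator (Subgroup.mem_top _) (Subgroup.mem_top _)
  obtain ⟨φ, -, hφ⟩ := Cfsg.Agent.Lib.Helper11.exists_linChar_ne_one hcomm ⊥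
    (QuotientGroup.mk w : (G ⧸ P) ⧸ commutator (G ⧸ P)) (by
      rw [Subgroup.mem_bot, QuotientGroup.eq_one_iff]
      exact hw)
  obtain ⟨g, rfl⟩ := QuotientGroup.mk_surjective w
  refine ⟨(φ.comp (QuotientGroup.mk' (commutator (G ⧸ P)))).comp (QuotientGroup.mk' P), ?_, g, hφ⟩
  intro x hx
  simp only [MonoidHom.comp_apply, QuotientGroup.mk'_apply]
  rw [(QuotientGroup.eq_one_iff x).mpr hx]
  simp

theorem xs_charDegree_eq {G Q : Type*} [Group G] [Group Q] (χ : G → ℂ) (ψ : Q → ℂ)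
    (h : χ 1 = ψ 1) :
    Cfsg.charDegree χ = Cfsg.charDegree ψ := by
  unfold Cfsg.charDegree
  rw [h]

/-- nonlinear irreducible characters of a `p`-group have degree divisible by `p` -/
theorem xs_p_dvd_of_nonlinear {Q : Type*} [Group Q] [Finite Q] (p : ℕ) [Fact p.Prime]
    (hQ : IsPGroup p Q) (α : Cfsg.IrrCharacter Q) (hα : (α : Q → ℂ) 1 ≠ 1) :
    p ∣ Cfsg.charDegree (α : Q → ℂ) := by
  obtain ⟨hd, hpos⟩ := charDegree_irr α
  have hdvd := xs_degree_dvd α
  obtain ⟨n, hn⟩ := IsPGroup.iff_card.mp hQ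
  rw [hn] at hdvd
  obtain ⟨k, _, hk⟩ := (Nat.dvd_prime_pow (Fact.out : p.Prime)).mp hdvd
  rcases Nat.eq_zero_or_pos k with h0 | h0
  · exfalso
    apply hα
    rw [← hd, hk, h0]
    simp
  · rw [hk]
    exact dvd_pow_self p h0.ne'

theorem xs_isPGroup {G : Type*} [Group G] [Finite G] [Group.IsNilpotent G] (p : ℕ)
    [Fact p.Prime]
    (h1 : Nat.card {χ : Cfsg.IrrCharacter G // p ∣ Cfsg.charDegree (χ : G → ℂ)} = 1) :
    IsPGroup p G := by
  classical
  haveI := Fintype.ofFinite G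
  obtain ⟨⟨χ₀, hχ₀⟩, huniq⟩ := Nat.card_eq_one_iff_exists.mp h1
  have huniq' : ∀ ψ : Cfsg.IrrCharacter G, p ∣ Cfsg.charDegree (ψ : G → ℂ) → ψ = χ₀ := by
    intro ψ hψ
    exact congrArg Subtype.val (huniq ⟨ψ, hψ⟩)
  obtain ⟨P⟩ : Nonempty (Sylow p G) := inferInstance
  have hPn : (P : Subgroup G).Normal := inferInstance
  set H := Cfsg.pPrimeCore p G with hH
  haveI hHn : H.Normal := Cfsg.Agent.Lib.Helper18.pPrimeCore_normal_h18 p G
  have hHcop : (Nat.card H).Coprime p := Cfsg.Agent.Lib.Helper18.pPrimeCore_card_coprime_h18 p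
  obtain ⟨k, hk⟩ := xs_index_pPrimeCore (G := G) p
  have hQp : IsPGroup p (G ⧸ H) := IsPGroup.of_card (n := k) (by rw [← hk]; rfl)
  -- G/H is not abelian
  have hnab : ¬ ∀ a b : G ⧸ H, a * b = b * a := by
    intro hab
    have hcomH : commutator G ≤ H := by
      rw [commutator_def, Subgroup.commutator_le]
      intro a _ b _
      rw [← QuotientGroup.eq_one_iff, commutatorElement_def]
      simp only [QuotientGroup.mk_mul, QuotientGroup.mk_inv]
      rw [hab (a : G ⧸ H) (b : G ⧸ H)]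
      group
    have hPab : ∀ a ∈ (P : Subgroup G), ∀ b ∈ (P : Subgroup G), a * b = b * a := by
      intro a ha b hb
      have hc1 : ⁅a, b⁆ ∈ (P : Subgroup G) := by
        rw [commutatorElement_def]
        exact Subgroup.mul_mem _ (Subgroup.mul_mem _ (Subgroup.mul_mem _ ha hb)
          (Subgroup.inv_mem _ ha)) (Subgroup.inv_mem _ hb)
      have hc2 : ⁅a, b⁆ ∈ H := hcomH (by
        rw [commutator_def]
        exact Subgroup.commutator_mem_commutator (Subgroup.mem_top _) (Subgroup.mem_top _))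
      have h3 := Cfsg.Agent.Lib.Helper18.eq_one_of_mem_pGroup_of_mem_coprime P.isPGroup' hHcop hc1 hc2
      rw [commutatorElement_def] at h3
      calc a * b = (a * b * a⁻¹ * b⁻¹) * (b * a) := by group
        _ = b * a := by rw [h3, one_mul]
    obtain ⟨d, hd, hdvd⟩ := Cfsg.Agent.Lib.helper2.ito_aux (Fintype.card G) le_rfl χ₀.1 χ₀.2
      (P : Subgroup G) hPab
    obtain ⟨hd', _⟩ := charDegree_irr χ₀
    have : Cfsg.charDegree (χ₀ : G → ℂ) = d := by
      have : ((Cfsg.charDegree (χ₀ : G → ℂ) : ℕ) : ℂ) = (d : ℂ) := by rw [hd', ← hd]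
      exact_mod_cast this
    rw [this] at hχ₀
    exact P.not_dvd_index (dvd_trans hχ₀ hdvd)
  -- a nonlinear character of G/H
  have hex : ∃ α : Cfsg.IrrCharacter (G ⧸ H), (α : G ⧸ H → ℂ) 1 ≠ 1 := by
    by_contra hcon
    push Not at hcon
    exact hnab (xs_comm_of_all_linear hcon)
  obtain ⟨α, hα⟩ := hex
  have hαp := xs_p_dvd_of_nonlinear p hQp α hα
  set α' := xs_infl (QuotientGroup.mk' H) (QuotientGroup.mk'_surjective H) α with hα'
  have hα'deg : p ∣ Cfsg.charDegree (α' : G → ℂ) := by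
    have : Cfsg.charDegree (α' : G → ℂ) = Cfsg.charDegree (α : G ⧸ H → ℂ) := by
      apply xs_charDegree_eq
      rw [hα', xs_infl_apply]
      simp
    rw [this]
    exact hαp
  have hα'eq : α' = χ₀ := huniq' α' hα'deg
  have hkerH : ∀ h ∈ H, (χ₀ : G → ℂ) h = (χ₀ : G → ℂ) 1 := by
    intro h hh
    rw [← hα'eq, hα', xs_infl_apply, xs_infl_apply]
    simp only [QuotientGroup.mk'_apply]
    rw [(QuotientGroup.eq_one_iff h).mpr hh]
    simp
  -- P = ⊤
  have hPtop : (P : Subgroup G) = ⊤ := by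
    by_contra hPne
    obtain ⟨β, hβP, g, hβg⟩ := xs_exists_beta (P : Subgroup G) hPne
    have hirr := Cfsg.Agent.Lib.Helper11.isIrr_linChar_mul β χ₀.1 χ₀.2
    set ψ : Cfsg.IrrCharacter G := ⟨fun x => ((β x : ℂˣ) : ℂ) * χ₀.1 x, hirr⟩ with hψ
    have hψdeg : p ∣ Cfsg.charDegree (ψ : G → ℂ) := by
      have : Cfsg.charDegree (ψ : G → ℂ) = Cfsg.charDegree (χ₀ : G → ℂ) := by
        apply xs_charDegree_eq
        show ((β 1 : ℂˣ) : ℂ) * χ₀.1 1 = χ₀.1 1
        rw [map_one, Units.val_one, one_mul]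
      rw [this]
      exact hχ₀
    have hψeq : ψ = χ₀ := huniq' ψ hψdeg
    -- the element g ^ (p ^ k) lies in H
    have hgH : g ^ (p ^ k) ∈ H := by
      rw [← QuotientGroup.eq_one_iff, QuotientGroup.mk_pow]
      have : Nat.card (G ⧸ H) = p ^ k := by rw [← hk]; rfl
      rw [← this]
      exact pow_card_eq_one'
    have hval : (ψ : G → ℂ) (g ^ (p ^ k)) = (χ₀ : G → ℂ) (g ^ (p ^ k)) := by rw [hψeq]
    have hval2 : ((β (g ^ (p ^ k)) : ℂˣ) : ℂ) * (χ₀ : G → ℂ) 1 = (χ₀ : G → ℂ) 1 := by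
      have : (ψ : G → ℂ) (g ^ (p ^ k)) = ((β (g ^ (p ^ k)) : ℂˣ) : ℂ) * χ₀.1 (g ^ (p ^ k)) := rfl
      rw [this, hkerH _ hgH] at hval
      exact hval
    have hne := irr_one_ne_zero χ₀
    have hβ1 : β (g ^ (p ^ k)) = 1 := by
      have : ((β (g ^ (p ^ k)) : ℂˣ) : ℂ) = 1 := by
        have h5 : (((β (g ^ (p ^ k)) : ℂˣ) : ℂ) - 1) * (χ₀ : G → ℂ) 1 = 0 := by
          rw [sub_mul, one_mul, hval2, sub_self]
        rcases mul_eq_zero.mp h5 with h | h
        · exact sub_eq_zero.mp h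
        · exact absurd h hne
      exact Units.ext this
    have hβ2 : β (g ^ (P : Subgroup G).index) = 1 := by
      apply hβP
      rw [← QuotientGroup.eq_one_iff, QuotientGroup.mk_pow]
      have : Nat.card (G ⧸ (P : Subgroup G)) = (P : Subgroup G).index := rfl
      rw [← this]
      exact pow_card_eq_one'
    rw [map_pow] at hβ1 hβ2
    have hcop : Nat.Coprime (p ^ k) (P : Subgroup G).index := by
      apply Nat.Coprime.pow_left
      exact (Nat.Prime.coprime_iff_not_dvd (Fact.out : p.Prime)).mpr P.not_dvd_index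
    have h6 : orderOf (β g) ∣ 1 := by
      rw [← Nat.Coprime.gcd_eq_one hcop]
      exact Nat.dvd_gcd (orderOf_dvd_of_pow_eq_one hβ1) (orderOf_dvd_of_pow_eq_one hβ2)
    apply hβg
    exact orderOf_eq_one_iff.mp (Nat.dvd_one.mp h6)
  have := P.isPGroup'
  rw [hPtop] at this
  intro g
  obtain ⟨n, hn⟩ := this ⟨g, Subgroup.mem_top g⟩
  exact ⟨n, congrArg Subtype.val hn⟩

theorem xs_arith (p n a b : ℕ) (hp : p.Prime) (h : p ^ n = p ^ a + p ^ b) :
    p = 2 ∧ a = b ∧ n = a + 1 := by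
  wlog hab : a ≤ b generalizing a b with H
  · have := H b a (by rw [h, add_comm]) (le_of_not_ge hab)
    obtain ⟨h1, h2, h3⟩ := this
    exact ⟨h1, h2.symm, by rw [h3, h2]⟩
  obtain ⟨k, rfl⟩ := Nat.exists_eq_add_of_le hab
  have hpos : 0 < p ^ a := pow_pos hp.pos a
  have han : a < n := by
    by_contra hna
    have : p ^ n ≤ p ^ a := Nat.pow_le_pow_right hp.pos (not_lt.mp hna)
    have : 0 < p ^ (a + k) := pow_pos hp.pos _
    omega
  obtain ⟨j, rfl⟩ := Nat.exists_eq_add_of_lt han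
  have h2 : p ^ (j + 1) = 1 + p ^ k := by
    have h3 : p ^ a * p ^ (j + 1) = p ^ a * (1 + p ^ k) := by
      rw [← pow_add, mul_add, mul_one, ← pow_add]
      rw [← h]
      ring_nf
    exact Nat.eq_of_mul_eq_mul_left hpos h3
  have hk : k = 0 := by
    by_contra hk
    have hd1 : p ∣ p ^ (j + 1) := dvd_pow_self p (Nat.succ_ne_zero j)
    have hd2 : p ∣ p ^ k := dvd_pow_self p hk
    rw [h2] at hd1
    have : p ∣ 1 := (Nat.dvd_add_left hd2).mp hd1
    exact hp.one_lt.ne' (Nat.dvd_one.mp this)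
  subst hk
  rw [pow_zero] at h2
  have hp2 : p = 2 := by
    have : p ∣ 2 := by
      have hd1 : p ∣ p ^ (j + 1) := dvd_pow_self p (Nat.succ_ne_zero j)
      rw [h2] at hd1
      exact hd1
    exact (Nat.prime_dvd_prime_iff_eq hp Nat.prime_two).mp this
  subst hp2
  have hj : j = 0 := by
    by_contra hj
    have : 2 ^ 2 ≤ 2 ^ (j + 1) := Nat.pow_le_pow_right (by norm_num) (by omega)
    omega
  subst hj
  exact ⟨rfl, by omega, by omega⟩

theorem xs_center_norm {G : Type*} [Group G] [Fintype G] (χ : Cfsg.IrrCharacter G) (z : G)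
    (hz : z ∈ Subgroup.center G) : ‖(χ : G → ℂ) z‖ = ‖(χ : G → ℂ) 1‖ := by
  obtain ⟨c, hc⟩ := h7_central_char χ.2 z hz
  have h1 := irr_sum_norm_sq χ
  have h2 : ∑ g : G, ‖(χ : G → ℂ) (z * g)‖ ^ 2 = ∑ g : G, ‖(χ : G → ℂ) g‖ ^ 2 :=
    Equiv.sum_comp (Equiv.mulLeft z) (fun g => ‖(χ : G → ℂ) g‖ ^ 2)
  have h3 : ∑ g : G, ‖(χ : G → ℂ) (z * g)‖ ^ 2 = ‖c‖ ^ 2 * ∑ g : G, ‖(χ : G → ℂ) g‖ ^ 2 := by
    rw [Finset.mul_sum]
    apply Finset.sum_congr rfl
    intro g _
    rw [hc, norm_mul, mul_pow]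
  rw [h2, h1] at h3
  have hG : (Nat.card G : ℝ) ≠ 0 := by exact_mod_cast Nat.card_pos.ne'
  have h4 : ‖c‖ ^ 2 = 1 := by
    have : (‖c‖ ^ 2 - 1) * (Nat.card G : ℝ) = 0 := by linarith
    rcases mul_eq_zero.mp this with h | h
    · linarith
    · exact absurd h hG
  have h5 : ‖c‖ = 1 := by
    have hnn : 0 ≤ ‖c‖ := norm_nonneg c
    nlinarith
  have h6 := hc 1
  rw [mul_one] at h6
  rw [h6, norm_mul, h5, one_mul]

theorem xs_center_sq {G : Type*} [Group G] [Finite G] (χ : Cfsg.IrrCharacter G) :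
    Nat.card (Subgroup.center G) * (Cfsg.charDegree (χ : G → ℂ) * Cfsg.charDegree (χ : G → ℂ)) ≤
      Nat.card G := by
  classical
  haveI := Fintype.ofFinite G
  obtain ⟨hd, _⟩ := charDegree_irr χ
  have h1 := irr_sum_norm_sq χ
  have hle : ∑ g ∈ Finset.univ.filter (· ∈ Subgroup.center G), ‖(χ : G → ℂ) g‖ ^ 2 ≤
      ∑ g : G, ‖(χ : G → ℂ) g‖ ^ 2 := by
    apply Finset.sum_le_sum_of_subset_of_nonneg (Finset.filter_subset _ _)
    intro g _ _
    positivity
  have heq : ∑ g ∈ Finset.univ.filter (· ∈ Subgroup.center G), ‖(χ : G → ℂ) g‖ ^ 2 =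
      (Nat.card (Subgroup.center G) : ℝ) * (Cfsg.charDegree (χ : G → ℂ) : ℝ) ^ 2 := by
    rw [Finset.sum_congr rfl (fun g hg => by
      rw [xs_center_norm χ g (Finset.mem_filter.mp hg).2, ← hd, Complex.norm_natCast])]
    rw [Finset.sum_const, nsmul_eq_mul]
    congr 1
    rw [Nat.card_eq_fintype_card, Fintype.card_subtype]
  rw [heq, h1] at hle
  have : ((Nat.card (Subgroup.center G) * (Cfsg.charDegree (χ : G → ℂ) *
      Cfsg.charDegree (χ : G → ℂ)) : ℕ) : ℝ) ≤ (Nat.card G : ℝ) := by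
    push_cast
    nlinarith
  exact_mod_cast this

/-- a normal subgroup of order two is central -/
theorem xs_order_two_central {G : Type*} [Group G] (N : Subgroup G) [N.Normal]
    (hN : Nat.card N = 2) : N ≤ Subgroup.center G := by
  intro w hw
  rw [Subgroup.mem_center_iff]
  intro g
  by_cases hw1 : w = 1
  · rw [hw1, mul_one, one_mul]
  · obtain ⟨y, _, hy⟩ := (Nat.card_eq_two_iff' (1 : N)).mp hN
    have hconj : g * w * g⁻¹ ∈ N := ‹N.Normal›.conj_mem w hw g
    have hne : g * w * g⁻¹ ≠ 1 := by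
      intro h
      apply hw1
      have : w = g⁻¹ * (g * w * g⁻¹) * g := by group
      rw [this, h]; group
    have e1 : (⟨w, hw⟩ : N) = y := hy _ (fun h => hw1 (congrArg Subtype.val h))
    have e2 : (⟨g * w * g⁻¹, hconj⟩ : N) = y := hy _ (fun h => hne (congrArg Subtype.val h))
    have e3 : g * w * g⁻¹ = w := congrArg Subtype.val (e2.trans e1.symm)
    calc g * w = (g * w * g⁻¹) * g := by group
      _ = w * g := by rw [e3]

theorem xs_forward_pgroup {G : Type*} [Group G] [Finite G] (p : ℕ) [hp : Fact p.Prime]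
    (hP : IsPGroup p G)
    (h1 : Nat.card {χ : Cfsg.IrrCharacter G // p ∣ Cfsg.charDegree (χ : G → ℂ)} = 1) :
    p = 2 ∧ Cfsg.IsExtraspecial 2 G := by
  classical
  haveI := Fintype.ofFinite G
  haveI : Fintype (Cfsg.IrrCharacter G) := Fintype.ofFinite _
  obtain ⟨⟨χ₀, hχ₀⟩, huniq⟩ := Nat.card_eq_one_iff_exists.mp h1
  have huniq' : ∀ ψ : Cfsg.IrrCharacter G, p ∣ Cfsg.charDegree (ψ : G → ℂ) → ψ = χ₀ := by
    intro ψ hψ
    exact congrArg Subtype.val (huniq ⟨ψ, hψ⟩)
  obtain ⟨hd, hdpos⟩ := charDegree_irr χ₀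
  set d := Cfsg.charDegree (χ₀ : G → ℂ) with hd_def
  have hχ₀1 : (χ₀ : G → ℂ) 1 ≠ 1 := by
    intro h
    rw [← hd] at h
    have : d = 1 := by exact_mod_cast h
    rw [this] at hχ₀
    exact hp.out.one_lt.ne' (Nat.dvd_one.mp hχ₀)
  have hlin_iff : ∀ ψ : Cfsg.IrrCharacter G, (ψ : G → ℂ) 1 = 1 ↔ ψ ≠ χ₀ := by
    intro ψ
    constructor
    · intro h1 h2
      rw [h2] at h1
      exact hχ₀1 h1
    · intro hne
      by_contra h1
      exact hne (huniq' ψ (xs_p_dvd_of_nonlinear p hP ψ h1))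
  -- sum of squares
  have hreg := irr_regular_indicator (1 : G)
  rw [if_pos rfl] at hreg
  have hsplit : ∑ χ : Cfsg.IrrCharacter G, (χ : G → ℂ) 1 * (χ : G → ℂ) 1 =
      (Nat.card {χ : Cfsg.IrrCharacter G // (χ : G → ℂ) 1 = 1} : ℂ) + (d : ℂ) * (d : ℂ) := by
    rw [← Finset.sum_filter_add_sum_filter_not Finset.univ
      (fun χ : Cfsg.IrrCharacter G => (χ : G → ℂ) 1 = 1)]
    congr 1
    · rw [Finset.sum_congr rfl (fun χ hχ => by
        rw [(Finset.mem_filter.mp hχ).2, mul_one])]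
      rw [Nat.card_eq_fintype_card, Fintype.card_subtype]
      simp
    · have hf : Finset.univ.filter (fun χ : Cfsg.IrrCharacter G => ¬ (χ : G → ℂ) 1 = 1) = {χ₀} := by
        ext ψ
        simp only [Finset.mem_filter, Finset.mem_univ, true_and, Finset.mem_singleton]
        rw [hlin_iff]
        exact not_not
      rw [hf, Finset.sum_singleton, hd]
  rw [hsplit] at hreg
  have hsum : Nat.card {χ : Cfsg.IrrCharacter G // (χ : G → ℂ) 1 = 1} + d * d = Nat.card G := by
    exact_mod_cast hreg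
  have hlin := xs_card_linear (G := G)
  -- orders as powers of p
  obtain ⟨n, hn⟩ := IsPGroup.iff_card.mp hP
  obtain ⟨c, hc⟩ := IsPGroup.iff_card.mp (hP.to_subgroup (commutator G))
  have hddvd := xs_degree_dvd χ₀
  rw [hn] at hddvd
  obtain ⟨m, _, hm0⟩ := (Nat.dvd_prime_pow hp.out).mp hddvd
  have hm : d = p ^ m := hm0
  have hcn : c ≤ n := by
    have h2 : Nat.card (commutator G) ∣ Nat.card G := Subgroup.card_subgroup_dvd_card _
    rw [hn, hc] at h2
    exact (Nat.pow_dvd_pow_iff_le_right hp.out.one_lt).mp h2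
  have hlin2 : Nat.card {χ : Cfsg.IrrCharacter G // (χ : G → ℂ) 1 = 1} = p ^ (n - c) := by
    have h3 : p ^ c * Nat.card {χ : Cfsg.IrrCharacter G // (χ : G → ℂ) 1 = 1} =
        p ^ c * p ^ (n - c) := by
      rw [← hc, hlin, hn, hc, ← pow_add, Nat.add_sub_cancel' hcn]
    exact Nat.eq_of_mul_eq_mul_left (pow_pos hp.out.pos c) h3
  have harith : p ^ n = p ^ (n - c) + p ^ (m + m) := by
    rw [← hn, ← hsum, hlin2, hm, pow_add]
  obtain ⟨hp2, hnc, hn1⟩ := xs_arith p n (n - c) (m + m) hp.out harith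
  refine ⟨hp2, ?_⟩
  subst hp2
  have hc1 : c = 1 := by omega
  rw [hc1, pow_one] at hc
  -- |G| = 2 d^2
  have hG2 : Nat.card G = 2 * (d * d) := by
    have hn2 : n = m + m + 1 := by omega
    rw [hn, hm, hn2, pow_succ, pow_add]
    ring
  have hZle : Nat.card (Subgroup.center G) ≤ 2 := by
    have h4 := xs_center_sq χ₀
    rw [hG2] at h4
    have hdd : 0 < d * d := Nat.mul_pos hdpos hdpos
    exact Nat.le_of_mul_le_mul_right h4 hdd
  have hcomle : commutator G ≤ Subgroup.center G := xs_order_two_central (commutator G) hc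
  have hcz : commutator G = Subgroup.center G := by
    apply Subgroup.eq_of_le_of_card_ge hcomle
    rw [hc]
    exact hZle
  have hz2 : Nat.card (Subgroup.center G) = 2 := by rw [← hcz, hc]
  refine ⟨⟨hP, ?_, hcz⟩, hz2⟩
  apply le_antisymm
  · apply Cfsg.Agent.Lib.Helper1.frattini_le_of_elementary_quotient (p := 2) (Subgroup.center G) hcomle
    intro x
    rw [Subgroup.mem_center_iff]
    intro y
    have hcm : ⁅y, x⁆ ∈ commutator G := by
      rw [commutator_def]
      exact Subgroup.commutator_mem_commutator (Subgroup.mem_top _) (Subgroup.mem_top _)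
    have hcc : ⁅y, x⁆ ∈ Subgroup.center G := hcomle hcm
    have hsq : ⁅y, x⁆ * ⁅y, x⁆ = 1 := by
      have h5 : (⟨⁅y, x⁆, hcm⟩ : commutator G) ^ 2 = 1 := by
        rw [← hc]
        exact pow_card_eq_one'
      have h6 := congrArg Subtype.val h5
      simpa [pow_two] using h6
    have hyx : y * x = ⁅y, x⁆ * (x * y) := by
      rw [commutatorElement_def]; group
    have hcomm : ∀ t : G, t * ⁅y, x⁆ = ⁅y, x⁆ * t := fun t => Subgroup.mem_center_iff.mp hcc t
    calc y * x ^ 2 = (y * x) * x := by rw [pow_two, mul_assoc]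
      _ = ⁅y, x⁆ * (x * y) * x := by rw [hyx]
      _ = ⁅y, x⁆ * x * (y * x) := by group
      _ = ⁅y, x⁆ * x * (⁅y, x⁆ * (x * y)) := by rw [← hyx]
      _ = ⁅y, x⁆ * (x * ⁅y, x⁆) * (x * y) := by group
      _ = ⁅y, x⁆ * (⁅y, x⁆ * x) * (x * y) := by rw [hcomm x]
      _ = (⁅y, x⁆ * ⁅y, x⁆) * (x * x * y) := by group
      _ = x ^ 2 * y := by rw [hsq, one_mul, pow_two]
  · rw [← hcz]
    exact Cfsg.Agent.Lib.Helper1.pgroup_commutator_le_frattini hP

theorem xs_main {G : Type*} [Group G] [Finite G] [Group.IsNilpotent G] (p : ℕ) [Fact p.Prime] :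
    Nat.card {χ : Cfsg.IrrCharacter G // p ∣ Cfsg.charDegree (χ : G → ℂ)} = 1 ↔
      (p = 2 ∧ Cfsg.IsExtraspecial 2 G) := by
  constructor
  · intro h1
    exact xs_forward_pgroup p (xs_isPGroup p h1) h1
  · rintro ⟨rfl, hG⟩
    exact xs_backward hG

end Cfsg.Agent.Lib.Helper25
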