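import Mathlib
import Cfsg.Prelude.Def_Characters
import Cfsg.Agent.Lib.Helper25.CharOrth
import Cfsg.Agent.Lib.Helper25.RealOrbits
import Cfsg.Agent.Lib.Helper25.KnorrBound
import Cfsg.Agent.Lib.helper7.Clifford
import Cfsg.Agent.Lib.Helper11.GaloisConj

/-! Galois-fixed characters: constituents on a normal subgroup of p'-index are fixed by a
p-power order Galois map (S4518). -/

set_option autoImplicit false

namespace Cfsg.Agent.Lib.Helper25
open Cfsg.Agent.Lib.helper7 Cfsg.Agent.Lib.Helper11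
open scoped ComplexConjugate

/-- Galois twist of an irreducible character of a subgroup. -/
noncomputable def gfx_twist {H : Type*} [Group H] [Finite H] (τ : ℂ ≃+* ℂ)
    (ψ : Cfsg.IrrCharacter H) : Cfsg.IrrCharacter H :=
  ⟨fun n => τ ((ψ : H → ℂ) n), isIrrCharacter_ringAut τ ψ.2⟩

theorem gfx_twist_apply {G : Type*} [Group G] [Finite G] (N : Subgroup G) (τ : ℂ ≃+* ℂ) (k : ℕ)
    (hτ : ∀ z : ℂ, z ^ Nat.card G = 1 → τ z = z ^ k) (ψ : Cfsg.IrrCharacter N) (n : N) :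
    (gfx_twist τ ψ : N → ℂ) n = (ψ : N → ℂ) (n ^ k) := by
  show τ ((ψ : N → ℂ) n) = _
  apply ringAut_character_apply τ k _ (h7_irr_isCharacter ψ.2)
  intro z hz
  apply hτ
  obtain ⟨d, hd⟩ := Subgroup.card_subgroup_dvd_card N
  rw [hd, pow_mul, hz, one_pow]

theorem gfx_iter {G : Type*} [Group G] [Finite G] (N : Subgroup G) (τ : ℂ ≃+* ℂ) (k : ℕ)
    (hτ : ∀ z : ℂ, z ^ Nat.card G = 1 → τ z = z ^ k) (ψ : Cfsg.IrrCharacter N) (m : ℕ) (n : N) :
    (((gfx_twist τ)^[m] ψ : Cfsg.IrrCharacter N) : N → ℂ) n = (ψ : N → ℂ) (n ^ (k ^ m)) := by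
  induction m generalizing n with
  | zero => simp
  | succ m ih =>
    rw [Function.iterate_succ_apply', gfx_twist_apply N τ k hτ, ih, ← pow_mul, pow_succ, mul_comm]

theorem gfx_pow_eq {G : Type*} [Group G] [Finite G] (N : Subgroup G) (a : ℕ)
    (ha : a ≡ 1 [MOD Nat.card G]) (n : N) : n ^ a = n := by
  have h1 : (n : G) ^ a = (n : G) ^ 1 := by
    rw [pow_eq_pow_iff_modEq]
    exact ha.of_dvd (orderOf_dvd_natCard _)
  apply Subtype.ext
  rw [Subgroup.coe_pow, h1, pow_one]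

theorem gfx_inner_twist {G : Type*} [Group G] [Fintype G] (N : Subgroup G) [Fintype N]
    (τ : ℂ ≃+* ℂ) (k : ℕ) (hk : Nat.Coprime k (Nat.card G))
    (hτ : ∀ z : ℂ, z ^ Nat.card G = 1 → τ z = z ^ k) (χ : Cfsg.IrrCharacter G)
    (hχ : ∀ g : G, (χ : G → ℂ) (g ^ k) = (χ : G → ℂ) g) (ψ : Cfsg.IrrCharacter N) :
    Cfsg.classInner (fun n : N => (χ : G → ℂ) n) (gfx_twist τ ψ : N → ℂ) =
      Cfsg.classInner (fun n : N => (χ : G → ℂ) n) (ψ : N → ℂ) := by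
  have hcop : (Nat.card N).Coprime k := by
    apply Nat.Coprime.coprime_dvd_left (Subgroup.card_subgroup_dvd_card N)
    exact hk.symm
  unfold Cfsg.classInner
  congr 1
  rw [← Equiv.sum_comp (powCoprime hcop) (fun n : N => (χ : G → ℂ) n * conj ((ψ : N → ℂ) n))]
  apply Finset.sum_congr rfl
  intro n _
  rw [gfx_twist_apply N τ k hτ]
  simp only [powCoprime, Equiv.coe_fn_mk, Subgroup.coe_pow, hχ]

theorem gfx_card_constituents {G : Type*} [Group G] [Fintype G] (N : Subgroup G) [N.Normal]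
    [Fintype N] (χ : Cfsg.IrrCharacter G) (θ : Cfsg.IrrCharacter N)
    (hθ : Cfsg.classInner (fun n : N => (χ : G → ℂ) n) (θ : N → ℂ) ≠ 0)
    [Fintype {ψ : Cfsg.IrrCharacter N //
      Cfsg.classInner (fun n : N => (χ : G → ℂ) n) (ψ : N → ℂ) ≠ 0}] :
    Fintype.card {ψ : Cfsg.IrrCharacter N //
      Cfsg.classInner (fun n : N => (χ : G → ℂ) n) (ψ : N → ℂ) ≠ 0} ∣ N.index := by
  classical
  refine dvd_trans (dvd_of_eq ?_) (knb_orbit_card_dvd N θ)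
  rw [← Fintype.card_coe]
  apply Fintype.card_congr
  refine Equiv.ofBijective (fun ψ => ⟨ψ.1.1, ?_⟩) ⟨?_, ?_⟩
  · obtain ⟨g, hg⟩ := h7_clifford_conj N χ.1 χ.2 θ.1 ψ.1.1 θ.2 ψ.1.2 hθ ψ.2
    exact Finset.mem_image.mpr ⟨g, Finset.mem_univ _, hg.symm⟩
  · intro ψ ψ' h
    apply Subtype.ext
    apply Subtype.ext
    exact congrArg (fun z => (z.1 : N → ℂ)) h
  · rintro ⟨φ, hφ⟩
    obtain ⟨g, -, hg⟩ := Finset.mem_image.mp hφ
    refine ⟨⟨⟨φ, hg ▸ isIrr_cj N θ.1 θ.2 g⟩, ?_⟩, rfl⟩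
    show Cfsg.classInner (fun n : N => (χ : G → ℂ) n) φ ≠ 0
    rw [← hg, h7_classInner_restrict_cj N χ.1 (h7_irr_isClassFunction χ.2) θ.1 g]
    exact hθ

theorem gfx_main {G : Type*} [Group G] [Fintype G] (p : ℕ) [Fact p.Prime] (N : Subgroup G)
    [N.Normal] [Fintype N] (hidx : ¬ p ∣ N.index) (k e : ℕ) (hk : Nat.Coprime k (Nat.card G))
    (hke : k ^ (p ^ e) ≡ 1 [MOD Nat.card G]) (χ : Cfsg.IrrCharacter G)
    (hχ : ∀ g : G, (χ : G → ℂ) (g ^ k) = (χ : G → ℂ) g) (θ : Cfsg.IrrCharacter N)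
    (hθ : Cfsg.classInner (fun n : N => (χ : G → ℂ) n) (θ : N → ℂ) ≠ 0) :
    ∀ n : N, (θ : N → ℂ) (n ^ k) = (θ : N → ℂ) n := by
  classical
  obtain ⟨τ, hτ⟩ := exists_ringAut_pow (Nat.card G) k Nat.card_pos hk
  haveI : Fintype (Cfsg.IrrCharacter N) := Fintype.ofFinite _
  let f : Function.End {ψ : Cfsg.IrrCharacter N //
      Cfsg.classInner (fun n : N => (χ : G → ℂ) n) (ψ : N → ℂ) ≠ 0} := fun ψ =>
    ⟨gfx_twist τ ψ.1, by
      rw [gfx_inner_twist N τ k hk hτ χ hχ]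
      exact ψ.2⟩
  have hiter : ∀ (m : ℕ) (ψ : {ψ : Cfsg.IrrCharacter N //
      Cfsg.classInner (fun n : N => (χ : G → ℂ) n) (ψ : N → ℂ) ≠ 0}),
      ((f^[m]) ψ).1 = (gfx_twist τ)^[m] ψ.1 := by
    intro m ψ
    induction m with
    | zero => rfl
    | succ m ih =>
      rw [Function.iterate_succ_apply', Function.iterate_succ_apply', ← ih]
  have hf : f ^ p ^ e = 1 := by
    funext ψ
    show (f^[p ^ e]) ψ = ψ
    apply Subtype.ext
    rw [hiter]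
    apply Subtype.ext
    funext n
    rw [gfx_iter N τ k hτ, gfx_pow_eq N _ hke]
  have hmod := Equiv.Perm.card_fixedPoints_modEq (p := p) (n := e) hf
  have hdvd := gfx_card_constituents N χ θ hθ
  have hnp : ¬ p ∣ Fintype.card {ψ : Cfsg.IrrCharacter N //
      Cfsg.classInner (fun n : N => (χ : G → ℂ) n) (ψ : N → ℂ) ≠ 0} := fun h =>
    hidx (dvd_trans h hdvd)
  have hpos : 0 < Fintype.card (Function.fixedPoints f) := by
    rcases Nat.eq_zero_or_pos (Fintype.card (Function.fixedPoints f)) with h | h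
    · exfalso
      rw [h] at hmod
      exact hnp (Nat.modEq_zero_iff_dvd.mp hmod)
    · exact h
  obtain ⟨⟨θ0, hθ0⟩⟩ := Fintype.card_pos_iff.mp hpos
  have hfix : ∀ n : N, (θ0.1 : N → ℂ) (n ^ k) = (θ0.1 : N → ℂ) n := by
    intro n
    have h1 : f θ0 = θ0 := hθ0
    have h2 := congrArg (fun ψ => (ψ.1 : N → ℂ) n) h1
    simp only [f] at h2
    rw [gfx_twist_apply N τ k hτ] at h2
    exact h2
  obtain ⟨g, hg⟩ := h7_clifford_conj N χ.1 χ.2 θ0.1.1 θ.1 θ0.1.2 θ.2 θ0.2 hθ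
  intro n
  show θ.1 (n ^ k) = θ.1 n
  rw [hg, cj_apply, cj_apply]
  have h3 := hfix ⟨g * n * g⁻¹, ‹N.Normal›.conj_mem n n.2 g⟩
  rw [← h3]
  apply congrArg
  apply Subtype.ext
  simp only [Subgroup.coe_pow]
  rw [conj_pow]

end Cfsg.Agent.Lib.Helper25
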