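import Mathlib
import Cfsg.Prelude.Def_Characters
import Cfsg.Prelude.Def_Blocks
import Cfsg.Agent.Lib.Helper25.ExtraspecialUnique
import Cfsg.Agent.Lib.Helper25.GaloisFix
import Cfsg.Agent.Lib.helper7.Induction
import Cfsg.Agent.Lib.helper7.Clifford
import Cfsg.Agent.Lib.helper2.CharInd
import Cfsg.Agent.Lib.helper2.Ito

/-! Ito's theorem for solvable groups: a normal abelian Sylow p-subgroup exists iff all irreducible
character degrees are prime to p (S4493). -/

set_option autoImplicit false

namespace Cfsg.Agent.Lib.Helper25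
open Cfsg.Agent.Lib.helper7 Cfsg.Agent.Lib.Helper24 Cfsg.Agent.Lib.Helper11
open scoped ComplexConjugate commutatorElement

/-- A finite group is not the union of the conjugates of a proper subgroup. -/
theorem itn_eq_top_of_conj_cover {N : Type*} [Group N] [Finite N] (C : Subgroup N)
    (h : ∀ n : N, ∃ m : N, m * n * m⁻¹ ∈ C) : C = ⊤ := by
  classical
  haveI := Fintype.ofFinite N
  haveI : Fintype (N ⧸ C) := Fintype.ofFinite _
  haveI : Fintype (Quotient (MulAction.orbitRel N (N ⧸ C))) := Fintype.ofFinite _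
  have hB := MulAction.sum_card_fixedBy_eq_card_orbits_mul_card_group N (N ⧸ C)
  have horb : Fintype.card (Quotient (MulAction.orbitRel N (N ⧸ C))) = 1 := by
    rw [Fintype.card_eq_one_iff]
    refine ⟨Quotient.mk'' ((1 : N) : N ⧸ C), ?_⟩
    intro y
    induction y using Quotient.inductionOn' with
    | h a =>
      apply Quotient.sound'
      obtain ⟨g, hg⟩ := MulAction.exists_smul_eq N ((1 : N) : N ⧸ C) a
      exact ⟨g, hg⟩
  rw [horb, one_mul] at hB
  have hpos : ∀ n : N, 1 ≤ Fintype.card (MulAction.fixedBy (N ⧸ C) n) := by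
    intro n
    obtain ⟨m, hm⟩ := h n
    apply Fintype.card_pos_iff.mpr
    refine ⟨⟨((m⁻¹ : N) : N ⧸ C), ?_⟩⟩
    rw [MulAction.mem_fixedBy]
    show ((n * m⁻¹ : N) : N ⧸ C) = ((m⁻¹ : N) : N ⧸ C)
    rw [QuotientGroup.eq]
    have : (n * m⁻¹)⁻¹ * m⁻¹ = (m * n * m⁻¹)⁻¹ := by group
    rw [this]
    exact C.inv_mem hm
  have hone : Fintype.card (MulAction.fixedBy (N ⧸ C) (1 : N)) = C.index := by
    rw [Subgroup.index, Nat.card_eq_fintype_card]
    apply Fintype.card_congr
    refine (Equiv.subtypeUnivEquiv ?_)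
    intro x
    rw [MulAction.mem_fixedBy, one_smul]
  have hsum : ∑ n : N, Fintype.card (MulAction.fixedBy (N ⧸ C) n) ≥
      (Fintype.card N - 1) + C.index := by
    rw [← Finset.add_sum_erase Finset.univ _ (Finset.mem_univ (1 : N)), hone, add_comm]
    apply Nat.add_le_add_right
    calc Fintype.card N - 1 = (Finset.univ.erase (1 : N)).card := by
          rw [Finset.card_erase_of_mem (Finset.mem_univ _), Finset.card_univ]
      _ = ∑ _n ∈ Finset.univ.erase (1 : N), 1 := by simp
      _ ≤ _ := Finset.sum_le_sum (fun n _ => hpos n)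
  rw [hB] at hsum
  have hcard : 0 < Fintype.card N := Fintype.card_pos
  have hidx : C.index ≤ 1 := by omega
  have hidx0 : C.index ≠ 0 := Subgroup.index_ne_zero_of_finite
  exact Subgroup.index_eq_one.mp (by omega)

/-- every irreducible character of a subgroup lies under an irreducible character of the group -/
theorem itn_exists_over {G : Type*} [Group G] [Fintype G] (N : Subgroup G) [Fintype N]
    (θ : Cfsg.IrrCharacter N) :
    ∃ χ : Cfsg.IrrCharacter G,
      Cfsg.classInner (fun n : N => (χ : G → ℂ) n) (θ : N → ℂ) ≠ 0 := by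
  classical
  have hInd : Cfsg.IsCharacter G (Cfsg.indFun N θ.1) :=
    Cfsg.Agent.Lib.helper2.isCharacter_indFun N θ.1 (Cfsg.Agent.Lib.helper2.isCharacter_of_irr θ)
  have hθ1 : θ.1 1 ≠ 0 := irr_one_ne_zero θ
  have hidx : (N.index : ℂ) ≠ 0 := by
    exact_mod_cast Subgroup.index_ne_zero_of_finite
  have hne1 : Cfsg.indFun N θ.1 1 ≠ 0 := by
    rw [h7_indFun_one N θ.1]
    exact mul_ne_zero hidx hθ1
  obtain ⟨χ, a, hapos, ha⟩ := Cfsg.Agent.Lib.helper2.isCharacter_exists_constituent hInd hne1
  refine ⟨χ, ?_⟩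
  intro h
  have h2 := h7_frobenius_reciprocity N θ.1 (χ : G → ℂ) (fun g x => irr_conj_invariant χ g x)
  rw [ha, Cfsg.Agent.Lib.helper2.classInner_conj_symm, h, map_zero] at h2
  have : (a : ℂ) ≠ 0 := by exact_mod_cast hapos.ne'
  exact this h2

/-- Clifford: the degree of a constituent divides the degree -/
theorem itn_degree_dvd {G : Type*} [Group G] [Fintype G] (N : Subgroup G) [N.Normal] [Fintype N]
    (χ : Cfsg.IrrCharacter G) (θ : Cfsg.IrrCharacter N)
    (hθ : Cfsg.classInner (fun n : N => (χ : G → ℂ) n) (θ : N → ℂ) ≠ 0) :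
    ∃ e : ℕ, Cfsg.charDegree (χ : G → ℂ) =
      e * ((Finset.univ.image (fun g : G => cj N θ.1 g)).card * Cfsg.charDegree (θ : N → ℂ)) := by
  classical
  obtain ⟨e, hepos, he1, he2⟩ := h7_clifford N χ.1 χ.2 θ.1 θ.2 hθ
  refine ⟨e, ?_⟩
  have h1 := congrFun he2 1
  simp only [Pi.smul_apply, Finset.sum_apply, smul_eq_mul] at h1
  have h2 : ∀ ψ ∈ Finset.univ.image (fun g : G => cj N θ.1 g), ψ 1 = θ.1 1 := by
    intro ψ hψ
    obtain ⟨g, -, rfl⟩ := Finset.mem_image.mp hψ
    rw [cj_apply]
    apply congrArg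
    apply Subtype.ext
    simp
  rw [Finset.sum_congr rfl h2, Finset.sum_const, nsmul_eq_mul] at h1
  obtain ⟨hdχ, _⟩ := charDegree_irr χ
  obtain ⟨hdθ, _⟩ := charDegree_irr θ
  have h3 : ((Cfsg.charDegree (χ : G → ℂ) : ℕ) : ℂ) =
      ((e * ((Finset.univ.image (fun g : G => cj N θ.1 g)).card *
        Cfsg.charDegree (θ : N → ℂ)) : ℕ) : ℂ) := by
    push_cast
    rw [hdχ, hdθ]
    exact h1
  exact_mod_cast h3

theorem itn_allPrime_normal {G : Type*} [Group G] [Finite G] (p : ℕ) (N : Subgroup G) [N.Normal]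
    (h : ∀ χ : Cfsg.IrrCharacter G, ¬ p ∣ Cfsg.charDegree (χ : G → ℂ)) :
    ∀ θ : Cfsg.IrrCharacter N, ¬ p ∣ Cfsg.charDegree (θ : N → ℂ) := by
  classical
  haveI := Fintype.ofFinite G
  haveI : Fintype N := Fintype.ofFinite N
  intro θ hθ
  obtain ⟨χ, hχ⟩ := itn_exists_over N θ
  obtain ⟨e, he⟩ := itn_degree_dvd N χ θ hχ
  apply h χ
  rw [he]
  exact dvd_mul_of_dvd_right (dvd_mul_of_dvd_right hθ _) _

theorem itn_allPrime_quotient {G : Type*} [Group G] [Finite G] (p : ℕ) (P : Subgroup G)
    [P.Normal] (h : ∀ χ : Cfsg.IrrCharacter G, ¬ p ∣ Cfsg.charDegree (χ : G → ℂ)) :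
    ∀ θ : Cfsg.IrrCharacter (G ⧸ P), ¬ p ∣ Cfsg.charDegree (θ : G ⧸ P → ℂ) := by
  intro θ hθ
  apply h (xs_infl (QuotientGroup.mk' P) (QuotientGroup.mk'_surjective P) θ)
  have : Cfsg.charDegree ((xs_infl (QuotientGroup.mk' P) (QuotientGroup.mk'_surjective P) θ :
      Cfsg.IrrCharacter G) : G → ℂ) = Cfsg.charDegree (θ : G ⧸ P → ℂ) := by
    apply xs_charDegree_eq
    rw [xs_infl_apply]
    simp
  rw [this]
  exact hθ

/-- a nontrivial finite solvable group has a normal subgroup of prime index -/
theorem itn_exists_prime_index {G : Type*} [Group G] [Finite G] [Group.IsSolvable G]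
    [Nontrivial G] : ∃ N : Subgroup G, N.Normal ∧ N.index.Prime := by
  have hlt := Group.IsSolvable.commutator_lt_top_of_nontrivial (G := G)
  obtain ⟨M, hM, hle⟩ := (eq_top_or_exists_le_coatom (commutator G)).resolve_left hlt.ne
  have hMn : M.Normal := by
    constructor
    intro n hn g
    have : g * n * g⁻¹ = ⁅g, n⁆ * n := by rw [commutatorElement_def]; group
    rw [this]
    apply M.mul_mem _ hn
    apply hle
    rw [commutator_def]
    exact Subgroup.commutator_mem_commutator (Subgroup.mem_top _) (Subgroup.mem_top _)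
  refine ⟨M, hMn, ?_⟩
  haveI := hMn
  have hc : IsMulCommutative (G ⧸ M) :=
    (Subgroup.Normal.quotient_commutative_iff_commutator_le).mpr hle
  letI : CommGroup (G ⧸ M) :=
    { (QuotientGroup.Quotient.group M) with mul_comm := fun a b => hc.is_comm.comm a b }
  haveI : Nontrivial (G ⧸ M) := by
    rw [← not_subsingleton_iff_nontrivial]
    intro h
    exact hM.1 (QuotientGroup.subgroup_eq_top_of_subsingleton M h)
  haveI : IsSimpleGroup (G ⧸ M) := by
    refine ⟨fun K _ => ?_⟩
    have hcomap : M ≤ K.comap (QuotientGroup.mk' M) := by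
      intro x hx
      rw [Subgroup.mem_comap, QuotientGroup.mk'_apply, (QuotientGroup.eq_one_iff x).mpr hx]
      exact K.one_mem
    rcases eq_or_lt_of_le hcomap with h | h
    · left
      have := congrArg (Subgroup.map (QuotientGroup.mk' M)) h
      rw [Subgroup.map_comap_eq_self_of_surjective (QuotientGroup.mk'_surjective M)] at this
      rw [← this]
      exact QuotientGroup.map_mk'_self M
    · right
      have h2 := hM.2 _ h
      have := congrArg (Subgroup.map (QuotientGroup.mk' M)) h2
      rw [Subgroup.map_comap_eq_self_of_surjective (QuotientGroup.mk'_surjective M),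
        Subgroup.map_top_of_surjective _ (QuotientGroup.mk'_surjective M)] at this
      exact this
  exact IsSimpleGroup.prime_card (α := G ⧸ M)

theorem itn_invariant_of_index_p {G : Type*} [Group G] [Finite G] (p : ℕ) (hp : p.Prime)
    (N : Subgroup G) [N.Normal] (hidx : N.index = p)
    (h : ∀ χ : Cfsg.IrrCharacter G, ¬ p ∣ Cfsg.charDegree (χ : G → ℂ))
    (θ : Cfsg.IrrCharacter N) (g : G) : cj N θ.1 g = θ.1 := by
  classical
  haveI := Fintype.ofFinite G
  haveI : Fintype N := Fintype.ofFinite N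
  obtain ⟨χ, hχ⟩ := itn_exists_over N θ
  obtain ⟨e, he⟩ := itn_degree_dvd N χ θ hχ
  have ht := knb_orbit_card_dvd N θ
  rw [hidx] at ht
  rcases (Nat.dvd_prime hp).mp ht with h1 | h1
  · obtain ⟨a, ha⟩ := Finset.card_eq_one.mp h1
    have m1 : cj N θ.1 g ∈ Finset.univ.image (fun g : G => cj N θ.1 g) :=
      Finset.mem_image.mpr ⟨g, Finset.mem_univ _, rfl⟩
    have m2 : cj N θ.1 1 ∈ Finset.univ.image (fun g : G => cj N θ.1 g) :=
      Finset.mem_image.mpr ⟨1, Finset.mem_univ _, rfl⟩
    rw [ha, Finset.mem_singleton] at m1 m2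
    rw [m1, ← m2, cj_one]
  · exfalso
    apply h χ
    rw [he, h1]
    exact dvd_mul_of_dvd_right (dvd_mul_right p _) _

/-- a `p`-element fixing all irreducible characters of a normal `p'`-subgroup centralizes it -/
theorem itn_centralizes {G : Type*} [Group G] [Finite G] (p : ℕ) [hp : Fact p.Prime]
    (N : Subgroup G) [hN : N.Normal] (hcop : ¬ p ∣ Nat.card N) (s : G) (hs : s ^ p = 1)
    (hinv : ∀ θ : Cfsg.IrrCharacter N, cj N θ.1 s = θ.1) (n : N) : s * (n : G) = (n : G) * s := by
  classical
  haveI := Fintype.ofFinite G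
  haveI : Fintype N := Fintype.ofFinite N
  -- the conjugation automorphism of N
  let σ : N ≃* N := MulAut.conjNormal s
  have hσ : ∀ x : N, ((σ x : N) : G) = s * x * s⁻¹ := fun x => rfl
  have hσpow : ∀ (k : ℕ) (x : N), (((σ ^ k) x : N) : G) = s ^ k * x * (s ^ k)⁻¹ := by
    intro k
    induction k with
    | zero => intro x; simp
    | succ k ih =>
      intro x
      rw [pow_succ', MulAut.mul_apply, hσ, ih, pow_succ']
      group
  -- each class is stable
  have hclass : ∀ x : N, IsConj x (σ x) := by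
    intro x
    apply isConj_of_irr_eq
    intro θ
    have h1 := congrFun (hinv θ) x
    rw [cj_apply] at h1
    exact h1
  have hσp : ∀ x : N, (σ ^ p) x = x := by
    intro x
    apply Subtype.ext
    rw [hσpow, hs]
    simp
  -- fixed points meet every class
  have hmeet : ∀ x : N, ∃ m : N, m * x * m⁻¹ ∈ MonoidHom.eqLocus σ.toMonoidHom (MonoidHom.id N) := by
    intro x
    let f : Function.End {y : N // IsConj x y} := fun y => ⟨σ y.1, y.2.trans (hclass y.1)⟩
    have hfiter : ∀ (k : ℕ) (y : {y : N // IsConj x y}), ((f^[k]) y).1 = (σ ^ k) y.1 := by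
      intro k
      induction k with
      | zero => intro y; rfl
      | succ k ih =>
        intro y
        rw [Function.iterate_succ_apply', pow_succ', MulAut.mul_apply, ← ih]
    have hf : f ^ p ^ 1 = 1 := by
      rw [pow_one]
      funext y
      show (f^[p]) y = y
      apply Subtype.ext
      rw [hfiter, hσp]
    have hmod := Equiv.Perm.card_fixedPoints_modEq (p := p) (n := 1) hf
    have hdvd : Fintype.card {y : N // IsConj x y} ∣ Nat.card N := by
      rw [← card_conj_mul_card_centralizer x, Nat.card_eq_fintype_card]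
      exact dvd_mul_right _ _
    have hnp : ¬ p ∣ Fintype.card {y : N // IsConj x y} := fun h => hcop (dvd_trans h hdvd)
    have hpos : 0 < Fintype.card (Function.fixedPoints f) := by
      rcases Nat.eq_zero_or_pos (Fintype.card (Function.fixedPoints f)) with h | h
      · exfalso
        rw [h] at hmod
        exact hnp (Nat.modEq_zero_iff_dvd.mp hmod)
      · exact h
    obtain ⟨⟨y, hy⟩⟩ := Fintype.card_pos_iff.mp hpos
    obtain ⟨m, hm⟩ := isConj_iff.mp y.2
    refine ⟨m, ?_⟩
    rw [hm]
    show σ y.1 = y.1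
    have h1 : f y = y := hy
    exact congrArg Subtype.val h1
  have htop := itn_eq_top_of_conj_cover _ hmeet
  have hn : n ∈ MonoidHom.eqLocus σ.toMonoidHom (MonoidHom.id N) := by
    rw [htop]; exact Subgroup.mem_top n
  have h2 : σ n = n := hn
  have h3 := congrArg Subtype.val h2
  rw [hσ] at h3
  calc s * (n : G) = (s * n * s⁻¹) * s := by group
    _ = n * s := by rw [h3]

/-- the case of a normal `p'`-subgroup of index `p` -/
theorem itn_case_pprime {G : Type*} [Group G] [Finite G] (p : ℕ) [hp : Fact p.Prime]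
    (N : Subgroup G) [hN : N.Normal] (hidx : N.index = p) (hcop : ¬ p ∣ Nat.card N)
    (h : ∀ χ : Cfsg.IrrCharacter G, ¬ p ∣ Cfsg.charDegree (χ : G → ℂ)) :
    ∃ P : Subgroup G, P.Normal ∧ IsPGroup p P ∧ ¬ p ∣ P.index := by
  have hcard : Nat.card N * p = Nat.card G := by
    rw [← hidx]; exact Subgroup.card_mul_index N
  have hpG : p ∣ Nat.card G := by rw [← hcard]; exact dvd_mul_left p _
  obtain ⟨s, hs⟩ := exists_prime_orderOf_dvd_card' p hpG
  have hsp : s ^ p = 1 := by rw [← hs]; exact pow_orderOf_eq_one s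
  have hcent : ∀ n : N, s * (n : G) = (n : G) * s :=
    itn_centralizes p N hcop s hsp (fun θ => itn_invariant_of_index_p p hp.out N hidx h θ s)
  have hsN : s ∉ N := by
    intro hmem
    apply hcop
    have : orderOf (⟨s, hmem⟩ : N) ∣ Nat.card N := orderOf_dvd_natCard _
    rw [← hs]
    have h2 : orderOf (⟨s, hmem⟩ : N) = orderOf s := by
      rw [← Subgroup.orderOf_coe]
    rw [← h2]
    exact this
  -- s is central
  have hcentral : ∀ g : G, g * s = s * g := by
    have hNC : N ≤ Subgroup.centralizer ({s} : Set G) := by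
      intro n hn
      rw [Subgroup.mem_centralizer_iff]
      intro t ht
      rw [Set.mem_singleton_iff] at ht
      subst ht
      exact hcent ⟨n, hn⟩
    have hsC : s ∈ Subgroup.centralizer ({s} : Set G) := by
      rw [Subgroup.mem_centralizer_iff]
      intro t ht
      rw [Set.mem_singleton_iff] at ht
      subst ht
      rfl
    have h1 := Subgroup.relIndex_mul_index hNC
    rw [hidx] at h1
    have h2 : N.relIndex (Subgroup.centralizer ({s} : Set G)) ≠ 1 := by
      intro h3
      rw [Subgroup.relIndex_eq_one] at h3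
      exact hsN (h3 hsC)
    have h3 : (Subgroup.centralizer ({s} : Set G)).index = 1 := by
      have hdvd : N.relIndex (Subgroup.centralizer ({s} : Set G)) ∣ p := ⟨_, h1.symm⟩
      rcases (Nat.dvd_prime hp.out).mp hdvd with h4 | h4
      · exact absurd h4 h2
      · rw [h4] at h1
        have hp0 : 0 < p := hp.out.pos
        exact Nat.eq_of_mul_eq_mul_left hp0 (by rw [h1, mul_one])
    have htop := Subgroup.index_eq_one.mp h3
    intro g
    have hg : g ∈ Subgroup.centralizer ({s} : Set G) := by rw [htop]; exact Subgroup.mem_top g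
    rw [Subgroup.mem_centralizer_iff] at hg
    exact (hg s rfl).symm
  refine ⟨Subgroup.zpowers s, ?_, ?_, ?_⟩
  · constructor
    intro x hx g
    obtain ⟨k, rfl⟩ := Subgroup.mem_zpowers_iff.mp hx
    have : g * s ^ k * g⁻¹ = s ^ k := by
      have hc : Commute g s := hcentral g
      have := (hc.zpow_right k).eq
      rw [this]; group
    rw [this]
    exact Subgroup.zpow_mem_zpowers s k
  · apply IsPGroup.of_card (n := 1)
    rw [Nat.card_zpowers, hs, pow_one]
  · have h1 := Subgroup.card_mul_index (Subgroup.zpowers s)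
    rw [Nat.card_zpowers, hs, ← hcard, mul_comm] at h1
    have h2 : (Subgroup.zpowers s).index = Nat.card N :=
      Nat.eq_of_mul_eq_mul_right hp.out.pos h1
    rw [h2]
    exact hcop

theorem itn_normal_sylow_aux (p : ℕ) [hp : Fact p.Prime] (n : ℕ) :
    ∀ (G : Type*) [Group G] [Finite G] [Group.IsSolvable G], Nat.card G ≤ n →
    (∀ χ : Cfsg.IrrCharacter G, ¬ p ∣ Cfsg.charDegree (χ : G → ℂ)) →
    ∃ P : Subgroup G, P.Normal ∧ IsPGroup p P ∧ ¬ p ∣ P.index := by
  induction n with
  | zero =>
    intro G _ _ _ hcard _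
    exact absurd hcard (by have := Nat.card_pos (α := G); omega)
  | succ n ih =>
    intro G _ _ _ hcard h
    by_cases hnt : Nontrivial G
    swap
    · rw [not_nontrivial_iff_subsingleton] at hnt
      refine ⟨⊥, inferInstance, IsPGroup.of_bot, ?_⟩
      rw [Subgroup.index_bot, Nat.card_eq_one_iff_unique.mpr ⟨hnt, ⟨1⟩⟩]
      exact hp.out.one_lt.ne' ∘ Nat.dvd_one.mp
    obtain ⟨N, hNn, hq⟩ := itn_exists_prime_index (G := G)
    haveI := hNn
    have hcardN : Nat.card N * N.index = Nat.card G := Subgroup.card_mul_index N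
    have hNlt : Nat.card N ≤ n := by
      have h2 : 2 ≤ N.index := hq.two_le
      have hpos : 0 < Nat.card N := Nat.card_pos
      nlinarith
    obtain ⟨P₀, hP₀n, hP₀p, hP₀i⟩ := ih N hNlt (itn_allPrime_normal p N h)
    -- P₀ is characteristic in N
    have hchar : P₀.Characteristic := by
      have hQn : ((hP₀p.toSylow hP₀i : Sylow p N) : Subgroup N).Normal := by
        rw [IsPGroup.toSylow_coe]; exact hP₀n
      have := Sylow.characteristic_of_normal (hP₀p.toSylow hP₀i) hQn
      rwa [IsPGroup.toSylow_coe] at this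
    haveI := hchar
    have hPn : (P₀.map N.subtype).Normal := ConjAct.normal_of_characteristic_of_normal
    have hPp : IsPGroup p (P₀.map N.subtype) := hP₀p.map N.subtype
    by_cases hqp : N.index = p
    · by_cases hbot : P₀ = ⊥
      · have hcop : ¬ p ∣ Nat.card N := by
          rw [hbot, Subgroup.index_bot] at hP₀i
          exact hP₀i
        exact itn_case_pprime p N hqp hcop h
      · haveI := hPn
        have hPne : P₀.map N.subtype ≠ ⊥ := by
          intro h0
          apply hbot
          rw [Subgroup.map_eq_bot_iff_of_injective _ N.subtype_injective] at h0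
          exact h0
        have hlt : Nat.card (G ⧸ P₀.map N.subtype) ≤ n := by
          have h1 := Subgroup.card_eq_card_quotient_mul_card_subgroup (P₀.map N.subtype)
          have h2 : 2 ≤ Nat.card (P₀.map N.subtype) := by
            have := (Subgroup.one_lt_card_iff_ne_bot (P₀.map N.subtype)).mpr hPne
            omega
          have hpos : 0 < Nat.card (G ⧸ P₀.map N.subtype) := Nat.card_pos
          nlinarith
        obtain ⟨S, hSn, hSp, hSi⟩ := ih (G ⧸ P₀.map N.subtype) hlt
          (itn_allPrime_quotient p (P₀.map N.subtype) h)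
        haveI := hSn
        refine ⟨S.comap (QuotientGroup.mk' (P₀.map N.subtype)), inferInstance, ?_, ?_⟩
        · apply hSp.comap_of_ker_isPGroup
          rw [QuotientGroup.ker_mk']
          exact hPp
        · rw [Subgroup.index_comap_of_surjective _ (QuotientGroup.mk'_surjective _)]
          exact hSi
    · refine ⟨P₀.map N.subtype, hPn, hPp, ?_⟩
      rw [Subgroup.index_map_subtype]
      intro hdvd
      rcases (Nat.Prime.dvd_mul hp.out).mp hdvd with h1 | h1
      · exact hP₀i h1
      · exact hqp ((Nat.prime_dvd_prime_iff_eq hp.out hq).mp h1).symm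

theorem itn_abelian {G : Type*} [Group G] [Finite G] (p : ℕ) [hp : Fact p.Prime]
    (S : Subgroup G) [S.Normal] (hS : IsPGroup p S)
    (h : ∀ χ : Cfsg.IrrCharacter G, ¬ p ∣ Cfsg.charDegree (χ : G → ℂ)) :
    ∀ x ∈ S, ∀ y ∈ S, x * y = y * x := by
  have hall : ∀ μ : Cfsg.IrrCharacter S, (μ : S → ℂ) 1 = 1 := by
    intro μ
    by_contra hne
    exact itn_allPrime_normal p S h μ (xs_p_dvd_of_nonlinear p hS μ hne)
  intro x hx y hy
  have := xs_comm_of_all_linear hall ⟨x, hx⟩ ⟨y, hy⟩
  exact congrArg Subtype.val this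

theorem itn_main {G : Type*} [Group G] [Finite G] (hsolv : Group.IsSolvable G) (p : ℕ)
    (hp : p.Prime) :
    (∃ P : Subgroup G, P.Normal ∧ (∀ x ∈ P, ∀ y ∈ P, x * y = y * x) ∧ IsPGroup p P ∧
      ¬ p ∣ P.index) ↔
    ∀ χ : Cfsg.IrrCharacter G, ¬ p ∣ Cfsg.charDegree (χ : G → ℂ) := by
  classical
  haveI := Fintype.ofFinite G
  haveI : Fact p.Prime := ⟨hp⟩
  constructor
  · rintro ⟨P, hPn, hab, hPp, hPi⟩ χ hdvd
    haveI := hPn
    obtain ⟨d, hd, hddvd⟩ := Cfsg.Agent.Lib.helper2.ito_aux (Fintype.card G) le_rfl χ.1 χ.2 P hab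
    obtain ⟨hd', _⟩ := charDegree_irr χ
    have : Cfsg.charDegree (χ : G → ℂ) = d := by
      have : ((Cfsg.charDegree (χ : G → ℂ) : ℕ) : ℂ) = (d : ℂ) := by rw [hd', ← hd]
      exact_mod_cast this
    rw [this] at hdvd
    exact hPi (dvd_trans hdvd hddvd)
  · intro h
    obtain ⟨P, hPn, hPp, hPi⟩ := itn_normal_sylow_aux p (Nat.card G) G le_rfl h
    haveI := hPn
    exact ⟨P, hPn, itn_abelian p P hPp h, hPp, hPi⟩

end Cfsg.Agent.Lib.Helper25
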