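import Mathlib

/-!
Nilpotency of the kernel of F[G] -> F[G/P] for a normal p-subgroup P in characteristic p; class sums of classes avoiding C_G(P) are nilpotent.
-/

set_option autoImplicit false
set_option linter.style.haveILetI false
set_option warn.classDefReducibility false

namespace Cfsg.Agent.Lib.Helper25
open MonoidAlgebra
open scoped Pointwise
section

variable {F : Type*} [CommRing F] {P : Type*} [Group P]

theorem an_charP (p : ℕ) [CharP F p] : CharP (MonoidAlgebra F P) p := by
  apply charP_of_injective_ringHom (f := (singleOneRingHom : F →+* F[P])) _ p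
  intro a b h
  simpa using h

/-- `of u - 1` -/
noncomputable def an_aug (F : Type*) [CommRing F] {P : Type*} [Group P] (u : P) : F[P] :=
  MonoidAlgebra.of F P u - 1

theorem an_aug_map {Q : Type*} [Group Q] (f : P →* Q) (u : P) :
    mapDomainRingHom F f (an_aug F u) = an_aug F (f u) := by
  unfold an_aug
  rw [map_sub, map_one]
  congr 1
  simp

theorem an_aug_commute (z : P) (hz : ∀ x : P, Commute z x) (c : F[P]) :
    Commute (an_aug F z) c := by
  unfold an_aug
  exact (of_commute hz c).sub_left (Commute.one_left c)

/-- `of z ^ i - 1 = (of z - 1) * geometric sum` -/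
theorem an_pow_sub_one (z : P) (i : ℕ) :
    MonoidAlgebra.of F P (z ^ i) - 1 =
      an_aug F z * ∑ j ∈ Finset.range i, (MonoidAlgebra.of F P z) ^ j := by
  unfold an_aug
  rw [mul_geom_sum, map_pow]

/-- kernel of `F[P] → F[P/⟨z⟩]` for central `z` is `(z - 1) F[P]` -/
theorem an_ker_cyclic [Finite P] (z : P) (hz : ∀ x : P, Commute z x)
    [(Subgroup.zpowers z).Normal] (c : F[P])
    (hc : mapDomainRingHom F (QuotientGroup.mk' (Subgroup.zpowers z)) c = 0) :
    ∃ c' : F[P], c = an_aug F z * c' := by
  classical
  set Z := Subgroup.zpowers z with hZ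
  set s : P ⧸ Z → P := Quotient.out with hs
  have key : ∀ c : F[P], ∃ c' : F[P],
      c - mapDomain s (mapDomain (QuotientGroup.mk' Z) c) = an_aug F z * c' := by
    intro c
    induction c using MonoidAlgebra.induction_on with
    | of x =>
      obtain ⟨h, hh⟩ := QuotientGroup.mk_out_eq_mul Z x
      obtain ⟨i, hi⟩ := (mem_powers_iff_mem_zpowers (x := z)).mpr h.2
      have h1 : mapDomain s (mapDomain (QuotientGroup.mk' Z) (MonoidAlgebra.of F P x)) =
          MonoidAlgebra.of F P (x * z ^ i) := by
        simp only [of_apply, mapDomain_single, QuotientGroup.mk'_apply]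
        rw [hs, hh]
        show single (x * (h : P)) 1 = _
        rw [← hi]
      rw [h1, map_mul]
      refine ⟨- (MonoidAlgebra.of F P x * ∑ j ∈ Finset.range i, (MonoidAlgebra.of F P z) ^ j), ?_⟩
      have h2 := an_pow_sub_one (F := F) z i
      have h3 := an_aug_commute (F := F) z hz (MonoidAlgebra.of F P x)
      rw [mul_neg, ← mul_assoc, h3.eq, mul_assoc, ← h2]
      noncomm_ring
    | add x y hx hy =>
      obtain ⟨cx, hcx⟩ := hx
      obtain ⟨cy, hcy⟩ := hy
      refine ⟨cx + cy, ?_⟩
      rw [mapDomain_add, mapDomain_add, mul_add, ← hcx, ← hcy]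
      abel
    | smul r x hx =>
      obtain ⟨cx, hcx⟩ := hx
      refine ⟨r • cx, ?_⟩
      rw [mapDomain_smul, mapDomain_smul, mul_smul_comm, ← hcx, smul_sub]
  obtain ⟨c', hc'⟩ := key c
  refine ⟨c', ?_⟩
  have h0 : mapDomain (QuotientGroup.mk' Z) c = 0 := hc
  rw [h0, mapDomain_zero, sub_zero] at hc'
  exact hc'

end

section

universe u v

variable {F : Type v} [CommRing F]

/-- a long enough product of elements `u - 1` of the group algebra of a `p`-group in
characteristic `p` vanishes -/
theorem an_prod_aug_eq_zero (p : ℕ) [hp : Fact p.Prime] [CharP F p] :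
    ∀ n : ℕ, ∀ (P : Type u) [Group P] [Finite P], IsPGroup p P → Nat.card P = n →
      ∃ m : ℕ, ∀ l : List P, m ≤ l.length → (l.map (an_aug F)).prod = 0 := by
  intro n
  induction n using Nat.strong_induction_on with
  | _ n ih =>
    intro P _ _ hP hn
    by_cases htriv : Subsingleton P
    · refine ⟨1, fun l hl => ?_⟩
      match l, hl with
      | x :: t, _ =>
        rw [List.map_cons, List.prod_cons]
        have : an_aug F x = 0 := by
          unfold an_aug
          rw [Subsingleton.elim x 1, map_one, sub_self]
        rw [this, zero_mul]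
    · rw [not_subsingleton_iff_nontrivial] at htriv
      haveI := htriv
      -- central element of order p
      haveI : Nontrivial (Subgroup.center P) := hP.center_nontrivial
      have hdvd : p ∣ Nat.card (Subgroup.center P) := by
        obtain ⟨k, hk⟩ := (hP.to_subgroup (Subgroup.center P)).exists_card_eq
        have hk0 : k ≠ 0 := by
          rintro rfl
          rw [pow_zero] at hk
          have := Finite.one_lt_card_iff_nontrivial.mpr ‹Nontrivial (Subgroup.center P)›
          omega
        rw [hk]
        exact dvd_pow_self p hk0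
      obtain ⟨z', hz'⟩ := exists_prime_orderOf_dvd_card' p hdvd
      set z : P := (z' : P) with hz
      have hzo : orderOf z = p := by
        rw [hz, Subgroup.orderOf_coe]
        exact hz'
      have hzc : ∀ x : P, Commute z x := fun x =>
        (Subgroup.mem_center_iff.mp z'.2 x).symm
      haveI hZn : (Subgroup.zpowers z).Normal := by
        constructor
        intro y hy g
        obtain ⟨k, rfl⟩ := Subgroup.mem_zpowers_iff.mp hy
        have : g * z ^ k * g⁻¹ = z ^ k := by
          rw [((hzc g).zpow_left k).symm.eq, mul_inv_cancel_right]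
        rw [this]
        exact Subgroup.zpow_mem_zpowers z k
      set Z := Subgroup.zpowers z with hZ
      have hZcard : Nat.card Z = p := by
        rw [hZ, Nat.card_zpowers, hzo]
      have hcardq : Nat.card (P ⧸ Z) * p = n := by
        rw [← hn, ← hZcard]
        exact (Subgroup.card_eq_card_quotient_mul_card_subgroup Z).symm
      have hlt : Nat.card (P ⧸ Z) < n := by
        have hpos : 0 < Nat.card (P ⧸ Z) := Nat.card_pos
        have := hp.out.one_lt
        nlinarith
      have hPq : IsPGroup p (P ⧸ Z) := hP.to_quotient Z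
      obtain ⟨m', hm'⟩ := ih (Nat.card (P ⧸ Z)) hlt (P ⧸ Z) hPq rfl
      -- any list of length ≥ j * m' has product in (z-1)^j F[P]
      have key : ∀ j : ℕ, ∀ l : List P, j * m' ≤ l.length →
          ∃ c : F[P], (l.map (an_aug F)).prod = (an_aug F z) ^ j * c := by
        intro j
        induction j with
        | zero =>
          intro l _
          exact ⟨_, by rw [pow_zero, one_mul]⟩
        | succ j ihj =>
          intro l hl
          have h1 : l = l.take m' ++ l.drop m' := (List.take_append_drop m' l).symm
          have hlen1 : m' ≤ (l.take m').length := by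
            rw [List.length_take]
            have : m' ≤ l.length := by nlinarith
            omega
          have hlen2 : j * m' ≤ (l.drop m').length := by
            rw [List.length_drop]
            have : (j + 1) * m' = j * m' + m' := by ring
            omega
          obtain ⟨c2, hc2⟩ := ihj (l.drop m') hlen2
          have h3 : mapDomainRingHom F (QuotientGroup.mk' Z) (((l.take m').map (an_aug F)).prod) = 0 := by
            rw [map_list_prod, List.map_map]
            have : (⇑(mapDomainRingHom F (QuotientGroup.mk' Z)) ∘ an_aug F) =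
                (an_aug F ∘ (QuotientGroup.mk' Z)) := by
              funext u
              exact an_aug_map _ u
            rw [this, ← List.map_map]
            apply hm'
            rw [List.length_map]
            exact hlen1
          obtain ⟨c1, hc1⟩ := an_ker_cyclic z hzc _ h3
          refine ⟨c1 * c2, ?_⟩
          rw [h1, List.map_append, List.prod_append, hc1, hc2, pow_succ']
          have hcomm : Commute c1 (an_aug F z ^ j) :=
            ((an_aug_commute z hzc c1).pow_left j).symm
          rw [mul_assoc, ← mul_assoc c1, hcomm.eq]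
          simp only [mul_assoc]
      refine ⟨p * m', fun l hl => ?_⟩
      obtain ⟨c, hc⟩ := key p l hl
      rw [hc]
      haveI : CharP (F[P]) p := an_charP p
      have : an_aug F z ^ p = 0 := by
        unfold an_aug
        rw [sub_pow_char_of_commute _ (Commute.one_right _), one_pow, ← map_pow, ← hzo,
          pow_orderOf_eq_one, map_one, sub_self]
      rw [this, zero_mul]

end

section

universe u v

variable {F : Type v} [CommRing F] {G : Type u} [Group G]

/-- the image in `F[G]` of a product of augmentation elements of `P`, times a group element -/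
def an_S (F : Type v) [CommRing F] (P : Subgroup G) (k : ℕ) : Set F[G] :=
  {x | ∃ l : List P, k ≤ l.length ∧ ∃ g : G,
    x = mapDomainRingHom F P.subtype ((l.map (an_aug F)).prod) * MonoidAlgebra.of F G g}

theorem an_of_mul_aug (P : Subgroup G) [hN : P.Normal] (g : G) (u : P) :
    MonoidAlgebra.of F G g * mapDomainRingHom F P.subtype (an_aug F u) =
      mapDomainRingHom F P.subtype (an_aug F (MulAut.conjNormal g u)) * MonoidAlgebra.of F G g := by
  rw [an_aug_map, an_aug_map]
  unfold an_aug
  rw [mul_sub, sub_mul, mul_one, one_mul, ← map_mul, ← map_mul]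
  congr 2
  simp [MulAut.conjNormal_apply]

theorem an_of_mul_prod (P : Subgroup G) [hN : P.Normal] (g : G) (l : List P) :
    MonoidAlgebra.of F G g * mapDomainRingHom F P.subtype ((l.map (an_aug F)).prod) =
      mapDomainRingHom F P.subtype (((l.map (MulAut.conjNormal g)).map (an_aug F)).prod) *
        MonoidAlgebra.of F G g := by
  induction l with
  | nil =>
    simp only [List.map_nil, List.prod_nil, map_one, mul_one, one_mul]
  | cons a t ih =>
    rw [List.map_cons, List.prod_cons, map_mul, ← mul_assoc, an_of_mul_aug, mul_assoc, ih,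
      List.map_cons, List.map_cons, List.prod_cons, map_mul, mul_assoc]

theorem an_S_mul (P : Subgroup G) [hN : P.Normal] (k l : ℕ) :
    an_S F P k * an_S F P l ⊆ an_S F P (k + l) := by
  rintro _ ⟨x, ⟨l1, hl1, g1, rfl⟩, y, ⟨l2, hl2, g2, rfl⟩, rfl⟩
  refine ⟨l1 ++ l2.map (MulAut.conjNormal g1), ?_, g1 * g2, ?_⟩
  · rw [List.length_append, List.length_map]
    omega
  · rw [List.map_append, List.prod_append, map_mul, map_mul]
    calc mapDomainRingHom F P.subtype ((l1.map (an_aug F)).prod) * MonoidAlgebra.of F G g1 *
          (mapDomainRingHom F P.subtype ((l2.map (an_aug F)).prod) * MonoidAlgebra.of F G g2)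
        = mapDomainRingHom F P.subtype ((l1.map (an_aug F)).prod) *
          ((MonoidAlgebra.of F G g1 * mapDomainRingHom F P.subtype ((l2.map (an_aug F)).prod)) *
            MonoidAlgebra.of F G g2) := by simp only [mul_assoc]
      _ = _ := by
          rw [an_of_mul_prod]
          simp only [mul_assoc]

end

section

universe u v

variable {F : Type v} [CommRing F] {G : Type u} [Group G]

/-- the kernel of `F[G] → F[G/P]` lies in the span of `an_S F P 1` -/
theorem an_ker_le_span (P : Subgroup G) [hN : P.Normal] (a : F[G])
    (ha : mapDomainRingHom F (QuotientGroup.mk' P) a = 0) :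
    a ∈ Submodule.span F (an_S F P 1) := by
  classical
  set s : G ⧸ P → G := Quotient.out with hs
  have key : ∀ c : F[G],
      c - mapDomain s (mapDomain (QuotientGroup.mk' P) c) ∈ Submodule.span F (an_S F P 1) := by
    intro c
    induction c using MonoidAlgebra.induction_on with
    | of x =>
      obtain ⟨h, hh⟩ := QuotientGroup.mk_out_eq_mul P x
      have h1 : mapDomain s (mapDomain (QuotientGroup.mk' P) (MonoidAlgebra.of F G x)) =
          MonoidAlgebra.of F G (x * (h : G)) := by
        simp only [of_apply, mapDomain_single, QuotientGroup.mk'_apply]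
        rw [hs, hh]
      rw [h1]
      -- of x - of (x h) = - (aug (x h x⁻¹)) * of x
      have h2 : MonoidAlgebra.of F G x - MonoidAlgebra.of F G (x * (h : G)) =
          -(mapDomainRingHom F P.subtype (([MulAut.conjNormal x h].map (an_aug F)).prod) *
            MonoidAlgebra.of F G x) := by
        rw [List.map_cons, List.map_nil, List.prod_cons, List.prod_nil, mul_one, an_aug_map]
        unfold an_aug
        rw [sub_mul, one_mul, ← map_mul]
        have : P.subtype (MulAut.conjNormal x h) * x = x * (h : G) := by
          simp [MulAut.conjNormal_apply]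
        rw [this]
        abel
      rw [h2]
      apply Submodule.neg_mem
      apply Submodule.subset_span
      exact ⟨[MulAut.conjNormal x h], by simp, x, rfl⟩
    | add x y hx hy =>
      rw [mapDomain_add, mapDomain_add]
      have : x + y - (mapDomain s (mapDomain (QuotientGroup.mk' P) x) +
          mapDomain s (mapDomain (QuotientGroup.mk' P) y)) =
          (x - mapDomain s (mapDomain (QuotientGroup.mk' P) x)) +
          (y - mapDomain s (mapDomain (QuotientGroup.mk' P) y)) := by abel
      rw [this]
      exact Submodule.add_mem _ hx hy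
    | smul r x hx =>
      rw [mapDomain_smul, mapDomain_smul, ← smul_sub]
      exact Submodule.smul_mem _ r hx
  have h0 : mapDomain (QuotientGroup.mk' P) a = 0 := ha
  have := key a
  rwa [h0, mapDomain_zero, sub_zero] at this

theorem an_pow_mem_span (P : Subgroup G) [hN : P.Normal] (a : F[G])
    (ha : a ∈ Submodule.span F (an_S F P 1)) (k : ℕ) :
    a ^ (k + 1) ∈ Submodule.span F (an_S F P (k + 1)) := by
  induction k with
  | zero => simpa using ha
  | succ k ih =>
    rw [pow_succ]
    have h1 := Submodule.mul_mem_mul ih ha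
    rw [Submodule.span_mul_span] at h1
    exact Submodule.span_mono (an_S_mul P (k + 1) 1) h1

/-- elements of the kernel of `F[G] → F[G/P]` are nilpotent, for a normal `p`-subgroup `P` and
`F` of characteristic `p` -/
theorem an_ker_nilpotent [Finite G] (p : ℕ) [hp : Fact p.Prime] [CharP F p]
    (P : Subgroup G) [hN : P.Normal] (hP : IsPGroup p P) (a : F[G])
    (ha : mapDomainRingHom F (QuotientGroup.mk' P) a = 0) : IsNilpotent a := by
  obtain ⟨m, hm⟩ := an_prod_aug_eq_zero (F := F) p (Nat.card P) P hP rfl
  refine ⟨m + 1, ?_⟩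
  have h1 := an_pow_mem_span P a (an_ker_le_span P a ha) m
  have h2 : an_S F P (m + 1) ⊆ {0} := by
    rintro _ ⟨l, hl, g, rfl⟩
    rw [hm l (by omega), map_zero, zero_mul]
    rfl
  have h3 := Submodule.span_mono (R := F) h2 h1
  rw [Submodule.span_singleton_eq_bot.mpr rfl] at h3
  exact (Submodule.mem_bot F).mp h3

end

section

universe u v

variable {F : Type v} [CommRing F] {G : Type u} [Group G]

/-- conjugation action of `P` on the part of a conjugacy class in a coset of `P` -/
noncomputable def an_fiberAction (P : Subgroup G) [hN : P.Normal] (g : G) (c : G ⧸ P) :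
    MulAction P {x : G // IsConj g x ∧ (QuotientGroup.mk x : G ⧸ P) = c} where
  smul u x := ⟨(u : G) * x.1 * (u : G)⁻¹, by
    refine ⟨x.2.1.trans (isConj_iff.mpr ⟨(u : G), rfl⟩), ?_⟩
    rw [QuotientGroup.mk_mul, QuotientGroup.mk_mul, QuotientGroup.mk_inv,
      (QuotientGroup.eq_one_iff (u : G)).mpr u.2, one_mul, inv_one, mul_one]
    exact x.2.2⟩
  one_smul x := by
    apply Subtype.ext
    show ((1 : P) : G) * x.1 * ((1 : P) : G)⁻¹ = x.1
    simp
  mul_smul u v x := by
    apply Subtype.ext
    show ((u * v : P) : G) * x.1 * ((u * v : P) : G)⁻¹ = (u : G) * ((v : G) * x.1 * (v : G)⁻¹) * (u : G)⁻¹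
    simp [mul_assoc]

theorem an_fiber_card_dvd [Finite G] (p : ℕ) [hp : Fact p.Prime] (P : Subgroup G) [hN : P.Normal]
    (hP : IsPGroup p P) (g : G)
    (hg : ∀ x : G, IsConj g x → x ∉ Subgroup.centralizer (P : Set G)) (c : G ⧸ P) :
    p ∣ Nat.card {x : G // IsConj g x ∧ (QuotientGroup.mk x : G ⧸ P) = c} := by
  letI := an_fiberAction P g c
  have h1 := hP.card_modEq_card_fixedPoints
    {x : G // IsConj g x ∧ (QuotientGroup.mk x : G ⧸ P) = c}
  have h2 : IsEmpty (MulAction.fixedPoints P
      {x : G // IsConj g x ∧ (QuotientGroup.mk x : G ⧸ P) = c}) := by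
    constructor
    rintro ⟨x, hx⟩
    apply hg x.1 x.2.1
    rw [Subgroup.mem_centralizer_iff]
    intro u hu
    have := hx ⟨u, hu⟩
    have h3 : u * x.1 * u⁻¹ = x.1 := congrArg Subtype.val this
    calc u * x.1 = u * x.1 * u⁻¹ * u := by group
      _ = x.1 * u := by rw [h3]
  have h4 : Nat.card (MulAction.fixedPoints P
      {x : G // IsConj g x ∧ (QuotientGroup.mk x : G ⧸ P) = c}) = 0 := Nat.card_of_isEmpty
  rw [h4] at h1
  exact (Nat.modEq_zero_iff_dvd).mp h1

/-- the class sum of a class avoiding `C_G(P)` is in the kernel of `F[G] → F[G/P]` -/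
theorem an_classSum_ker [Fintype G] [DecidableEq G] (p : ℕ) [hp : Fact p.Prime] [CharP F p]
    (P : Subgroup G) [hN : P.Normal]
    (hP : IsPGroup p P) (g : G) [DecidablePred (IsConj g)]
    (hg : ∀ x : G, IsConj g x → x ∉ Subgroup.centralizer (P : Set G)) :
    mapDomainRingHom F (QuotientGroup.mk' P)
      (∑ x ∈ Finset.univ.filter (IsConj g), MonoidAlgebra.single x (1 : F)) = 0 := by
  classical
  rw [map_sum]
  simp only [mapDomainRingHom_apply, mapDomain_single, QuotientGroup.mk'_apply]
  haveI : Fintype (G ⧸ P) := Fintype.ofFinite _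
  rw [← Finset.sum_fiberwise (Finset.univ.filter (IsConj g)) (fun x => (QuotientGroup.mk x : G ⧸ P))]
  refine Finset.sum_eq_zero fun c _ => ?_
  have h1 : ∀ x ∈ (Finset.univ.filter (IsConj g)).filter
      (fun x => (QuotientGroup.mk x : G ⧸ P) = c),
      MonoidAlgebra.single (QuotientGroup.mk x : G ⧸ P) (1 : F) = MonoidAlgebra.single c 1 := by
    intro x hx
    rw [(Finset.mem_filter.mp hx).2]
  rw [Finset.sum_congr rfl h1, Finset.sum_const]
  have h2 : ((Finset.univ.filter (IsConj g)).filter
      (fun x => (QuotientGroup.mk x : G ⧸ P) = c)).card =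
      Nat.card {x : G // IsConj g x ∧ (QuotientGroup.mk x : G ⧸ P) = c} := by
    rw [Nat.card_eq_fintype_card, Fintype.card_subtype]
    congr 1
    ext x
    simp
  obtain ⟨k, hk⟩ := an_fiber_card_dvd p P hP g hg c
  rw [h2, hk, mul_comm, mul_nsmul]
  haveI : CharP (F[G ⧸ P]) p := an_charP p
  rw [← Nat.cast_smul_eq_nsmul (F[G ⧸ P]) p, CharP.cast_eq_zero, zero_smul]

/-- the class sum of a class avoiding `C_G(P)` is nilpotent -/
theorem an_classSum_nilpotent [Fintype G] [DecidableEq G] (p : ℕ) [hp : Fact p.Prime] [CharP F p]
    (P : Subgroup G) [hN : P.Normal]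
    (hP : IsPGroup p P) (g : G) [DecidablePred (IsConj g)]
    (hg : ∀ x : G, IsConj g x → x ∉ Subgroup.centralizer (P : Set G)) :
    IsNilpotent (∑ x ∈ Finset.univ.filter (IsConj g), MonoidAlgebra.single x (1 : F) : F[G]) :=
  an_ker_nilpotent p P hP _ (an_classSum_ker p P hP g hg)

end

end Cfsg.Agent.Lib.Helper25
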