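import Mathlib
import Cfsg.Prelude.Def_Blocks
import Cfsg.Agent.Lib.helper7.BlockEval
import Cfsg.Agent.Lib.helper7.BlockDefect2
import Cfsg.Agent.Lib.Helper25.AugNil

/-!
Central characters of classes avoiding C_G(P), P a normal p-subgroup, lie in the local ideal.
-/

set_option autoImplicit false
set_option linter.style.haveILetI false
set_option linter.unusedSectionVars false

namespace Cfsg.Agent.Lib.Helper25
open MonoidAlgebra
open Cfsg.Agent.Lib.helper7
section

variable {G : Type*} [Group G] [Fintype G] [DecidableEq G] [Fintype (Cfsg.IrrCharacter G)]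

/-- the integral class sum -/
noncomputable def an_classSumZ (x : G) [DecidablePred (IsConj x)] : MonoidAlgebra ℤ G :=
  ∑ y ∈ Finset.univ.filter (IsConj x), MonoidAlgebra.single y (1 : ℤ)

theorem an_classSumZ_coeff (x : G) [DecidablePred (IsConj x)] (h : G) :
    (an_classSumZ x).coeff h = if IsConj x h then 1 else 0 := by
  unfold an_classSumZ
  rw [MonoidAlgebra.coeff_sum, Finsupp.finsetSum_apply]
  simp only [MonoidAlgebra.coeff_single, Finsupp.single_apply]
  rw [Finset.sum_ite_eq']
  simp

/-- powers of the central character function correspond to powers of the integral class sum -/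
theorem an_coef_pow (x : G) [DecidablePred (IsConj x)] (N : ℕ) (g : G) :
    h7_coef ((fun χ : Cfsg.IrrCharacter G => Cfsg.centralChar (χ : G → ℂ) x) ^ N) g =
      (((an_classSumZ x) ^ N).coeff g : ℂ) := by
  induction N generalizing g with
  | zero =>
    rw [pow_zero, pow_zero]
    have : (1 : Cfsg.IrrCharacter G → ℂ) = fun _ => (1 : ℂ) := rfl
    rw [this, h7_coef_const, MonoidAlgebra.one_def, MonoidAlgebra.coeff_single, Finsupp.single_apply]
    by_cases hg : g = 1
    · rw [if_pos hg, if_pos hg.symm]
      simp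
    · rw [if_neg hg, if_neg (Ne.symm hg)]
      simp
  | succ N ih =>
    rw [pow_succ, pow_succ, h7_coef_mul, MonoidAlgebra.coeff_mul_apply_right,
      Finsupp.sum_fintype _ _ (by intro i; simp)]
    push_cast
    refine Finset.sum_congr rfl fun h _ => ?_
    rw [ih, h7_coef_centralChar, an_classSumZ_coeff]
    by_cases hc : IsConj x h
    · rw [if_pos hc, if_pos hc.symm]
      simp
    · rw [if_neg hc, if_neg (fun h' => hc h'.symm)]
      simp

end

section

/-- the central character of a class avoiding `C_G(P)`, `P` a normal `p`-subgroup, lies in the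
local ideal -/
theorem an_centralChar_mem {G : Type*} [Group G] [Finite G] (p : ℕ) [hp : Fact p.Prime]
    (M : Ideal Cfsg.AlgInt) (hM : Cfsg.IsPModular p M) (P : Subgroup G) [hN : P.Normal]
    (hP : IsPGroup p P) (x : G)
    (hx : ∀ y : G, IsConj x y → y ∉ Subgroup.centralizer (P : Set G)) (χ : Cfsg.IrrCharacter G) :
    Cfsg.MemLocalIdeal M (Cfsg.centralChar (χ : G → ℂ) x) := by
  classical
  haveI := Fintype.ofFinite G
  haveI : Fintype (Cfsg.IrrCharacter G) := Fintype.ofFinite _
  haveI : Fintype (ConjClasses G) := Fintype.ofFinite _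
  have hMp := hM.2.1.isPrime
  -- nilpotency over ZMod p
  obtain ⟨N, hN'⟩ := an_classSum_nilpotent (F := ZMod p) p P hP x hx
  -- transfer to ℤ
  have h1 : MonoidAlgebra.mapRingHom G (Int.castRingHom (ZMod p)) (an_classSumZ x) =
      ∑ y ∈ Finset.univ.filter (IsConj x), MonoidAlgebra.single y (1 : ZMod p) := by
    unfold an_classSumZ
    rw [map_sum]
    refine Finset.sum_congr rfl fun y _ => ?_
    simp [MonoidAlgebra.mapRingHom]
  have h2 : MonoidAlgebra.mapRingHom G (Int.castRingHom (ZMod p)) ((an_classSumZ x) ^ N) = 0 := by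
    rw [map_pow, h1, hN']
  have h3 : ∀ g : G, (p : ℤ) ∣ ((an_classSumZ x) ^ N).coeff g := by
    intro g
    have := congrArg (fun a => a.coeff g) h2
    simp only [MonoidAlgebra.mapRingHom, RingHom.coe_mk, MonoidHom.coe_mk, OneHom.coe_mk,
      MonoidAlgebra.coeff_map, MonoidAlgebra.coeff_zero, Finsupp.mapRange_apply,
      Finsupp.coe_zero, Pi.zero_apply] at this
    exact (ZMod.intCast_zmod_eq_zero_iff_dvd _ p).mp this
  -- evaluate
  set c : Cfsg.IrrCharacter G → ℂ := fun χ => Cfsg.centralChar (χ : G → ℂ) x with hc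
  have h4 := h7_eval_expand (c ^ N) χ
  have h5 : Cfsg.MemLocalIdeal M ((c ^ N) χ) := by
    rw [h4]
    apply h7_memLocalIdeal_sum hMp
    intro K _
    rw [an_coef_pow]
    obtain ⟨z, hz⟩ := h3 (Quotient.out K)
    rw [hz]
    push_cast
    rw [mul_assoc]
    apply h7_memLocalIdeal_mul_right hMp (h7_memLocalIdeal_p hM)
    apply h7_memLocalRing_mul hMp _ (h7_memLocalRing_centralChar hMp χ _)
    have := h7_memLocalRing_of_algInt hMp (z : Cfsg.AlgInt)
    simpa using this
  -- primality
  have hint := Cfsg.Agent.Lib.helper2.irr_central_char_integral χ x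
  set a : Cfsg.AlgInt := ⟨Cfsg.centralChar (χ : G → ℂ) x, hint⟩ with ha
  have h6 : (c ^ N) χ = ((a ^ N : Cfsg.AlgInt) : ℂ) := by
    rw [Pi.pow_apply]
    push_cast
    rfl
  rw [h6, h7_memLocalIdeal_algInt_iff hMp] at h5
  have h7 : a ∈ M := hMp.mem_of_pow_mem N h5
  have := (h7_memLocalIdeal_algInt_iff hMp a).mpr h7
  exact this

end

end Cfsg.Agent.Lib.Helper25
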