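import Mathlib
import Cfsg.Prelude.Def_Blocks
import Cfsg.Agent.Lib.helper7.BlockCover2
import Cfsg.Agent.S0963
import Cfsg.Agent.Lib.Helper25.AugNilChar

/-!
Block idempotents are supported on C_G(P) for a normal p-subgroup P (S4653).
-/

set_option autoImplicit false
set_option linter.style.haveILetI false
set_option linter.unusedVariables false

namespace Cfsg.Agent.Lib.Helper25
open Cfsg.Agent.Lib.helper7
open Cfsg.Agent.Lib.Helper11
section

/-- for `P` a normal `p`-subgroup, two irreducible characters of `G` with a common constituent on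
`C_G(P)` lie in the same block -/
theorem bn_sameBlock_of_common {G : Type*} [Group G] [Fintype G] (p : ℕ) [hp : Fact p.Prime]
    (M : Ideal Cfsg.AlgInt) (hM : Cfsg.IsPModular p M) (P : Subgroup G) [hN : P.Normal]
    (hP : IsPGroup p P) (C : Subgroup G) [C.Normal] [Fintype C]
    (hC : C = Subgroup.centralizer (P : Set G))
    (χ ψ : Cfsg.IrrCharacter G) (θ : Cfsg.IrrCharacter C)
    (hχ : Cfsg.classInner (fun n : C => (χ : G → ℂ) n) (θ : C → ℂ) ≠ 0)
    (hψ : Cfsg.classInner (fun n : C => (ψ : G → ℂ) n) (θ : C → ℂ) ≠ 0) :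
    Cfsg.SameBlock M (χ : G → ℂ) (ψ : G → ℂ) := by
  have hMp := hM.2.1.isPrime
  intro g
  by_cases hg : g ∈ C
  · have h1 := (Cfsg.Agent.S0963.result C χ θ).mp hχ ⟨g, hg⟩
    have h2 := (Cfsg.Agent.S0963.result C ψ θ).mp hψ ⟨g, hg⟩
    have h1' : Cfsg.centralChar (χ : G → ℂ) g = Cfsg.inducedCentralChar C (θ : C → ℂ) g := h1
    have h2' : Cfsg.centralChar (ψ : G → ℂ) g = Cfsg.inducedCentralChar C (θ : C → ℂ) g := h2
    rw [h1', h2', sub_self]
    exact h7_memLocalIdeal_zero hMp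
  · have hx : ∀ y : G, IsConj g y → y ∉ Subgroup.centralizer (P : Set G) := by
      intro y hy hyC
      apply hg
      obtain ⟨c, hc⟩ := isConj_iff.mp hy
      have hyC' : y ∈ C := hC ▸ hyC
      have : g = c⁻¹ * y * c⁻¹⁻¹ := by
        rw [← hc]
        group
      rw [this]
      exact ‹C.Normal›.conj_mem y hyC' c⁻¹
    exact h7_memLocalIdeal_sub hMp (an_centralChar_mem p M hM P hP g hx χ)
      (an_centralChar_mem p M hM P hP g hx ψ)

end

section

/-- the set of constituents on `N` of the members of `B` -/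
def bn_under {G : Type*} [Group G] (N : Subgroup G) [Fintype N] (B : Set (Cfsg.IrrCharacter G)) :
    Set (Cfsg.IrrCharacter N) :=
  {θ | ∃ χ ∈ B, Cfsg.classInner (fun n : N => (χ : G → ℂ) n) (θ : N → ℂ) ≠ 0}

theorem bn_under_stable {G : Type*} [Group G] [Fintype G] (N : Subgroup G) [hN : N.Normal] [Fintype N]
    (B : Set (Cfsg.IrrCharacter G)) : h7_GStable N (bn_under N B) := by
  rintro g θ ⟨χ, hχ, hne⟩
  refine ⟨χ, hχ, ?_⟩
  have := h7_classInner_restrict_cj N (χ : G → ℂ) (h7_irr_isClassFunction χ.2) (θ : N → ℂ) g⁻¹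
  show Cfsg.classInner (fun n : N => (χ : G → ℂ) n) (cj N (θ : N → ℂ) g⁻¹) ≠ 0
  rw [this]
  exact hne

theorem bn_le_over {G : Type*} [Group G] [Fintype G] (N : Subgroup G) [hN : N.Normal] [Fintype N]
    (B : Set (Cfsg.IrrCharacter G)) : B ⊆ h7_over N (bn_under N B) := by
  intro χ hχ
  have hχc := h7_irr_isCharacter χ.2
  have hR := Cfsg.Agent.Lib.helper2.isCharacter_restrict hχc N
  have hR1 : (fun n : N => (χ : G → ℂ) n) 1 ≠ 0 := irr_one_ne_zero χ
  obtain ⟨θ, m, hm, hθ⟩ := Cfsg.Agent.Lib.helper2.isCharacter_exists_constituent hR hR1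
  have hcon : Cfsg.classInner (fun n : N => (χ : G → ℂ) n) (θ : N → ℂ) ≠ 0 := by
    rw [hθ]
    exact_mod_cast hm.ne'
  exact ⟨θ, ⟨χ, hχ, hcon⟩, hcon⟩

/-- S4653: the idempotent of a block is supported on `C_G(P)` for a normal `p`-subgroup `P` -/
theorem bn_main {G : Type*} [Group G] [Fintype G] (p : ℕ) [Fact p.Prime] (M : Ideal Cfsg.AlgInt)
    (hM : Cfsg.IsPModular p M) (P : Subgroup G) [P.Normal] (hP : IsPGroup p P)
    (B : Set (Cfsg.IrrCharacter G)) (hB : Cfsg.IsPBlock M B) (g : G)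
    (hg : g ∉ Subgroup.centralizer (P : Set G)) : Cfsg.blockCoeff B g = 0 := by
  classical
  have hMp := hM.2.1.isPrime
  set C := Subgroup.centralizer (P : Set G) with hC
  haveI : Fintype C := Fintype.ofFinite _
  haveI : Fintype (Cfsg.IrrCharacter G) := Fintype.ofFinite _
  haveI : Fintype (Cfsg.IrrCharacter C) := Fintype.ofFinite _
  obtain ⟨χ₀, rfl⟩ := hB
  have hEq : Cfsg.blockOf M (χ₀ : G → ℂ) = h7_over C (bn_under C (Cfsg.blockOf M (χ₀ : G → ℂ))) := by
    apply Set.Subset.antisymm (bn_le_over C _)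
    rintro ψ ⟨θ, ⟨χ, hχ, hχθ⟩, hψθ⟩
    have h1 := bn_sameBlock_of_common p M hM P hP C hC χ ψ θ hχθ hψθ
    exact h7_sameBlock_trans hMp hχ h1
  rw [hEq, h7_cover_coef C _ (bn_under_stable C _)]
  unfold Cfsg.extendByZero
  rw [Function.extend_apply']
  · rfl
  · rintro ⟨c, hc⟩
    exact hg (hc ▸ c.2)

end

end Cfsg.Agent.Lib.Helper25
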