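import Mathlib
import Cfsg.Prelude.Def_BlockRank
import Cfsg.Agent.Lib.helper7.BlockSing2
import Cfsg.Agent.Lib.helper7.BlockEval
import Cfsg.Agent.Lib.Helper25.CharOrth

/-!
The p-regular rank of a block as the trace of a projection: |G| l(B) = sum over p-regular x of sum over B of |chi(x)|^2 (S4667).
-/

set_option autoImplicit false

namespace Cfsg.Agent.Lib.Helper25
open Cfsg.Agent.Lib.helper7
open scoped ComplexConjugate

theorem br_pRegularPart_apply {G : Type*} [Group G] (p : ℕ) (χ : G → ℂ) (g : G)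
    [Decidable (Cfsg.IsPRegular p g)] :
    Cfsg.pRegularPart p χ g = if Cfsg.IsPRegular p g then χ g else 0 := by
  unfold Cfsg.pRegularPart
  split_ifs <;> rfl

theorem br_pRegularPart_reg {G : Type*} [Group G] (p : ℕ) (χ : G → ℂ) (g : G)
    (h : ¬ p ∣ orderOf g) : Cfsg.pRegularPart p χ g = χ g := by
  classical
  rw [br_pRegularPart_apply, if_pos (show Cfsg.IsPRegular p g from h)]

theorem br_pRegularPart_sing {G : Type*} [Group G] (p : ℕ) (χ : G → ℂ) (g : G)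
    (h : p ∣ orderOf g) : Cfsg.pRegularPart p χ g = 0 := by
  classical
  rw [br_pRegularPart_apply, if_neg (show ¬ Cfsg.IsPRegular p g from fun h' => h' h)]

/-- the linear functional `f ↦ [f, χ]` -/
noncomputable def br_ell {G : Type*} [Group G] [Fintype G] (χ : G → ℂ) : (G → ℂ) →ₗ[ℂ] ℂ where
  toFun f := Cfsg.classInner f χ
  map_add' f g := classInner_add_left f g χ
  map_smul' c f := by
    rw [classInner_smul_left]
    rfl

theorem br_ell_apply {G : Type*} [Group G] [Fintype G] (χ : G → ℂ) (f : G → ℂ) :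
    br_ell χ f = Cfsg.classInner f χ := rfl

variable {G : Type*} [Group G] [Fintype G] [Fintype (Cfsg.IrrCharacter G)]

/-- the operator `f ↦ Σ_{χ ∈ B} [f, χ] χ°` -/
noncomputable def br_proj (p : ℕ) (B : Set (Cfsg.IrrCharacter G)) [DecidablePred (· ∈ B)] :
    (G → ℂ) →ₗ[ℂ] (G → ℂ) :=
  ∑ χ : Cfsg.IrrCharacter G, if χ ∈ B then
    dualTensorHom ℂ (G → ℂ) (G → ℂ) (br_ell (χ : G → ℂ) ⊗ₜ[ℂ] Cfsg.pRegularPart p (χ : G → ℂ))
    else 0

theorem br_proj_apply (p : ℕ) (B : Set (Cfsg.IrrCharacter G)) [DecidablePred (· ∈ B)]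
    (f : G → ℂ) :
    br_proj p B f = ∑ χ : Cfsg.IrrCharacter G, if χ ∈ B then
      Cfsg.classInner f (χ : G → ℂ) • Cfsg.pRegularPart p (χ : G → ℂ) else 0 := by
  unfold br_proj
  rw [LinearMap.sum_apply]
  refine Finset.sum_congr rfl fun χ _ => ?_
  split_ifs
  · rw [dualTensorHom_apply]
    rfl
  · rfl

theorem br_proj_trace (p : ℕ) (B : Set (Cfsg.IrrCharacter G)) [DecidablePred (· ∈ B)] :
    LinearMap.trace ℂ (G → ℂ) (br_proj p B) = ∑ χ : Cfsg.IrrCharacter G, if χ ∈ B then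
      Cfsg.classInner (Cfsg.pRegularPart p (χ : G → ℂ)) (χ : G → ℂ) else 0 := by
  unfold br_proj
  rw [map_sum]
  refine Finset.sum_congr rfl fun χ _ => ?_
  split_ifs
  · rw [LinearMap.trace_eq_contract_apply, contractLeft_apply]
    rfl
  · rw [map_zero]

variable {G : Type*} [Group G] [Fintype G] [Fintype (Cfsg.IrrCharacter G)]

/-- weak block orthogonality as a sum over all irreducible characters -/
theorem br_weak_orth {p : ℕ} [Fact p.Prime] {M : Ideal Cfsg.AlgInt}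
    (hM : Cfsg.IsPModular p M) (χ₀ : Cfsg.IrrCharacter G)
    [DecidablePred (· ∈ Cfsg.blockOf M (χ₀ : G → ℂ))] (x y : G) (hx : ¬ p ∣ orderOf x)
    (hy : p ∣ orderOf y) :
    ∑ χ : Cfsg.IrrCharacter G, (if χ ∈ Cfsg.blockOf M (χ₀ : G → ℂ) then
      (χ : G → ℂ) x * conj ((χ : G → ℂ) y) else 0) = 0 := by
  have h := h7_weak_block_orth hM χ₀ x y hx hy
  rw [h7_finsum_mem_fintype] at h
  exact h

theorem br_proj_fix {p : ℕ} [Fact p.Prime] {M : Ideal Cfsg.AlgInt}
    (hM : Cfsg.IsPModular p M) (χ₀ : Cfsg.IrrCharacter G)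
    [DecidablePred (· ∈ Cfsg.blockOf M (χ₀ : G → ℂ))] (ψ : Cfsg.IrrCharacter G)
    (hψ : ψ ∈ Cfsg.blockOf M (χ₀ : G → ℂ)) :
    br_proj p (Cfsg.blockOf M (χ₀ : G → ℂ)) (Cfsg.pRegularPart p (ψ : G → ℂ)) =
      Cfsg.pRegularPart p (ψ : G → ℂ) := by
  have hG : (Nat.card G : ℂ) ≠ 0 := by exact_mod_cast Nat.card_pos.ne'
  rw [br_proj_apply]
  funext y
  rw [Finset.sum_apply]
  by_cases hy : p ∣ orderOf y
  · rw [br_pRegularPart_sing p _ y hy]
    refine Finset.sum_eq_zero fun χ _ => ?_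
    split_ifs
    · rw [Pi.smul_apply, br_pRegularPart_sing p _ y hy, smul_zero]
    · rfl
  · rw [br_pRegularPart_reg p _ y hy]
    -- ψ y = Σ_{χ ∈ B} [ψ, χ] χ y
    have h1 : (ψ : G → ℂ) y = ∑ χ : Cfsg.IrrCharacter G,
        if χ ∈ Cfsg.blockOf M (χ₀ : G → ℂ) then Cfsg.classInner (ψ : G → ℂ) (χ : G → ℂ) * (χ : G → ℂ) y else 0 := by
      rw [Finset.sum_eq_single ψ]
      · rw [if_pos hψ, irr_classInner, if_pos rfl, one_mul]
      · intro χ _ hne
        split_ifs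
        · rw [irr_classInner, if_neg (Ne.symm hne), zero_mul]
        · rfl
      · intro h
        exact absurd (Finset.mem_univ ψ) h
    rw [h1, ← sub_eq_zero, ← Finset.sum_sub_distrib]
    -- difference
    have h2 : ∀ χ : Cfsg.IrrCharacter G,
        ((if χ ∈ Cfsg.blockOf M (χ₀ : G → ℂ) then Cfsg.classInner (Cfsg.pRegularPart p (ψ : G → ℂ)) (χ : G → ℂ) •
            Cfsg.pRegularPart p (χ : G → ℂ) else 0 : G → ℂ) y -
          (if χ ∈ Cfsg.blockOf M (χ₀ : G → ℂ) then Cfsg.classInner (ψ : G → ℂ) (χ : G → ℂ) * (χ : G → ℂ) y else 0)) =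
        -((Nat.card G : ℂ)⁻¹ * ∑ x : G, (if p ∣ orderOf x then (ψ : G → ℂ) x else 0) *
          (if χ ∈ Cfsg.blockOf M (χ₀ : G → ℂ) then (χ : G → ℂ) y * conj ((χ : G → ℂ) x) else 0)) := by
      intro χ
      by_cases hχ : χ ∈ Cfsg.blockOf M (χ₀ : G → ℂ)
      · simp only [if_pos hχ, Pi.smul_apply, smul_eq_mul]
        rw [br_pRegularPart_reg p _ y hy]
        unfold Cfsg.classInner
        rw [← sub_mul, ← mul_sub, ← Finset.sum_sub_distrib, mul_assoc, Finset.sum_mul, ← mul_neg,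
          ← Finset.sum_neg_distrib]
        congr 1
        refine Finset.sum_congr rfl fun x _ => ?_
        by_cases hx : p ∣ orderOf x
        · rw [br_pRegularPart_sing p _ x hx, if_pos hx]
          ring
        · rw [br_pRegularPart_reg p _ x hx, if_neg hx]
          ring
      · simp only [if_neg hχ, Pi.zero_apply, sub_zero, mul_zero, Finset.sum_const_zero, neg_zero]
    rw [Finset.sum_congr rfl fun χ _ => h2 χ, Finset.sum_neg_distrib, neg_eq_zero, ← Finset.mul_sum,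
      Finset.sum_comm]
    simp_rw [← Finset.mul_sum]
    rw [Finset.sum_eq_zero, mul_zero]
    intro x _
    by_cases hx : p ∣ orderOf x
    · rw [br_weak_orth hM χ₀ y x hy hx, mul_zero]
    · rw [if_neg hx, zero_mul]

theorem br_proj_isProj {p : ℕ} [Fact p.Prime] {M : Ideal Cfsg.AlgInt}
    (hM : Cfsg.IsPModular p M) (χ₀ : Cfsg.IrrCharacter G)
    [DecidablePred (· ∈ Cfsg.blockOf M (χ₀ : G → ℂ))] :
    LinearMap.IsProj (Submodule.span ℂ ((fun χ : Cfsg.IrrCharacter G =>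
      Cfsg.pRegularPart p (χ : G → ℂ)) '' Cfsg.blockOf M (χ₀ : G → ℂ)))
      (br_proj p (Cfsg.blockOf M (χ₀ : G → ℂ))) := by
  constructor
  · intro f
    rw [br_proj_apply]
    refine Submodule.sum_mem _ fun χ _ => ?_
    split_ifs with h
    · exact Submodule.smul_mem _ _ (Submodule.subset_span ⟨χ, h, rfl⟩)
    · exact Submodule.zero_mem _
  · intro f hf
    have : Set.EqOn (br_proj p (Cfsg.blockOf M (χ₀ : G → ℂ))) (LinearMap.id : (G → ℂ) →ₗ[ℂ] (G → ℂ))
        ((fun χ : Cfsg.IrrCharacter G =>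
      Cfsg.pRegularPart p (χ : G → ℂ)) '' Cfsg.blockOf M (χ₀ : G → ℂ)) := by
      rintro _ ⟨ψ, hψ, rfl⟩
      exact br_proj_fix hM χ₀ ψ hψ
    exact LinearMap.eqOn_span this hf

theorem br_rank_eq {G : Type*} [Group G] [Fintype G] [Fintype (Cfsg.IrrCharacter G)]
    {p : ℕ} [Fact p.Prime] {M : Ideal Cfsg.AlgInt}
    (hM : Cfsg.IsPModular p M) (χ₀ : Cfsg.IrrCharacter G)
    [DecidablePred (· ∈ Cfsg.blockOf M (χ₀ : G → ℂ))] :
    (Cfsg.blockRank p (Cfsg.blockOf M (χ₀ : G → ℂ)) : ℂ) =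
      ∑ χ : Cfsg.IrrCharacter G, if χ ∈ Cfsg.blockOf M (χ₀ : G → ℂ) then
      Cfsg.classInner (Cfsg.pRegularPart p (χ : G → ℂ)) (χ : G → ℂ) else 0 := by
  rw [← br_proj_trace, (br_proj_isProj hM χ₀).trace]
  rfl

theorem br_main {G : Type*} [Group G] [Fintype G] (p : ℕ) [Fact p.Prime] (M : Ideal Cfsg.AlgInt)
    (hM : Cfsg.IsPModular p M) (B : Set (Cfsg.IrrCharacter G)) (hB : Cfsg.IsPBlock M B) :
    (Nat.card G : ℂ) * (Cfsg.blockRank p B : ℂ) =
      ∑ x : G, ∑ᶠ χ ∈ B, Cfsg.pRegularPart p (χ : G → ℂ) x * (χ : G → ℂ) x⁻¹ := by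
  classical
  haveI : Fintype (Cfsg.IrrCharacter G) := Fintype.ofFinite _
  obtain ⟨χ₀, rfl⟩ := hB
  have hG : (Nat.card G : ℂ) ≠ 0 := by exact_mod_cast Nat.card_pos.ne'
  rw [br_rank_eq hM χ₀, Finset.mul_sum]
  simp_rw [h7_finsum_mem_fintype]
  rw [Finset.sum_comm]
  refine Finset.sum_congr rfl fun χ _ => ?_
  split_ifs
  · unfold Cfsg.classInner
    rw [← mul_assoc, mul_inv_cancel₀ hG, one_mul]
    refine Finset.sum_congr rfl fun x _ => ?_
    rw [irr_inv]
  · rw [mul_zero, Finset.sum_const_zero]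

end Cfsg.Agent.Lib.Helper25
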