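import Mathlib
import Cfsg.Prelude.Def_BlockRank
import Cfsg.Agent.Lib.helper7.BlockDefect2
import Cfsg.Agent.Lib.helper7.BlockCover
import Cfsg.Agent.Lib.Helper25.BlockRankTrace

/-!
l(B) <= k(B); defect zero iff k = l = 1 iff k = l (S4733).
-/

set_option autoImplicit false

namespace Cfsg.Agent.Lib.Helper25
open Cfsg.Agent.Lib.helper2
open Cfsg.Agent.Lib.helper7
open scoped ComplexConjugate

/-- l(B) ≤ k(B) -/
theorem bk_rank_le_card {G : Type*} [Group G] [Finite G] (p : ℕ) (B : Set (Cfsg.IrrCharacter G)) :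
    Cfsg.blockRank p B ≤ Nat.card B := by
  classical
  haveI : Fintype (Cfsg.IrrCharacter G) := Fintype.ofFinite _
  unfold Cfsg.blockRank
  have h1 : ((fun χ : Cfsg.IrrCharacter G => Cfsg.pRegularPart p (χ : G → ℂ)) '' B) =
      ↑(B.toFinset.image (fun χ : Cfsg.IrrCharacter G => Cfsg.pRegularPart p (χ : G → ℂ))) := by
    rw [Finset.coe_image, Set.coe_toFinset]
  rw [h1]
  refine (finrank_span_finset_le_card _).trans ?_
  refine Finset.card_image_le.trans ?_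
  rw [Set.toFinset_card, Nat.card_eq_fintype_card]

/-- a block with a character of full `p`-part degree is a singleton -/
theorem bk_singleton_of_full {G : Type*} [Group G] [Finite G] (p : ℕ) [hp : Fact p.Prime]
    (M : Ideal Cfsg.AlgInt) (hM : Cfsg.IsPModular p M) (χ : Cfsg.IrrCharacter G)
    (hχ : (Nat.card G).factorization p ≤ (Cfsg.charDegree (χ : G → ℂ)).factorization p) :
    Cfsg.blockOf M (χ : G → ℂ) ⊆ {χ} := by
  have hP := hM.2.1.isPrime
  haveI := Fintype.ofFinite G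
  haveI : Fintype (Cfsg.IrrCharacter G) := Fintype.ofFinite _
  refine h7_union_of_blocks hP {χ} ?_ χ rfl
  intro g
  unfold Cfsg.blockCoeff
  rw [finsum_mem_singleton]
  obtain ⟨hd1, hd2, hd3⟩ := h7_charDegree_props χ
  set d := Cfsg.charDegree (χ : G → ℂ) with hd
  set a := (Nat.card G).factorization p with ha
  set m := Nat.card G / p ^ a with hm
  have hGm : p ^ a * m = Nat.card G := Nat.ordProj_mul_ordCompl_eq_self (Nat.card G) p
  have hmp : ¬ p ∣ m := Nat.not_dvd_ordCompl hp.out Nat.card_pos.ne'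
  have hmcop : m.Coprime p := (Nat.Coprime.symm ((Nat.Prime.coprime_iff_not_dvd hp.out).mpr hmp))
  have hpd : p ^ a ∣ d := (hp.out.pow_dvd_iff_le_factorization hd2.ne').mpr hχ
  obtain ⟨t, ht⟩ := hpd
  have hp0 : (p : ℂ) ≠ 0 := by exact_mod_cast hp.out.ne_zero
  have hm0 : (m : ℂ) ≠ 0 := by
    intro h0
    have : m = 0 := by exact_mod_cast h0
    rw [this, mul_zero] at hGm
    exact Nat.card_pos.ne' hGm.symm
  have e : (Nat.card G : ℂ)⁻¹ * ((χ : G → ℂ) 1 * conj ((χ : G → ℂ) g)) =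
      (m : ℂ)⁻¹ * ((t : ℂ) * (χ : G → ℂ) g⁻¹) := by
    rw [← hd3, ← hGm, ht, irr_inv]
    push_cast
    field_simp
  rw [e]
  exact h7_memLocalRing_mul hP (h7_memLocalRing_inv_natCast hM m hmcop)
    (h7_memLocalRing_mul hP (h7_memLocalRing_natCast hP t)
      (h7_memLocalRing_of_isIntegral hP (irr_integral χ g⁻¹)))

/-- `[χ, χ] - [χ°, χ]` is `|G|⁻¹` times the sum of `|χ(x)|²` over `p`-singular `x` -/
theorem bk_diff {G : Type*} [Group G] [Fintype G] (p : ℕ) (χ : Cfsg.IrrCharacter G) :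
    1 - Cfsg.classInner (Cfsg.pRegularPart p (χ : G → ℂ)) (χ : G → ℂ) =
      (((Nat.card G : ℝ)⁻¹ * ∑ x : G, if p ∣ orderOf x then Complex.normSq ((χ : G → ℂ) x) else 0 : ℝ) : ℂ) := by
  have h1 : (1 : ℂ) = Cfsg.classInner (χ : G → ℂ) (χ : G → ℂ) := by
    rw [irr_classInner, if_pos rfl]
  rw [h1]
  unfold Cfsg.classInner
  rw [← mul_sub, ← Finset.sum_sub_distrib]
  push_cast
  congr 1
  refine Finset.sum_congr rfl fun x _ => ?_
  by_cases hx : p ∣ orderOf x
  · rw [br_pRegularPart_sing p _ x hx, if_pos hx, zero_mul, sub_zero, Complex.mul_conj]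
  · rw [br_pRegularPart_reg p _ x hx, if_neg hx, sub_self]
    rfl

/-- if `k(B) = l(B)` then every member of `B` vanishes at the `p`-singular elements -/
theorem bk_vanish_of_eq {G : Type*} [Group G] [Fintype G] [Fintype (Cfsg.IrrCharacter G)]
    {p : ℕ} [Fact p.Prime] {M : Ideal Cfsg.AlgInt}
    (hM : Cfsg.IsPModular p M) (χ₀ : Cfsg.IrrCharacter G)
    (h : Nat.card (Cfsg.blockOf M (χ₀ : G → ℂ)) = Cfsg.blockRank p (Cfsg.blockOf M (χ₀ : G → ℂ)))
    (χ : Cfsg.IrrCharacter G) (hχ : χ ∈ Cfsg.blockOf M (χ₀ : G → ℂ)) (y : G) (hy : p ∣ orderOf y) :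
    (χ : G → ℂ) y = 0 := by
  classical
  have hk : (Nat.card (Cfsg.blockOf M (χ₀ : G → ℂ)) : ℂ) =
      ∑ ψ : Cfsg.IrrCharacter G, if ψ ∈ Cfsg.blockOf M (χ₀ : G → ℂ) then (1 : ℂ) else 0 := by
    rw [Nat.card_eq_fintype_card, ← Set.toFinset_card, Finset.sum_ite, Finset.sum_const_zero,
      add_zero, Finset.sum_const, nsmul_eq_mul, mul_one]
    congr 2
    ext ψ
    simp
  have hl := br_rank_eq hM χ₀
  rw [← h, hk] at hl
  have h0 : ∑ ψ : Cfsg.IrrCharacter G, (if ψ ∈ Cfsg.blockOf M (χ₀ : G → ℂ) then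
      ((Nat.card G : ℝ)⁻¹ * ∑ x : G, if p ∣ orderOf x then Complex.normSq ((ψ : G → ℂ) x) else 0 : ℝ)
      else 0) = 0 := by
    have : ((∑ ψ : Cfsg.IrrCharacter G, (if ψ ∈ Cfsg.blockOf M (χ₀ : G → ℂ) then
      ((Nat.card G : ℝ)⁻¹ * ∑ x : G, if p ∣ orderOf x then Complex.normSq ((ψ : G → ℂ) x) else 0 : ℝ)
      else 0) : ℝ) : ℂ) = 0 := by
      rw [Complex.ofReal_sum, ← sub_eq_zero.mpr hl, ← Finset.sum_sub_distrib]
      refine Finset.sum_congr rfl fun ψ _ => ?_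
      split_ifs
      · rw [← bk_diff]
      · simp
    exact_mod_cast this
  have hG : (0 : ℝ) < (Nat.card G : ℝ)⁻¹ := inv_pos.mpr (by exact_mod_cast Nat.card_pos)
  have hnn : ∀ ψ : Cfsg.IrrCharacter G, (0 : ℝ) ≤
      (Nat.card G : ℝ)⁻¹ * ∑ x : G, if p ∣ orderOf x then Complex.normSq ((ψ : G → ℂ) x) else 0 := by
    intro ψ
    refine mul_nonneg hG.le (Finset.sum_nonneg fun x _ => ?_)
    split_ifs
    · exact Complex.normSq_nonneg _
    · exact le_rfl
  have h1 := (Finset.sum_eq_zero_iff_of_nonneg (fun ψ _ => by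
    split_ifs
    · exact hnn ψ
    · exact le_rfl)).mp h0 χ (Finset.mem_univ χ)
  rw [if_pos hχ] at h1
  have h2 := (mul_eq_zero.mp h1).resolve_left hG.ne'
  have h3 := (Finset.sum_eq_zero_iff_of_nonneg (fun x _ => by
    split_ifs
    · exact Complex.normSq_nonneg _
    · exact le_rfl)).mp h2 y (Finset.mem_univ y)
  rw [if_pos hy] at h3
  exact Complex.normSq_eq_zero.mp h3

/-- an irreducible character vanishing at the `p`-singular elements has degree divisible by the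
full power of `p` -/
theorem bk_full_of_vanish {G : Type*} [Group G] [Finite G] (p : ℕ) [hp : Fact p.Prime]
    (χ : Cfsg.IrrCharacter G) (hv : ∀ y : G, p ∣ orderOf y → (χ : G → ℂ) y = 0) :
    (Nat.card G).factorization p ≤ (Cfsg.charDegree (χ : G → ℂ)).factorization p := by
  classical
  haveI := Fintype.ofFinite G
  obtain ⟨hd1, hd2, hd3⟩ := h7_charDegree_props χ
  set d := Cfsg.charDegree (χ : G → ℂ) with hd
  obtain ⟨P⟩ : Nonempty (Sylow p G) := inferInstance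
  have h1 : ¬ p ∣ orderOf (1 : G) := by
    rw [orderOf_one]
    exact hp.out.one_lt.ne' ∘ Nat.dvd_one.mp
  obtain ⟨α, hα, hαe⟩ := h7_char_dvd_of_vanish p (χ : G → ℂ) (isCharacter_of_irr χ) hv 1 h1
    (P : Subgroup G) P.isPGroup' (fun u _ => Commute.one_right u)
  rw [← hd3] at hαe
  have hPc : Nat.card (P : Subgroup G) = p ^ (Nat.card G).factorization p := P.card_eq_multiplicity
  have hP0 : (Nat.card (P : Subgroup G) : ℂ) ≠ 0 := by
    rw [hPc]
    exact_mod_cast pow_ne_zero _ hp.out.ne_zero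
  -- α = d / |P| is rational and integral
  have hαq : α = ((d : ℚ) / (Nat.card (P : Subgroup G) : ℚ) : ℚ) := by
    push_cast
    field_simp
    rw [hαe]
    ring
  have hint : IsIntegral ℤ ((d : ℚ) / (Nat.card (P : Subgroup G) : ℚ) : ℚ) := by
    have : IsIntegral ℤ (algebraMap ℚ ℂ ((d : ℚ) / (Nat.card (P : Subgroup G) : ℚ) : ℚ)) := by
      rw [hαq] at hα
      exact hα
    exact (isIntegral_algebraMap_iff (algebraMap ℚ ℂ).injective).mp this
  obtain ⟨z, hz⟩ := IsIntegrallyClosed.isIntegral_iff.mp hint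
  have hP0' : (Nat.card (P : Subgroup G) : ℚ) ≠ 0 := by
    rw [hPc]
    exact_mod_cast pow_ne_zero _ hp.out.ne_zero
  have hz' : (d : ℤ) = z * (Nat.card (P : Subgroup G) : ℤ) := by
    have : (d : ℚ) = (z : ℚ) * (Nat.card (P : Subgroup G) : ℚ) := by
      have hz2 : (z : ℚ) = (d : ℚ) / (Nat.card (P : Subgroup G) : ℚ) := hz
      rw [hz2]
      field_simp
    exact_mod_cast this
  have hdvd : (Nat.card (P : Subgroup G) : ℤ) ∣ (d : ℤ) := ⟨z, by rw [hz', mul_comm]⟩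
  have hdvd' : Nat.card (P : Subgroup G) ∣ d := by exact_mod_cast hdvd
  rw [hPc] at hdvd'
  exact (hp.out.pow_dvd_iff_le_factorization hd2.ne').mp hdvd'

theorem bk_mem_blockOf {G : Type*} [Group G] [Fintype G] [Fintype (Cfsg.IrrCharacter G)] {M : Ideal Cfsg.AlgInt} (hP : M.IsPrime)
    (χ₀ χ : Cfsg.IrrCharacter G) (hχ : χ ∈ Cfsg.blockOf M (χ₀ : G → ℂ)) :
    Cfsg.blockOf M (χ₀ : G → ℂ) = Cfsg.blockOf M (χ : G → ℂ) := by
  ext ψ
  constructor
  · intro hψ
    exact h7_sameBlock_trans hP (h7_sameBlock_symm hχ) hψ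
  · intro hψ
    exact h7_sameBlock_trans hP hχ hψ

/-- defect zero iff some member has full `p`-part degree iff all members have -/
theorem bk_defect_zero_iff {G : Type*} [Group G] (p : ℕ) (B : Set (Cfsg.IrrCharacter G))
    (hne : B.Nonempty) :
    Cfsg.blockDefect p B = 0 ↔ ∀ χ ∈ B,
      (Nat.card G).factorization p ≤ (Cfsg.charDegree (χ : G → ℂ)).factorization p := by
  unfold Cfsg.blockDefect
  rw [Nat.sub_eq_zero_iff_le]
  constructor
  · intro h χ hχ
    exact h.trans (Nat.sInf_le ⟨χ, hχ, rfl⟩)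
  · intro h
    have hne' : ((fun χ : Cfsg.IrrCharacter G =>
        (Cfsg.charDegree (χ : G → ℂ)).factorization p) '' B).Nonempty := hne.image _
    obtain ⟨χ, hχ, he⟩ := Nat.sInf_mem hne'
    rw [← he]
    exact h χ hχ

theorem bk_main {G : Type*} [Group G] [Finite G] (p : ℕ) [Fact p.Prime] (M : Ideal Cfsg.AlgInt)
    (hM : Cfsg.IsPModular p M) (B : Set (Cfsg.IrrCharacter G)) (hB : Cfsg.IsPBlock M B) :
    Cfsg.blockRank p B ≤ Nat.card B ∧
      (Cfsg.blockDefect p B = 0 ↔ (Nat.card B = 1 ∧ Cfsg.blockRank p B = 1)) ∧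
      (Cfsg.blockDefect p B = 0 ↔ Nat.card B = Cfsg.blockRank p B) := by
  classical
  haveI := Fintype.ofFinite G
  haveI : Fintype (Cfsg.IrrCharacter G) := Fintype.ofFinite _
  have hP := hM.2.1.isPrime
  obtain ⟨χ₀, rfl⟩ := hB
  have hχ₀ : χ₀ ∈ Cfsg.blockOf M (χ₀ : G → ℂ) := h7_sameBlock_refl hP _
  have hne : (Cfsg.blockOf M (χ₀ : G → ℂ)).Nonempty := ⟨χ₀, hχ₀⟩
  have hA : Cfsg.blockDefect p (Cfsg.blockOf M (χ₀ : G → ℂ)) = 0 →
      (Nat.card (Cfsg.blockOf M (χ₀ : G → ℂ)) = 1 ∧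
        Cfsg.blockRank p (Cfsg.blockOf M (χ₀ : G → ℂ)) = 1) := by
    intro h
    have h1 := (bk_defect_zero_iff p _ hne).mp h χ₀ hχ₀
    have h2 := bk_singleton_of_full p M hM χ₀ h1
    have h3 : Cfsg.blockOf M (χ₀ : G → ℂ) = {χ₀} :=
      Set.Subset.antisymm h2 (Set.singleton_subset_iff.mpr hχ₀)
    rw [h3]
    refine ⟨by simp, ?_⟩
    unfold Cfsg.blockRank
    rw [Set.image_singleton]
    apply finrank_span_singleton
    intro h0
    have := congrFun h0 1
    rw [br_pRegularPart_reg p _ 1 (by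
      rw [orderOf_one]
      exact (Fact.out : p.Prime).one_lt.ne' ∘ Nat.dvd_one.mp)] at this
    exact irr_one_ne_zero χ₀ this
  have hC : Nat.card (Cfsg.blockOf M (χ₀ : G → ℂ)) =
      Cfsg.blockRank p (Cfsg.blockOf M (χ₀ : G → ℂ)) →
      Cfsg.blockDefect p (Cfsg.blockOf M (χ₀ : G → ℂ)) = 0 := by
    intro h
    rw [bk_defect_zero_iff p _ hne]
    intro χ hχ
    exact bk_full_of_vanish p χ (bk_vanish_of_eq hM χ₀ h χ hχ)
  refine ⟨bk_rank_le_card p _, ⟨hA, fun h => hC (by rw [h.1, h.2])⟩, ⟨fun h => ?_, hC⟩⟩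
  obtain ⟨h1, h2⟩ := hA h
  rw [h1, h2]

end Cfsg.Agent.Lib.Helper25
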