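import Mathlib
import Cfsg.Prelude.Def_Blocks
import Cfsg.Agent.Lib.helper7.BlockCover2
import Cfsg.Agent.Lib.helper7.BlockSing2
import Cfsg.Agent.Lib.Helper25.BlockNormalP
import Cfsg.Agent.Lib.Helper25.BlockRankCard
import Cfsg.Agent.Lib.Helper25.ItoSolvable

/-!
Blocks and normal subgroups of p-power index: block idempotents supported on N, a block is the full set of characters over its constituents, unique covering block (S0966).
-/

set_option autoImplicit false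
set_option linter.style.haveILetI false
set_option linter.unusedVariables false
set_option linter.unusedSectionVars false

namespace Cfsg.Agent.Lib.Helper25
open Cfsg.Agent.Lib.helper7
open Cfsg.Agent.Lib.Helper11
section

/-- pairing of a `G`-invariant function on `N` with the restriction of an irreducible character
of `G` lying over `θ` -/
theorem bu_sum_restrict {G : Type*} [Group G] [Fintype G] (N : Subgroup G) [hN : N.Normal]
    [Fintype N] (a : N → ℂ)
    (ha : ∀ (g : G) (n : N), a ⟨g * n * g⁻¹, hN.conj_mem n n.2 g⟩ = a n)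
    (χ : Cfsg.IrrCharacter G) (θ : Cfsg.IrrCharacter N)
    (hcon : Cfsg.classInner (fun n : N => (χ : G → ℂ) n) (θ : N → ℂ) ≠ 0) :
    (∑ n : N, a n * (χ : G → ℂ) n) * (θ : N → ℂ) 1 =
      (χ : G → ℂ) 1 * ∑ n : N, a n * (θ : N → ℂ) n := by
  classical
  obtain ⟨e, he, h1, h2⟩ := h7_clifford N (χ : G → ℂ) χ.2 (θ : N → ℂ) θ.2 hcon
  set O := Finset.univ.image (fun g : G => cj N (θ : N → ℂ) g) with hO
  have hψ : ∀ ψ ∈ O, ∑ n : N, a n * ψ n = ∑ n : N, a n * (θ : N → ℂ) n ∧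
      ψ 1 = (θ : N → ℂ) 1 := by
    intro ψ hψ
    obtain ⟨g, _, rfl⟩ := Finset.mem_image.mp hψ
    constructor
    · rw [← Equiv.sum_comp (MulAut.conjNormal g : N ≃* N).toEquiv
        (fun n => a n * (θ : N → ℂ) n)]
      refine Finset.sum_congr rfl fun n _ => ?_
      rw [cj_apply]
      have e1 : ((MulAut.conjNormal g : N ≃* N).toEquiv n) =
          ⟨g * n * g⁻¹, hN.conj_mem n n.2 g⟩ := by
        apply Subtype.ext
        simp [MulAut.conjNormal_apply]
      rw [e1, ha]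
    · rw [cj_apply]
      refine congrArg _ (Subtype.ext ?_)
      simp
  have hχn : ∀ n : N, (χ : G → ℂ) n = (e : ℂ) * ∑ ψ ∈ O, ψ n := by
    intro n
    have := congrFun h2 n
    simp only [Pi.smul_apply, Finset.sum_apply, smul_eq_mul] at this
    exact this
  have hsum : ∑ n : N, a n * (χ : G → ℂ) n =
      (e : ℂ) * (O.card : ℂ) * ∑ n : N, a n * (θ : N → ℂ) n := by
    have : ∀ n : N, a n * (χ : G → ℂ) n = (e : ℂ) * ∑ ψ ∈ O, a n * ψ n := by
      intro n
      rw [hχn, Finset.mul_sum, Finset.mul_sum, Finset.mul_sum]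
      refine Finset.sum_congr rfl fun ψ _ => ?_
      ring
    rw [Finset.sum_congr rfl fun n _ => this n, ← Finset.mul_sum, Finset.sum_comm,
      Finset.sum_congr rfl fun ψ hψ' => (hψ ψ hψ').1, Finset.sum_const, nsmul_eq_mul]
    ring
  have hdeg : (χ : G → ℂ) 1 = (e : ℂ) * (O.card : ℂ) * (θ : N → ℂ) 1 := by
    have := hχn 1
    rw [show ((1 : N) : G) = 1 from rfl] at this
    rw [this, Finset.sum_congr rfl fun ψ hψ' => (hψ ψ hψ').2, Finset.sum_const, nsmul_eq_mul]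
    ring
  rw [hsum, hdeg]
  ring

end

section

variable {G : Type*} [Group G] [Fintype G]

theorem bu_blockCoeff_conj [Fintype (Cfsg.IrrCharacter G)] (B : Set (Cfsg.IrrCharacter G))
    (g h : G) : Cfsg.blockCoeff B (h * g * h⁻¹) = Cfsg.blockCoeff B g := by
  classical
  rw [← h7_coef_indicator, ← h7_coef_indicator, h7_coef_conj]

open Classical in
theorem bu_eval [Fintype (Cfsg.IrrCharacter G)] (B : Set (Cfsg.IrrCharacter G))
    (φ : Cfsg.IrrCharacter G) :
    ∑ g : G, Cfsg.blockCoeff B g * (φ : G → ℂ) g =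
      (if φ ∈ B then (1 : ℂ) else 0) * (φ : G → ℂ) 1 := by
  have h1 := h7_coef_eval (fun χ' : Cfsg.IrrCharacter G => if χ' ∈ B then (1 : ℂ) else 0) φ
  rw [← h1]
  refine Finset.sum_congr rfl fun g _ => ?_
  rw [h7_coef_indicator]

/-- a set of irreducible characters whose idempotent is supported on the normal subgroup `N`
is closed under "having a common constituent on `N`" -/
theorem bu_closed_of_support (N : Subgroup G) [hN : N.Normal] [Fintype N]
    (B : Set (Cfsg.IrrCharacter G)) (hsupp : ∀ g : G, g ∉ N → Cfsg.blockCoeff B g = 0)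
    (χ ψ : Cfsg.IrrCharacter G) (θ : Cfsg.IrrCharacter N) (hχB : χ ∈ B)
    (hχ : Cfsg.classInner (fun n : N => (χ : G → ℂ) n) (θ : N → ℂ) ≠ 0)
    (hψ : Cfsg.classInner (fun n : N => (ψ : G → ℂ) n) (θ : N → ℂ) ≠ 0) : ψ ∈ B := by
  classical
  haveI : Fintype (Cfsg.IrrCharacter G) := Fintype.ofFinite _
  set a : N → ℂ := fun n => Cfsg.blockCoeff B (n : G) with ha
  have hainv : ∀ (g : G) (n : N), a ⟨g * n * g⁻¹, hN.conj_mem n n.2 g⟩ = a n := by
    intro g n
    exact bu_blockCoeff_conj B (n : G) g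
  have hsumN : ∀ φ : Cfsg.IrrCharacter G,
      ∑ g : G, Cfsg.blockCoeff B g * (φ : G → ℂ) g = ∑ n : N, a n * (φ : G → ℂ) n := by
    intro φ
    have h1 : ∑ g : G, Cfsg.blockCoeff B g * (φ : G → ℂ) g =
        ∑ g ∈ Finset.univ.filter (· ∈ N), Cfsg.blockCoeff B g * (φ : G → ℂ) g := by
      rw [Finset.sum_filter]
      refine Finset.sum_congr rfl fun g _ => ?_
      split_ifs with h
      · rfl
      · rw [hsupp g h, zero_mul]
    rw [h1]
    exact Finset.sum_subtype (Finset.univ.filter (· ∈ N)) (fun g => by simp)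
      (fun g => Cfsg.blockCoeff B g * (φ : G → ℂ) g)
  have hθ1 := irr_one_ne_zero θ
  have e1 := bu_sum_restrict N a hainv χ θ hχ
  have e2 := bu_sum_restrict N a hainv ψ θ hψ
  rw [← hsumN, bu_eval, if_pos hχB, one_mul] at e1
  rw [← hsumN, bu_eval] at e2
  by_contra hψB
  rw [if_neg hψB, zero_mul, zero_mul] at e2
  have hχ1 := irr_one_ne_zero χ
  have hψ1 := irr_one_ne_zero ψ
  have h0 : ∑ n : N, a n * (θ : N → ℂ) n = 0 := by
    rcases mul_eq_zero.mp e2.symm with h | h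
    · exact absurd h hψ1
    · exact h
  rw [h0, mul_zero] at e1
  exact (mul_ne_zero hχ1 hθ1) e1

end

section

variable {G : Type*} [Group G] [Fintype G]

/-- outside a normal subgroup of `p`-power index every element is `p`-singular -/
theorem bu_psingular_of_not_mem (p : ℕ) [hp : Fact p.Prime] (N : Subgroup G) [hN : N.Normal]
    (hidx : ∃ k : ℕ, N.index = p ^ k) (g : G) (hg : g ∉ N) : p ∣ orderOf g := by
  obtain ⟨k, hk⟩ := hidx
  have h1 : orderOf (QuotientGroup.mk g : G ⧸ N) ∣ orderOf g :=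
    orderOf_map_dvd (QuotientGroup.mk' N) g
  have h2 : orderOf (QuotientGroup.mk g : G ⧸ N) ∣ p ^ k := by
    rw [← hk, Subgroup.index_eq_card]
    exact orderOf_dvd_natCard _
  obtain ⟨j, _, hj⟩ := (Nat.dvd_prime_pow hp.out).mp h2
  have hj0 : j ≠ 0 := by
    rintro rfl
    rw [pow_zero, orderOf_eq_one_iff, QuotientGroup.eq_one_iff] at hj
    exact hg hj
  exact (hj ▸ dvd_pow_self p hj0).trans h1

/-- for `N` of `p`-power index, the idempotent of a block of `G` is supported on `N` -/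
theorem bu_support (p : ℕ) [hp : Fact p.Prime] (M : Ideal Cfsg.AlgInt)
    (hM : Cfsg.IsPModular p M) (N : Subgroup G) [hN : N.Normal]
    (hidx : ∃ k : ℕ, N.index = p ^ k) (χ₀ : Cfsg.IrrCharacter G) (g : G) (hg : g ∉ N) :
    Cfsg.blockCoeff (Cfsg.blockOf M (χ₀ : G → ℂ)) g = 0 := by
  haveI : Fintype (Cfsg.IrrCharacter G) := Fintype.ofFinite _
  exact h7_blockCoeff_psingular hM χ₀ g (bu_psingular_of_not_mem p N hidx g hg)

/-- for `N` of `p`-power index, a block of `G` is the full set of characters over its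
constituents on `N` -/
theorem bu_block_eq_over (p : ℕ) [hp : Fact p.Prime] (M : Ideal Cfsg.AlgInt)
    (hM : Cfsg.IsPModular p M) (N : Subgroup G) [hN : N.Normal] [Fintype N]
    (hidx : ∃ k : ℕ, N.index = p ^ k) (χ₀ : Cfsg.IrrCharacter G) :
    Cfsg.blockOf M (χ₀ : G → ℂ) = h7_over N (bn_under N (Cfsg.blockOf M (χ₀ : G → ℂ))) := by
  apply Set.Subset.antisymm (bn_le_over N _)
  rintro ψ ⟨θ, ⟨χ, hχ, hχθ⟩, hψθ⟩
  exact bu_closed_of_support N _ (bu_support p M hM N hidx χ₀) χ ψ θ hχ hχθ hψθ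

/-- the constituents on `N` of a block of `G` form a union of blocks of `N` -/
theorem bu_under_union (p : ℕ) [hp : Fact p.Prime] (M : Ideal Cfsg.AlgInt)
    (hM : Cfsg.IsPModular p M) (N : Subgroup G) [hN : N.Normal] [Fintype N]
    (hidx : ∃ k : ℕ, N.index = p ^ k) (χ₀ : Cfsg.IrrCharacter G) (θ : Cfsg.IrrCharacter N)
    (hθ : θ ∈ bn_under N (Cfsg.blockOf M (χ₀ : G → ℂ))) :
    Cfsg.blockOf M (θ : N → ℂ) ⊆ bn_under N (Cfsg.blockOf M (χ₀ : G → ℂ)) := by
  haveI : Fintype (Cfsg.IrrCharacter G) := Fintype.ofFinite _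
  haveI : Fintype (Cfsg.IrrCharacter N) := Fintype.ofFinite _
  have hMp := hM.2.1.isPrime
  apply h7_union_of_blocks hMp _ _ θ hθ
  intro n
  have h1 := h7_cover_coef N _ (bn_under_stable N (Cfsg.blockOf M (χ₀ : G → ℂ))) (n : G)
  rw [← bu_block_eq_over p M hM N hidx χ₀] at h1
  unfold Cfsg.extendByZero at h1
  rw [Subtype.val_injective.extend_apply] at h1
  rw [← h1]
  exact h7_osima hMp χ₀ (n : G)

/-- S0966 -/
theorem bu_unique_cover (p : ℕ) [Fact p.Prime] (M : Ideal Cfsg.AlgInt)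
    (hM : Cfsg.IsPModular p M) (N : Subgroup G) [N.Normal] [Fintype N]
    (hidx : ∃ k : ℕ, N.index = p ^ k) (b : Set (Cfsg.IrrCharacter N)) (hb : Cfsg.IsPBlock M b) :
    ∃! B : Set (Cfsg.IrrCharacter G), Cfsg.IsPBlock M B ∧ ∃ χ ∈ B, ∃ θ ∈ b,
      Cfsg.classInner (fun n : N => (χ : G → ℂ) n) (θ : N → ℂ) ≠ 0 := by
  haveI : Fintype (Cfsg.IrrCharacter G) := Fintype.ofFinite _
  haveI : Fintype (Cfsg.IrrCharacter N) := Fintype.ofFinite _
  have hMp := hM.2.1.isPrime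
  obtain ⟨θ₀, rfl⟩ := hb
  have hθ₀ : θ₀ ∈ Cfsg.blockOf M (θ₀ : N → ℂ) := h7_sameBlock_refl hMp _
  obtain ⟨χ₀, hχ₀⟩ := itn_exists_over N θ₀
  refine ⟨Cfsg.blockOf M (χ₀ : G → ℂ),
    ⟨⟨χ₀, rfl⟩, χ₀, h7_sameBlock_refl hMp _, θ₀, hθ₀, hχ₀⟩, ?_⟩
  rintro B₂ ⟨⟨χ₂', rfl⟩, χ₂, hχ₂, θ₂, hθ₂, hcon₂⟩
  -- θ₀ is under the block of χ₂
  have hθ₂u : θ₂ ∈ bn_under N (Cfsg.blockOf M (χ₂' : G → ℂ)) := ⟨χ₂, hχ₂, hcon₂⟩
  have hsub := bu_under_union p M hM N hidx χ₂' θ₂ hθ₂u
  have hbeq := bk_mem_blockOf hMp θ₀ θ₂ hθ₂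
  rw [← hbeq] at hsub
  obtain ⟨χ', hχ', hcon'⟩ := hsub hθ₀
  have hχ₀mem : χ₀ ∈ Cfsg.blockOf M (χ₂' : G → ℂ) :=
    bu_closed_of_support N _ (bu_support p M hM N hidx χ₂') χ' χ₀ θ₀ hχ' hcon' hχ₀
  exact bk_mem_blockOf hMp χ₂' χ₀ hχ₀mem

end

end Cfsg.Agent.Lib.Helper25
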