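import Mathlib
import Cfsg.Prelude.Def_Solvable
import Cfsg.Prelude.Def_Blocks
import Cfsg.Agent.Lib.helper7.Induction
import Cfsg.Agent.Lib.Helper25.AugNilChar

/-!
Class sums avoiding C_G(O_p(G)) are nilpotent in characteristic p (S0905); O_p(G) lies in every defect group (S0912).
-/

set_option autoImplicit false
set_option linter.style.haveILetI false

namespace Cfsg.Agent.Lib.Helper25
open Cfsg.Agent.Lib.helper7
section

theorem an_pCore_classSum_nilpotent {G : Type*} [Group G] [Finite G] (p : ℕ) [Fact p.Prime]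
    (F : Type*) [Field F] [CharP F p] (g : G)
    (hg : ∀ x : G, IsConj g x → x ∉ Subgroup.centralizer (Cfsg.pCore p G : Set G)) :
    IsNilpotent (∑ᶠ x ∈ ConjClasses.carrier (ConjClasses.mk g),
      MonoidAlgebra.single x (1 : F) : MonoidAlgebra F G) := by
  classical
  haveI := Fintype.ofFinite G
  haveI : (Cfsg.pCore p G).Normal := Subgroup.sSup_normal _ (fun _ h => h.1)
  have hP : IsPGroup p (Cfsg.pCore p G) := Sylow.sSup_of_normal _ (fun _ h => h.2) (fun _ h => h.1)
  have h1 := an_classSum_nilpotent (F := F) p (Cfsg.pCore p G) hP g hg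
  have h2 : (∑ᶠ x ∈ ConjClasses.carrier (ConjClasses.mk g),
      MonoidAlgebra.single x (1 : F) : MonoidAlgebra F G) =
      ∑ x ∈ Finset.univ.filter (IsConj g), MonoidAlgebra.single x (1 : F) := by
    rw [h7_finsum_mem_fintype, Finset.sum_filter]
    refine Finset.sum_congr rfl fun x _ => ?_
    have hiff : x ∈ ConjClasses.carrier (ConjClasses.mk g) ↔ IsConj g x := by
      rw [ConjClasses.mem_carrier_iff_mk_eq, ConjClasses.mk_eq_mk_iff_isConj]
      exact ⟨fun h => h.symm, fun h => h.symm⟩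
    by_cases h : IsConj g x
    · rw [if_pos h, if_pos (hiff.mpr h)]
    · rw [if_neg h, if_neg (fun h' => h (hiff.mp h'))]
  rw [h2]
  exact h1

end

section

theorem an_pCore_le_defectGroup {G : Type*} [Group G] [Finite G] (p : ℕ) [Fact p.Prime]
    (M : Ideal Cfsg.AlgInt) (hM : Cfsg.IsPModular p M) (B : Set (Cfsg.IrrCharacter G))
    (hB : Cfsg.IsPBlock M B) (D : Subgroup G) (hD : Cfsg.IsDefectGroup p M B D) :
    Cfsg.pCore p G ≤ D := by
  classical
  haveI := Fintype.ofFinite G
  haveI : Fintype (Cfsg.IrrCharacter G) := Fintype.ofFinite _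
  have hMp := hM.2.1.isPrime
  haveI hON : (Cfsg.pCore p G).Normal := Subgroup.sSup_normal _ (fun _ h => h.1)
  have hOP : IsPGroup p (Cfsg.pCore p G) := Sylow.sSup_of_normal _ (fun _ h => h.2) (fun _ h => h.1)
  obtain ⟨χ₀, rfl⟩ := hB
  have hχ₀ : χ₀ ∈ Cfsg.blockOf M (χ₀ : G → ℂ) := h7_sameBlock_refl hMp _
  obtain ⟨g, ⟨_, _, hdc⟩, P, rfl⟩ := hD
  have h1 := hdc χ₀ hχ₀
  -- g centralizes the p-core
  have hg : g ∈ Subgroup.centralizer (Cfsg.pCore p G : Set G) := by
    by_contra hg
    apply h1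
    apply an_centralChar_mem p M hM (Cfsg.pCore p G) hOP g _ χ₀
    intro y hy hyC
    apply hg
    obtain ⟨c, hc⟩ := isConj_iff.mp hy
    have : g = c⁻¹ * y * c⁻¹⁻¹ := by
      rw [← hc]
      group
    rw [this]
    exact (inferInstance : (Subgroup.centralizer (Cfsg.pCore p G : Set G)).Normal).conj_mem y hyC c⁻¹
  have hle : Cfsg.pCore p G ≤ Subgroup.centralizer ({g} : Set G) := by
    intro x hx
    rw [Subgroup.mem_centralizer_iff]
    intro y hy
    rw [Set.mem_singleton_iff] at hy
    subst hy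
    exact ((Subgroup.mem_centralizer_iff.mp hg) x hx).symm
  haveI : ((Cfsg.pCore p G).subgroupOf (Subgroup.centralizer ({g} : Set G))).Normal :=
    Subgroup.Normal.subgroupOf hON _
  have hp' : IsPGroup p ((Cfsg.pCore p G).subgroupOf (Subgroup.centralizer ({g} : Set G))) :=
    hOP.comap_of_injective (Subgroup.centralizer ({g} : Set G)).subtype
      (Subgroup.subtype_injective _)
  have hsub : (Cfsg.pCore p G).subgroupOf (Subgroup.centralizer ({g} : Set G)) ≤ P :=
    hp'.le_sylow_of_normal P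
  intro x hx
  have hmem : (⟨x, hle hx⟩ : Subgroup.centralizer ({g} : Set G)) ∈
      (Cfsg.pCore p G).subgroupOf (Subgroup.centralizer ({g} : Set G)) :=
    Subgroup.mem_subgroupOf.mpr hx
  exact ⟨⟨x, hle hx⟩, hsub hmem, rfl⟩

end

end Cfsg.Agent.Lib.Helper25
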