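import Mathlib
import Cfsg.Prelude.Def_Blocks
import Cfsg.Prelude.Def_BrauerPairs
import Cfsg.Agent.Lib.helper7.OrbitSum
import Cfsg.Agent.Lib.helper7.BlockEval
import Cfsg.Agent.Lib.helper7.BlockDefect2
import Cfsg.Agent.Lib.helper7.CliffordSub
import Cfsg.Agent.Lib.Helper25.BlockPIndex
import Cfsg.Agent.Lib.Helper25.PrincipalDefect
import Cfsg.Agent.Lib.Helper25.CharLinear

/-!
Brauer map basics: orbit sums modulo the local ideal, central characters at class-constant coefficient functions, the principal Brauer pair and stability of principal blocks.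
-/

set_option autoImplicit false
set_option linter.style.haveILetI false
set_option linter.unusedVariables false
set_option warn.classDefReducibility false

namespace Cfsg.Agent.Lib.Helper25
open Cfsg.Agent.Lib.helper7
section

/-- sum of an invariant local-integer-valued function over a set with `p`-group action is
congruent to the sum over the fixed points -/
theorem bm_orbit_sum {P X : Type*} [Group P] [Fintype P] [MulAction P X] [Fintype X]
    (p : ℕ) [hp : Fact p.Prime] (M : Ideal Cfsg.AlgInt) (hM : Cfsg.IsPModular p M)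
    (hP : IsPGroup p P) (f : X → ℂ)
    (hf : ∀ (a : P) (x : X), f (a • x) = f x) (hfR : ∀ x, Cfsg.MemLocalRing M (f x))
    [DecidablePred (fun x : X => ∀ a : P, a • x = x)] :
    Cfsg.MemLocalIdeal M (∑ x : X, f x -
      ∑ x ∈ Finset.univ.filter (fun x : X => ∀ a : P, a • x = x), f x) := by
  classical
  have hMp := hM.2.1.isPrime
  haveI : Fintype (Quotient (MulAction.orbitRel P X)) := Fintype.ofFinite _
  have hfix : ∀ (b : P) (x : X), (∀ a : P, a • x = x) ↔ (∀ a : P, a • (b • x) = b • x) := by
    intro b x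
    constructor
    · intro h a
      rw [h b, h a]
    · intro h a
      have h1 := h (b * a * b⁻¹)
      rw [← mul_smul, mul_assoc, inv_mul_cancel, mul_one, mul_smul] at h1
      exact smul_left_cancel b h1
  let g : X → ℂ := fun x => if (∀ a : P, a • x = x) then 0 else f x
  have hg : ∀ (a : P) (x : X), g (a • x) = g x := by
    intro a x
    simp only [g]
    by_cases h : ∀ c : P, c • x = x
    · rw [if_pos h, if_pos ((hfix a x).mp h)]
    · rw [if_neg h, if_neg (fun h' => h ((hfix a x).mpr h')), hf]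
  have h1 : Cfsg.MemLocalIdeal M (∑ x : X, g x) := by
    rw [h7_sum_eq_sum_orbits g hg]
    apply h7_memLocalIdeal_sum hMp
    intro ω _
    by_cases h : ∀ c : P, c • (Quotient.out ω) = Quotient.out ω
    · simp only [g]
      rw [if_pos h, smul_zero]
      exact h7_memLocalIdeal_zero hMp
    · have hne : MulAction.stabilizer P (Quotient.out ω) ≠ ⊤ := by
        intro htop
        apply h
        intro c
        have : c ∈ MulAction.stabilizer P (Quotient.out ω) := by
          rw [htop]
          exact Subgroup.mem_top c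
        exact this
      obtain ⟨n, hn⟩ := hP.index (MulAction.stabilizer P (Quotient.out ω))
      have hidx : Nat.card P / Nat.card (MulAction.stabilizer P (Quotient.out ω)) =
          (MulAction.stabilizer P (Quotient.out ω)).index := by
        rw [← Subgroup.index_mul_card (MulAction.stabilizer P (Quotient.out ω)),
          Nat.mul_div_cancel _ Nat.card_pos]
      rw [hidx, hn]
      have hn0 : n ≠ 0 := by
        intro h0
        rw [h0, pow_zero] at hn
        exact hne (Subgroup.index_eq_one.mp hn)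
      obtain ⟨k, rfl⟩ := Nat.exists_eq_succ_of_ne_zero hn0
      rw [nsmul_eq_mul]
      simp only [g]
      rw [if_neg h]
      have e : ((p ^ (k + 1) : ℕ) : ℂ) * f (Quotient.out ω) =
          (p : ℂ) * (((p ^ k : ℕ) : ℂ) * f (Quotient.out ω)) := by
        push_cast
        ring
      rw [e]
      exact h7_memLocalIdeal_mul_right hMp (h7_memLocalIdeal_p hM)
        (h7_memLocalRing_mul hMp (h7_memLocalRing_natCast hMp _) (hfR _))
  have h2 : ∀ x : X, f x = g x + (if (∀ a : P, a • x = x) then f x else 0) := by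
    intro x
    simp only [g]
    by_cases h : ∀ c : P, c • x = x
    · rw [if_pos h, if_pos h, zero_add]
    · rw [if_neg h, if_neg h, add_zero]
  have h3 : ∑ x : X, f x - ∑ x ∈ Finset.univ.filter (fun x : X => ∀ a : P, a • x = x), f x =
      ∑ x : X, g x := by
    rw [Finset.sum_congr rfl (fun x _ => h2 x), Finset.sum_add_distrib, Finset.sum_filter]
    ring_nf
  rw [h3]
  exact h1

end

section

/-- the central character of `ξ` evaluated at the central element with coefficient function `β` -/
noncomputable def bm_omega {H : Type*} [Group H] [Fintype H] (β : H → ℂ) (ξ : H → ℂ) : ℂ :=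
  ∑ x : H, β x * ξ x / ξ 1

theorem bm_omega_expand {H : Type*} [Group H] [Fintype H] [Fintype (ConjClasses H)]
    (β : H → ℂ) (hβ : ∀ g h : H, β (h * g * h⁻¹) = β g) (ξ : Cfsg.IrrCharacter H) :
    bm_omega β (ξ : H → ℂ) = ∑ K : ConjClasses H, β (Quotient.out K) *
      Cfsg.centralChar (ξ : H → ℂ) (Quotient.out K) := by
  unfold bm_omega
  have hcl : ∀ g h : H, β (h * g * h⁻¹) * (ξ : H → ℂ) (h * g * h⁻¹) / (ξ : H → ℂ) 1 =
      β g * (ξ : H → ℂ) g / (ξ : H → ℂ) 1 := by
    intro g h
    rw [hβ, irr_conj_invariant]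
  rw [h7_sum_eq_sum_conjClasses _ hcl]
  refine Finset.sum_congr rfl fun K _ => ?_
  unfold Cfsg.centralChar
  rw [nsmul_eq_mul]
  ring

/-- `ω_ξ(β)` is a local integer when `β` is a class function with local integer values -/
theorem bm_omega_mem {H : Type*} [Group H] [Fintype H] {M : Ideal Cfsg.AlgInt} (hM : M.IsPrime)
    (β : H → ℂ) (hβ : ∀ g h : H, β (h * g * h⁻¹) = β g) (hβR : ∀ g, Cfsg.MemLocalRing M (β g))
    (ξ : Cfsg.IrrCharacter H) : Cfsg.MemLocalRing M (bm_omega β (ξ : H → ℂ)) := by
  classical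
  haveI : Fintype (ConjClasses H) := Fintype.ofFinite _
  rw [bm_omega_expand β hβ ξ]
  apply h7_memLocalRing_sum hM
  intro K _
  exact h7_memLocalRing_mul hM (hβR _) (h7_memLocalRing_centralChar hM ξ _)

/-- `ω_ξ(β) ≡ ω_ξ'(β)` for `ξ, ξ'` in the same block -/
theorem bm_omega_congr {H : Type*} [Group H] [Fintype H] {M : Ideal Cfsg.AlgInt} (hM : M.IsPrime)
    (β : H → ℂ) (hβ : ∀ g h : H, β (h * g * h⁻¹) = β g) (hβR : ∀ g, Cfsg.MemLocalRing M (β g))
    (ξ ξ' : Cfsg.IrrCharacter H) (h : Cfsg.SameBlock M (ξ : H → ℂ) (ξ' : H → ℂ)) :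
    Cfsg.MemLocalIdeal M (bm_omega β (ξ : H → ℂ) - bm_omega β (ξ' : H → ℂ)) := by
  classical
  haveI : Fintype (ConjClasses H) := Fintype.ofFinite _
  rw [bm_omega_expand β hβ ξ, bm_omega_expand β hβ ξ', ← Finset.sum_sub_distrib]
  apply h7_memLocalIdeal_sum hM
  intro K _
  rw [← mul_sub]
  exact h7_memLocalIdeal_mul_left hM (hβR _) (h _)

end

section

/-- conjugation action of a subgroup on the group -/
def bm_conjAction {G : Type*} [Group G] (Q : Subgroup G) : MulAction Q G where
  smul u x := (u : G) * x * (u : G)⁻¹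
  one_smul x := by
    show ((1 : Q) : G) * x * ((1 : Q) : G)⁻¹ = x
    simp
  mul_smul u v x := by
    show ((u * v : Q) : G) * x * ((u * v : Q) : G)⁻¹ = (u : G) * ((v : G) * x * (v : G)⁻¹) * (u : G)⁻¹
    simp [mul_assoc]

/-- sum over the group of a class function with local integer values is congruent to the sum over
the centralizer of a `p`-subgroup -/
theorem bm_sum_centralizer {G : Type*} [Group G] [Fintype G] (p : ℕ) [hp : Fact p.Prime]
    (M : Ideal Cfsg.AlgInt) (hM : Cfsg.IsPModular p M) (Q : Subgroup G) (hQ : IsPGroup p Q)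
    [Fintype (Subgroup.centralizer (Q : Set G))]
    (f : G → ℂ) (hf : ∀ (u : Q) (x : G), f ((u : G) * x * (u : G)⁻¹) = f x)
    (hfR : ∀ x, Cfsg.MemLocalRing M (f x)) :
    Cfsg.MemLocalIdeal M (∑ x : G, f x -
      ∑ c : Subgroup.centralizer (Q : Set G), f (c : G)) := by
  classical
  letI := bm_conjAction Q
  haveI : Fintype Q := Fintype.ofFinite _
  have h1 := bm_orbit_sum p M hM hQ f hf hfR
  have h2 : ∑ x ∈ Finset.univ.filter (fun x : G => ∀ a : Q, a • x = x), f x =
      ∑ c : Subgroup.centralizer (Q : Set G), f (c : G) := by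
    apply Finset.sum_subtype
    intro x
    simp only [Finset.mem_filter, Finset.mem_univ, true_and, Subgroup.mem_centralizer_iff]
    constructor
    · intro h u hu
      have := h ⟨u, hu⟩
      have h3 : u * x * u⁻¹ = x := this
      calc u * x = u * x * u⁻¹ * u := by group
        _ = x * u := by rw [h3]
    · intro h u
      show (u : G) * x * (u : G)⁻¹ = x
      rw [h (u : G) u.2, mul_inv_cancel_right]
  rw [h2] at h1
  exact h1

/-- `(Q, b₀(C_G(Q)))` is a Brauer pair of the principal block -/
theorem bm_principal_pair {G : Type*} [Group G] [Fintype G] (p : ℕ) [hp : Fact p.Prime]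
    (M : Ideal Cfsg.AlgInt) (hM : Cfsg.IsPModular p M) (Q : Subgroup G) (hQ : IsPGroup p Q) :
    Cfsg.IsBrauerPairOf p M (Cfsg.principalBlock M G) Q
      (Cfsg.principalBlock M (Subgroup.centralizer (Q : Set G))) := by
  classical
  haveI : Fintype (Cfsg.IrrCharacter G) := Fintype.ofFinite _
  have hMp := hM.2.1.isPrime
  refine ⟨⟨hQ, trivIrr _, pb_principal_eq M⟩, ⟨trivIrr G, pb_principal_eq M⟩, ?_⟩
  set C := Subgroup.centralizer (Q : Set G) with hC
  haveI : Fintype C := Fintype.ofFinite _
  haveI : Fintype (Cfsg.IrrCharacter C) := Fintype.ofFinite _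
  intro ξ hξ
  set β : C → ℂ := fun c => Cfsg.blockCoeff (Cfsg.principalBlock M G) (c : G) with hβ
  have hβcl : ∀ g h : C, β (h * g * h⁻¹) = β g := by
    intro g h
    exact bu_blockCoeff_conj _ (g : G) (h : G)
  have hβR : ∀ g, Cfsg.MemLocalRing M (β g) := by
    intro g
    rw [hβ, pb_principal_eq]
    exact h7_osima hMp (trivIrr G) (g : G)
  have h1 : Cfsg.brauerOmega Q (Cfsg.blockCoeff (Cfsg.principalBlock M G)) (ξ : C → ℂ) =
      bm_omega β (ξ : C → ℂ) := by
    unfold Cfsg.brauerOmega bm_omega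
    rw [finsum_eq_sum_of_fintype]
  rw [h1]
  have h2 := bm_omega_congr hMp β hβcl hβR ξ (trivIrr C) (h7_sameBlock_symm hξ)
  have h3 : bm_omega β ((trivIrr C : Cfsg.IrrCharacter C) : C → ℂ) = ∑ c : C, β c := by
    unfold bm_omega
    refine Finset.sum_congr rfl fun c _ => ?_
    simp
  rw [h3] at h2
  have h4 := bm_sum_centralizer p M hM Q hQ (Cfsg.blockCoeff (Cfsg.principalBlock M G))
    (fun u x => bu_blockCoeff_conj _ x (u : G))
    (fun x => by rw [pb_principal_eq]; exact h7_osima hMp (trivIrr G) x)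
  have h5 : ∑ x : G, Cfsg.blockCoeff (Cfsg.principalBlock M G) x = 1 := by
    have := bu_eval (Cfsg.principalBlock M G) (trivIrr G)
    simp only [trivIrr_apply, mul_one] at this
    rw [this, if_pos]
    rw [pb_principal_eq]
    exact h7_sameBlock_refl hMp _
  rw [h5] at h4
  -- combine: ω - 1 = (ω - Σ_C β) - (1 - Σ_C β)
  have e : bm_omega β (ξ : C → ℂ) - 1 =
      (bm_omega β (ξ : C → ℂ) - ∑ c : C, β c) - (1 - ∑ c : C, β c) := by ring
  rw [e]
  exact h7_memLocalIdeal_sub hMp h2 h4

end

section

theorem bm_index_centralizer_equiv {A B : Type*} [Group A] [Group B] (e : A ≃* B) (a : A) :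
    (Subgroup.centralizer ({e a} : Set B)).index = (Subgroup.centralizer ({a} : Set A)).index := by
  have h : (Subgroup.centralizer ({e a} : Set B)).comap e.toMonoidHom =
      Subgroup.centralizer ({a} : Set A) := by
    ext x
    simp only [Subgroup.mem_comap, Subgroup.mem_centralizer_iff, Set.mem_singleton_iff,
      forall_eq, MulEquiv.coe_toMonoidHom]
    rw [← map_mul, ← map_mul]
    exact e.injective.eq_iff
  rw [← h]
  exact (Subgroup.index_comap_of_surjective _ e.surjective).symm

theorem bm_centralChar_comp_equiv {A B : Type*} [Group A] [Group B] (e : A ≃* B) (ϑ : B → ℂ)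
    (a : A) : Cfsg.centralChar (fun a => ϑ (e a)) a = Cfsg.centralChar ϑ (e a) := by
  unfold Cfsg.centralChar
  simp only [bm_index_centralizer_equiv e a, map_one]

/-- the normalizer of `Q` normalizes the centralizer of `Q` -/
theorem bm_normalizer_centralizer {G : Type*} [Group G] (Q : Subgroup G) (g : G)
    (hg : g ∈ Subgroup.normalizer (Q : Set G)) :
    g ∈ Subgroup.normalizer ((Subgroup.centralizer (Q : Set G) : Subgroup G) : Set G) := by
  rw [Subgroup.mem_normalizer_iff] at hg ⊢
  intro h
  have key : ∀ (g : G), (∀ u, u ∈ Q ↔ g * u * g⁻¹ ∈ Q) →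
      h ∈ Subgroup.centralizer (Q : Set G) → g * h * g⁻¹ ∈ Subgroup.centralizer (Q : Set G) := by
    intro g hg hh
    rw [Subgroup.mem_centralizer_iff] at hh ⊢
    intro u hu
    have hu' : g⁻¹ * u * g ∈ Q := by
      rw [hg (g⁻¹ * u * g)]
      simpa [mul_assoc] using hu
    have := hh _ hu'
    calc u * (g * h * g⁻¹) = g * ((g⁻¹ * u * g) * h) * g⁻¹ := by group
      _ = g * (h * (g⁻¹ * u * g)) * g⁻¹ := by rw [this]
      _ = g * h * g⁻¹ * u := by group
  constructor
  · exact key g hg
  · intro hh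
    have hg' : ∀ u, u ∈ Q ↔ g⁻¹ * u * g⁻¹⁻¹ ∈ Q := by
      intro u
      rw [hg (g⁻¹ * u * g⁻¹⁻¹)]
      simp [mul_assoc]
    have h2 : ∀ (k : G), k ∈ Subgroup.centralizer (Q : Set G) →
        g⁻¹ * k * g⁻¹⁻¹ ∈ Subgroup.centralizer (Q : Set G) := by
      intro k hk
      rw [Subgroup.mem_centralizer_iff] at hk ⊢
      intro u hu
      have hu' : g * u * g⁻¹ ∈ Q := (hg u).mp hu
      have := hk _ hu'
      calc u * (g⁻¹ * k * g⁻¹⁻¹) = g⁻¹ * ((g * u * g⁻¹) * k) * g := by group
        _ = g⁻¹ * (k * (g * u * g⁻¹)) * g := by rw [this]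
        _ = g⁻¹ * k * g⁻¹⁻¹ * u := by group
    have := h2 _ hh
    simpa [mul_assoc] using this

/-- the principal block of a subgroup is stable under any element normalizing it -/
theorem bm_principal_stable {G : Type*} [Group G] [Fintype G] (p : ℕ) [hp : Fact p.Prime]
    (M : Ideal Cfsg.AlgInt) (hM : Cfsg.IsPModular p M) (K : Subgroup G) (g : G)
    (hg : g ∈ Subgroup.normalizer (K : Set G)) :
    Cfsg.StabilizesBlock K (Cfsg.principalBlock M K) g := by
  classical
  have hMp := hM.2.1.isPrime
  refine ⟨hg, ?_⟩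
  intro χ hχ
  have hg' := Subgroup.mem_normalizer_iff.mp hg
  -- the automorphism k ↦ g⁻¹ k g of K
  let φ : K ≃* K :=
    { toFun := fun k => ⟨g⁻¹ * (k : G) * g, by
        have := (hg' (g⁻¹ * (k : G) * g)).mpr (by simpa [mul_assoc] using k.2)
        exact this⟩
      invFun := fun k => ⟨g * (k : G) * g⁻¹, (hg' (k : G)).mp k.2⟩
      left_inv := fun k => by
        apply Subtype.ext
        simp [mul_assoc]
      right_inv := fun k => by
        apply Subtype.ext
        simp [mul_assoc]
      map_mul' := fun a b => by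
        apply Subtype.ext
        simp [mul_assoc] }
  have hφ : ∀ k : K, ((φ k : K) : G) = g⁻¹ * (k : G) * g := fun k => rfl
  let χ' : Cfsg.IrrCharacter K := ⟨fun k => (χ : K → ℂ) (φ k), h7_isIrr_comp_equiv φ _ χ.2⟩
  refine ⟨χ', ?_, ?_⟩
  · -- χ' in the principal block
    show Cfsg.SameBlock M (fun _ : K => (1 : ℂ)) (χ' : K → ℂ)
    intro k
    have h1 : Cfsg.centralChar ((χ' : Cfsg.IrrCharacter K) : K → ℂ) k =
        Cfsg.centralChar (χ : K → ℂ) (φ k) := bm_centralChar_comp_equiv φ _ k
    have h2 : Cfsg.centralChar (fun _ : K => (1 : ℂ)) k =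
        Cfsg.centralChar (fun _ : K => (1 : ℂ)) (φ k) :=
      (bm_centralChar_comp_equiv φ (fun _ : K => (1 : ℂ)) k)
    rw [h1, h2]
    exact hχ (φ k)
  · intro k k' hk
    show (χ : K → ℂ) (φ k') = (χ : K → ℂ) k
    have : φ k' = k := by
      apply Subtype.ext
      rw [hφ, hk]
      group
    rw [this]

end

end Cfsg.Agent.Lib.Helper25
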