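import Mathlib
import Cfsg.Prelude.Def_Blocks
import Cfsg.Agent.Lib.helper7.BlockInd
import Cfsg.Agent.Lib.helper7.BlockInd2
import Cfsg.Agent.Lib.helper7.BlockDefect2
import Cfsg.Agent.Lib.helper7.BlockCover
import Cfsg.Agent.Lib.helper2.CharInd
import Cfsg.Agent.Lib.helper2.CharNat

/-!
The block parts of an induced character: valuation of the degree of the part in the induced block.
-/

set_option autoImplicit false
set_option linter.style.haveILetI false
set_option linter.unusedVariables false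
set_option warn.classDefReducibility false

namespace Cfsg.Agent.Lib.Helper25
open Cfsg.Agent.Lib.helper7
open Cfsg.Agent.Lib.helper2
section

/-- a ratio of naturals in the local ideal has numerator of higher `p`-adic valuation -/
theorem ib_ratio_mem {p : ℕ} [hp : Fact p.Prime] {M : Ideal Cfsg.AlgInt}
    (hM : Cfsg.IsPModular p M) (n m : ℕ) (hm : m ≠ 0)
    (h : Cfsg.MemLocalIdeal M ((n : ℂ) / (m : ℂ))) :
    n = 0 ∨ m.factorization p < n.factorization p := by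
  have hMp := hM.2.1.isPrime
  by_cases hn : n = 0
  · exact Or.inl hn
  right
  by_contra hle
  push Not at hle
  -- n = p^a n', m = p^b m'
  set a := n.factorization p with ha
  set b := m.factorization p with hb
  have hn' : p ^ a * (n / p ^ a) = n := Nat.ordProj_mul_ordCompl_eq_self n p
  have hm' : p ^ b * (m / p ^ b) = m := Nat.ordProj_mul_ordCompl_eq_self m p
  have hn'p : ¬ p ∣ n / p ^ a := Nat.not_dvd_ordCompl hp.out hn
  have hm'p : ¬ p ∣ m / p ^ b := Nat.not_dvd_ordCompl hp.out hm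
  set n' := n / p ^ a
  set m' := m / p ^ b
  have hp0 : (p : ℂ) ≠ 0 := by exact_mod_cast hp.out.ne_zero
  have hm'0 : (m' : ℂ) ≠ 0 := by
    intro h0
    have : m' = 0 := by exact_mod_cast h0
    rw [this] at hm'p
    exact hm'p (dvd_zero _)
  -- n' = m' * p^(b-a) * (n/m)
  have h1 : (n' : ℂ) = ((m' : ℂ) * (p : ℂ) ^ (b - a)) * ((n : ℂ) / (m : ℂ)) := by
    have hmC : (m : ℂ) ≠ 0 := by exact_mod_cast hm
    have e1 : (n : ℂ) = (p : ℂ) ^ a * (n' : ℂ) := by rw [← hn']; push_cast; ring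
    have e2 : (m : ℂ) = (p : ℂ) ^ b * (m' : ℂ) := by rw [← hm']; push_cast; ring
    have e3 : (p : ℂ) ^ b = (p : ℂ) ^ (b - a) * (p : ℂ) ^ a := by
      rw [← pow_add, Nat.sub_add_cancel hle]
    rw [e1, e2, e3]
    have : ((p : ℂ) ^ (b - a)) ≠ 0 := pow_ne_zero _ hp0
    have : ((p : ℂ) ^ a) ≠ 0 := pow_ne_zero _ hp0
    field_simp
  have h2 : Cfsg.MemLocalIdeal M (n' : ℂ) := by
    rw [h1]
    apply h7_memLocalIdeal_mul_left hMp _ h
    have := h7_memLocalRing_natCast hMp (m' * p ^ (b - a))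
    simpa using this
  exact hn'p ((h7_memLocalIdeal_natCast_iff hM n').mp h2)

/-- a ratio of naturals congruent to one modulo the local ideal has equal valuations -/
theorem ib_ratio_one {p : ℕ} [hp : Fact p.Prime] {M : Ideal Cfsg.AlgInt}
    (hM : Cfsg.IsPModular p M) (n m : ℕ) (hm : m ≠ 0)
    (h : Cfsg.MemLocalIdeal M ((n : ℂ) / (m : ℂ) - 1)) :
    n ≠ 0 ∧ n.factorization p = m.factorization p := by
  have hMp := hM.2.1.isPrime
  have hmC : (m : ℂ) ≠ 0 := by exact_mod_cast hm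
  have hn : n ≠ 0 := by
    rintro rfl
    rw [Nat.cast_zero, zero_div, zero_sub] at h
    have := h7_memLocalIdeal_neg h
    rw [neg_neg] at this
    exact h7_not_memLocalIdeal_one hMp this
  refine ⟨hn, ?_⟩
  have hnC : (n : ℂ) ≠ 0 := by exact_mod_cast hn
  -- not in the ideal
  have h1 : ¬ Cfsg.MemLocalIdeal M ((n : ℂ) / (m : ℂ)) := by
    intro h2
    apply h7_not_memLocalIdeal_one hMp
    have e : (1 : ℂ) = (n : ℂ) / (m : ℂ) - ((n : ℂ) / (m : ℂ) - 1) := by ring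
    rw [e]
    exact h7_memLocalIdeal_sub hMp h2 h
  have hle : n.factorization p ≤ m.factorization p := by
    by_contra hlt
    push Not at hlt
    -- n/m = p^(a-b) n'/m' ∈ M
    apply h1
    set a := n.factorization p with ha
    set b := m.factorization p with hb
    have hn' : p ^ a * (n / p ^ a) = n := Nat.ordProj_mul_ordCompl_eq_self n p
    have hm' : p ^ b * (m / p ^ b) = m := Nat.ordProj_mul_ordCompl_eq_self m p
    have hm'p : ¬ p ∣ m / p ^ b := Nat.not_dvd_ordCompl hp.out hm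
    set n' := n / p ^ a
    set m' := m / p ^ b
    have hp0 : (p : ℂ) ≠ 0 := by exact_mod_cast hp.out.ne_zero
    have hm'0 : (m' : ℂ) ≠ 0 := by
      intro h0
      have : m' = 0 := by exact_mod_cast h0
      rw [this] at hm'p
      exact hm'p (dvd_zero _)
    have hcop : m'.Coprime p := (Nat.Coprime.symm ((Nat.Prime.coprime_iff_not_dvd hp.out).mpr hm'p))
    have e : (n : ℂ) / (m : ℂ) = (p : ℂ) * (((p : ℂ) ^ (a - b - 1) * (n' : ℂ)) * (m' : ℂ)⁻¹) := by
      have e1 : (n : ℂ) = (p : ℂ) ^ a * (n' : ℂ) := by rw [← hn']; push_cast; ring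
      have e2 : (m : ℂ) = (p : ℂ) ^ b * (m' : ℂ) := by rw [← hm']; push_cast; ring
      have e3 : (p : ℂ) ^ a = (p : ℂ) ^ (a - b - 1) * (p : ℂ) * (p : ℂ) ^ b := by
        rw [← pow_succ, ← pow_add]
        congr 1
        omega
      rw [e1, e2, e3]
      have : ((p : ℂ) ^ b) ≠ 0 := pow_ne_zero _ hp0
      field_simp
    rw [e]
    apply h7_memLocalIdeal_mul_right hMp (h7_memLocalIdeal_p hM)
    apply h7_memLocalRing_mul hMp _ (h7_memLocalRing_inv_natCast hM m' hcop)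
    have := h7_memLocalRing_natCast hMp (p ^ (a - b - 1) * n')
    simpa using this
  have hge : m.factorization p ≤ n.factorization p := by
    by_contra hlt
    push Not at hlt
    -- m/n ∈ M, so m/n * ... hmm: use ib_ratio_mem on m/n? we know n/m ≡ 1
    -- n/m - 1 ∈ M ⇒ (n - m)/m ∈ M; multiply by m/n? instead: m/n = 1 / (n/m)
    -- show n/m ∈ M would follow from valuations? No: here v(n) < v(m), so m/n ∈ M.
    have h2 : Cfsg.MemLocalIdeal M ((m : ℂ) / (n : ℂ)) := by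
      set a := n.factorization p with ha
      set b := m.factorization p with hb
      have hn' : p ^ a * (n / p ^ a) = n := Nat.ordProj_mul_ordCompl_eq_self n p
      have hm' : p ^ b * (m / p ^ b) = m := Nat.ordProj_mul_ordCompl_eq_self m p
      have hn'p : ¬ p ∣ n / p ^ a := Nat.not_dvd_ordCompl hp.out hn
      set n' := n / p ^ a
      set m' := m / p ^ b
      have hp0 : (p : ℂ) ≠ 0 := by exact_mod_cast hp.out.ne_zero
      have hn'0 : (n' : ℂ) ≠ 0 := by
        intro h0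
        have : n' = 0 := by exact_mod_cast h0
        rw [this] at hn'p
        exact hn'p (dvd_zero _)
      have hcop : n'.Coprime p :=
        (Nat.Coprime.symm ((Nat.Prime.coprime_iff_not_dvd hp.out).mpr hn'p))
      have e : (m : ℂ) / (n : ℂ) = (p : ℂ) * (((p : ℂ) ^ (b - a - 1) * (m' : ℂ)) * (n' : ℂ)⁻¹) := by
        have e1 : (n : ℂ) = (p : ℂ) ^ a * (n' : ℂ) := by rw [← hn']; push_cast; ring
        have e2 : (m : ℂ) = (p : ℂ) ^ b * (m' : ℂ) := by rw [← hm']; push_cast; ring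
        have e3 : (p : ℂ) ^ b = (p : ℂ) ^ (b - a - 1) * (p : ℂ) * (p : ℂ) ^ a := by
          rw [← pow_succ, ← pow_add]
          congr 1
          omega
        rw [e1, e2, e3]
        have : ((p : ℂ) ^ a) ≠ 0 := pow_ne_zero _ hp0
        field_simp
      rw [e]
      apply h7_memLocalIdeal_mul_right hMp (h7_memLocalIdeal_p hM)
      apply h7_memLocalRing_mul hMp _ (h7_memLocalRing_inv_natCast hM n' hcop)
      have := h7_memLocalRing_natCast hMp (p ^ (b - a - 1) * m')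
      simpa using this
    -- 1 = (m/n) * (n/m), and n/m = 1 + (n/m - 1) is a local integer
    apply h7_not_memLocalIdeal_one hMp
    have hR : Cfsg.MemLocalRing M ((n : ℂ) / (m : ℂ)) := by
      have e : (n : ℂ) / (m : ℂ) = 1 + ((n : ℂ) / (m : ℂ) - 1) := by ring
      rw [e]
      have h1R : Cfsg.MemLocalRing M (1 : ℂ) := by
        have := h7_memLocalRing_natCast hMp 1
        simpa using this
      exact h7_memLocalRing_add hMp h1R (h7_memLocalRing_of_memLocalIdeal h)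
    have e : (1 : ℂ) = ((m : ℂ) / (n : ℂ)) * ((n : ℂ) / (m : ℂ)) := by
      field_simp
    rw [e]
    exact h7_memLocalIdeal_mul_right hMp h2 hR
  omega

end

section

/-- the key congruence: the `B`-part of the degree of a class function `Ψ` whose central
character is congruent to that of `χ₁` is congruent to `[χ₁ ∈ B] Ψ(1)` -/
theorem ib_key {G : Type*} [Group G] [Fintype G] [Fintype (Cfsg.IrrCharacter G)]
    {M : Ideal Cfsg.AlgInt} (hMp : M.IsPrime) (Ψ : G → ℂ)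
    (hcl : ∀ g h : G, Ψ (h * g * h⁻¹) = Ψ g) (χ₁ χ₂ : Cfsg.IrrCharacter G)
    [DecidablePred (· ∈ Cfsg.blockOf M (χ₂ : G → ℂ))]
    (hcong : ∀ g : G, Cfsg.MemLocalIdeal M (Cfsg.centralChar Ψ g -
      Cfsg.centralChar (χ₁ : G → ℂ) g)) :
    Cfsg.MemLocalIdeal M ((∑ χ : Cfsg.IrrCharacter G,
      (if χ ∈ Cfsg.blockOf M (χ₂ : G → ℂ) then
        Cfsg.classInner Ψ (χ : G → ℂ) * (χ : G → ℂ) 1 else 0)) / Ψ 1 -
      (if χ₁ ∈ Cfsg.blockOf M (χ₂ : G → ℂ) then 1 else 0)) := by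
  classical
  haveI : Fintype (ConjClasses G) := Fintype.ofFinite _
  set c : Cfsg.IrrCharacter G → ℂ :=
    fun χ => if χ ∈ Cfsg.blockOf M (χ₂ : G → ℂ) then (1 : ℂ) else 0 with hc
  have hcm : c ∈ h7_intSubring (G := G) M hMp := by
    have := h7_block_indicator_mem hMp χ₂
    convert this
  have h1 : ∑ g : G, h7_coef c g * Ψ g = ∑ χ : Cfsg.IrrCharacter G,
      (if χ ∈ Cfsg.blockOf M (χ₂ : G → ℂ) then
        Cfsg.classInner Ψ (χ : G → ℂ) * (χ : G → ℂ) 1 else 0) := by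
    rw [h7_sum_coef_mul_classfun c Ψ hcl]
    refine Finset.sum_congr rfl fun χ _ => ?_
    simp only [hc]
    split_ifs
    · rw [one_mul]
    · rw [zero_mul, mul_zero]
  have h2 := h7_sum_coef_centralChar c Ψ hcl
  rw [h1] at h2
  have h3 := h7_eval_expand c χ₁
  have hc1 : c χ₁ = if χ₁ ∈ Cfsg.blockOf M (χ₂ : G → ℂ) then (1 : ℂ) else 0 := rfl
  rw [h2, ← hc1, h3, ← Finset.sum_sub_distrib]
  apply h7_memLocalIdeal_sum hMp
  intro K _
  rw [← mul_sub]
  exact h7_memLocalIdeal_mul_left hMp (hcm _) (hcong _)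

end

section

theorem ib_blockPart_apply {G : Type*} [Group G] [Fintype G] (B : Set (Cfsg.IrrCharacter G))
    (Ψ : G → ℂ) (g : G) :
    Cfsg.blockPart B Ψ g = ∑ᶠ χ ∈ B, Cfsg.classInner Ψ (χ : G → ℂ) * (χ : G → ℂ) g := by
  unfold Cfsg.blockPart
  congr!

theorem ib_blockOf_eq {G : Type*} [Group G] [Fintype G] {M : Ideal Cfsg.AlgInt} (hMp : M.IsPrime)
    (χ₁ χ₂ : Cfsg.IrrCharacter G) (h : χ₁ ∈ Cfsg.blockOf M (χ₂ : G → ℂ)) :
    Cfsg.blockOf M (χ₂ : G → ℂ) = Cfsg.blockOf M (χ₁ : G → ℂ) := by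
  haveI : Fintype (Cfsg.IrrCharacter G) := Fintype.ofFinite _
  ext χ
  constructor
  · intro hχ
    exact h7_sameBlock_trans hMp (h7_sameBlock_symm h) hχ
  · intro hχ
    exact h7_sameBlock_trans hMp h hχ

theorem ib_main {G : Type*} [Group G] [Fintype G] (p : ℕ) [hp : Fact p.Prime]
    (M : Ideal Cfsg.AlgInt) (hM : Cfsg.IsPModular p M) (H : Subgroup G) [Fintype H]
    (b : Set (Cfsg.IrrCharacter H)) (B₀ : Set (Cfsg.IrrCharacter G))
    (hind : Cfsg.IsInducedBlock M H b B₀) (ξ : Cfsg.IrrCharacter H) (hξ : ξ ∈ b) :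
    (∃ n : ℕ, Cfsg.blockPart B₀ (Cfsg.indFun H (ξ : H → ℂ)) 1 = (n : ℂ) ∧ n ≠ 0 ∧
      n.factorization p = (Cfsg.charDegree (Cfsg.indFun H (ξ : H → ℂ))).factorization p) ∧
    ∀ B : Set (Cfsg.IrrCharacter G), Cfsg.IsPBlock M B → B ≠ B₀ →
      ∃ n : ℕ, Cfsg.blockPart B (Cfsg.indFun H (ξ : H → ℂ)) 1 = (n : ℂ) ∧
        (n = 0 ∨ (Cfsg.charDegree (Cfsg.indFun H (ξ : H → ℂ))).factorization p <
          n.factorization p) := by
  classical
  haveI : Fintype (Cfsg.IrrCharacter G) := Fintype.ofFinite _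
  have hMp := hM.2.1.isPrime
  obtain ⟨hb, ⟨χ₁, rfl⟩, hcong⟩ := hind
  have h1 : χ₁ ∈ Cfsg.blockOf M (χ₁ : G → ℂ) := h7_sameBlock_refl hMp _
  set Ψ := Cfsg.indFun H (ξ : H → ℂ) with hΨ
  have hΨchar : Cfsg.IsCharacter G Ψ := isCharacter_indFun H _ (isCharacter_of_irr ξ)
  obtain ⟨a, ha, _⟩ := isCharacter_expansion hΨchar
  have hcl : ∀ g h : G, Ψ (h * g * h⁻¹) = Ψ g := fun g h => h7_indFun_conj H _ g h
  obtain ⟨hζd1, hζd2, hζd3⟩ := h7_charDegree_props ξ
  set D := H.index * Cfsg.charDegree (ξ : H → ℂ) with hD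
  have hidx0 : H.index ≠ 0 := Subgroup.index_ne_zero_of_finite
  have hD0 : D ≠ 0 := Nat.mul_ne_zero hidx0 hζd2.ne'
  have hΨ1 : Ψ 1 = (D : ℂ) := by
    rw [hΨ, h7_indFun_one, hD, ← hζd3]
    push_cast
    ring
  have hdegΨ : Cfsg.charDegree Ψ = D := by
    unfold Cfsg.charDegree
    rw [hΨ1, Complex.natCast_re, Nat.floor_natCast]
  have hcong' : ∀ g : G, Cfsg.MemLocalIdeal M (Cfsg.centralChar Ψ g -
      Cfsg.centralChar (χ₁ : G → ℂ) g) := by
    intro g
    rw [hΨ, ← Cfsg.Agent.S0932.induced_eq]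
    exact hcong ξ hξ χ₁ h1 g
  -- the block parts are natural numbers
  have hnat : ∀ χ₂ : Cfsg.IrrCharacter G,
      Cfsg.blockPart (Cfsg.blockOf M (χ₂ : G → ℂ)) Ψ 1 =
      ((∑ χ : Cfsg.IrrCharacter G, if χ ∈ Cfsg.blockOf M (χ₂ : G → ℂ) then
        a χ * Cfsg.charDegree (χ : G → ℂ) else 0 : ℕ) : ℂ) ∧
      ((∑ χ : Cfsg.IrrCharacter G, if χ ∈ Cfsg.blockOf M (χ₂ : G → ℂ) then
        a χ * Cfsg.charDegree (χ : G → ℂ) else 0 : ℕ) : ℂ) =
      ∑ χ : Cfsg.IrrCharacter G, (if χ ∈ Cfsg.blockOf M (χ₂ : G → ℂ) then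
        Cfsg.classInner Ψ (χ : G → ℂ) * (χ : G → ℂ) 1 else 0) := by
    intro χ₂
    have e2 : ((∑ χ : Cfsg.IrrCharacter G, if χ ∈ Cfsg.blockOf M (χ₂ : G → ℂ) then
        a χ * Cfsg.charDegree (χ : G → ℂ) else 0 : ℕ) : ℂ) =
      ∑ χ : Cfsg.IrrCharacter G, (if χ ∈ Cfsg.blockOf M (χ₂ : G → ℂ) then
        Cfsg.classInner Ψ (χ : G → ℂ) * (χ : G → ℂ) 1 else 0) := by
      push_cast
      refine Finset.sum_congr rfl fun χ _ => ?_
      split_ifs
      · rw [ha χ, (h7_charDegree_props χ).2.2]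
      · rfl
    refine ⟨?_, e2⟩
    rw [e2, ib_blockPart_apply, finsum_mem_def, finsum_eq_sum_of_fintype]
    refine Finset.sum_congr rfl fun χ _ => ?_
    rw [Set.indicator_apply]
  constructor
  · obtain ⟨e1, e2⟩ := hnat χ₁
    refine ⟨_, e1, ?_⟩
    have hk := ib_key hMp Ψ hcl χ₁ χ₁ hcong'
    rw [if_pos h1, ← e2, hΨ1] at hk
    rw [hdegΨ]
    exact ib_ratio_one hM _ D hD0 hk
  · rintro B ⟨χ₂, rfl⟩ hne
    obtain ⟨e1, e2⟩ := hnat χ₂
    refine ⟨_, e1, ?_⟩
    have hnot : χ₁ ∉ Cfsg.blockOf M (χ₂ : G → ℂ) := fun h => hne (ib_blockOf_eq hMp χ₁ χ₂ h)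
    have hk := ib_key hMp Ψ hcl χ₁ χ₂ hcong'
    rw [if_neg hnot, sub_zero, ← e2, hΨ1] at hk
    rw [hdegΨ]
    exact ib_ratio_mem hM _ D hD0 hk

end

end Cfsg.Agent.Lib.Helper25
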