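import Mathlib
import Cfsg.Prelude.Def_Blocks
import Cfsg.Prelude.Def_BlockRank
import Cfsg.Prelude.Def_BrauerPairs
import Cfsg.Agent.Lib.helper7.BlockOsima
import Cfsg.Agent.Lib.helper7.BlockBrauer2
import Cfsg.Agent.Lib.helper7.BlockHom
import Cfsg.Agent.Lib.helper7.Induction
import Cfsg.Agent.Lib.Helper25.InducedBlockPart
import Cfsg.Agent.Lib.Helper25.BrauerMapBasic
import Cfsg.Agent.Lib.Helper25.CharOrth
import Cfsg.Agent.Lib.Helper25.CharBasic

/-!
Every Brauer pair (P, e) belongs to exactly one block: br_omega_eq_eval (brauerOmega of a block idempotent = helper7's h7_brEval at the indicator), br_pair_char (xi in Irr(C_G(P)) determines chi0 with (P, block xi) in B iff chi0 in B), br_blockCoeff_conj, br_omega_congr, br_unique_block.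
-/

set_option autoImplicit false
set_option linter.style.haveILetI false
set_option linter.unusedVariables false
set_option warn.classDefReducibility false
set_option maxHeartbeats 800000

namespace Cfsg.Agent.Lib.Helper25
open Cfsg.Agent.Lib.helper7
open Cfsg.Agent.Lib.helper2
open scoped ComplexConjugate
section

open Classical in
/-- the Brauer-map value of a block idempotent as helper7's evaluation at the indicator -/
theorem br_omega_eq_eval {G : Type*} [Group G] [Fintype G] [Fintype (Cfsg.IrrCharacter G)]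
    (P : Subgroup G) [Fintype (Subgroup.centralizer (P : Set G))]
    (B : Set (Cfsg.IrrCharacter G))
    (ξ : Subgroup.centralizer (P : Set G) → ℂ) :
    Cfsg.brauerOmega P (Cfsg.blockCoeff B) ξ =
      h7_brEval P (Subgroup.centralizer (P : Set G)) ξ
        (fun χ : Cfsg.IrrCharacter G => if χ ∈ B then (1 : ℂ) else 0) := by
  unfold Cfsg.brauerOmega h7_brEval h7_omega
  rw [finsum_eq_sum_of_fintype]
  refine Finset.sum_congr rfl fun x _ => ?_
  rw [h7_brFun_of_mem _ _ _ _ x.2, h7_coef_indicator]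

/-- for `ξ ∈ Irr(C_G(P))` there is a character `χ₀` of `G` such that `(P, block of ξ)` belongs to
a block `B` iff `χ₀ ∈ B` -/
theorem br_pair_char {G : Type*} [Group G] [Fintype G] (p : ℕ) [hp : Fact p.Prime]
    (M : Ideal Cfsg.AlgInt) (hM : Cfsg.IsPModular p M) (P : Subgroup G) (hP : IsPGroup p P)
    (ξ : Cfsg.IrrCharacter (Subgroup.centralizer (P : Set G))) :
    ∃ χ₀ : Cfsg.IrrCharacter G, ∀ χ' : Cfsg.IrrCharacter G,
      (Cfsg.MemLocalIdeal M (Cfsg.brauerOmega P (Cfsg.blockCoeff (Cfsg.blockOf M (χ' : G → ℂ)))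
        (ξ : Subgroup.centralizer (P : Set G) → ℂ) - 1) ↔
        χ₀ ∈ Cfsg.blockOf M (χ' : G → ℂ)) := by
  classical
  haveI : Fintype (Cfsg.IrrCharacter G) := Fintype.ofFinite _
  haveI : Fintype (Subgroup.centralizer (P : Set G)) := Fintype.ofFinite _
  haveI : Fintype (Cfsg.IrrCharacter (Subgroup.centralizer (P : Set G))) := Fintype.ofFinite _
  have hMp := hM.2.1.isPrime
  have hCN : Subgroup.centralizer (P : Set G) ≤ Subgroup.normalizer (P : Set G) :=
    Subgroup.centralizer_le_normalizer (P : Set G)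
  obtain ⟨χ₀, hχ₀⟩ := h7_brauer_hom_block P (Subgroup.centralizer (P : Set G)) hM hP le_rfl hCN ξ
  refine ⟨χ₀, fun χ' => ?_⟩
  have h1 := hχ₀ _ (h7_block_indicator_mem hMp χ')
  rw [br_omega_eq_eval]
  constructor
  · intro h
    by_contra hne
    rw [if_neg hne, sub_zero] at h1
    apply h7_not_memLocalIdeal_one hMp
    have := h7_memLocalIdeal_sub hMp h1 h
    simpa using this
  · intro h
    rw [if_pos h] at h1
    exact h1

end

section

/-- block idempotent coefficients are class functions -/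
theorem br_blockCoeff_conj {G : Type*} [Group G] [Fintype G]
    (B : Set (Cfsg.IrrCharacter G)) (g h : G) :
    Cfsg.blockCoeff B (h * g * h⁻¹) = Cfsg.blockCoeff B g := by
  classical
  haveI : Fintype (Cfsg.IrrCharacter G) := Fintype.ofFinite _
  rw [← h7_coef_indicator, ← h7_coef_indicator]
  exact h7_coef_conj _ g h

/-- the Brauer-map value of a block idempotent only depends on the block of `ξ` -/
theorem br_omega_congr {G : Type*} [Group G] [Fintype G] (p : ℕ) [hp : Fact p.Prime]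
    (M : Ideal Cfsg.AlgInt) (hM : Cfsg.IsPModular p M) (P : Subgroup G)
    (χ' : Cfsg.IrrCharacter G)
    (ξ ξ' : Cfsg.IrrCharacter (Subgroup.centralizer (P : Set G)))
    (h : Cfsg.SameBlock M (ξ : Subgroup.centralizer (P : Set G) → ℂ)
      (ξ' : Subgroup.centralizer (P : Set G) → ℂ)) :
    Cfsg.MemLocalIdeal M
      (Cfsg.brauerOmega P (Cfsg.blockCoeff (Cfsg.blockOf M (χ' : G → ℂ)))
        (ξ : Subgroup.centralizer (P : Set G) → ℂ) -
      Cfsg.brauerOmega P (Cfsg.blockCoeff (Cfsg.blockOf M (χ' : G → ℂ)))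
        (ξ' : Subgroup.centralizer (P : Set G) → ℂ)) := by
  classical
  haveI : Fintype (Cfsg.IrrCharacter G) := Fintype.ofFinite _
  haveI : Fintype (Subgroup.centralizer (P : Set G)) := Fintype.ofFinite _
  have hMp := hM.2.1.isPrime
  have e : ∀ ζ : Subgroup.centralizer (P : Set G) → ℂ,
      Cfsg.brauerOmega P (Cfsg.blockCoeff (Cfsg.blockOf M (χ' : G → ℂ))) ζ =
      bm_omega (fun x : Subgroup.centralizer (P : Set G) =>
        Cfsg.blockCoeff (Cfsg.blockOf M (χ' : G → ℂ)) (x : G)) ζ := by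
    intro ζ
    unfold Cfsg.brauerOmega bm_omega
    rw [finsum_eq_sum_of_fintype]
  rw [e, e]
  apply bm_omega_congr hMp _ _ _ ξ ξ' h
  · intro g k
    show Cfsg.blockCoeff _ ((k * g * k⁻¹ : Subgroup.centralizer (P : Set G)) : G) = _
    rw [Subgroup.coe_mul, Subgroup.coe_mul, Subgroup.coe_inv]
    exact br_blockCoeff_conj _ _ _
  · intro g
    exact h7_osima hMp χ' _

theorem br_unique_block {G : Type*} [Group G] [Fintype G] (p : ℕ) [Fact p.Prime] (M : Ideal Cfsg.AlgInt) (hM : Cfsg.IsPModular p M) (P : Subgroup G) (e : Set (Cfsg.IrrCharacter (Subgroup.centralizer (P : Set G)))) (hPe : Cfsg.IsBrauerPair p M P e) : ∃! B : Set (Cfsg.IrrCharacter G), Cfsg.IsBrauerPairOf p M B P e := by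
  classical
  haveI : Fintype (Cfsg.IrrCharacter G) := Fintype.ofFinite _
  haveI : Fintype (Subgroup.centralizer (P : Set G)) := Fintype.ofFinite _
  haveI : Fintype (Cfsg.IrrCharacter (Subgroup.centralizer (P : Set G))) := Fintype.ofFinite _
  have hMp := hM.2.1.isPrime
  obtain ⟨hP, ξ₀, he⟩ := hPe
  obtain ⟨χ₀, hχ₀⟩ := br_pair_char p M hM P hP ξ₀
  refine ⟨Cfsg.blockOf M (χ₀ : G → ℂ), ?_, ?_⟩
  · refine ⟨⟨hP, ξ₀, he⟩, ⟨χ₀, rfl⟩, ?_⟩
    intro ξ hξ
    rw [he] at hξ
    have h1 := (hχ₀ χ₀).mpr (h7_sameBlock_refl hMp _)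
    have h2 := br_omega_congr p M hM P χ₀ ξ ξ₀ (h7_sameBlock_symm hξ)
    have := h7_memLocalIdeal_add hMp h2 h1
    have e2 : Cfsg.brauerOmega P (Cfsg.blockCoeff (Cfsg.blockOf M (χ₀ : G → ℂ)))
        (ξ : Subgroup.centralizer (P : Set G) → ℂ) - 1 =
        (Cfsg.brauerOmega P (Cfsg.blockCoeff (Cfsg.blockOf M (χ₀ : G → ℂ)))
          (ξ : Subgroup.centralizer (P : Set G) → ℂ) -
        Cfsg.brauerOmega P (Cfsg.blockCoeff (Cfsg.blockOf M (χ₀ : G → ℂ)))
          (ξ₀ : Subgroup.centralizer (P : Set G) → ℂ)) +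
        (Cfsg.brauerOmega P (Cfsg.blockCoeff (Cfsg.blockOf M (χ₀ : G → ℂ)))
          (ξ₀ : Subgroup.centralizer (P : Set G) → ℂ) - 1) := by ring
    rw [e2]
    exact this
  · rintro B' ⟨_, ⟨χ'', rfl⟩, h3⟩
    have hξ₀ : ξ₀ ∈ e := by
      rw [he]
      exact h7_sameBlock_refl hMp _
    have h4 := (hχ₀ χ'').mp (h3 ξ₀ hξ₀)
    exact ib_blockOf_eq hMp χ₀ χ'' h4

end

end Cfsg.Agent.Lib.Helper25
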