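import Mathlib
import Cfsg.Agent.Lib.Helper25.BrauerMapBasic
import Cfsg.Agent.Lib.Helper25.BrauerPairBlock
import Cfsg.Agent.Lib.helper7.CliffordSub
import Cfsg.Agent.Lib.helper7.Fourier
import Cfsg.Agent.Lib.helper7.Conv
import Cfsg.Agent.Lib.helper7.BlockHom
import Cfsg.Agent.Lib.helper7.BlockSing2

/-!
Brauer pairs: conjugation of characters of a normalised subgroup, multiplicativity of the Brauer map modulo the local ideal, block idempotents of a subgroup, and existence and uniqueness of normal subpairs (S4656).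
-/

set_option autoImplicit false
set_option linter.style.haveILetI false
set_option linter.unusedVariables false
set_option warn.classDefReducibility false
set_option maxHeartbeats 1600000

namespace Cfsg.Agent.Lib.Helper25
open Cfsg.Agent.Lib.helper2
open Cfsg.Agent.Lib.helper7
open scoped ComplexConjugate
section

/-- conjugation by an element of the normalizer, as an automorphism of the subgroup -/
def bq_conjEquiv {G : Type*} [Group G] (K : Subgroup G) (g : G)
    (hg : g ∈ Subgroup.normalizer (K : Set G)) : K ≃* K where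
  toFun k := ⟨g * (k : G) * g⁻¹, (Subgroup.mem_normalizer_iff.mp hg (k : G)).mp k.2⟩
  invFun k := ⟨g⁻¹ * (k : G) * g, by
    have := (Subgroup.mem_normalizer_iff.mp hg (g⁻¹ * (k : G) * g)).mpr
      (by simpa [mul_assoc] using k.2)
    exact this⟩
  left_inv k := by
    apply Subtype.ext
    simp [mul_assoc]
  right_inv k := by
    apply Subtype.ext
    simp [mul_assoc]
  map_mul' a b := by
    apply Subtype.ext
    simp [mul_assoc]

theorem bq_conjEquiv_apply {G : Type*} [Group G] (K : Subgroup G) (g : G)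
    (hg : g ∈ Subgroup.normalizer (K : Set G)) (k : K) :
    ((bq_conjEquiv K g hg k : K) : G) = g * (k : G) * g⁻¹ := rfl

theorem bq_conjEquiv_symm_apply {G : Type*} [Group G] (K : Subgroup G) (g : G)
    (hg : g ∈ Subgroup.normalizer (K : Set G)) (k : K) :
    (((bq_conjEquiv K g hg).symm k : K) : G) = g⁻¹ * (k : G) * g := rfl

/-- the conjugate character `χ^g : k ↦ χ(g⁻¹ k g)` -/
noncomputable def bq_conjIrr {G : Type*} [Group G] (K : Subgroup G) (g : G)
    (hg : g ∈ Subgroup.normalizer (K : Set G)) (χ : Cfsg.IrrCharacter K) :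
    Cfsg.IrrCharacter K :=
  ⟨fun k => (χ : K → ℂ) ((bq_conjEquiv K g hg).symm k),
    h7_isIrr_comp_equiv (bq_conjEquiv K g hg).symm _ χ.2⟩

theorem bq_conjIrr_apply {G : Type*} [Group G] (K : Subgroup G) (g : G)
    (hg : g ∈ Subgroup.normalizer (K : Set G)) (χ : Cfsg.IrrCharacter K) (k : K) :
    (bq_conjIrr K g hg χ : K → ℂ) k = (χ : K → ℂ) ((bq_conjEquiv K g hg).symm k) := rfl

/-- value of the conjugate character at a conjugate -/
theorem bq_conjIrr_conj {G : Type*} [Group G] (K : Subgroup G) (g : G)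
    (hg : g ∈ Subgroup.normalizer (K : Set G)) (χ : Cfsg.IrrCharacter K) (k k' : K)
    (h : (k' : G) = g * (k : G) * g⁻¹) :
    (bq_conjIrr K g hg χ : K → ℂ) k' = (χ : K → ℂ) k := by
  rw [bq_conjIrr_apply]
  have e : (bq_conjEquiv K g hg).symm k' = k := by
    apply Subtype.ext
    rw [bq_conjEquiv_symm_apply, h]
    group
  rw [e]

theorem bq_isConjCharOf {G : Type*} [Group G] (K : Subgroup G) (g : G)
    (hg : g ∈ Subgroup.normalizer (K : Set G)) (χ : Cfsg.IrrCharacter K) :
    Cfsg.IsConjCharOf K g (χ : K → ℂ) (bq_conjIrr K g hg χ : K → ℂ) :=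
  fun k k' h => bq_conjIrr_conj K g hg χ k k' h

/-- the conjugate character is determined by `IsConjCharOf` -/
theorem bq_conjIrr_unique {G : Type*} [Group G] (K : Subgroup G) (g : G)
    (hg : g ∈ Subgroup.normalizer (K : Set G)) (χ χ' : Cfsg.IrrCharacter K)
    (h : Cfsg.IsConjCharOf K g (χ : K → ℂ) (χ' : K → ℂ)) : χ' = bq_conjIrr K g hg χ := by
  apply Subtype.ext
  funext k'
  rw [bq_conjIrr_apply]
  apply h
  rw [bq_conjEquiv_symm_apply]
  group

theorem bq_conjIrr_one {G : Type*} [Group G] (K : Subgroup G)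
    (χ : Cfsg.IrrCharacter K) :
    bq_conjIrr K 1 (Subgroup.one_mem _) χ = χ := by
  apply Subtype.ext
  funext k
  rw [bq_conjIrr_apply]
  have e : (bq_conjEquiv K 1 (Subgroup.one_mem _)).symm k = k := by
    apply Subtype.ext
    rw [bq_conjEquiv_symm_apply]
    group
  rw [e]

theorem bq_conjIrr_mul {G : Type*} [Group G] (K : Subgroup G) (g h : G)
    (hg : g ∈ Subgroup.normalizer (K : Set G)) (hh : h ∈ Subgroup.normalizer (K : Set G))
    (χ : Cfsg.IrrCharacter K) :
    bq_conjIrr K (g * h) (Subgroup.mul_mem _ hg hh) χ =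
      bq_conjIrr K g hg (bq_conjIrr K h hh χ) := by
  apply Subtype.ext
  funext k
  rw [bq_conjIrr_apply, bq_conjIrr_apply, bq_conjIrr_apply]
  have e : (bq_conjEquiv K (g * h) (Subgroup.mul_mem _ hg hh)).symm k =
      (bq_conjEquiv K h hh).symm ((bq_conjEquiv K g hg).symm k) := by
    apply Subtype.ext
    rw [bq_conjEquiv_symm_apply, bq_conjEquiv_symm_apply, bq_conjEquiv_symm_apply]
    group
  rw [e]

/-- the conjugate character does not depend on the membership proof -/
theorem bq_conjIrr_congr {G : Type*} [Group G] (K : Subgroup G) (g h : G)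
    (hg : g ∈ Subgroup.normalizer (K : Set G)) (hh : h ∈ Subgroup.normalizer (K : Set G))
    (e : g = h) (χ : Cfsg.IrrCharacter K) : bq_conjIrr K g hg χ = bq_conjIrr K h hh χ := by
  subst e
  rfl

/-- inner conjugation does not move irreducible characters -/
theorem bq_conjIrr_inner {G : Type*} [Group G] (K : Subgroup G) (g : G) (hgK : g ∈ K)
    (hg : g ∈ Subgroup.normalizer (K : Set G)) (χ : Cfsg.IrrCharacter K) :
    bq_conjIrr K g hg χ = χ := by
  apply Subtype.ext
  funext k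
  rw [bq_conjIrr_apply]
  have e : (bq_conjEquiv K g hg).symm k = (⟨g, hgK⟩ : K)⁻¹ * k * (⟨g, hgK⟩ : K)⁻¹⁻¹ := by
    apply Subtype.ext
    rw [bq_conjEquiv_symm_apply]
    simp
  rw [e, irr_conj_invariant]

/-- central characters of conjugate characters -/
theorem bq_centralChar_conj {G : Type*} [Group G] (K : Subgroup G) (g : G)
    (hg : g ∈ Subgroup.normalizer (K : Set G)) (χ : Cfsg.IrrCharacter K) (k : K) :
    Cfsg.centralChar (bq_conjIrr K g hg χ : K → ℂ) k =
      Cfsg.centralChar (χ : K → ℂ) ((bq_conjEquiv K g hg).symm k) :=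
  bm_centralChar_comp_equiv (bq_conjEquiv K g hg).symm _ k

/-- conjugation preserves blocks -/
theorem bq_sameBlock_conj {G : Type*} [Group G] (K : Subgroup G) (g : G)
    (hg : g ∈ Subgroup.normalizer (K : Set G)) (M : Ideal Cfsg.AlgInt)
    (χ ψ : Cfsg.IrrCharacter K) (h : Cfsg.SameBlock M (χ : K → ℂ) (ψ : K → ℂ)) :
    Cfsg.SameBlock M (bq_conjIrr K g hg χ : K → ℂ) (bq_conjIrr K g hg ψ : K → ℂ) := by
  intro k
  rw [bq_centralChar_conj, bq_centralChar_conj]
  exact h _

/-- the conjugate of a set of characters -/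
noncomputable def bq_conjSet {G : Type*} [Group G] (K : Subgroup G) (g : G)
    (hg : g ∈ Subgroup.normalizer (K : Set G)) (S : Set (Cfsg.IrrCharacter K)) :
    Set (Cfsg.IrrCharacter K) := (bq_conjIrr K g hg) '' S

theorem bq_mem_conjSet {G : Type*} [Group G] (K : Subgroup G) (g : G)
    (hg : g ∈ Subgroup.normalizer (K : Set G)) (S : Set (Cfsg.IrrCharacter K))
    (χ : Cfsg.IrrCharacter K) :
    χ ∈ bq_conjSet K g hg S ↔ bq_conjIrr K g⁻¹ (Subgroup.inv_mem _ hg) χ ∈ S := by
  have hinv : ∀ ψ : Cfsg.IrrCharacter K,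
      bq_conjIrr K g⁻¹ (Subgroup.inv_mem _ hg) (bq_conjIrr K g hg ψ) = ψ := by
    intro ψ
    rw [← bq_conjIrr_mul, bq_conjIrr_congr K (g⁻¹ * g) 1 _ (Subgroup.one_mem _) (by group),
      bq_conjIrr_one]
  have hinv' : ∀ ψ : Cfsg.IrrCharacter K,
      bq_conjIrr K g hg (bq_conjIrr K g⁻¹ (Subgroup.inv_mem _ hg) ψ) = ψ := by
    intro ψ
    rw [← bq_conjIrr_mul, bq_conjIrr_congr K (g * g⁻¹) 1 _ (Subgroup.one_mem _) (by group),
      bq_conjIrr_one]
  constructor
  · rintro ⟨ψ, hψ, rfl⟩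
    rw [hinv]
    exact hψ
  · intro h
    exact ⟨_, h, hinv' χ⟩

/-- the conjugate of a block is the block of the conjugate character -/
theorem bq_conjSet_blockOf {G : Type*} [Group G] (K : Subgroup G) (g : G)
    (hg : g ∈ Subgroup.normalizer (K : Set G)) (M : Ideal Cfsg.AlgInt)
    (χ : Cfsg.IrrCharacter K) :
    bq_conjSet K g hg (Cfsg.blockOf M (χ : K → ℂ)) =
      Cfsg.blockOf M (bq_conjIrr K g hg χ : K → ℂ) := by
  ext ψ
  rw [bq_mem_conjSet]
  constructor
  · intro h
    have h1 := bq_sameBlock_conj K g hg M _ _ h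
    have e : bq_conjIrr K g hg (bq_conjIrr K g⁻¹ (Subgroup.inv_mem _ hg) ψ) = ψ := by
      rw [← bq_conjIrr_mul, bq_conjIrr_congr K (g * g⁻¹) 1 _ (Subgroup.one_mem _) (by group),
        bq_conjIrr_one]
    rw [e] at h1
    exact h1
  · intro h
    have h1 := bq_sameBlock_conj K g⁻¹ (Subgroup.inv_mem _ hg) M _ _ h
    have e : bq_conjIrr K g⁻¹ (Subgroup.inv_mem _ hg) (bq_conjIrr K g hg χ) = χ := by
      rw [← bq_conjIrr_mul, bq_conjIrr_congr K (g⁻¹ * g) 1 _ (Subgroup.one_mem _) (by group),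
        bq_conjIrr_one]
    rw [e] at h1
    exact h1

theorem bq_conjSet_isBlock {G : Type*} [Group G] (K : Subgroup G) (g : G)
    (hg : g ∈ Subgroup.normalizer (K : Set G)) (M : Ideal Cfsg.AlgInt)
    (f : Set (Cfsg.IrrCharacter K)) (hf : Cfsg.IsPBlock M f) :
    Cfsg.IsPBlock M (bq_conjSet K g hg f) := by
  obtain ⟨χ, rfl⟩ := hf
  exact ⟨_, bq_conjSet_blockOf K g hg M χ⟩

end

section

/-- convolution of two functions invariant under conjugation by `g` is invariant -/
theorem bq_conv_conj {G : Type*} [Group G] [Fintype G] (a b : G → ℂ) (g : G)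
    (ha : ∀ x, a (g * x * g⁻¹) = a x) (hb : ∀ x, b (g * x * g⁻¹) = b x) (x : G) :
    h7_conv a b (g * x * g⁻¹) = h7_conv a b x := by
  rw [h7_conv_apply, h7_conv_apply]
  refine Fintype.sum_bijective (fun h => g⁻¹ * h * g) ?_ _ _ fun h => ?_
  · refine ⟨fun u v huv => ?_, fun v => ⟨g * v * g⁻¹, by group⟩⟩
    have h1 := mul_right_cancel huv
    exact mul_left_cancel h1
  · have e1 : a h = a (g⁻¹ * h * g) := by
      have := ha (g⁻¹ * h * g)
      rw [← this]
      congr 1
      group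
    have e2 : b (h⁻¹ * (g * x * g⁻¹)) = b ((g⁻¹ * h * g)⁻¹ * x) := by
      have := hb ((g⁻¹ * h * g)⁻¹ * x)
      rw [← this]
      congr 1
      group
    rw [e1, e2]

/-- the Brauer-map value as a finite sum -/
theorem bq_omega_eq {G : Type*} [Group G] (P : Subgroup G)
    [Fintype (Subgroup.centralizer (P : Set G))] (a : G → ℂ)
    (ξ : Subgroup.centralizer (P : Set G) → ℂ) :
    Cfsg.brauerOmega P a ξ = bm_omega (fun x : Subgroup.centralizer (P : Set G) => a x) ξ := by
  unfold Cfsg.brauerOmega bm_omega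
  rw [finsum_eq_sum_of_fintype]

theorem bq_omega_add {G : Type*} [Group G] [Finite G] (P : Subgroup G) (a b : G → ℂ)
    (ξ : Subgroup.centralizer (P : Set G) → ℂ) :
    Cfsg.brauerOmega P (a + b) ξ = Cfsg.brauerOmega P a ξ + Cfsg.brauerOmega P b ξ := by
  classical
  haveI : Fintype (Subgroup.centralizer (P : Set G)) := Fintype.ofFinite _
  rw [bq_omega_eq, bq_omega_eq, bq_omega_eq]
  unfold bm_omega
  rw [← Finset.sum_add_distrib]
  refine Finset.sum_congr rfl fun x _ => ?_
  simp only [Pi.add_apply]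
  ring

theorem bq_omega_sub {G : Type*} [Group G] [Finite G] (P : Subgroup G) (a b : G → ℂ)
    (ξ : Subgroup.centralizer (P : Set G) → ℂ) :
    Cfsg.brauerOmega P (a - b) ξ = Cfsg.brauerOmega P a ξ - Cfsg.brauerOmega P b ξ := by
  classical
  haveI : Fintype (Subgroup.centralizer (P : Set G)) := Fintype.ofFinite _
  rw [bq_omega_eq, bq_omega_eq, bq_omega_eq]
  unfold bm_omega
  rw [← Finset.sum_sub_distrib]
  refine Finset.sum_congr rfl fun x _ => ?_
  simp only [Pi.sub_apply]
  ring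

theorem bq_omega_zero {G : Type*} [Group G] [Finite G] (P : Subgroup G)
    (ξ : Subgroup.centralizer (P : Set G) → ℂ) :
    Cfsg.brauerOmega P (0 : G → ℂ) ξ = 0 := by
  classical
  haveI : Fintype (Subgroup.centralizer (P : Set G)) := Fintype.ofFinite _
  rw [bq_omega_eq]
  unfold bm_omega
  apply Finset.sum_eq_zero
  intro x _
  simp

theorem bq_omega_sum {G : Type*} [Group G] [Finite G] (P : Subgroup G) {ι : Type*}
    (s : Finset ι) (a : ι → G → ℂ) (ξ : Subgroup.centralizer (P : Set G) → ℂ) :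
    Cfsg.brauerOmega P (∑ i ∈ s, a i) ξ = ∑ i ∈ s, Cfsg.brauerOmega P (a i) ξ := by
  classical
  induction s using Finset.induction_on with
  | empty => simpa using bq_omega_zero P ξ
  | insert i s hi ih => rw [Finset.sum_insert hi, Finset.sum_insert hi, bq_omega_add, ih]

/-- the delta function at the identity -/
noncomputable def bq_delta (G : Type*) [Group G] : G → ℂ :=
  fun g => by classical exact if g = 1 then 1 else 0

theorem bq_delta_apply {G : Type*} [Group G] [DecidableEq G] (g : G) :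
    bq_delta G g = if g = 1 then 1 else 0 := by
  unfold bq_delta
  congr

theorem bq_omega_delta {G : Type*} [Group G] [Finite G] (P : Subgroup G)
    (ξ : Cfsg.IrrCharacter (Subgroup.centralizer (P : Set G))) :
    Cfsg.brauerOmega P (bq_delta G) (ξ : Subgroup.centralizer (P : Set G) → ℂ) = 1 := by
  classical
  haveI : Fintype (Subgroup.centralizer (P : Set G)) := Fintype.ofFinite _
  rw [bq_omega_eq]
  unfold bm_omega
  rw [Finset.sum_eq_single (1 : Subgroup.centralizer (P : Set G))]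
  · beta_reduce
    rw [bq_delta_apply, if_pos (by simp), one_mul]
    exact div_self (irr_one_ne_zero ξ)
  · intro x _ hx
    beta_reduce
    rw [bq_delta_apply, if_neg, zero_mul, zero_div]
    intro h
    exact hx (Subtype.ext h)
  · intro h
    exact absurd (Finset.mem_univ _) h

/-- the Brauer-map value of a local-integer-valued function invariant under the centralizer is
a local integer -/
theorem bq_omega_mem {G : Type*} [Group G] [Finite G] {M : Ideal Cfsg.AlgInt} (hM : M.IsPrime)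
    (P : Subgroup G) (a : G → ℂ)
    (haD : ∀ d ∈ Subgroup.centralizer (P : Set G), ∀ x, a (d * x * d⁻¹) = a x)
    (haR : ∀ x, Cfsg.MemLocalRing M (a x))
    (ξ : Cfsg.IrrCharacter (Subgroup.centralizer (P : Set G))) :
    Cfsg.MemLocalRing M
      (Cfsg.brauerOmega P a (ξ : Subgroup.centralizer (P : Set G) → ℂ)) := by
  classical
  haveI : Fintype (Subgroup.centralizer (P : Set G)) := Fintype.ofFinite _
  rw [bq_omega_eq]
  apply bm_omega_mem hM
  · intro g h
    exact haD h h.2 g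
  · intro g
    exact haR _

/-- the Brauer-map value only depends on the block of `ξ` modulo the local ideal -/
theorem bq_omega_congr {G : Type*} [Group G] [Finite G] {M : Ideal Cfsg.AlgInt} (hM : M.IsPrime)
    (P : Subgroup G) (a : G → ℂ)
    (haD : ∀ d ∈ Subgroup.centralizer (P : Set G), ∀ x, a (d * x * d⁻¹) = a x)
    (haR : ∀ x, Cfsg.MemLocalRing M (a x))
    (ξ ξ' : Cfsg.IrrCharacter (Subgroup.centralizer (P : Set G)))
    (h : Cfsg.SameBlock M (ξ : Subgroup.centralizer (P : Set G) → ℂ)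
      (ξ' : Subgroup.centralizer (P : Set G) → ℂ)) :
    Cfsg.MemLocalIdeal M
      (Cfsg.brauerOmega P a (ξ : Subgroup.centralizer (P : Set G) → ℂ) -
        Cfsg.brauerOmega P a (ξ' : Subgroup.centralizer (P : Set G) → ℂ)) := by
  classical
  haveI : Fintype (Subgroup.centralizer (P : Set G)) := Fintype.ofFinite _
  rw [bq_omega_eq, bq_omega_eq]
  apply bm_omega_congr hM _ _ _ ξ ξ' h
  · intro g h
    exact haD h h.2 g
  · intro g
    exact haR _

/-- the Brauer-map value of a function with values in the local ideal on the centralizer -/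
theorem bq_omega_ideal {G : Type*} [Group G] [Finite G] {M : Ideal Cfsg.AlgInt} (hM : M.IsPrime)
    (P : Subgroup G) (a : G → ℂ)
    (haD : ∀ d ∈ Subgroup.centralizer (P : Set G),
      ∀ x ∈ Subgroup.centralizer (P : Set G), a (d * x * d⁻¹) = a x)
    (haI : ∀ x ∈ Subgroup.centralizer (P : Set G), Cfsg.MemLocalIdeal M (a x))
    (ξ : Cfsg.IrrCharacter (Subgroup.centralizer (P : Set G))) :
    Cfsg.MemLocalIdeal M
      (Cfsg.brauerOmega P a (ξ : Subgroup.centralizer (P : Set G) → ℂ)) := by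
  classical
  haveI : Fintype (Subgroup.centralizer (P : Set G)) := Fintype.ofFinite _
  haveI : Fintype (ConjClasses (Subgroup.centralizer (P : Set G))) := Fintype.ofFinite _
  have hcl : ∀ g h : Subgroup.centralizer (P : Set G),
      (fun x : Subgroup.centralizer (P : Set G) => a x) (h * g * h⁻¹) =
        (fun x : Subgroup.centralizer (P : Set G) => a x) g := fun g h => haD h h.2 g g.2
  rw [bq_omega_eq, bm_omega_expand _ hcl ξ]
  apply h7_memLocalIdeal_sum hM
  intro L _
  exact h7_memLocalIdeal_mul_right hM (haI _ (Quotient.out L).2)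
    (h7_memLocalRing_centralChar hM ξ _)

/-- the central character of the centralizer is multiplicative on class functions -/
theorem bq_bm_omega_conv {H : Type*} [Group H] [Fintype H] (z z' : H → ℂ)
    (hz : ∀ g h : H, z (h * g * h⁻¹) = z g) (hz' : ∀ g h : H, z' (h * g * h⁻¹) = z' g)
    (ξ : Cfsg.IrrCharacter H) :
    bm_omega (h7_conv z z') (ξ : H → ℂ) = bm_omega z (ξ : H → ℂ) * bm_omega z' (ξ : H → ℂ) := by
  classical
  haveI : Fintype (Cfsg.IrrCharacter H) := Fintype.ofFinite _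
  have h1 : ∀ w : H → ℂ, bm_omega w (ξ : H → ℂ) = h7_fourier w ξ := by
    intro w
    unfold bm_omega
    rw [h7_fourier_apply, Finset.sum_div]
  rw [h1, h1, h1, h7_fourier_conv z z' hz hz', Pi.mul_apply]

/-- **multiplicativity of the Brauer map** modulo the local ideal -/
theorem bq_omega_mul {G : Type*} [Group G] [Fintype G] (p : ℕ) [hp : Fact p.Prime]
    (M : Ideal Cfsg.AlgInt) (hM : Cfsg.IsPModular p M) (P : Subgroup G) (hP : IsPGroup p P)
    (a b : G → ℂ) (haR : ∀ x, Cfsg.MemLocalRing M (a x)) (hbR : ∀ x, Cfsg.MemLocalRing M (b x))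
    (haP : ∀ u ∈ P, ∀ x, a (u * x * u⁻¹) = a x) (hbP : ∀ u ∈ P, ∀ x, b (u * x * u⁻¹) = b x)
    (haD : ∀ d ∈ Subgroup.centralizer (P : Set G), ∀ x, a (d * x * d⁻¹) = a x)
    (hbD : ∀ d ∈ Subgroup.centralizer (P : Set G), ∀ x, b (d * x * d⁻¹) = b x)
    (ξ : Cfsg.IrrCharacter (Subgroup.centralizer (P : Set G))) :
    Cfsg.MemLocalIdeal M
      (Cfsg.brauerOmega P (h7_conv a b) (ξ : Subgroup.centralizer (P : Set G) → ℂ) -
        Cfsg.brauerOmega P a (ξ : Subgroup.centralizer (P : Set G) → ℂ) *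
          Cfsg.brauerOmega P b (ξ : Subgroup.centralizer (P : Set G) → ℂ)) := by
  classical
  haveI : Fintype (Subgroup.centralizer (P : Set G)) := Fintype.ofFinite _
  have hPr := hM.2.1.isPrime
  set z : Subgroup.centralizer (P : Set G) → ℂ := fun x => a x with hz
  set z' : Subgroup.centralizer (P : Set G) → ℂ := fun x => b x with hz'
  have hzcl : ∀ g h : Subgroup.centralizer (P : Set G), z (h * g * h⁻¹) = z g :=
    fun g h => haD h h.2 g
  have hz'cl : ∀ g h : Subgroup.centralizer (P : Set G), z' (h * g * h⁻¹) = z' g :=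
    fun g h => hbD h h.2 g
  rw [bq_omega_eq P a, bq_omega_eq P b, ← bq_bm_omega_conv z z' hzcl hz'cl ξ]
  have e : bm_omega (h7_conv z z') (ξ : Subgroup.centralizer (P : Set G) → ℂ) =
      Cfsg.brauerOmega P (fun g => if h : g ∈ Subgroup.centralizer (P : Set G) then
        h7_conv z z' ⟨g, h⟩ else 0) (ξ : Subgroup.centralizer (P : Set G) → ℂ) := by
    rw [bq_omega_eq]
    congr 1
    funext x
    rw [dif_pos x.2]
  rw [e, ← bq_omega_sub]
  apply bq_omega_ideal hPr
  · intro d hd x hx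
    simp only [Pi.sub_apply]
    rw [dif_pos hx, dif_pos (Subgroup.mul_mem _ (Subgroup.mul_mem _ hd hx) (Subgroup.inv_mem _ hd)),
      bq_conv_conj a b d (haD d hd) (hbD d hd)]
    have := bq_conv_conj z z' ⟨d, hd⟩ (fun y => hzcl y ⟨d, hd⟩) (fun y => hz'cl y ⟨d, hd⟩) ⟨x, hx⟩
    rw [← this]
    rfl
  · intro x hx
    simp only [Pi.sub_apply]
    rw [dif_pos hx, h7_conv_apply, h7_conv_apply]
    have h1 := bm_sum_centralizer p M hM P hP (fun h : G => a h * b (h⁻¹ * x))
      (by
        intro u y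
        have hu : (u : G) * x = x * (u : G) :=
          Subgroup.mem_centralizer_iff.mp hx u u.2
        have hu' : x * (u : G)⁻¹ = (u : G)⁻¹ * x := by
          rw [eq_inv_mul_iff_mul_eq, ← mul_assoc, hu, mul_assoc, mul_inv_cancel, mul_one]
        have e2 : ((u : G) * y * (u : G)⁻¹)⁻¹ * x = (u : G) * (y⁻¹ * x) * (u : G)⁻¹ := by
          calc ((u : G) * y * (u : G)⁻¹)⁻¹ * x = (u : G) * y⁻¹ * ((u : G)⁻¹ * x) := by group
            _ = (u : G) * y⁻¹ * (x * (u : G)⁻¹) := by rw [hu']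
            _ = (u : G) * (y⁻¹ * x) * (u : G)⁻¹ := by group
        show a ((u : G) * y * (u : G)⁻¹) * b (((u : G) * y * (u : G)⁻¹)⁻¹ * x) = a y * b (y⁻¹ * x)
        rw [e2, haP u u.2, hbP u u.2])
      (fun y => h7_memLocalRing_mul hPr (haR _) (hbR _))
    exact h1

/-- powers of the Brauer-map value -/
theorem bq_omega_pow {G : Type*} [Group G] [Fintype G] (p : ℕ) [hp : Fact p.Prime]
    (M : Ideal Cfsg.AlgInt) (hM : Cfsg.IsPModular p M) (P : Subgroup G) (hP : IsPGroup p P)
    (a : G → ℂ) (haR : ∀ x, Cfsg.MemLocalRing M (a x))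
    (haP : ∀ u ∈ P, ∀ x, a (u * x * u⁻¹) = a x)
    (haD : ∀ d ∈ Subgroup.centralizer (P : Set G), ∀ x, a (d * x * d⁻¹) = a x)
    (ξ : Cfsg.IrrCharacter (Subgroup.centralizer (P : Set G)))
    (w : ℕ → G → ℂ) (hw0 : w 0 = a) (hw : ∀ n, w (n + 1) = h7_conv (w n) a) (n : ℕ) :
    (∀ x, Cfsg.MemLocalRing M (w n x)) ∧ (∀ u ∈ P, ∀ x, w n (u * x * u⁻¹) = w n x) ∧
    (∀ d ∈ Subgroup.centralizer (P : Set G), ∀ x, w n (d * x * d⁻¹) = w n x) ∧
    Cfsg.MemLocalIdeal M
      (Cfsg.brauerOmega P (w n) (ξ : Subgroup.centralizer (P : Set G) → ℂ) -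
        Cfsg.brauerOmega P a (ξ : Subgroup.centralizer (P : Set G) → ℂ) ^ (n + 1)) := by
  have hPr := hM.2.1.isPrime
  induction n with
  | zero =>
    rw [hw0]
    refine ⟨haR, haP, haD, ?_⟩
    rw [zero_add, pow_one, sub_self]
    exact h7_memLocalIdeal_zero hPr
  | succ n ih =>
    obtain ⟨h1, h2, h3, h4⟩ := ih
    rw [hw]
    refine ⟨?_, ?_, ?_, ?_⟩
    · intro x
      rw [h7_conv_apply]
      exact h7_memLocalRing_sum hPr _ _ fun h _ => h7_memLocalRing_mul hPr (h1 _) (haR _)
    · intro u hu x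
      exact bq_conv_conj _ _ u (h2 u hu) (haP u hu) x
    · intro d hd x
      exact bq_conv_conj _ _ d (h3 d hd) (haD d hd) x
    · have h5 := bq_omega_mul p M hM P hP (w n) a h1 haR h2 haP h3 haD ξ
      have h6 := h7_memLocalIdeal_mul_right hPr h4 (bq_omega_mem hPr P a haD haR ξ)
      have h7 := h7_memLocalIdeal_add hPr h5 h6
      have e : Cfsg.brauerOmega P (h7_conv (w n) a) (ξ : Subgroup.centralizer (P : Set G) → ℂ) -
          Cfsg.brauerOmega P a (ξ : Subgroup.centralizer (P : Set G) → ℂ) ^ (n + 1 + 1) =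
          (Cfsg.brauerOmega P (h7_conv (w n) a) (ξ : Subgroup.centralizer (P : Set G) → ℂ) -
            Cfsg.brauerOmega P (w n) (ξ : Subgroup.centralizer (P : Set G) → ℂ) *
              Cfsg.brauerOmega P a (ξ : Subgroup.centralizer (P : Set G) → ℂ)) +
          (Cfsg.brauerOmega P (w n) (ξ : Subgroup.centralizer (P : Set G) → ℂ) -
            Cfsg.brauerOmega P a (ξ : Subgroup.centralizer (P : Set G) → ℂ) ^ (n + 1)) *
              Cfsg.brauerOmega P a (ξ : Subgroup.centralizer (P : Set G) → ℂ) := by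
        ring
      rw [e]
      exact h7

end

section

theorem bq_sbc_eq {G : Type*} [Group G] [Fintype G] (K : Subgroup G)
    (S : Set (Cfsg.IrrCharacter K)) :
    Cfsg.subgroupBlockCoeff K S = Cfsg.extendByZero K (fun k : K => Cfsg.blockCoeff S k) := by
  classical
  funext g
  unfold Cfsg.subgroupBlockCoeff
  by_cases hg : g ∈ K
  · rw [dif_pos hg, h7_extendByZero_mem K _ g hg]
  · rw [dif_neg hg, h7_extendByZero_not_mem K _ g hg]

theorem bq_sbc_mem {G : Type*} [Group G] (K : Subgroup G)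
    (S : Set (Cfsg.IrrCharacter K)) (g : G) (hg : g ∈ K) :
    Cfsg.subgroupBlockCoeff K S g = Cfsg.blockCoeff S ⟨g, hg⟩ := by
  classical
  unfold Cfsg.subgroupBlockCoeff
  rw [dif_pos hg]

theorem bq_sbc_not_mem {G : Type*} [Group G] (K : Subgroup G)
    (S : Set (Cfsg.IrrCharacter K)) (g : G) (hg : g ∉ K) :
    Cfsg.subgroupBlockCoeff K S g = 0 := by
  classical
  unfold Cfsg.subgroupBlockCoeff
  rw [dif_neg hg]

/-- products of the idempotents -/
theorem bq_sbc_conv {G : Type*} [Group G] [Fintype G] (K : Subgroup G)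
    (S S' : Set (Cfsg.IrrCharacter K)) :
    h7_conv (Cfsg.subgroupBlockCoeff K S) (Cfsg.subgroupBlockCoeff K S') =
      Cfsg.subgroupBlockCoeff K (S ∩ S') := by
  classical
  haveI : Fintype K := Fintype.ofFinite _
  haveI : Fintype (Cfsg.IrrCharacter K) := Fintype.ofFinite _
  rw [bq_sbc_eq, bq_sbc_eq, bq_sbc_eq, h7_conv_extendByZero]
  congr 1
  have e1 : ∀ T : Set (Cfsg.IrrCharacter K), (fun k : K => Cfsg.blockCoeff T k) =
      h7_coef (fun χ : Cfsg.IrrCharacter K => if χ ∈ T then (1 : ℂ) else 0) := by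
    intro T
    funext k
    rw [h7_coef_indicator]
  rw [e1, e1, e1, h7_conv_coef]
  congr 1
  funext χ
  simp only [Pi.mul_apply, Set.mem_inter_iff]
  by_cases h1 : χ ∈ S <;> by_cases h2 : χ ∈ S' <;> simp [h1, h2]

theorem bq_sbc_empty {G : Type*} [Group G] [Fintype G] (K : Subgroup G) :
    Cfsg.subgroupBlockCoeff K (∅ : Set (Cfsg.IrrCharacter K)) = 0 := by
  classical
  funext g
  by_cases hg : g ∈ K
  · rw [bq_sbc_mem K _ g hg]
    unfold Cfsg.blockCoeff
    simp
  · rw [bq_sbc_not_mem K _ g hg]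
    rfl

theorem bq_sbc_memLocalRing {G : Type*} [Group G] [Fintype G] {M : Ideal Cfsg.AlgInt}
    (hM : M.IsPrime) (K : Subgroup G) (f : Set (Cfsg.IrrCharacter K)) (hf : Cfsg.IsPBlock M f)
    (g : G) : Cfsg.MemLocalRing M (Cfsg.subgroupBlockCoeff K f g) := by
  classical
  haveI : Fintype K := Fintype.ofFinite _
  haveI : Fintype (Cfsg.IrrCharacter K) := Fintype.ofFinite _
  obtain ⟨χ, rfl⟩ := hf
  by_cases hg : g ∈ K
  · rw [bq_sbc_mem K _ g hg]
    exact h7_osima hM χ _
  · rw [bq_sbc_not_mem K _ g hg]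
    exact h7_memLocalRing_zero hM

/-- invariance of the idempotent under inner conjugation -/
theorem bq_sbc_inner {G : Type*} [Group G] [Fintype G] (K : Subgroup G)
    (S : Set (Cfsg.IrrCharacter K)) (k : G) (hk : k ∈ K) (x : G) :
    Cfsg.subgroupBlockCoeff K S (k * x * k⁻¹) = Cfsg.subgroupBlockCoeff K S x := by
  classical
  haveI : Fintype K := Fintype.ofFinite _
  by_cases hx : x ∈ K
  · rw [bq_sbc_mem K _ x hx,
      bq_sbc_mem K _ _ (Subgroup.mul_mem _ (Subgroup.mul_mem _ hk hx) (Subgroup.inv_mem _ hk))]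
    exact br_blockCoeff_conj S ⟨x, hx⟩ ⟨k, hk⟩
  · rw [bq_sbc_not_mem K _ x hx, bq_sbc_not_mem K _ _ (fun h => hx (by
      have := Subgroup.mul_mem _ (Subgroup.mul_mem _ (Subgroup.inv_mem _ hk) h) hk
      simpa [mul_assoc] using this))]

/-- conjugation as a permutation of the irreducible characters -/
noncomputable def bq_conjIrrEquiv {G : Type*} [Group G] (K : Subgroup G) (g : G)
    (hg : g ∈ Subgroup.normalizer (K : Set G)) : Cfsg.IrrCharacter K ≃ Cfsg.IrrCharacter K where
  toFun := bq_conjIrr K g hg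
  invFun := bq_conjIrr K g⁻¹ (Subgroup.inv_mem _ hg)
  left_inv ψ := by
    rw [← bq_conjIrr_mul, bq_conjIrr_congr K (g⁻¹ * g) 1 _ (Subgroup.one_mem _) (by group),
      bq_conjIrr_one]
  right_inv ψ := by
    rw [← bq_conjIrr_mul, bq_conjIrr_congr K (g * g⁻¹) 1 _ (Subgroup.one_mem _) (by group),
      bq_conjIrr_one]

/-- the idempotent of a conjugate set -/
theorem bq_sbc_conjSet {G : Type*} [Group G] [Fintype G] (K : Subgroup G) (g : G)
    (hg : g ∈ Subgroup.normalizer (K : Set G)) (S : Set (Cfsg.IrrCharacter K)) (x : G) :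
    Cfsg.subgroupBlockCoeff K (bq_conjSet K g hg S) x =
      Cfsg.subgroupBlockCoeff K S (g⁻¹ * x * g) := by
  classical
  haveI : Fintype K := Fintype.ofFinite _
  haveI : Fintype (Cfsg.IrrCharacter K) := Fintype.ofFinite _
  have hmem : g⁻¹ * x * g ∈ K ↔ x ∈ K := by
    have := Subgroup.mem_normalizer_iff.mp (Subgroup.inv_mem _ hg) x
    rw [inv_inv] at this
    exact this.symm
  by_cases hx : x ∈ K
  · rw [bq_sbc_mem K _ x hx, bq_sbc_mem K _ _ (hmem.mpr hx), ← h7_coef_indicator,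
      ← h7_coef_indicator]
    unfold h7_coef
    congr 1
    refine (Fintype.sum_bijective (bq_conjIrrEquiv K g hg) (bq_conjIrrEquiv K g hg).bijective
      _ _ fun ψ => ?_).symm
    have h1 : (bq_conjIrrEquiv K g hg ψ ∈ bq_conjSet K g hg S) ↔ ψ ∈ S := by
      rw [bq_mem_conjSet]
      show bq_conjIrr K g⁻¹ _ (bq_conjIrr K g hg ψ) ∈ S ↔ ψ ∈ S
      rw [← bq_conjIrr_mul, bq_conjIrr_congr K (g⁻¹ * g) 1 _ (Subgroup.one_mem _) (by group),
        bq_conjIrr_one]
    have h2 : ((bq_conjIrrEquiv K g hg ψ : Cfsg.IrrCharacter K) : K → ℂ) 1 = (ψ : K → ℂ) 1 := by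
      show (bq_conjIrr K g hg ψ : K → ℂ) 1 = _
      apply bq_conjIrr_conj
      simp
    have h3 : ((bq_conjIrrEquiv K g hg ψ : Cfsg.IrrCharacter K) : K → ℂ) ⟨x, hx⟩ =
        (ψ : K → ℂ) ⟨g⁻¹ * x * g, hmem.mpr hx⟩ := by
      show (bq_conjIrr K g hg ψ : K → ℂ) ⟨x, hx⟩ = _
      apply bq_conjIrr_conj
      show x = g * (g⁻¹ * x * g) * g⁻¹
      group
    rw [h2, h3]
    beta_reduce
    by_cases hψ : ψ ∈ S
    · rw [if_pos hψ, if_pos (h1.mpr hψ)]
    · rw [if_neg hψ, if_neg (fun h => hψ (h1.mp h))]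
  · rw [bq_sbc_not_mem K _ x hx, bq_sbc_not_mem K _ _ (fun h => hx (hmem.mp h))]

/-- a block is stabilized iff its conjugate set is itself -/
theorem bq_stabilizes_iff {G : Type*} [Group G] [Finite G] {M : Ideal Cfsg.AlgInt}
    (hM : M.IsPrime) (K : Subgroup G) (f : Set (Cfsg.IrrCharacter K)) (hf : Cfsg.IsPBlock M f)
    (x : G) (hx : x ∈ Subgroup.normalizer (K : Set G)) :
    Cfsg.StabilizesBlock K f x ↔ bq_conjSet K x hx f = f := by
  classical
  haveI : Fintype G := Fintype.ofFinite _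
  haveI : Fintype K := Fintype.ofFinite _
  haveI : Fintype (Cfsg.IrrCharacter K) := Fintype.ofFinite _
  constructor
  · rintro ⟨_, h⟩
    have hsub : bq_conjSet K x hx f ⊆ f := by
      rintro _ ⟨χ, hχ, rfl⟩
      obtain ⟨χ', hχ', hc⟩ := h χ hχ
      rw [← bq_conjIrr_unique K x hx χ χ' hc]
      exact hχ'
    obtain ⟨χ₀, rfl⟩ := hf
    rw [bq_conjSet_blockOf] at hsub ⊢
    have h1 : bq_conjIrr K x hx χ₀ ∈ Cfsg.blockOf M (χ₀ : K → ℂ) :=
      hsub (h7_sameBlock_refl hM _)
    exact (h7_blockOf_eq_of_mem hM _ _ h1).symm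
  · intro h
    refine ⟨hx, fun χ hχ => ⟨bq_conjIrr K x hx χ, ?_, bq_isConjCharOf K x hx χ⟩⟩
    rw [← h]
    exact Set.mem_image_of_mem _ hχ

/-- invariance of the idempotent of a stable block -/
theorem bq_sbc_stable {G : Type*} [Group G] [Fintype G] {M : Ideal Cfsg.AlgInt}
    (hM : M.IsPrime) (K : Subgroup G) (f : Set (Cfsg.IrrCharacter K)) (hf : Cfsg.IsPBlock M f)
    (u : G) (hu : Cfsg.StabilizesBlock K f u) (x : G) :
    Cfsg.subgroupBlockCoeff K f (u * x * u⁻¹) = Cfsg.subgroupBlockCoeff K f x := by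
  have h1 := (bq_stabilizes_iff hM K f hf u hu.1).mp hu
  have h2 := bq_sbc_conjSet K u hu.1 f (u * x * u⁻¹)
  rw [h1] at h2
  rw [h2]
  congr 1
  group

/-- distinct blocks are disjoint -/
theorem bq_block_inter {G : Type*} [Group G] [Finite G] {M : Ideal Cfsg.AlgInt}
    (hM : M.IsPrime) (f f' : Set (Cfsg.IrrCharacter G)) (hf : Cfsg.IsPBlock M f)
    (hf' : Cfsg.IsPBlock M f') (hne : f ≠ f') : f ∩ f' = ∅ := by
  classical
  haveI : Fintype G := Fintype.ofFinite _
  haveI : Fintype (Cfsg.IrrCharacter G) := Fintype.ofFinite _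
  by_contra h
  obtain ⟨χ, h1, h2⟩ := Set.nonempty_iff_ne_empty.mpr h
  obtain ⟨χ₁, rfl⟩ := hf
  obtain ⟨χ₂, rfl⟩ := hf'
  exact hne ((h7_blockOf_eq_of_mem hM _ _ h1).trans (h7_blockOf_eq_of_mem hM _ _ h2).symm)

/-- the block idempotents sum to the identity -/
theorem bq_sbc_sum_blocks {G : Type*} [Group G] [Fintype G] {M : Ideal Cfsg.AlgInt}
    (hM : M.IsPrime) (K : Subgroup G) [Fintype {f : Set (Cfsg.IrrCharacter K) // Cfsg.IsPBlock M f}] :
    ∑ f : {f : Set (Cfsg.IrrCharacter K) // Cfsg.IsPBlock M f},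
      Cfsg.subgroupBlockCoeff K f.1 = bq_delta G := by
  classical
  haveI : Fintype K := Fintype.ofFinite _
  haveI : Fintype (Cfsg.IrrCharacter K) := Fintype.ofFinite _
  funext g
  rw [Finset.sum_apply, bq_delta_apply]
  by_cases hg : g ∈ K
  · have e1 : ∀ f : {f : Set (Cfsg.IrrCharacter K) // Cfsg.IsPBlock M f},
        Cfsg.subgroupBlockCoeff K f.1 g =
        h7_coef (fun χ : Cfsg.IrrCharacter K => if χ ∈ f.1 then (1 : ℂ) else 0) ⟨g, hg⟩ := by
      intro f
      rw [bq_sbc_mem K _ g hg, h7_coef_indicator]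
    rw [Finset.sum_congr rfl (fun f _ => e1 f)]
    have e2 : ∀ k : K, ∑ f : {f : Set (Cfsg.IrrCharacter K) // Cfsg.IsPBlock M f},
        h7_coef (fun χ : Cfsg.IrrCharacter K => if χ ∈ f.1 then (1 : ℂ) else 0) k =
        h7_coef (fun _ : Cfsg.IrrCharacter K => (1 : ℂ)) k := by
      intro k
      unfold h7_coef
      rw [← Finset.mul_sum, Finset.sum_comm]
      congr 1
      refine Finset.sum_congr rfl fun χ _ => ?_
      rw [← Finset.sum_mul]
      congr 1
      rw [Finset.sum_eq_single (⟨Cfsg.blockOf M (χ : K → ℂ), ⟨χ, rfl⟩⟩ :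
        {f : Set (Cfsg.IrrCharacter K) // Cfsg.IsPBlock M f})]
      · beta_reduce
        rw [if_pos (show χ ∈ Cfsg.blockOf M (χ : K → ℂ) from h7_sameBlock_refl hM _)]
      · intro f _ hne
        beta_reduce
        rw [if_neg]
        intro hmem
        apply hne
        obtain ⟨f, χ', rfl⟩ := f
        apply Subtype.ext
        exact h7_blockOf_eq_of_mem hM χ' χ hmem
      · intro h
        exact absurd (Finset.mem_univ _) h
    rw [e2, h7_coef_const]
    by_cases h1 : g = 1
    · rw [if_pos h1, if_pos (Subtype.ext h1)]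
    · rw [if_neg h1, if_neg (fun h => h1 (by simpa using congrArg Subtype.val h))]
  · rw [if_neg (fun h : g = 1 => hg (h ▸ Subgroup.one_mem _))]
    apply Finset.sum_eq_zero
    intro f _
    exact bq_sbc_not_mem K _ g hg

end

section

theorem bq_conjSet_congr {G : Type*} [Group G] (K : Subgroup G) (g h : G)
    (hg : g ∈ Subgroup.normalizer (K : Set G)) (hh : h ∈ Subgroup.normalizer (K : Set G))
    (e : g = h) (S : Set (Cfsg.IrrCharacter K)) : bq_conjSet K g hg S = bq_conjSet K h hh S := by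
  subst e
  rfl

theorem bq_conjSet_one {G : Type*} [Group G] (K : Subgroup G)
    (S : Set (Cfsg.IrrCharacter K)) : bq_conjSet K 1 (Subgroup.one_mem _) S = S := by
  unfold bq_conjSet
  have : bq_conjIrr K 1 (Subgroup.one_mem _) = id := by
    funext χ
    exact bq_conjIrr_one K χ
  rw [this, Set.image_id]

theorem bq_conjSet_mul {G : Type*} [Group G] (K : Subgroup G) (g h : G)
    (hg : g ∈ Subgroup.normalizer (K : Set G)) (hh : h ∈ Subgroup.normalizer (K : Set G))
    (S : Set (Cfsg.IrrCharacter K)) :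
    bq_conjSet K (g * h) (Subgroup.mul_mem _ hg hh) S =
      bq_conjSet K g hg (bq_conjSet K h hh S) := by
  unfold bq_conjSet
  rw [Set.image_image]
  apply Set.image_congr
  intro χ _
  exact bq_conjIrr_mul K g h hg hh χ

/-- the action of a normalizing subgroup on the blocks of `K` -/
noncomputable def bq_blockAction {G : Type*} [Group G] (K P : Subgroup G)
    (hPN : P ≤ Subgroup.normalizer (K : Set G)) (M : Ideal Cfsg.AlgInt) :
    MulAction P {f : Set (Cfsg.IrrCharacter K) // Cfsg.IsPBlock M f} where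
  smul u f := ⟨bq_conjSet K (u : G) (hPN u.2) f.1, bq_conjSet_isBlock K u _ M f.1 f.2⟩
  one_smul f := by
    apply Subtype.ext
    show bq_conjSet K ((1 : P) : G) _ f.1 = f.1
    rw [bq_conjSet_congr K ((1 : P) : G) 1 _ (Subgroup.one_mem _) rfl, bq_conjSet_one]
  mul_smul u v f := by
    apply Subtype.ext
    show bq_conjSet K ((u * v : P) : G) _ f.1 =
      bq_conjSet K (u : G) _ (bq_conjSet K (v : G) _ f.1)
    rw [← bq_conjSet_mul]
    rfl

theorem bq_blockAction_smul {G : Type*} [Group G] (K P : Subgroup G)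
    (hPN : P ≤ Subgroup.normalizer (K : Set G)) (M : Ideal Cfsg.AlgInt) (u : P)
    (f : {f : Set (Cfsg.IrrCharacter K) // Cfsg.IsPBlock M f}) :
    ((bq_blockAction K P hPN M).smul u f).1 = bq_conjSet K (u : G) (hPN u.2) f.1 := rfl

/-- products of stable block idempotents under the Brauer map -/
theorem bq_omega_sbc_mul {G : Type*} [Group G] [Fintype G] (p : ℕ) [hp : Fact p.Prime]
    (M : Ideal Cfsg.AlgInt) (hM : Cfsg.IsPModular p M) (P : Subgroup G) (hP : IsPGroup p P)
    (K : Subgroup G) (hDK : Subgroup.centralizer (P : Set G) ≤ K)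
    (f f' : Set (Cfsg.IrrCharacter K)) (hf : Cfsg.IsPBlock M f) (hf' : Cfsg.IsPBlock M f')
    (hst : ∀ x ∈ P, Cfsg.StabilizesBlock K f x) (hst' : ∀ x ∈ P, Cfsg.StabilizesBlock K f' x)
    (ξ : Cfsg.IrrCharacter (Subgroup.centralizer (P : Set G))) :
    Cfsg.MemLocalIdeal M
      (Cfsg.brauerOmega P (Cfsg.subgroupBlockCoeff K (f ∩ f'))
          (ξ : Subgroup.centralizer (P : Set G) → ℂ) -
        Cfsg.brauerOmega P (Cfsg.subgroupBlockCoeff K f)
          (ξ : Subgroup.centralizer (P : Set G) → ℂ) *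
        Cfsg.brauerOmega P (Cfsg.subgroupBlockCoeff K f')
          (ξ : Subgroup.centralizer (P : Set G) → ℂ)) := by
  have hPr := hM.2.1.isPrime
  rw [← bq_sbc_conv]
  exact bq_omega_mul p M hM P hP _ _ (bq_sbc_memLocalRing hPr K f hf)
    (bq_sbc_memLocalRing hPr K f' hf')
    (fun u hu x => bq_sbc_stable hPr K f hf u (hst u hu) x)
    (fun u hu x => bq_sbc_stable hPr K f' hf' u (hst' u hu) x)
    (fun d hd x => bq_sbc_inner K f d (hDK hd) x)
    (fun d hd x => bq_sbc_inner K f' d (hDK hd) x) ξ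

/-- two distinct stable blocks cannot both occur -/
theorem bq_omega_sbc_unique {G : Type*} [Group G] [Fintype G] (p : ℕ) [hp : Fact p.Prime]
    (M : Ideal Cfsg.AlgInt) (hM : Cfsg.IsPModular p M) (P : Subgroup G) (hP : IsPGroup p P)
    (K : Subgroup G) (hDK : Subgroup.centralizer (P : Set G) ≤ K)
    (f f' : Set (Cfsg.IrrCharacter K)) (hf : Cfsg.IsPBlock M f) (hf' : Cfsg.IsPBlock M f')
    (hst : ∀ x ∈ P, Cfsg.StabilizesBlock K f x) (hst' : ∀ x ∈ P, Cfsg.StabilizesBlock K f' x)
    (ξ : Cfsg.IrrCharacter (Subgroup.centralizer (P : Set G)))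
    (h1 : Cfsg.MemLocalIdeal M (Cfsg.brauerOmega P (Cfsg.subgroupBlockCoeff K f)
          (ξ : Subgroup.centralizer (P : Set G) → ℂ) - 1))
    (h2 : Cfsg.MemLocalIdeal M (Cfsg.brauerOmega P (Cfsg.subgroupBlockCoeff K f')
          (ξ : Subgroup.centralizer (P : Set G) → ℂ) - 1)) : f = f' := by
  have hPr := hM.2.1.isPrime
  by_contra hne
  have h3 := bq_omega_sbc_mul p M hM P hP K hDK f f' hf hf' hst hst' ξ
  rw [bq_block_inter hPr f f' hf hf' hne, bq_sbc_empty, bq_omega_zero, zero_sub] at h3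
  have h3' := h7_memLocalIdeal_neg h3
  rw [neg_neg] at h3'
  set a := Cfsg.brauerOmega P (Cfsg.subgroupBlockCoeff K f)
          (ξ : Subgroup.centralizer (P : Set G) → ℂ) with ha
  set b := Cfsg.brauerOmega P (Cfsg.subgroupBlockCoeff K f')
          (ξ : Subgroup.centralizer (P : Set G) → ℂ) with hb
  have hbR : Cfsg.MemLocalRing M b :=
    bq_omega_mem hPr P _ (fun d hd x => bq_sbc_inner K f' d (hDK hd) x)
      (bq_sbc_memLocalRing hPr K f' hf') ξ
  -- 1 = a*b - (a-1)*b - (b-1)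
  have h4 : Cfsg.MemLocalIdeal M (a * b - (a - 1) * b - (b - 1)) :=
    h7_memLocalIdeal_sub hPr (h7_memLocalIdeal_sub hPr h3' (h7_memLocalIdeal_mul_right hPr h1 hbR)) h2
  have e : a * b - (a - 1) * b - (b - 1) = 1 := by ring
  rw [e] at h4
  exact h7_not_memLocalIdeal_one hPr h4

/-- **existence and uniqueness of normal subpairs** -/
theorem bq_normal_subpair {G : Type*} [Group G] [Fintype G] (p : ℕ) [hp : Fact p.Prime]
    (M : Ideal Cfsg.AlgInt) (hM : Cfsg.IsPModular p M) (P Q : Subgroup G)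
    (e : Set (Cfsg.IrrCharacter (Subgroup.centralizer (P : Set G))))
    (hPe : Cfsg.IsBrauerPair p M P e) (hQP : Q ≤ P)
    (hPN : P ≤ Subgroup.normalizer (Q : Set G)) :
    ∃! f : Set (Cfsg.IrrCharacter (Subgroup.centralizer (Q : Set G))),
      Cfsg.IsNormalSubpair p M Q f P e := by
  classical
  have hPr := hM.2.1.isPrime
  obtain ⟨hP, ξ₀, rfl⟩ := hPe
  have hQ : IsPGroup p Q := hP.to_le hQP
  have hDK : Subgroup.centralizer (P : Set G) ≤ Subgroup.centralizer (Q : Set G) :=
    Subgroup.centralizer_le hQP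
  have hPK : P ≤ Subgroup.normalizer
      ((Subgroup.centralizer (Q : Set G) : Subgroup G) : Set G) :=
    fun u hu => bm_normalizer_centralizer Q u (hPN hu)
  haveI : Fintype P := Fintype.ofFinite _
  haveI : Fintype (Subgroup.centralizer (P : Set G)) := Fintype.ofFinite _
  haveI : Fintype (Cfsg.IrrCharacter (Subgroup.centralizer (P : Set G))) := Fintype.ofFinite _
  haveI : Fintype {f : Set (Cfsg.IrrCharacter (Subgroup.centralizer (Q : Set G))) //
    Cfsg.IsPBlock M f} := Fintype.ofFinite _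
  letI := bq_blockAction (Subgroup.centralizer (Q : Set G)) P hPK M
  set F : {f : Set (Cfsg.IrrCharacter (Subgroup.centralizer (Q : Set G))) //
      Cfsg.IsPBlock M f} → ℂ := fun f =>
    Cfsg.brauerOmega P (Cfsg.subgroupBlockCoeff (Subgroup.centralizer (Q : Set G)) f.1)
      (ξ₀ : Subgroup.centralizer (P : Set G) → ℂ) with hF
  have hFinv : ∀ (u : P) (f : {f : Set (Cfsg.IrrCharacter (Subgroup.centralizer (Q : Set G))) //
      Cfsg.IsPBlock M f}), F (u • f) = F f := by
    intro u f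
    show Cfsg.brauerOmega P (Cfsg.subgroupBlockCoeff (Subgroup.centralizer (Q : Set G))
      (bq_conjSet _ (u : G) (hPK u.2) f.1)) _ = _
    simp only [hF]
    rw [bq_omega_eq, bq_omega_eq]
    congr 1
    funext x
    rw [bq_sbc_conjSet]
    congr 1
    have hx := Subgroup.mem_centralizer_iff.mp x.2 (u : G) u.2
    rw [mul_assoc, ← hx, ← mul_assoc, inv_mul_cancel, one_mul]
  have hFR : ∀ f, Cfsg.MemLocalRing M (F f) := by
    intro f
    exact bq_omega_mem hPr P _ (fun d hd x => bq_sbc_inner _ f.1 d (hDK hd) x)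
      (bq_sbc_memLocalRing hPr _ f.1 f.2) ξ₀
  have horb := bm_orbit_sum p M hM hP F hFinv hFR
  have hsum : ∑ f, F f = 1 := by
    rw [hF, ← bq_omega_sum, bq_sbc_sum_blocks hPr, bq_omega_delta]
  rw [hsum] at horb
  -- fixed points are stable blocks
  have hfix : ∀ f : {f : Set (Cfsg.IrrCharacter (Subgroup.centralizer (Q : Set G))) //
      Cfsg.IsPBlock M f}, (∀ a : P, a • f = f) →
      ∀ x ∈ P, Cfsg.StabilizesBlock (Subgroup.centralizer (Q : Set G)) f.1 x := by
    intro f hf x hx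
    rw [bq_stabilizes_iff hPr _ f.1 f.2 x (hPK hx)]
    have := congrArg Subtype.val (hf ⟨x, hx⟩)
    exact this
  -- some fixed point has value 1
  have hex : ∃ f : {f : Set (Cfsg.IrrCharacter (Subgroup.centralizer (Q : Set G))) //
      Cfsg.IsPBlock M f}, (∀ a : P, a • f = f) ∧ Cfsg.MemLocalIdeal M (F f - 1) := by
    by_contra hno
    push Not at hno
    apply h7_not_memLocalIdeal_one hPr
    have h1 : Cfsg.MemLocalIdeal M (∑ x ∈ Finset.univ.filter (fun x :
        {f : Set (Cfsg.IrrCharacter (Subgroup.centralizer (Q : Set G))) //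
      Cfsg.IsPBlock M f} => ∀ a : P, a • x = x), F x) := by
      apply h7_memLocalIdeal_sum hPr
      intro f hf
      have hf' := (Finset.mem_filter.mp hf).2
      have hst := hfix f hf'
      have h2 := bq_omega_sbc_mul p M hM P hP _ hDK f.1 f.1 f.2 f.2 hst hst ξ₀
      rw [Set.inter_self] at h2
      have h3 : Cfsg.MemLocalIdeal M (F f * (F f - 1)) := by
        have := h7_memLocalIdeal_neg h2
        have e : F f * (F f - 1) = -(F f - F f * F f) := by ring
        rw [e]
        exact this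
      rcases h7_memLocalIdeal_mul_cases hPr (hFR f)
        (h7_memLocalRing_sub hPr (hFR f) (h7_memLocalRing_one hPr)) h3 with h4 | h4
      · exact h4
      · exact absurd h4 (hno f hf')
    have h2 := h7_memLocalIdeal_add hPr horb h1
    rwa [sub_add_cancel] at h2
  obtain ⟨f, hfixf, hf1⟩ := hex
  have hstf := hfix f hfixf
  have hall : ∀ (g : Set (Cfsg.IrrCharacter (Subgroup.centralizer (Q : Set G))))
      (hg : Cfsg.IsPBlock M g), ∀ ξ ∈ Cfsg.blockOf M (ξ₀ : Subgroup.centralizer (P : Set G) → ℂ),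
      Cfsg.MemLocalIdeal M (Cfsg.brauerOmega P
        (Cfsg.subgroupBlockCoeff (Subgroup.centralizer (Q : Set G)) g)
        (ξ : Subgroup.centralizer (P : Set G) → ℂ) -
        Cfsg.brauerOmega P
        (Cfsg.subgroupBlockCoeff (Subgroup.centralizer (Q : Set G)) g)
        (ξ₀ : Subgroup.centralizer (P : Set G) → ℂ)) := by
    intro g hg ξ hξ
    exact bq_omega_congr hPr P _ (fun d hd x => bq_sbc_inner _ g d (hDK hd) x)
      (bq_sbc_memLocalRing hPr _ g hg) ξ ξ₀ (h7_sameBlock_symm hξ)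
  refine ⟨f.1, ⟨⟨hQ, f.2⟩, ⟨hP, ξ₀, rfl⟩, hQP, hPN, hstf, ?_⟩, ?_⟩
  · intro ξ hξ
    have h1 := h7_memLocalIdeal_add hPr (hall f.1 f.2 ξ hξ) hf1
    rwa [sub_add_sub_cancel] at h1
  · rintro f' ⟨⟨_, hf'b⟩, _, _, _, hst', h1'⟩
    have h2 := h1' ξ₀ (h7_sameBlock_refl hPr _)
    exact bq_omega_sbc_unique p M hM P hP _ hDK f' f.1 hf'b f.2 hst' hstf ξ₀ h2 hf1

end

end Cfsg.Agent.Lib.Helper25
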