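import Mathlib
import Cfsg.Prelude.Def_Blocks
import Cfsg.Prelude.Def_BlockRank
import Cfsg.Agent.Lib.helper7.BlockSing2
import Cfsg.Agent.Lib.Helper25.BlockRankTrace
import Cfsg.Agent.Lib.Helper25.CharOrth
import Cfsg.Agent.Lib.Helper25.CharBasic

/-!
Block orthogonality on p-regular elements: characters in different blocks are orthogonal on the p-regular elements.
-/

set_option autoImplicit false
set_option linter.style.haveILetI false
set_option linter.unusedVariables false
set_option warn.classDefReducibility false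

namespace Cfsg.Agent.Lib.Helper25
open Cfsg.Agent.Lib.helper7
open Cfsg.Agent.Lib.helper2
open scoped ComplexConjugate
section

/-- block orthogonality: `Σ_{x p-regular} ψ(x) conj χ(x) = 0` for `χ`, `ψ` in different blocks -/
theorem cd_block_orth {G : Type*} [Group G] [Fintype G] [Fintype (Cfsg.IrrCharacter G)]
    {p : ℕ} [hp : Fact p.Prime] {M : Ideal Cfsg.AlgInt} (hM : Cfsg.IsPModular p M)
    (χ₀ : Cfsg.IrrCharacter G) [DecidablePred (· ∈ Cfsg.blockOf M (χ₀ : G → ℂ))]
    (ψ : Cfsg.IrrCharacter G) (hψ : ψ ∉ Cfsg.blockOf M (χ₀ : G → ℂ))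
    (χ : Cfsg.IrrCharacter G) (hχ : χ ∈ Cfsg.blockOf M (χ₀ : G → ℂ)) :
    Cfsg.classInner (Cfsg.pRegularPart p (ψ : G → ℂ)) (χ : G → ℂ) = 0 := by
  have hGne : (Nat.card G : ℂ) ≠ 0 := by exact_mod_cast Nat.card_pos.ne'
  set K : G → G → ℂ := fun x y => ∑ χ' : Cfsg.IrrCharacter G,
    (if χ' ∈ Cfsg.blockOf M (χ₀ : G → ℂ) then (χ' : G → ℂ) x * conj ((χ' : G → ℂ) y) else 0)
    with hK
  have hKsymm : ∀ x y, K x y = conj (K y x) := by
    intro x y
    simp only [hK, map_sum]
    refine Finset.sum_congr rfl fun χ' _ => ?_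
    split_ifs
    · rw [map_mul, Complex.conj_conj, mul_comm]
    · rw [map_zero]
  have hK0 : ∀ x y, ¬ p ∣ orderOf x → p ∣ orderOf y → K x y = 0 :=
    fun x y hx hy => br_weak_orth hM χ₀ x y hx hy
  -- Σ_y K(x,y) ψ°(y) = 0
  have h1 : ∀ x : G, ∑ y : G, K x y * Cfsg.pRegularPart p (ψ : G → ℂ) y = 0 := by
    intro x
    by_cases hx : p ∣ orderOf x
    · apply Finset.sum_eq_zero
      intro y _
      by_cases hy : p ∣ orderOf y
      · rw [br_pRegularPart_sing p _ y hy, mul_zero]
      · rw [hKsymm, hK0 y x hy hx, map_zero, zero_mul]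
    · have h2 : ∀ y : G, K x y * Cfsg.pRegularPart p (ψ : G → ℂ) y = K x y * (ψ : G → ℂ) y := by
        intro y
        by_cases hy : p ∣ orderOf y
        · rw [hK0 x y hx hy, zero_mul, zero_mul]
        · rw [br_pRegularPart_reg p _ y hy]
      rw [Finset.sum_congr rfl (fun y _ => h2 y)]
      simp only [hK, Finset.sum_mul]
      rw [Finset.sum_comm]
      apply Finset.sum_eq_zero
      intro χ' _
      by_cases hχ' : χ' ∈ Cfsg.blockOf M (χ₀ : G → ℂ)
      · simp only [if_pos hχ']
        have h3 := irr_classInner ψ χ'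
        have hne : ψ ≠ χ' := fun h => hψ (h ▸ hχ')
        rw [if_neg hne] at h3
        unfold Cfsg.classInner at h3
        have h4 : ∑ g : G, (ψ : G → ℂ) g * conj ((χ' : G → ℂ) g) = 0 := by
          rcases mul_eq_zero.mp h3 with h | h
          · exact absurd (inv_eq_zero.mp h) hGne
          · exact h
        have h5 : ∑ y : G, (χ' : G → ℂ) x * conj ((χ' : G → ℂ) y) * (ψ : G → ℂ) y =
            (χ' : G → ℂ) x * ∑ g : G, (ψ : G → ℂ) g * conj ((χ' : G → ℂ) g) := by
          rw [Finset.mul_sum]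
          refine Finset.sum_congr rfl fun y _ => ?_
          ring
        rw [h5, h4, mul_zero]
      · simp only [if_neg hχ', zero_mul, Finset.sum_const_zero]
  -- rewrite as a vanishing combination of irreducible characters
  have h6 : ∀ x : G, ∑ χ' : Cfsg.IrrCharacter G,
      ((if χ' ∈ Cfsg.blockOf M (χ₀ : G → ℂ) then
        Cfsg.classInner (Cfsg.pRegularPart p (ψ : G → ℂ)) (χ' : G → ℂ) else 0) •
        (χ' : G → ℂ)) x = 0 := by
    intro x
    have h7 := h1 x
    simp only [hK, Finset.sum_mul] at h7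
    rw [Finset.sum_comm] at h7
    have h8 : ∀ χ' : Cfsg.IrrCharacter G,
        ∑ y : G, (if χ' ∈ Cfsg.blockOf M (χ₀ : G → ℂ) then
          (χ' : G → ℂ) x * conj ((χ' : G → ℂ) y) else 0) * Cfsg.pRegularPart p (ψ : G → ℂ) y =
        (Nat.card G : ℂ) * ((if χ' ∈ Cfsg.blockOf M (χ₀ : G → ℂ) then
        Cfsg.classInner (Cfsg.pRegularPart p (ψ : G → ℂ)) (χ' : G → ℂ) else 0) •
        (χ' : G → ℂ)) x := by
      intro χ'
      by_cases hχ' : χ' ∈ Cfsg.blockOf M (χ₀ : G → ℂ)
      · simp only [if_pos hχ', Pi.smul_apply, smul_eq_mul]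
        unfold Cfsg.classInner
        rw [← mul_assoc, ← mul_assoc, mul_inv_cancel₀ hGne, one_mul, Finset.sum_mul]
        refine Finset.sum_congr rfl fun y _ => ?_
        ring
      · simp only [if_neg hχ', zero_mul, Finset.sum_const_zero, zero_smul, Pi.zero_apply,
          mul_zero]
    rw [Finset.sum_congr rfl (fun χ' _ => h8 χ'), ← Finset.mul_sum] at h7
    rcases mul_eq_zero.mp h7 with h | h
    · exact absurd h hGne
    · exact h
  have h9 : (∑ χ' : Cfsg.IrrCharacter G,
      (if χ' ∈ Cfsg.blockOf M (χ₀ : G → ℂ) then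
        Cfsg.classInner (Cfsg.pRegularPart p (ψ : G → ℂ)) (χ' : G → ℂ) else 0) •
        (χ' : G → ℂ)) = 0 := by
    funext x
    rw [Finset.sum_apply]
    exact h6 x
  have h10 := congrArg (fun f => Cfsg.classInner f (χ : G → ℂ)) h9
  simp only [classInner_sum_left, classInner_smul_left, irr_classInner] at h10
  rw [Finset.sum_eq_single χ] at h10
  · rw [if_pos hχ, if_pos rfl, mul_one] at h10
    rw [h10]
    unfold Cfsg.classInner
    simp
  · intro χ' _ hne
    rw [if_neg hne, mul_zero]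
  · intro h
    exact absurd (Finset.mem_univ χ) h

end

end Cfsg.Agent.Lib.Helper25
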