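import Mathlib
import Cfsg.Prelude.Def_Blocks
import Cfsg.Prelude.Def_BlockRank
import Cfsg.Agent.Lib.helper7.BlockSing2
import Cfsg.Agent.Lib.helper7.BlockDefect
import Cfsg.Agent.Lib.helper7.BlockDefect2
import Cfsg.Agent.Lib.helper7.BlockQuot
import Cfsg.Agent.Lib.helper7.BlockQuot2
import Cfsg.Agent.Lib.helper7.CharCentral
import Cfsg.Agent.Lib.helper7.WordCount
import Cfsg.Agent.Lib.Helper25.BlockRankTrace
import Cfsg.Agent.Lib.Helper25.CharOrth
import Cfsg.Agent.Lib.Helper25.CharBasic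
import Cfsg.Agent.Lib.Helper25.BlockOrthReg
import Cfsg.Agent.S0941
import Cfsg.Agent.S0914

/-!
Blocks with a central defect group have p-regular rank one.
-/

set_option autoImplicit false
set_option linter.style.haveILetI false
set_option linter.unusedVariables false
set_option warn.classDefReducibility false

namespace Cfsg.Agent.Lib.Helper25
open Cfsg.Agent.Lib.helper7
open Cfsg.Agent.Lib.helper2
open scoped ComplexConjugate
section

/-- inner product of a central average with an irreducible character -/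
theorem cd_inner_avg {G : Type*} [Group G] [Fintype G] (P : Subgroup G) [Fintype P]
    (hPZ : P ≤ Subgroup.center G) (f : G → ℂ) (ψ : Cfsg.IrrCharacter G) :
    Cfsg.classInner (fun g => ∑ y : P, f ((y : G) * g)) (ψ : G → ℂ) =
      ((∑ y : P, (ψ : G → ℂ) y) / (ψ : G → ℂ) 1) * Cfsg.classInner f (ψ : G → ℂ) := by
  have hψ1 := irr_one_ne_zero ψ
  obtain ⟨n, hn, hn1⟩ := irr_one_eq_finrank ψ
  have hconj1 : conj ((ψ : G → ℂ) 1) = (ψ : G → ℂ) 1 := by
    rw [hn1, Complex.conj_natCast]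
  unfold Cfsg.classInner
  have h1 : ∀ y : P, ∑ g : G, f ((y : G) * g) * conj ((ψ : G → ℂ) g) =
      ((ψ : G → ℂ) y / (ψ : G → ℂ) 1) * ∑ g : G, f g * conj ((ψ : G → ℂ) g) := by
    intro y
    obtain ⟨c, hc⟩ := h7_central_char ψ.2 ((y : G)⁻¹) ((Subgroup.center G).inv_mem (hPZ y.2))
    have hc1 : c = (ψ : G → ℂ) (y : G)⁻¹ / (ψ : G → ℂ) 1 := by
      have := hc 1
      rw [mul_one] at this
      rw [this]
      field_simp
    rw [← Equiv.sum_comp (Equiv.mulLeft (y : G)⁻¹), Finset.mul_sum]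
    refine Finset.sum_congr rfl fun g _ => ?_
    simp only [Equiv.coe_mulLeft, mul_inv_cancel_left]
    rw [hc g, hc1, map_mul, map_div₀, hconj1, irr_inv, Complex.conj_conj]
    ring
  have h2 : ∑ g : G, (∑ y : P, f ((y : G) * g)) * conj ((ψ : G → ℂ) g) =
      ∑ y : P, ∑ g : G, f ((y : G) * g) * conj ((ψ : G → ℂ) g) := by
    rw [Finset.sum_comm]
    refine Finset.sum_congr rfl fun g _ => ?_
    rw [Finset.sum_mul]
  rw [h2, Finset.sum_congr rfl (fun y _ => h1 y), ← Finset.sum_mul, Finset.sum_div]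
  ring

/-- the `p`-regular part of a class function is a class function -/
theorem cd_pRegularPart_conj {G : Type*} [Group G] (p : ℕ) (f : G → ℂ)
    (hf : ∀ g h : G, f (h * g * h⁻¹) = f g) (g h : G) :
    Cfsg.pRegularPart p f (h * g * h⁻¹) = Cfsg.pRegularPart p f g := by
  have ho : orderOf (h * g * h⁻¹) = orderOf g := by
    have hc : IsConj g (h * g * h⁻¹) := isConj_iff.mpr ⟨h, rfl⟩
    exact (h7_isConj_orderOf hc).symm
  by_cases hg : p ∣ orderOf g
  · rw [br_pRegularPart_sing p f g hg, br_pRegularPart_sing p f _ (ho ▸ hg)]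
  · rw [br_pRegularPart_reg p f g hg, br_pRegularPart_reg p f _ (ho ▸ hg), hf]

/-- central averaging over a central `p`-subgroup does not change the `p`-regular part of a
function supported on `p`-regular elements -/
theorem cd_avg_reg {G : Type*} [Group G] [Fintype G] (p : ℕ) [hp : Fact p.Prime]
    (P : Subgroup G) [Fintype P] (hPZ : P ≤ Subgroup.center G) (hP : IsPGroup p P) (f : G → ℂ) :
    Cfsg.pRegularPart p (fun g => ∑ y : P, Cfsg.pRegularPart p f ((y : G) * g)) =
      Cfsg.pRegularPart p f := by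
  funext g
  by_cases hg : p ∣ orderOf g
  · rw [br_pRegularPart_sing p _ g hg, br_pRegularPart_sing p _ g hg]
  · rw [br_pRegularPart_reg p _ g hg, br_pRegularPart_reg p _ g hg]
    rw [Finset.sum_eq_single (1 : P)]
    · rw [Subgroup.coe_one, one_mul, br_pRegularPart_reg p _ g hg]
    · intro y _ hy
      apply br_pRegularPart_sing
      have hcomm : Commute (y : G) g := by
        have := Subgroup.mem_center_iff.mp (hPZ y.2) g
        exact this.symm
      have hupow : ∃ k : ℕ, orderOf (y : G) = p ^ k := by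
        obtain ⟨k, hk⟩ := (IsPGroup.iff_orderOf.mp hP) y
        rw [← Subgroup.orderOf_coe] at hk
        exact ⟨k, hk⟩
      have hy1 : (y : G) ≠ 1 := fun h => hy (Subtype.ext h)
      exact h7_psingular_mul p (y : G) g hcomm hupow hy1 hg
    · intro h
      exact absurd (Finset.mem_univ _) h

end

section

theorem cd_normal_of_le_center {G : Type*} [Group G] (P : Subgroup G)
    (hPZ : P ≤ Subgroup.center G) : P.Normal := by
  refine ⟨fun n hn g => ?_⟩
  have := Subgroup.mem_center_iff.mp (hPZ hn) g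
  rw [this, mul_inv_cancel_right]
  exact hn

/-- `[χ°, ψ] = conj [ψ°, χ]` -/
theorem cd_inner_reg_symm {G : Type*} [Group G] [Fintype G] (p : ℕ) (f g : G → ℂ) :
    Cfsg.classInner (Cfsg.pRegularPart p f) g = conj (Cfsg.classInner (Cfsg.pRegularPart p g) f) := by
  unfold Cfsg.classInner
  rw [map_mul, map_inv₀, Complex.conj_natCast, map_sum]
  congr 1
  refine Finset.sum_congr rfl fun x _ => ?_
  by_cases hx : p ∣ orderOf x
  · rw [br_pRegularPart_sing p f x hx, br_pRegularPart_sing p g x hx]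
    simp
  · rw [br_pRegularPart_reg p f x hx, br_pRegularPart_reg p g x hx, map_mul, Complex.conj_conj,
      mul_comm]

/-- all `p`-regular parts of members of the block are proportional to that of the unique member
with the central `p`-subgroup `P` in its kernel -/
theorem cd_prop {G : Type*} [Group G] [Fintype G] [Fintype (Cfsg.IrrCharacter G)]
    {p : ℕ} [hp : Fact p.Prime] {M : Ideal Cfsg.AlgInt} (hM : Cfsg.IsPModular p M)
    (P : Subgroup G) [Fintype P] (hPZ : P ≤ Subgroup.center G) (hP : IsPGroup p P)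
    (χ₀ : Cfsg.IrrCharacter G) (ψ₀ : Cfsg.IrrCharacter G)
    (huniq : ∀ ψ ∈ Cfsg.blockOf M (χ₀ : G → ℂ),
      (∀ n ∈ P, (ψ : G → ℂ) n = (ψ : G → ℂ) 1) → ψ = ψ₀)
    (χ : Cfsg.IrrCharacter G) (hχ : χ ∈ Cfsg.blockOf M (χ₀ : G → ℂ)) :
    ∃ c : ℂ, Cfsg.pRegularPart p (χ : G → ℂ) = c • Cfsg.pRegularPart p (ψ₀ : G → ℂ) := by
  classical
  haveI : P.Normal := cd_normal_of_le_center P hPZ
  set F : G → ℂ := fun g => ∑ y : P, Cfsg.pRegularPart p (χ : G → ℂ) ((y : G) * g) with hF
  have hFcl : ∀ g h : G, F (h * g * h⁻¹) = F g := by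
    intro g h
    simp only [hF]
    refine Finset.sum_congr rfl fun y _ => ?_
    have hy := Subgroup.mem_center_iff.mp (hPZ y.2)
    have : (y : G) * (h * g * h⁻¹) = h * ((y : G) * g) * h⁻¹ := by
      rw [← mul_assoc, ← mul_assoc, ← hy h]
      group
    rw [this]
    exact cd_pRegularPart_conj p _ (fun g h => irr_conj_invariant χ g h) _ _
  have hexp := classFunction_expansion F hFcl
  have hcoef : ∀ ψ : Cfsg.IrrCharacter G, ψ ≠ ψ₀ → Cfsg.classInner F (ψ : G → ℂ) = 0 := by
    intro ψ hne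
    rw [hF, cd_inner_avg P hPZ]
    by_cases hψ : ψ ∈ Cfsg.blockOf M (χ₀ : G → ℂ)
    · have h1 : ¬ ∀ n ∈ P, (ψ : G → ℂ) n = (ψ : G → ℂ) 1 := fun h => hne (huniq ψ hψ h)
      rw [h7_sum_normal_zero P ψ h1, zero_div, zero_mul]
    · have h2 := cd_block_orth hM χ₀ ψ hψ χ hχ
      rw [cd_inner_reg_symm, h2, map_zero, mul_zero]
  have hF2 : F = Cfsg.classInner F (ψ₀ : G → ℂ) • (ψ₀ : G → ℂ) := by
    rw [Finset.sum_eq_single ψ₀] at hexp
    · exact hexp
    · intro ψ _ hne
      rw [hcoef ψ hne, zero_smul]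
    · intro h
      exact absurd (Finset.mem_univ _) h
  refine ⟨Cfsg.classInner F (ψ₀ : G → ℂ), ?_⟩
  have h3 := cd_avg_reg p P hPZ hP (χ : G → ℂ)
  rw [← h3]
  show Cfsg.pRegularPart p F = _
  rw [hF2]
  funext g
  by_cases hg : p ∣ orderOf g
  · rw [br_pRegularPart_sing p _ g hg, Pi.smul_apply, br_pRegularPart_sing p _ g hg, smul_zero]
  · rw [br_pRegularPart_reg p _ g hg, Pi.smul_apply, Pi.smul_apply, br_pRegularPart_reg p _ g hg]
    congr 1
    rw [← hF2]

/-- consequently the block has `p`-regular rank one -/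
theorem cd_rank_one {G : Type*} [Group G] [Fintype G] [Fintype (Cfsg.IrrCharacter G)]
    {p : ℕ} [hp : Fact p.Prime] {M : Ideal Cfsg.AlgInt} (hM : Cfsg.IsPModular p M)
    (P : Subgroup G) [Fintype P] (hPZ : P ≤ Subgroup.center G) (hP : IsPGroup p P)
    (χ₀ : Cfsg.IrrCharacter G) (ψ₀ : Cfsg.IrrCharacter G)
    (hψ₀ : ψ₀ ∈ Cfsg.blockOf M (χ₀ : G → ℂ))
    (huniq : ∀ ψ ∈ Cfsg.blockOf M (χ₀ : G → ℂ),
      (∀ n ∈ P, (ψ : G → ℂ) n = (ψ : G → ℂ) 1) → ψ = ψ₀) :
    Cfsg.blockRank p (Cfsg.blockOf M (χ₀ : G → ℂ)) = 1 := by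
  unfold Cfsg.blockRank
  have hspan : Submodule.span ℂ ((fun χ : Cfsg.IrrCharacter G => Cfsg.pRegularPart p (χ : G → ℂ)) ''
      Cfsg.blockOf M (χ₀ : G → ℂ)) = Submodule.span ℂ {Cfsg.pRegularPart p (ψ₀ : G → ℂ)} := by
    apply le_antisymm
    · rw [Submodule.span_le]
      rintro _ ⟨χ, hχ, rfl⟩
      obtain ⟨c, hc⟩ := cd_prop hM P hPZ hP χ₀ ψ₀ huniq χ hχ
      show Cfsg.pRegularPart p (χ : G → ℂ) ∈ Submodule.span ℂ {Cfsg.pRegularPart p (ψ₀ : G → ℂ)}
      rw [hc]
      exact Submodule.smul_mem _ _ (Submodule.mem_span_singleton_self _)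
    · rw [Submodule.span_le]
      intro f hf
      rw [Set.mem_singleton_iff] at hf
      rw [hf]
      exact Submodule.subset_span ⟨ψ₀, hψ₀, rfl⟩
  rw [hspan]
  apply finrank_span_singleton
  intro h
  have h1 := congrFun h 1
  rw [br_pRegularPart_reg p _ 1 (by rw [orderOf_one]; exact hp.out.one_lt.ne' ∘ Nat.dvd_one.mp)] at h1
  exact irr_one_ne_zero ψ₀ h1

end

section

/-- a block with a central defect group has `p`-regular rank one -/
theorem cd_main {G : Type*} [Group G] [Fintype G] (p : ℕ) [hp : Fact p.Prime]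
    (M : Ideal Cfsg.AlgInt) (hM : Cfsg.IsPModular p M) (B : Set (Cfsg.IrrCharacter G))
    (hB : Cfsg.IsPBlock M B) (P : Subgroup G) (hD : Cfsg.IsDefectGroup p M B P)
    (hPZ : P ≤ Subgroup.center G) : Cfsg.blockRank p B = 1 := by
  classical
  haveI : Fintype (Cfsg.IrrCharacter G) := Fintype.ofFinite _
  haveI : Fintype P := Fintype.ofFinite _
  have hMp := hM.2.1.isPrime
  obtain ⟨χ₁, rfl⟩ := hB
  obtain ⟨g, hdc, hSyl⟩ := hD
  haveI hPn : P.Normal := cd_normal_of_le_center P hPZ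
  set C := Subgroup.centralizer ({g} : Set G) with hC
  obtain ⟨S, hS⟩ := hSyl
  have hP : IsPGroup p P := by
    rw [hS]
    exact S.isPGroup'.map C.subtype
  have hPcard : Nat.card P = p ^ (Nat.card C).factorization p := by
    rw [hS, Subgroup.card_map_of_injective C.subtype_injective]
    exact Sylow.card_eq_multiplicity S
  have hcardG : Nat.card G = C.index * Nat.card C := (Subgroup.index_mul_card C).symm
  have hidx0 : C.index ≠ 0 := Subgroup.index_ne_zero_of_finite
  have hC0 : Nat.card C ≠ 0 := Nat.card_pos.ne'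
  have hfacG : (Nat.card G).factorization p =
      C.index.factorization p + (Nat.card C).factorization p := by
    rw [hcardG, Nat.factorization_mul hidx0 hC0]
    rfl
  -- lower bound for degrees in the block
  have hlow : ∀ χ ∈ Cfsg.blockOf M (χ₁ : G → ℂ),
      C.index.factorization p ≤ (Cfsg.charDegree (χ : G → ℂ)).factorization p :=
    fun χ hχ => h7_defect_lower hM χ g (hdc.2.2 χ hχ)
  -- the quotient group
  have hcardQ : Nat.card (G ⧸ P) * Nat.card P = Nat.card G := by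
    rw [← Subgroup.index_eq_card, Subgroup.index_mul_card]
  have hQ0 : Nat.card (G ⧸ P) ≠ 0 := Nat.card_pos.ne'
  have hP0 : Nat.card P ≠ 0 := Nat.card_pos.ne'
  have hfacQ : (Nat.card (G ⧸ P)).factorization p = C.index.factorization p := by
    have h1 : (Nat.card G).factorization p =
        (Nat.card (G ⧸ P)).factorization p + (Nat.card P).factorization p := by
      rw [← hcardQ, Nat.factorization_mul hQ0 hP0]
      rfl
    have h2 : (Nat.card P).factorization p = (Nat.card C).factorization p := by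
      rw [hPcard, hp.out.factorization_pow, Finsupp.single_eq_same]
    omega
  have hCidx : ∃ k : ℕ, (Subgroup.centralizer (P : Set G)).index = p ^ k := by
    refine ⟨0, ?_⟩
    have : Subgroup.centralizer (P : Set G) = ⊤ := by
      rw [eq_top_iff]
      intro x _
      rw [Subgroup.mem_centralizer_iff]
      intro y hy
      exact (Subgroup.mem_center_iff.mp (hPZ hy) x).symm
    rw [this, Subgroup.index_top, pow_zero]
  have h941 := (Cfsg.Agent.S0941.result p M hM P hP hCidx).1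
  -- members of the block with P in the kernel are unique
  have huniq2 : ∀ ψ ∈ Cfsg.blockOf M (χ₁ : G → ℂ), ∀ ψ' ∈ Cfsg.blockOf M (χ₁ : G → ℂ),
      (∀ n ∈ P, (ψ : G → ℂ) n = (ψ : G → ℂ) 1) → (∀ n ∈ P, (ψ' : G → ℂ) n = (ψ' : G → ℂ) 1) →
      ψ' = ψ := by
    intro ψ hψ ψ' hψ' hk hk'
    obtain ⟨φ, hφ⟩ := h7_deflate P ψ hk
    obtain ⟨φ', hφ'⟩ := h7_deflate P ψ' hk'
    have hinf : (φ : G ⧸ P → ℂ) ∘ QuotientGroup.mk = (ψ : G → ℂ) := funext fun x => hφ x
    have hinf' : (φ' : G ⧸ P → ℂ) ∘ QuotientGroup.mk = (ψ' : G → ℂ) := funext fun x => hφ' x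
    have hsame : Cfsg.SameBlock M (ψ : G → ℂ) (ψ' : G → ℂ) :=
      h7_sameBlock_trans hMp (h7_sameBlock_symm hψ) hψ'
    have hsameQ : Cfsg.SameBlock M (φ : G ⧸ P → ℂ) (φ' : G ⧸ P → ℂ) := by
      rw [h941 φ φ', hinf, hinf']
      exact hsame
    -- φ has defect zero
    obtain ⟨hd1, hd2, hd3⟩ := h7_charDegree_props φ
    obtain ⟨he1, he2, he3⟩ := h7_charDegree_props ψ
    have hdeg : Cfsg.charDegree (φ : G ⧸ P → ℂ) = Cfsg.charDegree (ψ : G → ℂ) := by
      have h1 : ((Cfsg.charDegree (φ : G ⧸ P → ℂ) : ℕ) : ℂ) = (Cfsg.charDegree (ψ : G → ℂ) : ℕ) := by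
        rw [hd3, he3]
        have := hφ 1
        rwa [QuotientGroup.mk_one] at this
      exact_mod_cast h1
    have hdz : ¬ p ∣ Nat.card (G ⧸ P) / Cfsg.charDegree (φ : G ⧸ P → ℂ) := by
      intro hdvd
      obtain ⟨k, hk⟩ := hd1
      have hk0 : k ≠ 0 := by
        rintro rfl
        rw [mul_zero] at hk
        exact hQ0 hk
      rw [hk, Nat.mul_div_cancel_left _ hd2] at hdvd
      have h1 : (Nat.card (G ⧸ P)).factorization p =
          (Cfsg.charDegree (φ : G ⧸ P → ℂ)).factorization p + k.factorization p := by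
        rw [hk, Nat.factorization_mul hd2.ne' hk0]
        rfl
      have h2 := hlow ψ hψ
      rw [← hdeg] at h2
      have h3 : 1 ≤ k.factorization p :=
        (hp.out.dvd_iff_one_le_factorization hk0).mp hdvd
      omega
    have hblock := (Cfsg.Agent.S0914.result p M hM φ).mp hdz
    have hmem : φ' ∈ Cfsg.blockOf M (φ : G ⧸ P → ℂ) := hsameQ
    rw [hblock, Set.mem_singleton_iff] at hmem
    apply Subtype.ext
    rw [← hinf, ← hinf', hmem]
  obtain ⟨ψ₀, hψ₀, hψ₀k⟩ := h7_dominance hM P hP χ₁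
  exact cd_rank_one hM P hPZ hP χ₁ ψ₀ hψ₀
    (fun ψ hψ hk => huniq2 ψ₀ hψ₀ ψ hψ hψ₀k hk)

end

end Cfsg.Agent.Lib.Helper25
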