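import Mathlib
import Cfsg.Prelude.Def_Blocks
import Cfsg.Agent.Lib.Helper25.Codegree
import Cfsg.Agent.Lib.Helper25.KnorrBound
import Cfsg.Agent.Lib.Helper25.ExtraspecialUnique
import Cfsg.Agent.Lib.Helper1.MinNormal

/-!
The primes dividing `|G|` are the primes dividing the codegrees of the irreducible characters.
-/

set_option autoImplicit false
set_option linter.deprecated false

namespace Cfsg.Agent.Lib.Helper25

universe u

/-- the codegree written with the index of the kernel -/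
theorem cod_eq_index_div {G : Type*} [Group G] [Finite G] (χ : Cfsg.IrrCharacter G) :
    Nat.card G / (Nat.card {g : G // (χ : G → ℂ) g = (χ : G → ℂ) 1} *
      Cfsg.charDegree (χ : G → ℂ)) = (irrKer χ).index / Cfsg.charDegree (χ : G → ℂ) := by
  have hcard : Nat.card {g : G // (χ : G → ℂ) g = (χ : G → ℂ) 1} = Nat.card (irrKer χ) := by
    apply Nat.card_congr
    exact Equiv.subtypeEquivRight (fun g => (mem_irrKer χ g).symm)
  rw [hcard, ← Subgroup.card_mul_index (irrKer χ)]
  exact Nat.mul_div_mul_left _ _ Nat.card_pos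

theorem cod_infl {G Q : Type*} [Group G] [Group Q] [Finite G] [Finite Q] (f : G →* Q)
    (hf : Function.Surjective f) (α : Cfsg.IrrCharacter Q) :
    Nat.card G / (Nat.card {g : G // (xs_infl f hf α : G → ℂ) g = (xs_infl f hf α : G → ℂ) 1} *
      Cfsg.charDegree (xs_infl f hf α : G → ℂ)) =
    Nat.card Q / (Nat.card {g : Q // (α : Q → ℂ) g = (α : Q → ℂ) 1} *
      Cfsg.charDegree (α : Q → ℂ)) := by
  rw [cod_eq_index_div, cod_eq_index_div]
  have h1 : irrKer (xs_infl f hf α) = (irrKer α).comap f := by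
    ext g
    rw [Subgroup.mem_comap, mem_irrKer, mem_irrKer, xs_infl_apply, xs_infl_apply, map_one]
  have h2 : Cfsg.charDegree (xs_infl f hf α : G → ℂ) = Cfsg.charDegree (α : Q → ℂ) := by
    unfold Cfsg.charDegree
    rw [xs_infl_apply, map_one]
  rw [h1, h2, Subgroup.index_comap_of_surjective _ hf]

theorem cod_sum_sq {G : Type*} [Group G] [Fintype G] [Fintype (Cfsg.IrrCharacter G)] :
    (∑ χ : Cfsg.IrrCharacter G, Cfsg.charDegree (χ : G → ℂ) ^ 2) = Nat.card G := by
  classical
  have h := irr_regular_indicator (G := G) 1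
  rw [if_pos rfl] at h
  have : ((∑ χ : Cfsg.IrrCharacter G, Cfsg.charDegree (χ : G → ℂ) ^ 2 : ℕ) : ℂ) =
      ((Nat.card G : ℕ) : ℂ) := by
    rw [← h]
    push_cast
    refine Finset.sum_congr rfl fun χ _ => ?_
    rw [(charDegree_irr χ).1]
    ring
  exact_mod_cast this

theorem cod_caseB {G : Type*} [Group G] [Finite G] (p : ℕ) (hp : p.Prime)
    (hpG : p ∣ Nat.card G) (N : Subgroup G) [hN : N.Normal]
    (hmin : ∀ M : Subgroup G, M.Normal → M ≤ N → M = ⊥ ∨ M = N) (hidx : ¬ p ∣ N.index) :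
    ∃ χ : Cfsg.IrrCharacter G, p ∣ (Nat.card G / (Nat.card {g : G // (χ : G → ℂ) g = (χ : G → ℂ) 1} * Cfsg.charDegree (χ : G → ℂ))) := by
  classical
  haveI := Fintype.ofFinite G
  haveI : Fintype (Cfsg.IrrCharacter G) := Fintype.ofFinite _
  -- a character not containing N in its kernel and of degree prime to p
  have hex : ∃ χ : Cfsg.IrrCharacter G, ¬ (∀ w ∈ N, (χ : G → ℂ) w = (χ : G → ℂ) 1) ∧
      ¬ p ∣ Cfsg.charDegree (χ : G → ℂ) := by
    by_contra hcon
    push Not at hcon
    have h1 := knb_sum_sq_ker (X := G) N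
    have h2 : Nat.card N * ∑ χ ∈ Finset.univ.filter
        (fun χ : Cfsg.IrrCharacter G => ∀ w ∈ N, (χ : G → ℂ) w = (χ : G → ℂ) 1),
        Cfsg.charDegree (χ : G → ℂ) ^ 2 = Nat.card G := by
      have : ((Nat.card N * ∑ χ ∈ Finset.univ.filter
        (fun χ : Cfsg.IrrCharacter G => ∀ w ∈ N, (χ : G → ℂ) w = (χ : G → ℂ) 1),
        Cfsg.charDegree (χ : G → ℂ) ^ 2 : ℕ) : ℂ) = ((Nat.card G : ℕ) : ℂ) := by
        rw [← h1]
        push_cast
        congr 1
        refine Finset.sum_congr rfl fun χ _ => ?_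
        rw [(charDegree_irr χ).1]
        ring
      exact_mod_cast this
    have h3 : ∑ χ ∈ Finset.univ.filter
        (fun χ : Cfsg.IrrCharacter G => ∀ w ∈ N, (χ : G → ℂ) w = (χ : G → ℂ) 1),
        Cfsg.charDegree (χ : G → ℂ) ^ 2 = N.index := by
      have h4 := Subgroup.card_mul_index N
      rw [← h2] at h4
      exact (Nat.eq_of_mul_eq_mul_left Nat.card_pos h4).symm
    have h5 := cod_sum_sq (G := G)
    rw [← Finset.sum_filter_add_sum_filter_not Finset.univ
      (fun χ : Cfsg.IrrCharacter G => ∀ w ∈ N, (χ : G → ℂ) w = (χ : G → ℂ) 1), h3] at h5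
    have h6 : p ∣ ∑ χ ∈ Finset.univ.filter
        (fun χ : Cfsg.IrrCharacter G => ¬ ∀ w ∈ N, (χ : G → ℂ) w = (χ : G → ℂ) 1),
        Cfsg.charDegree (χ : G → ℂ) ^ 2 := by
      apply Finset.dvd_sum
      intro χ hχ
      have hχ2 := (Finset.mem_filter.1 hχ).2
      push Not at hχ2
      exact dvd_pow (hcon χ hχ2) (by norm_num)
    rw [← h5] at hpG
    exact hidx ((Nat.dvd_add_left h6).1 hpG)
  obtain ⟨χ, hχN, hχp⟩ := hex
  refine ⟨χ, ?_⟩
  have hK : irrKer χ ⊓ N = ⊥ := by
    rcases hmin (irrKer χ ⊓ N) inferInstance inf_le_right with h | h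
    · exact h
    · exfalso
      apply hχN
      intro w hw
      rw [← mem_irrKer]
      have : w ∈ irrKer χ ⊓ N := by rw [h]; exact hw
      exact this.1
  have hKdvd : Nat.card (irrKer χ) ∣ N.index := by
    have h1 := Subgroup.relIndex_dvd_index_of_normal N (irrKer χ)
    rw [← Subgroup.inf_relIndex_right, inf_comm, hK, Subgroup.relIndex_bot_left] at h1
    exact h1
  have hcard : Nat.card {g : G // (χ : G → ℂ) g = (χ : G → ℂ) 1} = Nat.card (irrKer χ) := by
    apply Nat.card_congr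
    exact Equiv.subtypeEquivRight (fun g => (mem_irrKer χ g).symm)
  have hdvd := ker_mul_degree_dvd χ
  have hcop : ¬ p ∣ Nat.card {g : G // (χ : G → ℂ) g = (χ : G → ℂ) 1} *
      Cfsg.charDegree (χ : G → ℂ) := by
    intro h
    rcases (Nat.Prime.dvd_mul hp).1 h with h | h
    · rw [hcard] at h
      exact hidx (h.trans hKdvd)
    · exact hχp h
  obtain ⟨q, hq⟩ := hdvd
  rw [hq, Nat.mul_div_cancel_left _ (Nat.pos_of_ne_zero (fun h0 => hcop (by rw [h0]; exact dvd_zero p)))]
  rw [hq] at hpG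
  rcases (Nat.Prime.dvd_mul hp).1 hpG with h | h
  · exact absurd h hcop
  · exact h

theorem cod_forward (p : ℕ) (hp : p.Prime) : ∀ (n : ℕ) (G : Type u) [Group G] [Finite G],
    Nat.card G = n → p ∣ Nat.card G →
    ∃ χ : Cfsg.IrrCharacter G, p ∣ (Nat.card G / (Nat.card {g : G // (χ : G → ℂ) g = (χ : G → ℂ) 1} * Cfsg.charDegree (χ : G → ℂ))) := by
  intro n
  induction n using Nat.strong_induction_on with
  | _ n ih =>
    intro G _ _ hn hpG
    haveI : Nontrivial G := by
      rw [← Finite.one_lt_card_iff_nontrivial]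
      have := Nat.le_of_dvd Nat.card_pos hpG
      have := hp.two_le
      omega
    obtain ⟨N, hNn, hN0, hmin⟩ := Cfsg.Agent.Lib.Helper1.exists_minimal_normal (G := G)
    haveI := hNn
    by_cases hidx : p ∣ N.index
    · have hlt : Nat.card (G ⧸ N) < n := by
        rw [← hn, ← Subgroup.index_eq_card, ← Subgroup.card_mul_index N]
        have h1 : 1 < Nat.card N := by
          rw [Subgroup.one_lt_card_iff_ne_bot]
          exact hN0
        have h2 : 0 < N.index := Nat.pos_of_ne_zero Subgroup.index_ne_zero_of_finite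
        nlinarith
      have hpQ : p ∣ Nat.card (G ⧸ N) := by
        rw [← Subgroup.index_eq_card]; exact hidx
      obtain ⟨α, hα⟩ := ih _ hlt (G ⧸ N) rfl hpQ
      refine ⟨xs_infl (QuotientGroup.mk' N) (QuotientGroup.mk'_surjective N) α, ?_⟩
      rw [cod_infl]
      exact hα
    · exact cod_caseB p hp hpG N hmin hidx

theorem cod_main {G : Type*} [Group G] [Finite G] (p : ℕ) (hp : p.Prime) :
    p ∣ Nat.card G ↔ ∃ χ : Cfsg.IrrCharacter G, p ∣ (Nat.card G / (Nat.card {g : G // (χ : G → ℂ) g = (χ : G → ℂ) 1} * Cfsg.charDegree (χ : G → ℂ))) := by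
  constructor
  · intro h
    exact cod_forward p hp _ G rfl h
  · rintro ⟨χ, hχ⟩
    have hdvd := ker_mul_degree_dvd χ
    have := Nat.mul_div_cancel' hdvd
    rw [← this]
    exact Dvd.dvd.mul_left hχ _

end Cfsg.Agent.Lib.Helper25
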