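import Mathlib
import Cfsg.Prelude.Def_Blocks
import Cfsg.Prelude.Def_Local
import Cfsg.Agent.Lib.Helper25.BlockNormalP
import Cfsg.Agent.Lib.helper7.BlockSing2
import Cfsg.Agent.Lib.Helper5.PConstr

/-!
A group with C_G(O_p(G)) <= O_p(G) has a single p-block (S4487); p-solvable groups with trivial p'-core (S0915).
-/

set_option autoImplicit false
set_option linter.style.haveILetI false

namespace Cfsg.Agent.Lib.Helper25
open Cfsg.Agent.Lib.helper7
section

/-- if `C_G(O_p(G)) ≤ O_p(G)` then `G` has a single `p`-block (S4487) -/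
theorem sb_single_block {G : Type*} [Group G] [Finite G] (p : ℕ) [hp : Fact p.Prime]
    (M : Ideal Cfsg.AlgInt) (hM : Cfsg.IsPModular p M)
    (hconstr : Subgroup.centralizer ((Cfsg.pCore p G) : Set G) ≤ Cfsg.pCore p G)
    (χ ψ : Cfsg.IrrCharacter G) : Cfsg.SameBlock M (χ : G → ℂ) (ψ : G → ℂ) := by
  classical
  haveI := Fintype.ofFinite G
  haveI : Fintype (Cfsg.IrrCharacter G) := Fintype.ofFinite _
  have hMp := hM.2.1.isPrime
  haveI hON : (Cfsg.pCore p G).Normal := Subgroup.sSup_normal _ (fun _ h => h.1)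
  have hOP : IsPGroup p (Cfsg.pCore p G) := Sylow.sSup_of_normal _ (fun _ h => h.2) (fun _ h => h.1)
  set B := Cfsg.blockOf M (χ : G → ℂ) with hB
  have hχB : χ ∈ B := h7_sameBlock_refl hMp _
  -- the block idempotent is supported at 1
  have hsupp : ∀ g : G, g ≠ 1 → Cfsg.blockCoeff B g = 0 := by
    intro g hg
    by_cases hgs : p ∣ orderOf g
    · exact h7_blockCoeff_psingular hM χ g hgs
    · by_cases hgC : g ∈ Subgroup.centralizer ((Cfsg.pCore p G) : Set G)
      · exfalso
        have hgO := hconstr hgC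
        obtain ⟨k, hk⟩ := (IsPGroup.iff_orderOf.mp hOP) ⟨g, hgO⟩
        rw [Subgroup.orderOf_mk] at hk
        have hk0 : k = 0 := by
          by_contra hk0
          exact hgs (hk ▸ dvd_pow_self p hk0)
        rw [hk0, pow_zero, orderOf_eq_one_iff] at hk
        exact hg hk
      · exact bn_main p M hM (Cfsg.pCore p G) hOP B ⟨χ, rfl⟩ g hgC
  have heval : ∀ φ : Cfsg.IrrCharacter G,
      Cfsg.blockCoeff B 1 * (φ : G → ℂ) 1 = (if φ ∈ B then (1 : ℂ) else 0) * (φ : G → ℂ) 1 := by
    intro φ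
    have h1 := h7_coef_eval (fun χ' : Cfsg.IrrCharacter G => if χ' ∈ B then (1 : ℂ) else 0) φ
    rw [← h1, Finset.sum_eq_single (1 : G)]
    · rw [h7_coef_indicator]
    · intro g _ hg
      rw [h7_coef_indicator, hsupp g hg, zero_mul]
    · intro h
      exact absurd (Finset.mem_univ _) h
  have h1 := heval χ
  rw [if_pos hχB] at h1
  have hc1 : Cfsg.blockCoeff B 1 = 1 := mul_right_cancel₀ (irr_one_ne_zero χ) h1
  have h2 := heval ψ
  rw [hc1] at h2
  by_contra hψ
  have hψB : ψ ∉ B := hψ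
  rw [if_neg hψB, zero_mul, one_mul] at h2
  exact irr_one_ne_zero ψ h2

/-- a `p`-solvable group with trivial `p'`-core has a single `p`-block (S0915) -/
theorem sb_single_block_psolvable {G : Type*} [Group G] [Finite G] (p : ℕ) [Fact p.Prime]
    (M : Ideal Cfsg.AlgInt) (hM : Cfsg.IsPModular p M) (hsolv : Cfsg.IsPSolvable p G)
    (hcore : Cfsg.pPrimeCore p G = ⊥) (χ ψ : Cfsg.IrrCharacter G) :
    Cfsg.SameBlock M (χ : G → ℂ) (ψ : G → ℂ) :=
  sb_single_block p M hM (Cfsg.Agent.Lib.Helper5.h5_centralizer_pCore_le hsolv hcore) χ ψ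

end

end Cfsg.Agent.Lib.Helper25
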