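import Mathlib
import Cfsg.Prelude.Def_Blocks
import Cfsg.Prelude.Def_BlockRank
import Cfsg.Agent.Lib.helper7.BlockDefect2
import Cfsg.Agent.Lib.Helper11.VirtChar
import Cfsg.Agent.Lib.Helper25.BlockRankTrace
import Cfsg.Agent.Lib.Helper25.BlockOrthReg
import Cfsg.Agent.Lib.Helper25.CentralDefect
import Cfsg.Agent.Lib.Helper25.CharOrth
import Cfsg.Agent.Lib.Helper25.CharBasic
import Cfsg.Agent.S4425

/-!
For a block of defect d, p^d times the p-regular part of an integer combination of members of the block is again such a combination.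
-/

set_option autoImplicit false
set_option linter.style.haveILetI false
set_option linter.unusedVariables false
set_option warn.classDefReducibility false

namespace Cfsg.Agent.Lib.Helper25
open Cfsg.Agent.Lib.helper7
open Cfsg.Agent.Lib.helper2
open Cfsg.Agent.Lib.Helper11
open scoped ComplexConjugate
section

/-- for `ψ` in a block `B` of defect `d`, `p^d ψ°` is an integer combination of members of `B` -/
theorem rg_single {G : Type*} [Group G] [Fintype G] [Fintype (Cfsg.IrrCharacter G)]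
    (p : ℕ) [hp : Fact p.Prime] (M : Ideal Cfsg.AlgInt) (hM : Cfsg.IsPModular p M)
    (χ₀ : Cfsg.IrrCharacter G) [DecidablePred (· ∈ Cfsg.blockOf M (χ₀ : G → ℂ))]
    (ψ : Cfsg.IrrCharacter G) (hψ : ψ ∈ Cfsg.blockOf M (χ₀ : G → ℂ)) :
    ∃ z : Cfsg.IrrCharacter G → ℤ, ∀ g : G,
      (p ^ Cfsg.blockDefect p (Cfsg.blockOf M (χ₀ : G → ℂ)) : ℂ) *
        Cfsg.pRegularPart p (ψ : G → ℂ) g =
      ∑ ψ' : Cfsg.IrrCharacter G, (if ψ' ∈ Cfsg.blockOf M (χ₀ : G → ℂ) then
        (z ψ' : ℂ) * (ψ' : G → ℂ) g else 0) := by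
  set B := Cfsg.blockOf M (χ₀ : G → ℂ) with hB
  set fG : Cfsg.IrrCharacter G → ℕ := fun χ => (Cfsg.charDegree (χ : G → ℂ)).factorization p
    with hfG
  set νB := sInf (fG '' B) with hνB
  have hνB_le : νB ≤ fG ψ := Nat.sInf_le ⟨ψ, hψ, rfl⟩
  obtain ⟨hd1, hd2, hd3⟩ := h7_charDegree_props ψ
  have hν_le : fG ψ ≤ (Nat.card G).factorization p :=
    (Nat.factorization_le_iff_dvd hd2.ne' Nat.card_pos.ne').mpr hd1 p
  set d := Cfsg.blockDefect p B with hd
  have hdval : d = (Nat.card G).factorization p - νB := rfl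
  set θ : G → ℂ := fun g => (p ^ d : ℂ) * Cfsg.pRegularPart p (ψ : G → ℂ) g with hθ
  have hgen : Cfsg.IsGeneralizedCharacter G θ := by
    have h1 := (Cfsg.Agent.S4425.result p ψ).1
    have h2 : Cfsg.IsGeneralizedCharacter G ((p ^ (fG ψ - νB)) • (fun x : G =>
        if p ∣ orderOf x then (0 : ℂ) else
        ((p ^ ((Nat.card G).factorization p -
          (Cfsg.charDegree (ψ : G → ℂ)).factorization p) : ℕ) : ℂ) * (ψ : G → ℂ) x)) := by
      obtain ⟨a, b, ha, hb, hab⟩ := h1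
      rw [hab]
      exact ⟨_, _, isCharacter_nsmul ha _, isCharacter_nsmul hb _, smul_sub _ _ _⟩
    have h3 : θ = (p ^ (fG ψ - νB)) • (fun x : G => if p ∣ orderOf x then (0 : ℂ) else
        ((p ^ ((Nat.card G).factorization p -
          (Cfsg.charDegree (ψ : G → ℂ)).factorization p) : ℕ) : ℂ) * (ψ : G → ℂ) x) := by
      funext x
      simp only [hθ, Pi.smul_apply, nsmul_eq_mul]
      by_cases hx : p ∣ orderOf x
      · rw [br_pRegularPart_sing p _ x hx, if_pos hx, mul_zero, mul_zero]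
      · rw [br_pRegularPart_reg p _ x hx, if_neg hx, ← mul_assoc]
        congr 1
        have : d = (fG ψ - νB) + ((Nat.card G).factorization p - fG ψ) := by omega
        rw [this, pow_add]
        push_cast
        rfl
    rw [h3]
    exact h2
  have hcl := genChar_classFunction θ hgen
  have hexp := classFunction_expansion θ hcl
  have hz : ∀ ψ' : Cfsg.IrrCharacter G, ∃ z : ℤ, Cfsg.classInner θ (ψ' : G → ℂ) = (z : ℂ) :=
    fun ψ' => genChar_inner_int θ hgen ψ'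
  choose z hz using hz
  refine ⟨z, fun g => ?_⟩
  have h4 := congrFun hexp g
  rw [Finset.sum_apply] at h4
  show θ g = _
  rw [h4]
  refine Finset.sum_congr rfl fun ψ' _ => ?_
  by_cases hψ' : ψ' ∈ B
  · rw [if_pos hψ', Pi.smul_apply, smul_eq_mul, hz]
  · rw [if_neg hψ', Pi.smul_apply, smul_eq_mul]
    have h5 : Cfsg.classInner θ (ψ' : G → ℂ) = 0 := by
      have h6 : θ = (p ^ d : ℂ) • Cfsg.pRegularPart p (ψ : G → ℂ) := rfl
      rw [h6, classInner_smul_left, cd_inner_reg_symm, cd_block_orth hM χ₀ ψ' hψ' ψ hψ,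
        map_zero, mul_zero]
    rw [h5, zero_mul]

end

section

theorem rg_main {G : Type*} [Group G] [Fintype G] (p : ℕ) [hp : Fact p.Prime]
    (M : Ideal Cfsg.AlgInt) (hM : Cfsg.IsPModular p M) (B : Set (Cfsg.IrrCharacter G))
    (hB : Cfsg.IsPBlock M B) (χ : G → ℂ)
    (hχ : ∃ n : Cfsg.IrrCharacter G → ℤ, ∀ g : G,
      χ g = ∑ᶠ ψ ∈ B, (n ψ : ℂ) * (ψ : G → ℂ) g) :
    ∃ n : Cfsg.IrrCharacter G → ℤ, ∀ g : G,
      (p ^ Cfsg.blockDefect p B : ℂ) * Cfsg.pRegularPart p χ g =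
        ∑ᶠ ψ ∈ B, (n ψ : ℂ) * (ψ : G → ℂ) g := by
  classical
  haveI : Fintype (Cfsg.IrrCharacter G) := Fintype.ofFinite _
  obtain ⟨χ₀, rfl⟩ := hB
  obtain ⟨n, hn⟩ := hχ
  set B := Cfsg.blockOf M (χ₀ : G → ℂ) with hB
  have hfin : ∀ (f : Cfsg.IrrCharacter G → ℂ), ∑ᶠ ψ ∈ B, f ψ =
      ∑ ψ : Cfsg.IrrCharacter G, if ψ ∈ B then f ψ else 0 := by
    intro f
    rw [finsum_mem_def, finsum_eq_sum_of_fintype]
    refine Finset.sum_congr rfl fun ψ _ => ?_
    rw [Set.indicator_apply]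
  have hz : ∀ ψ : Cfsg.IrrCharacter G, ∃ z : Cfsg.IrrCharacter G → ℤ, ψ ∈ B → ∀ g : G,
      (p ^ Cfsg.blockDefect p B : ℂ) * Cfsg.pRegularPart p (ψ : G → ℂ) g =
      ∑ ψ' : Cfsg.IrrCharacter G, (if ψ' ∈ B then (z ψ' : ℂ) * (ψ' : G → ℂ) g else 0) := by
    intro ψ
    by_cases hψ : ψ ∈ B
    · obtain ⟨z, hz⟩ := rg_single p M hM χ₀ ψ hψ
      exact ⟨z, fun _ => hz⟩
    · exact ⟨fun _ => 0, fun h => absurd h hψ⟩
  choose z hz using hz
  refine ⟨fun ψ' => ∑ ψ : Cfsg.IrrCharacter G, if ψ ∈ B then n ψ * z ψ ψ' else 0, fun g => ?_⟩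
  rw [hfin]
  -- p^d χ°(g) = Σ_{ψ ∈ B} n ψ * (p^d ψ°(g))
  have h1 : (p ^ Cfsg.blockDefect p B : ℂ) * Cfsg.pRegularPart p χ g =
      ∑ ψ : Cfsg.IrrCharacter G, if ψ ∈ B then
        (n ψ : ℂ) * ((p ^ Cfsg.blockDefect p B : ℂ) * Cfsg.pRegularPart p (ψ : G → ℂ) g) else 0 := by
    by_cases hg : p ∣ orderOf g
    · rw [br_pRegularPart_sing p _ g hg, mul_zero]
      symm
      apply Finset.sum_eq_zero
      intro ψ _
      rw [br_pRegularPart_sing p _ g hg, mul_zero, mul_zero, ite_self]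
    · rw [br_pRegularPart_reg p _ g hg, hn g, hfin, Finset.mul_sum]
      refine Finset.sum_congr rfl fun ψ _ => ?_
      rw [br_pRegularPart_reg p _ g hg]
      split_ifs
      · ring
      · rw [mul_zero]
  rw [h1]
  have h2 : ∀ ψ : Cfsg.IrrCharacter G, (if ψ ∈ B then
        (n ψ : ℂ) * ((p ^ Cfsg.blockDefect p B : ℂ) * Cfsg.pRegularPart p (ψ : G → ℂ) g) else 0) =
      ∑ ψ' : Cfsg.IrrCharacter G, (if ψ' ∈ B then
        ((if ψ ∈ B then n ψ * z ψ ψ' else 0 : ℤ) : ℂ) * (ψ' : G → ℂ) g else 0) := by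
    intro ψ
    by_cases hψ : ψ ∈ B
    · rw [if_pos hψ, hz ψ hψ g, Finset.mul_sum]
      refine Finset.sum_congr rfl fun ψ' _ => ?_
      split_ifs
      · push_cast
        ring
      · rw [mul_zero]
    · rw [if_neg hψ]
      symm
      apply Finset.sum_eq_zero
      intro ψ' _
      rw [if_neg hψ]
      simp
  rw [Finset.sum_congr rfl (fun ψ _ => h2 ψ), Finset.sum_comm]
  refine Finset.sum_congr rfl fun ψ' _ => ?_
  by_cases hψ' : ψ' ∈ B
  · simp only [if_pos hψ']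
    rw [← Finset.sum_mul]
    push_cast
    rfl
  · simp only [if_neg hψ', Finset.sum_const_zero]

end

end Cfsg.Agent.Lib.Helper25
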