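import Mathlib
import Cfsg.Prelude.Def_Blocks
import Cfsg.Prelude.Def_BlockRank
import Cfsg.Agent.Lib.helper7.BlockDefect2
import Cfsg.Agent.Lib.helper7.BlockInd2
import Cfsg.Agent.Lib.helper2.CharNat
import Cfsg.Agent.Lib.Helper25.BlockRankTrace
import Cfsg.Agent.Lib.Helper25.BlockOrthReg
import Cfsg.Agent.Lib.Helper25.CentralDefect
import Cfsg.Agent.Lib.Helper25.BlockRegGen
import Cfsg.Agent.Lib.Helper25.CharOrth
import Cfsg.Agent.Lib.Helper25.CharBasic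
import Cfsg.Agent.S0908

/-!
Blocks of p-regular rank one: the single Cartan invariant equals the order of a defect group.
-/

set_option autoImplicit false
set_option linter.style.haveILetI false
set_option linter.unusedVariables false
set_option warn.classDefReducibility false
set_option maxHeartbeats 800000

namespace Cfsg.Agent.Lib.Helper25
open Cfsg.Agent.Lib.helper7
open Cfsg.Agent.Lib.helper2
open scoped ComplexConjugate
section

theorem ci_one_regular {G : Type*} [Group G] (p : ℕ) [hp : Fact p.Prime] :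
    ¬ p ∣ orderOf (1 : G) := by
  rw [orderOf_one]
  exact hp.out.one_lt.ne' ∘ Nat.dvd_one.mp

/-- if the set `B` has `p`-regular rank one, the `p`-regular parts of its members are
proportional, with ratio the ratio of the degrees -/
theorem ci_prop {G : Type*} [Group G] (p : ℕ) [hp : Fact p.Prime]
    (B : Set (Cfsg.IrrCharacter G)) (hl : Cfsg.blockRank p B = 1)
    (χ₀ : Cfsg.IrrCharacter G) (hχ₀ : χ₀ ∈ B) (χ : Cfsg.IrrCharacter G) (hχ : χ ∈ B) :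
    Cfsg.pRegularPart p (χ : G → ℂ) =
      ((χ : G → ℂ) 1 / (χ₀ : G → ℂ) 1) • Cfsg.pRegularPart p (χ₀ : G → ℂ) := by
  unfold Cfsg.blockRank at hl
  set V := Submodule.span ℂ ((fun χ : Cfsg.IrrCharacter G => Cfsg.pRegularPart p (χ : G → ℂ)) '' B)
    with hV
  have hmem : ∀ ψ ∈ B, Cfsg.pRegularPart p (ψ : G → ℂ) ∈ V :=
    fun ψ hψ => Submodule.subset_span ⟨ψ, hψ, rfl⟩
  have h1 := ci_one_regular (G := G) p
  have hne : (⟨_, hmem χ₀ hχ₀⟩ : V) ≠ 0 := by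
    intro h
    have h2 := congrArg Subtype.val h
    have h3 := congrFun h2 1
    simp only [Submodule.coe_zero, Pi.zero_apply] at h3
    rw [br_pRegularPart_reg p _ 1 h1] at h3
    exact irr_one_ne_zero χ₀ h3
  obtain ⟨c, hc⟩ := (finrank_eq_one_iff_of_nonzero' _ hne).mp hl ⟨_, hmem χ hχ⟩
  have hc' : c • Cfsg.pRegularPart p (χ₀ : G → ℂ) = Cfsg.pRegularPart p (χ : G → ℂ) :=
    congrArg Subtype.val hc
  have hc1 := congrFun hc' 1
  rw [Pi.smul_apply, br_pRegularPart_reg p _ 1 h1, br_pRegularPart_reg p _ 1 h1,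
    smul_eq_mul] at hc1
  have hcval : c = (χ : G → ℂ) 1 / (χ₀ : G → ℂ) 1 := by
    rw [← hc1]
    field_simp [irr_one_ne_zero χ₀]
  rw [← hcval, hc']

end

section

/-- in a block of `p`-regular rank one, `[χ°, ψ] = χ(1) ψ(1) κ` for a constant `κ` -/
theorem ci_kappa {G : Type*} [Group G] [Fintype G] (p : ℕ) [hp : Fact p.Prime]
    (B : Set (Cfsg.IrrCharacter G)) (hl : Cfsg.blockRank p B = 1)
    (χ₀ : Cfsg.IrrCharacter G) (hχ₀ : χ₀ ∈ B) (χ ψ : Cfsg.IrrCharacter G) (hχ : χ ∈ B)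
    (hψ : ψ ∈ B) :
    Cfsg.classInner (Cfsg.pRegularPart p (χ : G → ℂ)) (ψ : G → ℂ) =
      (χ : G → ℂ) 1 * (ψ : G → ℂ) 1 *
        (Cfsg.classInner (Cfsg.pRegularPart p (χ₀ : G → ℂ)) (χ₀ : G → ℂ) / (χ₀ : G → ℂ) 1 ^ 2) := by
  have hχ₀1 := irr_one_ne_zero χ₀
  have hreal : ∀ θ : Cfsg.IrrCharacter G, conj ((θ : G → ℂ) 1) = (θ : G → ℂ) 1 := by
    intro θ
    obtain ⟨n, hn, hn1⟩ := irr_one_eq_finrank θ
    rw [hn1, Complex.conj_natCast]
  rw [ci_prop p B hl χ₀ hχ₀ χ hχ, classInner_smul_left, cd_inner_reg_symm,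
    ci_prop p B hl χ₀ hχ₀ ψ hψ, classInner_smul_left, map_mul, map_div₀, hreal, hreal,
    ← cd_inner_reg_symm]
  field_simp

/-- integrality of `p^d [χ°, ψ]` for `χ, ψ` in a block of defect `d` -/
theorem ci_inner_int {G : Type*} [Group G] [Fintype G] [Fintype (Cfsg.IrrCharacter G)]
    (p : ℕ) [hp : Fact p.Prime] (M : Ideal Cfsg.AlgInt) (hM : Cfsg.IsPModular p M)
    (χ₀ : Cfsg.IrrCharacter G) [DecidablePred (· ∈ Cfsg.blockOf M (χ₀ : G → ℂ))]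
    (χ ψ : Cfsg.IrrCharacter G) (hχ : χ ∈ Cfsg.blockOf M (χ₀ : G → ℂ))
    (hψ : ψ ∈ Cfsg.blockOf M (χ₀ : G → ℂ)) :
    ∃ z : ℤ, (p ^ Cfsg.blockDefect p (Cfsg.blockOf M (χ₀ : G → ℂ)) : ℂ) *
      Cfsg.classInner (Cfsg.pRegularPart p (χ : G → ℂ)) (ψ : G → ℂ) = (z : ℂ) := by
  obtain ⟨z, hz⟩ := rg_single p M hM χ₀ χ hχ
  refine ⟨z ψ, ?_⟩
  have h1 : (p ^ Cfsg.blockDefect p (Cfsg.blockOf M (χ₀ : G → ℂ)) : ℂ) •
      Cfsg.pRegularPart p (χ : G → ℂ) =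
      ∑ ψ' : Cfsg.IrrCharacter G, (if ψ' ∈ Cfsg.blockOf M (χ₀ : G → ℂ) then (z ψ' : ℂ) else 0) •
        (ψ' : G → ℂ) := by
    funext g
    rw [Pi.smul_apply, smul_eq_mul, hz g, Finset.sum_apply]
    refine Finset.sum_congr rfl fun ψ' _ => ?_
    rw [Pi.smul_apply, smul_eq_mul]
    split_ifs
    · rfl
    · rw [zero_mul]
  have h2 := congrArg (fun f => Cfsg.classInner f (ψ : G → ℂ)) h1
  simp only [classInner_smul_left, classInner_sum_left, irr_classInner] at h2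
  rw [h2, Finset.sum_eq_single ψ]
  · rw [if_pos hψ, if_pos rfl, mul_one]
  · intro ψ' _ hne
    rw [if_neg hne, mul_zero]
  · intro h
    exact absurd (Finset.mem_univ ψ) h

end

section

theorem ci_main {G : Type*} [Group G] [Fintype G] (p : ℕ) [hp : Fact p.Prime]
    (M : Ideal Cfsg.AlgInt) (hM : Cfsg.IsPModular p M) (B : Set (Cfsg.IrrCharacter G))
    (hB : Cfsg.IsPBlock M B) (P : Subgroup G) (hP : Cfsg.IsDefectGroup p M B P)
    (hl : Cfsg.blockRank p B = 1) :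
    ∃ φ : G → ℂ, ∃ d : Cfsg.IrrCharacter G → ℕ,
      (∃ n : Cfsg.IrrCharacter G → ℤ, ∀ x : G, Cfsg.IsPRegular p x →
        φ x = ∑ᶠ ψ ∈ B, (n ψ : ℂ) * (ψ : G → ℂ) x) ∧
      (∀ χ ∈ B, ∀ x : G, Cfsg.IsPRegular p x → (χ : G → ℂ) x = (d χ : ℂ) * φ x) ∧
      ∑ᶠ χ ∈ B, d χ ^ 2 = Nat.card P := by
  classical
  haveI : Fintype (Cfsg.IrrCharacter G) := Fintype.ofFinite _
  have hcardP := Cfsg.Agent.S0908.result p M hM B hB P hP
  obtain ⟨χ₀, rfl⟩ := hB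
  have hMp := hM.2.1.isPrime
  have h0 : χ₀ ∈ Cfsg.blockOf M (χ₀ : G → ℂ) := h7_sameBlock_refl hMp _
  set s : Finset (Cfsg.IrrCharacter G) :=
    Finset.univ.filter (· ∈ Cfsg.blockOf M (χ₀ : G → ℂ)) with hs
  have hmem_s : ∀ χ, χ ∈ s ↔ χ ∈ Cfsg.blockOf M (χ₀ : G → ℂ) := by
    intro χ
    simp [hs]
  set deg : Cfsg.IrrCharacter G → ℕ := fun χ => Cfsg.charDegree (χ : G → ℂ) with hdeg
  have hdegC : ∀ χ : Cfsg.IrrCharacter G, ((deg χ : ℕ) : ℂ) = (χ : G → ℂ) 1 :=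
    fun χ => (h7_charDegree_props χ).2.2
  have hdegpos : ∀ χ : Cfsg.IrrCharacter G, 0 < deg χ := fun χ => (h7_charDegree_props χ).2.1
  -- the gcd of the degrees
  obtain ⟨m, hm⟩ := Finset.gcd_eq_sum_mul s (fun χ => (deg χ : ℤ))
  set gz : ℤ := s.gcd (fun χ => (deg χ : ℤ)) with hgz
  have hgz_dvd : ∀ χ ∈ s, gz ∣ (deg χ : ℤ) := fun χ hχ => Finset.gcd_dvd hχ
  have hgz_nonneg : 0 ≤ gz := Int.nonneg_of_normalize_eq_self (Finset.normalize_gcd)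
  have hgz_ne : gz ≠ 0 := by
    intro h
    have h1 := hgz_dvd χ₀ ((hmem_s χ₀).2 h0)
    rw [h, zero_dvd_iff] at h1
    have h2 := hdegpos χ₀
    omega
  set g₀ : ℕ := gz.toNat with hg₀
  have hg₀z : (g₀ : ℤ) = gz := Int.toNat_of_nonneg hgz_nonneg
  have hg₀pos : 0 < g₀ := by omega
  have hg₀dvd : ∀ χ ∈ s, g₀ ∣ deg χ := by
    intro χ hχ
    have h1 := hgz_dvd χ hχ
    rw [← hg₀z] at h1
    exact Int.natCast_dvd_natCast.mp h1
  set d : Cfsg.IrrCharacter G → ℕ := fun χ => deg χ / g₀ with hd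
  have hdeg_eq : ∀ χ ∈ s, deg χ = g₀ * d χ :=
    fun χ hχ => (Nat.mul_div_cancel' (hg₀dvd χ hχ)).symm
  have hbez1 : ∑ χ ∈ s, m χ * (d χ : ℤ) = 1 := by
    have h1 : gz * 1 = gz * ∑ χ ∈ s, m χ * (d χ : ℤ) := by
      rw [mul_one]
      conv_lhs => rw [hm]
      rw [Finset.mul_sum]
      refine Finset.sum_congr rfl fun χ hχ => ?_
      rw [hdeg_eq χ hχ, ← hg₀z]
      push_cast
      ring
    exact (mul_left_cancel₀ hgz_ne h1).symm
  have hχ₀1 := irr_one_ne_zero χ₀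
  have hg₀C : (g₀ : ℂ) ≠ 0 := by exact_mod_cast hg₀pos.ne'
  have hval : ∀ χ ∈ Cfsg.blockOf M (χ₀ : G → ℂ), ∀ x : G, Cfsg.IsPRegular p x →
      (χ : G → ℂ) x = ((χ : G → ℂ) 1 / (χ₀ : G → ℂ) 1) * (χ₀ : G → ℂ) x := by
    intro χ hχ x hx
    have h1 := congrFun (ci_prop p _ hl χ₀ h0 χ hχ) x
    rwa [Pi.smul_apply, br_pRegularPart_reg p _ x hx, br_pRegularPart_reg p _ x hx,
      smul_eq_mul] at h1
  have hfin : ∀ (f : Cfsg.IrrCharacter G → ℂ), ∑ᶠ ψ ∈ Cfsg.blockOf M (χ₀ : G → ℂ), f ψ =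
      ∑ ψ ∈ s, f ψ := by
    intro f
    rw [finsum_mem_def, finsum_eq_sum_of_fintype, hs, Finset.sum_filter]
    refine Finset.sum_congr rfl fun ψ _ => ?_
    rw [Set.indicator_apply]
  refine ⟨fun x => ((g₀ : ℂ) / (χ₀ : G → ℂ) 1) * (χ₀ : G → ℂ) x, d, ⟨m, ?_⟩, ?_, ?_⟩
  · -- φ is an integer combination on p-regular elements
    intro x hx
    rw [hfin]
    have h1 : ∀ ψ ∈ s, (m ψ : ℂ) * (ψ : G → ℂ) x =
        ((m ψ : ℂ) * (deg ψ : ℂ)) * ((χ₀ : G → ℂ) x / (χ₀ : G → ℂ) 1) := by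
      intro ψ hψ
      rw [hval ψ ((hmem_s ψ).1 hψ) x hx, hdegC]
      field_simp
    rw [Finset.sum_congr rfl h1, ← Finset.sum_mul]
    have h2 : ∑ ψ ∈ s, (m ψ : ℂ) * (deg ψ : ℂ) = (g₀ : ℂ) := by
      have h3 : ((gz : ℤ) : ℂ) = (g₀ : ℂ) := by
        rw [← hg₀z]
        push_cast
        rfl
      rw [← h3, hm]
      push_cast
      refine Finset.sum_congr rfl fun ψ _ => ?_
      ring
    rw [h2]
    field_simp
  · -- χ = d χ φ on p-regular elements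
    intro χ hχ x hx
    rw [hval χ hχ x hx, ← hdegC χ, hdeg_eq χ ((hmem_s χ).2 hχ)]
    push_cast
    field_simp
  · -- the Cartan invariant
    set c : ℕ := ∑ χ ∈ s, d χ ^ 2 with hc
    have hsumd : ∑ᶠ χ ∈ Cfsg.blockOf M (χ₀ : G → ℂ), d χ ^ 2 = c := by
      rw [finsum_mem_def, finsum_eq_sum_of_fintype, hc, hs, Finset.sum_filter]
      refine Finset.sum_congr rfl fun ψ _ => ?_
      rw [Set.indicator_apply]
    rw [hsumd, hcardP]
    set dB := Cfsg.blockDefect p (Cfsg.blockOf M (χ₀ : G → ℂ)) with hdB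
    set κ : ℂ := Cfsg.classInner (Cfsg.pRegularPart p (χ₀ : G → ℂ)) (χ₀ : G → ℂ) /
      (χ₀ : G → ℂ) 1 ^ 2 with hκ
    have hkap : ∀ χ ∈ s, ∀ ψ ∈ s,
        Cfsg.classInner (Cfsg.pRegularPart p (χ : G → ℂ)) (ψ : G → ℂ) =
        (g₀ : ℂ) ^ 2 * (d χ : ℂ) * (d ψ : ℂ) * κ := by
      intro χ hχ ψ hψ
      rw [ci_kappa p _ hl χ₀ h0 χ ψ ((hmem_s χ).1 hχ) ((hmem_s ψ).1 hψ), ← hdegC χ, ← hdegC ψ,
        hdeg_eq χ hχ, hdeg_eq ψ hψ]
      push_cast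
      ring
    -- (I)
    have hI : (g₀ : ℂ) ^ 2 * (c : ℂ) * κ = 1 := by
      have h1 := br_rank_eq hM χ₀
      rw [hl] at h1
      have h2 : ∑ χ : Cfsg.IrrCharacter G, (if χ ∈ Cfsg.blockOf M (χ₀ : G → ℂ) then
          Cfsg.classInner (Cfsg.pRegularPart p (χ : G → ℂ)) (χ : G → ℂ) else 0) =
          ∑ χ ∈ s, Cfsg.classInner (Cfsg.pRegularPart p (χ : G → ℂ)) (χ : G → ℂ) := by
        rw [hs, Finset.sum_filter]
      rw [h2, Finset.sum_congr rfl (fun χ hχ => hkap χ hχ χ hχ)] at h1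
      rw [hc]
      push_cast
      rw [Finset.mul_sum, Finset.sum_mul]
      rw [Nat.cast_one] at h1
      rw [h1]
      refine Finset.sum_congr rfl fun χ _ => ?_
      ring
    have hc0 : c ≠ 0 := by
      intro h
      rw [h, Nat.cast_zero, mul_zero, zero_mul] at hI
      exact zero_ne_one hI
    have hcC : (c : ℂ) ≠ 0 := by exact_mod_cast hc0
    -- (II)
    have hdiv1 : ∀ χ ∈ s, ∀ ψ ∈ s, (c : ℤ) ∣ (p : ℤ) ^ dB * (d χ : ℤ) * (d ψ : ℤ) := by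
      intro χ hχ ψ hψ
      obtain ⟨z, hz⟩ := ci_inner_int p M hM χ₀ χ ψ ((hmem_s χ).1 hχ) ((hmem_s ψ).1 hψ)
      rw [hkap χ hχ ψ hψ] at hz
      refine ⟨z, ?_⟩
      have h1 : ((p : ℂ) ^ dB * (d χ : ℂ) * (d ψ : ℂ)) = (c : ℂ) * (z : ℂ) := by
        rw [← hz]
        have : (c : ℂ) * ((p : ℂ) ^ dB * ((g₀ : ℂ) ^ 2 * (d χ : ℂ) * (d ψ : ℂ) * κ)) =
            (p : ℂ) ^ dB * (d χ : ℂ) * (d ψ : ℂ) * ((g₀ : ℂ) ^ 2 * (c : ℂ) * κ) := by ring
        rw [this, hI, mul_one]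
      exact_mod_cast h1
    have hdiv2 : ∀ ψ ∈ s, (c : ℤ) ∣ (p : ℤ) ^ dB * (d ψ : ℤ) := by
      intro ψ hψ
      have h1 : (p : ℤ) ^ dB * (d ψ : ℤ) =
          ∑ χ ∈ s, m χ * ((p : ℤ) ^ dB * (d χ : ℤ) * (d ψ : ℤ)) := by
        have : ∀ χ ∈ s, m χ * ((p : ℤ) ^ dB * (d χ : ℤ) * (d ψ : ℤ)) =
            (m χ * (d χ : ℤ)) * ((p : ℤ) ^ dB * (d ψ : ℤ)) := fun χ _ => by ring
        rw [Finset.sum_congr rfl this, ← Finset.sum_mul, hbez1, one_mul]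
      rw [h1]
      exact Finset.dvd_sum fun χ hχ => Dvd.dvd.mul_left (hdiv1 χ hχ ψ hψ) _
    have hdiv3 : (c : ℤ) ∣ (p : ℤ) ^ dB := by
      have h1 : (p : ℤ) ^ dB = ∑ ψ ∈ s, m ψ * ((p : ℤ) ^ dB * (d ψ : ℤ)) := by
        have : ∀ ψ ∈ s, m ψ * ((p : ℤ) ^ dB * (d ψ : ℤ)) =
            (m ψ * (d ψ : ℤ)) * (p : ℤ) ^ dB := fun ψ _ => by ring
        rw [Finset.sum_congr rfl this, ← Finset.sum_mul, hbez1, one_mul]
      rw [h1]
      exact Finset.dvd_sum fun ψ hψ => Dvd.dvd.mul_left (hdiv2 ψ hψ) _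
    have hII : c ∣ p ^ dB := by
      have : (c : ℤ) ∣ ((p ^ dB : ℕ) : ℤ) := by
        push_cast
        exact hdiv3
      exact Int.natCast_dvd_natCast.mp this
    -- (III)
    set Φ : G → ℂ := ∑ χ ∈ s, (d χ) • (χ : G → ℂ) with hΦ
    have hΦchar : Cfsg.IsCharacter G Φ :=
      isCharacter_sum s _ (fun χ _ => isCharacter_nsmul (isCharacter_of_irr χ) _)
    have hreal : ∀ θ : Cfsg.IrrCharacter G, conj ((θ : G → ℂ) 1) = (θ : G → ℂ) 1 := by
      intro θ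
      rw [← hdegC θ, Complex.conj_natCast]
    have hΦvan : ∀ y : G, p ∣ orderOf y → Φ y = 0 := by
      intro y hy
      have h1 := br_weak_orth hM χ₀ 1 y (ci_one_regular p) hy
      have h2 := congrArg conj h1
      rw [map_sum, map_zero] at h2
      have h3 : ∑ χ : Cfsg.IrrCharacter G, conj (if χ ∈ Cfsg.blockOf M (χ₀ : G → ℂ) then
          (χ : G → ℂ) 1 * conj ((χ : G → ℂ) y) else 0) = (g₀ : ℂ) * Φ y := by
        rw [hΦ, Finset.sum_apply, Finset.mul_sum, hs, Finset.sum_filter]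
        refine Finset.sum_congr rfl fun χ _ => ?_
        by_cases hχ : χ ∈ Cfsg.blockOf M (χ₀ : G → ℂ)
        · rw [if_pos hχ, if_pos hχ, map_mul, Complex.conj_conj, hreal, ← hdegC χ,
            hdeg_eq χ ((hmem_s χ).2 hχ), Pi.smul_apply, nsmul_eq_mul]
          push_cast
          ring
        · rw [if_neg hχ, if_neg hχ, map_zero]
      rw [h3] at h2
      exact (mul_eq_zero.mp h2).resolve_left hg₀C
    have hΦ1 : Φ 1 = ((g₀ * c : ℕ) : ℂ) := by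
      rw [hΦ, Finset.sum_apply, hc]
      push_cast
      rw [Finset.mul_sum]
      refine Finset.sum_congr rfl fun χ hχ => ?_
      rw [Pi.smul_apply, nsmul_eq_mul, ← hdegC χ, hdeg_eq χ hχ]
      push_cast
      ring
    have hpa := h7_pow_dvd_of_vanish p Φ hΦchar hΦvan (g₀ * c) hΦ1
    -- valuations
    set fG : Cfsg.IrrCharacter G → ℕ := fun χ => (Cfsg.charDegree (χ : G → ℂ)).factorization p
      with hfG
    set νB := sInf (fG '' Cfsg.blockOf M (χ₀ : G → ℂ)) with hνB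
    have hne : (fG '' Cfsg.blockOf M (χ₀ : G → ℂ)).Nonempty := ⟨_, χ₀, h0, rfl⟩
    obtain ⟨χm, hχm, hχmν⟩ := Nat.sInf_mem hne
    have hdBval : dB = (Nat.card G).factorization p - νB := rfl
    have hg₀ν : g₀.factorization p ≤ νB := by
      rw [← hνB] at hχmν
      rw [← hχmν]
      exact (Nat.factorization_le_iff_dvd hg₀pos.ne' (hdegpos χm).ne').mpr
        (hg₀dvd χm ((hmem_s χm).2 hχm)) p
    have hgc0 : g₀ * c ≠ 0 := Nat.mul_ne_zero hg₀pos.ne' hc0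
    have h5 : (Nat.card G).factorization p ≤ (g₀ * c).factorization p :=
      (hp.out.pow_dvd_iff_le_factorization hgc0).mp hpa
    rw [Nat.factorization_mul hg₀pos.ne' hc0] at h5
    have h6 : (Nat.card G).factorization p ≤ g₀.factorization p + c.factorization p := h5
    have hIII : p ^ dB ∣ c := by
      rw [hp.out.pow_dvd_iff_le_factorization hc0]
      omega
    exact Nat.dvd_antisymm hII hIII

end

end Cfsg.Agent.Lib.Helper25
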