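import Mathlib
import Cfsg.Prelude.Def_Blocks
import Cfsg.Prelude.Def_BlockRank
import Cfsg.Agent.Lib.helper7.BlockDefect2
import Cfsg.Agent.Lib.helper7.BlockInd2
import Cfsg.Agent.Lib.helper7.BlockCover
import Cfsg.Agent.Lib.helper2.CharInt
import Cfsg.Agent.Lib.helper2.CharNat
import Cfsg.Agent.Lib.Helper11.VirtChar
import Cfsg.Agent.Lib.Helper24.PRegGen2
import Cfsg.Agent.Lib.Helper25.BlockRankTrace
import Cfsg.Agent.Lib.Helper25.BlockOrthReg
import Cfsg.Agent.Lib.Helper25.CentralDefect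
import Cfsg.Agent.Lib.Helper25.CartanRankOne
import Cfsg.Agent.Lib.Helper25.InducedBlockPart
import Cfsg.Agent.Lib.Helper25.BrauerMapBasic
import Cfsg.Agent.Lib.Helper25.CharOrth
import Cfsg.Agent.Lib.Helper25.CharBasic
import Cfsg.Agent.S4425

/-!
Height zero criterion: for chi, xi in a p-block B, chi has height zero iff [p^a chi°, xi] is a nonzero integer with the p-adic valuation of xi(1) (hz_single, hz_main); auxiliary: hz_tilde, hz_r (= [chi~, psi]/psi(1)), hz_r_eq_omega, hz_r_mem, hz_r_congr, hz_inner_symm, hz_cofactor, hz_rel, hz_exists_unit, hz_iff, hz_ratio_mem_of_lt, hz_unit_iff.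
-/

set_option autoImplicit false
set_option linter.style.haveILetI false
set_option linter.unusedVariables false
set_option warn.classDefReducibility false
set_option maxHeartbeats 800000

namespace Cfsg.Agent.Lib.Helper25
open Cfsg.Agent.Lib.helper7
open Cfsg.Agent.Lib.helper2
open Cfsg.Agent.Lib.Helper11
open scoped ComplexConjugate
open Cfsg.Agent.Lib.Helper24
section

/-- `χ̃ = |G|_p χ` on `p`-regular elements and zero elsewhere -/
noncomputable def hz_tilde {G : Type*} [Group G] (p : ℕ) (χ : G → ℂ) : G → ℂ :=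
  fun x => if p ∣ orderOf x then (0 : ℂ) else
    ((p ^ (Nat.card G).factorization p : ℕ) : ℂ) * χ x

theorem hz_tilde_eq {G : Type*} [Group G] (p : ℕ) (χ : G → ℂ) :
    hz_tilde p χ = ((p ^ (Nat.card G).factorization p : ℕ) : ℂ) • Cfsg.pRegularPart p χ := by
  funext x
  unfold hz_tilde
  by_cases hx : p ∣ orderOf x
  · rw [if_pos hx, Pi.smul_apply, br_pRegularPart_sing p χ x hx, smul_zero]
  · rw [if_neg hx, Pi.smul_apply, br_pRegularPart_reg p χ x hx, smul_eq_mul]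

/-- `[χ̃, ψ]` is an integer -/
theorem hz_inner_int {G : Type*} [Group G] [Fintype G] (p : ℕ) [hp : Fact p.Prime]
    (χ ψ : Cfsg.IrrCharacter G) :
    ∃ z : ℤ, Cfsg.classInner (hz_tilde p (χ : G → ℂ)) (ψ : G → ℂ) = (z : ℂ) := by
  obtain ⟨hd1, hd2, hd3⟩ := h7_charDegree_props χ
  set ν := (Cfsg.charDegree (χ : G → ℂ)).factorization p with hν
  have hν_le : ν ≤ (Nat.card G).factorization p :=
    (Nat.factorization_le_iff_dvd hd2.ne' Nat.card_pos.ne').mpr hd1 p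
  have h1 := (Cfsg.Agent.S4425.result p χ).1
  have h2 : Cfsg.IsGeneralizedCharacter G ((p ^ ν) • (fun x : G =>
      if p ∣ orderOf x then (0 : ℂ) else
      ((p ^ ((Nat.card G).factorization p -
        (Cfsg.charDegree (χ : G → ℂ)).factorization p) : ℕ) : ℂ) * (χ : G → ℂ) x)) := by
    obtain ⟨a, b, ha, hb, hab⟩ := h1
    rw [hab]
    exact ⟨_, _, isCharacter_nsmul ha _, isCharacter_nsmul hb _, smul_sub _ _ _⟩
  have h3 : hz_tilde p (χ : G → ℂ) = (p ^ ν) • (fun x : G =>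
      if p ∣ orderOf x then (0 : ℂ) else
      ((p ^ ((Nat.card G).factorization p -
        (Cfsg.charDegree (χ : G → ℂ)).factorization p) : ℕ) : ℂ) * (χ : G → ℂ) x) := by
    funext x
    unfold hz_tilde
    simp only [Pi.smul_apply, nsmul_eq_mul]
    by_cases hx : p ∣ orderOf x
    · rw [if_pos hx, if_pos hx, mul_zero]
    · rw [if_neg hx, if_neg hx, ← mul_assoc]
      congr 1
      have : (Nat.card G).factorization p = ν + ((Nat.card G).factorization p - ν) := by omega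
      conv_lhs => rw [this, pow_add]
      push_cast
      rfl
  rw [h3]
  exact genChar_inner_int _ h2 ψ

/-- the ratio `r(χ, ψ) = [χ̃, ψ] / ψ(1)` -/
noncomputable def hz_r {G : Type*} [Group G] [Fintype G] (p : ℕ) (χ ψ : G → ℂ) : ℂ :=
  Cfsg.classInner (hz_tilde p χ) ψ / ψ 1

/-- the coefficient function whose central character value is `r(χ, ·)` -/
noncomputable def hz_beta {G : Type*} [Group G] (p : ℕ) (χ : G → ℂ) : G → ℂ :=
  fun x => (((Nat.card G / p ^ (Nat.card G).factorization p : ℕ) : ℂ))⁻¹ *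
    Cfsg.pRegularPart p χ x⁻¹

theorem hz_card_split {G : Type*} [Group G] [Finite G] (p : ℕ) [hp : Fact p.Prime] :
    p ^ (Nat.card G).factorization p * (Nat.card G / p ^ (Nat.card G).factorization p) =
      Nat.card G ∧ ¬ p ∣ Nat.card G / p ^ (Nat.card G).factorization p :=
  ⟨Nat.ordProj_mul_ordCompl_eq_self _ p, Nat.not_dvd_ordCompl hp.out Nat.card_pos.ne'⟩

theorem hz_r_eq_omega {G : Type*} [Group G] [Fintype G] (p : ℕ) [hp : Fact p.Prime]
    (χ : G → ℂ) (ψ : Cfsg.IrrCharacter G) :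
    hz_r p χ (ψ : G → ℂ) = bm_omega (hz_beta p χ) (ψ : G → ℂ) := by
  unfold hz_r bm_omega hz_beta Cfsg.classInner
  obtain ⟨hsplit, hnd⟩ := hz_card_split (G := G) p
  set a := (Nat.card G).factorization p with ha
  set m := Nat.card G / p ^ a with hm
  have hm0 : (m : ℂ) ≠ 0 := by
    intro h
    have : m = 0 := by exact_mod_cast h
    rw [this] at hnd
    exact hnd (dvd_zero _)
  have hp0 : ((p ^ a : ℕ) : ℂ) ≠ 0 := by
    have := pow_pos hp.out.pos a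
    exact_mod_cast this.ne'
  have hG : (Nat.card G : ℂ) = ((p ^ a : ℕ) : ℂ) * (m : ℂ) := by
    rw [← hsplit]
    push_cast
    ring
  rw [hz_tilde_eq, hG]
  rw [← Equiv.sum_comp (Equiv.inv G)]
  simp only [Equiv.inv_apply, Pi.smul_apply, smul_eq_mul]
  rw [Finset.mul_sum, Finset.sum_div]
  refine Finset.sum_congr rfl fun x _ => ?_
  rw [irr_inv, Complex.conj_conj]
  field_simp
  rfl

theorem hz_beta_conj {G : Type*} [Group G] (p : ℕ) (χ : Cfsg.IrrCharacter G) (g h : G) :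
    hz_beta p (χ : G → ℂ) (h * g * h⁻¹) = hz_beta p (χ : G → ℂ) g := by
  unfold hz_beta
  congr 1
  have : (h * g * h⁻¹)⁻¹ = h * g⁻¹ * h⁻¹ := by group
  rw [this]
  exact cd_pRegularPart_conj p _ (fun g h => irr_conj_invariant χ g h) _ _

theorem hz_beta_mem {G : Type*} [Group G] [Finite G] (p : ℕ) [hp : Fact p.Prime]
    {M : Ideal Cfsg.AlgInt} (hM : Cfsg.IsPModular p M) (χ : Cfsg.IrrCharacter G) (g : G) :
    Cfsg.MemLocalRing M (hz_beta p (χ : G → ℂ) g) := by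
  have hMp := hM.2.1.isPrime
  obtain ⟨hsplit, hnd⟩ := hz_card_split (G := G) p
  unfold hz_beta
  apply h7_memLocalRing_mul hMp
  · exact h7_memLocalRing_inv_natCast hM _
      (Nat.Coprime.symm ((Nat.Prime.coprime_iff_not_dvd hp.out).mpr hnd))
  · by_cases hx : p ∣ orderOf g⁻¹
    · rw [br_pRegularPart_sing p _ _ hx]
      have := h7_memLocalRing_natCast hMp 0
      simpa using this
    · rw [br_pRegularPart_reg p _ _ hx]
      exact h7_memLocalRing_of_algInt hMp ⟨_, irr_integral χ g⁻¹⟩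

/-- `r(χ, ψ)` is a local integer -/
theorem hz_r_mem {G : Type*} [Group G] [Fintype G] (p : ℕ) [hp : Fact p.Prime]
    {M : Ideal Cfsg.AlgInt} (hM : Cfsg.IsPModular p M) (χ ψ : Cfsg.IrrCharacter G) :
    Cfsg.MemLocalRing M (hz_r p (χ : G → ℂ) (ψ : G → ℂ)) := by
  rw [hz_r_eq_omega]
  exact bm_omega_mem hM.2.1.isPrime _ (hz_beta_conj p χ) (hz_beta_mem p hM χ) ψ

/-- `r(χ, ψ) ≡ r(χ, ψ')` for `ψ, ψ'` in the same block -/
theorem hz_r_congr {G : Type*} [Group G] [Fintype G] (p : ℕ) [hp : Fact p.Prime]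
    {M : Ideal Cfsg.AlgInt} (hM : Cfsg.IsPModular p M) (χ ψ ψ' : Cfsg.IrrCharacter G)
    (h : Cfsg.SameBlock M (ψ : G → ℂ) (ψ' : G → ℂ)) :
    Cfsg.MemLocalIdeal M (hz_r p (χ : G → ℂ) (ψ : G → ℂ) - hz_r p (χ : G → ℂ) (ψ' : G → ℂ)) := by
  rw [hz_r_eq_omega, hz_r_eq_omega]
  exact bm_omega_congr hM.2.1.isPrime _ (hz_beta_conj p χ) (hz_beta_mem p hM χ) ψ ψ' h

/-- symmetry `[χ̃, ψ] = [ψ̃, χ]` -/
theorem hz_inner_symm {G : Type*} [Group G] [Fintype G] (p : ℕ) [hp : Fact p.Prime]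
    (χ ψ : Cfsg.IrrCharacter G) :
    Cfsg.classInner (hz_tilde p (χ : G → ℂ)) (ψ : G → ℂ) =
      Cfsg.classInner (hz_tilde p (ψ : G → ℂ)) (χ : G → ℂ) := by
  obtain ⟨z, hz⟩ := hz_inner_int p ψ χ
  rw [hz_tilde_eq, classInner_smul_left, cd_inner_reg_symm, ← Complex.conj_natCast, ← map_mul,
    ← classInner_smul_left, ← hz_tilde_eq, hz, map_intCast]

end

section

/-- an integer combination of irreducible characters is a generalized character -/
theorem hz_genChar_of_int_comb {G : Type*} [Group G] [Fintype (Cfsg.IrrCharacter G)]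
    (n : Cfsg.IrrCharacter G → ℤ) :
    Cfsg.IsGeneralizedCharacter G (∑ ψ : Cfsg.IrrCharacter G, (n ψ : ℂ) • (ψ : G → ℂ)) := by
  refine ⟨∑ ψ : Cfsg.IrrCharacter G, (n ψ).toNat • (ψ : G → ℂ),
    ∑ ψ : Cfsg.IrrCharacter G, (-n ψ).toNat • (ψ : G → ℂ),
    isCharacter_sum _ _ (fun ψ _ => isCharacter_nsmul (isCharacter_of_irr ψ) _),
    isCharacter_sum _ _ (fun ψ _ => isCharacter_nsmul (isCharacter_of_irr ψ) _), ?_⟩
  rw [← Finset.sum_sub_distrib]
  refine Finset.sum_congr rfl fun ψ _ => ?_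
  funext g
  have h : (n ψ : ℤ) = ((n ψ).toNat : ℤ) - ((-n ψ).toNat : ℤ) := by
    omega
  have h' := congrArg (fun z : ℤ => (z : ℂ)) h
  simp only [Int.cast_sub, Int.cast_natCast] at h'
  show (n ψ : ℂ) • (ψ : G → ℂ) g = (n ψ).toNat • (ψ : G → ℂ) g - (-n ψ).toNat • (ψ : G → ℂ) g
  rw [smul_eq_mul, nsmul_eq_mul, nsmul_eq_mul, ← sub_mul, ← h']

theorem hz_memLocalIdeal_intCast_iff {p : ℕ} [hp : Fact p.Prime] {M : Ideal Cfsg.AlgInt}
    (hM : Cfsg.IsPModular p M) (z : ℤ) : Cfsg.MemLocalIdeal M (z : ℂ) ↔ (p : ℤ) ∣ z := by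
  have h1 := h7_memLocalIdeal_natCast_iff hM z.natAbs
  rw [← Int.natCast_dvd_natCast, Int.dvd_natAbs] at h1
  rw [← h1]
  rcases Int.natAbs_eq z with h | h
  · conv_lhs => rw [h]
    simp
  · conv_lhs => rw [h]
    constructor
    · intro h2
      have := h7_memLocalIdeal_neg h2
      simpa using this
    · intro h2
      have := h7_memLocalIdeal_neg h2
      simpa using this

end

section

/-- the `p'`-cofactor of a degree relative to the minimal valuation in the block -/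
theorem hz_cofactor {G : Type*} [Group G] [Finite G] (p : ℕ) [hp : Fact p.Prime]
    (B : Set (Cfsg.IrrCharacter G)) (χ : Cfsg.IrrCharacter G) (hχ : χ ∈ B) :
    ∃ t : ℕ, Cfsg.charDegree (χ : G → ℂ) =
      p ^ sInf ((fun ψ : Cfsg.IrrCharacter G => (Cfsg.charDegree (ψ : G → ℂ)).factorization p) '' B)
        * t ∧ (p ∣ t ↔ Cfsg.blockHeight p B (χ : G → ℂ) ≠ 0) := by
  set fG : Cfsg.IrrCharacter G → ℕ := fun ψ => (Cfsg.charDegree (ψ : G → ℂ)).factorization p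
    with hfG
  set νB := sInf (fG '' B) with hνB
  have hνB_le : νB ≤ fG χ := Nat.sInf_le ⟨χ, hχ, rfl⟩
  obtain ⟨hd1, hd2, hd3⟩ := h7_charDegree_props χ
  have hdvd : p ^ νB ∣ Cfsg.charDegree (χ : G → ℂ) :=
    (pow_dvd_pow p hνB_le).trans (Nat.ordProj_dvd _ p)
  obtain ⟨t, ht⟩ := hdvd
  refine ⟨t, ht, ?_⟩
  have hheight : Cfsg.blockHeight p B (χ : G → ℂ) = fG χ - νB := rfl
  rw [hheight]
  have h1 : p ∣ t ↔ p ^ (νB + 1) ∣ Cfsg.charDegree (χ : G → ℂ) := by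
    rw [ht, pow_succ]
    exact (Nat.mul_dvd_mul_iff_left (pow_pos hp.out.pos _)).symm
  rw [h1, hp.out.pow_dvd_iff_le_factorization hd2.ne']
  show νB + 1 ≤ fG χ ↔ _
  omega

/-- the symmetry relation `r(χ, ψ) t_ψ = r(ψ, χ) t_χ` -/
theorem hz_rel {G : Type*} [Group G] [Fintype G] (p : ℕ) [hp : Fact p.Prime]
    (χ ψ : Cfsg.IrrCharacter G) (ν tχ tψ : ℕ)
    (hχ : Cfsg.charDegree (χ : G → ℂ) = p ^ ν * tχ)
    (hψ : Cfsg.charDegree (ψ : G → ℂ) = p ^ ν * tψ) :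
    hz_r p (χ : G → ℂ) (ψ : G → ℂ) * (tψ : ℂ) = hz_r p (ψ : G → ℂ) (χ : G → ℂ) * (tχ : ℂ) := by
  obtain ⟨_, hd2, hd3⟩ := h7_charDegree_props χ
  obtain ⟨_, he2, he3⟩ := h7_charDegree_props ψ
  have hp0 : ((p : ℂ) ^ ν) ≠ 0 := pow_ne_zero _ (by exact_mod_cast hp.out.ne_zero)
  have htχ : (tχ : ℂ) ≠ 0 := by
    intro h
    have : tχ = 0 := by exact_mod_cast h
    rw [this, mul_zero] at hχ
    omega
  have htψ : (tψ : ℂ) ≠ 0 := by
    intro h
    have : tψ = 0 := by exact_mod_cast h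
    rw [this, mul_zero] at hψ
    omega
  unfold hz_r
  rw [hz_inner_symm p χ ψ, ← hd3, ← he3, hχ, hψ]
  push_cast
  field_simp

end

section

/-- some `r(χ, ψ)` with `χ, ψ` in the block is a unit -/
theorem hz_exists_unit {G : Type*} [Group G] [Fintype G] [Fintype (Cfsg.IrrCharacter G)]
    (p : ℕ) [hp : Fact p.Prime] (M : Ideal Cfsg.AlgInt) (hM : Cfsg.IsPModular p M)
    (χ₀ : Cfsg.IrrCharacter G) :
    ∃ χ₁ ∈ Cfsg.blockOf M (χ₀ : G → ℂ), ∃ ψ₁ ∈ Cfsg.blockOf M (χ₀ : G → ℂ),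
      ¬ Cfsg.MemLocalIdeal M (hz_r p (χ₁ : G → ℂ) (ψ₁ : G → ℂ)) := by
  classical
  have hMp := hM.2.1.isPrime
  by_contra hcon
  push Not at hcon
  have h0 : χ₀ ∈ Cfsg.blockOf M (χ₀ : G → ℂ) := h7_sameBlock_refl hMp _
  set fG : Cfsg.IrrCharacter G → ℕ := fun ψ => (Cfsg.charDegree (ψ : G → ℂ)).factorization p
    with hfG
  set νB := sInf (fG '' Cfsg.blockOf M (χ₀ : G → ℂ)) with hνB
  have hne : (fG '' Cfsg.blockOf M (χ₀ : G → ℂ)).Nonempty := ⟨_, χ₀, h0, rfl⟩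
  obtain ⟨χ, hχ, hχν⟩ := Nat.sInf_mem hne
  have hχν' : fG χ = νB := hχν
  set dB := Cfsg.blockDefect p (Cfsg.blockOf M (χ₀ : G → ℂ)) with hdB
  have hdBval : dB = (Nat.card G).factorization p - νB := rfl
  obtain ⟨hd1, hd2, hd3⟩ := h7_charDegree_props χ
  have hνa : νB ≤ (Nat.card G).factorization p := by
    rw [← hχν']
    exact (Nat.factorization_le_iff_dvd hd2.ne' Nat.card_pos.ne').mpr hd1 p
  obtain ⟨tχ, htχ, htχp⟩ := hz_cofactor p (Cfsg.blockOf M (χ₀ : G → ℂ)) χ hχ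
  have hheight : Cfsg.blockHeight p (Cfsg.blockOf M (χ₀ : G → ℂ)) (χ : G → ℂ) = 0 := by
    show fG χ - νB = 0
    omega
  have htχnd : ¬ p ∣ tχ := fun h => (htχp.mp h) hheight
  have hp0 : (p : ℂ) ≠ 0 := by exact_mod_cast hp.out.ne_zero
  -- divisibility of the integers p^dB [χ°, ψ]
  have hZ : ∀ ψ : Cfsg.IrrCharacter G, ∃ Y : ℤ, (p ^ dB : ℂ) *
      Cfsg.classInner (Cfsg.pRegularPart p (χ : G → ℂ)) (ψ : G → ℂ) = (p : ℂ) * (Y : ℂ) := by
    intro ψ
    by_cases hψ : ψ ∈ Cfsg.blockOf M (χ₀ : G → ℂ)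
    · obtain ⟨Z, hZ⟩ := ci_inner_int p M hM χ₀ χ ψ hχ hψ
      obtain ⟨tψ, htψ, -⟩ := hz_cofactor p (Cfsg.blockOf M (χ₀ : G → ℂ)) ψ hψ
      obtain ⟨_, he2, he3⟩ := h7_charDegree_props ψ
      have htψ0 : (tψ : ℂ) ≠ 0 := by
        intro h
        have : tψ = 0 := by exact_mod_cast h
        rw [this, mul_zero] at htψ
        omega
      have hrel : (p ^ dB : ℂ) *
          Cfsg.classInner (Cfsg.pRegularPart p (χ : G → ℂ)) (ψ : G → ℂ) =
          hz_r p (χ : G → ℂ) (ψ : G → ℂ) * (tψ : ℂ) := by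
        unfold hz_r
        rw [hz_tilde_eq, classInner_smul_left, ← he3, htψ]
        have : (Nat.card G).factorization p = dB + νB := by omega
        rw [this]
        push_cast
        have hpν : ((p : ℂ) ^ νB) ≠ 0 := pow_ne_zero _ hp0
        field_simp
        ring
      have hmem : Cfsg.MemLocalIdeal M ((Z : ℤ) : ℂ) := by
        rw [← hZ, hrel]
        exact h7_memLocalIdeal_mul_right hMp (hcon χ hχ ψ hψ) (h7_memLocalRing_natCast hMp _)
      obtain ⟨Y, hY⟩ := (hz_memLocalIdeal_intCast_iff hM Z).mp hmem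
      refine ⟨Y, ?_⟩
      rw [hZ, hY]
      push_cast
      rfl
    · refine ⟨0, ?_⟩
      rw [cd_inner_reg_symm, cd_block_orth hM χ₀ ψ hψ χ hχ]
      simp
  choose Y hY using hZ
  set θ : G → ℂ := ∑ ψ : Cfsg.IrrCharacter G, (Y ψ : ℂ) • (ψ : G → ℂ) with hθ
  have hθgen : Cfsg.IsGeneralizedCharacter G θ := hz_genChar_of_int_comb Y
  have hθeq : (p : ℂ) • θ = (p ^ dB : ℂ) • Cfsg.pRegularPart p (χ : G → ℂ) := by
    have hexp := classFunction_expansion (Cfsg.pRegularPart p (χ : G → ℂ))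
      (fun g h => cd_pRegularPart_conj p _ (fun g h => irr_conj_invariant χ g h) g h)
    conv_rhs => rw [hexp]
    rw [hθ, Finset.smul_sum, Finset.smul_sum]
    refine Finset.sum_congr rfl fun ψ _ => ?_
    rw [smul_smul, smul_smul, hY ψ]
  have hθvan : ∀ x : G, p ∣ orderOf x → θ x = 0 := by
    intro x hx
    have h1 := congrFun hθeq x
    rw [Pi.smul_apply, Pi.smul_apply, br_pRegularPart_sing p _ x hx, smul_zero, smul_eq_mul] at h1
    exact (mul_eq_zero.mp h1).resolve_left hp0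
  obtain ⟨z, hz⟩ := prg_sylow_dvd p θ hθgen hθvan
  have h2 := congrFun hθeq 1
  rw [Pi.smul_apply, Pi.smul_apply, br_pRegularPart_reg p _ 1 (ci_one_regular p), hz, ← hd3, htχ,
    smul_eq_mul, smul_eq_mul] at h2
  -- p * z * p^a = p^dB * p^νB * tχ
  have h3 : ((p : ℤ) * z * (p : ℤ) ^ (Nat.card G).factorization p : ℤ) =
      (p : ℤ) ^ (Nat.card G).factorization p * (tχ : ℤ) := by
    have : (Nat.card G).factorization p = dB + νB := by omega
    have h4 : ((((p : ℤ) * z * (p : ℤ) ^ (Nat.card G).factorization p : ℤ)) : ℂ) =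
        (((p : ℤ) ^ (Nat.card G).factorization p * (tχ : ℤ) : ℤ) : ℂ) := by
      push_cast
      push_cast at h2
      rw [← mul_assoc] at h2
      rw [h2]
      conv_rhs => rw [this, pow_add]
      ring
    exact_mod_cast h4
  have hpa0 : ((p : ℤ) ^ (Nat.card G).factorization p) ≠ 0 :=
    pow_ne_zero _ (by exact_mod_cast hp.out.ne_zero)
  have h5 : (p : ℤ) * z = (tχ : ℤ) := by
    have h6 : (p : ℤ) ^ (Nat.card G).factorization p * ((p : ℤ) * z) =
        (p : ℤ) ^ (Nat.card G).factorization p * (tχ : ℤ) := by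
      rw [← h3]
      ring
    exact mul_left_cancel₀ hpa0 h6
  apply htχnd
  have : (p : ℤ) ∣ (tχ : ℤ) := ⟨z, h5.symm⟩
  exact Int.natCast_dvd_natCast.mp this

end

section

/-- membership of `r(χ, ψ)` in the local ideal does not depend on `ψ` in the block -/
theorem hz_mem_indep {G : Type*} [Group G] [Fintype G] (p : ℕ) [hp : Fact p.Prime]
    (M : Ideal Cfsg.AlgInt) (hM : Cfsg.IsPModular p M) (χ₀ : Cfsg.IrrCharacter G)
    (χ ψ ψ' : Cfsg.IrrCharacter G) (hψ : ψ ∈ Cfsg.blockOf M (χ₀ : G → ℂ))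
    (hψ' : ψ' ∈ Cfsg.blockOf M (χ₀ : G → ℂ))
    (h : Cfsg.MemLocalIdeal M (hz_r p (χ : G → ℂ) (ψ : G → ℂ))) :
    Cfsg.MemLocalIdeal M (hz_r p (χ : G → ℂ) (ψ' : G → ℂ)) := by
  haveI : Fintype (Cfsg.IrrCharacter G) := Fintype.ofFinite _
  have hMp := hM.2.1.isPrime
  have hsame : Cfsg.SameBlock M (ψ' : G → ℂ) (ψ : G → ℂ) :=
    h7_sameBlock_trans hMp (h7_sameBlock_symm hψ') hψ
  have h1 := hz_r_congr p hM χ ψ' ψ hsame
  have e : hz_r p (χ : G → ℂ) (ψ' : G → ℂ) =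
      (hz_r p (χ : G → ℂ) (ψ' : G → ℂ) - hz_r p (χ : G → ℂ) (ψ : G → ℂ)) +
      hz_r p (χ : G → ℂ) (ψ : G → ℂ) := by ring
  rw [e]
  exact h7_memLocalIdeal_add hMp h1 h

/-- cancel a `p'`-cofactor -/
theorem hz_cancel {p : ℕ} [hp : Fact p.Prime] {M : Ideal Cfsg.AlgInt}
    (hM : Cfsg.IsPModular p M) (z : ℂ) (t : ℕ) (ht : ¬ p ∣ t)
    (h : Cfsg.MemLocalIdeal M (z * (t : ℂ))) : Cfsg.MemLocalIdeal M z := by
  have hMp := hM.2.1.isPrime
  have hcop : t.Coprime p := (Nat.Coprime.symm ((Nat.Prime.coprime_iff_not_dvd hp.out).mpr ht))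
  have ht0 : (t : ℂ) ≠ 0 := by
    intro h0
    have : t = 0 := by exact_mod_cast h0
    rw [this] at ht
    exact ht (dvd_zero _)
  have e : z = (z * (t : ℂ)) * ((t : ℂ))⁻¹ := by field_simp
  rw [e]
  exact h7_memLocalIdeal_mul_right hMp h (h7_memLocalRing_inv_natCast hM t hcop)

/-- `χ ∈ B` has height zero iff `r(χ, ψ)` is a unit, for any `ψ ∈ B` -/
theorem hz_iff {G : Type*} [Group G] [Fintype G] (p : ℕ) [hp : Fact p.Prime]
    (M : Ideal Cfsg.AlgInt) (hM : Cfsg.IsPModular p M) (χ₀ : Cfsg.IrrCharacter G)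
    (χ ψ : Cfsg.IrrCharacter G) (hχ : χ ∈ Cfsg.blockOf M (χ₀ : G → ℂ))
    (hψ : ψ ∈ Cfsg.blockOf M (χ₀ : G → ℂ)) :
    Cfsg.blockHeight p (Cfsg.blockOf M (χ₀ : G → ℂ)) (χ : G → ℂ) = 0 ↔
      ¬ Cfsg.MemLocalIdeal M (hz_r p (χ : G → ℂ) (ψ : G → ℂ)) := by
  classical
  haveI : Fintype (Cfsg.IrrCharacter G) := Fintype.ofFinite _
  have hMp := hM.2.1.isPrime
  obtain ⟨χ₁, hχ₁, ψ₁, hψ₁, hunit⟩ := hz_exists_unit p M hM χ₀
  obtain ⟨tχ, htχ, htχp⟩ := hz_cofactor p (Cfsg.blockOf M (χ₀ : G → ℂ)) χ hχ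
  obtain ⟨tχ₁, htχ₁, htχ₁p⟩ := hz_cofactor p (Cfsg.blockOf M (χ₀ : G → ℂ)) χ₁ hχ₁
  constructor
  · intro hh hmem
    have htnd : ¬ p ∣ tχ := fun h => (htχp.mp h) hh
    -- r(χ, χ₁) ∈ M
    have h1 := hz_mem_indep p M hM χ₀ χ ψ χ₁ hψ hχ₁ hmem
    have h2 : Cfsg.MemLocalIdeal M (hz_r p (χ : G → ℂ) (χ₁ : G → ℂ) * (tχ₁ : ℂ)) :=
      h7_memLocalIdeal_mul_right hMp h1 (h7_memLocalRing_natCast hMp _)
    rw [hz_rel p χ χ₁ _ tχ tχ₁ htχ htχ₁] at h2
    have h3 := hz_cancel hM _ tχ htnd h2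
    exact hunit (hz_mem_indep p M hM χ₀ χ₁ χ ψ₁ hχ hψ₁ h3)
  · intro hnot
    by_contra hh
    apply hnot
    have htd : p ∣ tχ := htχp.mpr hh
    -- a height zero character ψ₀
    set fG : Cfsg.IrrCharacter G → ℕ := fun ψ => (Cfsg.charDegree (ψ : G → ℂ)).factorization p
      with hfG
    have h0 : χ₀ ∈ Cfsg.blockOf M (χ₀ : G → ℂ) := h7_sameBlock_refl hMp _
    have hne : (fG '' Cfsg.blockOf M (χ₀ : G → ℂ)).Nonempty := ⟨_, χ₀, h0, rfl⟩
    obtain ⟨ψ₀, hψ₀, hψ₀ν⟩ := Nat.sInf_mem hne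
    obtain ⟨tψ₀, htψ₀, htψ₀p⟩ := hz_cofactor p (Cfsg.blockOf M (χ₀ : G → ℂ)) ψ₀ hψ₀
    have hheight0 : Cfsg.blockHeight p (Cfsg.blockOf M (χ₀ : G → ℂ)) (ψ₀ : G → ℂ) = 0 := by
      show fG ψ₀ - sInf (fG '' Cfsg.blockOf M (χ₀ : G → ℂ)) = 0
      have : fG ψ₀ = sInf (fG '' Cfsg.blockOf M (χ₀ : G → ℂ)) := hψ₀ν
      omega
    have htψ₀nd : ¬ p ∣ tψ₀ := fun h => (htψ₀p.mp h) hheight0
    have h1 : Cfsg.MemLocalIdeal M (hz_r p (ψ₀ : G → ℂ) (χ : G → ℂ) * (tχ : ℂ)) := by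
      apply h7_memLocalIdeal_mul_left hMp (hz_r_mem p hM ψ₀ χ)
      exact (h7_memLocalIdeal_natCast_iff hM tχ).mpr htd
    rw [← hz_rel p χ ψ₀ _ tχ tψ₀ htχ htψ₀] at h1
    have h2 := hz_cancel hM _ tψ₀ htψ₀nd h1
    exact hz_mem_indep p M hM χ₀ χ ψ₀ ψ hψ₀ hψ h2

end

section

/-- a ratio of naturals whose numerator has higher valuation lies in the local ideal -/
theorem hz_ratio_mem_of_lt {p : ℕ} [hp : Fact p.Prime] {M : Ideal Cfsg.AlgInt}
    (hM : Cfsg.IsPModular p M) (n m : ℕ) (hn : n ≠ 0) (hm : m ≠ 0)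
    (hlt : m.factorization p < n.factorization p) :
    Cfsg.MemLocalIdeal M ((n : ℂ) / (m : ℂ)) := by
  have hMp := hM.2.1.isPrime
  set a := n.factorization p with ha
  set b := m.factorization p with hb
  have hn' : p ^ a * (n / p ^ a) = n := Nat.ordProj_mul_ordCompl_eq_self n p
  have hm' : p ^ b * (m / p ^ b) = m := Nat.ordProj_mul_ordCompl_eq_self m p
  have hm'p : ¬ p ∣ m / p ^ b := Nat.not_dvd_ordCompl hp.out hm
  set n' := n / p ^ a
  set m' := m / p ^ b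
  have hp0 : (p : ℂ) ≠ 0 := by exact_mod_cast hp.out.ne_zero
  have hm'0 : (m' : ℂ) ≠ 0 := by
    intro h0
    have : m' = 0 := by exact_mod_cast h0
    rw [this] at hm'p
    exact hm'p (dvd_zero _)
  have hcop : m'.Coprime p := (Nat.Coprime.symm ((Nat.Prime.coprime_iff_not_dvd hp.out).mpr hm'p))
  have e : (n : ℂ) / (m : ℂ) = (p : ℂ) * (((p : ℂ) ^ (a - b - 1) * (n' : ℂ)) * (m' : ℂ)⁻¹) := by
    have e1 : (n : ℂ) = (p : ℂ) ^ a * (n' : ℂ) := by rw [← hn']; push_cast; ring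
    have e2 : (m : ℂ) = (p : ℂ) ^ b * (m' : ℂ) := by rw [← hm']; push_cast; ring
    have e3 : (p : ℂ) ^ a = (p : ℂ) ^ (a - b - 1) * (p : ℂ) * (p : ℂ) ^ b := by
      rw [← pow_succ, ← pow_add]
      congr 1
      omega
    rw [e1, e2, e3]
    have : ((p : ℂ) ^ b) ≠ 0 := pow_ne_zero _ hp0
    field_simp
  rw [e]
  apply h7_memLocalIdeal_mul_right hMp (h7_memLocalIdeal_p hM)
  apply h7_memLocalRing_mul hMp _ (h7_memLocalRing_inv_natCast hM m' hcop)
  have := h7_memLocalRing_natCast hMp (p ^ (a - b - 1) * n')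
  simpa using this

/-- for an integer `n` and a positive natural `m` with `n / m` a local integer:
`n / m` is a unit iff `n ≠ 0` and the valuations agree -/
theorem hz_unit_iff {p : ℕ} [hp : Fact p.Prime] {M : Ideal Cfsg.AlgInt}
    (hM : Cfsg.IsPModular p M) (n : ℤ) (m : ℕ) (hm : m ≠ 0)
    (hR : Cfsg.MemLocalRing M ((n : ℂ) / (m : ℂ))) :
    ¬ Cfsg.MemLocalIdeal M ((n : ℂ) / (m : ℂ)) ↔
      (n ≠ 0 ∧ padicValInt p n = m.factorization p) := by
  have hMp := hM.2.1.isPrime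
  have hmC : (m : ℂ) ≠ 0 := by exact_mod_cast hm
  set k := n.natAbs with hk
  have hval : padicValInt p n = k.factorization p := by
    unfold padicValInt
    rw [Nat.factorization_def _ hp.out]
  -- membership for n/m and k/m agree
  have hsign : Cfsg.MemLocalIdeal M ((n : ℂ) / (m : ℂ)) ↔
      Cfsg.MemLocalIdeal M ((k : ℂ) / (m : ℂ)) := by
    rcases Int.natAbs_eq n with h | h
    · have : (n : ℂ) = (k : ℂ) := by
        have h3 : (n : ℤ) = ((k : ℕ) : ℤ) := h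
        rw [h3, Int.cast_natCast]
      rw [this]
    · have : (n : ℂ) = -(k : ℂ) := by
        have h3 : (n : ℤ) = -((k : ℕ) : ℤ) := h
        rw [h3, Int.cast_neg, Int.cast_natCast]
      rw [this, neg_div]
      constructor
      · intro h2
        have := h7_memLocalIdeal_neg h2
        rwa [neg_neg] at this
      · intro h2
        exact h7_memLocalIdeal_neg h2
  have hRk : Cfsg.MemLocalRing M ((k : ℂ) / (m : ℂ)) := by
    rcases Int.natAbs_eq n with h | h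
    · have : (n : ℂ) = (k : ℂ) := by
        have h3 : (n : ℤ) = ((k : ℕ) : ℤ) := h
        rw [h3, Int.cast_natCast]
      rwa [this] at hR
    · have : (n : ℂ) = -(k : ℂ) := by
        have h3 : (n : ℤ) = -((k : ℕ) : ℤ) := h
        rw [h3, Int.cast_neg, Int.cast_natCast]
      rw [this, neg_div] at hR
      have h2 : Cfsg.MemLocalRing M (-1 : ℂ) := by
        have := h7_memLocalRing_of_algInt hMp (-1 : Cfsg.AlgInt)
        simpa using this
      have := h7_memLocalRing_mul hMp h2 hR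
      simpa using this
  rw [hsign, hval]
  have hk0 : k = 0 ↔ n = 0 := Int.natAbs_eq_zero
  constructor
  · intro hnot
    have hkne : k ≠ 0 := by
      intro h0
      apply hnot
      rw [h0, Nat.cast_zero, zero_div]
      exact h7_memLocalIdeal_zero hMp
    refine ⟨fun h => hkne (hk0.mpr h), ?_⟩
    rcases lt_trichotomy (k.factorization p) (m.factorization p) with hlt | heq | hgt
    · exfalso
      have h1 := hz_ratio_mem_of_lt hM m k hm hkne hlt
      apply h7_not_memLocalIdeal_one hMp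
      have hkC : (k : ℂ) ≠ 0 := by exact_mod_cast hkne
      have e : (1 : ℂ) = ((m : ℂ) / (k : ℂ)) * ((k : ℂ) / (m : ℂ)) := by field_simp
      rw [e]
      exact h7_memLocalIdeal_mul_right hMp h1 hRk
    · exact heq
    · exfalso
      exact hnot (hz_ratio_mem_of_lt hM k m hkne hm hgt)
  · rintro ⟨hn0, heq⟩ hmem
    rcases ib_ratio_mem hM k m hm hmem with h | h
    · exact hn0 (hk0.mp h)
    · omega

end

section

/-- for `χ, ξ` in a block: height zero iff `[χ̃, ξ]` is a nonzero integer with the valuation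
of `ξ(1)` -/
theorem hz_single {G : Type*} [Group G] [Fintype G] (p : ℕ) [hp : Fact p.Prime]
    (M : Ideal Cfsg.AlgInt) (hM : Cfsg.IsPModular p M) (χ₀ : Cfsg.IrrCharacter G)
    (χ ξ : Cfsg.IrrCharacter G) (hχ : χ ∈ Cfsg.blockOf M (χ₀ : G → ℂ))
    (hξ : ξ ∈ Cfsg.blockOf M (χ₀ : G → ℂ)) :
    Cfsg.blockHeight p (Cfsg.blockOf M (χ₀ : G → ℂ)) (χ : G → ℂ) = 0 ↔
      ∃ n : ℤ, Cfsg.classInner (hz_tilde p (χ : G → ℂ)) (ξ : G → ℂ) = (n : ℂ) ∧ n ≠ 0 ∧
        padicValInt p n = (Cfsg.charDegree (ξ : G → ℂ)).factorization p := by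
  obtain ⟨n, hn⟩ := hz_inner_int p χ ξ
  obtain ⟨hd1, hd2, hd3⟩ := h7_charDegree_props ξ
  have hr : hz_r p (χ : G → ℂ) (ξ : G → ℂ) =
      (n : ℂ) / ((Cfsg.charDegree (ξ : G → ℂ) : ℕ) : ℂ) := by
    unfold hz_r
    rw [hn, hd3]
  have hR := hz_r_mem p hM χ ξ
  rw [hr] at hR
  have h1 := hz_iff p M hM χ₀ χ ξ hχ hξ
  rw [hr, hz_unit_iff hM n _ hd2.ne' hR] at h1
  rw [h1]
  constructor
  · rintro ⟨h2, h3⟩
    exact ⟨n, hn, h2, h3⟩
  · rintro ⟨n', hn', h2, h3⟩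
    have : n' = n := by
      have : (n' : ℂ) = (n : ℂ) := hn'.symm.trans hn
      exact_mod_cast this
    subst this
    exact ⟨h2, h3⟩

theorem hz_main {G : Type*} [Group G] [Fintype G] (p : ℕ) [Fact p.Prime] (M : Ideal Cfsg.AlgInt) (hM : Cfsg.IsPModular p M) (B : Set (Cfsg.IrrCharacter G)) (hB : Cfsg.IsPBlock M B) (χ : Cfsg.IrrCharacter G) (hχ : χ ∈ B) : (Cfsg.blockHeight p B (χ : G → ℂ) = 0 ↔ ∃ ξ ∈ B, ∃ n : ℤ, Cfsg.classInner (fun x : G => if p ∣ orderOf x then (0 : ℂ) else ((p ^ (Nat.card G).factorization p : ℕ) : ℂ) * (χ : G → ℂ) x) (ξ : G → ℂ) = (n : ℂ) ∧ n ≠ 0 ∧ padicValInt p n = (Cfsg.charDegree (ξ : G → ℂ)).factorization p) ∧ (Cfsg.blockHeight p B (χ : G → ℂ) = 0 ↔ ∀ ξ ∈ B, ∃ n : ℤ, Cfsg.classInner (fun x : G => if p ∣ orderOf x then (0 : ℂ) else ((p ^ (Nat.card G).factorization p : ℕ) : ℂ) * (χ : G → ℂ) x) (ξ : G → ℂ) = (n : ℂ) ∧ n ≠ 0 ∧ padicValInt p n = (Cfsg.charDegree (ξ : G → ℂ)).factorization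 p) := by
  obtain ⟨χ₀, rfl⟩ := hB
  constructor
  · constructor
    · intro h
      exact ⟨χ, hχ, (hz_single p M hM χ₀ χ χ hχ hχ).mp h⟩
    · rintro ⟨ξ, hξ, h⟩
      exact (hz_single p M hM χ₀ χ ξ hχ hξ).mpr h
  · constructor
    · intro h ξ hξ
      exact (hz_single p M hM χ₀ χ ξ hχ hξ).mp h
    · intro h
      exact (hz_single p M hM χ₀ χ χ hχ hχ).mpr (h χ hχ)

end

end Cfsg.Agent.Lib.Helper25
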