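import Mathlib
import Cfsg.Prelude.Def_Blocks
import Cfsg.Prelude.Def_BlockRank
import Cfsg.Agent.Lib.helper7.BlockDefect2
import Cfsg.Agent.Lib.helper7.BlockInd2
import Cfsg.Agent.Lib.helper7.BlockCover
import Cfsg.Agent.Lib.helper7.Induction
import Cfsg.Agent.Lib.Helper25.BlockRankTrace
import Cfsg.Agent.Lib.Helper25.BlockOrthReg
import Cfsg.Agent.Lib.Helper25.CentralDefect
import Cfsg.Agent.Lib.Helper25.BrauerMapBasic
import Cfsg.Agent.Lib.Helper25.CharOrth
import Cfsg.Agent.Lib.Helper25.CharBasic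
import Cfsg.Agent.Lib.Helper25.HeightZeroCrit
import Cfsg.Agent.S0932

/-!
Induced blocks and the inner product criterion: for b^G = B0, psi in b, eta = p^{a_H} (chi|_H)°: [eta, psi]/psi(1) = u * omega_{psi^G}(beta_chi) with u a local unit (hi_key), omega of an induced function (hi_omega_indFun, bilinear Frobenius reciprocity), class sum expansion for class functions (hi_omega_expand), hi_congr, hi_main.
-/

set_option autoImplicit false
set_option linter.style.haveILetI false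
set_option linter.unusedVariables false
set_option warn.classDefReducibility false
set_option maxHeartbeats 800000

namespace Cfsg.Agent.Lib.Helper25
open Cfsg.Agent.Lib.helper7
open Cfsg.Agent.Lib.helper2
open Cfsg.Agent.Lib.Helper11
open Cfsg.Agent.Lib.Helper24
open scoped ComplexConjugate
section

/-- class sum expansion of `bm_omega` for general class functions -/
theorem hi_omega_expand {G : Type*} [Group G] [Fintype G] [Fintype (ConjClasses G)]
    (β : G → ℂ) (hβ : ∀ g h : G, β (h * g * h⁻¹) = β g) (Ψ : G → ℂ)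
    (hΨ : ∀ g h : G, Ψ (h * g * h⁻¹) = Ψ g) :
    bm_omega β Ψ = ∑ K : ConjClasses G, β (Quotient.out K) *
      Cfsg.centralChar Ψ (Quotient.out K) := by
  unfold bm_omega
  have hcl : ∀ g h : G, β (h * g * h⁻¹) * Ψ (h * g * h⁻¹) / Ψ 1 =
      β g * Ψ g / Ψ 1 := by
    intro g h
    rw [hβ, hΨ]
  rw [h7_sum_eq_sum_conjClasses _ hcl]
  refine Finset.sum_congr rfl fun K _ => ?_
  unfold Cfsg.centralChar
  rw [nsmul_eq_mul]
  ring

/-- bilinear Frobenius reciprocity: `ω` of an induced function -/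
theorem hi_omega_indFun {G : Type*} [Group G] [Fintype G] (H : Subgroup G) [Fintype H]
    (β : G → ℂ) (hβ : ∀ g h : G, β (h * g * h⁻¹) = β g) (ψ : H → ℂ) :
    bm_omega β (Cfsg.indFun H ψ) = bm_omega (fun h : H => β (h : G)) ψ := by
  unfold bm_omega
  have hG : (Nat.card G : ℂ) ≠ 0 := by exact_mod_cast Nat.card_pos.ne'
  have hH : (Nat.card H : ℂ) ≠ 0 := by exact_mod_cast Nat.card_pos.ne'
  have hidx : (Nat.card G : ℂ) = (H.index : ℂ) * (Nat.card H : ℂ) := by
    rw [← Subgroup.index_mul_card H]; push_cast; ring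
  have hidx0 : (H.index : ℂ) ≠ 0 := by
    intro h0; rw [h0, zero_mul] at hidx; exact hG hidx
  have hcl : Cfsg.IsClassFunction G (fun g => conj (β g)) := by
    intro g h
    show conj (β (h * g * h⁻¹)) = conj (β g)
    rw [hβ]
  have h1 := h7_frobenius_reciprocity H ψ (fun g => conj (β g)) hcl
  unfold Cfsg.classInner at h1
  simp only [Complex.conj_conj] at h1
  rw [h7_indFun_one, ← Finset.sum_div, ← Finset.sum_div]
  have h2 : ∑ x : G, β x * Cfsg.indFun H ψ x = (H.index : ℂ) * ∑ h : H, β (h : G) * ψ h := by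
    have e1 : ∑ x : G, β x * Cfsg.indFun H ψ x = ∑ x : G, Cfsg.indFun H ψ x * β x :=
      Finset.sum_congr rfl fun x _ => mul_comm _ _
    have e2 : ∑ h : H, β (h : G) * ψ h = ∑ h : H, ψ h * β (h : G) :=
      Finset.sum_congr rfl fun x _ => mul_comm _ _
    rw [e1, e2]
    have h3 : ∑ x : G, Cfsg.indFun H ψ x * β x =
        (Nat.card G : ℂ) * ((Nat.card H : ℂ)⁻¹ * ∑ h : H, ψ h * β (h : G)) := by
      rw [← h1]
      field_simp
    rw [h3, hidx]
    field_simp
  rw [h2]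
  by_cases h0 : ψ 1 = 0
  · rw [h0]
    simp
  · field_simp

/-- `p`-regular part commutes with restriction to a subgroup -/
theorem hi_pRegularPart_restrict {G : Type*} [Group G] (p : ℕ) (H : Subgroup G) (χ : G → ℂ)
    (h : H) :
    Cfsg.pRegularPart p (fun h : H => χ (h : G)) h = Cfsg.pRegularPart p χ (h : G) := by
  by_cases hx : p ∣ orderOf h
  · rw [br_pRegularPart_sing p _ h hx, br_pRegularPart_sing p χ (h : G)
      (by rwa [Subgroup.orderOf_coe])]
  · rw [br_pRegularPart_reg p _ h hx, br_pRegularPart_reg p χ (h : G)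
      (by rwa [Subgroup.orderOf_coe])]

end

section

/-- the coefficient function of the restriction is a unit multiple of the restriction of the
coefficient function -/
theorem hi_beta_restrict {G : Type*} [Group G] (p : ℕ) (H : Subgroup G) (χ : G → ℂ) (h : H) :
    hz_beta p (fun h : H => χ (h : G)) h =
      (((Nat.card H / p ^ (Nat.card H).factorization p : ℕ) : ℂ))⁻¹ *
        Cfsg.pRegularPart p χ ((h : G))⁻¹ := by
  unfold hz_beta
  rw [hi_pRegularPart_restrict]
  rfl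

/-- the key identity: `[η, ψ]/ψ(1) = u · ω_{ψ^G}(β_χ)` with `u = |G|_{p'}/|H|_{p'}` -/
theorem hi_key {G : Type*} [Group G] [Fintype G] (p : ℕ) [hp : Fact p.Prime]
    (H : Subgroup G) [Fintype H] (χ : Cfsg.IrrCharacter G) (ψ : Cfsg.IrrCharacter H) :
    hz_r p (fun h : H => (χ : G → ℂ) (h : G)) (ψ : H → ℂ) =
      (((Nat.card G / p ^ (Nat.card G).factorization p : ℕ) : ℂ) *
        (((Nat.card H / p ^ (Nat.card H).factorization p : ℕ) : ℂ))⁻¹) *
      bm_omega (hz_beta p (χ : G → ℂ)) (Cfsg.indFun H (ψ : H → ℂ)) := by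
  rw [hz_r_eq_omega, hi_omega_indFun H _ (hz_beta_conj p χ)]
  unfold bm_omega
  rw [Finset.mul_sum]
  refine Finset.sum_congr rfl fun h _ => ?_
  rw [hi_beta_restrict]
  obtain ⟨hsplit, hnd⟩ := hz_card_split (G := G) p
  have hm0 : ((Nat.card G / p ^ (Nat.card G).factorization p : ℕ) : ℂ) ≠ 0 := by
    intro h
    have : (Nat.card G / p ^ (Nat.card G).factorization p : ℕ) = 0 := by exact_mod_cast h
    rw [this] at hnd
    exact hnd (dvd_zero _)
  unfold hz_beta
  field_simp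

/-- `ω_{ψ^G}(β) ≡ ω_{χ'}(β)` when `b^G = B₀`, `ψ ∈ b`, `χ' ∈ B₀` -/
theorem hi_congr {G : Type*} [Group G] [Fintype G] {M : Ideal Cfsg.AlgInt} (hMp : M.IsPrime)
    (H : Subgroup G) [Fintype H] (b : Set (Cfsg.IrrCharacter H))
    (B₀ : Set (Cfsg.IrrCharacter G)) (hind : Cfsg.IsInducedBlock M H b B₀)
    (β : G → ℂ) (hβ : ∀ g h : G, β (h * g * h⁻¹) = β g) (hβR : ∀ g, Cfsg.MemLocalRing M (β g))
    (ψ : Cfsg.IrrCharacter H) (hψ : ψ ∈ b) (χ' : Cfsg.IrrCharacter G) (hχ' : χ' ∈ B₀) :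
    Cfsg.MemLocalIdeal M (bm_omega β (Cfsg.indFun H (ψ : H → ℂ)) - bm_omega β (χ' : G → ℂ)) := by
  classical
  haveI : Fintype (ConjClasses G) := Fintype.ofFinite _
  rw [hi_omega_expand β hβ _ (fun g h => h7_indFun_conj H _ g h), bm_omega_expand β hβ χ',
    ← Finset.sum_sub_distrib]
  apply h7_memLocalIdeal_sum hMp
  intro K _
  rw [← mul_sub, ← Cfsg.Agent.S0932.induced_eq]
  exact h7_memLocalIdeal_mul_left hMp (hβR _) (hind.2.2 ψ hψ χ' hχ' _)

theorem hi_main {G : Type*} [Group G] [Fintype G] (p : ℕ) [Fact p.Prime] (M : Ideal Cfsg.AlgInt) (hM : Cfsg.IsPModular p M) (H : Subgroup G) [Fintype H] (b : Set (Cfsg.IrrCharacter H)) (B₀ : Set (Cfsg.IrrCharacter G)) (hind : Cfsg.IsInducedBlock M H b B₀) (χ : Cfsg.IrrCharacter G) (ψ : Cfsg.IrrCharacter H) (hψ : ψ ∈ b) : (χ ∉ B₀ → Cfsg.MemLocalIdeal M (Cfsg.classInner (fun h : H => if p ∣ orderOf h then (0 : ℂ) else ((p ^ (Nat.card H).factorization p : ℕ) : ℂ) * (χ : G → ℂ) h) (ψ : H → ℂ) / (ψ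 : H → ℂ) 1)) ∧ (χ ∈ B₀ → Cfsg.blockHeight p B₀ (χ : G → ℂ) = 0 → ¬ Cfsg.MemLocalIdeal M (Cfsg.classInner (fun h : H => if p ∣ orderOf h then (0 : ℂ) else ((p ^ (Nat.card H).factorization p : ℕ) : ℂ) * (χ : G → ℂ) h) (ψ : H → ℂ) / (ψ : H → ℂ) 1)) := by
  classical
  haveI : Fintype (Cfsg.IrrCharacter G) := Fintype.ofFinite _
  have hp : Fact p.Prime := inferInstance
  have hMp := hM.2.1.isPrime
  have hE : Cfsg.classInner (fun h : H => if p ∣ orderOf h then (0 : ℂ) else ((p ^ (Nat.card H).factorization p : ℕ) : ℂ) * (χ : G → ℂ) h) (ψ : H → ℂ) / (ψ : H → ℂ) 1 =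
      hz_r p (fun h : H => (χ : G → ℂ) (h : G)) (ψ : H → ℂ) := rfl
  rw [hE, hi_key]
  obtain ⟨χ₀, hB₀⟩ := hind.2.1
  set β := hz_beta p (χ : G → ℂ) with hβdef
  have hβ := hz_beta_conj p χ
  have hβR := hz_beta_mem p hM χ
  obtain ⟨_, hndG⟩ := hz_card_split (G := G) p
  obtain ⟨_, hndH⟩ := hz_card_split (G := H) p
  set mG := Nat.card G / p ^ (Nat.card G).factorization p with hmG
  set mH := Nat.card H / p ^ (Nat.card H).factorization p with hmH
  have hcopG : mG.Coprime p := (Nat.Coprime.symm ((Nat.Prime.coprime_iff_not_dvd hp.out).mpr hndG))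
  have hcopH : mH.Coprime p := (Nat.Coprime.symm ((Nat.Prime.coprime_iff_not_dvd hp.out).mpr hndH))
  have hmG0 : (mG : ℂ) ≠ 0 := by
    intro h
    have : mG = 0 := by exact_mod_cast h
    rw [this] at hndG
    exact hndG (dvd_zero _)
  have hmH0 : (mH : ℂ) ≠ 0 := by
    intro h
    have : mH = 0 := by exact_mod_cast h
    rw [this] at hndH
    exact hndH (dvd_zero _)
  have huR : Cfsg.MemLocalRing M ((mG : ℂ) * ((mH : ℂ))⁻¹) :=
    h7_memLocalRing_mul hMp (h7_memLocalRing_natCast hMp mG) (h7_memLocalRing_inv_natCast hM mH hcopH)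
  have huR' : Cfsg.MemLocalRing M ((mH : ℂ) * ((mG : ℂ))⁻¹) :=
    h7_memLocalRing_mul hMp (h7_memLocalRing_natCast hMp mH) (h7_memLocalRing_inv_natCast hM mG hcopG)
  set X := bm_omega β (Cfsg.indFun H (ψ : H → ℂ)) with hX
  constructor
  · intro hχ
    have hχ₀ : χ₀ ∈ B₀ := by
      rw [hB₀]
      exact h7_sameBlock_refl hMp _
    have h1 := hi_congr hMp H b B₀ hind β hβ hβR ψ hψ χ₀ hχ₀
    have h2 : bm_omega β (χ₀ : G → ℂ) = 0 := by
      rw [hβdef, ← hz_r_eq_omega]
      unfold hz_r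
      rw [hz_tilde_eq, classInner_smul_left]
      rw [hB₀] at hχ hχ₀
      rw [cd_block_orth hM χ₀ χ hχ χ₀ hχ₀, mul_zero, zero_div]
    rw [h2, sub_zero] at h1
    exact h7_memLocalIdeal_mul_left hMp huR h1
  · intro hχ hht hmem
    have h1 := hi_congr hMp H b B₀ hind β hβ hβR ψ hψ χ hχ
    rw [hB₀] at hχ hht
    have h2 := (hz_iff p M hM χ₀ χ χ hχ hχ).mp hht
    apply h2
    rw [hz_r_eq_omega]
    have hXmem : Cfsg.MemLocalIdeal M X := by
      have e : X = ((mH : ℂ) * ((mG : ℂ))⁻¹) * ((mG : ℂ) * ((mH : ℂ))⁻¹ * X) := by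
        field_simp
      rw [e]
      exact h7_memLocalIdeal_mul_left hMp huR' hmem
    have e : bm_omega (hz_beta p (χ : G → ℂ)) (χ : G → ℂ) =
        X - (X - bm_omega β (χ : G → ℂ)) := by
      rw [hβdef]
      ring
    rw [e]
    exact h7_memLocalIdeal_sub hMp hXmem h1

end

end Cfsg.Agent.Lib.Helper25
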