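import Mathlib
import Cfsg.Prelude.Def_Blocks
import Cfsg.Prelude.Def_BlockRank
import Cfsg.Agent.Lib.helper7.BlockDefect2
import Cfsg.Agent.Lib.helper7.BlockInd2
import Cfsg.Agent.Lib.helper7.BlockCover
import Cfsg.Agent.Lib.helper7.Induction
import Cfsg.Agent.Lib.Helper25.BlockRankTrace
import Cfsg.Agent.Lib.Helper25.BlockOrthReg
import Cfsg.Agent.Lib.Helper25.CentralDefect
import Cfsg.Agent.Lib.Helper25.InducedBlockPart
import Cfsg.Agent.Lib.Helper25.CharOrth
import Cfsg.Agent.Lib.Helper25.CharBasic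
import Cfsg.Agent.Lib.Helper25.CharLinear
import Cfsg.Agent.Lib.Helper25.PrincipalDefect
import Cfsg.Agent.Lib.Helper25.HeightZeroCrit
import Cfsg.Agent.Lib.Helper25.HeightZeroInd

/-!
Brauer's Third Main Theorem: if b^G = B is defined then 1_G in B iff b is the principal block of H (tm_key), tm_main; from the inner product criterion hi_main applied to the trivial character.
-/

set_option autoImplicit false
set_option linter.style.haveILetI false
set_option linter.unusedVariables false
set_option warn.classDefReducibility false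
set_option maxHeartbeats 800000

namespace Cfsg.Agent.Lib.Helper25
open Cfsg.Agent.Lib.helper7
open Cfsg.Agent.Lib.helper2
open scoped ComplexConjugate
section

/-- the trivial character has height zero in any set of characters -/
theorem tm_height_triv {G : Type*} [Group G] (p : ℕ) (B : Set (Cfsg.IrrCharacter G)) :
    Cfsg.blockHeight p B ((trivIrr G : Cfsg.IrrCharacter G) : G → ℂ) = 0 := by
  unfold Cfsg.blockHeight
  have h1 : Cfsg.charDegree ((trivIrr G : Cfsg.IrrCharacter G) : G → ℂ) = 1 := by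
    unfold Cfsg.charDegree
    rw [trivIrr_apply]
    simp
  rw [h1]
  simp

/-- if `b^G = B` is defined, then `1_G ∈ B` iff `b` is the principal block of `H` -/
theorem tm_key {G : Type*} [Group G] [Fintype G] (p : ℕ) [hp : Fact p.Prime]
    (M : Ideal Cfsg.AlgInt) (hM : Cfsg.IsPModular p M) (H : Subgroup G) [Fintype H]
    (b : Set (Cfsg.IrrCharacter H)) (B : Set (Cfsg.IrrCharacter G))
    (hind : Cfsg.IsInducedBlock M H b B) :
    trivIrr G ∈ B ↔ b = Cfsg.principalBlock M H := by
  classical
  haveI : Fintype (Cfsg.IrrCharacter H) := Fintype.ofFinite _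
  have hMp := hM.2.1.isPrime
  obtain ⟨ψ₀, hb⟩ := hind.1
  have hψ₀ : ψ₀ ∈ b := by
    rw [hb]
    exact h7_sameBlock_refl hMp _
  have hE : ∀ ψ : Cfsg.IrrCharacter H,
      Cfsg.classInner (fun h : H => if p ∣ orderOf h then (0 : ℂ) else
        ((p ^ (Nat.card H).factorization p : ℕ) : ℂ) *
          ((trivIrr G : Cfsg.IrrCharacter G) : G → ℂ) h) (ψ : H → ℂ) / (ψ : H → ℂ) 1 =
      hz_r p ((trivIrr H : Cfsg.IrrCharacter H) : H → ℂ) (ψ : H → ℂ) := fun ψ => rfl
  constructor
  · intro h1
    have hψ₀' : ψ₀ ∈ Cfsg.blockOf M ((trivIrr H : Cfsg.IrrCharacter H) : H → ℂ) := by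
      by_contra hne
      have h2 := (hi_main p M hM H b B hind (trivIrr G) ψ₀ hψ₀).2 h1 (tm_height_triv p B)
      apply h2
      rw [hE]
      unfold hz_r
      rw [hz_tilde_eq, classInner_smul_left]
      have hne' : trivIrr H ∉ Cfsg.blockOf M (ψ₀ : H → ℂ) := fun h => hne (h7_sameBlock_symm h)
      rw [cd_block_orth hM ψ₀ (trivIrr H) hne' ψ₀ (h7_sameBlock_refl hMp _), mul_zero, zero_div]
      exact h7_memLocalIdeal_zero hMp
    rw [hb]
    exact (ib_blockOf_eq hMp ψ₀ (trivIrr H) hψ₀').symm
  · intro hbp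
    by_contra hne
    have h1H : trivIrr H ∈ b := by
      rw [hbp]
      exact h7_sameBlock_refl hMp _
    have h2 := (hi_main p M hM H b B hind (trivIrr G) (trivIrr H) h1H).1 hne
    rw [hE] at h2
    have h3 := (hz_iff p M hM (trivIrr H) (trivIrr H) (trivIrr H) (h7_sameBlock_refl hMp _)
      (h7_sameBlock_refl hMp _)).mp (tm_height_triv p _)
    exact h3 h2

theorem tm_main {G : Type*} [Group G] [Finite G] (p : ℕ) [Fact p.Prime] (M : Ideal Cfsg.AlgInt) (hM : Cfsg.IsPModular p M) (H : Subgroup G) (b : Set (Cfsg.IrrCharacter H)) (hdef : Cfsg.InducedBlockDefined M H b) : Cfsg.IsInducedBlock M H b (Cfsg.principalBlock M G) ↔ b = Cfsg.principalBlock M H := by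
  classical
  haveI : Fintype G := Fintype.ofFinite G
  haveI : Fintype H := Fintype.ofFinite H
  haveI : Fintype (Cfsg.IrrCharacter G) := Fintype.ofFinite _
  have hMp := hM.2.1.isPrime
  constructor
  · intro hind
    apply (tm_key p M hM H b _ hind).mp
    show trivIrr G ∈ Cfsg.blockOf M ((trivIrr G : Cfsg.IrrCharacter G) : G → ℂ)
    exact h7_sameBlock_refl hMp _
  · intro hbp
    obtain ⟨B, hB⟩ := hdef
    have h1 := (tm_key p M hM H b B hB).mpr hbp
    obtain ⟨χ', hχ'⟩ := hB.2.1
    rw [hχ'] at h1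
    have h2 : B = Cfsg.principalBlock M G := by
      rw [hχ']
      exact ib_blockOf_eq hMp (trivIrr G) χ' h1
    rw [← h2]
    exact hB

end

end Cfsg.Agent.Lib.Helper25
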