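import Mathlib
import Cfsg.Agent.Lib.helper7.BD.CharDefs
import Cfsg.Agent.Lib.helper8.Burnside
import Cfsg.Agent.S4709
import Cfsg.Agent.Lib.Helper25.CharAbelian
import Cfsg.Agent.Lib.Helper25.CharLinear
import Cfsg.Agent.Lib.Helper25.CharBasic
import Cfsg.Agent.Lib.helper2.CharNat

set_option autoImplicit false
set_option linter.unusedVariables false
set_option linter.unusedSectionVars false
set_option linter.style.haveILetI false

/-! Project BD (S0960 / S4441), piece CASEMID: the case `1 < e < p - 1`, from S4709. -/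

namespace Cfsg.Agent.Lib.helper7.BD

universe u

section cases
variable {G : Type u} [Group G] [Fintype G]

/-- `N/C` is cyclic: `N = C ⟨g⟩` -/
theorem bdcasemid_hcyc (p : ℕ) [Fact p.Prime] (P : Sylow p G) (hP : Nat.card P = p) :
    ∃ g : G, g ∈ Subgroup.normalizer ((P : Subgroup G) : Set G) ∧
      Subgroup.centralizer ((P : Subgroup G) : Set G) ⊔ Subgroup.zpowers g =
        Subgroup.normalizer ((P : Subgroup G) : Set G) := by
  classical
  set H : Subgroup G := (P : Subgroup G) with hH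
  haveI : IsCyclic H := isCyclic_of_prime_card hP
  haveI : Fact (Nat.card H).Prime := by rw [hP]; infer_instance
  haveI : IsCyclic (MulAut H) :=
    isCyclic_of_surjective (IsCyclic.mulAutMulEquiv H).symm (IsCyclic.mulAutMulEquiv H).symm.surjective
  set φ := H.normalizerMonoidHom with hφ
  haveI : IsCyclic φ.range := Subgroup.isCyclic _
  obtain ⟨α, hα⟩ := IsCyclic.exists_generator (α := φ.range)
  obtain ⟨g₀, hg₀⟩ := α.2
  refine ⟨(g₀ : G), g₀.2, le_antisymm ?_ ?_⟩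
  · refine sup_le (Subgroup.centralizer_le_normalizer _) ?_
    rw [Subgroup.zpowers_le]
    exact g₀.2
  · intro n hn
    have h1 : (⟨φ ⟨n, hn⟩, ⟨⟨n, hn⟩, rfl⟩⟩ : φ.range) ∈ Subgroup.zpowers α := hα _
    obtain ⟨k, hk⟩ := Subgroup.mem_zpowers_iff.1 h1
    have hk' : φ (g₀ ^ k) = φ ⟨n, hn⟩ := by
      have := congrArg Subtype.val hk
      rw [Subgroup.coe_zpow, ← hg₀, ← map_zpow] at this
      exact this
    have h2 : (⟨n, hn⟩ : Subgroup.normalizer (H : Set G)) * (g₀ ^ k)⁻¹ ∈ φ.ker := by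
      rw [MonoidHom.mem_ker, map_mul, map_inv, hk', mul_inv_cancel]
    rw [hφ, Subgroup.normalizerMonoidHom_ker, Subgroup.mem_subgroupOf] at h2
    have h3 : n = (n * ((g₀ : G) ^ k)⁻¹) * (g₀ : G) ^ k := by group
    rw [h3]
    refine Subgroup.mul_mem_sup ?_ (Subgroup.zpow_mem_zpowers _ k)
    simpa using h2

/-- the centraliser of a nontrivial element of `P` is the centraliser of `P` -/
theorem bdcasemid_hfrob (p : ℕ) [Fact p.Prime] (P : Sylow p G) (hP : Nat.card P = p) :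
    ∀ y : G, y ∈ (P : Subgroup G) → y ≠ 1 →
      Subgroup.centralizer ({y} : Set G) ⊓ Subgroup.normalizer ((P : Subgroup G) : Set G) =
        Subgroup.centralizer ((P : Subgroup G) : Set G) := by
  intro y hy hy1
  have htop : Subgroup.zpowers (⟨y, hy⟩ : ↥(P : Subgroup G)) = ⊤ :=
    zpowers_eq_top_of_prime_card hP (by
      intro h
      exact hy1 (congrArg Subtype.val h))
  apply le_antisymm
  · intro g hg
    rw [Subgroup.mem_inf, Subgroup.mem_centralizer_iff] at hg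
    rw [Subgroup.mem_centralizer_iff]
    intro h hh
    have hh' : (⟨h, hh⟩ : ↥(P : Subgroup G)) ∈ Subgroup.zpowers (⟨y, hy⟩ : ↥(P : Subgroup G)) := by
      rw [htop]; trivial
    obtain ⟨k, hk⟩ := Subgroup.mem_zpowers_iff.1 hh'
    have hyk : h = y ^ k := by
      have := congrArg Subtype.val hk
      simpa using this.symm
    rw [hyk]
    have hc : Commute y g := hg.1 y rfl
    exact (hc.zpow_left k).eq
  · intro g hg
    rw [Subgroup.mem_inf]
    refine ⟨?_, Subgroup.centralizer_le_normalizer _ hg⟩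
    rw [Subgroup.mem_centralizer_iff] at hg ⊢
    intro h hh
    rw [Set.mem_singleton_iff] at hh
    rw [hh]
    exact hg y hy

open Cfsg.Agent.Lib.Helper25 in
/-- if `χ` is constant `= a` on `P \ 1` (`|P| = p`) then `χ(1) + (p - 1) a = p m` -/
theorem bdcasemid_sum (p : ℕ) [Fact p.Prime] (P : Sylow p G) (hP : Nat.card P = p)
    (χ : Cfsg.IrrCharacter G) (a : ℤ)
    (ha : ∀ y : G, y ∈ (P : Subgroup G) → y ≠ 1 → (χ : G → ℂ) y = (a : ℂ)) :
    ∃ m : ℕ, (Cfsg.charDegree (χ : G → ℂ) : ℤ) + ((p : ℤ) - 1) * a = (p : ℤ) * (m : ℤ) := by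
  classical
  set H : Subgroup G := (P : Subgroup G) with hH
  obtain ⟨m, hm⟩ := Cfsg.Agent.Lib.helper2.classInner_character_nat
    (Cfsg.Agent.Lib.helper2.isCharacter_restrict (Cfsg.Agent.Lib.helper2.isCharacter_of_irr χ) H)
    (Cfsg.Agent.Lib.helper2.isCharacter_of_irr (trivIrr ↥H))
  refine ⟨m, ?_⟩
  unfold Cfsg.classInner at hm
  have hsum : ∑ g : ↥H, (χ : G → ℂ) g * (starRingEnd ℂ) ((trivIrr ↥H : ↥H → ℂ) g) =
      (Cfsg.charDegree (χ : G → ℂ) : ℂ) + ((p : ℂ) - 1) * (a : ℂ) := by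
    rw [← Finset.add_sum_erase Finset.univ _ (Finset.mem_univ (1 : ↥H))]
    congr 1
    · rw [trivIrr_apply, map_one, mul_one, Subgroup.coe_one, (charDegree_irr χ).1]
    · have h1 : ∀ g ∈ Finset.univ.erase (1 : ↥H),
          (χ : G → ℂ) g * (starRingEnd ℂ) ((trivIrr ↥H : ↥H → ℂ) g) = (a : ℂ) := by
        intro g hg
        rw [trivIrr_apply, map_one, mul_one]
        apply ha g g.2
        intro h
        exact (Finset.mem_erase.1 hg).1 (Subtype.ext h)
      rw [Finset.sum_congr rfl h1, Finset.sum_const, Finset.card_erase_of_mem (Finset.mem_univ _),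
        Finset.card_univ, ← Nat.card_eq_fintype_card, hP, nsmul_eq_mul,
        Nat.cast_sub (Fact.out : p.Prime).one_le, Nat.cast_one]
  rw [hsum, hP] at hm
  have hp0 : (p : ℂ) ≠ 0 := by exact_mod_cast (Fact.out : p.Prime).ne_zero
  have h2 : (Cfsg.charDegree (χ : G → ℂ) : ℂ) + ((p : ℂ) - 1) * (a : ℂ) = (p : ℂ) * (m : ℂ) := by
    rw [← hm]
    field_simp
  exact_mod_cast h2

/-- integer arithmetic of the case analysis -/
theorem bdcasemid_arith (d δ R S E : ℤ) (hδ : δ = 1 ∨ δ = -1) (hR : 2 ≤ R) (hS : E ≤ S)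
    (h : (d - δ) ^ 2 + (R - 1) * d ^ 2 + S = E + 1) :
    S = E ∧ (d = 0 ∨ (d = δ ∧ R = 2)) := by
  have hδ2 : δ ^ 2 = 1 := by rcases hδ with h | h <;> rw [h] <;> norm_num
  by_cases hd : d = 0
  · subst hd
    refine ⟨?_, Or.inl rfl⟩
    have : (0 - δ) ^ 2 = 1 := by rw [zero_sub, neg_sq, hδ2]
    rw [this] at h
    linarith
  · have hd2 : 1 ≤ d ^ 2 := by
      have : 0 < d ^ 2 := by positivity
      linarith
    have h1 : d ^ 2 ≤ (R - 1) * d ^ 2 := by nlinarith
    have h2 : (d - δ) ^ 2 ≤ 0 := by nlinarith [sq_nonneg (d - δ)]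
    have h3 : d - δ = 0 := by
      have := le_antisymm h2 (sq_nonneg _)
      exact pow_eq_zero_iff (by norm_num) |>.1 this
    have hdδ : d = δ := by linarith
    have hd1 : d ^ 2 = 1 := by rw [hdδ, hδ2]
    rw [h3, hd1] at h
    have hR2 : R = 2 := by
      have : (R - 1) * 1 ≤ 1 := by nlinarith
      linarith
    refine ⟨?_, Or.inr ⟨hdδ, hR2⟩⟩
    rw [hR2] at h
    linarith

/-- a sum of `n` squares of nonzero integers equal to `n` consists of ones -/
theorem bdcasemid_sq_one {ι : Type*} (T : Finset ι) (a : ι → ℤ) (ha : ∀ i ∈ T, a i ≠ 0)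
    (hsum : ∑ i ∈ T, a i ^ 2 = (T.card : ℤ)) : ∀ i ∈ T, a i = 1 ∨ a i = -1 := by
  have h1 : ∑ i ∈ T, (a i ^ 2 - 1) = 0 := by
    rw [Finset.sum_sub_distrib, hsum]
    simp
  have h2 : ∀ i ∈ T, 0 ≤ a i ^ 2 - 1 := by
    intro i hi
    have : 0 < a i ^ 2 := by
      have := ha i hi
      positivity
    linarith
  have h3 := (Finset.sum_eq_zero_iff_of_nonneg h2).1 h1
  intro i hi
  have h4 := h3 i hi
  have h5 : (a i - 1) * (a i + 1) = 0 := by ring_nf; linarith
  rcases mul_eq_zero.1 h5 with h | h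
  · left; linarith
  · right; linarith

theorem bdcasemid_sq_ge {ι : Type*} (T : Finset ι) (a : ι → ℤ) (ha : ∀ i ∈ T, a i ≠ 0) :
    (T.card : ℤ) ≤ ∑ i ∈ T, a i ^ 2 := by
  have h2 : ∀ i ∈ T, (1 : ℤ) ≤ a i ^ 2 := by
    intro i hi
    have : 0 < a i ^ 2 := by
      have := ha i hi
      positivity
    linarith
  have := Finset.sum_le_sum h2
  simpa using this

/-- CASEMID : `1 < e < p - 1`, from S4709 -/
theorem concl_of_mid (p : ℕ) [Fact p.Prime] (M : Ideal Cfsg.AlgInt) (hM : Cfsg.IsPModular p M)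
    (hodd : p ≠ 2) (P : Sylow p G) (hP : Nat.card P = p) (e : ℕ)
    (he : (Subgroup.centralizer ((P : Subgroup G) : Set G)).relIndex
      (Subgroup.normalizer ((P : Subgroup G) : Set G)) = e) (h1 : 1 < e) (h2 : e + 1 < p)
    (hk : e + (p - 1) / e ≤ Nat.card (Cfsg.principalBlock M G)) : Concl4441 p M P e := by
  classical
  have hpp := (Fact.out : p.Prime)
  have hab : IsMulCommutative ↥(P : Subgroup G) := by
    haveI : IsCyclic ↥(P : Subgroup G) := isCyclic_of_prime_card hP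
    exact IsCyclic.isMulCommutative
  obtain ⟨s, X, Y, hs, hB, hdisj, hX, hY, htriv, a, d, δ, ζ, hδ, hXa, hζY, hζsurj, hζconj, hζval,
      hsq, hYagree, hrel⟩ :=
    Cfsg.Agent.S4709.result p M hM P hab (by rw [hP]; exact hpp.one_lt.ne') e h1
      (by rw [hP]; exact h2) he (bdcasemid_hcyc p P hP) (bdcasemid_hfrob p P hP)
  rw [hP] at hY hsq hrel
  set r := (p - 1) / e with hr
  have hXfin : X.Finite := Set.toFinite X
  have hYfin : Y.Finite := Set.toFinite Y
  -- `s = e`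
  have hcardB : Nat.card (Cfsg.principalBlock M G) = s + r := by
    rw [hB, Nat.card_coe_set_eq, Set.ncard_union_eq hdisj hXfin hYfin, ← Nat.card_coe_set_eq,
      ← Nat.card_coe_set_eq, hX, hY]
  have hse : s = e := by omega
  subst hse
  -- arithmetic of `r`
  have hdvd : s ∣ p - 1 := by
    rw [← he]
    exact Cfsg.Agent.Lib.helper8.h8_relIndex_centralizer_normalizer_dvd_prime p hpp (P : Subgroup G) hP
  have hsr : s * r = p - 1 := Nat.mul_div_cancel' hdvd
  have hr2 : 2 ≤ r := by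
    by_contra hcon
    push Not at hcon
    interval_cases r <;> omega
  have hdivZ : ((p : ℤ) - 1) / (s : ℤ) = (r : ℤ) := by
    rw [hr, Int.natCast_div, Nat.cast_sub hpp.one_le, Nat.cast_one]
  rw [hdivZ] at hsq
  -- the sum of squares
  set T := hXfin.toFinset with hT
  have hTcard : T.card = s := by
    rw [← hX, Nat.card_coe_set_eq, Set.ncard_eq_toFinset_card X hXfin]
  have hTmem : ∀ χ, χ ∈ T ↔ χ ∈ X := fun χ => Set.Finite.mem_toFinset hXfin
  rw [finsum_mem_eq_finite_toFinset_sum _ hXfin] at hsq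
  have hane : ∀ χ ∈ T, a χ ≠ 0 := fun χ hχ => (hXa χ ((hTmem χ).1 hχ)).1
  have hge := bdcasemid_sq_ge T a hane
  rw [hTcard] at hge
  obtain ⟨hS, hcase⟩ := bdcasemid_arith d δ (r : ℤ) (∑ χ ∈ T, a χ ^ 2) (s : ℤ) hδ
    (by exact_mod_cast hr2) hge hsq
  have hapm : ∀ χ ∈ X, a χ = 1 ∨ a χ = -1 := by
    intro χ hχ
    exact bdcasemid_sq_one T a hane (by rw [hS, hTcard]) χ ((hTmem χ).2 hχ)
  -- values on `P \ 1`
  have hval : ∀ χ ∈ X, ∀ y : G, y ∈ (P : Subgroup G) → y ≠ 1 → (χ : G → ℂ) y = (a χ : ℂ) := by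
    intro χ hχ y hy hy1
    refine (hXa χ hχ).2 y y ⟨1, mul_one y, Commute.one_right y, ⟨1, ?_⟩, ?_⟩ hy hy1
    · rw [pow_one]
      have h3 : orderOf (⟨y, hy⟩ : ↥(P : Subgroup G)) = p :=
        orderOf_eq_prime (by
          have := pow_card_eq_one' (G := ↥(P : Subgroup G)) (x := ⟨y, hy⟩)
          rwa [hP] at this) (by
          intro h
          exact hy1 (congrArg Subtype.val h))
      rw [← h3, ← Subgroup.orderOf_coe]
    · rw [orderOf_one]
      exact hpp.not_dvd_one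
  -- degrees of the members of `X`
  have hdegX : ∀ χ ∈ X, (Cfsg.charDegree (χ : G → ℂ) : ℤ) ≡ a χ [ZMOD p] := by
    intro χ hχ
    obtain ⟨m, hm⟩ := bdcasemid_sum p P hP χ (a χ) (hval χ hχ)
    rw [Int.modEq_iff_dvd]
    refine ⟨a χ - (m : ℤ), ?_⟩
    linear_combination (-1 : ℤ) * hm
  -- the sign
  set ε : ℤ := if d = 0 then δ else -δ with hε
  have hεpm : ε = 1 ∨ ε = -1 := by
    rw [hε]
    split_ifs
    · exact hδ
    · rcases hδ with h | h
      · right; rw [h]
      · left; rw [h]; norm_num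
  -- the relation
  have hrelε : ∀ θ ∈ Y, ∀ g : G, ¬ p ∣ orderOf g →
      (ε : ℂ) * (θ : G → ℂ) g = ∑ᶠ χ ∈ X, (a χ : ℂ) * (χ : G → ℂ) g := by
    intro θ hθ g hg
    have h3 := hrel θ hθ g hg
    rcases hcase with hd0 | ⟨hdδ, hR2⟩
    · rw [hε, if_pos hd0]
      rw [hd0] at h3
      push_cast at h3
      linear_combination (-1 : ℂ) * h3
    · have hd0 : d ≠ 0 := by
        rw [hdδ]
        rcases hδ with h | h <;> rw [h] <;> norm_num
      rw [hε, if_neg hd0]
      have hr2' : r = 2 := by exact_mod_cast hR2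
      rw [hr2', hdδ] at h3
      push_cast at h3 ⊢
      linear_combination (-1 : ℂ) * h3
  refine ⟨X, Y, hB, hdisj, hX, hY, a, ε, ?_, hεpm, ?_, hYagree, hrelε⟩
  · intro χ hχ
    refine ⟨hapm χ hχ, hdegX χ hχ, ?_⟩
    intro x hx hx1 y hy hyp
    refine (hXa χ hχ).2 (x * y) x ⟨y, rfl, ?_, ⟨1, ?_⟩, hyp⟩ hx hx1
    · rw [Subgroup.mem_centralizer_iff] at hy
      exact hy x hx
    · rw [pow_one]
      have h3 : orderOf (⟨x, hx⟩ : ↥(P : Subgroup G)) = p :=
        orderOf_eq_prime (by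
          have := pow_card_eq_one' (G := ↥(P : Subgroup G)) (x := ⟨x, hx⟩)
          rwa [hP] at this) (by
          intro h
          exact hx1 (congrArg Subtype.val h))
      rw [← h3, ← Subgroup.orderOf_coe]
  · -- degrees of the members of `Y`
    intro θ hθ
    have h3 := hrelε θ hθ 1 (by rw [orderOf_one]; exact hpp.not_dvd_one)
    rw [finsum_mem_eq_finite_toFinset_sum _ hXfin, ← (Cfsg.Agent.Lib.Helper25.charDegree_irr θ).1] at h3
    have h4 : ∑ χ ∈ T, (a χ : ℂ) * (χ : G → ℂ) 1 =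
        ((∑ χ ∈ T, a χ * (Cfsg.charDegree (χ : G → ℂ) : ℤ) : ℤ) : ℂ) := by
      push_cast
      refine Finset.sum_congr rfl fun χ _ => ?_
      rw [← (Cfsg.Agent.Lib.Helper25.charDegree_irr χ).1]
    rw [h4] at h3
    have h5 : ε * (Cfsg.charDegree (θ : G → ℂ) : ℤ) =
        ∑ χ ∈ T, a χ * (Cfsg.charDegree (χ : G → ℂ) : ℤ) := by exact_mod_cast h3
    have h6 : (∑ χ ∈ T, a χ * (Cfsg.charDegree (χ : G → ℂ) : ℤ)) ≡ (s : ℤ) [ZMOD p] := by
      have h7 : (∑ χ ∈ T, a χ * (Cfsg.charDegree (χ : G → ℂ) : ℤ)) ≡ ∑ χ ∈ T, a χ ^ 2 [ZMOD p] := by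
        apply Int.ModEq.sum
        intro χ hχ
        rw [pow_two]
        exact Int.ModEq.mul_left _ (hdegX χ ((hTmem χ).1 hχ))
      rw [hS] at h7
      exact h7
    rw [← h5] at h6
    have hε2 : ε * ε = 1 := by rcases hεpm with h | h <;> rw [h] <;> norm_num
    have h8 := Int.ModEq.mul_left ε h6
    rw [← mul_assoc, hε2, one_mul] at h8
    exact h8

end cases
end Cfsg.Agent.Lib.helper7.BD
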