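import Mathlib
import Cfsg.Agent.Lib.Helper25.BrauerPairBlock
import Cfsg.Agent.Lib.Helper25.ThirdMain
import Cfsg.Agent.Lib.Helper25.InducedBlockPart

/-!
Brauer pairs and induced blocks: for H = C_G(P) the induced central character equals the Brauer central character (tp_icc_eq_bcc); a block of C_G(P) induces the block of G given by the Brauer homomorphism (tp_induced_centralizer); if (P,e) is a B-Brauer pair then e^G = B as induced block from C_G(P) (tp_pair_induced); Third Main Theorem in Brauer pair form (tp_main).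
-/

set_option autoImplicit false
set_option linter.style.haveILetI false
set_option linter.unusedVariables false
set_option warn.classDefReducibility false
set_option maxHeartbeats 800000

namespace Cfsg.Agent.Lib.Helper25
open Cfsg.Agent.Lib.helper7
open Cfsg.Agent.Lib.helper2
open scoped ComplexConjugate
section

/-- for `H = C_G(P)` the induced central character is the Brauer central character -/
theorem tp_icc_eq_bcc {G : Type*} [Group G] (P : Subgroup G)
    (ξ : Subgroup.centralizer (P : Set G) → ℂ) (g : G) :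
    Cfsg.inducedCentralChar (Subgroup.centralizer (P : Set G)) ξ g =
      Cfsg.brauerCentralChar P (Subgroup.centralizer (P : Set G)) ξ g := by
  unfold Cfsg.inducedCentralChar Cfsg.brauerCentralChar
  have : {h : Subgroup.centralizer (P : Set G) | IsConj g (h : G)} =
      {h : Subgroup.centralizer (P : Set G) | IsConj g (h : G) ∧
        (h : G) ∈ Subgroup.centralizer (P : Set G)} := by
    ext h
    simp only [Set.mem_ofPred_eq]
    exact ⟨fun hh => ⟨hh, h.2⟩, fun hh => hh.1⟩
  rw [this]

/-- the block of `C_G(P)` containing `ξ₀` induces the block of `G` determined by the Brauer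
homomorphism -/
theorem tp_induced_centralizer {G : Type*} [Group G] [Fintype G] [Fintype (Cfsg.IrrCharacter G)]
    {p : ℕ} [hp : Fact p.Prime] {M : Ideal Cfsg.AlgInt}
    (hM : Cfsg.IsPModular p M) (P : Subgroup G) (hP : IsPGroup p P)
    [Fintype (Subgroup.centralizer (P : Set G))]
    [Fintype (Cfsg.IrrCharacter (Subgroup.centralizer (P : Set G)))]
    (ξ₀ : Cfsg.IrrCharacter (Subgroup.centralizer (P : Set G)))
    (χ₀ : Cfsg.IrrCharacter G)
    (hχ₀ : ∀ c ∈ h7_intSubring (G := G) M hM.2.1.isPrime,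
      Cfsg.MemLocalIdeal M (h7_brEval P (Subgroup.centralizer (P : Set G))
        (ξ₀ : Subgroup.centralizer (P : Set G) → ℂ) c - c χ₀)) :
    Cfsg.IsInducedBlock M (Subgroup.centralizer (P : Set G))
      (Cfsg.blockOf M (ξ₀ : Subgroup.centralizer (P : Set G) → ℂ))
      (Cfsg.blockOf M (χ₀ : G → ℂ)) := by
  have hPr := hM.2.1.isPrime
  refine ⟨⟨ξ₀, rfl⟩, ⟨χ₀, rfl⟩, ?_⟩
  intro ξ hξ χ hχ g
  have h1 := h7_icc_congr' (Subgroup.centralizer (P : Set G)) hPr ξ₀ ξ hξ g
  have h3 := hχ₀ _ (h7_centralChar_mem hPr g)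
  rw [h7_brEval_centralChar, ← tp_icc_eq_bcc] at h3
  have h4 : Cfsg.MemLocalIdeal M (Cfsg.centralChar (χ₀ : G → ℂ) g -
      Cfsg.centralChar (χ : G → ℂ) g) := hχ g
  have e : Cfsg.inducedCentralChar (Subgroup.centralizer (P : Set G))
        (ξ : Subgroup.centralizer (P : Set G) → ℂ) g - Cfsg.centralChar (χ : G → ℂ) g =
      -(Cfsg.inducedCentralChar (Subgroup.centralizer (P : Set G))
          (ξ₀ : Subgroup.centralizer (P : Set G) → ℂ) g -
        Cfsg.inducedCentralChar (Subgroup.centralizer (P : Set G))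
          (ξ : Subgroup.centralizer (P : Set G) → ℂ) g) +
      (Cfsg.inducedCentralChar (Subgroup.centralizer (P : Set G))
          (ξ₀ : Subgroup.centralizer (P : Set G) → ℂ) g - Cfsg.centralChar (χ₀ : G → ℂ) g) +
      (Cfsg.centralChar (χ₀ : G → ℂ) g - Cfsg.centralChar (χ : G → ℂ) g) := by ring
  rw [e]
  exact h7_memLocalIdeal_add hPr (h7_memLocalIdeal_add hPr (h7_memLocalIdeal_neg h1) h3) h4

/-- a Brauer pair `(P, e)` of the block `B`: the block `e` of `C_G(P)` induces `B` -/
theorem tp_pair_induced {G : Type*} [Group G] [Fintype G] (p : ℕ) [hp : Fact p.Prime]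
    (M : Ideal Cfsg.AlgInt) (hM : Cfsg.IsPModular p M) (P : Subgroup G)
    (B : Set (Cfsg.IrrCharacter G))
    (e : Set (Cfsg.IrrCharacter (Subgroup.centralizer (P : Set G))))
    (h : Cfsg.IsBrauerPairOf p M B P e) :
    Cfsg.IsInducedBlock M (Subgroup.centralizer (P : Set G)) e B := by
  classical
  haveI : Fintype (Cfsg.IrrCharacter G) := Fintype.ofFinite _
  haveI : Fintype (Subgroup.centralizer (P : Set G)) := Fintype.ofFinite _
  haveI : Fintype (Cfsg.IrrCharacter (Subgroup.centralizer (P : Set G))) := Fintype.ofFinite _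
  have hMp := hM.2.1.isPrime
  obtain ⟨⟨hP, ξ₀, he⟩, ⟨χ', hB⟩, hpair⟩ := h
  have hCN : Subgroup.centralizer (P : Set G) ≤ Subgroup.normalizer (P : Set G) :=
    Subgroup.centralizer_le_normalizer (P : Set G)
  obtain ⟨χ₀, hχ₀⟩ := h7_brauer_hom_block P (Subgroup.centralizer (P : Set G)) hM hP le_rfl hCN ξ₀
  have hind := tp_induced_centralizer hM P hP ξ₀ χ₀ hχ₀
  have hξ₀ : ξ₀ ∈ e := by
    rw [he]
    exact h7_sameBlock_refl hMp _
  have h1 := hχ₀ _ (h7_block_indicator_mem hMp χ')
  have h2 := hpair ξ₀ hξ₀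
  rw [hB, br_omega_eq_eval] at h2
  have hmem : χ₀ ∈ Cfsg.blockOf M (χ' : G → ℂ) := by
    by_contra hne
    rw [if_neg hne, sub_zero] at h1
    apply h7_not_memLocalIdeal_one hMp
    have := h7_memLocalIdeal_sub hMp h1 h2
    simpa using this
  rw [he, hB, ib_blockOf_eq hMp χ₀ χ' hmem]
  exact hind

/-- Brauer's Third Main Theorem in Brauer pair form -/
theorem tp_main {G : Type*} [Group G] [Fintype G] (p : ℕ) [Fact p.Prime] (M : Ideal Cfsg.AlgInt) (hM : Cfsg.IsPModular p M) (Q : Subgroup G) (hQ : IsPGroup p Q) (e : Set (Cfsg.IrrCharacter (Subgroup.centralizer (Q : Set G)))) (he : Cfsg.IsPBlock M e) : Cfsg.IsBrauerPairOf p M (Cfsg.principalBlock M G) Q e ↔ e = Cfsg.principalBlock M (Subgroup.centralizer (Q : Set G)) := by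
  constructor
  · intro h
    have hind := tp_pair_induced p M hM Q _ e h
    exact (tm_main p M hM _ e ⟨_, hind⟩).mp hind
  · intro h
    rw [h]
    exact bm_principal_pair p M hM Q hQ

end

end Cfsg.Agent.Lib.Helper25
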