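import Mathlib
import Cfsg.Prelude.Def_Blocks
import Cfsg.Prelude.Def_BlockRank
import Cfsg.Agent.Lib.helper7.BlockDefect2
import Cfsg.Agent.Lib.helper7.BlockInd2
import Cfsg.Agent.Lib.helper7.BlockCover
import Cfsg.Agent.Lib.helper2.CharInt
import Cfsg.Agent.Lib.helper2.CharNat
import Cfsg.Agent.Lib.Helper25.BlockRankTrace
import Cfsg.Agent.Lib.Helper25.BlockOrthReg
import Cfsg.Agent.Lib.Helper25.CentralDefect
import Cfsg.Agent.Lib.Helper25.CartanRankOne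
import Cfsg.Agent.Lib.Helper25.InducedBlockPart
import Cfsg.Agent.Lib.Helper25.CharOrth
import Cfsg.Agent.Lib.Helper25.CharBasic
import Cfsg.Agent.Lib.Helper25.CharAbelian
import Cfsg.Agent.Lib.Helper25.HeightZeroCrit

/-!
The Brauer-Feit bound k(B) <= p^(2d)/4 + 1: bf_exists_height_zero, bf_parseval (Parseval for chi° restricted to the block), bf_integers (z_xi = p^d [chi°, xi] nonzero integers with sum of squares p^d z_chi when chi has height zero), bf_bound.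
-/

set_option autoImplicit false
set_option linter.style.haveILetI false
set_option linter.unusedVariables false
set_option warn.classDefReducibility false
set_option maxHeartbeats 800000

namespace Cfsg.Agent.Lib.Helper25
open Cfsg.Agent.Lib.helper7
open Cfsg.Agent.Lib.helper2
open scoped ComplexConjugate
section

/-- every block has a character of height zero -/
theorem bf_exists_height_zero {G : Type*} [Group G] (p : ℕ)
    (B : Set (Cfsg.IrrCharacter G)) (hB : B.Nonempty) :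
    ∃ χ ∈ B, Cfsg.blockHeight p B (χ : G → ℂ) = 0 := by
  set fG : Cfsg.IrrCharacter G → ℕ := fun ψ => (Cfsg.charDegree (ψ : G → ℂ)).factorization p
    with hfG
  have hne : (fG '' B).Nonempty := hB.image _
  obtain ⟨χ, hχ, hχν⟩ := Nat.sInf_mem hne
  refine ⟨χ, hχ, ?_⟩
  show fG χ - sInf (fG '' B) = 0
  omega

/-- Parseval for the `p`-regular part of a character in a block: only the block contributes -/
theorem bf_parseval {G : Type*} [Group G] [Fintype G] [Fintype (Cfsg.IrrCharacter G)]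
    (p : ℕ) [hp : Fact p.Prime] (M : Ideal Cfsg.AlgInt) (hM : Cfsg.IsPModular p M)
    (χ₀ : Cfsg.IrrCharacter G) [DecidablePred (· ∈ Cfsg.blockOf M (χ₀ : G → ℂ))]
    (χ : Cfsg.IrrCharacter G) (hχ : χ ∈ Cfsg.blockOf M (χ₀ : G → ℂ)) :
    Cfsg.classInner (Cfsg.pRegularPart p (χ : G → ℂ)) (χ : G → ℂ) =
      ∑ ξ ∈ Finset.univ.filter (· ∈ Cfsg.blockOf M (χ₀ : G → ℂ)),
        Cfsg.classInner (Cfsg.pRegularPart p (χ : G → ℂ)) (ξ : G → ℂ) *
          conj (Cfsg.classInner (Cfsg.pRegularPart p (χ : G → ℂ)) (ξ : G → ℂ)) := by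
  have hcl : ∀ g h : G, Cfsg.pRegularPart p (χ : G → ℂ) (h * g * h⁻¹) =
      Cfsg.pRegularPart p (χ : G → ℂ) g :=
    cd_pRegularPart_conj p _ (fun g h => irr_conj_invariant χ g h)
  have h1 := classInner_parseval _ hcl
  have h2 : Cfsg.classInner (Cfsg.pRegularPart p (χ : G → ℂ)) (Cfsg.pRegularPart p (χ : G → ℂ)) =
      Cfsg.classInner (Cfsg.pRegularPart p (χ : G → ℂ)) (χ : G → ℂ) := by
    unfold Cfsg.classInner
    congr 1
    refine Finset.sum_congr rfl fun g _ => ?_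
    by_cases hg : p ∣ orderOf g
    · rw [br_pRegularPart_sing p _ g hg, zero_mul, zero_mul]
    · rw [br_pRegularPart_reg p _ g hg]
  rw [← h2, h1, Finset.sum_filter]
  refine Finset.sum_congr rfl fun ξ _ => ?_
  split_ifs with hξ
  · rfl
  · have h3 : Cfsg.classInner (Cfsg.pRegularPart p (χ : G → ℂ)) (ξ : G → ℂ) = 0 := by
      rw [cd_inner_reg_symm, cd_block_orth hM χ₀ ξ hξ χ hχ, map_zero]
    rw [h3, zero_mul]

end

section

/-- the integers `z_ξ = p^d [χ°, ξ]` for `χ` of height zero: nonzero, with `Σ z_ξ² = p^d z_χ` -/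
theorem bf_integers {G : Type*} [Group G] [Fintype G] [Fintype (Cfsg.IrrCharacter G)]
    (p : ℕ) [hp : Fact p.Prime] (M : Ideal Cfsg.AlgInt) (hM : Cfsg.IsPModular p M)
    (χ₀ : Cfsg.IrrCharacter G) [DecidablePred (· ∈ Cfsg.blockOf M (χ₀ : G → ℂ))]
    (χ : Cfsg.IrrCharacter G) (hχ : χ ∈ Cfsg.blockOf M (χ₀ : G → ℂ))
    (hht : Cfsg.blockHeight p (Cfsg.blockOf M (χ₀ : G → ℂ)) (χ : G → ℂ) = 0) :
    ∃ z : Cfsg.IrrCharacter G → ℤ, (∀ ξ ∈ Cfsg.blockOf M (χ₀ : G → ℂ), z ξ ≠ 0) ∧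
      ∑ ξ ∈ Finset.univ.filter (· ∈ Cfsg.blockOf M (χ₀ : G → ℂ)), (z ξ) ^ 2 =
        (p : ℤ) ^ Cfsg.blockDefect p (Cfsg.blockOf M (χ₀ : G → ℂ)) * z χ := by
  set d := Cfsg.blockDefect p (Cfsg.blockOf M (χ₀ : G → ℂ)) with hd
  have hp0 : ((p : ℂ) ^ d) ≠ 0 := pow_ne_zero _ (by exact_mod_cast hp.out.ne_zero)
  have hex : ∀ ξ : Cfsg.IrrCharacter G, ∃ z : ℤ, (ξ ∈ Cfsg.blockOf M (χ₀ : G → ℂ) → z ≠ 0) ∧
      (ξ ∈ Cfsg.blockOf M (χ₀ : G → ℂ) → (p : ℂ) ^ d * Cfsg.classInner (Cfsg.pRegularPart p (χ : G → ℂ)) (ξ : G → ℂ) =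
        (z : ℂ)) := by
    intro ξ
    by_cases hξ : ξ ∈ Cfsg.blockOf M (χ₀ : G → ℂ)
    · obtain ⟨z, hz⟩ := ci_inner_int p M hM χ₀ χ ξ hχ hξ
      refine ⟨z, fun _ => ?_, fun _ => hz⟩
      obtain ⟨n, hn, hn0, _⟩ := (hz_single p M hM χ₀ χ ξ hχ hξ).mp hht
      rw [hz_tilde_eq, classInner_smul_left] at hn
      intro hz0
      rw [hz0, Int.cast_zero] at hz
      have h1 := (mul_eq_zero.mp hz).resolve_left hp0
      rw [h1, mul_zero] at hn
      apply hn0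
      exact_mod_cast hn.symm
    · exact ⟨0, fun h => absurd h hξ, fun h => absurd h hξ⟩
  choose z hz0 hz using hex
  refine ⟨z, hz0, ?_⟩
  have h1 := bf_parseval p M hM χ₀ χ hχ
  have h2 : ((∑ ξ ∈ Finset.univ.filter (· ∈ Cfsg.blockOf M (χ₀ : G → ℂ)), (z ξ) ^ 2 : ℤ) : ℂ) =
      (((p : ℤ) ^ d * z χ : ℤ) : ℂ) := by
    push_cast
    rw [← hz χ hχ, h1, Finset.mul_sum, Finset.mul_sum]
    refine Finset.sum_congr rfl fun ξ hξ => ?_
    have hξ' : ξ ∈ Cfsg.blockOf M (χ₀ : G → ℂ) := (Finset.mem_filter.mp hξ).2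
    have h3 := hz ξ hξ'
    have h4 : conj (Cfsg.classInner (Cfsg.pRegularPart p (χ : G → ℂ)) (ξ : G → ℂ)) =
        Cfsg.classInner (Cfsg.pRegularPart p (χ : G → ℂ)) (ξ : G → ℂ) := by
      have e : Cfsg.classInner (Cfsg.pRegularPart p (χ : G → ℂ)) (ξ : G → ℂ) =
          (z ξ : ℂ) / (p : ℂ) ^ d := by
        rw [← h3]
        field_simp
      rw [e, map_div₀, map_pow, Complex.conj_natCast, map_intCast]
    rw [h4, ← h3]
    ring
  exact Int.cast_injective h2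

/-- the Brauer–Feit bound `4 k(B) ≤ p^(2d) + 4` -/
theorem bf_bound {G : Type*} [Group G] [Finite G] (p : ℕ) [Fact p.Prime] (M : Ideal Cfsg.AlgInt) (hM : Cfsg.IsPModular p M) (B : Set (Cfsg.IrrCharacter G)) (hB : Cfsg.IsPBlock M B) : 4 * Nat.card B ≤ p ^ (2 * Cfsg.blockDefect p B) + 4 := by
  classical
  haveI : Fintype G := Fintype.ofFinite G
  haveI : Fintype (Cfsg.IrrCharacter G) := Fintype.ofFinite _
  have hp : Fact p.Prime := inferInstance
  have hMp := hM.2.1.isPrime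
  obtain ⟨χ₀, rfl⟩ := hB
  set B := Cfsg.blockOf M (χ₀ : G → ℂ) with hBdef
  have hχ₀ : χ₀ ∈ B := h7_sameBlock_refl hMp _
  obtain ⟨χ, hχ, hht⟩ := bf_exists_height_zero p B ⟨χ₀, hχ₀⟩
  obtain ⟨z, hz0, hsum⟩ := bf_integers p M hM χ₀ χ hχ hht
  set d := Cfsg.blockDefect p B with hd
  set Bf := Finset.univ.filter (· ∈ B) with hBf
  have hcard : Nat.card B = Bf.card := by
    rw [Nat.card_eq_fintype_card, Fintype.card_subtype]
  have hχf : χ ∈ Bf := Finset.mem_filter.mpr ⟨Finset.mem_univ _, hχ⟩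
  have hsplit : ∑ ξ ∈ Bf, (z ξ) ^ 2 = (z χ) ^ 2 + ∑ ξ ∈ Bf.erase χ, (z ξ) ^ 2 :=
    (Finset.add_sum_erase Bf (fun ξ => (z ξ) ^ 2) hχf).symm
  have hlow : ((Bf.erase χ).card : ℤ) ≤ ∑ ξ ∈ Bf.erase χ, (z ξ) ^ 2 := by
    have h1 := Finset.card_nsmul_le_sum (Bf.erase χ) (fun ξ => (z ξ) ^ 2) (1 : ℤ) (by
      intro ξ hξ
      have hξB : ξ ∈ B := (Finset.mem_filter.mp (Finset.mem_of_mem_erase hξ)).2
      have h2 := hz0 ξ hξB
      have h3 : 0 < (z ξ) ^ 2 := by positivity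
      show 1 ≤ (z ξ) ^ 2
      omega)
    simpa using h1
  have hcard2 : (Bf.erase χ).card = Bf.card - 1 := Finset.card_erase_of_mem hχf
  have hpos : 0 < Bf.card := Finset.card_pos.mpr ⟨χ, hχf⟩
  have hk : ((Bf.card : ℕ) : ℤ) = ((Bf.erase χ).card : ℤ) + 1 := by
    rw [hcard2]
    omega
  have hfinal : (4 : ℤ) * (Bf.card : ℤ) ≤ ((p : ℤ) ^ d) ^ 2 + 4 := by
    rw [hsplit] at hsum
    nlinarith [sq_nonneg ((p : ℤ) ^ d - 2 * z χ)]
  rw [hcard]
  have : (p : ℤ) ^ (2 * d) = ((p : ℤ) ^ d) ^ 2 := by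
    rw [← pow_mul, mul_comm]
  rw [← this] at hfinal
  exact_mod_cast hfinal

end

end Cfsg.Agent.Lib.Helper25
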