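import Mathlib
import Cfsg.Prelude.Def_Blocks
import Cfsg.Prelude.Def_BlockRank
import Cfsg.Agent.Lib.helper7.BlockDefect2
import Cfsg.Agent.Lib.helper7.BlockInd2
import Cfsg.Agent.Lib.helper7.BlockCover
import Cfsg.Agent.Lib.helper7.Induction
import Cfsg.Agent.Lib.helper7.CharCentral
import Cfsg.Agent.Lib.helper2.CharInt
import Cfsg.Agent.Lib.helper2.CharNat
import Cfsg.Agent.Lib.Helper25.BlockRankTrace
import Cfsg.Agent.Lib.Helper25.BlockOrthReg
import Cfsg.Agent.Lib.Helper25.CentralDefect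
import Cfsg.Agent.Lib.Helper25.InducedBlockPart
import Cfsg.Agent.Lib.Helper25.CharOrth
import Cfsg.Agent.Lib.Helper25.CharBasic
import Cfsg.Agent.Lib.Helper25.CharAbelian
import Cfsg.Agent.Lib.Helper25.HeightZeroCrit
import Cfsg.Agent.Lib.Helper25.HeightZeroInd

/-!
Broue-Puig nonvanishing: for chi of height zero in B, x a p-element, b a block of C(x) inducing B, the b-part of c -> chi(xc) does not vanish on all p-regular elements (bp_core, bp_main). Tools: bp_root_sub_one (p-power roots of unity are 1 mod the local ideal), bp_central_shift (central element acts by a root of unity), bp_inner_reg_sum.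
-/

set_option autoImplicit false
set_option linter.style.haveILetI false
set_option linter.unusedVariables false
set_option warn.classDefReducibility false
set_option maxHeartbeats 800000
set_option maxHeartbeats 1600000

namespace Cfsg.Agent.Lib.Helper25
open Cfsg.Agent.Lib.helper7
open Cfsg.Agent.Lib.helper2
open scoped ComplexConjugate
section

/-- a `p`-power root of unity is congruent to `1` modulo the local ideal -/
theorem bp_root_sub_one {p : ℕ} [hp : Fact p.Prime] {M : Ideal Cfsg.AlgInt}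
    (hM : Cfsg.IsPModular p M) (c : ℂ) (k : ℕ) (hc : c ^ (p ^ k) = 1) :
    Cfsg.MemLocalIdeal M (c - 1) := by
  haveI hMmax : M.IsMaximal := hM.2.1
  have hMp : M.IsPrime := hMmax.isPrime
  letI : Field (Cfsg.AlgInt ⧸ M) := Ideal.Quotient.field M
  have hp0 : ((p : ℕ) : Cfsg.AlgInt ⧸ M) = 0 := by
    rw [← map_natCast (Ideal.Quotient.mk M)]
    exact Ideal.Quotient.eq_zero_iff_mem.mpr hM.2.2
  haveI : CharP (Cfsg.AlgInt ⧸ M) p := (CharP.charP_iff_prime_eq_zero hp.out).mpr hp0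
  have hpk : 0 < p ^ k := pow_pos hp.out.pos k
  have hint : IsIntegral ℤ c := by
    apply IsIntegral.of_pow hpk
    rw [hc]
    exact isIntegral_one
  let a : Cfsg.AlgInt := ⟨c, hint⟩
  have ha : a ^ (p ^ k) = 1 := by
    apply Subtype.ext
    show c ^ (p ^ k) = 1
    exact hc
  have h1 : (Ideal.Quotient.mk M (a - 1)) ^ (p ^ k) = 0 := by
    rw [map_sub, map_one, sub_pow_char_pow, one_pow, ← map_pow, ha, map_one, sub_self]
  have h2 : Ideal.Quotient.mk M (a - 1) = 0 := pow_eq_zero_iff (hpk.ne') |>.mp h1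
  have h3 : a - 1 ∈ M := Ideal.Quotient.eq_zero_iff_mem.mp h2
  have := h7_memLocalIdeal_of_mem hMp h3
  simpa [a] using this

/-- a central `p`-element acts on an irreducible character by a `p`-power root of unity -/
theorem bp_central_shift {H : Type*} [Group H] (ψ : Cfsg.IrrCharacter H) (z : H)
    (hz : z ∈ Subgroup.center H) (n : ℕ) (hn : z ^ n = 1) :
    ∃ lam : ℂ, (∀ c : H, (ψ : H → ℂ) (z * c) = lam * (ψ : H → ℂ) c) ∧ lam ^ n = 1 := by
  obtain ⟨lam, hlam⟩ := h7_central_char ψ.2 z hz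
  refine ⟨lam, hlam, ?_⟩
  have hpow : ∀ m : ℕ, ∀ c : H, (ψ : H → ℂ) (z ^ m * c) = lam ^ m * (ψ : H → ℂ) c := by
    intro m
    induction m with
    | zero => intro c; simp
    | succ m ih =>
      intro c
      rw [pow_succ', mul_assoc, hlam, ih, pow_succ']
      ring
  have h1 := hpow n 1
  rw [hn, one_mul] at h1
  have h2 : (ψ : H → ℂ) 1 ≠ 0 := irr_one_ne_zero ψ
  have h3 : (lam ^ n - 1) * (ψ : H → ℂ) 1 = 0 := by
    rw [sub_mul, one_mul, ← h1, sub_self]
  rcases mul_eq_zero.mp h3 with h | h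
  · exact sub_eq_zero.mp h
  · exact absurd h h2

/-- the inner product of the `p`-regular part of a linear combination -/
theorem bp_inner_reg_sum {H : Type*} [Group H] [Fintype H] (p : ℕ) {ι : Type*} (s : Finset ι)
    (c : ι → ℂ) (f : ι → H → ℂ) (g : H → ℂ) :
    Cfsg.classInner (Cfsg.pRegularPart p (∑ i ∈ s, c i • f i)) g =
      ∑ i ∈ s, c i * Cfsg.classInner (Cfsg.pRegularPart p (f i)) g := by
  have h1 : Cfsg.pRegularPart p (∑ i ∈ s, c i • f i) =
      ∑ i ∈ s, c i • Cfsg.pRegularPart p (f i) := by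
    funext x
    rw [Finset.sum_apply]
    by_cases hx : p ∣ orderOf x
    · rw [br_pRegularPart_sing p _ x hx]
      symm
      apply Finset.sum_eq_zero
      intro i _
      rw [Pi.smul_apply, br_pRegularPart_sing p _ x hx, smul_zero]
    · rw [br_pRegularPart_reg p _ x hx, Finset.sum_apply]
      refine Finset.sum_congr rfl fun i _ => ?_
      rw [Pi.smul_apply, Pi.smul_apply, br_pRegularPart_reg p _ x hx]
  rw [h1, classInner_sum_left]
  refine Finset.sum_congr rfl fun i _ => ?_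
  rw [classInner_smul_left]

end

section

/-- Broué–Puig nonvanishing, for a subgroup `H` with a central `p`-element `x` -/
theorem bp_core {G : Type*} [Group G] [Fintype G] (p : ℕ) [hp : Fact p.Prime]
    (M : Ideal Cfsg.AlgInt) (hM : Cfsg.IsPModular p M) (H : Subgroup G) [Fintype H]
    (b : Set (Cfsg.IrrCharacter H)) (B : Set (Cfsg.IrrCharacter G))
    (hind : Cfsg.IsInducedBlock M H b B) (χ : Cfsg.IrrCharacter G) (hχ : χ ∈ B)
    (h0 : Cfsg.blockHeight p B (χ : G → ℂ) = 0)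
    (x : H) (hxc : x ∈ Subgroup.center H) (k : ℕ) (hxk : x ^ (p ^ k) = 1) :
    ∃ y : H, ¬ p ∣ orderOf y ∧
      Cfsg.blockPart b (fun c : H => (χ : G → ℂ) ((x : G) * (c : G))) y ≠ 0 := by
  classical
  haveI : Fintype (Cfsg.IrrCharacter H) := Fintype.ofFinite _
  have hMp := hM.2.1.isPrime
  obtain ⟨ψ₀, hb⟩ := hind.1
  have hψ₀ : ψ₀ ∈ b := by
    rw [hb]
    exact h7_sameBlock_refl hMp _
  by_contra hcon
  push Not at hcon
  -- the root of unity attached to each ψ'
  have hlam : ∀ ψ' : Cfsg.IrrCharacter H, ∃ lam : ℂ,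
      (∀ c : H, (ψ' : H → ℂ) (x * c) = lam * (ψ' : H → ℂ) c) ∧ lam ^ (p ^ k) = 1 :=
    fun ψ' => bp_central_shift ψ' x hxc _ hxk
  choose lam hlam1 hlam2 using hlam
  -- expansion of the restriction
  set χH : H → ℂ := fun h : H => (χ : G → ℂ) (h : G) with hχH
  have hχHcl : ∀ g h : H, χH (h * g * h⁻¹) = χH g := by
    intro g h
    show (χ : G → ℂ) ((h * g * h⁻¹ : H) : G) = (χ : G → ℂ) (g : G)
    rw [Subgroup.coe_mul, Subgroup.coe_mul, Subgroup.coe_inv]
    exact irr_conj_invariant χ _ _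
  have hexp := classFunction_expansion χH hχHcl
  set a : Cfsg.IrrCharacter H → ℂ := fun ψ' => Cfsg.classInner χH (ψ' : H → ℂ) with ha
  have haR : ∀ ψ', Cfsg.MemLocalRing M (a ψ') := by
    intro ψ'
    obtain ⟨m, hm⟩ := classInner_character_nat
      (isCharacter_restrict (isCharacter_of_irr χ) H) (isCharacter_of_irr ψ')
    show Cfsg.MemLocalRing M (Cfsg.classInner χH (ψ' : H → ℂ))
    rw [show Cfsg.classInner χH (ψ' : H → ℂ) = (m : ℂ) from hm]
    exact h7_memLocalRing_natCast hMp m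
  set ϑ : H → ℂ := fun c : H => (χ : G → ℂ) ((x : G) * (c : G)) with hϑ
  have hϑexp : ϑ = ∑ ψ' : Cfsg.IrrCharacter H, (a ψ' * lam ψ') • (ψ' : H → ℂ) := by
    funext c
    have h1 := congrFun hexp (x * c)
    rw [Finset.sum_apply] at h1 ⊢
    show (χ : G → ℂ) ((x : G) * (c : G)) = _
    have h2 : χH (x * c) = (χ : G → ℂ) ((x : G) * (c : G)) := rfl
    rw [← h2, h1]
    refine Finset.sum_congr rfl fun ψ' _ => ?_
    rw [Pi.smul_apply, Pi.smul_apply, smul_eq_mul, smul_eq_mul, hlam1]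
    ring
  have hϑinner : ∀ ψ'' : Cfsg.IrrCharacter H,
      Cfsg.classInner ϑ (ψ'' : H → ℂ) = a ψ'' * lam ψ'' := by
    intro ψ''
    rw [hϑexp, classInner_sum_left, Finset.sum_eq_single ψ'']
    · rw [classInner_smul_left, irr_classInner, if_pos rfl, mul_one]
    · intro ψ' _ hne
      rw [classInner_smul_left, irr_classInner, if_neg hne, mul_zero]
    · intro h
      exact absurd (Finset.mem_univ _) h
  -- the block part as a finite sum
  set F : H → ℂ := ∑ ψ' : Cfsg.IrrCharacter H,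
    (if ψ' ∈ b then a ψ' * lam ψ' else 0) • (ψ' : H → ℂ) with hF
  have hFpart : ∀ y : H, Cfsg.blockPart b ϑ y = F y := by
    intro y
    rw [ib_blockPart_apply, h7_finsum_mem_fintype, hF, Finset.sum_apply]
    refine Finset.sum_congr rfl fun ψ' _ => ?_
    rw [Pi.smul_apply, smul_eq_mul]
    split_ifs
    · rw [hϑinner]
    · rw [zero_mul]
  have hFreg : Cfsg.pRegularPart p F = 0 := by
    funext y
    by_cases hy : p ∣ orderOf y
    · rw [br_pRegularPart_sing p _ y hy]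
      rfl
    · rw [br_pRegularPart_reg p _ y hy, ← hFpart y]
      exact hcon y hy
  -- the inner product criterion
  have hcrit := (hi_main p M hM H b B hind χ ψ₀ hψ₀).2 hχ h0
  apply hcrit
  have hE : Cfsg.classInner (fun h : H => if p ∣ orderOf h then (0 : ℂ) else
      ((p ^ (Nat.card H).factorization p : ℕ) : ℂ) * (χ : G → ℂ) h) (ψ₀ : H → ℂ) /
      (ψ₀ : H → ℂ) 1 = hz_r p χH (ψ₀ : H → ℂ) := rfl
  rw [hE]
  -- r(χ_H, ψ₀) = Σ_{ψ'} a_{ψ'} r(ψ', ψ₀)
  have hr1 : hz_r p χH (ψ₀ : H → ℂ) = ∑ ψ' : Cfsg.IrrCharacter H,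
      a ψ' * hz_r p (ψ' : H → ℂ) (ψ₀ : H → ℂ) := by
    unfold hz_r
    rw [hz_tilde_eq, classInner_smul_left]
    conv_lhs => rw [hexp]
    rw [bp_inner_reg_sum, Finset.mul_sum, Finset.sum_div]
    refine Finset.sum_congr rfl fun ψ' _ => ?_
    rw [hz_tilde_eq, classInner_smul_left]
    ring
  -- 0 = Σ_{ψ' ∈ b} a λ r(ψ', ψ₀)
  have hr2 : ∑ ψ' : Cfsg.IrrCharacter H,
      (if ψ' ∈ b then a ψ' * lam ψ' else 0) * hz_r p (ψ' : H → ℂ) (ψ₀ : H → ℂ) = 0 := by
    have h1 : Cfsg.classInner (Cfsg.pRegularPart p F) (ψ₀ : H → ℂ) = 0 := by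
      rw [hFreg]
      exact Cfsg.Agent.Lib.Helper25.classInner_zero_left _
    rw [hF, bp_inner_reg_sum] at h1
    have h2 : ∑ ψ' : Cfsg.IrrCharacter H,
        (if ψ' ∈ b then a ψ' * lam ψ' else 0) * hz_r p (ψ' : H → ℂ) (ψ₀ : H → ℂ) =
        (((p ^ (Nat.card H).factorization p : ℕ) : ℂ) / (ψ₀ : H → ℂ) 1) *
          ∑ ψ' : Cfsg.IrrCharacter H, (if ψ' ∈ b then a ψ' * lam ψ' else 0) *
            Cfsg.classInner (Cfsg.pRegularPart p (ψ' : H → ℂ)) (ψ₀ : H → ℂ) := by
      rw [Finset.mul_sum]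
      refine Finset.sum_congr rfl fun ψ' _ => ?_
      unfold hz_r
      rw [hz_tilde_eq, classInner_smul_left]
      ring
    rw [h2, h1, mul_zero]
  -- terms outside b vanish
  have hout : ∀ ψ' : Cfsg.IrrCharacter H, ψ' ∉ b →
      hz_r p (ψ' : H → ℂ) (ψ₀ : H → ℂ) = 0 := by
    intro ψ' hψ'
    unfold hz_r
    rw [hz_tilde_eq, classInner_smul_left]
    rw [hb] at hψ' hψ₀
    rw [cd_block_orth hM ψ₀ ψ' hψ' ψ₀ hψ₀, mul_zero, zero_div]
  have hr3 : hz_r p χH (ψ₀ : H → ℂ) = ∑ ψ' : Cfsg.IrrCharacter H,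
      (if ψ' ∈ b then (1 - lam ψ') * (a ψ' * hz_r p (ψ' : H → ℂ) (ψ₀ : H → ℂ)) else 0) := by
    have e1 : hz_r p χH (ψ₀ : H → ℂ) = ∑ ψ' : Cfsg.IrrCharacter H,
        a ψ' * hz_r p (ψ' : H → ℂ) (ψ₀ : H → ℂ) - ∑ ψ' : Cfsg.IrrCharacter H,
        (if ψ' ∈ b then a ψ' * lam ψ' else 0) * hz_r p (ψ' : H → ℂ) (ψ₀ : H → ℂ) := by
      rw [hr1, hr2, sub_zero]
    rw [e1, ← Finset.sum_sub_distrib]
    refine Finset.sum_congr rfl fun ψ' _ => ?_
    split_ifs with h
    · ring
    · rw [hout ψ' h]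
      ring
  rw [hr3]
  apply h7_memLocalIdeal_sum hMp
  intro ψ' _
  split_ifs with h
  · apply h7_memLocalIdeal_mul_right hMp
    · have h1 := bp_root_sub_one hM (lam ψ') k (hlam2 ψ')
      have h2 := h7_memLocalIdeal_neg h1
      rwa [neg_sub] at h2
    · exact h7_memLocalRing_mul hMp (haR ψ') (hz_r_mem p hM ψ' ψ₀)
  · exact h7_memLocalIdeal_zero hMp

end

section

theorem bp_main {G : Type*} [Group G] [Finite G] (p : ℕ) [Fact p.Prime] (M : Ideal Cfsg.AlgInt) (hM : Cfsg.IsPModular p M) (B : Set (Cfsg.IrrCharacter G)) (hB : Cfsg.IsPBlock M B) (χ : Cfsg.IrrCharacter G) (hχ : χ ∈ B) (h0 : Cfsg.blockHeight p B (χ : G → ℂ) = 0) (x : G) (hx : ∃ k : ℕ, orderOf x = p ^ k) (b : Set (Cfsg.IrrCharacter (Subgroup.centralizer ({x} : Set G)))) (hb : Cfsg.IsInducedBlock M (Subgroup.centralizer ({x} : Set G)) b B) : ∃ y : Subgroup.centralizer ({x} : Set G), ¬ p ∣ orderOf y ∧ Cfsg.blockPart b (fun c : Subgroup.centralizer ({x} : Set G) => (χ : G → ℂ)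 (x * (c : G))) y ≠ 0 := by
  classical
  haveI : Fintype G := Fintype.ofFinite G
  haveI : Fintype (Subgroup.centralizer ({x} : Set G)) := Fintype.ofFinite _
  obtain ⟨k, hk⟩ := hx
  have hxmem : x ∈ Subgroup.centralizer ({x} : Set G) := by
    rw [Subgroup.mem_centralizer_iff]
    intro y hy
    rw [Set.mem_singleton_iff.mp hy]
  set xH : Subgroup.centralizer ({x} : Set G) := ⟨x, hxmem⟩ with hxH
  have hxc : xH ∈ Subgroup.center (Subgroup.centralizer ({x} : Set G)) := by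
    rw [Subgroup.mem_center_iff]
    intro h
    apply Subtype.ext
    show (h : G) * x = x * (h : G)
    have := Subgroup.mem_centralizer_iff.mp h.2 x (Set.mem_singleton x)
    exact this.symm
  have hxk : xH ^ (p ^ k) = 1 := by
    apply Subtype.ext
    show x ^ (p ^ k) = 1
    rw [← hk]
    exact pow_orderOf_eq_one x
  exact bp_core p M hM _ b B hb χ hχ h0 xH hxc k hxk

end

end Cfsg.Agent.Lib.Helper25
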