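import Mathlib
import Cfsg.Agent.Lib.Helper25.HeightZeroInd
import Cfsg.Agent.Lib.Helper25.InducedBlockPart
import Cfsg.Agent.Lib.Helper25.BrouePuig

/-!
Okuyama's criterion (ok_main): for chi with irreducible restriction psi to H, chi and psi of height zero, a block e of H with e^G defined induces the block of chi iff e is the block of psi. Blau's theorem (bl_main): a height zero character of b^G has a height zero constituent in b with multiplicity prime to p.
-/

set_option autoImplicit false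
set_option linter.style.haveILetI false
set_option linter.unusedVariables false
set_option warn.classDefReducibility false
set_option maxHeartbeats 800000

namespace Cfsg.Agent.Lib.Helper25
open Cfsg.Agent.Lib.helper7
open Cfsg.Agent.Lib.helper2
open scoped ComplexConjugate
section

/-- Okuyama's criterion -/
theorem ok_main {G : Type*} [Group G] [Finite G] (p : ℕ) [Fact p.Prime] (M : Ideal Cfsg.AlgInt) (hM : Cfsg.IsPModular p M) (H : Subgroup G) (χ : Cfsg.IrrCharacter G) (hres : Cfsg.IsIrrCharacter H (fun h : H => (χ : G → ℂ) h)) (hχ0 : Cfsg.blockHeight p (Cfsg.blockOf M (χ : G → ℂ)) (χ : G → ℂ) = 0) (hψ0 : Cfsg.blockHeight p (Cfsg.blockOf M (fun h : H => (χ : G → ℂ) h)) (fun h : H => (χ : G → ℂ) h) = 0) (e : Set (Cfsg.IrrCharacter H)) (he : Cfsg.InducedBlockDefined M H e) : Cfsg.IsInducedBlock M H e (Cfsg.blockOf M (χ : G → ℂ)) ↔ e = Cfsg.blockOf M (fun h : H => (χ : G → ℂ) h) := by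
  classical
  haveI : Fintype G := Fintype.ofFinite G
  haveI : Fintype H := Fintype.ofFinite H
  haveI : Fintype (Cfsg.IrrCharacter G) := Fintype.ofFinite _
  haveI : Fintype (Cfsg.IrrCharacter H) := Fintype.ofFinite _
  have hp : Fact p.Prime := inferInstance
  have hMp := hM.2.1.isPrime
  set ψχ : Cfsg.IrrCharacter H := ⟨fun h : H => (χ : G → ℂ) h, hres⟩ with hψχ
  have hcoe : ((ψχ : Cfsg.IrrCharacter H) : H → ℂ) = fun h : H => (χ : G → ℂ) h := rfl
  constructor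
  · intro hind
    obtain ⟨ψ₁, hψ₁⟩ := hind.1
    have hψ₁e : ψ₁ ∈ e := by
      rw [hψ₁]
      exact h7_sameBlock_refl hMp _
    have hχmem : χ ∈ Cfsg.blockOf M (χ : G → ℂ) := h7_sameBlock_refl hMp _
    have h1 := (hi_main p M hM H e _ hind χ ψ₁ hψ₁e).2 hχmem hχ0
    have hmem : ψχ ∈ Cfsg.blockOf M (ψ₁ : H → ℂ) := by
      by_contra hnot
      apply h1
      have h2 := cd_block_orth hM ψ₁ ψχ hnot ψ₁ (h7_sameBlock_refl hMp _)
      have hE : Cfsg.classInner (fun h : H => if p ∣ orderOf h then (0 : ℂ) else ((p ^ (Nat.card H).factorization p : ℕ) : ℂ) * (χ : G → ℂ) h) (ψ₁ : H → ℂ) / (ψ₁ : H → ℂ) 1 =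
        hz_r p (ψχ : H → ℂ) (ψ₁ : H → ℂ) := rfl
      rw [hE]
      unfold hz_r
      rw [hz_tilde_eq, classInner_smul_left, h2, mul_zero, zero_div]
      exact h7_memLocalIdeal_zero hMp
    rw [hψ₁]
    exact ib_blockOf_eq hMp ψχ ψ₁ hmem
  · intro hee
    obtain ⟨B', hB'⟩ := he
    obtain ⟨χ₀, hχ₀⟩ := hB'.2.1
    have hψe : ψχ ∈ e := by
      rw [hee]
      exact h7_sameBlock_refl hMp _
    have hmem : χ ∈ B' := by
      by_contra hnot
      have h1 := (hi_main p M hM H e B' hB' χ ψχ hψe).1 hnot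
      have hE : Cfsg.classInner (fun h : H => if p ∣ orderOf h then (0 : ℂ) else ((p ^ (Nat.card H).factorization p : ℕ) : ℂ) * (χ : G → ℂ) h) (ψχ : H → ℂ) / (ψχ : H → ℂ) 1 =
        hz_r p (ψχ : H → ℂ) (ψχ : H → ℂ) := rfl
      rw [hE] at h1
      have hs : ψχ ∈ Cfsg.blockOf M (ψχ : H → ℂ) := h7_sameBlock_refl hMp _
      exact (hz_iff p M hM ψχ ψχ ψχ hs hs).mp hψ0 h1
    rw [hχ₀] at hmem
    have : Cfsg.blockOf M (χ : G → ℂ) = B' := by
      rw [hχ₀]
      exact (ib_blockOf_eq hMp χ χ₀ hmem).symm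
    rw [this]
    exact hB'

end

section

/-- Blau: a height zero character of `b^G` has a height zero constituent in `b` of multiplicity
prime to `p` in its restriction -/
theorem bl_main {G : Type*} [Group G] [Fintype G] (p : ℕ) [Fact p.Prime] (M : Ideal Cfsg.AlgInt) (hM : Cfsg.IsPModular p M) (H : Subgroup G) [Fintype H] (b : Set (Cfsg.IrrCharacter H)) (B : Set (Cfsg.IrrCharacter G)) (hind : Cfsg.IsInducedBlock M H b B) (χ : Cfsg.IrrCharacter G) (hχ : χ ∈ B) (h0 : Cfsg.blockHeight p B (χ : G → ℂ) = 0) : ∃ ξ ∈ b, Cfsg.blockHeight p b (ξ : H → ℂ) = 0 ∧ ∃ n : ℕ, Cfsg.classInner (fun h : H => (χ : G → ℂ) h) (ξ : H → ℂ) = (n : ℂ) ∧ ¬ p ∣ n := by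
  classical
  haveI : Fintype (Cfsg.IrrCharacter H) := Fintype.ofFinite _
  have hp : Fact p.Prime := inferInstance
  have hMp := hM.2.1.isPrime
  obtain ⟨ψ₀, hb⟩ := hind.1
  have hψ₀ : ψ₀ ∈ b := by
    rw [hb]
    exact h7_sameBlock_refl hMp _
  set χH : H → ℂ := fun h : H => (χ : G → ℂ) (h : G) with hχH
  have hχHcl : ∀ g h : H, χH (h * g * h⁻¹) = χH g := by
    intro g h
    show (χ : G → ℂ) ((h * g * h⁻¹ : H) : G) = (χ : G → ℂ) (g : G)
    rw [Subgroup.coe_mul, Subgroup.coe_mul, Subgroup.coe_inv]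
    exact irr_conj_invariant χ _ _
  have hexp := classFunction_expansion χH hχHcl
  set a : Cfsg.IrrCharacter H → ℂ := fun ψ' => Cfsg.classInner χH (ψ' : H → ℂ) with ha
  have hnat : ∀ ψ' : Cfsg.IrrCharacter H, ∃ m : ℕ, a ψ' = (m : ℂ) := by
    intro ψ'
    exact classInner_character_nat
      (isCharacter_restrict (isCharacter_of_irr χ) H) (isCharacter_of_irr ψ')
  choose m hm using hnat
  by_contra hcon
  push Not at hcon
  have hcrit := (hi_main p M hM H b B hind χ ψ₀ hψ₀).2 hχ h0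
  apply hcrit
  have hE : Cfsg.classInner (fun h : H => if p ∣ orderOf h then (0 : ℂ) else
      ((p ^ (Nat.card H).factorization p : ℕ) : ℂ) * (χ : G → ℂ) h) (ψ₀ : H → ℂ) /
      (ψ₀ : H → ℂ) 1 = hz_r p χH (ψ₀ : H → ℂ) := rfl
  rw [hE]
  have hr1 : hz_r p χH (ψ₀ : H → ℂ) = ∑ ψ' : Cfsg.IrrCharacter H,
      a ψ' * hz_r p (ψ' : H → ℂ) (ψ₀ : H → ℂ) := by
    unfold hz_r
    rw [hz_tilde_eq, classInner_smul_left]
    conv_lhs => rw [hexp]
    rw [bp_inner_reg_sum, Finset.mul_sum, Finset.sum_div]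
    refine Finset.sum_congr rfl fun ψ' _ => ?_
    rw [hz_tilde_eq, classInner_smul_left]
    ring
  have hout : ∀ ψ' : Cfsg.IrrCharacter H, ψ' ∉ b →
      hz_r p (ψ' : H → ℂ) (ψ₀ : H → ℂ) = 0 := by
    intro ψ' hψ'
    unfold hz_r
    rw [hz_tilde_eq, classInner_smul_left]
    rw [hb] at hψ' hψ₀
    rw [cd_block_orth hM ψ₀ ψ' hψ' ψ₀ hψ₀, mul_zero, zero_div]
  rw [hr1]
  apply h7_memLocalIdeal_sum hMp
  intro ψ' _
  by_cases hψ' : ψ' ∈ b
  · by_cases hh : Cfsg.blockHeight p b (ψ' : H → ℂ) = 0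
    · have hdvd := hcon ψ' hψ' hh (m ψ') (hm ψ')
      rw [hm ψ']
      exact h7_memLocalIdeal_mul_right hMp ((h7_memLocalIdeal_natCast_iff hM _).mpr hdvd)
        (hz_r_mem p hM ψ' ψ₀)
    · have hmem : Cfsg.MemLocalIdeal M (hz_r p (ψ' : H → ℂ) (ψ₀ : H → ℂ)) := by
        by_contra hnot
        rw [hb] at hh hψ' hψ₀
        exact hh ((hz_iff p M hM ψ₀ ψ' ψ₀ hψ' hψ₀).mpr hnot)
      rw [hm ψ']
      exact h7_memLocalIdeal_mul_left hMp (h7_memLocalRing_natCast hMp _) hmem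
  · rw [hout ψ' hψ', mul_zero]
    exact h7_memLocalIdeal_zero hMp

end

end Cfsg.Agent.Lib.Helper25
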