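import Mathlib
import Cfsg.Agent.Lib.Helper25.CharOrth
import Cfsg.Agent.Lib.Helper25.CharBasic
import Cfsg.Agent.Lib.Helper25.CharAbelian
import Cfsg.Agent.Lib.Helper25.BlockRankTrace
import Cfsg.Agent.Lib.Helper25.BlockOrthReg
import Cfsg.Agent.Lib.Helper25.CentralDefect
import Cfsg.Agent.Lib.Helper25.InducedBlockPart
import Cfsg.Agent.Lib.Helper25.BrouePuig
import Cfsg.Agent.Lib.Helper25.ThirdMainPair
import Cfsg.Agent.Lib.helper2.PParts
import Cfsg.Agent.Lib.helper7.SecondMain
import Cfsg.Agent.Lib.helper7.BlockSing2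
import Cfsg.Agent.S0922
import Cfsg.Agent.S0923

/-!
Subsections and the Second Main Theorem. Column orthogonality in counting form (st_col_count); conjugacy of u s and u c splits into p-part and p'-part (st_conj_split); SMT for H = C_G(u) in blockPart form (st_smt); block kernel st_E, st_sum_chi; st_F_kernel; trace of the subsection matrix: sum over chi in B of [F_chi°, F_chi] = l(e) for e^G = B (st_trace, st_trace'); st_main (S4683).
-/

set_option autoImplicit false
set_option linter.style.haveILetI false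
set_option linter.unusedVariables false
set_option warn.classDefReducibility false
set_option maxHeartbeats 1600000

namespace Cfsg.Agent.Lib.Helper25
open Cfsg.Agent.Lib.helper2
open scoped ComplexConjugate
open Cfsg.Agent.Lib.helper7
section

/-- column orthogonality, counting form -/
theorem st_col_count {G : Type*} [Group G] [Fintype G] [Fintype (Cfsg.IrrCharacter G)]
    [DecidableEq G] (g h : G) :
    ∑ χ : Cfsg.IrrCharacter G, (χ : G → ℂ) g * conj ((χ : G → ℂ) h) =
      ((Finset.univ.filter (fun x : G => x * h * x⁻¹ = g)).card : ℂ) := by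
  classical
  set f : G → ℂ := fun y => ((Finset.univ.filter (fun x : G => x * h * x⁻¹ = y)).card : ℂ) with hf
  have hne : (Nat.card G : ℂ) ≠ 0 := by exact_mod_cast Nat.card_pos.ne'
  have hfclass : ∀ y z : G, f (z * y * z⁻¹) = f y := by
    intro y z
    simp only [hf]
    congr 1
    apply Finset.card_bij (fun x _ => z⁻¹ * x)
    · intro x hx
      rw [Finset.mem_filter] at hx ⊢
      refine ⟨Finset.mem_univ _, ?_⟩
      have := hx.2
      calc z⁻¹ * x * h * (z⁻¹ * x)⁻¹ = z⁻¹ * (x * h * x⁻¹) * z := by group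
        _ = z⁻¹ * (z * y * z⁻¹) * z := by rw [this]
        _ = y := by group
    · intro a _ b _ hab
      exact mul_left_cancel hab
    · intro x hx
      rw [Finset.mem_filter] at hx
      refine ⟨z * x, ?_, by group⟩
      rw [Finset.mem_filter]
      refine ⟨Finset.mem_univ _, ?_⟩
      calc z * x * h * (z * x)⁻¹ = z * (x * h * x⁻¹) * z⁻¹ := by group
        _ = z * y * z⁻¹ := by rw [hx.2]
  have hinner : ∀ χ : Cfsg.IrrCharacter G, Cfsg.classInner f (χ : G → ℂ) =
      conj ((χ : G → ℂ) h) := by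
    intro χ
    simp only [Cfsg.classInner, hf]
    have h1 : ∀ y : G, ((Finset.univ.filter (fun x : G => x * h * x⁻¹ = y)).card : ℂ) *
        conj ((χ : G → ℂ) y) =
        ∑ x : G, if x * h * x⁻¹ = y then conj ((χ : G → ℂ) h) else 0 := by
      intro y
      rw [← Finset.sum_filter, Finset.sum_const, nsmul_eq_mul]
      by_cases hy : ∃ x : G, x * h * x⁻¹ = y
      · obtain ⟨x, hx⟩ := hy
        rw [← hx, irr_conj_invariant]
      · push Not at hy
        have : Finset.univ.filter (fun x : G => x * h * x⁻¹ = y) = ∅ := by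
          apply Finset.filter_eq_empty_iff.mpr
          intro x _
          exact hy x
        rw [this]
        simp
    rw [Finset.sum_congr rfl (fun y _ => h1 y), Finset.sum_comm]
    have h2 : ∀ x : G, ∑ y : G, (if x * h * x⁻¹ = y then conj ((χ : G → ℂ) h) else 0) =
        conj ((χ : G → ℂ) h) := by
      intro x
      rw [Finset.sum_ite_eq]
      simp
    rw [Finset.sum_congr rfl (fun x _ => h2 x), Finset.sum_const, nsmul_eq_mul, Finset.card_univ,
      ← Nat.card_eq_fintype_card]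
    field_simp
  have hexp := congrFun (classFunction_expansion f hfclass) g
  simp only [hinner, Finset.sum_apply, Pi.smul_apply, smul_eq_mul] at hexp
  rw [show ((Finset.univ.filter (fun x : G => x * h * x⁻¹ = g)).card : ℂ) = f g from rfl, hexp]
  refine Finset.sum_congr rfl fun χ _ => ?_
  ring

/-- conjugating `u s` to `u c`, for a `p`-element `u` and `p`-regular `s, c` commuting with `u`,
means fixing `u` and conjugating `s` to `c` -/
theorem st_conj_split {G : Type*} [Group G] [Finite G] (p : ℕ) [hp : Fact p.Prime] (u s c x : G)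
    (hu : ∃ k : ℕ, orderOf u = p ^ k) (hs : ¬ p ∣ orderOf s) (hc : ¬ p ∣ orderOf c)
    (hus : Commute u s) (huc : Commute u c) :
    x * (u * s) * x⁻¹ = u * c ↔ (x * u * x⁻¹ = u ∧ x * s * x⁻¹ = c) := by
  constructor
  · intro h
    obtain ⟨r, u', hru, hcomm, hr, hu', hrs, hus'⟩ := pp_exists p hp.out (u * c)
    have h1 := pp_unique p hp.out (u * c) r u' c u hru hrs hus' hr hu' huc.eq.symm huc.symm hc hu
    have hxs : ¬ p ∣ orderOf (x * s * x⁻¹) := by
      have : orderOf (x * s * x⁻¹) = orderOf s := by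
        have := orderOf_injective (MulAut.conj x).toMonoidHom (MulAut.conj x).injective s
        simpa [MulAut.conj_apply] using this
      rwa [this]
    have hxu : ∃ k : ℕ, orderOf (x * u * x⁻¹) = p ^ k := by
      have : orderOf (x * u * x⁻¹) = orderOf u := by
        have := orderOf_injective (MulAut.conj x).toMonoidHom (MulAut.conj x).injective u
        simpa [MulAut.conj_apply] using this
      rwa [this]
    have hcomm' : Commute (x * s * x⁻¹) (x * u * x⁻¹) := by
      have := hus.symm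
      show x * s * x⁻¹ * (x * u * x⁻¹) = x * u * x⁻¹ * (x * s * x⁻¹)
      calc x * s * x⁻¹ * (x * u * x⁻¹) = x * (s * u) * x⁻¹ := by group
        _ = x * (u * s) * x⁻¹ := by rw [this.eq]
        _ = x * u * x⁻¹ * (x * s * x⁻¹) := by group
    have hprod : x * s * x⁻¹ * (x * u * x⁻¹) = u * c := by
      rw [← h]
      calc x * s * x⁻¹ * (x * u * x⁻¹) = x * (s * u) * x⁻¹ := by group
        _ = x * (u * s) * x⁻¹ := by rw [hus.symm.eq]
    have h2 := pp_unique p hp.out (u * c) r u' (x * s * x⁻¹) (x * u * x⁻¹) hru hrs hus' hr hu'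
      hprod hcomm' hxs hxu
    exact ⟨by rw [h2.2, h1.2], by rw [h2.1, h1.1]⟩
  · rintro ⟨h1, h2⟩
    calc x * (u * s) * x⁻¹ = (x * u * x⁻¹) * (x * s * x⁻¹) := by group
      _ = u * c := by rw [h1, h2]

end

section

/-- the function `c ↦ χ(u c)` on `H = C_G(u)` is a class function -/
theorem st_theta_class {G : Type*} [Group G] (H : Subgroup G) (u : G)
    (hcent : ∀ h ∈ H, h * u = u * h) (χ : Cfsg.IrrCharacter G) (g h : H) :
    (χ : G → ℂ) (u * ((h * g * h⁻¹ : H) : G)) = (χ : G → ℂ) (u * (g : G)) := by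
  simp only [Subgroup.coe_mul, Subgroup.coe_inv]
  have hh : (h : G) * u = u * (h : G) := hcent h h.2
  have e : u * ((h : G) * (g : G) * (h : G)⁻¹) = (h : G) * (u * (g : G)) * (h : G)⁻¹ := by
    rw [← mul_assoc, ← mul_assoc, ← hh, mul_assoc (h : G) u (g : G)]
  rw [e]
  exact irr_conj_invariant χ _ _

/-- Second Main Theorem for `H = C_G(u)`: for `χ` outside `e^G` the `e`-part of `c ↦ χ(u c)`
vanishes on `p`-regular elements -/
theorem st_smt {G : Type*} [Group G] [Fintype G] (p : ℕ) [hp : Fact p.Prime]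
    (M : Ideal Cfsg.AlgInt) (hM : Cfsg.IsPModular p M) (H : Subgroup G) (u : G) (huH : u ∈ H)
    (hcent : ∀ h ∈ H, h * u = u * h) (hcent' : ∀ g : G, g * u = u * g → g ∈ H)
    (hu : ∃ k : ℕ, orderOf u = p ^ k)
    (e : Set (Cfsg.IrrCharacter H)) (B : Set (Cfsg.IrrCharacter G))
    (hind : Cfsg.IsInducedBlock M H e B) (χ : Cfsg.IrrCharacter G) (hχ : χ ∉ B)
    (s : H) (hs : ¬ p ∣ orderOf s) :
    Cfsg.blockPart e (fun c : H => (χ : G → ℂ) (u * (c : G))) s = 0 := by
  classical
  have hus : Commute u (s : G) := (hcent s s.2).symm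
  have hs' : ¬ p ∣ orderOf (s : G) := by
    rw [Subgroup.orderOf_coe]
    exact hs
  have key := Cfsg.Agent.S0922.result p M hM H e B hind (⟨u, huH⟩ * s) (by
      intro z hz
      have : z = u := Cfsg.Agent.S0923.ppart_unique p u (s : G) z hu hs' hus (by simpa using hz)
      rw [this]
      intro g hg
      apply hcent'
      exact Subgroup.mem_centralizer_singleton_iff.mp hg) χ hχ
  rw [h7_blockPart_eq e _ (fun g h => st_theta_class H u hcent χ g h) s]
  rw [← key]
  congr 1
  funext k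
  congr 2
  simp only [Subgroup.coe_mul]
  have hk : (k : G) * u = u * (k : G) := hcent k k.2
  rw [← mul_assoc, ← hk, mul_assoc]

end

section

open Classical in
/-- weak block orthogonality as a `Finset` sum -/
theorem st_E_sing {H : Type*} [Group H] [Fintype H] [Fintype (Cfsg.IrrCharacter H)]
    {p : ℕ} [hp : Fact p.Prime] {M : Ideal Cfsg.AlgInt} (hM : Cfsg.IsPModular p M)
    (ξ₀ : Cfsg.IrrCharacter H) (s c : H) (hs : ¬ p ∣ orderOf s) (hc : p ∣ orderOf c) :
    ∑ ψ : Cfsg.IrrCharacter H, (if ψ ∈ Cfsg.blockOf M (ξ₀ : H → ℂ) then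
      conj ((ψ : H → ℂ) c) * (ψ : H → ℂ) s else 0) = 0 := by
  have h1 := h7_weak_block_orth hM ξ₀ s c hs hc
  rw [h7_finsum_mem_fintype] at h1
  refine Eq.trans ?_ h1
  refine Finset.sum_congr rfl fun ψ _ => ?_
  split_ifs
  · ring
  · rfl

open Classical in
/-- the number of `x ∈ G` conjugating `u s` to `u c` is the number of `h ∈ H = C_G(u)` conjugating
`s` to `c` -/
theorem st_count_eq {G : Type*} [Group G] [Fintype G] (p : ℕ) [hp : Fact p.Prime]
    (H : Subgroup G) [Fintype H] (u : G)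
    (hcent : ∀ h ∈ H, h * u = u * h) (hcent' : ∀ g : G, g * u = u * g → g ∈ H)
    (hu : ∃ k : ℕ, orderOf u = p ^ k) (s c : H) (hs : ¬ p ∣ orderOf s) (hc : ¬ p ∣ orderOf c) :
    (Finset.univ.filter (fun x : G => x * (u * (s : G)) * x⁻¹ = u * (c : G))).card =
      (Finset.univ.filter (fun h : H => h * s * h⁻¹ = c)).card := by
  have hs' : ¬ p ∣ orderOf (s : G) := by rwa [Subgroup.orderOf_coe]
  have hc' : ¬ p ∣ orderOf (c : G) := by rwa [Subgroup.orderOf_coe]
  have hus : Commute u (s : G) := (hcent s s.2).symm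
  have huc : Commute u (c : G) := (hcent c c.2).symm
  symm
  apply Finset.card_bij (fun (h : H) _ => (h : G))
  · intro h hh
    rw [Finset.mem_filter] at hh ⊢
    refine ⟨Finset.mem_univ _, ?_⟩
    rw [st_conj_split p u (s : G) (c : G) (h : G) hu hs' hc' hus huc]
    constructor
    · rw [hcent h h.2]
      group
    · have := congrArg (Subtype.val) hh.2
      simpa using this
  · intro a _ b _ hab
    exact Subtype.ext hab
  · intro x hx
    rw [Finset.mem_filter] at hx
    obtain ⟨h1, h2⟩ := (st_conj_split p u (s : G) (c : G) x hu hs' hc' hus huc).mp hx.2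
    have hxH : x ∈ H := by
      apply hcent'
      calc x * u = (x * u * x⁻¹) * x := by group
        _ = u * x := by rw [h1]
    refine ⟨⟨x, hxH⟩, ?_, rfl⟩
    rw [Finset.mem_filter]
    refine ⟨Finset.mem_univ _, ?_⟩
    apply Subtype.ext
    simpa using h2

end

section

open Classical in
/-- the block kernel `E(c, s) = |H|⁻¹ Σ_{ψ ∈ e} conj ψ(c) ψ(s)` -/
noncomputable def st_E {H : Type*} [Group H] [Fintype H] [Fintype (Cfsg.IrrCharacter H)]
    (e : Set (Cfsg.IrrCharacter H)) (c s : H) : ℂ :=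
  (Nat.card H : ℂ)⁻¹ * ∑ ψ : Cfsg.IrrCharacter H, (if ψ ∈ e then
    conj ((ψ : H → ℂ) c) * (ψ : H → ℂ) s else 0)

theorem st_E_conj {H : Type*} [Group H] [Fintype H] [Fintype (Cfsg.IrrCharacter H)]
    (e : Set (Cfsg.IrrCharacter H)) (c s h : H) : st_E e (h * c * h⁻¹) s = st_E e c s := by
  unfold st_E
  congr 1
  refine Finset.sum_congr rfl fun ψ _ => ?_
  rw [irr_conj_invariant]

open Classical in
/-- summing `F_χ(s) conj χ(us)` over all `χ` -/
theorem st_sum_chi {G : Type*} [Group G] [Fintype G] [Fintype (Cfsg.IrrCharacter G)]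
    (p : ℕ) [hp : Fact p.Prime]
    {M : Ideal Cfsg.AlgInt} (hM : Cfsg.IsPModular p M)
    (H : Subgroup G) [Fintype H] [Fintype (Cfsg.IrrCharacter H)] (u : G)
    (hcent : ∀ h ∈ H, h * u = u * h) (hcent' : ∀ g : G, g * u = u * g → g ∈ H)
    (hu : ∃ k : ℕ, orderOf u = p ^ k) (ξ₀ : Cfsg.IrrCharacter H)
    (s : H) (hs : ¬ p ∣ orderOf s) :
    ∑ χ : Cfsg.IrrCharacter G, (∑ c : H, (χ : G → ℂ) (u * (c : G)) *
        st_E (Cfsg.blockOf M (ξ₀ : H → ℂ)) c s) * conj ((χ : G → ℂ) (u * (s : G))) =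
      (Nat.card H : ℂ) * st_E (Cfsg.blockOf M (ξ₀ : H → ℂ)) s s := by
  set e := Cfsg.blockOf M (ξ₀ : H → ℂ) with he
  -- swap the sums
  have h1 : ∑ χ : Cfsg.IrrCharacter G, (∑ c : H, (χ : G → ℂ) (u * (c : G)) * st_E e c s) *
      conj ((χ : G → ℂ) (u * (s : G))) =
      ∑ c : H, st_E e c s * ∑ χ : Cfsg.IrrCharacter G, (χ : G → ℂ) (u * (c : G)) *
        conj ((χ : G → ℂ) (u * (s : G))) := by
    simp only [Finset.sum_mul, Finset.mul_sum]
    rw [Finset.sum_comm]
    refine Finset.sum_congr rfl fun c _ => ?_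
    refine Finset.sum_congr rfl fun χ _ => ?_
    ring
  rw [h1]
  -- replace the count
  have h2 : ∀ c : H, st_E e c s * ∑ χ : Cfsg.IrrCharacter G, (χ : G → ℂ) (u * (c : G)) *
        conj ((χ : G → ℂ) (u * (s : G))) =
      st_E e c s * ((Finset.univ.filter (fun h : H => h * s * h⁻¹ = c)).card : ℂ) := by
    intro c
    rw [st_col_count]
    by_cases hc : p ∣ orderOf c
    · have : st_E e c s = 0 := by
        unfold st_E
        rw [he, st_E_sing hM ξ₀ s c hs hc, mul_zero]
      rw [this, zero_mul, zero_mul]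
    · rw [st_count_eq p H u hcent hcent' hu s c hs hc]
  rw [Finset.sum_congr rfl (fun c _ => h2 c)]
  have h3 : ∀ c : H, st_E e c s * ((Finset.univ.filter (fun h : H => h * s * h⁻¹ = c)).card : ℂ) =
      ∑ h : H, if h * s * h⁻¹ = c then st_E e c s else 0 := by
    intro c
    rw [← Finset.sum_filter, Finset.sum_const, nsmul_eq_mul, mul_comm]
  rw [Finset.sum_congr rfl (fun c _ => h3 c), Finset.sum_comm]
  have h4 : ∀ h : H, ∑ c : H, (if h * s * h⁻¹ = c then st_E e c s else 0) = st_E e s s := by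
    intro h
    rw [Finset.sum_ite_eq]
    simp only [Finset.mem_univ, if_true]
    exact st_E_conj e s s h
  rw [Finset.sum_congr rfl (fun h _ => h4 h), Finset.sum_const, nsmul_eq_mul, Finset.card_univ,
    ← Nat.card_eq_fintype_card]

end

section

/-- the `e`-part of `c ↦ χ(u c)` in kernel form -/
theorem st_F_kernel {G : Type*} [Group G] [Fintype G]
    (H : Subgroup G) [Fintype H] [Fintype (Cfsg.IrrCharacter H)] (u : G)
    (e : Set (Cfsg.IrrCharacter H)) (χ : Cfsg.IrrCharacter G) (s : H) :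
    Cfsg.blockPart e (fun c : H => (χ : G → ℂ) (u * (c : G))) s =
      ∑ c : H, (χ : G → ℂ) (u * (c : G)) * st_E e c s := by
  classical
  rw [ib_blockPart_apply e _ s, h7_finsum_mem_fintype e]
  unfold st_E Cfsg.classInner
  simp only [Finset.mul_sum, Finset.sum_mul]
  rw [Finset.sum_comm]
  refine Finset.sum_congr rfl fun ψ _ => ?_
  split_ifs
  · refine Finset.sum_congr rfl fun c _ => ?_
    ring
  · symm
    apply Finset.sum_eq_zero
    intro c _
    ring

/-- the trace of the subsection matrix: `Σ_{χ ∈ B} [F_χ°, F_χ] = l(e)` where `F_χ` is the `e`-part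
of `c ↦ χ(u c)` on `H = C_G(u)`, `u` a `p`-element and `e^G = B` -/
theorem st_trace {G : Type*} [Group G] [Fintype G] (p : ℕ) [hp : Fact p.Prime]
    (M : Ideal Cfsg.AlgInt) (hM : Cfsg.IsPModular p M) (H : Subgroup G) [Fintype H] (u : G)
    (huH : u ∈ H)
    (hcent : ∀ h ∈ H, h * u = u * h) (hcent' : ∀ g : G, g * u = u * g → g ∈ H)
    (hu : ∃ k : ℕ, orderOf u = p ^ k)
    (e : Set (Cfsg.IrrCharacter H)) (B : Set (Cfsg.IrrCharacter G))
    (hind : Cfsg.IsInducedBlock M H e B) :
    ∑ᶠ χ ∈ B, Cfsg.classInner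
      (Cfsg.pRegularPart p (Cfsg.blockPart e (fun c : H => (χ : G → ℂ) (u * (c : G)))))
      (Cfsg.blockPart e (fun c : H => (χ : G → ℂ) (u * (c : G)))) =
      (Cfsg.blockRank p e : ℂ) := by
  classical
  haveI : Fintype (Cfsg.IrrCharacter G) := Fintype.ofFinite _
  haveI : Fintype (Cfsg.IrrCharacter H) := Fintype.ofFinite _
  have hMp := hM.2.1.isPrime
  obtain ⟨ξ₀, he⟩ := hind.1
  set θ : Cfsg.IrrCharacter G → H → ℂ := fun χ c => (χ : G → ℂ) (u * (c : G)) with hθ
  have hθcl : ∀ (χ : Cfsg.IrrCharacter G) (g h : H), θ χ (h * g * h⁻¹) = θ χ g :=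
    fun χ g h => st_theta_class H u hcent χ g h
  set A : Cfsg.IrrCharacter G → Cfsg.IrrCharacter H → ℂ :=
    fun χ ψ => Cfsg.classInner (θ χ) (ψ : H → ℂ) with hA
  set F : Cfsg.IrrCharacter G → H → ℂ := fun χ => Cfsg.blockPart e (θ χ) with hF
  have hFfun : ∀ χ, F χ = ∑ ψ : Cfsg.IrrCharacter H,
      (if ψ ∈ e then A χ ψ else 0) • (ψ : H → ℂ) := by
    intro χ
    funext s
    show Cfsg.blockPart e (θ χ) s = _
    rw [ib_blockPart_apply, h7_finsum_mem_fintype, Finset.sum_apply]
    refine Finset.sum_congr rfl fun ψ _ => ?_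
    rw [Pi.smul_apply, smul_eq_mul]
    split_ifs
    · rfl
    · rw [zero_mul]
  have hθexp : ∀ χ, θ χ = ∑ ψ : Cfsg.IrrCharacter H, A χ ψ • (ψ : H → ℂ) :=
    fun χ => classFunction_expansion (θ χ) (hθcl χ)
  have hFreg_out : ∀ (χ : Cfsg.IrrCharacter G) (ψ : Cfsg.IrrCharacter H), ψ ∉ e →
      Cfsg.classInner (Cfsg.pRegularPart p (F χ)) (ψ : H → ℂ) = 0 := by
    intro χ ψ hψ
    rw [hFfun, bp_inner_reg_sum]
    apply Finset.sum_eq_zero
    intro ψ' _
    split_ifs with h
    · rw [he] at h hψ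
      rw [cd_inner_reg_symm, cd_block_orth hM ξ₀ ψ hψ ψ' h, map_zero, mul_zero]
    · rw [zero_mul]
  have hstepa : ∀ χ, Cfsg.classInner (Cfsg.pRegularPart p (F χ)) (F χ) =
      Cfsg.classInner (Cfsg.pRegularPart p (F χ)) (θ χ) := by
    intro χ
    set X := Cfsg.pRegularPart p (F χ) with hX
    rw [Cfsg.Agent.Lib.Helper25.classInner_conj_symm (F χ) X,
      Cfsg.Agent.Lib.Helper25.classInner_conj_symm (θ χ) X]
    congr 1
    conv_lhs => rw [hFfun χ]
    conv_rhs => rw [hθexp χ]
    rw [classInner_sum_left, classInner_sum_left]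
    refine Finset.sum_congr rfl fun ψ _ => ?_
    rw [classInner_smul_left, classInner_smul_left]
    split_ifs with h
    · rfl
    · rw [zero_mul, Cfsg.Agent.Lib.Helper25.classInner_conj_symm X (ψ : H → ℂ), hFreg_out χ ψ h,
        map_zero, mul_zero]
  have hsmt : ∀ χ, χ ∉ B → Cfsg.pRegularPart p (F χ) = 0 := by
    intro χ hχ
    funext s
    by_cases hs : p ∣ orderOf s
    · rw [br_pRegularPart_sing p _ s hs]
      rfl
    · rw [br_pRegularPart_reg p _ s hs]
      exact st_smt p M hM H u huH hcent hcent' hu e B hind χ hχ s hs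
  show ∑ᶠ χ ∈ B, Cfsg.classInner (Cfsg.pRegularPart p (F χ)) (F χ) = _
  rw [h7_finsum_mem_fintype]
  have h1 : ∀ χ : Cfsg.IrrCharacter G,
      (if χ ∈ B then Cfsg.classInner (Cfsg.pRegularPart p (F χ)) (F χ) else 0) =
      Cfsg.classInner (Cfsg.pRegularPart p (F χ)) (θ χ) := by
    intro χ
    split_ifs with h
    · exact hstepa χ
    · rw [hsmt χ h]
      exact (Cfsg.Agent.Lib.Helper25.classInner_zero_left _).symm
  rw [Finset.sum_congr rfl (fun χ _ => h1 χ)]
  -- compute
  have hHne : (Nat.card H : ℂ) ≠ 0 := by exact_mod_cast Nat.card_pos.ne'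
  have h2 : ∑ χ : Cfsg.IrrCharacter G, Cfsg.classInner (Cfsg.pRegularPart p (F χ)) (θ χ) =
      (Nat.card H : ℂ)⁻¹ * ∑ s : H, ∑ χ : Cfsg.IrrCharacter G,
        Cfsg.pRegularPart p (F χ) s * conj (θ χ s) := by
    unfold Cfsg.classInner
    rw [← Finset.mul_sum, Finset.sum_comm]
  rw [h2]
  have h3 : ∀ s : H, ∑ χ : Cfsg.IrrCharacter G, Cfsg.pRegularPart p (F χ) s * conj (θ χ s) =
      if p ∣ orderOf s then 0 else (Nat.card H : ℂ) * st_E e s s := by
    intro s
    split_ifs with hs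
    · apply Finset.sum_eq_zero
      intro χ _
      rw [br_pRegularPart_sing p _ s hs, zero_mul]
    · rw [he, ← st_sum_chi p hM H u hcent hcent' hu ξ₀ s hs, ← he]
      refine Finset.sum_congr rfl fun χ _ => ?_
      rw [br_pRegularPart_reg p _ s hs]
      show Cfsg.blockPart e (fun c : H => (χ : G → ℂ) (u * (c : G))) s * _ = _
      rw [st_F_kernel]
  rw [Finset.sum_congr rfl (fun s _ => h3 s)]
  rw [he, br_rank_eq hM ξ₀, ← he]
  unfold st_E Cfsg.classInner
  have h4 : ∀ s : H, (if p ∣ orderOf s then (0 : ℂ) else (Nat.card H : ℂ) * ((Nat.card H : ℂ)⁻¹ *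
      ∑ ψ : Cfsg.IrrCharacter H, if ψ ∈ e then conj ((ψ : H → ℂ) s) * (ψ : H → ℂ) s else 0)) =
      ∑ ψ : Cfsg.IrrCharacter H, if ψ ∈ e then
        Cfsg.pRegularPart p (ψ : H → ℂ) s * conj ((ψ : H → ℂ) s) else 0 := by
    intro s
    split_ifs with hs
    · symm
      apply Finset.sum_eq_zero
      intro ψ _
      split_ifs
      · rw [br_pRegularPart_sing p _ s hs, zero_mul]
      · rfl
    · rw [← mul_assoc, mul_inv_cancel₀ hHne, one_mul]
      refine Finset.sum_congr rfl fun ψ _ => ?_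
      split_ifs
      · rw [br_pRegularPart_reg p _ s hs, mul_comm]
      · rfl
  rw [Finset.sum_congr rfl (fun s _ => h4 s), Finset.sum_comm, Finset.mul_sum]
  refine Finset.sum_congr rfl fun ψ _ => ?_
  split_ifs
  · rfl
  · simp

end

section

/-- the inner products of `c ↦ χ(u⁻¹ c)` are the conjugates of those of `c ↦ χ(u c)` -/
theorem st_inner_inv {G : Type*} [Group G] [Fintype G] (H : Subgroup G) [Fintype H] (u : G)
    (hcent : ∀ h ∈ H, h * u = u * h) (χ : Cfsg.IrrCharacter G) (ψ : Cfsg.IrrCharacter H) :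
    Cfsg.classInner (fun c : H => (χ : G → ℂ) (u⁻¹ * (c : G))) (ψ : H → ℂ) =
      conj (Cfsg.classInner (fun c : H => (χ : G → ℂ) (u * (c : G))) (ψ : H → ℂ)) := by
  unfold Cfsg.classInner
  rw [map_mul, map_inv₀, Complex.conj_natCast, map_sum]
  congr 1
  rw [← Equiv.sum_comp (Equiv.inv H)]
  refine Finset.sum_congr rfl fun c _ => ?_
  rw [map_mul, Complex.conj_conj, Equiv.inv_apply, ← irr_inv χ, irr_inv ψ c, Complex.conj_conj]
  congr 2
  have hc : (c : G) * u = u * (c : G) := hcent c c.2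
  show (χ : G → ℂ) (u⁻¹ * ((c⁻¹ : H) : G)) = (χ : G → ℂ) ((u * (c : G))⁻¹)
  rw [Subgroup.coe_inv, ← mul_inv_rev, hc]

/-- the `e`-part of `c ↦ χ(u⁻¹ c)` at `s⁻¹` is the conjugate of the `e`-part of `c ↦ χ(u c)` at
`s` -/
theorem st_part_inv {G : Type*} [Group G] [Fintype G] (H : Subgroup G) [Fintype H] (u : G)
    (hcent : ∀ h ∈ H, h * u = u * h) (e : Set (Cfsg.IrrCharacter H))
    (χ : Cfsg.IrrCharacter G) (s : H) :
    Cfsg.blockPart e (fun c : H => (χ : G → ℂ) (u⁻¹ * (c : G))) s⁻¹ =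
      conj (Cfsg.blockPart e (fun c : H => (χ : G → ℂ) (u * (c : G))) s) := by
  classical
  haveI : Fintype (Cfsg.IrrCharacter H) := Fintype.ofFinite _
  rw [ib_blockPart_apply e _ s, ib_blockPart_apply e _ s⁻¹, h7_finsum_mem_fintype e,
    h7_finsum_mem_fintype e, map_sum]
  refine Finset.sum_congr rfl fun ψ _ => ?_
  split_ifs
  · rw [map_mul, st_inner_inv H u hcent χ ψ, irr_inv ψ s]
  · rw [map_zero]

/-- the subsection trace identity in the form with `u⁻¹` -/
theorem st_trace' {G : Type*} [Group G] [Fintype G] (p : ℕ) [hp : Fact p.Prime]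
    (M : Ideal Cfsg.AlgInt) (hM : Cfsg.IsPModular p M) (H : Subgroup G) (u : G)
    (huH : u ∈ H)
    (hcent : ∀ h ∈ H, h * u = u * h) (hcent' : ∀ g : G, g * u = u * g → g ∈ H)
    (hu : ∃ k : ℕ, orderOf u = p ^ k)
    (e : Set (Cfsg.IrrCharacter H)) (B : Set (Cfsg.IrrCharacter G))
    (hind : Cfsg.IsInducedBlock M H e B) :
    ∑ᶠ χ ∈ B, ∑ᶠ s : H,
      Cfsg.pRegularPart p (Cfsg.blockPart e (fun c : H => (χ : G → ℂ) (u * (c : G)))) s *
        Cfsg.blockPart e (fun c : H => (χ : G → ℂ) (u⁻¹ * (c : G))) s⁻¹ =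
      (Nat.card H : ℂ) * (Cfsg.blockRank p e : ℂ) := by
  classical
  haveI : Fintype H := Fintype.ofFinite _
  haveI : Fintype (Cfsg.IrrCharacter G) := Fintype.ofFinite _
  have hHne : (Nat.card H : ℂ) ≠ 0 := by exact_mod_cast Nat.card_pos.ne'
  rw [← st_trace p M hM H u huH hcent hcent' hu e B hind, h7_finsum_mem_fintype B,
    h7_finsum_mem_fintype B, Finset.mul_sum]
  refine Finset.sum_congr rfl fun χ _ => ?_
  split_ifs
  · rw [finsum_eq_sum_of_fintype]
    unfold Cfsg.classInner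
    rw [← mul_assoc, mul_inv_cancel₀ hHne, one_mul]
    refine Finset.sum_congr rfl fun s _ => ?_
    rw [st_part_inv H u hcent e χ s]
  · rw [mul_zero]

end

section

theorem st_main {G : Type*} [Group G] [Fintype G] (p : ℕ) [Fact p.Prime] (M : Ideal Cfsg.AlgInt) (hM : Cfsg.IsPModular p M) (B : Set (Cfsg.IrrCharacter G)) (u : G) (hu : ∃ k : ℕ, orderOf u = p ^ k) (e : Set (Cfsg.IrrCharacter (Subgroup.centralizer (Subgroup.zpowers u : Set G)))) (hBe : Cfsg.IsBrauerPairOf p M B (Subgroup.zpowers u) e) : ∑ᶠ χ ∈ B, ∑ᶠ s : Subgroup.centralizer (Subgroup.zpowers u : Set G), Cfsg.pRegularPart p (Cfsg.blockPart e (fun c : Subgroup.centralizer (Subgroup.zpowers u : Set G) => (χ : G → ℂ) (u * c))) s * Cfsg.blockPart e (fun c : Subgroup.centralizer (Subgroup.zpowers u : Set G) => (χ : G → ℂ) (u⁻¹ * c)) s⁻¹ = (Nat.card (Subgroup.centralizer (Subgroup.zpowers u : Set G)) : ℂ) * (Cfsg.blockRank p e : ℂ) := by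
  have hind := tp_pair_induced p M hM (Subgroup.zpowers u) B e hBe
  have huH : u ∈ Subgroup.centralizer (Subgroup.zpowers u : Set G) := by
    rw [Subgroup.mem_centralizer_iff]
    intro t ht
    obtain ⟨n, rfl⟩ := Subgroup.mem_zpowers_iff.mp ht
    exact ((Commute.refl u).zpow_left n).eq
  have hcent : ∀ h ∈ Subgroup.centralizer (Subgroup.zpowers u : Set G), h * u = u * h := by
    intro h hh
    exact (Subgroup.mem_centralizer_iff.mp hh u (Subgroup.mem_zpowers u)).symm
  have hcent' : ∀ g : G, g * u = u * g → g ∈ Subgroup.centralizer (Subgroup.zpowers u : Set G) := by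
    intro g hg
    rw [Subgroup.mem_centralizer_iff]
    intro t ht
    obtain ⟨n, rfl⟩ := Subgroup.mem_zpowers_iff.mp ht
    have h2 : Commute g u := hg
    exact ((h2.zpow_right n).eq).symm
  exact st_trace' p M hM _ u huH hcent hcent' hu e B hind

end

end Cfsg.Agent.Lib.Helper25
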