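import Mathlib
import Cfsg.Agent.Lib.Helper25.SubsectionTrace
import Cfsg.Agent.Lib.Helper25.HeightZeroInd
import Cfsg.Agent.Lib.Helper25.OkuyamaBlau
import Cfsg.Agent.Lib.Helper25.BrauerFeit2

/-!
Subsection matrices W^u(χ,ψ) = [(θ_χ)_b°, (θ_ψ)_b] (θ_χ(c) = χ(uc)): idempotency (su_idem), congruences and unit property of the rational part (su_M0), and the formula in terms of multiplicities and central values (su_W_formula). Towards k(B)^2 ≤ p^{2d} l(b).
-/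

set_option autoImplicit false
set_option linter.style.haveILetI false
set_option linter.unusedVariables false
set_option warn.classDefReducibility false
set_option maxHeartbeats 1600000

namespace Cfsg.Agent.Lib.Helper25
open Cfsg.Agent.Lib.helper2
open Cfsg.Agent.Lib.helper7
open scoped ComplexConjugate
open Cfsg.Agent.Lib.Helper24
section

open Classical in
/-- the block part as a finite linear combination -/
theorem su_part_fun {H : Type*} [Group H] [Fintype H] [Fintype (Cfsg.IrrCharacter H)]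
    (e : Set (Cfsg.IrrCharacter H)) (θ : H → ℂ) :
    Cfsg.blockPart e θ = ∑ ψ : Cfsg.IrrCharacter H,
      (if ψ ∈ e then Cfsg.classInner θ (ψ : H → ℂ) else 0) • (ψ : H → ℂ) := by
  funext s
  rw [ib_blockPart_apply, h7_finsum_mem_fintype, Finset.sum_apply]
  refine Finset.sum_congr rfl fun ψ _ => ?_
  rw [Pi.smul_apply, smul_eq_mul]
  split_ifs
  · rfl
  · rw [zero_mul]

/-- the block part is a class function -/
theorem su_part_class {H : Type*} [Group H] [Fintype H]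
    (e : Set (Cfsg.IrrCharacter H)) (θ : H → ℂ) (g h : H) :
    Cfsg.blockPart e θ (h * g * h⁻¹) = Cfsg.blockPart e θ g := by
  classical
  haveI : Fintype (Cfsg.IrrCharacter H) := Fintype.ofFinite _
  rw [su_part_fun, Finset.sum_apply, Finset.sum_apply]
  refine Finset.sum_congr rfl fun ψ _ => ?_
  rw [Pi.smul_apply, Pi.smul_apply, irr_conj_invariant]

/-- the `p`-regular part of a block part is orthogonal to the characters outside the block -/
theorem su_reg_out {H : Type*} [Group H] [Fintype H] [Fintype (Cfsg.IrrCharacter H)]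
    {p : ℕ} [hp : Fact p.Prime] {M : Ideal Cfsg.AlgInt} (hM : Cfsg.IsPModular p M)
    (ξ₀ : Cfsg.IrrCharacter H) (θ : H → ℂ) (ψ : Cfsg.IrrCharacter H)
    (hψ : ψ ∉ Cfsg.blockOf M (ξ₀ : H → ℂ)) :
    Cfsg.classInner (Cfsg.pRegularPart p (Cfsg.blockPart (Cfsg.blockOf M (ξ₀ : H → ℂ)) θ))
      (ψ : H → ℂ) = 0 := by
  classical
  rw [su_part_fun, bp_inner_reg_sum]
  apply Finset.sum_eq_zero
  intro ψ' _
  split_ifs with h
  · rw [cd_inner_reg_symm, cd_block_orth hM ξ₀ ψ hψ ψ' h, map_zero, mul_zero]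
  · rw [zero_mul]

/-- pairing the `p`-regular part of a block part with a block part is pairing with the function -/
theorem su_stepa {H : Type*} [Group H] [Fintype H] [Fintype (Cfsg.IrrCharacter H)]
    {p : ℕ} [hp : Fact p.Prime] {M : Ideal Cfsg.AlgInt} (hM : Cfsg.IsPModular p M)
    (ξ₀ : Cfsg.IrrCharacter H) (θ θ' : H → ℂ) (hθ' : ∀ g h : H, θ' (h * g * h⁻¹) = θ' g) :
    Cfsg.classInner (Cfsg.pRegularPart p (Cfsg.blockPart (Cfsg.blockOf M (ξ₀ : H → ℂ)) θ))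
      (Cfsg.blockPart (Cfsg.blockOf M (ξ₀ : H → ℂ)) θ') =
    Cfsg.classInner (Cfsg.pRegularPart p (Cfsg.blockPart (Cfsg.blockOf M (ξ₀ : H → ℂ)) θ)) θ' := by
  classical
  set X := Cfsg.pRegularPart p (Cfsg.blockPart (Cfsg.blockOf M (ξ₀ : H → ℂ)) θ) with hX
  rw [Cfsg.Agent.Lib.Helper25.classInner_conj_symm (Cfsg.blockPart _ θ') X,
    Cfsg.Agent.Lib.Helper25.classInner_conj_symm θ' X]
  congr 1
  conv_lhs => rw [su_part_fun]
  conv_rhs => rw [classFunction_expansion θ' hθ']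
  rw [classInner_sum_left, classInner_sum_left]
  refine Finset.sum_congr rfl fun ψ _ => ?_
  rw [classInner_smul_left, classInner_smul_left]
  split_ifs with h
  · rfl
  · rw [zero_mul, Cfsg.Agent.Lib.Helper25.classInner_conj_symm X (ψ : H → ℂ),
      su_reg_out hM ξ₀ θ ψ h, map_zero, mul_zero]

end

section

/-- the subsection matrix `W(χ, ψ) = [F_χ°, F_ψ]` is idempotent: `Σ_{ψ ∈ B} W(χ,ψ) conj W(χ',ψ) =
W(χ,χ')` -/
theorem su_idem {G : Type*} [Group G] [Fintype G] (p : ℕ) [hp : Fact p.Prime]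
    (M : Ideal Cfsg.AlgInt) (hM : Cfsg.IsPModular p M) (H : Subgroup G) [Fintype H] (u : G)
    (huH : u ∈ H)
    (hcent : ∀ h ∈ H, h * u = u * h) (hcent' : ∀ g : G, g * u = u * g → g ∈ H)
    (hu : ∃ k : ℕ, orderOf u = p ^ k)
    (e : Set (Cfsg.IrrCharacter H)) (B : Set (Cfsg.IrrCharacter G))
    (hind : Cfsg.IsInducedBlock M H e B) (χ χ' : Cfsg.IrrCharacter G) :
    ∑ᶠ ψ ∈ B, Cfsg.classInner
        (Cfsg.pRegularPart p (Cfsg.blockPart e (fun c : H => (χ : G → ℂ) (u * (c : G)))))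
        (Cfsg.blockPart e (fun c : H => (ψ : G → ℂ) (u * (c : G)))) *
      conj (Cfsg.classInner
        (Cfsg.pRegularPart p (Cfsg.blockPart e (fun c : H => (χ' : G → ℂ) (u * (c : G)))))
        (Cfsg.blockPart e (fun c : H => (ψ : G → ℂ) (u * (c : G))))) =
    Cfsg.classInner
        (Cfsg.pRegularPart p (Cfsg.blockPart e (fun c : H => (χ : G → ℂ) (u * (c : G)))))
        (Cfsg.blockPart e (fun c : H => (χ' : G → ℂ) (u * (c : G)))) := by
  classical
  haveI : Fintype (Cfsg.IrrCharacter G) := Fintype.ofFinite _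
  haveI : Fintype (Cfsg.IrrCharacter H) := Fintype.ofFinite _
  have hMp := hM.2.1.isPrime
  have hHne : (Nat.card H : ℂ) ≠ 0 := by exact_mod_cast Nat.card_pos.ne'
  obtain ⟨ξ₀, he⟩ := hind.1
  subst he
  set θ : Cfsg.IrrCharacter G → H → ℂ := fun χ c => (χ : G → ℂ) (u * (c : G)) with hθ
  have hθcl : ∀ (χ : Cfsg.IrrCharacter G) (g h : H), θ χ (h * g * h⁻¹) = θ χ g :=
    fun χ g h => st_theta_class H u hcent χ g h
  set F : Cfsg.IrrCharacter G → H → ℂ :=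
    fun χ => Cfsg.blockPart (Cfsg.blockOf M (ξ₀ : H → ℂ)) (θ χ) with hF
  set X : Cfsg.IrrCharacter G → H → ℂ := fun χ => Cfsg.pRegularPart p (F χ) with hX
  have hXcl : ∀ (χ : Cfsg.IrrCharacter G) (g h : H), X χ (h * g * h⁻¹) = X χ g :=
    fun χ g h => cd_pRegularPart_conj p (F χ) (fun g h => su_part_class _ (θ χ) g h) g h
  have hXsing : ∀ (χ : Cfsg.IrrCharacter G) (s : H), p ∣ orderOf s → X χ s = 0 :=
    fun χ s hs => br_pRegularPart_sing p _ s hs
  have hXreg : ∀ (χ : Cfsg.IrrCharacter G) (s : H), ¬ p ∣ orderOf s → X χ s = F χ s :=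
    fun χ s hs => br_pRegularPart_reg p _ s hs
  -- step a
  have hstepa : ∀ χ ψ : Cfsg.IrrCharacter G,
      Cfsg.classInner (X χ) (F ψ) = Cfsg.classInner (X χ) (θ ψ) := by
    intro χ ψ
    exact su_stepa hM ξ₀ (θ χ) (θ ψ) (hθcl ψ)
  -- outside B
  have hout : ∀ χ ψ : Cfsg.IrrCharacter G, ψ ∉ B → Cfsg.classInner (X χ) (F ψ) = 0 := by
    intro χ ψ hψ
    unfold Cfsg.classInner
    rw [Finset.sum_eq_zero, mul_zero]
    intro s _
    by_cases hs : p ∣ orderOf s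
    · rw [hXsing χ s hs, zero_mul]
    · have : F ψ s = 0 := st_smt p M hM H u huH hcent hcent' hu _ B hind ψ hψ s hs
      rw [this, map_zero, mul_zero]
  show ∑ᶠ ψ ∈ B, Cfsg.classInner (X χ) (F ψ) * conj (Cfsg.classInner (X χ') (F ψ)) =
    Cfsg.classInner (X χ) (F χ')
  rw [h7_finsum_mem_fintype]
  have h1 : ∀ ψ : Cfsg.IrrCharacter G,
      (if ψ ∈ B then Cfsg.classInner (X χ) (F ψ) * conj (Cfsg.classInner (X χ') (F ψ)) else 0) =
      Cfsg.classInner (X χ) (θ ψ) * conj (Cfsg.classInner (X χ') (θ ψ)) := by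
    intro ψ
    split_ifs with h
    · rw [hstepa, hstepa]
    · rw [← hstepa, hout χ ψ h, zero_mul]
  rw [Finset.sum_congr rfl (fun ψ _ => h1 ψ)]
  -- expand
  have h2a : ∀ ψ : Cfsg.IrrCharacter G,
      Cfsg.classInner (X χ) (θ ψ) * conj (Cfsg.classInner (X χ') (θ ψ)) =
      (Nat.card H : ℂ)⁻¹ * ((Nat.card H : ℂ)⁻¹ * ∑ s : H, ∑ s' : H, X χ s * conj (X χ' s') *
        ((ψ : G → ℂ) (u * (s' : G)) * conj ((ψ : G → ℂ) (u * (s : G))))) := by
    intro ψ
    unfold Cfsg.classInner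
    rw [map_mul, map_inv₀, Complex.conj_natCast, map_sum, mul_mul_mul_comm, Finset.sum_mul_sum,
      mul_assoc]
    congr 2
    refine Finset.sum_congr rfl fun s _ => ?_
    refine Finset.sum_congr rfl fun s' _ => ?_
    rw [map_mul, Complex.conj_conj]
    simp only [hθ]
    ring
  have h2 : ∑ ψ : Cfsg.IrrCharacter G,
      Cfsg.classInner (X χ) (θ ψ) * conj (Cfsg.classInner (X χ') (θ ψ)) =
      (Nat.card H : ℂ)⁻¹ * ((Nat.card H : ℂ)⁻¹ * ∑ s : H, ∑ s' : H, X χ s * conj (X χ' s') *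
        ∑ ψ : Cfsg.IrrCharacter G, (ψ : G → ℂ) (u * (s' : G)) * conj ((ψ : G → ℂ) (u * (s : G)))) := by
    rw [Finset.sum_congr rfl (fun ψ _ => h2a ψ), ← Finset.mul_sum, ← Finset.mul_sum,
      Finset.sum_comm]
    congr 2
    refine Finset.sum_congr rfl fun s _ => ?_
    rw [Finset.sum_comm]
    refine Finset.sum_congr rfl fun s' _ => ?_
    rw [Finset.mul_sum]
  rw [h2]
  have h3 : ∀ s s' : H, X χ s * conj (X χ' s') *
        ∑ ψ : Cfsg.IrrCharacter G, (ψ : G → ℂ) (u * (s' : G)) * conj ((ψ : G → ℂ) (u * (s : G))) =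
      ∑ h : H, if h * s * h⁻¹ = s' then X χ s * conj (X χ' s') else 0 := by
    intro s s'
    have e1 : ∑ h : H, (if h * s * h⁻¹ = s' then X χ s * conj (X χ' s') else 0) =
        X χ s * conj (X χ' s') * ((Finset.univ.filter (fun h : H => h * s * h⁻¹ = s')).card : ℂ) := by
      rw [← Finset.sum_filter, Finset.sum_const, nsmul_eq_mul, mul_comm]
    rw [e1]
    by_cases hs : p ∣ orderOf s
    · rw [hXsing χ s hs, zero_mul, zero_mul, zero_mul]
    · by_cases hs' : p ∣ orderOf s'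
      · rw [hXsing χ' s' hs', map_zero, mul_zero, zero_mul, zero_mul]
      · rw [st_col_count, st_count_eq p H u hcent hcent' hu s s' hs hs']
  have h4 : ∀ s : H, ∑ s' : H, X χ s * conj (X χ' s') *
        ∑ ψ : Cfsg.IrrCharacter G, (ψ : G → ℂ) (u * (s' : G)) * conj ((ψ : G → ℂ) (u * (s : G))) =
      (Nat.card H : ℂ) * (X χ s * conj (X χ' s)) := by
    intro s
    rw [Finset.sum_congr rfl (fun s' _ => h3 s s'), Finset.sum_comm]
    have h5 : ∀ h : H, ∑ s' : H, (if h * s * h⁻¹ = s' then X χ s * conj (X χ' s') else 0) =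
        X χ s * conj (X χ' s) := by
      intro h
      rw [Finset.sum_ite_eq]
      simp only [Finset.mem_univ, if_true]
      rw [hXcl χ' s h]
    rw [Finset.sum_congr rfl (fun h _ => h5 h), Finset.sum_const, nsmul_eq_mul, Finset.card_univ,
      ← Nat.card_eq_fintype_card]
  rw [Finset.sum_congr rfl (fun s _ => h4 s), ← Finset.mul_sum]
  have e2 : (Nat.card H : ℂ)⁻¹ * ((Nat.card H : ℂ)⁻¹ *
      ((Nat.card H : ℂ) * ∑ s : H, X χ s * conj (X χ' s))) =
      (Nat.card H : ℂ)⁻¹ * ∑ s : H, X χ s * conj (X χ' s) := by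
    field_simp
  rw [e2]
  unfold Cfsg.classInner
  congr 1
  refine Finset.sum_congr rfl fun s _ => ?_
  by_cases hs : p ∣ orderOf s
  · rw [hXsing χ s hs, zero_mul, zero_mul]
  · rw [hXreg χ' s hs]

end

section

/-- `r(χ|_H, ψ)` is a local integer and is constant mod `M` for `ψ` in a block `b` with `b^G`
defined -/
theorem su_r_congr {G : Type*} [Group G] [Fintype G] (p : ℕ) [hp : Fact p.Prime]
    (M : Ideal Cfsg.AlgInt) (hM : Cfsg.IsPModular p M) (H : Subgroup G) [Fintype H]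
    (b : Set (Cfsg.IrrCharacter H)) (B : Set (Cfsg.IrrCharacter G))
    (hind : Cfsg.IsInducedBlock M H b B) (χ : Cfsg.IrrCharacter G)
    (ψ ψ₀ : Cfsg.IrrCharacter H) (hψ : ψ ∈ b) (hψ₀ : ψ₀ ∈ b) :
    Cfsg.MemLocalRing M (hz_r p (fun h : H => (χ : G → ℂ) (h : G)) (ψ : H → ℂ)) ∧
    Cfsg.MemLocalIdeal M (hz_r p (fun h : H => (χ : G → ℂ) (h : G)) (ψ : H → ℂ) -
      hz_r p (fun h : H => (χ : G → ℂ) (h : G)) (ψ₀ : H → ℂ)) := by
  classical
  haveI : Fintype (Cfsg.IrrCharacter G) := Fintype.ofFinite _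
  have hMp := hM.2.1.isPrime
  obtain ⟨χ₀, hB₀⟩ := hind.2.1
  have hχ₀ : χ₀ ∈ B := by
    rw [hB₀]
    exact h7_sameBlock_refl hMp _
  rw [hi_key, hi_key]
  set β := hz_beta p (χ : G → ℂ) with hβdef
  have hβ := hz_beta_conj p χ
  have hβR := hz_beta_mem p hM χ
  obtain ⟨_, hndG⟩ := hz_card_split (G := G) p
  obtain ⟨_, hndH⟩ := hz_card_split (G := H) p
  set mG := Nat.card G / p ^ (Nat.card G).factorization p with hmG
  set mH := Nat.card H / p ^ (Nat.card H).factorization p with hmH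
  have hcopH : mH.Coprime p := (Nat.Coprime.symm ((Nat.Prime.coprime_iff_not_dvd hp.out).mpr hndH))
  have huR : Cfsg.MemLocalRing M ((mG : ℂ) * ((mH : ℂ))⁻¹) :=
    h7_memLocalRing_mul hMp (h7_memLocalRing_natCast hMp mG) (h7_memLocalRing_inv_natCast hM mH hcopH)
  have h1 := hi_congr hMp H b B hind β hβ hβR ψ hψ χ₀ hχ₀
  have h2 := hi_congr hMp H b B hind β hβ hβR ψ₀ hψ₀ χ₀ hχ₀
  have h3 : Cfsg.MemLocalRing M (bm_omega β (χ₀ : G → ℂ)) := bm_omega_mem hMp β hβ hβR χ₀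
  constructor
  · apply h7_memLocalRing_mul hMp huR
    have e : bm_omega β (Cfsg.indFun H (ψ : H → ℂ)) =
        (bm_omega β (Cfsg.indFun H (ψ : H → ℂ)) - bm_omega β (χ₀ : G → ℂ)) +
          bm_omega β (χ₀ : G → ℂ) := by ring
    rw [e]
    exact h7_memLocalRing_add hMp (h7_memLocalRing_of_memLocalIdeal h1) h3
  · rw [← mul_sub]
    apply h7_memLocalIdeal_mul_left hMp huR
    have e : bm_omega β (Cfsg.indFun H (ψ : H → ℂ)) - bm_omega β (Cfsg.indFun H (ψ₀ : H → ℂ)) =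
        (bm_omega β (Cfsg.indFun H (ψ : H → ℂ)) - bm_omega β (χ₀ : G → ℂ)) -
          (bm_omega β (Cfsg.indFun H (ψ₀ : H → ℂ)) - bm_omega β (χ₀ : G → ℂ)) := by ring
    rw [e]
    exact h7_memLocalIdeal_sub hMp h1 h2

end

section

open Classical in
/-- for a height zero character `χ` of `b^G`, the weighted multiplicity sum
`Σ_{ψ ∈ b} [χ|_H, ψ] t_ψ` (`t_ψ` the cofactor of `ψ(1)` relative to the minimal `p`-part in `b`) is
a `p`-adic unit -/
theorem su_X_unit {G : Type*} [Group G] [Fintype G] (p : ℕ) [hp : Fact p.Prime]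
    (M : Ideal Cfsg.AlgInt) (hM : Cfsg.IsPModular p M) (H : Subgroup G) [Fintype H]
    [Fintype (Cfsg.IrrCharacter H)]
    (b : Set (Cfsg.IrrCharacter H)) (B : Set (Cfsg.IrrCharacter G))
    (hind : Cfsg.IsInducedBlock M H b B) (χ : Cfsg.IrrCharacter G) (hχ : χ ∈ B)
    (h0 : Cfsg.blockHeight p B (χ : G → ℂ) = 0)
    (t : Cfsg.IrrCharacter H → ℕ)
    (ht : ∀ ψ ∈ b, Cfsg.charDegree (ψ : H → ℂ) =
      p ^ sInf ((fun ψ : Cfsg.IrrCharacter H => (Cfsg.charDegree (ψ : H → ℂ)).factorization p) '' b)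
        * t ψ) :
    ¬ Cfsg.MemLocalIdeal M (∑ ψ : Cfsg.IrrCharacter H, if ψ ∈ b then
      Cfsg.classInner (fun h : H => (χ : G → ℂ) (h : G)) (ψ : H → ℂ) * (t ψ : ℂ) else 0) := by
  have hMp := hM.2.1.isPrime
  obtain ⟨ψ₀, hb⟩ := hind.1
  have hψ₀ : ψ₀ ∈ b := by
    rw [hb]
    exact h7_sameBlock_refl hMp _
  obtain ⟨ξ₁, hξ₁, hξ₁0⟩ := bf_exists_height_zero p b ⟨ψ₀, hψ₀⟩
  set ν := sInf ((fun ψ : Cfsg.IrrCharacter H =>
    (Cfsg.charDegree (ψ : H → ℂ)).factorization p) '' b) with hν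
  -- t ξ₁ is prime to p
  have htξ₁ : ¬ p ∣ t ξ₁ := by
    obtain ⟨t', ht', htp⟩ := hz_cofactor p b ξ₁ hξ₁
    have e : t' = t ξ₁ := by
      have h1 := ht ξ₁ hξ₁
      rw [ht'] at h1
      exact Nat.eq_of_mul_eq_mul_left (pow_pos hp.out.pos _) h1
    rw [← e]
    intro hd
    exact (htp.mp hd) hξ₁0
  set χH : H → ℂ := fun h : H => (χ : G → ℂ) (h : G) with hχH
  have hχHcl : ∀ g h : H, χH (h * g * h⁻¹) = χH g := by
    intro g h
    show (χ : G → ℂ) ((h * g * h⁻¹ : H) : G) = (χ : G → ℂ) (g : G)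
    rw [Subgroup.coe_mul, Subgroup.coe_mul, Subgroup.coe_inv]
    exact irr_conj_invariant χ _ _
  have hexp := classFunction_expansion χH hχHcl
  set a : Cfsg.IrrCharacter H → ℂ := fun ψ' => Cfsg.classInner χH (ψ' : H → ℂ) with ha
  have hnat : ∀ ψ' : Cfsg.IrrCharacter H, ∃ m : ℕ, a ψ' = (m : ℂ) := by
    intro ψ'
    exact classInner_character_nat
      (isCharacter_restrict (isCharacter_of_irr χ) H) (isCharacter_of_irr ψ')
  have haR : ∀ ψ', Cfsg.MemLocalRing M (a ψ') := by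
    intro ψ'
    obtain ⟨m, hm⟩ := hnat ψ'
    rw [hm]
    exact h7_memLocalRing_natCast hMp m
  have hcrit := (hi_main p M hM H b B hind χ ξ₁ hξ₁).2 hχ h0
  have hE : Cfsg.classInner (fun h : H => if p ∣ orderOf h then (0 : ℂ) else
      ((p ^ (Nat.card H).factorization p : ℕ) : ℂ) * (χ : G → ℂ) h) (ξ₁ : H → ℂ) /
      (ξ₁ : H → ℂ) 1 = hz_r p χH (ξ₁ : H → ℂ) := rfl
  rw [hE] at hcrit
  have hr1 : hz_r p χH (ξ₁ : H → ℂ) = ∑ ψ' : Cfsg.IrrCharacter H,
      a ψ' * hz_r p (ψ' : H → ℂ) (ξ₁ : H → ℂ) := by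
    unfold hz_r
    rw [hz_tilde_eq, classInner_smul_left]
    conv_lhs => rw [hexp]
    rw [bp_inner_reg_sum, Finset.mul_sum, Finset.sum_div]
    refine Finset.sum_congr rfl fun ψ' _ => ?_
    rw [hz_tilde_eq, classInner_smul_left]
    ring
  have hout : ∀ ψ' : Cfsg.IrrCharacter H, ψ' ∉ b →
      hz_r p (ψ' : H → ℂ) (ξ₁ : H → ℂ) = 0 := by
    intro ψ' hψ'
    unfold hz_r
    rw [hz_tilde_eq, classInner_smul_left]
    rw [hb] at hψ' hξ₁
    rw [cd_block_orth hM ψ₀ ψ' hψ' ξ₁ hξ₁, mul_zero, zero_div]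
  intro hX
  apply hcrit
  apply hz_cancel hM _ (t ξ₁) htξ₁
  set ρ₁ := hz_r p (ξ₁ : H → ℂ) (ξ₁ : H → ℂ) with hρ₁
  have e : hz_r p χH (ξ₁ : H → ℂ) * (t ξ₁ : ℂ) =
      ρ₁ * (∑ ψ : Cfsg.IrrCharacter H, if ψ ∈ b then a ψ * (t ψ : ℂ) else 0) +
      ∑ ψ : Cfsg.IrrCharacter H, if ψ ∈ b then
        a ψ * (t ψ : ℂ) * (hz_r p (ξ₁ : H → ℂ) (ψ : H → ℂ) - ρ₁) else 0 := by
    rw [hr1, Finset.sum_mul, Finset.mul_sum, ← Finset.sum_add_distrib]
    refine Finset.sum_congr rfl fun ψ _ => ?_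
    split_ifs with h
    · rw [mul_assoc, hz_rel p ψ ξ₁ ν (t ψ) (t ξ₁) (ht ψ h) (ht ξ₁ hξ₁)]
      ring
    · rw [hout ψ h]
      ring
  rw [e]
  apply h7_memLocalIdeal_add hMp
  · exact h7_memLocalIdeal_mul_left hMp (hz_r_mem p hM ξ₁ ξ₁) hX
  · apply h7_memLocalIdeal_sum hMp
    intro ψ _
    split_ifs with h
    · apply h7_memLocalIdeal_mul_left hMp
        (h7_memLocalRing_mul hMp (haR ψ) (h7_memLocalRing_natCast hMp _))
      apply hz_r_congr p hM ξ₁ ψ ξ₁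
      rw [hb] at h hξ₁
      exact h7_sameBlock_trans hMp (h7_sameBlock_symm h) hξ₁
    · exact h7_memLocalIdeal_zero hMp

end

section

open Classical in
/-- the rational part of the contribution of a subsection with `b^G = B`, for height zero
characters `χ, ψ ∈ B`, is a `p`-adic unit: `p^{d(b)} [(χ|_H)_b°, (ψ|_H)_b] ∉ M` -/
theorem su_M0 {G : Type*} [Group G] [Fintype G] (p : ℕ) [hp : Fact p.Prime]
    (M : Ideal Cfsg.AlgInt) (hM : Cfsg.IsPModular p M) (H : Subgroup G) [Fintype H]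
    [Fintype (Cfsg.IrrCharacter H)]
    (b : Set (Cfsg.IrrCharacter H)) (B : Set (Cfsg.IrrCharacter G))
    (hind : Cfsg.IsInducedBlock M H b B) (χ ψ : Cfsg.IrrCharacter G) (hχ : χ ∈ B) (hψ : ψ ∈ B)
    (hχ0 : Cfsg.blockHeight p B (χ : G → ℂ) = 0) (hψ0 : Cfsg.blockHeight p B (ψ : G → ℂ) = 0) :
    ¬ Cfsg.MemLocalIdeal M (∑ ψ' : Cfsg.IrrCharacter H, ∑ ψ'' : Cfsg.IrrCharacter H,
      if ψ' ∈ b ∧ ψ'' ∈ b then
        Cfsg.classInner (fun h : H => (χ : G → ℂ) (h : G)) (ψ' : H → ℂ) *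
        Cfsg.classInner (fun h : H => (ψ : G → ℂ) (h : G)) (ψ'' : H → ℂ) *
        ((p : ℂ) ^ Cfsg.blockDefect p b *
          Cfsg.classInner (Cfsg.pRegularPart p (ψ' : H → ℂ)) (ψ'' : H → ℂ)) else 0) := by
  have hMp := hM.2.1.isPrime
  obtain ⟨ψ₀, hb⟩ := hind.1
  have hψ₀ : ψ₀ ∈ b := by
    rw [hb]
    exact h7_sameBlock_refl hMp _
  set ν := sInf ((fun ψ : Cfsg.IrrCharacter H =>
    (Cfsg.charDegree (ψ : H → ℂ)).factorization p) '' b) with hν
  set aH := (Nat.card H).factorization p with haH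
  set d := Cfsg.blockDefect p b with hd
  have hdef : d = aH - ν := rfl
  have hνle : ν ≤ aH := by
    obtain ⟨hd1, hd2, _⟩ := h7_charDegree_props ψ₀
    have h1 : ν ≤ (Cfsg.charDegree (ψ₀ : H → ℂ)).factorization p :=
      Nat.sInf_le ⟨ψ₀, hψ₀, rfl⟩
    have h2 : (Cfsg.charDegree (ψ₀ : H → ℂ)).factorization p ≤ aH :=
      (Nat.factorization_le_iff_dvd hd2.ne' Nat.card_pos.ne').mpr hd1 p
    omega
  -- cofactors
  have hcof : ∀ ψ' : Cfsg.IrrCharacter H, ∃ t : ℕ, ψ' ∈ b →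
      Cfsg.charDegree (ψ' : H → ℂ) = p ^ ν * t := by
    intro ψ'
    by_cases h : ψ' ∈ b
    · obtain ⟨t, ht, _⟩ := hz_cofactor p b ψ' h
      exact ⟨t, fun _ => ht⟩
    · exact ⟨0, fun h' => absurd h' h⟩
  choose t ht using hcof
  -- restrictions
  set χH : H → ℂ := fun h : H => (χ : G → ℂ) (h : G) with hχH
  set ψH : H → ℂ := fun h : H => (ψ : G → ℂ) (h : G) with hψH
  have hχHcl : ∀ g h : H, χH (h * g * h⁻¹) = χH g := by
    intro g h
    show (χ : G → ℂ) ((h * g * h⁻¹ : H) : G) = (χ : G → ℂ) (g : G)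
    rw [Subgroup.coe_mul, Subgroup.coe_mul, Subgroup.coe_inv]
    exact irr_conj_invariant χ _ _
  have hexp := classFunction_expansion χH hχHcl
  set a : Cfsg.IrrCharacter H → ℂ := fun ψ' => Cfsg.classInner χH (ψ' : H → ℂ) with ha
  set a' : Cfsg.IrrCharacter H → ℂ := fun ψ' => Cfsg.classInner ψH (ψ' : H → ℂ) with ha'
  have ha'R : ∀ ψ', Cfsg.MemLocalRing M (a' ψ') := by
    intro ψ'
    obtain ⟨m, hm⟩ := classInner_character_nat
      (isCharacter_restrict (isCharacter_of_irr ψ) H) (isCharacter_of_irr ψ')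
    show Cfsg.MemLocalRing M (Cfsg.classInner ψH (ψ' : H → ℂ))
    rw [show Cfsg.classInner ψH (ψ' : H → ℂ) = (m : ℂ) from hm]
    exact h7_memLocalRing_natCast hMp m
  -- inner sum over ψ'
  have hinner : ∀ ψ'' : Cfsg.IrrCharacter H, ψ'' ∈ b →
      ∑ ψ' : Cfsg.IrrCharacter H, (if ψ' ∈ b then
        a ψ' * Cfsg.classInner (Cfsg.pRegularPart p (ψ' : H → ℂ)) (ψ'' : H → ℂ) else 0) =
      Cfsg.classInner (Cfsg.pRegularPart p χH) (ψ'' : H → ℂ) := by
    intro ψ'' hψ''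
    conv_rhs => rw [hexp]
    rw [bp_inner_reg_sum]
    refine Finset.sum_congr rfl fun ψ' _ => ?_
    split_ifs with h
    · rfl
    · rw [hb] at h hψ''
      rw [cd_block_orth hM ψ₀ ψ' h ψ'' hψ'', mul_zero]
  -- p^d [χH°, ψ''] = t ψ'' * r(χH, ψ'')
  have hp0 : (p : ℂ) ≠ 0 := by exact_mod_cast hp.out.ne_zero
  have hpd : ∀ ψ'' : Cfsg.IrrCharacter H, ψ'' ∈ b →
      (p : ℂ) ^ d * Cfsg.classInner (Cfsg.pRegularPart p χH) (ψ'' : H → ℂ) =
      (t ψ'' : ℂ) * hz_r p χH (ψ'' : H → ℂ) := by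
    intro ψ'' hψ''
    obtain ⟨_, hd2, hd3⟩ := h7_charDegree_props ψ''
    unfold hz_r
    rw [hz_tilde_eq, classInner_smul_left, ← hd3, ht ψ'' hψ'']
    have htne : (t ψ'' : ℂ) ≠ 0 := by
      intro h
      have : t ψ'' = 0 := by exact_mod_cast h
      have h2 := ht ψ'' hψ''
      rw [this, mul_zero] at h2
      omega
    have haH' : aH = d + ν := by omega
    push_cast
    rw [← haH, haH', pow_add]
    field_simp
  -- rewrite the double sum
  have hsum : (∑ ψ' : Cfsg.IrrCharacter H, ∑ ψ'' : Cfsg.IrrCharacter H,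
      if ψ' ∈ b ∧ ψ'' ∈ b then a ψ' * a' ψ'' * ((p : ℂ) ^ d *
          Cfsg.classInner (Cfsg.pRegularPart p (ψ' : H → ℂ)) (ψ'' : H → ℂ)) else 0) =
      ∑ ψ'' : Cfsg.IrrCharacter H, if ψ'' ∈ b then
        a' ψ'' * (t ψ'' : ℂ) * hz_r p χH (ψ'' : H → ℂ) else 0 := by
    rw [Finset.sum_comm]
    refine Finset.sum_congr rfl fun ψ'' _ => ?_
    by_cases h : ψ'' ∈ b
    · rw [if_pos h, mul_assoc, ← hpd ψ'' h, ← hinner ψ'' h, Finset.mul_sum, Finset.mul_sum]
      refine Finset.sum_congr rfl fun ψ' _ => ?_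
      by_cases h' : ψ' ∈ b
      · rw [if_pos ⟨h', h⟩, if_pos h']
        ring
      · rw [if_neg (fun hh => h' hh.1), if_neg h']
        ring
    · rw [if_neg h]
      apply Finset.sum_eq_zero
      intro ψ' _
      rw [if_neg (fun hh => h hh.2)]
  show ¬ Cfsg.MemLocalIdeal M (∑ ψ' : Cfsg.IrrCharacter H, ∑ ψ'' : Cfsg.IrrCharacter H,
      if ψ' ∈ b ∧ ψ'' ∈ b then a ψ' * a' ψ'' * ((p : ℂ) ^ d *
          Cfsg.classInner (Cfsg.pRegularPart p (ψ' : H → ℂ)) (ψ'' : H → ℂ)) else 0)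
  rw [hsum]
  -- the unit parts
  set ρ := hz_r p χH (ψ₀ : H → ℂ) with hρ
  have hρR : Cfsg.MemLocalRing M ρ := (su_r_congr p M hM H b B hind χ ψ₀ ψ₀ hψ₀ hψ₀).1
  have hρ' : ¬ Cfsg.MemLocalIdeal M ρ := (hi_main p M hM H b B hind χ ψ₀ hψ₀).2 hχ hχ0
  have hX := su_X_unit p M hM H b B hind ψ hψ hψ0 t (fun ψ' h => ht ψ' h)
  set X := ∑ ψ' : Cfsg.IrrCharacter H, if ψ' ∈ b then
      Cfsg.classInner (fun h : H => (ψ : G → ℂ) (h : G)) (ψ' : H → ℂ) * (t ψ' : ℂ) else 0 with hXdef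
  have hXR : Cfsg.MemLocalRing M X := by
    apply h7_memLocalRing_sum hMp
    intro ψ' _
    split_ifs
    · exact h7_memLocalRing_mul hMp (ha'R ψ') (h7_memLocalRing_natCast hMp _)
    · exact h7_memLocalRing_zero hMp
  intro hmem
  have hprod : Cfsg.MemLocalIdeal M (ρ * X) := by
    have e : ρ * X = (∑ ψ'' : Cfsg.IrrCharacter H, if ψ'' ∈ b then
        a' ψ'' * (t ψ'' : ℂ) * hz_r p χH (ψ'' : H → ℂ) else 0) -
        ∑ ψ'' : Cfsg.IrrCharacter H, if ψ'' ∈ b then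
          a' ψ'' * (t ψ'' : ℂ) * (hz_r p χH (ψ'' : H → ℂ) - ρ) else 0 := by
      rw [hXdef, Finset.mul_sum, ← Finset.sum_sub_distrib]
      refine Finset.sum_congr rfl fun ψ'' _ => ?_
      split_ifs
      · ring
      · ring
    rw [e]
    apply h7_memLocalIdeal_sub hMp hmem
    apply h7_memLocalIdeal_sum hMp
    intro ψ'' _
    split_ifs with h
    · apply h7_memLocalIdeal_mul_left hMp
        (h7_memLocalRing_mul hMp (ha'R ψ'') (h7_memLocalRing_natCast hMp _))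
      exact (su_r_congr p M hM H b B hind χ ψ'' ψ₀ h hψ₀).2
    · exact h7_memLocalIdeal_zero hMp
  rcases h7_memLocalIdeal_mul_cases hMp hρR hXR hprod with h | h
  · exact hρ' h
  · exact hX h

end

section

/-- expansion of `[(Σ c_ψ ψ)°, Σ c'_ψ ψ]` -/
theorem su_W_expand {H : Type*} [Group H] [Fintype H] [Fintype (Cfsg.IrrCharacter H)]
    (p : ℕ) (c c' : Cfsg.IrrCharacter H → ℂ) :
    Cfsg.classInner (Cfsg.pRegularPart p (∑ ψ : Cfsg.IrrCharacter H, c ψ • (ψ : H → ℂ)))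
      (∑ ψ : Cfsg.IrrCharacter H, c' ψ • (ψ : H → ℂ)) =
    ∑ ψ' : Cfsg.IrrCharacter H, ∑ ψ'' : Cfsg.IrrCharacter H,
      c ψ' * conj (c' ψ'') *
        Cfsg.classInner (Cfsg.pRegularPart p (ψ' : H → ℂ)) (ψ'' : H → ℂ) := by
  rw [bp_inner_reg_sum]
  refine Finset.sum_congr rfl fun ψ' _ => ?_
  rw [Cfsg.Agent.Lib.Helper25.classInner_conj_symm
    (∑ ψ : Cfsg.IrrCharacter H, c' ψ • (ψ : H → ℂ)) (Cfsg.pRegularPart p (ψ' : H → ℂ)),
    classInner_sum_left, map_sum, Finset.mul_sum]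
  refine Finset.sum_congr rfl fun ψ'' _ => ?_
  rw [classInner_smul_left, map_mul,
    ← Cfsg.Agent.Lib.Helper25.classInner_conj_symm (ψ'' : H → ℂ)
      (Cfsg.pRegularPart p (ψ' : H → ℂ))]
  ring

/-- translating by a power of a central element multiplies an irreducible character by a power
of its central value -/
theorem su_shift_pow {H : Type*} [Group H] (ψ : Cfsg.IrrCharacter H) (z : H) (lam : ℂ)
    (hlam : ∀ c : H, (ψ : H → ℂ) (z * c) = lam * (ψ : H → ℂ) c) (j : ℕ) (c : H) :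
    (ψ : H → ℂ) (z ^ j * c) = lam ^ j * (ψ : H → ℂ) c := by
  induction j generalizing c with
  | zero => simp
  | succ j ih =>
    rw [pow_succ', mul_assoc, hlam, ih, pow_succ']
    ring

open Classical in
/-- inner products of `c ↦ χ(y^j c)` with the irreducible characters of `H` -/
theorem su_theta_inner {G : Type*} [Group G] [Fintype G] (H : Subgroup G) [Fintype H]
    [Fintype (Cfsg.IrrCharacter H)] (y : G) (hyH : y ∈ H)
    (hcent : ∀ h ∈ H, h * y = y * h) (χ : Cfsg.IrrCharacter G)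
    (lam : Cfsg.IrrCharacter H → ℂ)
    (hlam : ∀ (ψ : Cfsg.IrrCharacter H) (c : H),
      (ψ : H → ℂ) ((⟨y, hyH⟩ : H) * c) = lam ψ * (ψ : H → ℂ) c)
    (j : ℕ) (ψ'' : Cfsg.IrrCharacter H) :
    Cfsg.classInner (fun c : H => (χ : G → ℂ) (y ^ j * (c : G))) (ψ'' : H → ℂ) =
      Cfsg.classInner (fun h : H => (χ : G → ℂ) (h : G)) (ψ'' : H → ℂ) * lam ψ'' ^ j := by
  set χH : H → ℂ := fun h : H => (χ : G → ℂ) (h : G) with hχH
  have hχHcl : ∀ g h : H, χH (h * g * h⁻¹) = χH g := by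
    intro g h
    show (χ : G → ℂ) ((h * g * h⁻¹ : H) : G) = (χ : G → ℂ) (g : G)
    rw [Subgroup.coe_mul, Subgroup.coe_mul, Subgroup.coe_inv]
    exact irr_conj_invariant χ _ _
  have hexp := classFunction_expansion χH hχHcl
  have hfun : (fun c : H => (χ : G → ℂ) (y ^ j * (c : G))) =
      ∑ ψ' : Cfsg.IrrCharacter H,
        (Cfsg.classInner χH (ψ' : H → ℂ) * lam ψ' ^ j) • (ψ' : H → ℂ) := by
    funext c
    have h1 := congrFun hexp ((⟨y, hyH⟩ : H) ^ j * c)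
    rw [Finset.sum_apply] at h1 ⊢
    have h2 : χH ((⟨y, hyH⟩ : H) ^ j * c) = (χ : G → ℂ) (y ^ j * (c : G)) := by
      show (χ : G → ℂ) ((((⟨y, hyH⟩ : H) ^ j * c : H)) : G) = _
      rw [Subgroup.coe_mul, Subgroup.coe_pow]
    rw [← h2, h1]
    refine Finset.sum_congr rfl fun ψ' _ => ?_
    rw [Pi.smul_apply, Pi.smul_apply, smul_eq_mul, smul_eq_mul,
      su_shift_pow ψ' _ (lam ψ') (hlam ψ') j c]
    ring
  rw [hfun, classInner_sum_left, Finset.sum_eq_single ψ'']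
  · rw [classInner_smul_left, irr_classInner, if_pos rfl, mul_one]
  · intro ψ' _ hne
    rw [classInner_smul_left, irr_classInner, if_neg hne, mul_zero]
  · intro h
    exact absurd (Finset.mem_univ _) h

end

section

open Classical in
/-- the subsection matrix entry for `u = y^j` in terms of multiplicities and central values -/
theorem su_W_formula {G : Type*} [Group G] [Fintype G] (p : ℕ) (H : Subgroup G) [Fintype H]
    [Fintype (Cfsg.IrrCharacter H)] (y : G) (hyH : y ∈ H)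
    (hcent : ∀ h ∈ H, h * y = y * h) (b : Set (Cfsg.IrrCharacter H))
    (χ ψ : Cfsg.IrrCharacter G)
    (lam : Cfsg.IrrCharacter H → ℂ)
    (hlam : ∀ (ψ : Cfsg.IrrCharacter H) (c : H),
      (ψ : H → ℂ) ((⟨y, hyH⟩ : H) * c) = lam ψ * (ψ : H → ℂ) c)
    (j : ℕ) :
    Cfsg.classInner
      (Cfsg.pRegularPart p (Cfsg.blockPart b (fun c : H => (χ : G → ℂ) (y ^ j * (c : G)))))
      (Cfsg.blockPart b (fun c : H => (ψ : G → ℂ) (y ^ j * (c : G)))) =
    ∑ ψ' : Cfsg.IrrCharacter H, ∑ ψ'' : Cfsg.IrrCharacter H,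
      if ψ' ∈ b ∧ ψ'' ∈ b then
        Cfsg.classInner (fun h : H => (χ : G → ℂ) (h : G)) (ψ' : H → ℂ) * lam ψ' ^ j *
        conj (Cfsg.classInner (fun h : H => (ψ : G → ℂ) (h : G)) (ψ'' : H → ℂ) * lam ψ'' ^ j) *
        Cfsg.classInner (Cfsg.pRegularPart p (ψ' : H → ℂ)) (ψ'' : H → ℂ) else 0 := by
  rw [su_part_fun b, su_part_fun b, su_W_expand]
  refine Finset.sum_congr rfl fun ψ' _ => ?_
  refine Finset.sum_congr rfl fun ψ'' _ => ?_
  rw [su_theta_inner H y hyH hcent χ lam hlam j ψ', su_theta_inner H y hyH hcent ψ lam hlam j ψ'']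
  by_cases h' : ψ' ∈ b
  · by_cases h'' : ψ'' ∈ b
    · rw [if_pos h', if_pos h'', if_pos ⟨h', h''⟩]
    · rw [if_neg h'', if_neg (show ¬ (ψ' ∈ b ∧ ψ'' ∈ b) from fun hh => h'' hh.2), map_zero,
        mul_zero, zero_mul]
  · rw [if_neg h', if_neg (show ¬ (ψ' ∈ b ∧ ψ'' ∈ b) from fun hh => h' hh.1), zero_mul, zero_mul]

end

end Cfsg.Agent.Lib.Helper25
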