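import Mathlib
import Cfsg.Agent.Lib.Helper25.SubsectionMatrix
import Cfsg.Agent.Lib.helper7.SecondMain3
import Cfsg.Agent.S0919

/-!
Brauer's formula k(B) = Σ_{(x,b)} l(b) over subsections (sc_main): p-part function sc_pp, section decomposition of sums of class functions (sc_section_sum), a class function is the sum of its block parts (sc_sum_blockPart), local sums (sc_local_sum, sc_per_x).
-/

set_option autoImplicit false
set_option linter.style.haveILetI false
set_option linter.unusedVariables false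
set_option warn.classDefReducibility false
set_option maxHeartbeats 1600000

namespace Cfsg.Agent.Lib.Helper25
open Cfsg.Agent.Lib.helper2
open Cfsg.Agent.Lib.helper7
open scoped ComplexConjugate
section

open Classical in
/-- the `p`-part of an element of a finite group -/
noncomputable def sc_pp {G : Type*} [Group G] (p : ℕ) (g : G) : G :=
  if h : ∃ z, Cfsg.IsPPart p g z then h.choose else 1

theorem sc_pp_spec {G : Type*} [Group G] [Finite G] (p : ℕ) [hp : Fact p.Prime] (g : G) :
    Cfsg.IsPPart p g (sc_pp p g) := by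
  have hex : ∃ z, Cfsg.IsPPart p g z := by
    obtain ⟨r, u, hru, hcomm, hr, hu, -, -⟩ := pp_exists p hp.out g
    exact ⟨u, r, by rw [← hcomm.eq]; exact hru, hcomm.symm, hu, hr⟩
  unfold sc_pp
  rw [dif_pos hex]
  exact hex.choose_spec

theorem sc_pp_eq {G : Type*} [Group G] [Finite G] (p : ℕ) [hp : Fact p.Prime] {g z : G}
    (h : Cfsg.IsPPart p g z) : sc_pp p g = z :=
  h7_isPPart_unique g z (sc_pp p g) h (sc_pp_spec p g)

theorem sc_pp_conj {G : Type*} [Group G] [Finite G] (p : ℕ) [hp : Fact p.Prime] (t g : G) :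
    sc_pp p (t * g * t⁻¹) = t * sc_pp p g * t⁻¹ :=
  sc_pp_eq p (h7_isPPart_conj t g _ (sc_pp_spec p g))

theorem sc_pp_order {G : Type*} [Group G] [Finite G] (p : ℕ) [hp : Fact p.Prime] (g : G) :
    ∃ k : ℕ, orderOf (sc_pp p g) = p ^ k := by
  obtain ⟨y, -, -, h, -⟩ := sc_pp_spec p g
  exact h

open Classical in
/-- the number of elements conjugating `a` to `x` -/
theorem sc_conj_count {G : Type*} [Group G] [Fintype G] (a x : G) :
    ((Finset.univ.filter (fun t : G => t⁻¹ * a * t = x)).card : ℂ) =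
      if IsConj a x then (Nat.card (Subgroup.centralizer ({x} : Set G)) : ℂ) else 0 := by
  by_cases h : IsConj a x
  · rw [if_pos h]
    obtain ⟨c, hc⟩ := isConj_iff.mp h
    congr 1
    rw [Nat.card_eq_fintype_card, Fintype.card_subtype]
    apply Finset.card_bij (fun t _ => c * t)
    · intro t ht
      rw [Finset.mem_filter] at ht ⊢
      refine ⟨Finset.mem_univ _, ?_⟩
      rw [Subgroup.mem_centralizer_singleton_iff]
      have h1 : t⁻¹ * a * t = x := ht.2
      have h2 : a = c⁻¹ * x * c := by rw [← hc]; group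
      rw [h2] at h1
      calc c * t * x = c * t * (t⁻¹ * (c⁻¹ * x * c) * t) := by rw [h1]
        _ = x * (c * t) := by group
    · intro t₁ _ t₂ _ h12
      exact mul_left_cancel h12
    · intro s hs
      rw [Finset.mem_filter] at hs
      have h1 : s * x = x * s := Subgroup.mem_centralizer_singleton_iff.mp hs.2
      refine ⟨c⁻¹ * s, ?_, by group⟩
      rw [Finset.mem_filter]
      refine ⟨Finset.mem_univ _, ?_⟩
      have h2 : a = c⁻¹ * x * c := by rw [← hc]; group
      rw [h2]
      calc (c⁻¹ * s)⁻¹ * (c⁻¹ * x * c) * (c⁻¹ * s) = s⁻¹ * (x * s) := by group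
        _ = s⁻¹ * (s * x) := by rw [h1]
        _ = x := by group
  · rw [if_neg h]
    have : Finset.univ.filter (fun t : G => t⁻¹ * a * t = x) = ∅ := by
      rw [Finset.filter_eq_empty_iff]
      intro t _ ht
      apply h
      rw [isConj_iff]
      exact ⟨t⁻¹, by rw [inv_inv]; exact ht⟩
    rw [this, Finset.card_empty, Nat.cast_zero]

open Classical in
/-- the elements with `p`-part `x` are the `x s` with `s ∈ C_G(x)` `p`-regular -/
theorem sc_pp_eq_iff {G : Type*} [Group G] [Finite G] (p : ℕ) [hp : Fact p.Prime] (x : G)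
    (hx : ∃ k : ℕ, orderOf x = p ^ k) (g : G) :
    sc_pp p g = x ↔ (x⁻¹ * g ∈ Subgroup.centralizer ({x} : Set G) ∧ ¬ p ∣ orderOf (x⁻¹ * g)) := by
  constructor
  · intro h
    have h1 := sc_pp_spec p g
    rw [h] at h1
    obtain ⟨y, hxy, hc, -, hy⟩ := h1
    have e : x⁻¹ * g = y := by rw [← hxy]; group
    rw [e]
    exact ⟨Subgroup.mem_centralizer_singleton_iff.mpr hc.eq.symm, hy⟩
  · rintro ⟨h1, h2⟩
    apply sc_pp_eq p
    refine ⟨x⁻¹ * g, by group, ?_, hx, h2⟩
    exact (Subgroup.mem_centralizer_singleton_iff.mp h1).symm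

open Classical in
/-- section decomposition: the sum of a class function over the `p`-section of `x` -/
theorem sc_section_sum {G : Type*} [Group G] [Fintype G] (p : ℕ) [hp : Fact p.Prime] (x : G)
    (hx : ∃ k : ℕ, orderOf x = p ^ k) (H : Subgroup G)
    (hH : H = Subgroup.centralizer ({x} : Set G)) [Fintype H]
    (F : G → ℂ) (hF : ∀ g t : G, F (t * g * t⁻¹) = F g) :
    ∑ g : G, (if IsConj (sc_pp p g) x then F g else 0) =
      (Nat.card G : ℂ) * (Nat.card H : ℂ)⁻¹ *
        ∑ s : H, (if ¬ p ∣ orderOf s then F (x * (s : G)) else 0) := by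
  subst hH
  have hHne : (Nat.card (Subgroup.centralizer ({x} : Set G)) : ℂ) ≠ 0 := by
    exact_mod_cast Nat.card_pos.ne'
  -- step 1
  have h1 : (Nat.card (Subgroup.centralizer ({x} : Set G)) : ℂ) *
      ∑ g : G, (if IsConj (sc_pp p g) x then F g else 0) =
      ∑ g : G, ∑ t : G, (if t⁻¹ * sc_pp p g * t = x then F g else 0) := by
    rw [Finset.mul_sum]
    refine Finset.sum_congr rfl fun g _ => ?_
    rw [← Finset.sum_filter, Finset.sum_const, nsmul_eq_mul, sc_conj_count]
    split_ifs <;> ring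
  -- step 2
  have h2 : ∑ g : G, ∑ t : G, (if t⁻¹ * sc_pp p g * t = x then F g else 0) =
      ∑ t : G, ∑ g : G, (if sc_pp p g = x then F g else 0) := by
    rw [Finset.sum_comm]
    refine Finset.sum_congr rfl fun t _ => ?_
    rw [← Equiv.sum_comp (MulAut.conj t).toEquiv]
    refine Finset.sum_congr rfl fun g _ => ?_
    have e : (MulAut.conj t).toEquiv g = t * g * t⁻¹ := rfl
    rw [e, sc_pp_conj, hF]
    have e2 : t⁻¹ * (t * sc_pp p g * t⁻¹) * t = sc_pp p g := by group
    rw [e2]
  -- step 3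
  have h3 : ∑ g : G, (if sc_pp p g = x then F g else 0) =
      ∑ s : (Subgroup.centralizer ({x} : Set G)),
        (if ¬ p ∣ orderOf s then F (x * (s : G)) else 0) := by
    have hsupp := h7_sum_subgroup_of_support (Subgroup.centralizer ({x} : Set G))
      (fun g => if g ∈ Subgroup.centralizer ({x} : Set G) ∧ ¬ p ∣ orderOf g then F (x * g) else 0)
      (fun g hg => by
        show (if g ∈ Subgroup.centralizer ({x} : Set G) ∧ ¬ p ∣ orderOf g then F (x * g) else 0) = 0
        rw [if_neg (fun h => hg h.1)])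
    have ha : ∑ g : G, (if sc_pp p g = x then F g else 0) =
        ∑ g : G, (if g ∈ Subgroup.centralizer ({x} : Set G) ∧ ¬ p ∣ orderOf g then
          F (x * g) else 0) := by
      rw [← Equiv.sum_comp (Equiv.mulLeft x)]
      refine Finset.sum_congr rfl fun g _ => ?_
      have e : (Equiv.mulLeft x) g = x * g := rfl
      rw [e]
      have e2 : x⁻¹ * (x * g) = g := by group
      by_cases h : g ∈ Subgroup.centralizer ({x} : Set G) ∧ ¬ p ∣ orderOf g
      · rw [if_pos h, if_pos]
        rw [sc_pp_eq_iff p x hx, e2]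
        exact h
      · rw [if_neg h, if_neg]
        rw [sc_pp_eq_iff p x hx, e2]
        exact h
    rw [ha, hsupp]
    refine Finset.sum_congr rfl fun s _ => ?_
    have e3 : orderOf (s : G) = orderOf s := Subgroup.orderOf_coe s
    by_cases h : ¬ p ∣ orderOf s
    · rw [if_pos h, if_pos ⟨s.2, by rw [e3]; exact h⟩]
    · rw [if_neg h, if_neg (fun h' => h (by rw [← e3]; exact h'.2))]
  rw [h2, Finset.sum_const, Finset.card_univ, nsmul_eq_mul, h3] at h1
  have hcard : (Fintype.card G : ℂ) = (Nat.card G : ℂ) := by rw [Nat.card_eq_fintype_card]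
  rw [hcard] at h1
  calc ∑ g : G, (if IsConj (sc_pp p g) x then F g else 0)
      = (Nat.card (Subgroup.centralizer ({x} : Set G)) : ℂ)⁻¹ *
        ((Nat.card (Subgroup.centralizer ({x} : Set G)) : ℂ) *
          ∑ g : G, (if IsConj (sc_pp p g) x then F g else 0)) := by
        rw [← mul_assoc, inv_mul_cancel₀ hHne, one_mul]
    _ = _ := by rw [h1]; ring

end

section

open Classical in
/-- a class function is the sum of its block parts -/
theorem sc_sum_blockPart {H : Type*} [Group H] [Fintype H] [Fintype (Cfsg.IrrCharacter H)]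
    {M : Ideal Cfsg.AlgInt} (hMp : M.IsPrime) (θ : H → ℂ)
    (hθ : ∀ g h : H, θ (h * g * h⁻¹) = θ g) (s : H) :
    ∑ b : Set (Cfsg.IrrCharacter H), (if Cfsg.IsPBlock M b then Cfsg.blockPart b θ s else 0) =
      θ s := by
  have h1 : ∀ b : Set (Cfsg.IrrCharacter H),
      (if Cfsg.IsPBlock M b then Cfsg.blockPart b θ s else 0) =
      ∑ ψ : Cfsg.IrrCharacter H, (if Cfsg.IsPBlock M b ∧ ψ ∈ b then
        Cfsg.classInner θ (ψ : H → ℂ) * (ψ : H → ℂ) s else 0) := by
    intro b
    by_cases hb : Cfsg.IsPBlock M b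
    · rw [if_pos hb, ib_blockPart_apply, h7_finsum_mem_fintype]
      refine Finset.sum_congr rfl fun ψ _ => ?_
      by_cases hψ : ψ ∈ b
      · rw [if_pos hψ, if_pos ⟨hb, hψ⟩]
      · rw [if_neg hψ, if_neg (fun h => hψ h.2)]
    · rw [if_neg hb]
      symm
      apply Finset.sum_eq_zero
      intro ψ _
      rw [if_neg (fun h => hb h.1)]
  rw [Finset.sum_congr rfl (fun b _ => h1 b), Finset.sum_comm]
  conv_rhs => rw [classFunction_expansion θ hθ]
  rw [Finset.sum_apply]
  refine Finset.sum_congr rfl fun ψ _ => ?_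
  rw [Pi.smul_apply, smul_eq_mul]
  rw [Finset.sum_eq_single (Cfsg.blockOf M (ψ : H → ℂ))]
  · rw [if_pos ⟨⟨ψ, rfl⟩, h7_sameBlock_refl hMp _⟩]
  · intro b _ hne
    rw [if_neg]
    rintro ⟨⟨ψ₀, rfl⟩, hψ⟩
    exact hne (h7_blockOf_eq_of_mem hMp ψ₀ ψ hψ)
  · intro h
    exact absurd (Finset.mem_univ _) h

open Classical in
/-- the local inner products of all subsections `(x, b)` with `b^G = B` add up to the inner product
on the `p`-section of `x` -/
theorem sc_local_sum {G : Type*} [Group G] [Fintype G] (p : ℕ) [hp : Fact p.Prime]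
    (M : Ideal Cfsg.AlgInt) (hM : Cfsg.IsPModular p M) (H : Subgroup G) [Fintype H]
    [Fintype (Cfsg.IrrCharacter H)] (x : G) (hxH : x ∈ H)
    (hcent : ∀ h ∈ H, h * x = x * h) (hcent' : ∀ g : G, g * x = x * g → g ∈ H)
    (hx : ∃ k : ℕ, orderOf x = p ^ k)
    (hdef : ∀ b : Set (Cfsg.IrrCharacter H), Cfsg.IsPBlock M b → Cfsg.InducedBlockDefined M H b)
    (B : Set (Cfsg.IrrCharacter G)) (hB : Cfsg.IsPBlock M B) (χ : Cfsg.IrrCharacter G)
    (hχ : χ ∈ B) :
    ∑ b : Set (Cfsg.IrrCharacter H), (if Cfsg.IsInducedBlock M H b B then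
      Cfsg.classInner
        (Cfsg.pRegularPart p (Cfsg.blockPart b (fun c : H => (χ : G → ℂ) (x * (c : G)))))
        (Cfsg.blockPart b (fun c : H => (χ : G → ℂ) (x * (c : G)))) else 0) =
    Cfsg.classInner (Cfsg.pRegularPart p (fun c : H => (χ : G → ℂ) (x * (c : G))))
      (fun c : H => (χ : G → ℂ) (x * (c : G))) := by
  have hMp := hM.2.1.isPrime
  haveI : Fintype (Cfsg.IrrCharacter G) := Fintype.ofFinite _
  set θ : H → ℂ := fun c : H => (χ : G → ℂ) (x * (c : G)) with hθ
  have hθcl : ∀ g h : H, θ (h * g * h⁻¹) = θ g := fun g h => st_theta_class H x hcent χ g h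
  -- replace the condition by `IsPBlock`
  have h1 : ∀ b : Set (Cfsg.IrrCharacter H), (if Cfsg.IsInducedBlock M H b B then
      Cfsg.classInner (Cfsg.pRegularPart p (Cfsg.blockPart b θ)) (Cfsg.blockPart b θ) else 0) =
      (if Cfsg.IsPBlock M b then
        Cfsg.classInner (Cfsg.pRegularPart p (Cfsg.blockPart b θ)) θ else 0) := by
    intro b
    by_cases hb : Cfsg.IsPBlock M b
    · rw [if_pos hb]
      obtain ⟨ξ₀, rfl⟩ := hb
      rw [← su_stepa hM ξ₀ θ θ hθcl]
      by_cases hind : Cfsg.IsInducedBlock M H (Cfsg.blockOf M (ξ₀ : H → ℂ)) B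
      · rw [if_pos hind]
      · rw [if_neg hind]
        obtain ⟨B', hB'⟩ := hdef _ ⟨ξ₀, rfl⟩
        have hχB' : χ ∉ B' := by
          intro h
          apply hind
          obtain ⟨χ₁, rfl⟩ := hB
          obtain ⟨χ₂, hχ₂⟩ := hB'.2.1
          have e1 : Cfsg.blockOf M (χ₁ : G → ℂ) = Cfsg.blockOf M (χ : G → ℂ) :=
            h7_blockOf_eq_of_mem hMp χ₁ χ hχ
          have e2 : B' = Cfsg.blockOf M (χ : G → ℂ) := by
            rw [hχ₂]
            rw [hχ₂] at h
            exact h7_blockOf_eq_of_mem hMp χ₂ χ h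
          rw [e1, ← e2]
          exact hB'
        have hvan : Cfsg.pRegularPart p (Cfsg.blockPart (Cfsg.blockOf M (ξ₀ : H → ℂ)) θ) = 0 := by
          funext s
          unfold Cfsg.pRegularPart
          by_cases hs : Cfsg.IsPRegular p s
          · rw [if_pos hs]
            exact st_smt p M hM H x hxH hcent hcent' hx _ B' hB' χ hχB' s hs
          · rw [if_neg hs]
            rfl
        rw [hvan]
        symm
        exact Cfsg.Agent.Lib.Helper25.classInner_zero_left _
    · rw [if_neg hb, if_neg (fun h => hb h.1)]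
  rw [Finset.sum_congr rfl (fun b _ => h1 b)]
  -- pointwise
  unfold Cfsg.classInner
  have h2 : ∀ b : Set (Cfsg.IrrCharacter H), (if Cfsg.IsPBlock M b then
      (Nat.card H : ℂ)⁻¹ * ∑ s : H, Cfsg.pRegularPart p (Cfsg.blockPart b θ) s * conj (θ s)
        else 0) =
      (Nat.card H : ℂ)⁻¹ * ∑ s : H, (if Cfsg.IsPBlock M b then
        Cfsg.pRegularPart p (Cfsg.blockPart b θ) s * conj (θ s) else 0) := by
    intro b
    split_ifs
    · rfl
    · rw [Finset.sum_const_zero, mul_zero]
  rw [Finset.sum_congr rfl (fun b _ => h2 b), ← Finset.mul_sum, Finset.sum_comm]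
  congr 1
  refine Finset.sum_congr rfl fun s _ => ?_
  have h3 : ∀ b : Set (Cfsg.IrrCharacter H), (if Cfsg.IsPBlock M b then
      Cfsg.pRegularPart p (Cfsg.blockPart b θ) s * conj (θ s) else 0) =
      (if Cfsg.IsPRegular p s then
        (if Cfsg.IsPBlock M b then Cfsg.blockPart b θ s else 0) else 0) * conj (θ s) := by
    intro b
    unfold Cfsg.pRegularPart
    by_cases hs : Cfsg.IsPRegular p s
    · rw [if_pos hs, if_pos hs]
      split_ifs
      · rfl
      · rw [zero_mul]
    · rw [if_neg hs, if_neg hs, zero_mul]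
      split_ifs <;> rfl
  rw [Finset.sum_congr rfl (fun b _ => h3 b), ← Finset.sum_mul]
  congr 1
  unfold Cfsg.pRegularPart
  by_cases hs : Cfsg.IsPRegular p s
  · rw [if_pos hs]
    simp only [if_pos hs]
    exact sc_sum_blockPart hMp θ hθcl s
  · rw [if_neg hs]
    simp only [if_neg hs]
    exact Finset.sum_const_zero

end

section

open Classical in
/-- the block ranks of the subsections `(x, b)` with `b^G = B` add up to the contribution of the
`p`-section of `x` to `k(B)` -/
theorem sc_per_x {G : Type*} [Group G] [Fintype G] [Fintype (Cfsg.IrrCharacter G)]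
    (p : ℕ) [hp : Fact p.Prime]
    (M : Ideal Cfsg.AlgInt) (hM : Cfsg.IsPModular p M)
    (B : Set (Cfsg.IrrCharacter G)) (hB : Cfsg.IsPBlock M B) (x : G)
    (hx : ∃ k : ℕ, orderOf x = p ^ k) :
    ((∑ᶠ b ∈ {b : Set (Cfsg.IrrCharacter ↥(Subgroup.centralizer ({x} : Set G))) |
        Cfsg.IsInducedBlock M (Subgroup.centralizer ({x} : Set G)) b B},
        Cfsg.blockRank p b : ℕ) : ℂ) =
    ∑ χ : Cfsg.IrrCharacter G, (if χ ∈ B then (Nat.card G : ℂ)⁻¹ *
      ∑ g : G, (if IsConj (sc_pp p g) x then (χ : G → ℂ) g * conj ((χ : G → ℂ) g) else 0)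
      else 0) := by
  have hMp := hM.2.1.isPrime
  haveI : Fintype ↥(Subgroup.centralizer ({x} : Set G)) := Fintype.ofFinite _
  haveI : Fintype (Cfsg.IrrCharacter ↥(Subgroup.centralizer ({x} : Set G))) := Fintype.ofFinite _
  have hGne : (Nat.card G : ℂ) ≠ 0 := by exact_mod_cast Nat.card_pos.ne'
  have hxH : x ∈ Subgroup.centralizer ({x} : Set G) :=
    Subgroup.mem_centralizer_singleton_iff.mpr rfl
  have hcent : ∀ h ∈ Subgroup.centralizer ({x} : Set G), h * x = x * h := fun h hh =>
    Subgroup.mem_centralizer_singleton_iff.mp hh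
  have hcent' : ∀ g : G, g * x = x * g → g ∈ Subgroup.centralizer ({x} : Set G) := fun g hg =>
    Subgroup.mem_centralizer_singleton_iff.mpr hg
  obtain ⟨hP, hPH, hCH, hHN⟩ := h7_centralizer_brauer_hyps p x hx
  have hdef : ∀ b : Set (Cfsg.IrrCharacter ↥(Subgroup.centralizer ({x} : Set G))),
      Cfsg.IsPBlock M b → Cfsg.InducedBlockDefined M (Subgroup.centralizer ({x} : Set G)) b :=
    fun b hb => Cfsg.Agent.S0919.result p M hM (Subgroup.zpowers x) _ hP hPH hCH hHN b hb
  rw [h7_finsum_mem_fintype, Nat.cast_sum]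
  have h1 : ∀ b : Set (Cfsg.IrrCharacter ↥(Subgroup.centralizer ({x} : Set G))),
      (((if b ∈ {b : Set (Cfsg.IrrCharacter ↥(Subgroup.centralizer ({x} : Set G))) |
        Cfsg.IsInducedBlock M (Subgroup.centralizer ({x} : Set G)) b B} then
          Cfsg.blockRank p b else 0 : ℕ)) : ℂ) =
      ∑ χ : Cfsg.IrrCharacter G, (if χ ∈ B then
        (if Cfsg.IsInducedBlock M (Subgroup.centralizer ({x} : Set G)) b B then
          Cfsg.classInner (Cfsg.pRegularPart p (Cfsg.blockPart b
            (fun c : ↥(Subgroup.centralizer ({x} : Set G)) => (χ : G → ℂ) (x * (c : G)))))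
            (Cfsg.blockPart b
              (fun c : ↥(Subgroup.centralizer ({x} : Set G)) => (χ : G → ℂ) (x * (c : G))))
          else 0) else 0) := by
    intro b
    by_cases hind : Cfsg.IsInducedBlock M (Subgroup.centralizer ({x} : Set G)) b B
    · rw [if_pos (show b ∈ {b : Set (Cfsg.IrrCharacter ↥(Subgroup.centralizer ({x} : Set G))) |
        Cfsg.IsInducedBlock M (Subgroup.centralizer ({x} : Set G)) b B} from hind)]
      rw [← st_trace p M hM _ x hxH hcent hcent' hx b B hind, h7_finsum_mem_fintype]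
      refine Finset.sum_congr rfl fun χ _ => ?_
      rw [if_pos hind]
    · rw [if_neg (show ¬ b ∈ {b : Set (Cfsg.IrrCharacter ↥(Subgroup.centralizer ({x} : Set G))) |
        Cfsg.IsInducedBlock M (Subgroup.centralizer ({x} : Set G)) b B} from hind), Nat.cast_zero]
      symm
      apply Finset.sum_eq_zero
      intro χ _
      rw [if_neg hind, ite_self]
  rw [Finset.sum_congr rfl (fun b _ => h1 b), Finset.sum_comm]
  refine Finset.sum_congr rfl fun χ _ => ?_
  by_cases hχ : χ ∈ B
  · simp only [if_pos hχ]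
    rw [sc_local_sum p M hM _ x hxH hcent hcent' hx hdef B hB χ hχ]
    rw [sc_section_sum p x hx _ rfl (fun g => (χ : G → ℂ) g * conj ((χ : G → ℂ) g))
      (fun g t => by
        show (χ : G → ℂ) (t * g * t⁻¹) * conj ((χ : G → ℂ) (t * g * t⁻¹)) = _
        rw [irr_conj_invariant])]
    rw [← mul_assoc, ← mul_assoc, inv_mul_cancel₀ hGne, one_mul]
    unfold Cfsg.classInner
    congr 1
    refine Finset.sum_congr rfl fun s _ => ?_
    unfold Cfsg.pRegularPart Cfsg.IsPRegular
    by_cases hs : p ∣ orderOf s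
    · rw [if_neg (not_not.mpr hs), if_neg (not_not.mpr hs), zero_mul]
    · rw [if_pos hs, if_pos hs]
  · simp only [if_neg hχ]
    exact Finset.sum_const_zero

open Classical in
/-- Brauer's formula `k(B) = Σ_{(x,b)} l(b)` -/
theorem sc_main {G : Type*} [Group G] [Fintype G] (p : ℕ) (M : Ideal Cfsg.AlgInt)
    (hM : Cfsg.IsPModular p M)
    (B : Set (Cfsg.IrrCharacter G)) (hB : Cfsg.IsPBlock M B) (X : Finset G)
    (hX : ∀ x ∈ X, ∃ k : ℕ, orderOf x = p ^ k)
    (hXrep : ∀ g : G, (∃ k : ℕ, orderOf g = p ^ k) → ∃! x, x ∈ X ∧ IsConj g x) :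
    Nat.card B = ∑ x ∈ X, ∑ᶠ b ∈ {b : Set (Cfsg.IrrCharacter
        ↥(Subgroup.centralizer ({x} : Set G))) |
        Cfsg.IsInducedBlock M (Subgroup.centralizer ({x} : Set G)) b B},
      Cfsg.blockRank p b := by
  haveI : Fact p.Prime := ⟨hM.1⟩
  haveI : Fintype (Cfsg.IrrCharacter G) := Fintype.ofFinite _
  have hGne : (Nat.card G : ℂ) ≠ 0 := by exact_mod_cast Nat.card_pos.ne'
  have key : ((Nat.card B : ℕ) : ℂ) = ((∑ x ∈ X, ∑ᶠ b ∈ {b : Set (Cfsg.IrrCharacter
        ↥(Subgroup.centralizer ({x} : Set G))) |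
        Cfsg.IsInducedBlock M (Subgroup.centralizer ({x} : Set G)) b B},
      Cfsg.blockRank p b : ℕ) : ℂ) := by
    rw [Nat.cast_sum, Finset.sum_congr rfl (fun x hx => sc_per_x p M hM B hB x (hX x hx)),
      Finset.sum_comm]
    have hcard : ((Nat.card B : ℕ) : ℂ) =
        ∑ χ : Cfsg.IrrCharacter G, (if χ ∈ B then (1 : ℂ) else 0) := by
      rw [Finset.sum_boole, Nat.card_eq_fintype_card, Fintype.card_subtype]
    rw [hcard]
    refine Finset.sum_congr rfl fun χ _ => ?_
    by_cases hχ : χ ∈ B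
    · simp only [if_pos hχ]
      have h1 := irr_classInner χ χ
      rw [if_pos rfl] at h1
      rw [← Finset.mul_sum, Finset.sum_comm, ← h1]
      unfold Cfsg.classInner
      congr 1
      refine Finset.sum_congr rfl fun g _ => ?_
      obtain ⟨x₀, ⟨hx₀X, hx₀c⟩, hx₀u⟩ := hXrep (sc_pp p g) (sc_pp_order p g)
      rw [Finset.sum_eq_single x₀]
      · rw [if_pos hx₀c]
      · intro x hxX hne
        rw [if_neg]
        intro hc
        exact hne (hx₀u x ⟨hxX, hc⟩)
      · intro h
        exact absurd hx₀X h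
    · simp only [if_neg hχ]
      exact Finset.sum_const_zero.symm
  exact_mod_cast key

end

end Cfsg.Agent.Lib.Helper25
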