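import Mathlib
import Cfsg.Prelude.Def_Blocks
import Cfsg.Prelude.Def_BlockRank
import Cfsg.Agent.Lib.helper7.BlockDefect2
import Cfsg.Agent.Lib.helper7.BlockInd2
import Cfsg.Agent.Lib.helper7.BlockCover
import Cfsg.Agent.Lib.helper2.CharInt
import Cfsg.Agent.Lib.helper2.CharNat
import Cfsg.Agent.Lib.Helper25.BlockRankTrace
import Cfsg.Agent.Lib.Helper25.BlockOrthReg
import Cfsg.Agent.Lib.Helper25.CartanRankOne
import Cfsg.Agent.Lib.Helper25.InducedBlockPart
import Cfsg.Agent.Lib.Helper25.CharOrth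
import Cfsg.Agent.Lib.Helper25.CharBasic
import Cfsg.Agent.Lib.Helper25.HeightZeroCrit

/-!
Brauer-Feit style arguments with the integers n = [p^a chi°, xi]: bf_self ([chi°, chi] = A/|G| with positivity), bf_self_int (0 < n <= p^a, equality forces p^a | chi(1)), bf_height_zero_of_dvd (p^(a-1) | chi(1) implies height zero), bf_near_full (then p^(a-1) divides every degree in the block).
-/

set_option autoImplicit false
set_option linter.style.haveILetI false
set_option linter.unusedVariables false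
set_option warn.classDefReducibility false
set_option maxHeartbeats 800000

namespace Cfsg.Agent.Lib.Helper25
open Cfsg.Agent.Lib.helper7
open Cfsg.Agent.Lib.helper2
open scoped ComplexConjugate
section

/-- the self inner product of the `p`-regular part of an irreducible character:
`[χ°, χ] = A/|G|` with `0 < A`, `A + S = |G|`, `S ≥ 0`, and `S = 0` only if `χ` vanishes on
`p`-singular elements -/
theorem bf_self {G : Type*} [Group G] [Fintype G] (p : ℕ) [hp : Fact p.Prime]
    (χ : Cfsg.IrrCharacter G) :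
    ∃ A S : ℝ, 0 < A ∧ 0 ≤ S ∧ A + S = (Nat.card G : ℝ) ∧
      Cfsg.classInner (Cfsg.pRegularPart p (χ : G → ℂ)) (χ : G → ℂ) =
        ((A / (Nat.card G : ℝ) : ℝ) : ℂ) ∧
      (S = 0 → ∀ g : G, p ∣ orderOf g → (χ : G → ℂ) g = 0) := by
  classical
  have hG : (Nat.card G : ℝ) ≠ 0 := by exact_mod_cast Nat.card_pos.ne'
  have hGc : (Nat.card G : ℂ) ≠ 0 := by exact_mod_cast Nat.card_pos.ne'
  refine ⟨∑ g : G, if p ∣ orderOf g then 0 else Complex.normSq ((χ : G → ℂ) g),
    ∑ g : G, if p ∣ orderOf g then Complex.normSq ((χ : G → ℂ) g) else 0, ?_, ?_, ?_, ?_, ?_⟩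
  · have h1 : (if p ∣ orderOf (1 : G) then 0 else Complex.normSq ((χ : G → ℂ) 1)) ≤
        ∑ g : G, if p ∣ orderOf g then 0 else Complex.normSq ((χ : G → ℂ) g) := by
      apply Finset.single_le_sum (f := fun g : G =>
        if p ∣ orderOf g then 0 else Complex.normSq ((χ : G → ℂ) g)) _ (Finset.mem_univ 1)
      intro g _
      show 0 ≤ (if p ∣ orderOf g then 0 else Complex.normSq ((χ : G → ℂ) g))
      split_ifs
      · exact le_refl _
      · exact Complex.normSq_nonneg _
    rw [if_neg (ci_one_regular p)] at h1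
    have h2 : 0 < Complex.normSq ((χ : G → ℂ) 1) := Complex.normSq_pos.mpr (irr_one_ne_zero χ)
    linarith
  · apply Finset.sum_nonneg
    intro g _
    split_ifs
    · exact Complex.normSq_nonneg _
    · exact le_refl _
  · rw [← Finset.sum_add_distrib]
    have h1 : ∀ g : G, ((if p ∣ orderOf g then 0 else Complex.normSq ((χ : G → ℂ) g)) +
        (if p ∣ orderOf g then Complex.normSq ((χ : G → ℂ) g) else 0)) =
        Complex.normSq ((χ : G → ℂ) g) := by
      intro g
      split_ifs <;> simp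
    simp only [h1]
    have h2 := irr_classInner χ χ
    rw [if_pos rfl] at h2
    unfold Cfsg.classInner at h2
    have h3 : ∑ g : G, (χ : G → ℂ) g * conj ((χ : G → ℂ) g) =
        ((∑ g : G, Complex.normSq ((χ : G → ℂ) g) : ℝ) : ℂ) := by
      push_cast
      refine Finset.sum_congr rfl fun g _ => ?_
      exact Complex.mul_conj _
    rw [h3] at h2
    have h4 : ((∑ g : G, Complex.normSq ((χ : G → ℂ) g) : ℝ) : ℂ) = (Nat.card G : ℂ) := by
      field_simp at h2
      exact h2
    have h5 : ((∑ g : G, Complex.normSq ((χ : G → ℂ) g) : ℝ) : ℂ) = ((Nat.card G : ℝ) : ℂ) := by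
      rw [h4]
      simp
    exact Complex.ofReal_injective h5
  · unfold Cfsg.classInner
    have h3 : ∑ g : G, Cfsg.pRegularPart p (χ : G → ℂ) g * conj ((χ : G → ℂ) g) =
        ((∑ g : G, (if p ∣ orderOf g then 0 else Complex.normSq ((χ : G → ℂ) g)) : ℝ) : ℂ) := by
      push_cast
      refine Finset.sum_congr rfl fun g _ => ?_
      by_cases hg : p ∣ orderOf g
      · rw [if_pos hg, br_pRegularPart_sing p _ g hg, zero_mul]
        simp
      · rw [if_neg hg, br_pRegularPart_reg p _ g hg]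
        exact Complex.mul_conj _
    rw [h3]
    push_cast
    field_simp
  · intro hS g hg
    have h1 := (Finset.sum_eq_zero_iff_of_nonneg (fun g _ => by
      show 0 ≤ (if p ∣ orderOf g then Complex.normSq ((χ : G → ℂ) g) else 0)
      split_ifs
      · exact Complex.normSq_nonneg _
      · exact le_refl _)).mp hS g (Finset.mem_univ g)
    rw [if_pos hg] at h1
    exact Complex.normSq_eq_zero.mp h1

end

section

/-- the integer `n = [χ̃, χ]` satisfies `0 < n ≤ p^a`, and `n = p^a` forces `p^a ∣ χ(1)` -/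
theorem bf_self_int {G : Type*} [Group G] [Fintype G] (p : ℕ) [hp : Fact p.Prime]
    (χ : Cfsg.IrrCharacter G) (n : ℤ)
    (hn : Cfsg.classInner (hz_tilde p (χ : G → ℂ)) (χ : G → ℂ) = (n : ℂ)) :
    0 < n ∧ n ≤ ((p ^ (Nat.card G).factorization p : ℕ) : ℤ) ∧
      (n = ((p ^ (Nat.card G).factorization p : ℕ) : ℤ) →
        p ^ (Nat.card G).factorization p ∣ Cfsg.charDegree (χ : G → ℂ)) := by
  classical
  haveI : Fintype (Cfsg.IrrCharacter G) := Fintype.ofFinite _
  obtain ⟨A, S, hA, hS, hAS, hinner, hvan⟩ := bf_self p χ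
  set a := (Nat.card G).factorization p with ha
  have hG : (0 : ℝ) < (Nat.card G : ℝ) := by exact_mod_cast Nat.card_pos
  have hpa : (0 : ℝ) < ((p ^ a : ℕ) : ℝ) := by
    have := pow_pos hp.out.pos a
    exact_mod_cast this
  rw [hz_tilde_eq, classInner_smul_left, hinner] at hn
  have hn' : (n : ℝ) = ((p ^ a : ℕ) : ℝ) * (A / (Nat.card G : ℝ)) := by
    have : ((n : ℝ) : ℂ) = ((((p ^ a : ℕ) : ℝ) * (A / (Nat.card G : ℝ)) : ℝ) : ℂ) := by
      rw [Complex.ofReal_mul, Complex.ofReal_intCast, Complex.ofReal_natCast, ← hn]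
    exact Complex.ofReal_injective this
  have hq1 : 0 < A / (Nat.card G : ℝ) := div_pos hA hG
  have hq2 : A / (Nat.card G : ℝ) ≤ 1 := by
    rw [div_le_one hG]
    linarith
  refine ⟨?_, ?_, ?_⟩
  · have : (0 : ℝ) < (n : ℝ) := by
      rw [hn']
      exact mul_pos hpa hq1
    exact_mod_cast this
  · have : (n : ℝ) ≤ ((p ^ a : ℕ) : ℝ) := by
      rw [hn']
      calc ((p ^ a : ℕ) : ℝ) * (A / (Nat.card G : ℝ)) ≤ ((p ^ a : ℕ) : ℝ) * 1 :=
            mul_le_mul_of_nonneg_left hq2 hpa.le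
        _ = ((p ^ a : ℕ) : ℝ) := mul_one _
    exact_mod_cast this
  · intro heq
    have h1 : (n : ℝ) = ((p ^ a : ℕ) : ℝ) := by exact_mod_cast heq
    rw [hn'] at h1
    have h2 : A / (Nat.card G : ℝ) = 1 := by
      have := mul_left_cancel₀ hpa.ne' (h1.trans (mul_one _).symm)
      exact this
    have h3 : A = (Nat.card G : ℝ) := by
      rw [div_eq_one_iff_eq hG.ne'] at h2
      exact h2
    have hS0 : S = 0 := by linarith
    obtain ⟨hd1, hd2, hd3⟩ := h7_charDegree_props χ
    exact h7_pow_dvd_of_vanish p (χ : G → ℂ) (isCharacter_of_irr χ) (hvan hS0) _ hd3.symm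

/-- a character whose degree is divisible by `p^(a-1)` has height zero in its block -/
theorem bf_height_zero_of_dvd {G : Type*} [Group G] [Fintype G] (p : ℕ) [hp : Fact p.Prime]
    (M : Ideal Cfsg.AlgInt) (hM : Cfsg.IsPModular p M) (χ₀ : Cfsg.IrrCharacter G)
    (χ : Cfsg.IrrCharacter G) (hχ : χ ∈ Cfsg.blockOf M (χ₀ : G → ℂ))
    (hdiv : p ^ ((Nat.card G).factorization p - 1) ∣ Cfsg.charDegree (χ : G → ℂ)) :
    Cfsg.blockHeight p (Cfsg.blockOf M (χ₀ : G → ℂ)) (χ : G → ℂ) = 0 := by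
  classical
  haveI : Fintype (Cfsg.IrrCharacter G) := Fintype.ofFinite _
  by_contra hne
  have h1 := (hz_iff p M hM χ₀ χ χ hχ hχ).not.mp hne
  rw [not_not] at h1
  obtain ⟨n, hn⟩ := hz_inner_int p χ χ
  obtain ⟨hn0, hnle, hneq⟩ := bf_self_int p χ n hn
  obtain ⟨hd1, hd2, hd3⟩ := h7_charDegree_props χ
  set a := (Nat.card G).factorization p with ha
  obtain ⟨k, rfl⟩ : ∃ k : ℕ, n = (k : ℤ) := ⟨n.toNat, (Int.toNat_of_nonneg hn0.le).symm⟩
  have hk0 : 0 < k := by exact_mod_cast hn0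
  have hkle : k ≤ p ^ a := by exact_mod_cast hnle
  have hr : hz_r p (χ : G → ℂ) (χ : G → ℂ) =
      (k : ℂ) / ((Cfsg.charDegree (χ : G → ℂ) : ℕ) : ℂ) := by
    unfold hz_r
    rw [hn, hd3]
    simp
  rw [hr] at h1
  rcases ib_ratio_mem hM k _ hd2.ne' h1 with h | h
  · omega
  · have hνk : p ^ (k.factorization p) ∣ k := Nat.ordProj_dvd k p
    have hνle : k.factorization p ≤ a := by
      have h2 : p ^ (k.factorization p) ≤ p ^ a := (Nat.le_of_dvd hk0 hνk).trans hkle
      exact (Nat.pow_le_pow_iff_right hp.out.one_lt).mp h2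
    have hdeg : a - 1 ≤ (Cfsg.charDegree (χ : G → ℂ)).factorization p :=
      (hp.out.pow_dvd_iff_le_factorization hd2.ne').mp hdiv
    rcases Nat.lt_or_ge (k.factorization p) a with hlt | hge
    · omega
    · have hνeq : k.factorization p = a := le_antisymm hνle hge
      rw [hνeq] at hνk
      have hkeq : k = p ^ a := le_antisymm hkle (Nat.le_of_dvd hk0 hνk)
      have h3 := hneq (by rw [hkeq])
      have h4 := (hp.out.pow_dvd_iff_le_factorization hd2.ne').mp h3
      omega

theorem bf_near_full {G : Type*} [Group G] [Finite G] (p : ℕ) [Fact p.Prime] (M : Ideal Cfsg.AlgInt) (hM : Cfsg.IsPModular p M) (hpa : p ∣ Nat.card G) (B : Set (Cfsg.IrrCharacter G)) (hB : Cfsg.IsPBlock M B) (χ : Cfsg.IrrCharacter G) (hχ : χ ∈ B) (hdiv : p ^ ((Nat.card G).factorization p - 1) ∣ Cfsg.charDegree (χ : G → ℂ)) (ψ : Cfsg.IrrCharacter G) (hψ : ψ ∈ B) : p ^ ((Nat.card G).factorization p - 1) ∣ Cfsg.charDegree (ψ : G → ℂ) := by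
  haveI : Fintype G := Fintype.ofFinite G
  have hp : Fact p.Prime := inferInstance
  obtain ⟨χ₀, rfl⟩ := hB
  have h0 := bf_height_zero_of_dvd p M hM χ₀ χ hχ hdiv
  obtain ⟨hd1, hd2, hd3⟩ := h7_charDegree_props χ
  obtain ⟨he1, he2, he3⟩ := h7_charDegree_props ψ
  unfold Cfsg.blockHeight at h0
  set fG : Cfsg.IrrCharacter G → ℕ := fun ψ => (Cfsg.charDegree (ψ : G → ℂ)).factorization p
    with hfG
  set νB := sInf (fG '' Cfsg.blockOf M (χ₀ : G → ℂ)) with hνB
  have h1 : νB ≤ fG ψ := Nat.sInf_le ⟨ψ, hψ, rfl⟩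
  have h2 : νB ≤ fG χ := Nat.sInf_le ⟨χ, hχ, rfl⟩
  have hdeg : (Nat.card G).factorization p - 1 ≤ fG χ :=
    (hp.out.pow_dvd_iff_le_factorization hd2.ne').mp hdiv
  have h3 : fG χ - νB = 0 := h0
  rw [hp.out.pow_dvd_iff_le_factorization he2.ne']
  show _ ≤ fG ψ
  omega

end

end Cfsg.Agent.Lib.Helper25
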