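import Mathlib
import Cfsg.Prelude.Def_Blocks
import Cfsg.Prelude.Def_BlockRank
import Cfsg.Agent.Lib.helper7.BlockDefect2
import Cfsg.Agent.Lib.helper7.BlockInd2
import Cfsg.Agent.Lib.helper7.BlockCover
import Cfsg.Agent.Lib.helper2.CharInt
import Cfsg.Agent.Lib.helper2.CharNat
import Cfsg.Agent.Lib.Helper25.BlockRankTrace
import Cfsg.Agent.Lib.Helper25.BlockOrthReg
import Cfsg.Agent.Lib.Helper25.CentralDefect
import Cfsg.Agent.Lib.Helper25.CartanRankOne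
import Cfsg.Agent.Lib.Helper25.InducedBlockPart
import Cfsg.Agent.Lib.Helper25.CharOrth
import Cfsg.Agent.Lib.Helper25.CharBasic
import Cfsg.Agent.Lib.Helper25.CharAbelian
import Cfsg.Agent.Lib.Helper25.HeightZeroCrit
import Cfsg.Agent.Lib.Helper25.BrauerFeit1
import Cfsg.Agent.Lib.Helper25.BrauerFeit2

/-!
Brauer-Feit complements: the integer matrix z_{chi xi} = p^d [chi°, xi] on a block (bf_z, bf_z_spec, bf_z_symm, bf_z_sum idempotent relation, bf_z_tilde, bf_z_ne_zero for height zero rows, bf_z_dvd p | z for positive height rows, bf_z_self_pos), bf_int_ratio_mem, bf_height_le (positive height => height + 2 <= d), bf_positive_height (2k <= p^(2d-2)), bf_complement.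
-/

set_option autoImplicit false
set_option linter.style.haveILetI false
set_option linter.unusedVariables false
set_option warn.classDefReducibility false
set_option maxHeartbeats 800000
set_option maxHeartbeats 1600000

namespace Cfsg.Agent.Lib.Helper25
open Cfsg.Agent.Lib.helper7
open Cfsg.Agent.Lib.helper2
open scoped ComplexConjugate
section

/-- the integer `z_{χξ} = p^d [χ°, ξ]` (for `χ, ξ` in a block `B` of defect `d`) -/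
noncomputable def bf_z {G : Type*} [Group G] [Fintype G] (p : ℕ)
    (B : Set (Cfsg.IrrCharacter G)) (χ ξ : Cfsg.IrrCharacter G) : ℤ :=
  ⌊((p : ℂ) ^ Cfsg.blockDefect p B *
    Cfsg.classInner (Cfsg.pRegularPart p (χ : G → ℂ)) (ξ : G → ℂ)).re⌋

theorem bf_z_spec {G : Type*} [Group G] [Fintype G]
    (p : ℕ) [hp : Fact p.Prime] (M : Ideal Cfsg.AlgInt) (hM : Cfsg.IsPModular p M)
    (χ₀ : Cfsg.IrrCharacter G)
    (χ ξ : Cfsg.IrrCharacter G) (hχ : χ ∈ Cfsg.blockOf M (χ₀ : G → ℂ))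
    (hξ : ξ ∈ Cfsg.blockOf M (χ₀ : G → ℂ)) :
    (p : ℂ) ^ Cfsg.blockDefect p (Cfsg.blockOf M (χ₀ : G → ℂ)) *
      Cfsg.classInner (Cfsg.pRegularPart p (χ : G → ℂ)) (ξ : G → ℂ) =
      (bf_z p (Cfsg.blockOf M (χ₀ : G → ℂ)) χ ξ : ℂ) := by
  classical
  haveI : Fintype (Cfsg.IrrCharacter G) := Fintype.ofFinite _
  obtain ⟨z, hz⟩ := ci_inner_int p M hM χ₀ χ ξ hχ hξ
  unfold bf_z
  rw [hz]
  simp

theorem bf_z_symm {G : Type*} [Group G] [Fintype G]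
    (p : ℕ) [hp : Fact p.Prime] (M : Ideal Cfsg.AlgInt) (hM : Cfsg.IsPModular p M)
    (χ₀ : Cfsg.IrrCharacter G)
    (χ ξ : Cfsg.IrrCharacter G) (hχ : χ ∈ Cfsg.blockOf M (χ₀ : G → ℂ))
    (hξ : ξ ∈ Cfsg.blockOf M (χ₀ : G → ℂ)) :
    bf_z p (Cfsg.blockOf M (χ₀ : G → ℂ)) χ ξ = bf_z p (Cfsg.blockOf M (χ₀ : G → ℂ)) ξ χ := by
  have h1 := bf_z_spec p M hM χ₀ χ ξ hχ hξ
  have h2 := bf_z_spec p M hM χ₀ ξ χ hξ hχ
  rw [cd_inner_reg_symm] at h1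
  have hp0 : ((p : ℂ) ^ Cfsg.blockDefect p (Cfsg.blockOf M (χ₀ : G → ℂ))) ≠ 0 :=
    pow_ne_zero _ (by exact_mod_cast hp.out.ne_zero)
  have h3 : Cfsg.classInner (Cfsg.pRegularPart p (ξ : G → ℂ)) (χ : G → ℂ) =
      (bf_z p (Cfsg.blockOf M (χ₀ : G → ℂ)) ξ χ : ℂ) /
        (p : ℂ) ^ Cfsg.blockDefect p (Cfsg.blockOf M (χ₀ : G → ℂ)) := by
    rw [← h2]
    field_simp
  rw [h3, map_div₀, map_pow, Complex.conj_natCast, map_intCast] at h1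
  have h4 : (bf_z p (Cfsg.blockOf M (χ₀ : G → ℂ)) ξ χ : ℂ) =
      (bf_z p (Cfsg.blockOf M (χ₀ : G → ℂ)) χ ξ : ℂ) := by
    rw [← h1]
    field_simp
  exact_mod_cast h4.symm

/-- the idempotent relation `Σ_ξ z_{χξ}² = p^d z_{χχ}` -/
theorem bf_z_sum {G : Type*} [Group G] [Fintype G] [Fintype (Cfsg.IrrCharacter G)]
    (p : ℕ) [hp : Fact p.Prime] (M : Ideal Cfsg.AlgInt) (hM : Cfsg.IsPModular p M)
    (χ₀ : Cfsg.IrrCharacter G) [DecidablePred (· ∈ Cfsg.blockOf M (χ₀ : G → ℂ))]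
    (χ : Cfsg.IrrCharacter G) (hχ : χ ∈ Cfsg.blockOf M (χ₀ : G → ℂ)) :
    ∑ ξ ∈ Finset.univ.filter (· ∈ Cfsg.blockOf M (χ₀ : G → ℂ)),
      (bf_z p (Cfsg.blockOf M (χ₀ : G → ℂ)) χ ξ) ^ 2 =
      (p : ℤ) ^ Cfsg.blockDefect p (Cfsg.blockOf M (χ₀ : G → ℂ)) *
        bf_z p (Cfsg.blockOf M (χ₀ : G → ℂ)) χ χ := by
  set d := Cfsg.blockDefect p (Cfsg.blockOf M (χ₀ : G → ℂ)) with hd
  have hp0 : ((p : ℂ) ^ d) ≠ 0 := pow_ne_zero _ (by exact_mod_cast hp.out.ne_zero)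
  have h1 := bf_parseval p M hM χ₀ χ hχ
  have h2 : ((∑ ξ ∈ Finset.univ.filter (· ∈ Cfsg.blockOf M (χ₀ : G → ℂ)),
      (bf_z p (Cfsg.blockOf M (χ₀ : G → ℂ)) χ ξ) ^ 2 : ℤ) : ℂ) =
      (((p : ℤ) ^ d * bf_z p (Cfsg.blockOf M (χ₀ : G → ℂ)) χ χ : ℤ) : ℂ) := by
    push_cast
    rw [← bf_z_spec p M hM χ₀ χ χ hχ hχ, h1, Finset.mul_sum, Finset.mul_sum]
    refine Finset.sum_congr rfl fun ξ hξ => ?_
    have hξ' : ξ ∈ Cfsg.blockOf M (χ₀ : G → ℂ) := (Finset.mem_filter.mp hξ).2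
    have h3 := bf_z_spec p M hM χ₀ χ ξ hχ hξ'
    rw [← hd] at h3
    have h4 : conj (Cfsg.classInner (Cfsg.pRegularPart p (χ : G → ℂ)) (ξ : G → ℂ)) =
        Cfsg.classInner (Cfsg.pRegularPart p (χ : G → ℂ)) (ξ : G → ℂ) := by
      have e : Cfsg.classInner (Cfsg.pRegularPart p (χ : G → ℂ)) (ξ : G → ℂ) =
          (bf_z p (Cfsg.blockOf M (χ₀ : G → ℂ)) χ ξ : ℂ) / (p : ℂ) ^ d := by
        rw [← h3]
        field_simp
      rw [e, map_div₀, map_pow, Complex.conj_natCast, map_intCast]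
    rw [h4, ← h3]
    ring
  exact Int.cast_injective h2

/-- the relation between `n = [χ̃, ξ]` and `z_{χξ}`: `n = p^{ν_B} z` -/
theorem bf_z_tilde {G : Type*} [Group G] [Fintype G]
    (p : ℕ) [hp : Fact p.Prime] (M : Ideal Cfsg.AlgInt) (hM : Cfsg.IsPModular p M)
    (χ₀ : Cfsg.IrrCharacter G)
    (χ ξ : Cfsg.IrrCharacter G) (hχ : χ ∈ Cfsg.blockOf M (χ₀ : G → ℂ))
    (hξ : ξ ∈ Cfsg.blockOf M (χ₀ : G → ℂ)) (n : ℤ)
    (hn : Cfsg.classInner (hz_tilde p (χ : G → ℂ)) (ξ : G → ℂ) = (n : ℂ)) :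
    n = (p : ℤ) ^ sInf ((fun ψ : Cfsg.IrrCharacter G =>
        (Cfsg.charDegree (ψ : G → ℂ)).factorization p) '' Cfsg.blockOf M (χ₀ : G → ℂ)) *
      bf_z p (Cfsg.blockOf M (χ₀ : G → ℂ)) χ ξ := by
  set fG : Cfsg.IrrCharacter G → ℕ := fun ψ => (Cfsg.charDegree (ψ : G → ℂ)).factorization p
    with hfG
  set νB := sInf (fG '' Cfsg.blockOf M (χ₀ : G → ℂ)) with hνB
  have hνB_le : νB ≤ fG χ := Nat.sInf_le ⟨χ, hχ, rfl⟩
  obtain ⟨hd1, hd2, hd3⟩ := h7_charDegree_props χ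
  have hfle : fG χ ≤ (Nat.card G).factorization p :=
    (Nat.factorization_le_iff_dvd hd2.ne' Nat.card_pos.ne').mpr hd1 p
  have hdef : Cfsg.blockDefect p (Cfsg.blockOf M (χ₀ : G → ℂ)) =
      (Nat.card G).factorization p - νB := rfl
  have h1 := bf_z_spec p M hM χ₀ χ ξ hχ hξ
  rw [hz_tilde_eq, classInner_smul_left] at hn
  have h2 : ((n : ℤ) : ℂ) = (((p : ℤ) ^ νB * bf_z p (Cfsg.blockOf M (χ₀ : G → ℂ)) χ ξ : ℤ) : ℂ) := by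
    have hadd : νB + Cfsg.blockDefect p (Cfsg.blockOf M (χ₀ : G → ℂ)) =
        (Nat.card G).factorization p := by
      rw [hdef]
      omega
    push_cast
    rw [← hn, ← h1, ← mul_assoc, ← pow_add, hadd]
    push_cast
    rfl
  exact Int.cast_injective h2

end

section

/-- if `n / m` (integer over natural) lies in the local ideal then `p^(ν(m)+1) ∣ n` -/
theorem bf_int_ratio_mem {p : ℕ} [hp : Fact p.Prime] {M : Ideal Cfsg.AlgInt}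
    (hM : Cfsg.IsPModular p M) (n : ℤ) (m : ℕ) (hm : m ≠ 0)
    (h : Cfsg.MemLocalIdeal M ((n : ℂ) / (m : ℂ))) :
    ((p ^ (m.factorization p + 1) : ℕ) : ℤ) ∣ n := by
  have hMp := hM.2.1.isPrime
  set k := n.natAbs with hk
  have hmem : Cfsg.MemLocalIdeal M ((k : ℂ) / (m : ℂ)) := by
    rcases Int.natAbs_eq n with h' | h'
    · have : (n : ℂ) = (k : ℂ) := by
        have h3 : (n : ℤ) = ((k : ℕ) : ℤ) := h'
        rw [h3, Int.cast_natCast]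
      rwa [this] at h
    · have : (n : ℂ) = -(k : ℂ) := by
        have h3 : (n : ℤ) = -((k : ℕ) : ℤ) := h'
        rw [h3, Int.cast_neg, Int.cast_natCast]
      rw [this, neg_div] at h
      have := h7_memLocalIdeal_neg h
      rwa [neg_neg] at this
  rw [Int.natCast_dvd]
  rcases ib_ratio_mem hM k m hm hmem with h0 | hlt
  · rw [← hk, h0]
    exact dvd_zero _
  · exact (pow_dvd_pow p (Nat.succ_le_of_lt hlt)).trans (Nat.ordProj_dvd k p)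

theorem bf_z_ne_zero {G : Type*} [Group G] [Fintype G]
    (p : ℕ) [hp : Fact p.Prime] (M : Ideal Cfsg.AlgInt) (hM : Cfsg.IsPModular p M)
    (χ₀ : Cfsg.IrrCharacter G)
    (χ ξ : Cfsg.IrrCharacter G) (hχ : χ ∈ Cfsg.blockOf M (χ₀ : G → ℂ))
    (hξ : ξ ∈ Cfsg.blockOf M (χ₀ : G → ℂ))
    (hht : Cfsg.blockHeight p (Cfsg.blockOf M (χ₀ : G → ℂ)) (χ : G → ℂ) = 0) :
    bf_z p (Cfsg.blockOf M (χ₀ : G → ℂ)) χ ξ ≠ 0 := by
  obtain ⟨n, hn, hn0, _⟩ := (hz_single p M hM χ₀ χ ξ hχ hξ).mp hht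
  have h1 := bf_z_tilde p M hM χ₀ χ ξ hχ hξ n hn
  intro h0
  rw [h0, mul_zero] at h1
  exact hn0 h1

theorem bf_z_dvd {G : Type*} [Group G] [Fintype G]
    (p : ℕ) [hp : Fact p.Prime] (M : Ideal Cfsg.AlgInt) (hM : Cfsg.IsPModular p M)
    (χ₀ : Cfsg.IrrCharacter G)
    (χ ξ : Cfsg.IrrCharacter G) (hχ : χ ∈ Cfsg.blockOf M (χ₀ : G → ℂ))
    (hξ : ξ ∈ Cfsg.blockOf M (χ₀ : G → ℂ))
    (hht : Cfsg.blockHeight p (Cfsg.blockOf M (χ₀ : G → ℂ)) (χ : G → ℂ) ≠ 0) :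
    (p : ℤ) ∣ bf_z p (Cfsg.blockOf M (χ₀ : G → ℂ)) χ ξ := by
  have h1 := (hz_iff p M hM χ₀ χ ξ hχ hξ).not.mp hht
  rw [not_not] at h1
  obtain ⟨n, hn⟩ := hz_inner_int p χ ξ
  obtain ⟨hd1, hd2, hd3⟩ := h7_charDegree_props ξ
  have hr : hz_r p (χ : G → ℂ) (ξ : G → ℂ) =
      (n : ℂ) / ((Cfsg.charDegree (ξ : G → ℂ) : ℕ) : ℂ) := by
    unfold hz_r
    rw [hn, hd3]
  rw [hr] at h1
  have h2 := bf_int_ratio_mem hM n _ hd2.ne' h1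
  have h3 := bf_z_tilde p M hM χ₀ χ ξ hχ hξ n hn
  set fG : Cfsg.IrrCharacter G → ℕ := fun ψ => (Cfsg.charDegree (ψ : G → ℂ)).factorization p
    with hfG
  set νB := sInf (fG '' Cfsg.blockOf M (χ₀ : G → ℂ)) with hνB
  have hνB_le : νB ≤ fG ξ := Nat.sInf_le ⟨ξ, hξ, rfl⟩
  have h4 : ((p : ℤ) ^ νB * (p : ℤ)) ∣ (p : ℤ) ^ νB * bf_z p (Cfsg.blockOf M (χ₀ : G → ℂ)) χ ξ := by
    rw [← h3, ← pow_succ]
    refine dvd_trans ?_ h2
    have : ((p ^ (fG ξ + 1) : ℕ) : ℤ) = (p : ℤ) ^ (fG ξ + 1) := by push_cast; rfl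
    show (p : ℤ) ^ (νB + 1) ∣ ((p ^ (fG ξ + 1) : ℕ) : ℤ)
    rw [this]
    exact pow_dvd_pow _ (by omega)
  have hp0 : ((p : ℤ) ^ νB) ≠ 0 := pow_ne_zero _ (by exact_mod_cast hp.out.ne_zero)
  exact (mul_dvd_mul_iff_left hp0).mp h4

theorem bf_z_self_pos {G : Type*} [Group G] [Fintype G]
    (p : ℕ) [hp : Fact p.Prime] (M : Ideal Cfsg.AlgInt) (hM : Cfsg.IsPModular p M)
    (χ₀ : Cfsg.IrrCharacter G)
    (χ : Cfsg.IrrCharacter G) (hχ : χ ∈ Cfsg.blockOf M (χ₀ : G → ℂ)) :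
    0 < bf_z p (Cfsg.blockOf M (χ₀ : G → ℂ)) χ χ := by
  obtain ⟨n, hn⟩ := hz_inner_int p χ χ
  obtain ⟨hn0, _, _⟩ := bf_self_int p χ n hn
  have h1 := bf_z_tilde p M hM χ₀ χ χ hχ hχ n hn
  rw [h1] at hn0
  have hp0 : (0 : ℤ) < (p : ℤ) ^ sInf ((fun ψ : Cfsg.IrrCharacter G =>
        (Cfsg.charDegree (ψ : G → ℂ)).factorization p) '' Cfsg.blockOf M (χ₀ : G → ℂ)) :=
    pow_pos (by exact_mod_cast hp.out.pos) _
  exact (mul_pos_iff_of_pos_left hp0).mp hn0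

/-- a character of positive height has height at most `d - 2` -/
theorem bf_height_le {G : Type*} [Group G] [Fintype G] (p : ℕ) [hp : Fact p.Prime]
    (M : Ideal Cfsg.AlgInt) (hM : Cfsg.IsPModular p M) (χ₀ : Cfsg.IrrCharacter G)
    (χ : Cfsg.IrrCharacter G) (hχ : χ ∈ Cfsg.blockOf M (χ₀ : G → ℂ))
    (hne : Cfsg.blockHeight p (Cfsg.blockOf M (χ₀ : G → ℂ)) (χ : G → ℂ) ≠ 0) :
    Cfsg.blockHeight p (Cfsg.blockOf M (χ₀ : G → ℂ)) (χ : G → ℂ) + 2 ≤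
      Cfsg.blockDefect p (Cfsg.blockOf M (χ₀ : G → ℂ)) := by
  classical
  haveI : Fintype (Cfsg.IrrCharacter G) := Fintype.ofFinite _
  have h1 := (hz_iff p M hM χ₀ χ χ hχ hχ).not.mp hne
  rw [not_not] at h1
  obtain ⟨n, hn⟩ := hz_inner_int p χ χ
  obtain ⟨hn0, hnle, hneq⟩ := bf_self_int p χ n hn
  obtain ⟨hd1, hd2, hd3⟩ := h7_charDegree_props χ
  set a := (Nat.card G).factorization p with ha
  obtain ⟨k, rfl⟩ : ∃ k : ℕ, n = (k : ℤ) := ⟨n.toNat, (Int.toNat_of_nonneg hn0.le).symm⟩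
  have hk0 : 0 < k := by exact_mod_cast hn0
  have hkle : k ≤ p ^ a := by exact_mod_cast hnle
  have hr : hz_r p (χ : G → ℂ) (χ : G → ℂ) =
      (k : ℂ) / ((Cfsg.charDegree (χ : G → ℂ) : ℕ) : ℂ) := by
    unfold hz_r
    rw [hn, hd3]
    simp
  rw [hr] at h1
  set fG : Cfsg.IrrCharacter G → ℕ := fun ψ => (Cfsg.charDegree (ψ : G → ℂ)).factorization p
    with hfG
  set νB := sInf (fG '' Cfsg.blockOf M (χ₀ : G → ℂ)) with hνB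
  have hνB_le : νB ≤ fG χ := Nat.sInf_le ⟨χ, hχ, rfl⟩
  have hheight : Cfsg.blockHeight p (Cfsg.blockOf M (χ₀ : G → ℂ)) (χ : G → ℂ) = fG χ - νB := rfl
  have hdef : Cfsg.blockDefect p (Cfsg.blockOf M (χ₀ : G → ℂ)) = a - νB := rfl
  rw [hheight, hdef]
  rcases ib_ratio_mem hM k _ hd2.ne' h1 with h | h
  · omega
  · have hνk : p ^ (k.factorization p) ∣ k := Nat.ordProj_dvd k p
    have hνle : k.factorization p ≤ a := by
      have h2 : p ^ (k.factorization p) ≤ p ^ a := (Nat.le_of_dvd hk0 hνk).trans hkle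
      exact (Nat.pow_le_pow_iff_right hp.out.one_lt).mp h2
    have h' : fG χ < k.factorization p := h
    rcases Nat.lt_or_ge (k.factorization p) a with hlt | hge
    · omega
    · have hνeq : k.factorization p = a := le_antisymm hνle hge
      rw [hνeq] at hνk
      have hkeq : k = p ^ a := le_antisymm hkle (Nat.le_of_dvd hk0 hνk)
      have h3 := hneq (by rw [hkeq])
      have h4 : a ≤ fG χ := (hp.out.pow_dvd_iff_le_factorization hd2.ne').mp h3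
      omega

end

section

theorem bf_sq_ge (p : ℤ) (z : ℤ) (hdvd : p ∣ z) (hz : z ≠ 0) : p ^ 2 ≤ z ^ 2 := by
  obtain ⟨c, rfl⟩ := hdvd
  have hc : c ≠ 0 := by
    rintro rfl
    exact hz (mul_zero _)
  have h1 : 1 ≤ c ^ 2 := by
    have : 0 < c ^ 2 := by positivity
    omega
  calc p ^ 2 = p ^ 2 * 1 := (mul_one _).symm
    _ ≤ p ^ 2 * c ^ 2 := mul_le_mul_of_nonneg_left h1 (sq_nonneg p)
    _ = (p * c) ^ 2 := by ring

theorem bf_one_le_sq (z : ℤ) (hz : z ≠ 0) : 1 ≤ z ^ 2 := by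
  have : 0 < z ^ 2 := by positivity
  omega

/-- Brauer–Feit: a block with a character of positive height has `2 k(B) ≤ p^(2d-2)` -/
theorem bf_positive_height {G : Type*} [Group G] [Fintype G] (p : ℕ) [hp : Fact p.Prime]
    (M : Ideal Cfsg.AlgInt) (hM : Cfsg.IsPModular p M) (χ₀ : Cfsg.IrrCharacter G)
    (χ : Cfsg.IrrCharacter G) (hχ : χ ∈ Cfsg.blockOf M (χ₀ : G → ℂ))
    (hne : Cfsg.blockHeight p (Cfsg.blockOf M (χ₀ : G → ℂ)) (χ : G → ℂ) ≠ 0) :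
    2 * Nat.card (Cfsg.blockOf M (χ₀ : G → ℂ)) ≤
      p ^ (2 * Cfsg.blockDefect p (Cfsg.blockOf M (χ₀ : G → ℂ)) - 2) := by
  classical
  haveI : Fintype (Cfsg.IrrCharacter G) := Fintype.ofFinite _
  have hMp := hM.2.1.isPrime
  have hχ₀ : χ₀ ∈ Cfsg.blockOf M (χ₀ : G → ℂ) := h7_sameBlock_refl hMp _
  obtain ⟨ψ, hψ, hψ0⟩ := bf_exists_height_zero p (Cfsg.blockOf M (χ₀ : G → ℂ)) ⟨χ₀, hχ₀⟩
  have hd2 := bf_height_le p M hM χ₀ χ hχ hne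
  set d := Cfsg.blockDefect p (Cfsg.blockOf M (χ₀ : G → ℂ)) with hd
  have hd2' : 2 ≤ d := by omega
  set z := bf_z p (Cfsg.blockOf M (χ₀ : G → ℂ)) with hz
  set Bf := Finset.univ.filter (· ∈ Cfsg.blockOf M (χ₀ : G → ℂ)) with hBf
  set ht : Cfsg.IrrCharacter G → ℕ := fun ξ =>
    Cfsg.blockHeight p (Cfsg.blockOf M (χ₀ : G → ℂ)) (ξ : G → ℂ) with hht
  set B0 := Bf.filter (fun ξ => ht ξ = 0) with hB0
  set Bp := Bf.filter (fun ξ => ¬ ht ξ = 0) with hBp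
  have hcard : Nat.card (Cfsg.blockOf M (χ₀ : G → ℂ)) = Bf.card := by
    rw [Nat.card_eq_fintype_card, Fintype.card_subtype]
  have hcard2 : B0.card + Bp.card = Bf.card :=
    Finset.card_filter_add_card_filter_not (s := Bf) (fun ξ => ht ξ = 0)
  have hmemB : ∀ ξ, ξ ∈ Bf → ξ ∈ Cfsg.blockOf M (χ₀ : G → ℂ) :=
    fun ξ hξ => (Finset.mem_filter.mp hξ).2
  have hψf : ψ ∈ Bf := Finset.mem_filter.mpr ⟨Finset.mem_univ _, hψ⟩
  have hχf : χ ∈ Bf := Finset.mem_filter.mpr ⟨Finset.mem_univ _, hχ⟩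
  have hψ0f : ψ ∈ B0 := Finset.mem_filter.mpr ⟨hψf, hψ0⟩
  have hχpf : χ ∈ Bp := Finset.mem_filter.mpr ⟨hχf, hne⟩
  have hsplit : ∀ f : Cfsg.IrrCharacter G → ℤ, ∑ ξ ∈ Bf, f ξ = ∑ ξ ∈ B0, f ξ + ∑ ξ ∈ Bp, f ξ :=
    fun f => (Finset.sum_filter_add_sum_filter_not Bf (fun ξ => ht ξ = 0) f).symm
  -- the row of ψ
  have hrowψ := bf_z_sum p M hM χ₀ ψ hψ
  rw [← hz, ← hBf, ← hd, hsplit] at hrowψ
  have hψ_0 : ((B0.erase ψ).card : ℤ) ≤ ∑ ξ ∈ B0.erase ψ, (z ψ ξ) ^ 2 := by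
    have h1 := Finset.card_nsmul_le_sum (B0.erase ψ) (fun ξ => (z ψ ξ) ^ 2) (1 : ℤ) (by
      intro ξ hξ
      have hξB := hmemB ξ (Finset.mem_filter.mp (Finset.mem_of_mem_erase hξ)).1
      exact bf_one_le_sq _ (bf_z_ne_zero p M hM χ₀ ψ ξ hψ hξB hψ0))
    simpa using h1
  have hψ_p : ((Bp.card : ℤ)) * (p : ℤ) ^ 2 ≤ ∑ ξ ∈ Bp, (z ψ ξ) ^ 2 := by
    have h1 := Finset.card_nsmul_le_sum Bp (fun ξ => (z ψ ξ) ^ 2) ((p : ℤ) ^ 2) (by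
      intro ξ hξ
      have hξ' := Finset.mem_filter.mp hξ
      have hξB := hmemB ξ hξ'.1
      apply bf_sq_ge
      · show (p : ℤ) ∣ bf_z p (Cfsg.blockOf M (χ₀ : G → ℂ)) ψ ξ
        rw [bf_z_symm p M hM χ₀ ψ ξ hψ hξB]
        exact bf_z_dvd p M hM χ₀ ξ ψ hξB hψ hξ'.2
      · exact bf_z_ne_zero p M hM χ₀ ψ ξ hψ hξB hψ0)
    simpa using h1
  have hψ_split : ∑ ξ ∈ B0, (z ψ ξ) ^ 2 = (z ψ ψ) ^ 2 + ∑ ξ ∈ B0.erase ψ, (z ψ ξ) ^ 2 :=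
    (Finset.add_sum_erase B0 (fun ξ => (z ψ ξ) ^ 2) hψ0f).symm
  have hB0card : ((B0.erase ψ).card : ℤ) + 1 = (B0.card : ℤ) := by
    rw [Finset.card_erase_of_mem hψ0f]
    have : 0 < B0.card := Finset.card_pos.mpr ⟨ψ, hψ0f⟩
    omega
  -- the row of χ
  have hrowχ := bf_z_sum p M hM χ₀ χ hχ
  rw [← hz, ← hBf, ← hd, hsplit] at hrowχ
  have hχ_0 : ((B0.card : ℤ)) * (p : ℤ) ^ 2 ≤ ∑ ξ ∈ B0, (z χ ξ) ^ 2 := by
    have h1 := Finset.card_nsmul_le_sum B0 (fun ξ => (z χ ξ) ^ 2) ((p : ℤ) ^ 2) (by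
      intro ξ hξ
      have hξ' := Finset.mem_filter.mp hξ
      have hξB := hmemB ξ hξ'.1
      apply bf_sq_ge
      · exact bf_z_dvd p M hM χ₀ χ ξ hχ hξB hne
      · show bf_z p (Cfsg.blockOf M (χ₀ : G → ℂ)) χ ξ ≠ 0
        rw [bf_z_symm p M hM χ₀ χ ξ hχ hξB]
        exact bf_z_ne_zero p M hM χ₀ ξ χ hξB hχ hξ'.2)
    simpa using h1
  have hχ_p : (z χ χ) ^ 2 ≤ ∑ ξ ∈ Bp, (z χ ξ) ^ 2 :=
    Finset.single_le_sum (f := fun ξ => (z χ ξ) ^ 2) (fun ξ _ => sq_nonneg _) hχpf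
  obtain ⟨w, hw⟩ := bf_z_dvd p M hM χ₀ χ χ hχ hχ hne
  rw [← hz] at hw
  have hwpos : 0 < z χ χ := bf_z_self_pos p M hM χ₀ χ hχ
  have hmpos : 0 < z ψ ψ := bf_z_self_pos p M hM χ₀ ψ hψ
  -- arithmetic
  have hp0 : (0 : ℤ) < (p : ℤ) := by exact_mod_cast hp.out.pos
  set Q : ℤ := (p : ℤ) ^ (d - 1) with hQ
  have hPQ : (p : ℤ) ^ d = (p : ℤ) * Q := by
    rw [hQ, ← pow_succ']
    congr 1
    omega
  have hQ2 : ((p ^ (2 * d - 2) : ℕ) : ℤ) = Q ^ 2 := by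
    rw [hQ, ← pow_mul]
    push_cast
    congr 1
    omega
  rw [hPQ] at hrowψ hrowχ
  have hp2 : (0 : ℤ) < (p : ℤ) ^ 2 := by positivity
  -- (I2): 4 k₀ ≤ Q²
  have hI2 : 4 * (B0.card : ℤ) ≤ Q ^ 2 := by
    have h1 : (p : ℤ) ^ 2 * (w ^ 2 + (B0.card : ℤ)) ≤ (p : ℤ) ^ 2 * (Q * w) := by
      have e1 : (p : ℤ) ^ 2 * (w ^ 2 + (B0.card : ℤ)) =
          (z χ χ) ^ 2 + (B0.card : ℤ) * (p : ℤ) ^ 2 := by
        rw [hw]; ring
      have e2 : (p : ℤ) ^ 2 * (Q * w) = (p : ℤ) * Q * z χ χ := by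
        rw [hw]; ring
      rw [e1, e2, ← hrowχ]
      linarith
    have h2 : w ^ 2 + (B0.card : ℤ) ≤ Q * w := le_of_mul_le_mul_left h1 hp2
    nlinarith [sq_nonneg (Q - 2 * w)]
  -- (I1): 4 k₊ ≤ Q²
  have hI1 : 4 * (Bp.card : ℤ) ≤ Q ^ 2 := by
    have h1 : (z ψ ψ) ^ 2 + ((B0.card : ℤ) - 1) + (Bp.card : ℤ) * (p : ℤ) ^ 2 ≤
        (p : ℤ) * Q * z ψ ψ := by
      rw [← hrowψ, hψ_split]
      linarith
    have hk0 : (1 : ℤ) ≤ (B0.card : ℤ) := by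
      have : 0 < B0.card := Finset.card_pos.mpr ⟨ψ, hψ0f⟩
      exact_mod_cast this
    have h2 : (p : ℤ) ^ 2 * (4 * (Bp.card : ℤ)) ≤ (p : ℤ) ^ 2 * Q ^ 2 := by
      nlinarith [sq_nonneg ((p : ℤ) * Q - 2 * z ψ ψ)]
    exact le_of_mul_le_mul_left h2 hp2
  rw [hcard, ← hcard2]
  have hfin : (2 : ℤ) * ((B0.card + Bp.card : ℕ) : ℤ) ≤ ((p ^ (2 * d - 2) : ℕ) : ℤ) := by
    rw [hQ2]
    push_cast
    linarith
  exact_mod_cast hfin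

theorem bf_complement {G : Type*} [Group G] [Finite G] (p : ℕ) [Fact p.Prime] (M : Ideal Cfsg.AlgInt) (hM : Cfsg.IsPModular p M) (B : Set (Cfsg.IrrCharacter G)) (hB : Cfsg.IsPBlock M B) (d : ℕ) (hd : Cfsg.blockDefect p B = d) : ((∃ χ ∈ B, 0 < Cfsg.blockHeight p B (χ : G → ℂ)) → 2 * Nat.card B ≤ p ^ (2 * d - 2)) ∧ ∀ χ ∈ B, (d ≤ 1 → Cfsg.blockHeight p B (χ : G → ℂ) = 0) ∧ (2 ≤ d → Cfsg.blockHeight p B (χ : G → ℂ) ≤ d - 2) := by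
  haveI : Fintype G := Fintype.ofFinite G
  obtain ⟨χ₀, rfl⟩ := hB
  subst hd
  refine ⟨?_, ?_⟩
  · rintro ⟨χ, hχ, hpos⟩
    exact bf_positive_height p M hM χ₀ χ hχ hpos.ne'
  · intro χ hχ
    by_cases h0 : Cfsg.blockHeight p (Cfsg.blockOf M (χ₀ : G → ℂ)) (χ : G → ℂ) = 0
    · exact ⟨fun _ => h0, fun _ => by rw [h0]; exact Nat.zero_le _⟩
    · have h1 := bf_height_le p M hM χ₀ χ hχ h0
      exact ⟨fun h => by omega, fun h => by omega⟩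

end

end Cfsg.Agent.Lib.Helper25
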