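import Mathlib
import Cfsg.Agent.Lib.Helper25.SubsectionCount
import Cfsg.Agent.Lib.Helper25.BlockRankTrace
import Cfsg.Agent.S4494
import Cfsg.Agent.S4733
import Cfsg.Agent.S4675
import Cfsg.Agent.S0908
import Cfsg.Agent.S0906
import Cfsg.Agent.S0917
import Cfsg.Agent.S0912
import Cfsg.Agent.S0944
import Cfsg.Agent.S0925

/-!
2-blocks of defect one (sd_main): k(B)=2, l(B)=1, the two characters agree on odd-order elements (sd_defect_one), local block has defect one (sd_local_defect), uniqueness of the subsection (sd_count), generalized decomposition numbers ±1.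
-/

set_option autoImplicit false
set_option linter.style.haveILetI false
set_option linter.unusedVariables false
set_option warn.classDefReducibility false
set_option maxHeartbeats 3200000

namespace Cfsg.Agent.Lib.Helper25
open Cfsg.Agent.Lib.helper2
open Cfsg.Agent.Lib.helper7
open scoped ComplexConjugate
section

/-- a nonempty set of irreducible characters has positive `p`-regular rank -/
theorem sd_rank_pos {G : Type*} [Group G] [Finite G] (p : ℕ) [hp : Fact p.Prime]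
    (B : Set (Cfsg.IrrCharacter G))
    (χ : Cfsg.IrrCharacter G) (hχ : χ ∈ B) : 0 < Cfsg.blockRank p B := by
  classical
  unfold Cfsg.blockRank
  rw [Module.finrank_pos_iff_exists_ne_zero]
  refine ⟨⟨Cfsg.pRegularPart p (χ : G → ℂ), Submodule.subset_span ⟨χ, hχ, rfl⟩⟩, ?_⟩
  intro h
  have h1 : Cfsg.pRegularPart p (χ : G → ℂ) = 0 := congrArg Subtype.val h
  have h2 := congrFun h1 1
  unfold Cfsg.pRegularPart Cfsg.IsPRegular at h2
  rw [orderOf_one] at h2
  have hp1 : ¬ p ∣ 1 := fun h => hp.out.one_lt.ne' (Nat.dvd_one.mp h)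
  rw [if_pos hp1] at h2
  exact irr_one_ne_zero χ h2

/-- every block has a defect group -/
theorem sd_exists_defect {G : Type*} [Group G] [Finite G] (p : ℕ) [hp : Fact p.Prime]
    (M : Ideal Cfsg.AlgInt) (hM : Cfsg.IsPModular p M) (B : Set (Cfsg.IrrCharacter G))
    (hB : Cfsg.IsPBlock M B) : ∃ D : Subgroup G, Cfsg.IsDefectGroup p M B D := by
  obtain ⟨g, hg⟩ := Cfsg.Agent.S0906.result p M hM B hB
  obtain ⟨P⟩ : Nonempty (Sylow p (Subgroup.centralizer ({g} : Set G))) := inferInstance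
  exact ⟨_, g, hg, P, rfl⟩

open Classical in
/-- a `2`-block of defect one has two characters, which agree on the elements of odd order -/
theorem sd_defect_one {G : Type*} [Group G] [Fintype G] (M : Ideal Cfsg.AlgInt)
    (hM : Cfsg.IsPModular 2 M) (B : Set (Cfsg.IrrCharacter G)) (hB : Cfsg.IsPBlock M B)
    (hd : Cfsg.blockDefect 2 B = 1) :
    Nat.card B = 2 ∧ Cfsg.blockRank 2 B = 1 ∧
    (∀ χ ∈ B, ∀ ψ ∈ B, ∀ g : G, ¬ 2 ∣ orderOf g → (χ : G → ℂ) g = (ψ : G → ℂ) g) ∧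
    (∀ χ ∈ B, Cfsg.classInner (Cfsg.pRegularPart 2 (χ : G → ℂ)) (χ : G → ℂ) = 1 / 2) := by
  haveI : Fact (Nat.Prime 2) := ⟨Nat.prime_two⟩
  haveI : Fintype (Cfsg.IrrCharacter G) := Fintype.ofFinite _
  have hMp := hM.2.1.isPrime
  have h1 := Cfsg.Agent.S4494.result 2 M hM B hB
  rw [hd] at h1
  obtain ⟨h2, h3, h4⟩ := Cfsg.Agent.S4733.result 2 M hM B hB
  obtain ⟨χ₀, rfl⟩ := hB
  have hχ₀ : χ₀ ∈ Cfsg.blockOf M (χ₀ : G → ℂ) := h7_sameBlock_refl hMp _
  have hl := sd_rank_pos 2 _ χ₀ hχ₀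
  have hne : Nat.card (Cfsg.blockOf M (χ₀ : G → ℂ)) ≠ Cfsg.blockRank 2 (Cfsg.blockOf M (χ₀ : G → ℂ)) := by
    intro h
    have := h4.mpr h
    omega
  have hk : Nat.card (Cfsg.blockOf M (χ₀ : G → ℂ)) = 2 := by omega
  have hl1 : Cfsg.blockRank 2 (Cfsg.blockOf M (χ₀ : G → ℂ)) = 1 := by omega
  obtain ⟨D, hD⟩ := sd_exists_defect 2 M hM _ ⟨χ₀, rfl⟩
  have hDc := Cfsg.Agent.S0908.result 2 M hM _ ⟨χ₀, rfl⟩ D hD
  rw [hd, pow_one] at hDc
  obtain ⟨φ, d, -, hφ, hsum⟩ := Cfsg.Agent.S4675.result 2 M hM _ ⟨χ₀, rfl⟩ D hD hl1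
  rw [hDc] at hsum
  -- the two characters
  obtain ⟨a, b, hab, hpair⟩ := Nat.card_eq_two_iff.mp hk
  have hBeq : Cfsg.blockOf M (χ₀ : G → ℂ) = {(a : Cfsg.IrrCharacter G), (b : Cfsg.IrrCharacter G)} := by
    ext χ
    constructor
    · intro hχ
      have : (⟨χ, hχ⟩ : ↥(Cfsg.blockOf M (χ₀ : G → ℂ))) ∈ ({a, b} : Set _) := by
        rw [hpair]; exact Set.mem_univ _
      rcases this with h | h
      · left; rw [← h]
      · right
        have h' : (⟨χ, hχ⟩ : ↥(Cfsg.blockOf M (χ₀ : G → ℂ))) = b := h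
        rw [← h']
        rfl
    · rintro (h | h)
      · rw [h]; exact a.2
      · have h' : χ = (b : Cfsg.IrrCharacter G) := h
        rw [h']; exact b.2
  have hab' : (a : Cfsg.IrrCharacter G) ≠ (b : Cfsg.IrrCharacter G) := fun h => hab (Subtype.ext h)
  rw [hBeq, finsum_mem_pair hab'] at hsum
  have key : ∀ m n : ℕ, m ^ 2 + n ^ 2 = 2 → m = 1 ∧ n = 1 := by
    intro m n h
    have hm : m ≤ 1 := by nlinarith
    have hn : n ≤ 1 := by nlinarith
    interval_cases m <;> interval_cases n <;> simp_all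
  obtain ⟨hda, hdb⟩ := key _ _ hsum
  have hagree : ∀ χ ∈ Cfsg.blockOf M (χ₀ : G → ℂ), ∀ g : G, ¬ 2 ∣ orderOf g →
      (χ : G → ℂ) g = φ g := by
    intro χ hχ g hg
    have h5 := hφ χ hχ g hg
    rw [hBeq] at hχ
    rcases hχ with h | h
    · rw [h] at h5 ⊢
      rw [h5, hda, Nat.cast_one, one_mul]
    · have h' : χ = (b : Cfsg.IrrCharacter G) := h
      rw [h'] at h5 ⊢
      rw [h5, hdb, Nat.cast_one, one_mul]
  refine ⟨hk, hl1, fun χ hχ ψ hψ g hg => by rw [hagree χ hχ g hg, hagree ψ hψ g hg], ?_⟩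
  -- the inner products
  have hinner : ∀ χ ∈ Cfsg.blockOf M (χ₀ : G → ℂ),
      Cfsg.classInner (Cfsg.pRegularPart 2 (χ : G → ℂ)) (χ : G → ℂ) =
      Cfsg.classInner (Cfsg.pRegularPart 2 φ) φ := by
    intro χ hχ
    unfold Cfsg.classInner
    congr 1
    refine Finset.sum_congr rfl fun g _ => ?_
    unfold Cfsg.pRegularPart Cfsg.IsPRegular
    by_cases hg : 2 ∣ orderOf g
    · rw [if_neg (not_not.mpr hg), if_neg (not_not.mpr hg), zero_mul, zero_mul]
    · rw [if_pos hg, if_pos hg, hagree χ hχ g hg]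
  have hrank := br_rank_eq hM χ₀
  rw [hl1, Nat.cast_one] at hrank
  have e1 : ∑ χ : Cfsg.IrrCharacter G, (if χ ∈ Cfsg.blockOf M (χ₀ : G → ℂ) then
      Cfsg.classInner (Cfsg.pRegularPart 2 (χ : G → ℂ)) (χ : G → ℂ) else 0) =
      ∑ χ : Cfsg.IrrCharacter G, (if χ ∈ Cfsg.blockOf M (χ₀ : G → ℂ) then
      Cfsg.classInner (Cfsg.pRegularPart 2 φ) φ else 0) := by
    refine Finset.sum_congr rfl fun χ _ => ?_
    split_ifs with h
    · exact hinner χ h
    · rfl
  rw [e1, ← Finset.sum_filter, Finset.sum_const, nsmul_eq_mul] at hrank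
  have hcard : (Finset.univ.filter (fun χ : Cfsg.IrrCharacter G =>
      χ ∈ Cfsg.blockOf M (χ₀ : G → ℂ))).card = 2 := by
    rw [← hk, Nat.card_eq_fintype_card, Fintype.card_subtype]
  rw [hcard] at hrank
  intro χ hχ
  rw [hinner χ hχ]
  have : (2 : ℂ) ≠ 0 := two_ne_zero
  field_simp
  rw [mul_comm]
  exact_mod_cast hrank.symm

end

section

/-- a block of the centralizer of an involution `x` inducing a block of defect one has defect one -/
theorem sd_local_defect {G : Type*} [Group G] [Finite G] (M : Ideal Cfsg.AlgInt)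
    (hM : Cfsg.IsPModular 2 M) (x : G) (hx : orderOf x = 2) (H : Subgroup G) (hxH : x ∈ H)
    (hcent : ∀ h ∈ H, h * x = x * h) (b : Set (Cfsg.IrrCharacter H))
    (B : Set (Cfsg.IrrCharacter G)) (hind : Cfsg.IsInducedBlock M H b B)
    (hd : Cfsg.blockDefect 2 B = 1) : Cfsg.blockDefect 2 b = 1 := by
  haveI : Fact (Nat.Prime 2) := ⟨Nat.prime_two⟩
  obtain ⟨Db, hDb⟩ := sd_exists_defect 2 M hM b hind.1
  have hcb := Cfsg.Agent.S0908.result 2 M hM b hind.1 Db hDb
  obtain ⟨E, hE, hle⟩ := Cfsg.Agent.S0917.result 2 M hM H b hind.1 B hind.2.1 hind Db hDb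
  have hcE := Cfsg.Agent.S0908.result 2 M hM B hind.2.1 E hE
  rw [hd, pow_one] at hcE
  have h1 : Nat.card (Db.map H.subtype) = Nat.card Db :=
    Subgroup.card_map_of_injective H.subtype_injective
  have h2 : Nat.card (Db.map H.subtype) ≤ Nat.card E := Subgroup.card_le_of_le hle
  rw [h1, hcb, hcE] at h2
  have hub : Cfsg.blockDefect 2 b ≤ 1 := by
    by_contra h
    push Not at h
    have : 2 ^ 2 ≤ 2 ^ Cfsg.blockDefect 2 b := Nat.pow_le_pow_right (by norm_num) h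
    omega
  -- lower bound
  set xH : H := ⟨x, hxH⟩ with hxH'
  have hcen : xH ∈ Subgroup.center H := by
    rw [Subgroup.mem_center_iff]
    intro h
    apply Subtype.ext
    show (h : G) * x = x * (h : G)
    exact hcent h h.2
  have hnorm : (Subgroup.zpowers xH).Normal := by
    constructor
    intro n hn g
    obtain ⟨k, rfl⟩ := Subgroup.mem_zpowers_iff.mp hn
    have h3' : Commute g xH := Subgroup.mem_center_iff.mp hcen g
    have h3 : Commute g (xH ^ k) := h3'.zpow_right k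
    rw [h3.eq, mul_inv_cancel_right]
    exact Subgroup.zpow_mem_zpowers xH k
  have hox : orderOf xH = 2 := by
    rw [← hx]
    exact Subgroup.orderOf_mk x hxH
  have hpg : IsPGroup 2 (Subgroup.zpowers xH) := by
    apply IsPGroup.of_card (n := 1)
    rw [Nat.card_zpowers, hox, pow_one]
  have h4 : Subgroup.zpowers xH ≤ Cfsg.pCore 2 H := le_sSup ⟨hnorm, hpg⟩
  have h5 := Cfsg.Agent.S0912.result 2 M hM b hind.1 Db hDb
  have h6 : Nat.card (Subgroup.zpowers xH) ≤ Nat.card Db := Subgroup.card_le_of_le (h4.trans h5)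
  rw [Nat.card_zpowers, hox, hcb] at h6
  have hlb : 1 ≤ Cfsg.blockDefect 2 b := by
    by_contra h
    push Not at h
    have : Cfsg.blockDefect 2 b = 0 := by omega
    rw [this, pow_zero] at h6
    omega
  omega

end

section

/-- if all members of `b` agree with `θ` on `p`-regular elements, the `b`-part of a function is a
multiple of `θ` there -/
theorem sd_expand {H : Type*} [Group H] [Fintype H] (p : ℕ) (b : Set (Cfsg.IrrCharacter H))
    (θ : Cfsg.IrrCharacter H)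
    (hag : ∀ ψ ∈ b, ∀ y : H, ¬ p ∣ orderOf y → (ψ : H → ℂ) y = (θ : H → ℂ) y)
    (F : H → ℂ) (y : H) (hy : ¬ p ∣ orderOf y) :
    Cfsg.blockPart b F y =
      (∑ᶠ ψ ∈ b, Cfsg.classInner F (ψ : H → ℂ)) * (θ : H → ℂ) y := by
  classical
  haveI : Fintype (Cfsg.IrrCharacter H) := Fintype.ofFinite _
  rw [ib_blockPart_apply, h7_finsum_mem_fintype, h7_finsum_mem_fintype, Finset.sum_mul]
  refine Finset.sum_congr rfl fun ψ _ => ?_
  split_ifs with h
  · rw [hag ψ h y hy]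
  · rw [zero_mul]

open Classical in
/-- the subsections `(x, b')` with `b'^G = B`, `x` an involution and `B` of defect one: at most one -/
theorem sd_count {G : Type*} [Group G] [Fintype G] (M : Ideal Cfsg.AlgInt)
    (hM : Cfsg.IsPModular 2 M) (x : G) (hx : orderOf x = 2)
    (B : Set (Cfsg.IrrCharacter G)) (hB : Cfsg.IsPBlock M B)
    (hd : Cfsg.blockDefect 2 B = 1) :
    ∑ᶠ b ∈ {b : Set (Cfsg.IrrCharacter ↥(Subgroup.centralizer ({x} : Set G))) |
        Cfsg.IsInducedBlock M (Subgroup.centralizer ({x} : Set G)) b B},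
        Cfsg.blockRank 2 b ≤ 1 := by
  haveI : Fact (Nat.Prime 2) := ⟨Nat.prime_two⟩
  haveI : Fintype (Cfsg.IrrCharacter G) := Fintype.ofFinite _
  have hMp := hM.2.1.isPrime
  have hGne : (Nat.card G : ℂ) ≠ 0 := by exact_mod_cast Nat.card_pos.ne'
  obtain ⟨hk, hl, -, -⟩ := sd_defect_one M hM B hB hd
  have hper := sc_per_x 2 M hM B hB x ⟨1, by rw [hx, pow_one]⟩
  obtain ⟨χ₀, rfl⟩ := hB
  have hrank := br_rank_eq hM χ₀
  rw [hl, Nat.cast_one] at hrank
  -- `k(B)` as a sum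
  have hcard : ((2 : ℕ) : ℂ) = ∑ χ : Cfsg.IrrCharacter G,
      (if χ ∈ Cfsg.blockOf M (χ₀ : G → ℂ) then (Nat.card G : ℂ)⁻¹ *
        ∑ g : G, (χ : G → ℂ) g * conj ((χ : G → ℂ) g) else 0) := by
    rw [← hk]
    have e1 : ∀ χ : Cfsg.IrrCharacter G, (Nat.card G : ℂ)⁻¹ *
        ∑ g : G, (χ : G → ℂ) g * conj ((χ : G → ℂ) g) = 1 := by
      intro χ
      have := irr_classInner χ χ
      rw [if_pos rfl] at this
      exact this
    simp only [e1]
    rw [Finset.sum_boole, Nat.card_eq_fintype_card, Fintype.card_subtype]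
  -- real versions
  set T : ℝ := ∑ χ : Cfsg.IrrCharacter G, (if χ ∈ Cfsg.blockOf M (χ₀ : G → ℂ) then
      (Nat.card G : ℝ)⁻¹ * ∑ g : G, (if IsConj (sc_pp 2 g) x then ‖(χ : G → ℂ) g‖ ^ 2 else 0)
      else 0) with hT
  set L : ℝ := ∑ χ : Cfsg.IrrCharacter G, (if χ ∈ Cfsg.blockOf M (χ₀ : G → ℂ) then
      (Nat.card G : ℝ)⁻¹ * ∑ g : G, (if ¬ 2 ∣ orderOf g then ‖(χ : G → ℂ) g‖ ^ 2 else 0)
      else 0) with hL
  set K : ℝ := ∑ χ : Cfsg.IrrCharacter G, (if χ ∈ Cfsg.blockOf M (χ₀ : G → ℂ) then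
      (Nat.card G : ℝ)⁻¹ * ∑ g : G, ‖(χ : G → ℂ) g‖ ^ 2 else 0) with hK
  have hmc : ∀ (χ : Cfsg.IrrCharacter G) (g : G), (χ : G → ℂ) g * conj ((χ : G → ℂ) g) =
      ((‖(χ : G → ℂ) g‖ ^ 2 : ℝ) : ℂ) := by
    intro χ g
    rw [Complex.mul_conj, Complex.normSq_eq_norm_sq]
  have hTc : ((∑ᶠ b ∈ {b : Set (Cfsg.IrrCharacter ↥(Subgroup.centralizer ({x} : Set G))) |
        Cfsg.IsInducedBlock M (Subgroup.centralizer ({x} : Set G)) b
          (Cfsg.blockOf M (χ₀ : G → ℂ))},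
        Cfsg.blockRank 2 b : ℕ) : ℂ) = ((T : ℝ) : ℂ) := by
    rw [hper, hT, Complex.ofReal_sum]
    refine Finset.sum_congr rfl fun χ _ => ?_
    split_ifs with h
    · rw [Complex.ofReal_mul, Complex.ofReal_inv, Complex.ofReal_natCast, Complex.ofReal_sum]
      congr 1
      refine Finset.sum_congr rfl fun g _ => ?_
      split_ifs
      · exact hmc χ g
      · rw [Complex.ofReal_zero]
    · rw [Complex.ofReal_zero]
  have hLc : (1 : ℂ) = ((L : ℝ) : ℂ) := by
    rw [hrank, hL, Complex.ofReal_sum]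
    refine Finset.sum_congr rfl fun χ _ => ?_
    split_ifs with h
    · rw [Complex.ofReal_mul, Complex.ofReal_inv, Complex.ofReal_natCast, Complex.ofReal_sum]
      unfold Cfsg.classInner
      congr 1
      refine Finset.sum_congr rfl fun g _ => ?_
      unfold Cfsg.pRegularPart Cfsg.IsPRegular
      by_cases hg : 2 ∣ orderOf g
      · rw [if_neg (not_not.mpr hg), if_neg (not_not.mpr hg), zero_mul, Complex.ofReal_zero]
      · rw [if_pos hg, if_pos hg]
        exact hmc χ g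
    · rw [Complex.ofReal_zero]
  have hKc : ((2 : ℕ) : ℂ) = ((K : ℝ) : ℂ) := by
    rw [hcard, hK, Complex.ofReal_sum]
    refine Finset.sum_congr rfl fun χ _ => ?_
    split_ifs with h
    · rw [Complex.ofReal_mul, Complex.ofReal_inv, Complex.ofReal_natCast, Complex.ofReal_sum]
      congr 1
      refine Finset.sum_congr rfl fun g _ => ?_
      exact hmc χ g
    · rw [Complex.ofReal_zero]
  have hL1 : L = 1 := by exact_mod_cast hLc.symm
  have hK2 : K = 2 := by exact_mod_cast hKc.symm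
  have hTLK : T + L ≤ K := by
    rw [hT, hL, hK, ← Finset.sum_add_distrib]
    apply Finset.sum_le_sum
    intro χ _
    split_ifs with h
    · rw [← mul_add, ← Finset.sum_add_distrib]
      apply mul_le_mul_of_nonneg_left _ (by positivity)
      apply Finset.sum_le_sum
      intro g _
      by_cases hg : 2 ∣ orderOf g
      · rw [if_neg (not_not.mpr hg), add_zero]
        split_ifs
        · exact le_refl _
        · positivity
      · rw [if_pos hg, if_neg, zero_add]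
        intro hc
        have hpp : sc_pp 2 g = 1 := by
          apply sc_pp_eq 2
          exact ⟨g, one_mul g, Commute.one_left g, ⟨0, by rw [orderOf_one, pow_zero]⟩, hg⟩
        rw [hpp] at hc
        have : x = 1 := isConj_one_right.mp hc
        rw [this, orderOf_one] at hx
        omega
    · rw [add_zero]
  have hT1 : T ≤ 1 := by linarith
  have : ((∑ᶠ b ∈ {b : Set (Cfsg.IrrCharacter ↥(Subgroup.centralizer ({x} : Set G))) |
        Cfsg.IsInducedBlock M (Subgroup.centralizer ({x} : Set G)) b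
          (Cfsg.blockOf M (χ₀ : G → ℂ))},
        Cfsg.blockRank 2 b : ℕ) : ℝ) = T := by
    apply Complex.ofReal_injective
    rw [Complex.ofReal_natCast]
    exact hTc
  have h2 : ((∑ᶠ b ∈ {b : Set (Cfsg.IrrCharacter ↥(Subgroup.centralizer ({x} : Set G))) |
        Cfsg.IsInducedBlock M (Subgroup.centralizer ({x} : Set G)) b
          (Cfsg.blockOf M (χ₀ : G → ℂ))},
        Cfsg.blockRank 2 b : ℕ) : ℝ) ≤ 1 := by rw [this]; exact hT1
  exact_mod_cast h2

end

section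

open Classical in
/-- `2`-blocks of defect one -/
theorem sd_main {G : Type*} [Group G] [Fintype G] (M : Ideal Cfsg.AlgInt)
    (hM : Cfsg.IsPModular 2 M) (x : G) (hx : orderOf x = 2)
    (B : Set (Cfsg.IrrCharacter G)) (hB : Cfsg.IsPBlock M B)
    (hBD : Cfsg.IsDefectGroup 2 M B (Subgroup.zpowers x))
    (H : Subgroup G) (hH : H = Subgroup.centralizer ({x} : Set G))
    (b : Set (Cfsg.IrrCharacter H)) (hb : Cfsg.IsInducedBlock M H b B)
    (θ : Cfsg.IrrCharacter H) (hθ : θ ∈ b) :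
    Nat.card B = 2 ∧
    (∀ χ ∈ B, ∀ ψ ∈ B, ∀ g : G, ¬ 2 ∣ orderOf g → (χ : G → ℂ) g = (ψ : G → ℂ) g) ∧
      ∃ χ₁ ∈ B, ∃ χ₂ ∈ B, χ₁ ≠ χ₂ ∧ ∃ ε₁ ε₂ : ℤ, (ε₁ = 1 ∨ ε₁ = -1) ∧ (ε₂ = 1 ∨ ε₂ = -1) ∧
        ε₁ * ε₂ = -1 ∧ ∀ y : H, ¬ 2 ∣ orderOf y →
          (χ₁ : G → ℂ) (x * y) = (ε₁ : ℂ) * (θ : H → ℂ) y ∧
          (χ₂ : G → ℂ) (x * y) = (ε₂ : ℂ) * (θ : H → ℂ) y := by
  haveI : Fact (Nat.Prime 2) := ⟨Nat.prime_two⟩
  haveI : Fintype (Cfsg.IrrCharacter G) := Fintype.ofFinite _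
  have hMp := hM.2.1.isPrime
  have hxH : x ∈ H := by rw [hH]; exact Subgroup.mem_centralizer_singleton_iff.mpr rfl
  have hcent : ∀ h ∈ H, h * x = x * h := fun h hh =>
    Subgroup.mem_centralizer_singleton_iff.mp (hH ▸ hh)
  have hcent' : ∀ g : G, g * x = x * g → g ∈ H := fun g hg => by
    rw [hH]; exact Subgroup.mem_centralizer_singleton_iff.mpr hg
  haveI : Fintype H := Fintype.ofFinite _
  haveI : Fintype (Cfsg.IrrCharacter H) := Fintype.ofFinite _
  have hxp : ∃ k : ℕ, orderOf x = 2 ^ k := ⟨1, by rw [hx, pow_one]⟩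
  have hblk : ∀ B₁ B₂ : Set (Cfsg.IrrCharacter G), Cfsg.IsPBlock M B₁ → Cfsg.IsPBlock M B₂ →
      ∀ χ : Cfsg.IrrCharacter G, χ ∈ B₁ → χ ∈ B₂ → B₁ = B₂ := by
    rintro B₁ B₂ ⟨χ₁, rfl⟩ ⟨χ₂, rfl⟩ χ h1 h2
    rw [h7_blockOf_eq_of_mem hMp χ₁ χ h1, h7_blockOf_eq_of_mem hMp χ₂ χ h2]
  -- defect
  have hd : Cfsg.blockDefect 2 B = 1 := by
    have h1 := Cfsg.Agent.S0908.result 2 M hM B hB _ hBD
    rw [Nat.card_zpowers, hx] at h1
    have : 2 ^ 1 = 2 ^ Cfsg.blockDefect 2 B := by rw [pow_one]; exact h1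
    exact (Nat.pow_right_injective (le_refl 2) this).symm
  obtain ⟨hk, hl, hagree, hinner⟩ := sd_defect_one M hM B hB hd
  have hdb := sd_local_defect M hM x hx H hxH hcent b B hb hd
  obtain ⟨hkb, hlb, hagreeb, hinnerb⟩ := sd_defect_one M hM b hb.1 hdb
  -- uniqueness of b
  have hcount : ∑ᶠ b' ∈ {b' : Set (Cfsg.IrrCharacter H) | Cfsg.IsInducedBlock M H b' B},
      Cfsg.blockRank 2 b' ≤ 1 := by
    subst hH
    exact sd_count M hM x hx B hB hd
  have huniq : ∀ b' : Set (Cfsg.IrrCharacter H), Cfsg.IsInducedBlock M H b' B → b' = b := by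
    intro b' hb'
    by_contra hne
    obtain ⟨ξ', hξ'⟩ := hb'.1
    have hpos' : 0 < Cfsg.blockRank 2 b' :=
      sd_rank_pos 2 b' ξ' (by rw [hξ']; exact h7_sameBlock_refl hMp _)
    have hposb : 0 < Cfsg.blockRank 2 b := sd_rank_pos 2 b θ hθ
    rw [h7_finsum_mem_fintype] at hcount
    have h2 : ∑ i ∈ ({b', b} : Finset (Set (Cfsg.IrrCharacter H))),
        (if i ∈ {b' : Set (Cfsg.IrrCharacter H) | Cfsg.IsInducedBlock M H b' B} then
          Cfsg.blockRank 2 i else 0) ≤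
        ∑ i : Set (Cfsg.IrrCharacter H),
        (if i ∈ {b' : Set (Cfsg.IrrCharacter H) | Cfsg.IsInducedBlock M H b' B} then
          Cfsg.blockRank 2 i else 0) :=
      Finset.sum_le_sum_of_subset (Finset.subset_univ _)
    rw [Finset.sum_pair hne,
      if_pos (show b' ∈ {b' : Set (Cfsg.IrrCharacter H) | Cfsg.IsInducedBlock M H b' B} from hb'),
      if_pos (show b ∈ {b' : Set (Cfsg.IrrCharacter H) | Cfsg.IsInducedBlock M H b' B} from hb)]
      at h2
    omega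
  -- expansion
  set c : Cfsg.IrrCharacter G → ℂ := fun χ => ∑ᶠ ψ ∈ b,
    Cfsg.classInner (fun h : H => (χ : G → ℂ) (x * (h : G))) (ψ : H → ℂ) with hc
  have hpart : ∀ (χ : Cfsg.IrrCharacter G) (y : H), ¬ 2 ∣ orderOf y →
      Cfsg.blockPart b (fun h : H => (χ : G → ℂ) (x * (h : G))) y = c χ * (θ : H → ℂ) y :=
    fun χ y hy => sd_expand 2 b θ (fun ψ hψ y hy => hagreeb ψ hψ θ hθ y hy) _ y hy
  have hdef : ∀ b' : Set (Cfsg.IrrCharacter H), Cfsg.IsPBlock M b' →
      Cfsg.InducedBlockDefined M H b' := by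
    subst hH
    obtain ⟨hP, hPH, hCH, hHN⟩ := h7_centralizer_brauer_hyps 2 x hxp
    exact fun b' hb' =>
      Cfsg.Agent.S0919.result 2 M hM (Subgroup.zpowers x) _ hP hPH hCH hHN b' hb'
  have hval : ∀ χ ∈ B, ∀ y : H, ¬ 2 ∣ orderOf y →
      (χ : G → ℂ) (x * (y : G)) = c χ * (θ : H → ℂ) y := by
    intro χ hχ y hy
    rw [← hpart χ y hy]
    have hθcl : ∀ g h : H, (fun h : H => (χ : G → ℂ) (x * (h : G))) (h * g * h⁻¹) =
        (fun h : H => (χ : G → ℂ) (x * (h : G))) g := fun g h => st_theta_class H x hcent χ g h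
    have h1 := sc_sum_blockPart hMp (fun h : H => (χ : G → ℂ) (x * (h : G))) hθcl y
    refine h1.symm.trans ?_
    rw [Finset.sum_eq_single b]
    · rw [if_pos hb.1]
    · intro b' _ hne
      split_ifs with hb'
      · obtain ⟨B', hB'⟩ := hdef b' hb'
        have hBB' : χ ∉ B' := by
          intro h
          apply hne
          apply huniq
          have : B' = B := hblk B' B hB'.2.1 hB χ h hχ
          rw [← this]
          exact hB'
        exact st_smt 2 M hM H x hxH hcent hcent' hxp b' B' hB' χ hBB' y hy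
      · rfl
    · intro h
      exact absurd (Finset.mem_univ _) h
  -- the two characters
  obtain ⟨χ₁, χ₂, hne, hBeq⟩ := Set.ncard_eq_two.mp ((Nat.card_coe_set_eq B).symm.trans hk)
  have hχ₁ : χ₁ ∈ B := by rw [hBeq]; exact Set.mem_insert _ _
  have hχ₂ : χ₂ ∈ B := by rw [hBeq]; exact Set.mem_insert_of_mem _ rfl
  have h1H : ¬ 2 ∣ orderOf (1 : H) := by rw [orderOf_one]; norm_num
  have h1G : ¬ 2 ∣ orderOf (1 : G) := by rw [orderOf_one]; norm_num
  have hv1 : (χ₁ : G → ℂ) x = c χ₁ * (θ : H → ℂ) 1 := by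
    have := hval χ₁ hχ₁ 1 h1H
    rwa [Subgroup.coe_one, mul_one] at this
  have hv2 : (χ₂ : G → ℂ) x = c χ₂ * (θ : H → ℂ) 1 := by
    have := hval χ₂ hχ₂ 1 h1H
    rwa [Subgroup.coe_one, mul_one] at this
  have hθ1 : (θ : H → ℂ) 1 ≠ 0 := irr_one_ne_zero θ
  have hχ1 : (χ₁ : G → ℂ) 1 ≠ 0 := irr_one_ne_zero χ₁
  -- orthogonality of the sections of `x` and `1`
  have horth := (Cfsg.Agent.S0925.result 2 M hM).2 x 1 x 1
    ⟨1, mul_one x, Commute.one_right x, hxp, h1G⟩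
    ⟨1, one_mul 1, Commute.one_left 1, ⟨0, by rw [orderOf_one, pow_zero]⟩, h1G⟩
    (fun h => by
      have : x = 1 := isConj_one_left.mp h
      rw [this, orderOf_one] at hx
      omega) B hB
  rw [hBeq, finsum_mem_pair (M := ℂ) hne, inv_one, hv1, hv2, ← hagree χ₁ hχ₁ χ₂ hχ₂ 1 h1G] at horth
  have hsum0 : c χ₁ + c χ₂ = 0 := by
    have : (c χ₁ + c χ₂) * ((θ : H → ℂ) 1 * (χ₁ : G → ℂ) 1) = 0 := by
      rw [← horth]; ring
    rcases mul_eq_zero.mp this with h | h
    · exact h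
    · exact absurd h (mul_ne_zero hθ1 hχ1)
  -- the trace identity
  have htr := st_trace 2 M hM H x hxH hcent hcent' hxp b B hb
  have hW : ∀ χ : Cfsg.IrrCharacter G, Cfsg.classInner
      (Cfsg.pRegularPart 2 (Cfsg.blockPart b (fun h : H => (χ : G → ℂ) (x * (h : G)))))
      (Cfsg.blockPart b (fun h : H => (χ : G → ℂ) (x * (h : G)))) =
      c χ * conj (c χ) * (1 / 2) := by
    intro χ
    rw [← hinnerb θ hθ]
    unfold Cfsg.classInner
    have e : ∀ y : H, Cfsg.pRegularPart 2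
        (Cfsg.blockPart b (fun h : H => (χ : G → ℂ) (x * (h : G)))) y *
        conj (Cfsg.blockPart b (fun h : H => (χ : G → ℂ) (x * (h : G))) y) =
        c χ * conj (c χ) * (Cfsg.pRegularPart 2 (θ : H → ℂ) y * conj ((θ : H → ℂ) y)) := by
      intro y
      unfold Cfsg.pRegularPart Cfsg.IsPRegular
      by_cases hy : 2 ∣ orderOf y
      · rw [if_neg (not_not.mpr hy), if_neg (not_not.mpr hy), zero_mul, zero_mul, mul_zero]
      · rw [if_pos hy, if_pos hy, hpart χ y hy, map_mul]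
        ring
    rw [Finset.sum_congr rfl (fun y _ => e y), ← Finset.mul_sum]
    ring
  rw [hlb, hBeq, finsum_mem_pair (M := ℂ) hne, hW, hW, Nat.cast_one] at htr
  -- realness
  obtain ⟨n, hn, -⟩ := Cfsg.Agent.S0944.result χ₁ x hx
  obtain ⟨m, hm, hθm⟩ := irr_one_eq_finrank θ
  have hc1 : c χ₁ = (n : ℂ) / (m : ℂ) := by
    rw [hn, hθm] at hv1
    have hm0 : (m : ℂ) ≠ 0 := by exact_mod_cast hm.ne'
    field_simp
    exact hv1.symm
  have hreal : conj (c χ₁) = c χ₁ := by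
    rw [hc1, map_div₀, map_intCast, Complex.conj_natCast]
  have hc2 : c χ₂ = - c χ₁ := by
    rw [eq_neg_iff_add_eq_zero, add_comm]; exact hsum0
  rw [hc2, map_neg, hreal] at htr
  have hsq : (c χ₁ - 1) * (c χ₁ + 1) = 0 := by
    have : c χ₁ * c χ₁ = 1 := by linear_combination htr
    linear_combination this
  refine ⟨hk, hagree, χ₁, hχ₁, χ₂, hχ₂, hne, ?_⟩
  rcases mul_eq_zero.mp hsq with h | h
  · have h1 : c χ₁ = 1 := by linear_combination h
    refine ⟨1, -1, Or.inl rfl, Or.inr rfl, by norm_num, fun y hy => ⟨?_, ?_⟩⟩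
    · rw [hval χ₁ hχ₁ y hy, h1, Int.cast_one]
    · rw [hval χ₂ hχ₂ y hy, hc2, h1, Int.cast_neg, Int.cast_one]
  · have h1 : c χ₁ = -1 := by linear_combination h
    refine ⟨-1, 1, Or.inr rfl, Or.inl rfl, by norm_num, fun y hy => ⟨?_, ?_⟩⟩
    · rw [hval χ₁ hχ₁ y hy, h1, Int.cast_neg, Int.cast_one]
    · rw [hval χ₂ hχ₂ y hy, hc2, h1, neg_neg, Int.cast_one]

end

end Cfsg.Agent.Lib.Helper25
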