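import Mathlib
import Cfsg.Agent.Lib.Helper25.BrauerPairNormal
import Cfsg.Agent.Lib.helper7.BlockRadical

/-!
Brauer pairs: the radical lemma for the Brauer map, the transfer lemma along a normal inclusion of Brauer pairs, and invariance of the block along chains (S4658).
-/

set_option autoImplicit false
set_option linter.style.haveILetI false
set_option linter.unusedVariables false
set_option warn.classDefReducibility false
set_option maxHeartbeats 1600000

namespace Cfsg.Agent.Lib.Helper25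
open Cfsg.Agent.Lib.helper2
open Cfsg.Agent.Lib.helper7
open scoped ComplexConjugate
section

/-- the extension by zero of a class function of `K` is invariant under `K` -/
theorem bq_ext_inner {G : Type*} [Group G] (K : Subgroup G) (z : K → ℂ)
    (hz : ∀ g h : K, z (h * g * h⁻¹) = z g) (k : G) (hk : k ∈ K) (x : G) :
    Cfsg.extendByZero K z (k * x * k⁻¹) = Cfsg.extendByZero K z x := by
  by_cases hx : x ∈ K
  · rw [h7_extendByZero_mem K z x hx, h7_extendByZero_mem K z _
      (Subgroup.mul_mem _ (Subgroup.mul_mem _ hk hx) (Subgroup.inv_mem _ hk))]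
    exact hz ⟨x, hx⟩ ⟨k, hk⟩
  · rw [h7_extendByZero_not_mem K z x hx, h7_extendByZero_not_mem K z _ (fun h => hx (by
      have := Subgroup.mul_mem _ (Subgroup.mul_mem _ (Subgroup.inv_mem _ hk) h) hk
      simpa [mul_assoc] using this))]

/-- iterated convolution powers in Fourier coordinates -/
theorem bq_conv_pow_coef {K : Type*} [Group K] [Fintype K] [Fintype (Cfsg.IrrCharacter K)]
    (z : K → ℂ) (hz : ∀ g h : K, z (h * g * h⁻¹) = z g)
    (w : ℕ → K → ℂ) (hw0 : w 0 = z) (hw : ∀ n, w (n + 1) = h7_conv (w n) z) (n : ℕ) :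
    w n = h7_coef ((h7_fourier z) ^ (n + 1)) := by
  induction n with
  | zero => rw [hw0, zero_add, pow_one, h7_coef_fourier z hz]
  | succ n ih =>
    rw [hw, ih]
    conv_lhs => rw [← h7_coef_fourier z hz]
    rw [h7_conv_coef, h7_fourier_coef, ← pow_succ]

/-- **radical lemma**: a central element of the group ring of `K` all of whose central character
values lie in the local ideal has Brauer-map values in the local ideal -/
theorem bq_radical {G : Type*} [Group G] [Fintype G] (p : ℕ) [hp : Fact p.Prime]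
    (M : Ideal Cfsg.AlgInt) (hM : Cfsg.IsPModular p M) (P : Subgroup G) (hP : IsPGroup p P)
    (K : Subgroup G) [Fintype K] [Fintype (Cfsg.IrrCharacter K)]
    (hDK : Subgroup.centralizer (P : Set G) ≤ K) (z : K → ℂ)
    (hz : ∀ g h : K, z (h * g * h⁻¹) = z g) (hzR : ∀ k, Cfsg.MemLocalRing M (z k))
    (hzP : ∀ u ∈ P, ∀ x, Cfsg.extendByZero K z (u * x * u⁻¹) = Cfsg.extendByZero K z x)
    (hν : ∀ ψ : Cfsg.IrrCharacter K, Cfsg.MemLocalIdeal M (h7_fourier z ψ))
    (ξ : Cfsg.IrrCharacter (Subgroup.centralizer (P : Set G))) :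
    Cfsg.MemLocalIdeal M (Cfsg.brauerOmega P (Cfsg.extendByZero K z)
      (ξ : Subgroup.centralizer (P : Set G) → ℂ)) := by
  classical
  have hPr := hM.2.1.isPrime
  obtain ⟨N, hN⟩ := h7_radical_pow hM (h7_fourier z) hν
  -- the powers in K
  let w : ℕ → K → ℂ := fun n => Nat.rec z (fun _ v => h7_conv v z) n
  have hw0 : w 0 = z := rfl
  have hw : ∀ n, w (n + 1) = h7_conv (w n) z := fun n => rfl
  have hwc := bq_conv_pow_coef z hz w hw0 hw
  -- the powers in G
  set Z := Cfsg.extendByZero K z with hZ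
  have hZR : ∀ x, Cfsg.MemLocalRing M (Z x) := by
    intro x
    by_cases hx : x ∈ K
    · rw [hZ, h7_extendByZero_mem K z x hx]
      exact hzR _
    · rw [hZ, h7_extendByZero_not_mem K z x hx]
      exact h7_memLocalRing_zero hPr
  have hZD : ∀ d ∈ Subgroup.centralizer (P : Set G), ∀ x, Z (d * x * d⁻¹) = Z x :=
    fun d hd x => bq_ext_inner K z hz d (hDK hd) x
  have hW0 : (fun n => Cfsg.extendByZero K (w n)) 0 = Z := rfl
  have hW : ∀ n, (fun n => Cfsg.extendByZero K (w n)) (n + 1) =
      h7_conv ((fun n => Cfsg.extendByZero K (w n)) n) Z := by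
    intro n
    show Cfsg.extendByZero K (w (n + 1)) = h7_conv (Cfsg.extendByZero K (w n)) Z
    rw [hZ, h7_conv_extendByZero, hw]
  obtain ⟨h1, h2, h3, h4⟩ := bq_omega_pow p M hM P hP Z hZR hzP hZD ξ
    (fun n => Cfsg.extendByZero K (w n)) hW0 hW N
  have h5 : Cfsg.MemLocalIdeal M (Cfsg.brauerOmega P (Cfsg.extendByZero K (w N))
      (ξ : Subgroup.centralizer (P : Set G) → ℂ)) := by
    apply bq_omega_ideal hPr
    · intro d hd x _
      exact h3 d hd x
    · intro x hx
      rw [h7_extendByZero_mem K _ x (hDK hx), hwc N]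
      exact hN _
  have h6 := h7_memLocalIdeal_sub hPr h5 h4
  rw [sub_sub_cancel] at h6
  exact h7_memLocalIdeal_of_pow hPr (bq_omega_mem hPr P Z hZD hZR ξ) N h6

open Classical in
/-- the Fourier transform of a block idempotent -/
theorem bq_fourier_blockCoeff {K : Type*} [Group K] [Fintype K] [Fintype (Cfsg.IrrCharacter K)]
    (S : Set (Cfsg.IrrCharacter K)) :
    h7_fourier (fun k : K => Cfsg.blockCoeff S k) =
      fun χ : Cfsg.IrrCharacter K => if χ ∈ S then (1 : ℂ) else 0 := by
  have e1 : (fun k : K => Cfsg.blockCoeff S k) =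
      h7_coef (fun χ : Cfsg.IrrCharacter K => if χ ∈ S then (1 : ℂ) else 0) := by
    funext k
    rw [h7_coef_indicator]
  rw [e1, h7_fourier_coef]

/-- **transfer lemma**: an element occurring at a normal subpair occurs at the pair above -/
theorem bq_transfer {G : Type*} [Group G] [Fintype G] (p : ℕ) [hp : Fact p.Prime]
    (M : Ideal Cfsg.AlgInt) (hM : Cfsg.IsPModular p M) (P Q : Subgroup G)
    (e : Set (Cfsg.IrrCharacter (Subgroup.centralizer (P : Set G))))
    (f : Set (Cfsg.IrrCharacter (Subgroup.centralizer (Q : Set G))))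
    (hn : Cfsg.IsNormalSubpair p M Q f P e) (a : G → ℂ)
    (haR : ∀ x, Cfsg.MemLocalRing M (a x))
    (haP : ∀ u ∈ P, ∀ x, a (u * x * u⁻¹) = a x)
    (haK : ∀ k ∈ Subgroup.centralizer (Q : Set G), ∀ x, a (k * x * k⁻¹) = a x)
    (hQ : ∀ ψ ∈ f, Cfsg.MemLocalIdeal M
      (Cfsg.brauerOmega Q a (ψ : Subgroup.centralizer (Q : Set G) → ℂ) - 1)) :
    ∀ ξ ∈ e, Cfsg.MemLocalIdeal M
      (Cfsg.brauerOmega P a (ξ : Subgroup.centralizer (P : Set G) → ℂ) - 1) := by
  classical
  have hPr := hM.2.1.isPrime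
  obtain ⟨⟨hQp, hfb⟩, ⟨hP, heb⟩, hQP, hPN, hst, h1⟩ := hn
  intro ξ hξ
  have hDK : Subgroup.centralizer (P : Set G) ≤ Subgroup.centralizer (Q : Set G) :=
    Subgroup.centralizer_le hQP
  have hPK : P ≤ Subgroup.normalizer
      ((Subgroup.centralizer (Q : Set G) : Subgroup G) : Set G) :=
    fun u hu => bm_normalizer_centralizer Q u (hPN hu)
  haveI : Fintype (Subgroup.centralizer (Q : Set G)) := Fintype.ofFinite _
  haveI : Fintype (Cfsg.IrrCharacter (Subgroup.centralizer (Q : Set G))) := Fintype.ofFinite _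
  haveI : Fintype (Subgroup.centralizer (P : Set G)) := Fintype.ofFinite _
  -- the functions on K
  set a' : Subgroup.centralizer (Q : Set G) → ℂ :=
    fun k => a k - (if k = 1 then 1 else 0) with ha'
  set b' : Subgroup.centralizer (Q : Set G) → ℂ := fun k => Cfsg.blockCoeff f k with hb'
  have ha'cl : ∀ g h : Subgroup.centralizer (Q : Set G), a' (h * g * h⁻¹) = a' g := by
    intro g h
    simp only [ha']
    have e1 : a ((h * g * h⁻¹ : Subgroup.centralizer (Q : Set G)) : G) = a g := haK h h.2 g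
    have e2 : (h * g * h⁻¹ = 1) ↔ g = 1 := by
      constructor
      · intro hh
        have := congrArg (fun t => h⁻¹ * t * h) hh
        simpa [mul_assoc] using this
      · intro hh
        rw [hh]
        simp
    rw [e1]
    by_cases hg : g = 1
    · rw [if_pos hg, if_pos (e2.mpr hg)]
    · rw [if_neg hg, if_neg (fun hh => hg (e2.mp hh))]
  have hb'cl : ∀ g h : Subgroup.centralizer (Q : Set G), b' (h * g * h⁻¹) = b' g :=
    fun g h => br_blockCoeff_conj f g h
  set z := h7_conv a' b' with hz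
  have hzcl : ∀ g h : Subgroup.centralizer (Q : Set G), z (h * g * h⁻¹) = z g :=
    fun g h => bq_conv_conj a' b' h (fun x => ha'cl x h) (fun x => hb'cl x h) g
  have ha'R : ∀ k, Cfsg.MemLocalRing M (a' k) := by
    intro k
    simp only [ha']
    apply h7_memLocalRing_sub hPr (haR _)
    split_ifs
    · exact h7_memLocalRing_one hPr
    · exact h7_memLocalRing_zero hPr
  have hb'R : ∀ k, Cfsg.MemLocalRing M (b' k) := by
    intro k
    obtain ⟨χ, rfl⟩ := hfb
    exact h7_osima hPr χ k
  have hzR : ∀ k, Cfsg.MemLocalRing M (z k) := by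
    intro k
    rw [hz, h7_conv_apply]
    exact h7_memLocalRing_sum hPr _ _ fun h _ => h7_memLocalRing_mul hPr (ha'R _) (hb'R _)
  -- extension to G
  set A := Cfsg.extendByZero (Subgroup.centralizer (Q : Set G)) a' with hA
  have hB : Cfsg.extendByZero (Subgroup.centralizer (Q : Set G)) b' =
      Cfsg.subgroupBlockCoeff (Subgroup.centralizer (Q : Set G)) f := (bq_sbc_eq _ f).symm
  have hZ : Cfsg.extendByZero (Subgroup.centralizer (Q : Set G)) z =
      h7_conv A (Cfsg.subgroupBlockCoeff (Subgroup.centralizer (Q : Set G)) f) := by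
    rw [hz, ← h7_conv_extendByZero, hB]
  have hAR : ∀ x, Cfsg.MemLocalRing M (A x) := by
    intro x
    by_cases hx : x ∈ Subgroup.centralizer (Q : Set G)
    · rw [hA, h7_extendByZero_mem _ a' x hx]
      exact ha'R _
    · rw [hA, h7_extendByZero_not_mem _ a' x hx]
      exact h7_memLocalRing_zero hPr
  have hAP : ∀ u ∈ P, ∀ x, A (u * x * u⁻¹) = A x := by
    intro u hu x
    have hmem : u * x * u⁻¹ ∈ Subgroup.centralizer (Q : Set G) ↔
        x ∈ Subgroup.centralizer (Q : Set G) :=
      (Subgroup.mem_normalizer_iff.mp (hPK hu) x).symm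
    by_cases hx : x ∈ Subgroup.centralizer (Q : Set G)
    · rw [hA, h7_extendByZero_mem _ a' x hx, h7_extendByZero_mem _ a' _ (hmem.mpr hx)]
      simp only [ha']
      rw [haP u hu x]
      have e2 : ((⟨u * x * u⁻¹, hmem.mpr hx⟩ : Subgroup.centralizer (Q : Set G)) = 1) ↔
          ((⟨x, hx⟩ : Subgroup.centralizer (Q : Set G)) = 1) := by
        rw [Subtype.ext_iff, Subtype.ext_iff]
        show u * x * u⁻¹ = 1 ↔ x = 1
        constructor
        · intro hh
          have := congrArg (fun t => u⁻¹ * t * u) hh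
          simpa [mul_assoc] using this
        · intro hh
          rw [hh]
          simp
      by_cases hg : (⟨x, hx⟩ : Subgroup.centralizer (Q : Set G)) = 1
      · rw [if_pos hg, if_pos (e2.mpr hg)]
      · rw [if_neg hg, if_neg (fun hh => hg (e2.mp hh))]
    · rw [hA, h7_extendByZero_not_mem _ a' x hx,
        h7_extendByZero_not_mem _ a' _ (fun h => hx (hmem.mp h))]
  have hAD : ∀ d ∈ Subgroup.centralizer (P : Set G), ∀ x, A (d * x * d⁻¹) = A x :=
    fun d hd x => bq_ext_inner _ a' ha'cl d (hDK hd) x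
  have hβR := bq_sbc_memLocalRing hPr (Subgroup.centralizer (Q : Set G)) f hfb
  have hβP : ∀ u ∈ P, ∀ x,
      Cfsg.subgroupBlockCoeff (Subgroup.centralizer (Q : Set G)) f (u * x * u⁻¹) =
        Cfsg.subgroupBlockCoeff (Subgroup.centralizer (Q : Set G)) f x :=
    fun u hu x => bq_sbc_stable hPr _ f hfb u (hst u hu) x
  have hβD : ∀ d ∈ Subgroup.centralizer (P : Set G), ∀ x,
      Cfsg.subgroupBlockCoeff (Subgroup.centralizer (Q : Set G)) f (d * x * d⁻¹) =
        Cfsg.subgroupBlockCoeff (Subgroup.centralizer (Q : Set G)) f x :=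
    fun d hd x => bq_sbc_inner _ f d (hDK hd) x
  -- the Fourier transform of z
  have hν : ∀ ψ : Cfsg.IrrCharacter (Subgroup.centralizer (Q : Set G)),
      Cfsg.MemLocalIdeal M (h7_fourier z ψ) := by
    intro ψ
    rw [hz, h7_fourier_conv a' b' ha'cl hb'cl, Pi.mul_apply, hb', bq_fourier_blockCoeff]
    beta_reduce
    by_cases hψ : ψ ∈ f
    · rw [if_pos hψ, mul_one]
      have e1 : h7_fourier a' ψ =
          Cfsg.brauerOmega Q a (ψ : Subgroup.centralizer (Q : Set G) → ℂ) - 1 := by
        rw [bq_omega_eq, h7_fourier_apply]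
        unfold bm_omega
        simp only [ha', sub_mul, Finset.sum_sub_distrib, sub_div]
        congr 1
        · rw [Finset.sum_div]
        · rw [Finset.sum_eq_single (1 : Subgroup.centralizer (Q : Set G))]
          · rw [if_pos rfl, one_mul]
            exact div_self (irr_one_ne_zero ψ)
          · intro k _ hk
            rw [if_neg hk, zero_mul]
          · intro h
            exact absurd (Finset.mem_univ _) h
      rw [e1]
      exact hQ ψ hψ
    · rw [if_neg hψ, mul_zero]
      exact h7_memLocalIdeal_zero hPr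
  have hzP : ∀ u ∈ P, ∀ x, Cfsg.extendByZero (Subgroup.centralizer (Q : Set G)) z (u * x * u⁻¹) =
      Cfsg.extendByZero (Subgroup.centralizer (Q : Set G)) z x := by
    intro u hu x
    rw [hZ]
    exact bq_conv_conj _ _ u (hAP u hu) (hβP u hu) x
  have h2 := bq_radical p M hM P hP (Subgroup.centralizer (Q : Set G)) hDK z hzcl hzR hzP hν ξ
  rw [hZ] at h2
  have h3 := bq_omega_mul p M hM P hP A _ hAR hβR hAP hβP hAD hβD ξ
  -- λ(A) = λ(a) - 1
  have h4 : Cfsg.brauerOmega P A (ξ : Subgroup.centralizer (P : Set G) → ℂ) =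
      Cfsg.brauerOmega P a (ξ : Subgroup.centralizer (P : Set G) → ℂ) - 1 := by
    rw [← bq_omega_delta P ξ, ← bq_omega_sub, bq_omega_eq, bq_omega_eq]
    congr 1
    funext x
    rw [hA, h7_extendByZero_mem _ a' (x : G) (hDK x.2)]
    simp only [ha', Pi.sub_apply]
    congr 1
    rw [bq_delta_apply]
    by_cases hx : (x : G) = 1
    · rw [if_pos hx, if_pos (Subtype.ext hx)]
    · rw [if_neg hx, if_neg (fun h => hx (congrArg Subtype.val h))]
  rw [h4] at h3
  set s := Cfsg.brauerOmega P a (ξ : Subgroup.centralizer (P : Set G) → ℂ) with hs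
  set t := Cfsg.brauerOmega P (Cfsg.subgroupBlockCoeff (Subgroup.centralizer (Q : Set G)) f)
    (ξ : Subgroup.centralizer (P : Set G) → ℂ) with ht
  have h5 : Cfsg.MemLocalIdeal M (t - 1) := h1 ξ hξ
  have hsR : Cfsg.MemLocalRing M (s - 1) := by
    rw [← h4]
    exact bq_omega_mem hPr P A hAD hAR ξ
  -- s - 1 = (Z-value) - (Z-value - (s-1) t) - (s-1)(t-1)
  have h6 := h7_memLocalIdeal_sub hPr (h7_memLocalIdeal_sub hPr h2 h3)
    (h7_memLocalIdeal_mul_left hPr hsR h5)
  have e : Cfsg.brauerOmega P (h7_conv A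
      (Cfsg.subgroupBlockCoeff (Subgroup.centralizer (Q : Set G)) f))
      (ξ : Subgroup.centralizer (P : Set G) → ℂ) -
      (Cfsg.brauerOmega P (h7_conv A
      (Cfsg.subgroupBlockCoeff (Subgroup.centralizer (Q : Set G)) f))
      (ξ : Subgroup.centralizer (P : Set G) → ℂ) - (s - 1) * t) - (s - 1) * (t - 1) = s - 1 := by
    ring
  rw [e] at h6
  exact h6

end

section

/-- a normal step up preserves the block of a Brauer pair -/
theorem bq_pairOf_step_up {G : Type*} [Group G] [Fintype G] (p : ℕ) [hp : Fact p.Prime]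
    (M : Ideal Cfsg.AlgInt) (hM : Cfsg.IsPModular p M) (P Q : Subgroup G)
    (e : Set (Cfsg.IrrCharacter (Subgroup.centralizer (P : Set G))))
    (f : Set (Cfsg.IrrCharacter (Subgroup.centralizer (Q : Set G))))
    (hn : Cfsg.IsNormalSubpair p M Q f P e) (B : Set (Cfsg.IrrCharacter G))
    (hB : Cfsg.IsBrauerPairOf p M B Q f) : Cfsg.IsBrauerPairOf p M B P e := by
  classical
  haveI : Fintype (Cfsg.IrrCharacter G) := Fintype.ofFinite _
  have hPr := hM.2.1.isPrime
  obtain ⟨hQf, hBb, hB1⟩ := hB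
  refine ⟨hn.2.1, hBb, ?_⟩
  obtain ⟨χ, rfl⟩ := hBb
  exact bq_transfer p M hM P Q e f hn _ (fun x => h7_osima hPr χ x)
    (fun u _ x => br_blockCoeff_conj _ x u) (fun k _ x => br_blockCoeff_conj _ x k) hB1

/-- a normal step preserves the block of a Brauer pair, in both directions -/
theorem bq_pairOf_step {G : Type*} [Group G] [Fintype G] (p : ℕ) [hp : Fact p.Prime]
    (M : Ideal Cfsg.AlgInt) (hM : Cfsg.IsPModular p M) (P Q : Subgroup G)
    (e : Set (Cfsg.IrrCharacter (Subgroup.centralizer (P : Set G))))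
    (f : Set (Cfsg.IrrCharacter (Subgroup.centralizer (Q : Set G))))
    (hn : Cfsg.IsNormalSubpair p M Q f P e) (B : Set (Cfsg.IrrCharacter G)) :
    Cfsg.IsBrauerPairOf p M B P e ↔ Cfsg.IsBrauerPairOf p M B Q f := by
  constructor
  · intro hB
    obtain ⟨B', hB', _⟩ := br_unique_block p M hM Q f hn.1
    have h1 := bq_pairOf_step_up p M hM P Q e f hn B' hB'
    obtain ⟨B'', _, huniq⟩ := br_unique_block p M hM P e hn.2.1
    have e1 : B = B' := (huniq B hB).trans (huniq B' h1).symm
    rw [e1]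
    exact hB'
  · exact bq_pairOf_step_up p M hM P Q e f hn B

/-- the block of a Brauer pair is the same along a chain of normal inclusions -/
theorem bq_pairOf_chain {G : Type*} [Group G] [Fintype G] (p : ℕ) [hp : Fact p.Prime]
    (M : Ideal Cfsg.AlgInt) (hM : Cfsg.IsPModular p M) (B : Set (Cfsg.IrrCharacter G))
    (a b : Cfsg.BrauerPairIdx G)
    (h : Relation.ReflTransGen (Cfsg.NormalSubpairRel p M) a b) :
    Cfsg.IsBrauerPairOf p M B b.1 b.2 ↔ Cfsg.IsBrauerPairOf p M B a.1 a.2 := by
  induction h with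
  | refl => exact Iff.rfl
  | tail _ hcd ih =>
    exact (bq_pairOf_step p M hM _ _ _ _ hcd B).trans ih

theorem bq_pairOf_le {G : Type*} [Group G] [Fintype G] (p : ℕ) [hp : Fact p.Prime]
    (M : Ideal Cfsg.AlgInt) (hM : Cfsg.IsPModular p M) (P Q : Subgroup G)
    (e : Set (Cfsg.IrrCharacter (Subgroup.centralizer (P : Set G))))
    (f : Set (Cfsg.IrrCharacter (Subgroup.centralizer (Q : Set G))))
    (hle : Cfsg.SubpairLE p M Q f P e) (B : Set (Cfsg.IrrCharacter G)) :
    Cfsg.IsBrauerPairOf p M B P e ↔ Cfsg.IsBrauerPairOf p M B Q f :=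
  bq_pairOf_chain p M hM B ⟨Q, f⟩ ⟨P, e⟩ hle

end

end Cfsg.Agent.Lib.Helper25
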