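import Mathlib
import Cfsg.Agent.Lib.Helper25.BrauerPairTransfer

/-!
Brauer pairs: existence and uniqueness of subpairs (Alperin-Broue), via the key lemma on two normal subpairs of a pair (S4655).
-/

set_option autoImplicit false
set_option linter.style.haveILetI false
set_option linter.unusedVariables false
set_option warn.classDefReducibility false
set_option maxHeartbeats 1600000

namespace Cfsg.Agent.Lib.Helper25
open Cfsg.Agent.Lib.helper2
open Cfsg.Agent.Lib.helper7
open scoped ComplexConjugate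
section

/-- in a finite `p`-group, proper subgroups are properly contained in their normalizers -/
theorem bq_normalizer_grows {G : Type*} [Group G] [Finite G] (p : ℕ) [hp : Fact p.Prime]
    (P Q : Subgroup G) (hP : IsPGroup p P) (hQP : Q < P) :
    Q < Subgroup.normalizer (Q : Set G) ⊓ P := by
  haveI : Group.IsNilpotent P := hP.isNilpotent
  have hnc : NormalizerCondition P := Group.normalizerCondition_of_isNilpotent
  have h1 : Q.subgroupOf P < ⊤ := by
    rw [lt_top_iff_ne_top]
    intro h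
    rw [Subgroup.subgroupOf_eq_top] at h
    exact absurd (le_antisymm hQP.le h) hQP.ne
  have h2 := hnc _ h1
  rw [← Subgroup.subgroupOf_normalizer_eq hQP.le] at h2
  obtain ⟨hle, x, hx, hxn⟩ := SetLike.lt_iff_le_and_exists.mp h2
  refine SetLike.lt_iff_le_and_exists.mpr ⟨le_inf Subgroup.le_normalizer hQP.le, (x : G), ?_, ?_⟩
  · exact ⟨Subgroup.mem_subgroupOf.mp hx, x.2⟩
  · intro h
    exact hxn (Subgroup.mem_subgroupOf.mpr h)

/-- **existence of subpairs** -/
theorem bq_subpair_exists {G : Type*} [Group G] [Fintype G] (p : ℕ) [hp : Fact p.Prime]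
    (M : Ideal Cfsg.AlgInt) (hM : Cfsg.IsPModular p M) (P : Subgroup G)
    (e : Set (Cfsg.IrrCharacter (Subgroup.centralizer (P : Set G))))
    (hPe : Cfsg.IsBrauerPair p M P e) (Q : Subgroup G) :
    Q ≤ P → ∃ f : Set (Cfsg.IrrCharacter (Subgroup.centralizer (Q : Set G))),
      Cfsg.IsPBlock M f ∧ Cfsg.SubpairLE p M Q f P e := by
  induction Q using WellFoundedGT.induction with
  | _ Q ih =>
    intro hQP
    rcases eq_or_lt_of_le hQP with h | h
    · subst h
      exact ⟨e, hPe.2, Relation.ReflTransGen.refl⟩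
    · have hgrow := bq_normalizer_grows p P Q hPe.1 h
      obtain ⟨f₁, hf₁, hle₁⟩ := ih _ hgrow inf_le_right
      have hpair : Cfsg.IsBrauerPair p M (Subgroup.normalizer (Q : Set G) ⊓ P) f₁ :=
        ⟨hPe.1.to_le inf_le_right, hf₁⟩
      obtain ⟨f, hf, _⟩ := bq_normal_subpair p M hM _ Q f₁ hpair hgrow.le inf_le_left
      have hstep : Cfsg.NormalSubpairRel p M ⟨Q, f⟩ ⟨Subgroup.normalizer (Q : Set G) ⊓ P, f₁⟩ := hf
      exact ⟨f, hf.1.2, Relation.ReflTransGen.head hstep hle₁⟩

end

section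

open Classical in
/-- the Brauer-map value of a block idempotent of the centralizer itself -/
theorem bq_omega_self {G : Type*} [Group G] [Fintype G] (P : Subgroup G)
    (g : Set (Cfsg.IrrCharacter (Subgroup.centralizer (P : Set G))))
    (ξ : Cfsg.IrrCharacter (Subgroup.centralizer (P : Set G))) :
    Cfsg.brauerOmega P (Cfsg.subgroupBlockCoeff (Subgroup.centralizer (P : Set G)) g)
      (ξ : Subgroup.centralizer (P : Set G) → ℂ) = if ξ ∈ g then 1 else 0 := by
  haveI : Fintype (Subgroup.centralizer (P : Set G)) := Fintype.ofFinite _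
  haveI : Fintype (Cfsg.IrrCharacter (Subgroup.centralizer (P : Set G))) := Fintype.ofFinite _
  rw [bq_omega_eq]
  unfold bm_omega
  have h1 := h7_coef_eval (fun χ : Cfsg.IrrCharacter (Subgroup.centralizer (P : Set G)) =>
    if χ ∈ g then (1 : ℂ) else 0) ξ
  rw [← Finset.sum_div]
  have h2 : ∑ x : Subgroup.centralizer (P : Set G),
      Cfsg.subgroupBlockCoeff (Subgroup.centralizer (P : Set G)) g (x : G) *
        (ξ : Subgroup.centralizer (P : Set G) → ℂ) x =
      ∑ x : Subgroup.centralizer (P : Set G),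
        h7_coef (fun χ : Cfsg.IrrCharacter (Subgroup.centralizer (P : Set G)) =>
          if χ ∈ g then (1 : ℂ) else 0) x * (ξ : Subgroup.centralizer (P : Set G) → ℂ) x := by
    refine Finset.sum_congr rfl fun x _ => ?_
    rw [bq_sbc_mem _ g (x : G) x.2, h7_coef_indicator]
  rw [h2, h1]
  have := irr_one_ne_zero ξ
  field_simp

/-- a normal inclusion between pairs on the same subgroup is an equality -/
theorem bq_trivial_step {G : Type*} [Group G] [Fintype G] (p : ℕ) [hp : Fact p.Prime]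
    (M : Ideal Cfsg.AlgInt) (hM : Cfsg.IsPModular p M) (P : Subgroup G)
    (g e : Set (Cfsg.IrrCharacter (Subgroup.centralizer (P : Set G))))
    (h : Cfsg.IsNormalSubpair p M P g P e) : g = e := by
  classical
  haveI : Fintype (Subgroup.centralizer (P : Set G)) := Fintype.ofFinite _
  haveI : Fintype (Cfsg.IrrCharacter (Subgroup.centralizer (P : Set G))) := Fintype.ofFinite _
  have hPr := hM.2.1.isPrime
  obtain ⟨⟨_, hg⟩, ⟨_, he⟩, _, _, _, h1⟩ := h
  by_contra hne
  obtain ⟨ξ, rfl⟩ := he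
  have h2 := h1 ξ (h7_sameBlock_refl hPr _)
  rw [bq_omega_self] at h2
  by_cases hξ : ξ ∈ g
  · obtain ⟨χ, rfl⟩ := hg
    exact hne (h7_blockOf_eq_of_mem hPr _ _ hξ)
  · rw [if_neg hξ, zero_sub] at h2
    have h3 := h7_memLocalIdeal_neg h2
    rw [neg_neg] at h3
    exact h7_not_memLocalIdeal_one hPr h3

/-- a chain of normal inclusions goes up in the subgroup lattice -/
theorem bq_chain_le {G : Type*} [Group G] (p : ℕ) (M : Ideal Cfsg.AlgInt)
    (a b : Cfsg.BrauerPairIdx G)
    (h : Relation.ReflTransGen (Cfsg.NormalSubpairRel p M) a b) : a.1 ≤ b.1 := by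
  induction h with
  | refl => exact le_rfl
  | tail _ hcd ih => exact ih.trans hcd.2.2.1

/-- the last proper step of a chain -/
theorem bq_chain_last {G : Type*} [Group G] [Fintype G] (p : ℕ) [hp : Fact p.Prime]
    (M : Ideal Cfsg.AlgInt) (hM : Cfsg.IsPModular p M)
    (a b : Cfsg.BrauerPairIdx G)
    (h : Relation.ReflTransGen (Cfsg.NormalSubpairRel p M) a b) :
    a = b ∨ ∃ c : Cfsg.BrauerPairIdx G, c.1 < b.1 ∧
      Relation.ReflTransGen (Cfsg.NormalSubpairRel p M) a c ∧
      Cfsg.IsNormalSubpair p M c.1 c.2 b.1 b.2 := by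
  induction h with
  | refl => exact Or.inl rfl
  | @tail c d hac hcd ih =>
    obtain ⟨R, g⟩ := c
    obtain ⟨P, e⟩ := d
    have hcd' : Cfsg.IsNormalSubpair p M R g P e := hcd
    have hRP : R ≤ P := hcd'.2.2.1
    rcases eq_or_lt_of_le hRP with hh | hh
    · subst hh
      have := bq_trivial_step p M hM R g e hcd'
      subst this
      exact ih
    · exact Or.inr ⟨⟨R, g⟩, hh, hac, hcd'⟩

end

section

/-- the Brauer-map value of a conjugated function -/
theorem bq_omega_conj {G : Type*} [Group G] [Finite G] (R : Subgroup G) (x : G)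
    (hx : x ∈ Subgroup.normalizer
      ((Subgroup.centralizer (R : Set G) : Subgroup G) : Set G))
    (a : G → ℂ) (ψ : Cfsg.IrrCharacter (Subgroup.centralizer (R : Set G))) :
    Cfsg.brauerOmega R (fun c => a (x⁻¹ * c * x))
        (ψ : Subgroup.centralizer (R : Set G) → ℂ) =
      Cfsg.brauerOmega R a
        (bq_conjIrr (Subgroup.centralizer (R : Set G)) x⁻¹ (Subgroup.inv_mem _ hx) ψ :
          Subgroup.centralizer (R : Set G) → ℂ) := by
  classical
  haveI : Fintype (Subgroup.centralizer (R : Set G)) := Fintype.ofFinite _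
  rw [bq_omega_eq, bq_omega_eq]
  unfold bm_omega
  refine (Fintype.sum_equiv (bq_conjEquiv (Subgroup.centralizer (R : Set G)) x hx).toEquiv
    _ _ fun c' => ?_).symm
  have h1 : (bq_conjIrr (Subgroup.centralizer (R : Set G)) x⁻¹ (Subgroup.inv_mem _ hx) ψ :
      Subgroup.centralizer (R : Set G) → ℂ) c' =
      (ψ : Subgroup.centralizer (R : Set G) → ℂ)
        ((bq_conjEquiv (Subgroup.centralizer (R : Set G)) x hx) c') := by
    apply bq_conjIrr_conj
    rw [bq_conjEquiv_apply]
    group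
  have h2 : (bq_conjIrr (Subgroup.centralizer (R : Set G)) x⁻¹ (Subgroup.inv_mem _ hx) ψ :
      Subgroup.centralizer (R : Set G) → ℂ) 1 =
      (ψ : Subgroup.centralizer (R : Set G) → ℂ) 1 := by
    apply bq_conjIrr_conj
    simp
  rw [h1, h2]
  have h3 : x⁻¹ * (((bq_conjEquiv (Subgroup.centralizer (R : Set G)) x hx).toEquiv c' :
      Subgroup.centralizer (R : Set G)) : G) * x = (c' : G) := by
    show x⁻¹ * ((bq_conjEquiv (Subgroup.centralizer (R : Set G)) x hx c' :
      Subgroup.centralizer (R : Set G)) : G) * x = (c' : G)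
    rw [bq_conjEquiv_apply]
    group
  beta_reduce
  rw [h3]
  rfl

/-- conjugating a normal subpair by an element stabilizing the upper pair -/
theorem bq_normalSubpair_conj {G : Type*} [Group G] [Fintype G] (p : ℕ) [hp : Fact p.Prime]
    (M : Ideal Cfsg.AlgInt) (hM : Cfsg.IsPModular p M) (P R S : Subgroup G)
    (g : Set (Cfsg.IrrCharacter (Subgroup.centralizer (R : Set G))))
    (h' : Set (Cfsg.IrrCharacter (Subgroup.centralizer (S : Set G))))
    (hPS : P ≤ Subgroup.normalizer (S : Set G)) (hPR : P ≤ Subgroup.normalizer (R : Set G))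
    (hst : ∀ y ∈ P, Cfsg.StabilizesBlock (Subgroup.centralizer (R : Set G)) g y)
    (hn : Cfsg.IsNormalSubpair p M S h' R g) (x : G) (hx : x ∈ P) :
    Cfsg.IsNormalSubpair p M S
      (bq_conjSet (Subgroup.centralizer (S : Set G)) x
        (bm_normalizer_centralizer S x (hPS hx)) h') R g := by
  classical
  have hPr := hM.2.1.isPrime
  obtain ⟨⟨hSp, hh'⟩, hRg, hSR, hRN, hstR, hom⟩ := hn
  have hxK := bm_normalizer_centralizer S x (hPS hx)
  have hblock := bq_conjSet_isBlock (Subgroup.centralizer (S : Set G)) x hxK M h' hh'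
  refine ⟨⟨hSp, hblock⟩, hRg, hSR, hRN, ?_, ?_⟩
  · intro r hr
    have hrK := bm_normalizer_centralizer S r (hRN hr)
    rw [bq_stabilizes_iff hPr _ _ hblock r hrK]
    have hr' : x⁻¹ * r * x ∈ R := by
      have := (Subgroup.mem_normalizer_iff.mp (Subgroup.inv_mem _ (hPR hx)) r).mp hr
      rwa [inv_inv] at this
    have hr'K := bm_normalizer_centralizer S _ (hRN hr')
    have h1 := (bq_stabilizes_iff hPr _ h' hh' _ hr'K).mp (hstR _ hr')
    rw [← bq_conjSet_mul,
      bq_conjSet_congr _ (r * x) (x * (x⁻¹ * r * x)) _ (Subgroup.mul_mem _ hxK hr'K) (by group),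
      bq_conjSet_mul _ x (x⁻¹ * r * x) hxK hr'K, h1]
  · intro ψ hψ
    have hxD := bm_normalizer_centralizer R x (hPR hx)
    have e1 : Cfsg.subgroupBlockCoeff (Subgroup.centralizer (S : Set G))
        (bq_conjSet (Subgroup.centralizer (S : Set G)) x hxK h') =
        fun c => Cfsg.subgroupBlockCoeff (Subgroup.centralizer (S : Set G)) h' (x⁻¹ * c * x) := by
      funext c
      exact bq_sbc_conjSet _ x hxK h' c
    rw [e1, bq_omega_conj R x hxD]
    apply hom
    obtain ⟨_, h2⟩ := hst x⁻¹ (Subgroup.inv_mem _ hx)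
    obtain ⟨χ', hχ', hc⟩ := h2 ψ hψ
    rw [← bq_conjIrr_unique _ x⁻¹ (Subgroup.inv_mem _ hxD) ψ χ' hc]
    exact hχ'

/-- **key lemma**: two normal subpairs of the same pair, on comparable subgroups, are
themselves a normal inclusion -/
theorem bq_key {G : Type*} [Group G] [Fintype G] (p : ℕ) [hp : Fact p.Prime]
    (M : Ideal Cfsg.AlgInt) (hM : Cfsg.IsPModular p M) (P R S : Subgroup G)
    (e : Set (Cfsg.IrrCharacter (Subgroup.centralizer (P : Set G))))
    (g : Set (Cfsg.IrrCharacter (Subgroup.centralizer (R : Set G))))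
    (h : Set (Cfsg.IrrCharacter (Subgroup.centralizer (S : Set G))))
    (hS : Cfsg.IsNormalSubpair p M S h P e) (hR : Cfsg.IsNormalSubpair p M R g P e)
    (hSR : S ≤ R) : Cfsg.IsNormalSubpair p M S h R g := by
  classical
  have hPr := hM.2.1.isPrime
  have hRP : R ≤ P := hR.2.2.1
  have hPS : P ≤ Subgroup.normalizer (S : Set G) := hS.2.2.2.1
  have hPR : P ≤ Subgroup.normalizer (R : Set G) := hR.2.2.2.1
  have hstg := hR.2.2.2.2.1
  obtain ⟨h', hh', huniq'⟩ := bq_normal_subpair p M hM R S g hR.1 hSR (hRP.trans hPS)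
  -- h' is P-stable
  have hstable : ∀ x ∈ P, Cfsg.StabilizesBlock (Subgroup.centralizer (S : Set G)) h' x := by
    intro x hx
    have h1 := bq_normalSubpair_conj p M hM P R S g h' hPS hPR hstg hh' x hx
    have h2 := huniq' _ h1
    exact (bq_stabilizes_iff hPr _ h' hh'.1.2 x (bm_normalizer_centralizer S x (hPS hx))).mpr h2
  -- transfer to (P, e)
  have hDK : Subgroup.centralizer (R : Set G) ≤ Subgroup.centralizer (S : Set G) :=
    Subgroup.centralizer_le hSR
  have h3 := bq_transfer p M hM P R e g hR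
    (Cfsg.subgroupBlockCoeff (Subgroup.centralizer (S : Set G)) h')
    (bq_sbc_memLocalRing hPr _ h' hh'.1.2)
    (fun u hu x => bq_sbc_stable hPr _ h' hh'.1.2 u (hstable u hu) x)
    (fun k hk x => bq_sbc_inner _ h' k (hDK hk) x) hh'.2.2.2.2.2
  have h4 : Cfsg.IsNormalSubpair p M S h' P e :=
    ⟨hh'.1, hS.2.1, hS.2.2.1, hPS, hstable, h3⟩
  obtain ⟨h₀, _, huniq⟩ := bq_normal_subpair p M hM P S e hS.2.1 hS.2.2.1 hPS
  have e1 : h = h' := (huniq h hS).trans (huniq h' h4).symm
  rw [e1]
  exact hh'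

end

section

theorem bq_normalizer_inf {G : Type*} [Group G] (P R R' : Subgroup G)
    (h1 : P ≤ Subgroup.normalizer (R : Set G)) (h2 : P ≤ Subgroup.normalizer (R' : Set G)) :
    P ≤ Subgroup.normalizer ((R ⊓ R' : Subgroup G) : Set G) := by
  intro x hx
  rw [Subgroup.mem_normalizer_iff]
  intro y
  have e1 := Subgroup.mem_normalizer_iff.mp (h1 hx) y
  have e2 := Subgroup.mem_normalizer_iff.mp (h2 hx) y
  rw [Subgroup.mem_inf, Subgroup.mem_inf, e1, e2]

/-- **uniqueness of subpairs** -/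
theorem bq_subpair_unique {G : Type*} [Group G] [Fintype G] (p : ℕ) [hp : Fact p.Prime]
    (M : Ideal Cfsg.AlgInt) (hM : Cfsg.IsPModular p M) (P : Subgroup G) :
    ∀ (e : Set (Cfsg.IrrCharacter (Subgroup.centralizer (P : Set G))))
      (hPe : Cfsg.IsBrauerPair p M P e) (Q : Subgroup G)
      (f f' : Set (Cfsg.IrrCharacter (Subgroup.centralizer (Q : Set G)))),
      Cfsg.SubpairLE p M Q f P e → Cfsg.SubpairLE p M Q f' P e → f = f' := by
  induction P using WellFoundedLT.induction with
  | _ P ih =>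
    intro e hPe Q f f' c1 c2
    rcases bq_chain_last p M hM _ _ c1 with h1 | ⟨⟨R, g⟩, hRP, hchain1, hn1⟩
    · obtain ⟨hQP, hfe⟩ := Sigma.mk.inj_iff.mp h1
      subst hQP
      have hfe' : f = e := eq_of_heq hfe
      rcases bq_chain_last p M hM _ _ c2 with h2 | ⟨⟨R', g'⟩, hR'P, hchain2, hn2⟩
      · obtain ⟨_, hfe2⟩ := Sigma.mk.inj_iff.mp h2
        rw [hfe', eq_of_heq hfe2]
      · exact absurd (bq_chain_le p M _ _ hchain2) (not_le_of_gt hR'P)
    · rcases bq_chain_last p M hM _ _ c2 with h2 | ⟨⟨R', g'⟩, hR'P, hchain2, hn2⟩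
      · obtain ⟨hQP, _⟩ := Sigma.mk.inj_iff.mp h2
        subst hQP
        exact absurd (bq_chain_le p M _ _ hchain1) (not_le_of_gt hRP)
      · have hRP' : R < P := hRP
        have hR'P' : R' < P := hR'P
        have hn1' : Cfsg.IsNormalSubpair p M R g P e := hn1
        have hn2' : Cfsg.IsNormalSubpair p M R' g' P e := hn2
        have hQR : Q ≤ R := bq_chain_le p M _ _ hchain1
        have hQR' : Q ≤ R' := bq_chain_le p M _ _ hchain2
        have hQS : Q ≤ R ⊓ R' := le_inf hQR hQR'
        have hSP : R ⊓ R' ≤ P := inf_le_left.trans hRP'.le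
        have hPS := bq_normalizer_inf P R R' hn1'.2.2.2.1 hn2'.2.2.2.1
        obtain ⟨h, hh, _⟩ := bq_normal_subpair p M hM P (R ⊓ R') e hPe hSP hPS
        have hk1 := bq_key p M hM P R (R ⊓ R') e g h hh hn1' inf_le_left
        have hk2 := bq_key p M hM P R' (R ⊓ R') e g' h hh hn2' inf_le_right
        obtain ⟨f₁, hf₁, hle₁⟩ := bq_subpair_exists p M hM (R ⊓ R') h hh.1 Q hQS
        have hs1 : Cfsg.NormalSubpairRel p M ⟨R ⊓ R', h⟩ ⟨R, g⟩ := hk1
        have hs2 : Cfsg.NormalSubpairRel p M ⟨R ⊓ R', h⟩ ⟨R', g'⟩ := hk2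
        have e1 : f₁ = f := ih R hRP' g hn1'.1 Q f₁ f (Relation.ReflTransGen.tail hle₁ hs1) hchain1
        have e2 : f₁ = f' :=
          ih R' hR'P' g' hn2'.1 Q f₁ f' (Relation.ReflTransGen.tail hle₁ hs2) hchain2
        rw [← e1, ← e2]

/-- **existence and uniqueness of subpairs** -/
theorem bq_subpair_exists_unique {G : Type*} [Group G] [Fintype G] (p : ℕ) [hp : Fact p.Prime]
    (M : Ideal Cfsg.AlgInt) (hM : Cfsg.IsPModular p M) (P Q : Subgroup G)
    (e : Set (Cfsg.IrrCharacter (Subgroup.centralizer (P : Set G))))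
    (hPe : Cfsg.IsBrauerPair p M P e) (hQP : Q ≤ P) :
    ∃! f : Set (Cfsg.IrrCharacter (Subgroup.centralizer (Q : Set G))),
      Cfsg.IsPBlock M f ∧ Cfsg.SubpairLE p M Q f P e := by
  obtain ⟨f, hf, hle⟩ := bq_subpair_exists p M hM P e hPe Q hQP
  refine ⟨f, ⟨hf, hle⟩, ?_⟩
  rintro f' ⟨_, hle'⟩
  exact bq_subpair_unique p M hM P e hPe Q f' f hle' hle

end

end Cfsg.Agent.Lib.Helper25
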