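import Mathlib
import Cfsg.Agent.Lib.Helper25.BrauerPairSubpair
import Cfsg.Agent.Lib.Helper25.ThirdMainPair
import Cfsg.Prelude.Def_BlockFusion

/-!
Brauer pairs: conjugate blocks via pull-back along conjugation, the principal pairs, and the fusion system of the principal block (S4681).
-/

set_option autoImplicit false
set_option linter.style.haveILetI false
set_option linter.unusedVariables false
set_option warn.classDefReducibility false
set_option maxHeartbeats 1600000

namespace Cfsg.Agent.Lib.Helper25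
open Cfsg.Agent.Lib.helper2
open Cfsg.Agent.Lib.helper7
open scoped ComplexConjugate
section

/-- conjugation by `x` from `C_G(Q)` onto `C_G(xQx⁻¹)` -/
def bq_centConj {G : Type*} [Group G] (Q : Subgroup G) (x : G) :
    Subgroup.centralizer (Q : Set G) ≃*
      Subgroup.centralizer ((Q.map (MulAut.conj x).toMonoidHom : Subgroup G) : Set G) where
  toFun c := ⟨x * (c : G) * x⁻¹, by
    rw [Subgroup.mem_centralizer_iff]
    rintro _ ⟨q, hq, rfl⟩
    have h := Subgroup.mem_centralizer_iff.mp c.2 q hq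
    show (MulAut.conj x) q * (x * (c : G) * x⁻¹) = x * (c : G) * x⁻¹ * (MulAut.conj x) q
    rw [MulAut.conj_apply]
    calc x * q * x⁻¹ * (x * (c : G) * x⁻¹) = x * (q * (c : G)) * x⁻¹ := by group
      _ = x * ((c : G) * q) * x⁻¹ := by rw [h]
      _ = x * (c : G) * x⁻¹ * (x * q * x⁻¹) := by group⟩
  invFun c' := ⟨x⁻¹ * (c' : G) * x, by
    rw [Subgroup.mem_centralizer_iff]
    intro q hq
    have h := Subgroup.mem_centralizer_iff.mp c'.2 (x * q * x⁻¹)
      ⟨q, hq, by rw [MulEquiv.coe_toMonoidHom, MulAut.conj_apply]⟩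
    calc q * (x⁻¹ * (c' : G) * x) = x⁻¹ * ((x * q * x⁻¹) * (c' : G)) * x := by group
      _ = x⁻¹ * ((c' : G) * (x * q * x⁻¹)) * x := by rw [h]
      _ = x⁻¹ * (c' : G) * x * q := by group⟩
  left_inv c := by
    apply Subtype.ext
    simp [mul_assoc]
  right_inv c := by
    apply Subtype.ext
    simp [mul_assoc]
  map_mul' a b := by
    apply Subtype.ext
    show x * ((a : G) * (b : G)) * x⁻¹ = (x * (a : G) * x⁻¹) * (x * (b : G) * x⁻¹)
    group

theorem bq_centConj_apply {G : Type*} [Group G] (Q : Subgroup G) (x : G)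
    (c : Subgroup.centralizer (Q : Set G)) :
    ((bq_centConj Q x c : _) : G) = x * (c : G) * x⁻¹ := rfl

/-- the pull-back of an irreducible character of `C_G(xQx⁻¹)` to `C_G(Q)` -/
noncomputable def bq_pull {G : Type*} [Group G] (Q : Subgroup G) (x : G)
    (ξ' : Cfsg.IrrCharacter
      (Subgroup.centralizer ((Q.map (MulAut.conj x).toMonoidHom : Subgroup G) : Set G))) :
    Cfsg.IrrCharacter (Subgroup.centralizer (Q : Set G)) :=
  ⟨fun c => (ξ' : _ → ℂ) (bq_centConj Q x c), h7_isIrr_comp_equiv (bq_centConj Q x) _ ξ'.2⟩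

theorem bq_pull_apply {G : Type*} [Group G] (Q : Subgroup G) (x : G)
    (ξ' : Cfsg.IrrCharacter
      (Subgroup.centralizer ((Q.map (MulAut.conj x).toMonoidHom : Subgroup G) : Set G)))
    (c : Subgroup.centralizer (Q : Set G)) :
    (bq_pull Q x ξ' : _ → ℂ) c = (ξ' : _ → ℂ) (bq_centConj Q x c) := rfl

/-- membership in a conjugate block -/
theorem bq_mem_conjBlock {G : Type*} [Group G] (Q : Subgroup G) (x : G)
    (f : Set (Cfsg.IrrCharacter (Subgroup.centralizer (Q : Set G))))
    (ξ' : Cfsg.IrrCharacter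
      (Subgroup.centralizer ((Q.map (MulAut.conj x).toMonoidHom : Subgroup G) : Set G))) :
    ξ' ∈ Cfsg.conjBlock Q x f ↔ bq_pull Q x ξ' ∈ f := by
  constructor
  · rintro ⟨ξ, hξ, h⟩
    have e : bq_pull Q x ξ' = ξ := by
      apply Subtype.ext
      funext c
      rw [bq_pull_apply]
      exact h c (bq_centConj Q x c) (bq_centConj_apply Q x c)
    rw [e]
    exact hξ
  · intro h
    refine ⟨bq_pull Q x ξ', h, fun c c' hcc' => ?_⟩
    rw [bq_pull_apply]
    have e : c' = bq_centConj Q x c := by
      apply Subtype.ext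
      rw [bq_centConj_apply, hcc']
    rw [e]

/-- the conjugate of the block of a function -/
theorem bq_conjBlock_blockOf {G : Type*} [Group G] (M : Ideal Cfsg.AlgInt) (Q : Subgroup G)
    (x : G) (χ : Subgroup.centralizer (Q : Set G) → ℂ) :
    Cfsg.conjBlock Q x (Cfsg.blockOf M χ) =
      Cfsg.blockOf M (fun c' => χ ((bq_centConj Q x).symm c')) := by
  ext ξ'
  rw [bq_mem_conjBlock]
  show Cfsg.SameBlock M χ (bq_pull Q x ξ' : _ → ℂ) ↔
    Cfsg.SameBlock M (fun c' => χ ((bq_centConj Q x).symm c')) (ξ' : _ → ℂ)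
  have h1 : ∀ c, Cfsg.centralChar (bq_pull Q x ξ' : _ → ℂ) c =
      Cfsg.centralChar (ξ' : _ → ℂ) (bq_centConj Q x c) :=
    fun c => bm_centralChar_comp_equiv (bq_centConj Q x) _ c
  have h2 : ∀ c', Cfsg.centralChar (fun c' => χ ((bq_centConj Q x).symm c')) c' =
      Cfsg.centralChar χ ((bq_centConj Q x).symm c') :=
    fun c' => bm_centralChar_comp_equiv (bq_centConj Q x).symm _ c'
  constructor
  · intro h c'
    have := h ((bq_centConj Q x).symm c')
    rw [h1, MulEquiv.apply_symm_apply] at this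
    rw [h2]
    exact this
  · intro h c
    have := h (bq_centConj Q x c)
    rw [h2, MulEquiv.symm_apply_apply] at this
    rw [h1]
    exact this

/-- the conjugate of a block is a block -/
theorem bq_conjBlock_isBlock {G : Type*} [Group G] (M : Ideal Cfsg.AlgInt) (Q : Subgroup G)
    (x : G) (f : Set (Cfsg.IrrCharacter (Subgroup.centralizer (Q : Set G))))
    (hf : Cfsg.IsPBlock M f) : Cfsg.IsPBlock M (Cfsg.conjBlock Q x f) := by
  obtain ⟨χ, rfl⟩ := hf
  rw [bq_conjBlock_blockOf]
  exact ⟨⟨_, h7_isIrr_comp_equiv (bq_centConj Q x).symm _ χ.2⟩, rfl⟩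

/-- the conjugate of the principal block is the principal block -/
theorem bq_conjBlock_principal {G : Type*} [Group G] (M : Ideal Cfsg.AlgInt) (Q : Subgroup G)
    (x : G) :
    Cfsg.conjBlock Q x (Cfsg.principalBlock M (Subgroup.centralizer (Q : Set G))) =
      Cfsg.principalBlock M
        (Subgroup.centralizer ((Q.map (MulAut.conj x).toMonoidHom : Subgroup G) : Set G)) := by
  unfold Cfsg.principalBlock
  rw [bq_conjBlock_blockOf]

/-- the principal pairs below the Sylow principal pair -/
theorem bq_principal_le {G : Type*} [Group G] [Fintype G] (p : ℕ) [hp : Fact p.Prime]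
    (M : Ideal Cfsg.AlgInt) (hM : Cfsg.IsPModular p M) (P Q : Subgroup G) (hP : IsPGroup p P)
    (hQP : Q ≤ P) :
    Cfsg.SubpairLE p M Q (Cfsg.principalBlock M (Subgroup.centralizer (Q : Set G))) P
      (Cfsg.principalBlock M (Subgroup.centralizer (P : Set G))) := by
  have hpair := bm_principal_pair p M hM P hP
  obtain ⟨f, hf, hle⟩ := bq_subpair_exists p M hM P _ hpair.1 Q hQP
  have h1 := (bq_pairOf_le p M hM P Q _ f hle (Cfsg.principalBlock M G)).mp hpair
  have h2 := (tp_main p M hM Q (hP.to_le hQP) f hf).mp h1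
  rw [← h2]
  exact hle

/-- the Sylow principal pair is a maximal Brauer pair of the principal block, and the
fusion system of the principal block is the fusion system of the group -/
theorem bq_principal_fusion {G : Type*} [Group G] [Fintype G] (p : ℕ) [hp : Fact p.Prime]
    (M : Ideal Cfsg.AlgInt) (hM : Cfsg.IsPModular p M) (S : Sylow p G) :
    Cfsg.IsMaximalBrauerPair p M (Cfsg.principalBlock M G) (S : Subgroup G)
      (Cfsg.principalBlock M (Subgroup.centralizer ((S : Subgroup G) : Set G))) ∧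
    ∀ F : Cfsg.FusionSystem (S : Subgroup G),
      Cfsg.IsBlockFusionSystemOn p M (Cfsg.principalBlock M G) (S : Subgroup G)
        (Cfsg.principalBlock M (Subgroup.centralizer ((S : Subgroup G) : Set G))) F →
      ∀ Q : Subgroup G, F.Hom Q = (Cfsg.groupFusionSystem (S : Subgroup G)).Hom Q := by
  refine ⟨⟨bm_principal_pair p M hM (S : Subgroup G) S.isPGroup', ?_⟩, ?_⟩
  · intro R g hRg hle
    have h1 : (S : Subgroup G) ≤ R := bq_chain_le p M _ _ hle
    exact S.is_maximal' hRg.1.1 h1
  · intro F hF Q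
    ext φ
    rw [hF.2 Q φ]
    constructor
    · rintro ⟨hQS, g, hφ, hQg, _⟩
      refine ⟨hQS, fun x => ?_, g, hφ⟩
      rw [hφ]
      exact hQg ⟨(x : G), x.2, by rw [MulEquiv.coe_toMonoidHom, MulAut.conj_apply]⟩
    · rintro ⟨hQS, hφS, g, hφ⟩
      have hQg : Q.map (MulAut.conj g).toMonoidHom ≤ (S : Subgroup G) := by
        rintro _ ⟨q, hq, rfl⟩
        rw [MulEquiv.coe_toMonoidHom, MulAut.conj_apply]
        have := hφS ⟨q, hq⟩
        rwa [hφ] at this
      refine ⟨hQS, g, hφ, hQg,
        Cfsg.principalBlock M (Subgroup.centralizer (Q : Set G)),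
        bq_principal_le p M hM (S : Subgroup G) Q S.isPGroup' hQS, ?_⟩
      rw [bq_conjBlock_principal]
      exact bq_principal_le p M hM (S : Subgroup G) _ S.isPGroup' hQg

end

end Cfsg.Agent.Lib.Helper25
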