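import Mathlib
import Cfsg.Agent.Lib.Helper25.BrauerPairPrincipal
import Cfsg.Agent.Lib.Helper25.BlockNormalP
import Cfsg.Agent.Lib.helper7.BlockEval

/-!
Brauer pairs: central idempotents as sets of characters, blocks of a subgroup N (C_G(P) <= N <= N_G(P)) covering a block of C_G(P), transport along isomorphisms, and the normal p-subgroup case (S4654).
-/

set_option autoImplicit false
set_option linter.style.haveILetI false
set_option linter.unusedVariables false
set_option warn.classDefReducibility false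
set_option maxHeartbeats 1600000

namespace Cfsg.Agent.Lib.Helper25
open Cfsg.Agent.Lib.helper2
open Cfsg.Agent.Lib.helper7
open scoped ComplexConjugate
section

/-- a central idempotent of the complex group algebra is the idempotent of a set of characters -/
theorem bq_idem_blockCoeff {H : Type*} [Group H] [Fintype H] (z : H → ℂ)
    (hz : ∀ g h : H, z (h * g * h⁻¹) = z g) (hzz : h7_conv z z = z) :
    ∃ A : Set (Cfsg.IrrCharacter H), ∀ h : H, Cfsg.blockCoeff A h = z h := by
  classical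
  haveI : Fintype (Cfsg.IrrCharacter H) := Fintype.ofFinite _
  refine ⟨{ψ | h7_fourier z ψ = 1}, fun h => ?_⟩
  have h1 : h7_fourier z * h7_fourier z = h7_fourier z := by
    rw [← h7_fourier_conv z z hz hz, hzz]
  have h2 : ∀ ψ : Cfsg.IrrCharacter H, h7_fourier z ψ = 0 ∨ h7_fourier z ψ = 1 := by
    intro ψ
    have := congrFun h1 ψ
    rw [Pi.mul_apply] at this
    have h3 : h7_fourier z ψ * (h7_fourier z ψ - 1) = 0 := by
      rw [mul_sub, this, mul_one, sub_self]
    rcases mul_eq_zero.mp h3 with h4 | h4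
    · exact Or.inl h4
    · exact Or.inr (sub_eq_zero.mp h4)
  have h3 : (fun ψ : Cfsg.IrrCharacter H =>
      if ψ ∈ ({ψ | h7_fourier z ψ = 1} : Set (Cfsg.IrrCharacter H)) then (1 : ℂ) else 0) =
      h7_fourier z := by
    funext ψ
    by_cases hψ : h7_fourier z ψ = 1
    · rw [if_pos (show ψ ∈ ({ψ | h7_fourier z ψ = 1} : Set (Cfsg.IrrCharacter H)) from hψ), hψ]
    · rw [if_neg (show ψ ∉ ({ψ | h7_fourier z ψ = 1} : Set (Cfsg.IrrCharacter H)) from hψ)]
      rcases h2 ψ with h4 | h4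
      · exact h4.symm
      · exact absurd h4 hψ
  rw [← h7_coef_indicator, h3, h7_coef_fourier z hz]

/-- a set of irreducible characters is determined by its idempotent -/
theorem bq_blockCoeff_inj {H : Type*} [Group H] [Fintype H] (A A' : Set (Cfsg.IrrCharacter H))
    (h : ∀ x : H, Cfsg.blockCoeff A x = Cfsg.blockCoeff A' x) : A = A' := by
  classical
  haveI : Fintype (Cfsg.IrrCharacter H) := Fintype.ofFinite _
  have h1 := bq_fourier_blockCoeff A
  have h2 := bq_fourier_blockCoeff A'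
  have h3 : (fun k : H => Cfsg.blockCoeff A k) = fun k : H => Cfsg.blockCoeff A' k := funext h
  rw [h3, h2] at h1
  ext ψ
  have := congrFun h1 ψ
  by_cases hA : ψ ∈ A <;> by_cases hA' : ψ ∈ A' <;> simp [hA, hA'] at this ⊢

/-- the idempotent of a nonempty set of characters is nonzero at the identity -/
theorem bq_blockCoeff_one_ne_zero {H : Type*} [Group H] [Fintype H]
    (A : Set (Cfsg.IrrCharacter H)) (hA : A.Nonempty) : Cfsg.blockCoeff A 1 ≠ 0 := by
  classical
  haveI : Fintype (Cfsg.IrrCharacter H) := Fintype.ofFinite _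
  intro h0
  have h1 := bq_fourier_blockCoeff A
  obtain ⟨ψ, hψ⟩ := hA
  have h2 := h7_coef_eval (fun χ : Cfsg.IrrCharacter H => if χ ∈ A then (1 : ℂ) else 0) ψ
  -- use positivity: blockCoeff A 1 = |H|⁻¹ Σ_{χ∈A} χ(1)²
  rw [← h7_coef_indicator] at h0
  unfold h7_coef at h0
  have hH : (Nat.card H : ℂ) ≠ 0 := by exact_mod_cast Nat.card_pos.ne'
  rcases mul_eq_zero.mp h0 with h3 | h3
  · exact hH (inv_eq_zero.mp h3)
  · have h4 : ∀ χ : Cfsg.IrrCharacter H, ∃ n : ℕ, 0 < n ∧ (χ : H → ℂ) 1 = (n : ℂ) :=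
      fun χ => irr_one_eq_finrank χ
    choose d hd0 hd using h4
    have h5 : ∑ χ : Cfsg.IrrCharacter H, (if χ ∈ A then (1 : ℂ) else 0) *
        ((χ : H → ℂ) 1 * conj ((χ : H → ℂ) 1)) =
        ((∑ χ : Cfsg.IrrCharacter H, if χ ∈ A then d χ * d χ else 0 : ℕ) : ℂ) := by
      rw [Nat.cast_sum]
      refine Finset.sum_congr rfl fun χ _ => ?_
      rw [hd χ, Complex.conj_natCast]
      split_ifs <;> simp
    rw [h5] at h3
    have h6 : (∑ χ : Cfsg.IrrCharacter H, if χ ∈ A then d χ * d χ else 0 : ℕ) = 0 := by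
      exact_mod_cast h3
    have h7 := (Finset.sum_eq_zero_iff.mp h6) ψ (Finset.mem_univ _)
    rw [if_pos hψ] at h7
    have := hd0 ψ
    rcases Nat.mul_eq_zero.mp h7 with h8 | h8 <;> omega

end

section

/-- the idempotent of a set of characters of `K ≤ N` is the extension by zero of its
restriction to `N` -/
theorem bq_sbc_ext {G : Type*} [Group G] (N K : Subgroup G) (hKN : K ≤ N)
    (U : Set (Cfsg.IrrCharacter K)) :
    Cfsg.extendByZero N (fun n : N => Cfsg.subgroupBlockCoeff K U n) =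
      Cfsg.subgroupBlockCoeff K U := by
  funext g
  by_cases hg : g ∈ N
  · rw [h7_extendByZero_mem N _ g hg]
  · rw [h7_extendByZero_not_mem N _ g hg, bq_sbc_not_mem K U g (fun h => hg (hKN h))]

theorem bq_ext_inj {G : Type*} [Group G] (N : Subgroup G) (a b : N → ℂ)
    (h : Cfsg.extendByZero N a = Cfsg.extendByZero N b) : a = b := by
  funext n
  have := congrFun h (n : G)
  rwa [h7_extendByZero_coe, h7_extendByZero_coe] at this

/-- the idempotent of a stable set of characters of a normal subgroup `K` of `N`, as the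
idempotent of a set of characters of `N` -/
theorem bq_sub_idem {G : Type*} [Group G] [Fintype G] (N K : Subgroup G) (hKN : K ≤ N)
    (hNK : N ≤ Subgroup.normalizer (K : Set G)) (U : Set (Cfsg.IrrCharacter K))
    (hUst : ∀ (n : G) (hn : n ∈ N), bq_conjSet K n (hNK hn) U = U) :
    ∃ A : Set (Cfsg.IrrCharacter N),
      ∀ n : N, Cfsg.blockCoeff A n = Cfsg.subgroupBlockCoeff K U n := by
  classical
  haveI : Fintype N := Fintype.ofFinite _
  apply bq_idem_blockCoeff (fun n : N => Cfsg.subgroupBlockCoeff K U n)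
  · intro g h
    show Cfsg.subgroupBlockCoeff K U ((h : G) * (g : G) * (h : G)⁻¹) =
      Cfsg.subgroupBlockCoeff K U (g : G)
    have h1 := bq_sbc_conjSet K (h : G)⁻¹ (hNK (Subgroup.inv_mem _ h.2)) U (g : G)
    rw [hUst _ (Subgroup.inv_mem _ h.2), inv_inv] at h1
    exact h1.symm
  · apply bq_ext_inj
    rw [← h7_conv_extendByZero, bq_sbc_ext N K hKN U, bq_sbc_conv, Set.inter_self]

/-- the idempotent of a minimal stable set of characters of `K` is a block idempotent of `N`,
provided the block idempotents of `N` are supported on `K` -/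
theorem bq_sub_block {G : Type*} [Group G] [Fintype G] (p : ℕ) [hp : Fact p.Prime]
    (M : Ideal Cfsg.AlgInt) (hM : Cfsg.IsPModular p M) (N K : Subgroup G) (hKN : K ≤ N)
    (hNK : N ≤ Subgroup.normalizer (K : Set G)) (U : Set (Cfsg.IrrCharacter K))
    (hUne : U.Nonempty)
    (hUst : ∀ (n : G) (hn : n ∈ N), bq_conjSet K n (hNK hn) U = U)
    (hUR : ∀ g, Cfsg.MemLocalRing M (Cfsg.subgroupBlockCoeff K U g))
    (hsupp : ∀ E : Set (Cfsg.IrrCharacter N), Cfsg.IsPBlock M E → ∀ n : N, (n : G) ∉ K →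
      Cfsg.blockCoeff E n = 0)
    (hmin : ∀ S : Set (Cfsg.IrrCharacter K), S ⊆ U → S.Nonempty →
      (∀ (n : G) (hn : n ∈ N), bq_conjSet K n (hNK hn) S = S) →
      (∀ g, Cfsg.MemLocalRing M (Cfsg.subgroupBlockCoeff K S g)) → S = U) :
    ∃ A : Set (Cfsg.IrrCharacter N), Cfsg.IsPBlock M A ∧
      ∀ n : N, Cfsg.blockCoeff A n = Cfsg.subgroupBlockCoeff K U n := by
  classical
  haveI : Fintype N := Fintype.ofFinite _
  haveI : Fintype K := Fintype.ofFinite _
  haveI : Fintype (Cfsg.IrrCharacter N) := Fintype.ofFinite _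
  haveI : Fintype (Cfsg.IrrCharacter K) := Fintype.ofFinite _
  have hPr := hM.2.1.isPrime
  obtain ⟨A, hA⟩ := bq_sub_idem N K hKN hNK U hUst
  -- A is nonempty
  have hAne : A.Nonempty := by
    by_contra hne
    rw [Set.not_nonempty_iff_eq_empty] at hne
    have h1 := hA 1
    rw [hne] at h1
    have h2 : Cfsg.blockCoeff (∅ : Set (Cfsg.IrrCharacter N)) 1 = 0 := by
      unfold Cfsg.blockCoeff
      simp
    rw [h2] at h1
    have h3 : Cfsg.subgroupBlockCoeff K U ((1 : N) : G) = Cfsg.blockCoeff U 1 :=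
      bq_sbc_mem K U _ (Subgroup.one_mem _)
    rw [h3] at h1
    exact bq_blockCoeff_one_ne_zero U hUne h1.symm
  obtain ⟨ψ₀, hψ₀⟩ := hAne
  have hEA : Cfsg.blockOf M (ψ₀ : N → ℂ) ⊆ A :=
    h7_union_of_blocks hPr A (fun n => by rw [hA]; exact hUR _) ψ₀ hψ₀
  set E := Cfsg.blockOf M (ψ₀ : N → ℂ) with hE
  have hEb : Cfsg.IsPBlock M E := ⟨ψ₀, rfl⟩
  set w : N → ℂ := fun n => Cfsg.blockCoeff E n with hw
  set z : N → ℂ := fun n => Cfsg.subgroupBlockCoeff K U n with hz
  have hwK : ∀ n : N, (n : G) ∉ K → w n = 0 := hsupp E hEb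
  have hwcoef : w = h7_coef (fun χ : Cfsg.IrrCharacter N => if χ ∈ E then (1 : ℂ) else 0) := by
    funext n
    rw [h7_coef_indicator]
  have hzcoef : z = h7_coef (fun χ : Cfsg.IrrCharacter N => if χ ∈ A then (1 : ℂ) else 0) := by
    funext n
    rw [h7_coef_indicator, hA]
  have hww : h7_conv w w = w := by
    rw [hwcoef, h7_conv_coef]
    congr 1
    funext χ
    simp only [Pi.mul_apply]
    split_ifs <;> simp
  have hwz : h7_conv w z = w := by
    rw [hwcoef, hzcoef, h7_conv_coef]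
    congr 1
    funext χ
    simp only [Pi.mul_apply]
    by_cases h1 : χ ∈ E
    · rw [if_pos h1, if_pos (hEA h1), mul_one]
    · rw [if_neg h1, zero_mul]
  set W : G → ℂ := Cfsg.extendByZero N w with hW
  set v : K → ℂ := fun k => W k with hv
  have hWK : W = Cfsg.extendByZero K v := by
    funext g
    by_cases hg : g ∈ K
    · rw [h7_extendByZero_mem K v g hg]
    · rw [h7_extendByZero_not_mem K v g hg]
      by_cases hgN : g ∈ N
      · rw [hW, h7_extendByZero_mem N w g hgN]
        exact hwK ⟨g, hgN⟩ hg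
      · rw [hW, h7_extendByZero_not_mem N w g hgN]
  have hWinv : ∀ n ∈ N, ∀ g, W (n * g * n⁻¹) = W g := by
    intro n hn g
    exact bq_ext_inner N w (fun a b => br_blockCoeff_conj E a b) n hn g
  have hvcl : ∀ g h : K, v (h * g * h⁻¹) = v g := by
    intro g h
    exact hWinv (h : G) (hKN h.2) (g : G)
  have hWW : h7_conv W W = W := by
    rw [hW, h7_conv_extendByZero, hww]
  have hvv : h7_conv v v = v := by
    apply bq_ext_inj
    rw [← h7_conv_extendByZero, ← hWK, hWW]
  obtain ⟨S, hS⟩ := bq_idem_blockCoeff v hvcl hvv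
  have hSW : Cfsg.subgroupBlockCoeff K S = W := by
    rw [bq_sbc_eq, hWK]
    congr 1
    funext k
    exact hS k
  have hSR : ∀ g, Cfsg.MemLocalRing M (Cfsg.subgroupBlockCoeff K S g) := by
    intro g
    rw [hSW]
    by_cases hgN : g ∈ N
    · rw [hW, h7_extendByZero_mem N w g hgN]
      exact h7_osima hPr ψ₀ _
    · rw [hW, h7_extendByZero_not_mem N w g hgN]
      exact h7_memLocalRing_zero hPr
  have hSst : ∀ (n : G) (hn : n ∈ N), bq_conjSet K n (hNK hn) S = S := by
    intro n hn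
    apply bq_blockCoeff_inj
    intro k
    rw [← bq_sbc_mem K _ (k : G) k.2, ← bq_sbc_mem K _ (k : G) k.2, bq_sbc_conjSet, hSW]
    have := hWinv n⁻¹ (Subgroup.inv_mem _ hn) (k : G)
    rwa [inv_inv] at this
  have hSU : S ⊆ U := by
    have h1 : S ∩ U = S := by
      apply bq_blockCoeff_inj
      intro k
      rw [← bq_sbc_mem K _ (k : G) k.2, ← bq_sbc_mem K _ (k : G) k.2, ← bq_sbc_conv, hSW,
        ← bq_sbc_ext N K hKN U, hW, h7_conv_extendByZero, hwz]
    rw [← h1]
    exact Set.inter_subset_right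
  have hSne : S.Nonempty := by
    by_contra hne
    rw [Set.not_nonempty_iff_eq_empty] at hne
    rw [hne, bq_sbc_empty] at hSW
    have h1 : W ((1 : N) : G) = 0 := by rw [← hSW]; rfl
    rw [hW, h7_extendByZero_coe] at h1
    exact bq_blockCoeff_one_ne_zero E ⟨ψ₀, h7_sameBlock_refl hPr _⟩ h1
  have hSeq := hmin S hSU hSne hSst hSR
  have hEA' : E = A := by
    apply bq_blockCoeff_inj
    intro n
    rw [hA, ← hSeq, hSW, hW, h7_extendByZero_coe]
  refine ⟨A, hEA' ▸ hEb, hA⟩

end

section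

/-- elements of `K` stabilize every set of characters of `K` -/
theorem bq_inner_stabilizes {G : Type*} [Group G] [Finite G] (K : Subgroup G)
    (S : Set (Cfsg.IrrCharacter K)) (k : G) (hk : k ∈ K) : Cfsg.StabilizesBlock K S k := by
  classical
  haveI : Fintype G := Fintype.ofFinite _
  haveI : Fintype K := Fintype.ofFinite _
  have hkN : k ∈ Subgroup.normalizer (K : Set G) := Subgroup.le_normalizer hk
  refine ⟨hkN, fun χ hχ => ⟨χ, hχ, ?_⟩⟩
  have := bq_isConjCharOf K k hkN χ
  rwa [bq_conjIrr_inner K k hk hkN χ] at this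

/-- elements of `P` stabilize every set of characters of `C_G(P)` -/
theorem bq_self_stabilizes {G : Type*} [Group G] (P : Subgroup G)
    (S : Set (Cfsg.IrrCharacter (Subgroup.centralizer (P : Set G)))) (x : G) (hx : x ∈ P) :
    Cfsg.StabilizesBlock (Subgroup.centralizer (P : Set G)) S x := by
  refine ⟨bm_normalizer_centralizer P x (Subgroup.le_normalizer hx), fun χ hχ => ⟨χ, hχ, ?_⟩⟩
  intro k k' hkk'
  have h1 : x * (k : G) = (k : G) * x := Subgroup.mem_centralizer_iff.mp k.2 x hx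
  have h2 : k' = k := by
    apply Subtype.ext
    rw [hkk', h1, mul_assoc, mul_inv_cancel, mul_one]
  rw [h2]

/-- block idempotents of a group with a normal `p`-subgroup `P ≤ T` are supported on the
centralizer of `P` -/
theorem bq_supp_centralizer {G : Type*} [Group G] [Fintype G] (p : ℕ) [hp : Fact p.Prime]
    (M : Ideal Cfsg.AlgInt) (hM : Cfsg.IsPModular p M) (P T : Subgroup G) (hP : IsPGroup p P)
    (hPT : P ≤ T) (hTN : T ≤ Subgroup.normalizer (P : Set G))
    (E : Set (Cfsg.IrrCharacter T)) (hE : Cfsg.IsPBlock M E) (t : T)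
    (ht : (t : G) ∉ Subgroup.centralizer (P : Set G)) : Cfsg.blockCoeff E t = 0 := by
  classical
  haveI : Fintype T := Fintype.ofFinite _
  haveI : (P.subgroupOf T).Normal := by
    constructor
    intro n hn g
    rw [Subgroup.mem_subgroupOf] at hn ⊢
    have := (Subgroup.mem_normalizer_iff.mp (hTN g.2) (n : G)).mp hn
    simpa using this
  apply bn_main p M hM (P.subgroupOf T) hP.comap_subtype E hE t
  intro h
  apply ht
  rw [Subgroup.mem_centralizer_iff]
  intro x hx
  have := Subgroup.mem_centralizer_iff.mp h ⟨x, hPT hx⟩ (by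
    show (⟨x, hPT hx⟩ : T) ∈ P.subgroupOf T
    rw [Subgroup.mem_subgroupOf]
    exact hx)
  exact congrArg Subtype.val this

/-- the idempotent of a block of `C_G(P)` is a block idempotent of its stabilizer -/
theorem bq_stab_block {G : Type*} [Group G] [Fintype G] (p : ℕ) [hp : Fact p.Prime]
    (M : Ideal Cfsg.AlgInt) (hM : Cfsg.IsPModular p M) (P : Subgroup G) (hP : IsPGroup p P)
    (e : Set (Cfsg.IrrCharacter (Subgroup.centralizer (P : Set G)))) (he : Cfsg.IsPBlock M e)
    (T : Subgroup G) (hTN : T ≤ Subgroup.normalizer (P : Set G)) (hPT : P ≤ T)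
    (hCT : Subgroup.centralizer (P : Set G) ≤ T)
    (hT : ∀ x ∈ T, Cfsg.StabilizesBlock (Subgroup.centralizer (P : Set G)) e x) :
    ∃ E : Set (Cfsg.IrrCharacter T), Cfsg.IsPBlock M E ∧
      ∀ t : T, Cfsg.blockCoeff E t =
        Cfsg.subgroupBlockCoeff (Subgroup.centralizer (P : Set G)) e (t : G) := by
  classical
  haveI : Fintype (Subgroup.centralizer (P : Set G)) := Fintype.ofFinite _
  haveI : Fintype (Cfsg.IrrCharacter (Subgroup.centralizer (P : Set G))) := Fintype.ofFinite _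
  have hPr := hM.2.1.isPrime
  have hNK : T ≤ Subgroup.normalizer
      ((Subgroup.centralizer (P : Set G) : Subgroup G) : Set G) :=
    fun x hx => bm_normalizer_centralizer P x (hTN hx)
  have hne : e.Nonempty := by
    obtain ⟨χ, rfl⟩ := he
    exact ⟨χ, h7_sameBlock_refl hPr _⟩
  apply bq_sub_block p M hM T _ hCT hNK e hne
  · intro n hn
    exact (bq_stabilizes_iff hPr _ e he n (hNK hn)).mp (hT n hn)
  · exact bq_sbc_memLocalRing hPr _ e he
  · intro E hE t ht
    exact bq_supp_centralizer p M hM P T hP hPT hTN E hE t ht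
  · intro S hSU hSne _ hSR
    obtain ⟨θ, hθ⟩ := hSne
    have h1 : Cfsg.blockOf M (θ : _ → ℂ) ⊆ S :=
      h7_union_of_blocks hPr S (fun k => by
        rw [← bq_sbc_mem _ S (k : G) k.2]
        exact hSR _) θ hθ
    obtain ⟨χ, rfl⟩ := he
    have h2 := h7_blockOf_eq_of_mem hPr χ θ (hSU hθ)
    rw [← h2] at h1
    exact Set.Subset.antisymm hSU h1

end

section

/-- transport of an irreducible character along a group isomorphism -/
noncomputable def bq_trIrr {A B : Type*} [Group A] [Group B] (σ : A ≃* B)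
    (θ : Cfsg.IrrCharacter B) : Cfsg.IrrCharacter A :=
  ⟨fun a => (θ : B → ℂ) (σ a), h7_isIrr_comp_equiv σ _ θ.2⟩

theorem bq_trIrr_apply {A B : Type*} [Group A] [Group B] (σ : A ≃* B)
    (θ : Cfsg.IrrCharacter B) (a : A) : (bq_trIrr σ θ : A → ℂ) a = (θ : B → ℂ) (σ a) := rfl

theorem bq_trIrr_symm {A B : Type*} [Group A] [Group B] (σ : A ≃* B)
    (θ : Cfsg.IrrCharacter B) : bq_trIrr σ.symm (bq_trIrr σ θ) = θ := by
  apply Subtype.ext
  funext x
  rw [bq_trIrr_apply, bq_trIrr_apply, MulEquiv.apply_symm_apply]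

theorem bq_trIrr_symm' {A B : Type*} [Group A] [Group B] (σ : A ≃* B)
    (θ : Cfsg.IrrCharacter A) : bq_trIrr σ (bq_trIrr σ.symm θ) = θ := by
  apply Subtype.ext
  funext x
  rw [bq_trIrr_apply, bq_trIrr_apply, MulEquiv.symm_apply_apply]

/-- transport of irreducible characters as a bijection -/
noncomputable def bq_trEquiv {A B : Type*} [Group A] [Group B] (σ : A ≃* B) :
    Cfsg.IrrCharacter B ≃ Cfsg.IrrCharacter A where
  toFun := bq_trIrr σ
  invFun := bq_trIrr σ.symm
  left_inv := bq_trIrr_symm σ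
  right_inv := bq_trIrr_symm' σ

/-- transport of a set of irreducible characters -/
def bq_trSet {A B : Type*} [Group A] [Group B] (σ : A ≃* B)
    (b : Set (Cfsg.IrrCharacter B)) : Set (Cfsg.IrrCharacter A) :=
  {θ' | bq_trIrr σ.symm θ' ∈ b}

theorem bq_mem_trSet {A B : Type*} [Group A] [Group B] (σ : A ≃* B)
    (b : Set (Cfsg.IrrCharacter B)) (θ : Cfsg.IrrCharacter B) :
    bq_trIrr σ θ ∈ bq_trSet σ b ↔ θ ∈ b := by
  show bq_trIrr σ.symm (bq_trIrr σ θ) ∈ b ↔ θ ∈ b
  rw [bq_trIrr_symm]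

theorem bq_trSet_blockOf {A B : Type*} [Group A] [Group B] (M : Ideal Cfsg.AlgInt)
    (σ : A ≃* B) (θ₀ : Cfsg.IrrCharacter B) :
    bq_trSet σ (Cfsg.blockOf M (θ₀ : B → ℂ)) = Cfsg.blockOf M (bq_trIrr σ θ₀ : A → ℂ) := by
  ext θ'
  show Cfsg.SameBlock M (θ₀ : B → ℂ) (bq_trIrr σ.symm θ' : B → ℂ) ↔
    Cfsg.SameBlock M (bq_trIrr σ θ₀ : A → ℂ) (θ' : A → ℂ)
  have h1 : ∀ b, Cfsg.centralChar (bq_trIrr σ.symm θ' : B → ℂ) b =
      Cfsg.centralChar (θ' : A → ℂ) (σ.symm b) :=
    fun b => bm_centralChar_comp_equiv σ.symm _ b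
  have h2 : ∀ a, Cfsg.centralChar (bq_trIrr σ θ₀ : A → ℂ) a =
      Cfsg.centralChar (θ₀ : B → ℂ) (σ a) :=
    fun a => bm_centralChar_comp_equiv σ _ a
  constructor
  · intro h a
    have := h (σ a)
    rw [h1, MulEquiv.symm_apply_apply] at this
    rw [h2]
    exact this
  · intro h b
    have := h (σ.symm b)
    rw [h2, MulEquiv.apply_symm_apply] at this
    rw [h1]
    exact this

theorem bq_trSet_isBlock {A B : Type*} [Group A] [Group B] (M : Ideal Cfsg.AlgInt)
    (σ : A ≃* B) (b : Set (Cfsg.IrrCharacter B)) (hb : Cfsg.IsPBlock M b) :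
    Cfsg.IsPBlock M (bq_trSet σ b) := by
  obtain ⟨θ₀, rfl⟩ := hb
  exact ⟨bq_trIrr σ θ₀, bq_trSet_blockOf M σ θ₀⟩

/-- the idempotent of a transported set -/
theorem bq_blockCoeff_trSet {A B : Type*} [Group A] [Group B] [Fintype A] [Fintype B]
    (σ : A ≃* B) (b : Set (Cfsg.IrrCharacter B)) (a : A) :
    Cfsg.blockCoeff (bq_trSet σ b) a = Cfsg.blockCoeff b (σ a) := by
  classical
  haveI : Fintype (Cfsg.IrrCharacter A) := Fintype.ofFinite _
  haveI : Fintype (Cfsg.IrrCharacter B) := Fintype.ofFinite _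
  rw [← h7_coef_indicator, ← h7_coef_indicator]
  unfold h7_coef
  rw [Nat.card_congr σ.toEquiv]
  congr 1
  refine (Fintype.sum_equiv (bq_trEquiv σ) _ _ fun θ => ?_).symm
  have h1 : (bq_trEquiv σ θ ∈ bq_trSet σ b) ↔ θ ∈ b := bq_mem_trSet σ b θ
  have h2 : ((bq_trEquiv σ θ : Cfsg.IrrCharacter A) : A → ℂ) 1 = (θ : B → ℂ) 1 := by
    show (bq_trIrr σ θ : A → ℂ) 1 = _
    rw [bq_trIrr_apply, map_one]
  have h3 : ((bq_trEquiv σ θ : Cfsg.IrrCharacter A) : A → ℂ) a = (θ : B → ℂ) (σ a) := rfl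
  rw [h2, h3]
  beta_reduce
  by_cases hθ : θ ∈ b
  · rw [if_pos hθ, if_pos (h1.mpr hθ)]
  · rw [if_neg hθ, if_neg (fun h => hθ (h1.mp h))]

/-- a union of blocks has a local-integer-valued idempotent -/
theorem bq_sbc_union_blocks {G : Type*} [Group G] [Fintype G] {M : Ideal Cfsg.AlgInt}
    (hM : M.IsPrime) (K : Subgroup G) (S : Set (Cfsg.IrrCharacter K))
    (hS : ∀ θ ∈ S, Cfsg.blockOf M (θ : K → ℂ) ⊆ S) (g : G) :
    Cfsg.MemLocalRing M (Cfsg.subgroupBlockCoeff K S g) := by
  classical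
  haveI : Fintype K := Fintype.ofFinite _
  haveI : Fintype (Cfsg.IrrCharacter K) := Fintype.ofFinite _
  haveI : Fintype {f : Set (Cfsg.IrrCharacter K) // Cfsg.IsPBlock M f} := Fintype.ofFinite _
  by_cases hg : g ∈ K
  · rw [bq_sbc_mem K S g hg, ← h7_coef_indicator]
    have e1 : (fun χ : Cfsg.IrrCharacter K => if χ ∈ S then (1 : ℂ) else 0) =
        ∑ f : {f : Set (Cfsg.IrrCharacter K) // Cfsg.IsPBlock M f},
          if f.1 ⊆ S then (fun χ : Cfsg.IrrCharacter K => if χ ∈ f.1 then (1 : ℂ) else 0)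
          else 0 := by
      funext χ
      rw [Finset.sum_apply]
      rw [Finset.sum_eq_single (⟨Cfsg.blockOf M (χ : K → ℂ), ⟨χ, rfl⟩⟩ :
        {f : Set (Cfsg.IrrCharacter K) // Cfsg.IsPBlock M f})]
      · by_cases hχ : χ ∈ S
        · rw [if_pos hχ, if_pos (hS χ hχ)]
          rw [if_pos (show χ ∈ Cfsg.blockOf M (χ : K → ℂ) from h7_sameBlock_refl hM _)]
        · rw [if_neg hχ, if_neg (fun h => hχ (h (h7_sameBlock_refl hM _)))]
          rfl
      · intro f _ hne
        by_cases hfS : f.1 ⊆ S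
        · rw [if_pos hfS]
          rw [if_neg]
          intro hmem
          apply hne
          obtain ⟨f, χ', rfl⟩ := f
          apply Subtype.ext
          exact h7_blockOf_eq_of_mem hM χ' χ hmem
        · rw [if_neg hfS]
          rfl
      · intro h
        exact absurd (Finset.mem_univ _) h
    rw [e1]
    have hsub := h7_intSubring (G := K) M hM
    have hmem : (∑ f : {f : Set (Cfsg.IrrCharacter K) // Cfsg.IsPBlock M f},
          if f.1 ⊆ S then (fun χ : Cfsg.IrrCharacter K => if χ ∈ f.1 then (1 : ℂ) else 0)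
          else 0) ∈ h7_intSubring (G := K) M hM := by
      apply Subring.sum_mem
      intro f _
      split_ifs
      · obtain ⟨f, χ', rfl⟩ := f
        exact h7_block_indicator_mem hM χ'
      · exact Subring.zero_mem _
    exact hmem _
  · rw [bq_sbc_not_mem K S g hg]
    exact h7_memLocalRing_zero hM

end

section

/-- the union of the `N`-conjugates of a set of characters of `K` -/
def bq_orbitUnion {G : Type*} [Group G] (K N : Subgroup G)
    (hNK : N ≤ Subgroup.normalizer (K : Set G)) (e : Set (Cfsg.IrrCharacter K)) :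
    Set (Cfsg.IrrCharacter K) :=
  {θ | ∃ (n : G) (hn : n ∈ N), θ ∈ bq_conjSet K n (hNK hn) e}

theorem bq_subset_orbitUnion {G : Type*} [Group G] (K N : Subgroup G)
    (hNK : N ≤ Subgroup.normalizer (K : Set G)) (e : Set (Cfsg.IrrCharacter K)) :
    e ⊆ bq_orbitUnion K N hNK e := by
  intro θ hθ
  refine ⟨1, Subgroup.one_mem _, ?_⟩
  rw [bq_conjSet_congr K 1 1 _ (Subgroup.one_mem _) rfl, bq_conjSet_one]
  exact hθ

theorem bq_conjSet_mono {G : Type*} [Group G] (K : Subgroup G) (g : G)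
    (hg : g ∈ Subgroup.normalizer (K : Set G)) (S S' : Set (Cfsg.IrrCharacter K))
    (h : S ⊆ S') : bq_conjSet K g hg S ⊆ bq_conjSet K g hg S' :=
  Set.image_mono h

theorem bq_conjSet_subset_orbitUnion {G : Type*} [Group G] (K N : Subgroup G)
    (hNK : N ≤ Subgroup.normalizer (K : Set G)) (e : Set (Cfsg.IrrCharacter K))
    (n : G) (hn : n ∈ N) : bq_conjSet K n (hNK hn) e ⊆ bq_orbitUnion K N hNK e :=
  fun θ hθ => ⟨n, hn, hθ⟩

theorem bq_orbitUnion_stable {G : Type*} [Group G] (K N : Subgroup G)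
    (hNK : N ≤ Subgroup.normalizer (K : Set G)) (e : Set (Cfsg.IrrCharacter K))
    (n : G) (hn : n ∈ N) :
    bq_conjSet K n (hNK hn) (bq_orbitUnion K N hNK e) = bq_orbitUnion K N hNK e := by
  have hsub : ∀ (m : G) (hm : m ∈ N),
      bq_conjSet K m (hNK hm) (bq_orbitUnion K N hNK e) ⊆ bq_orbitUnion K N hNK e := by
    rintro m hm _ ⟨θ, ⟨x, hx, hθ⟩, rfl⟩
    refine ⟨m * x, Subgroup.mul_mem _ hm hx, ?_⟩
    rw [bq_conjSet_mul K m x (hNK hm) (hNK hx)]
    exact Set.mem_image_of_mem _ hθ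
  apply Set.Subset.antisymm (hsub n hn)
  have h1 := bq_conjSet_mono K n (hNK hn) _ _ (hsub n⁻¹ (Subgroup.inv_mem _ hn))
  rw [← bq_conjSet_mul, bq_conjSet_congr K (n * n⁻¹) 1 _ (Subgroup.one_mem _) (by group),
    bq_conjSet_one] at h1
  exact h1

/-- the orbit union of a block is a union of blocks -/
theorem bq_orbitUnion_blocks {G : Type*} [Group G] [Finite G] {M : Ideal Cfsg.AlgInt}
    (hM : M.IsPrime) (K N : Subgroup G)
    (hNK : N ≤ Subgroup.normalizer (K : Set G)) (e : Set (Cfsg.IrrCharacter K))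
    (he : Cfsg.IsPBlock M e) (θ : Cfsg.IrrCharacter K) (hθ : θ ∈ bq_orbitUnion K N hNK e) :
    Cfsg.blockOf M (θ : K → ℂ) ⊆ bq_orbitUnion K N hNK e := by
  classical
  haveI : Fintype G := Fintype.ofFinite _
  haveI : Fintype K := Fintype.ofFinite _
  haveI : Fintype (Cfsg.IrrCharacter K) := Fintype.ofFinite _
  obtain ⟨n, hn, hθn⟩ := hθ
  obtain ⟨χ, hχ⟩ := bq_conjSet_isBlock K n (hNK hn) M e he
  rw [hχ] at hθn
  rw [← h7_blockOf_eq_of_mem hM χ θ hθn, ← hχ]
  exact bq_conjSet_subset_orbitUnion K N hNK e n hn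

/-- the orbit union is a minimal stable union of blocks -/
theorem bq_orbitUnion_min {G : Type*} [Group G] [Fintype G] {M : Ideal Cfsg.AlgInt}
    (hM : M.IsPrime) (K N : Subgroup G)
    (hNK : N ≤ Subgroup.normalizer (K : Set G)) (e : Set (Cfsg.IrrCharacter K))
    (he : Cfsg.IsPBlock M e) (S : Set (Cfsg.IrrCharacter K))
    (hSU : S ⊆ bq_orbitUnion K N hNK e) (hSne : S.Nonempty)
    (hSst : ∀ (n : G) (hn : n ∈ N), bq_conjSet K n (hNK hn) S = S)
    (hSR : ∀ g, Cfsg.MemLocalRing M (Cfsg.subgroupBlockCoeff K S g)) :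
    S = bq_orbitUnion K N hNK e := by
  classical
  haveI : Fintype K := Fintype.ofFinite _
  haveI : Fintype (Cfsg.IrrCharacter K) := Fintype.ofFinite _
  apply Set.Subset.antisymm hSU
  obtain ⟨θ, hθ⟩ := hSne
  have h1 : Cfsg.blockOf M (θ : K → ℂ) ⊆ S :=
    h7_union_of_blocks hM S (fun k => by
      rw [← bq_sbc_mem _ S (k : G) k.2]
      exact hSR _) θ hθ
  obtain ⟨x₀, hx₀, hθx⟩ := hSU hθ
  obtain ⟨χ, hχ⟩ := bq_conjSet_isBlock K x₀ (hNK hx₀) M e he
  rw [hχ] at hθx
  have h2 : bq_conjSet K x₀ (hNK hx₀) e ⊆ S := by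
    rw [hχ, h7_blockOf_eq_of_mem hM χ θ hθx]
    exact h1
  rintro ψ ⟨x, hx, hψ⟩
  have hxx : x * x₀⁻¹ ∈ N := Subgroup.mul_mem _ hx (Subgroup.inv_mem _ hx₀)
  have h3 := bq_conjSet_mono K (x * x₀⁻¹) (hNK hxx) _ _ h2
  rw [hSst _ hxx, ← bq_conjSet_mul K (x * x₀⁻¹) x₀ _ (hNK hx₀),
    bq_conjSet_congr K (x * x₀⁻¹ * x₀) x _ (hNK hx) (by group)] at h3
  exact h3 hψ

/-- the block of `N` covering a block of `C_G(P)`: its idempotent is the idempotent of the
orbit union -/
theorem bq_orbit_block {G : Type*} [Group G] [Fintype G] (p : ℕ) [hp : Fact p.Prime]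
    (M : Ideal Cfsg.AlgInt) (hM : Cfsg.IsPModular p M) (P : Subgroup G) (hP : IsPGroup p P)
    (e : Set (Cfsg.IrrCharacter (Subgroup.centralizer (P : Set G)))) (he : Cfsg.IsPBlock M e)
    (N : Subgroup G) (hNP : N ≤ Subgroup.normalizer (P : Set G)) (hPN : P ≤ N)
    (hCN : Subgroup.centralizer (P : Set G) ≤ N)
    (hNK : N ≤ Subgroup.normalizer
      ((Subgroup.centralizer (P : Set G) : Subgroup G) : Set G)) :
    ∃ b : Set (Cfsg.IrrCharacter N), Cfsg.IsPBlock M b ∧
      ∀ n : N, Cfsg.blockCoeff b n =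
        Cfsg.subgroupBlockCoeff (Subgroup.centralizer (P : Set G))
          (bq_orbitUnion (Subgroup.centralizer (P : Set G)) N hNK e) (n : G) := by
  classical
  haveI : Fintype (Subgroup.centralizer (P : Set G)) := Fintype.ofFinite _
  haveI : Fintype (Cfsg.IrrCharacter (Subgroup.centralizer (P : Set G))) := Fintype.ofFinite _
  have hPr := hM.2.1.isPrime
  have hne : e.Nonempty := by
    obtain ⟨χ, rfl⟩ := he
    exact ⟨χ, h7_sameBlock_refl hPr _⟩
  apply bq_sub_block p M hM N _ hCN hNK _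
    (hne.mono (bq_subset_orbitUnion _ N hNK e))
  · exact bq_orbitUnion_stable _ N hNK e
  · exact bq_sbc_union_blocks hPr _ _ (bq_orbitUnion_blocks hPr _ N hNK e he)
  · intro E hE t ht
    exact bq_supp_centralizer p M hM P N hP hPN hNP E hE t ht
  · intro S hSU hSne hSst hSR
    exact bq_orbitUnion_min hPr _ N hNK e he S hSU hSne hSst hSR

end

section

open Classical in
/-- counting the conjugates containing a given character -/
theorem bq_orbit_count {G : Type*} [Group G] [Fintype G] {M : Ideal Cfsg.AlgInt}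
    (hM : M.IsPrime) (K : Subgroup G) (hK : ∀ x : G, x ∈ Subgroup.normalizer (K : Set G))
    (e : Set (Cfsg.IrrCharacter K)) (he : Cfsg.IsPBlock M e) (T : Subgroup G)
    (hT : ∀ x : G, x ∈ T ↔ Cfsg.StabilizesBlock K e x) (θ : Cfsg.IrrCharacter K) :
    ((Finset.univ.filter (fun x : G => θ ∈ bq_conjSet K x (hK x) e)).card : ℂ) =
      if θ ∈ bq_orbitUnion K ⊤ (fun x _ => hK x) e then (Nat.card T : ℂ) else 0 := by
  haveI : Fintype K := Fintype.ofFinite _
  haveI : Fintype (Cfsg.IrrCharacter K) := Fintype.ofFinite _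
  by_cases hθ : θ ∈ bq_orbitUnion K ⊤ (fun x _ => hK x) e
  · rw [if_pos hθ]
    obtain ⟨x₀, _, hx₀⟩ := hθ
    have hiff : ∀ x : G, θ ∈ bq_conjSet K x (hK x) e ↔ x₀⁻¹ * x ∈ T := by
      intro x
      rw [hT, bq_stabilizes_iff hM K e he _ (hK _)]
      rw [bq_conjSet_mul K x₀⁻¹ x (hK _) (hK x)]
      constructor
      · intro hx
        -- both conjugates are blocks containing θ
        obtain ⟨χ, hχ⟩ := bq_conjSet_isBlock K x (hK x) M e he
        obtain ⟨χ₀, hχ₀⟩ := bq_conjSet_isBlock K x₀ (hK x₀) M e he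
        have e1 : bq_conjSet K x (hK x) e = bq_conjSet K x₀ (hK x₀) e := by
          rw [hχ, hχ₀]
          rw [hχ] at hx
          rw [hχ₀] at hx₀
          exact (h7_blockOf_eq_of_mem hM _ _ hx).trans (h7_blockOf_eq_of_mem hM _ _ hx₀).symm
        rw [e1, ← bq_conjSet_mul,
          bq_conjSet_congr K (x₀⁻¹ * x₀) 1 _ (Subgroup.one_mem _) (by group), bq_conjSet_one]
      · intro hx
        have e1 := congrArg (bq_conjSet K x₀ (hK x₀)) hx
        rw [← bq_conjSet_mul, bq_conjSet_congr K (x₀ * x₀⁻¹) 1 _ (Subgroup.one_mem _) (by group),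
          bq_conjSet_one] at e1
        rw [e1]
        exact hx₀
    have hcard : (Finset.univ.filter (fun x : G => θ ∈ bq_conjSet K x (hK x) e)).card =
        Nat.card T := by
      rw [Nat.card_eq_fintype_card, Fintype.card_subtype]
      refine Finset.card_bij' (fun x _ => x₀⁻¹ * x) (fun t _ => x₀ * t) ?_ ?_ ?_ ?_
      · intro x hx
        rw [Finset.mem_filter] at hx ⊢
        exact ⟨Finset.mem_univ _, (hiff x).mp hx.2⟩
      · intro t ht
        rw [Finset.mem_filter] at ht ⊢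
        refine ⟨Finset.mem_univ _, (hiff _).mpr ?_⟩
        rw [inv_mul_cancel_left]
        exact ht.2
      · intro x _
        rw [mul_inv_cancel_left]
      · intro t _
        rw [inv_mul_cancel_left]
    rw [hcard]
  · rw [if_neg hθ]
    have : Finset.univ.filter (fun x : G => θ ∈ bq_conjSet K x (hK x) e) = ∅ := by
      rw [Finset.filter_eq_empty_iff]
      intro x _ hx
      exact hθ ⟨x, Subgroup.mem_top _, hx⟩
    rw [this, Finset.card_empty, Nat.cast_zero]

/-- the idempotent of the orbit union as an average over the group -/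
theorem bq_orbit_average {G : Type*} [Group G] [Fintype G] {M : Ideal Cfsg.AlgInt}
    (hM : M.IsPrime) (K : Subgroup G) (hK : ∀ x : G, x ∈ Subgroup.normalizer (K : Set G))
    (e : Set (Cfsg.IrrCharacter K)) (he : Cfsg.IsPBlock M e) (T : Subgroup G)
    (hT : ∀ x : G, x ∈ T ↔ Cfsg.StabilizesBlock K e x) (g : G) :
    Cfsg.subgroupBlockCoeff K (bq_orbitUnion K ⊤ (fun x _ => hK x) e) g =
      (Nat.card T : ℂ)⁻¹ * ∑ x : G, Cfsg.subgroupBlockCoeff K e (x⁻¹ * g * x) := by
  classical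
  haveI : Fintype K := Fintype.ofFinite _
  haveI : Fintype (Cfsg.IrrCharacter K) := Fintype.ofFinite _
  have hTne : (Nat.card T : ℂ) ≠ 0 := by exact_mod_cast Nat.card_pos.ne'
  have e1 : ∀ x : G, Cfsg.subgroupBlockCoeff K e (x⁻¹ * g * x) =
      Cfsg.subgroupBlockCoeff K (bq_conjSet K x (hK x) e) g :=
    fun x => (bq_sbc_conjSet K x (hK x) e g).symm
  rw [Finset.sum_congr rfl (fun x _ => e1 x)]
  by_cases hg : g ∈ K
  · rw [bq_sbc_mem K _ g hg, ← h7_coef_indicator]
    have e2 : ∀ x : G, Cfsg.subgroupBlockCoeff K (bq_conjSet K x (hK x) e) g =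
        h7_coef (fun χ : Cfsg.IrrCharacter K =>
          if χ ∈ bq_conjSet K x (hK x) e then (1 : ℂ) else 0) ⟨g, hg⟩ := by
      intro x
      rw [bq_sbc_mem K _ g hg, h7_coef_indicator]
    rw [Finset.sum_congr rfl (fun x _ => e2 x)]
    unfold h7_coef
    have key : ∀ θ : Cfsg.IrrCharacter K,
        ∑ x : G, (if θ ∈ bq_conjSet K x (hK x) e then (1 : ℂ) else 0) =
        if θ ∈ bq_orbitUnion K ⊤ (fun x _ => hK x) e then (Nat.card T : ℂ) else 0 := by
      intro θ
      rw [Finset.sum_boole]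
      exact bq_orbit_count hM K hK e he T hT θ
    have h1 : ∑ x : G, ((Nat.card K : ℂ)⁻¹ * ∑ θ : Cfsg.IrrCharacter K,
        (if θ ∈ bq_conjSet K x (hK x) e then (1 : ℂ) else 0) *
          ((θ : K → ℂ) 1 * conj ((θ : K → ℂ) ⟨g, hg⟩))) =
        (Nat.card K : ℂ)⁻¹ * ∑ θ : Cfsg.IrrCharacter K,
          (if θ ∈ bq_orbitUnion K ⊤ (fun x _ => hK x) e then (Nat.card T : ℂ) else 0) *
            ((θ : K → ℂ) 1 * conj ((θ : K → ℂ) ⟨g, hg⟩)) := by
      rw [← Finset.mul_sum, Finset.sum_comm]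
      congr 1
      refine Finset.sum_congr rfl fun θ _ => ?_
      rw [← Finset.sum_mul, key]
    rw [h1, mul_left_comm, Finset.mul_sum, Finset.mul_sum, Finset.mul_sum]
    refine Finset.sum_congr rfl fun θ _ => ?_
    beta_reduce
    by_cases hθ : θ ∈ bq_orbitUnion K ⊤ (fun x _ => hK x) e
    · rw [if_pos hθ, if_pos hθ, one_mul, ← mul_assoc ((Nat.card T : ℂ)⁻¹),
        inv_mul_cancel₀ hTne, one_mul]
    · rw [if_neg hθ, if_neg hθ]
      simp
  · rw [bq_sbc_not_mem K _ g hg]
    have : ∑ x : G, Cfsg.subgroupBlockCoeff K (bq_conjSet K x (hK x) e) g = 0 := by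
      apply Finset.sum_eq_zero
      intro x _
      exact bq_sbc_not_mem K _ g hg
    rw [this, mul_zero]

end

section

/-- blocks of a group with a normal `p`-subgroup `P`: the stabilizer block and the orbit-sum
formula for the block idempotent -/
theorem bq_normal_pair {G : Type*} [Group G] [Fintype G] (p : ℕ) [hp : Fact p.Prime]
    (M : Ideal Cfsg.AlgInt) (hM : Cfsg.IsPModular p M) (P : Subgroup G) [hPn : P.Normal]
    (hP : IsPGroup p P) (B : Set (Cfsg.IrrCharacter G))
    (e : Set (Cfsg.IrrCharacter (Subgroup.centralizer (P : Set G))))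
    (hBe : Cfsg.IsBrauerPairOf p M B P e) (T : Subgroup G)
    (hT : ∀ x : G, x ∈ T ↔ Cfsg.StabilizesBlock (Subgroup.centralizer (P : Set G)) e x) :
    (∃ E : Set (Cfsg.IrrCharacter T), Cfsg.IsPBlock M E ∧ ∀ t : T, Cfsg.blockCoeff E t =
      Cfsg.subgroupBlockCoeff (Subgroup.centralizer (P : Set G)) e (t : G)) ∧
    ∀ g : G, Cfsg.blockCoeff B g = (Nat.card T : ℂ)⁻¹ *
      ∑ x : G, Cfsg.subgroupBlockCoeff (Subgroup.centralizer (P : Set G)) e (x⁻¹ * g * x) := by
  classical
  haveI : Fintype (Subgroup.centralizer (P : Set G)) := Fintype.ofFinite _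
  haveI : Fintype (Cfsg.IrrCharacter (Subgroup.centralizer (P : Set G))) := Fintype.ofFinite _
  have hPr := hM.2.1.isPrime
  have he : Cfsg.IsPBlock M e := hBe.1.2
  have hPtop : ∀ x : G, x ∈ Subgroup.normalizer (P : Set G) := by
    intro x
    rw [Subgroup.normalizer_eq_top]
    exact Subgroup.mem_top x
  have hK : ∀ x : G, x ∈ Subgroup.normalizer
      ((Subgroup.centralizer (P : Set G) : Subgroup G) : Set G) :=
    fun x => bm_normalizer_centralizer P x (hPtop x)
  constructor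
  · apply bq_stab_block p M hM P hP e he T (fun x _ => hPtop x)
    · intro x hx
      exact (hT x).mpr (bq_self_stabilizes P e x hx)
    · intro x hx
      exact (hT x).mpr (bq_inner_stabilizes _ e x hx)
    · intro x hx
      exact (hT x).mp hx
  · obtain ⟨b, hb, hbc⟩ := bq_orbit_block p M hM P hP e he ⊤ (fun x _ => hPtop x) le_top le_top
      (fun x _ => hK x)
    haveI : Fintype (⊤ : Subgroup G) := Fintype.ofFinite _
    set σ : G ≃* (⊤ : Subgroup G) := Subgroup.topEquiv.symm with hσ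
    set B' : Set (Cfsg.IrrCharacter G) := bq_trSet σ b with hB'
    have hB'b : Cfsg.IsPBlock M B' := bq_trSet_isBlock M σ b hb
    have hB'c : ∀ g : G, Cfsg.blockCoeff B' g =
        Cfsg.subgroupBlockCoeff (Subgroup.centralizer (P : Set G))
          (bq_orbitUnion (Subgroup.centralizer (P : Set G)) ⊤ (fun x _ => hK x) e) g := by
      intro g
      rw [hB', bq_blockCoeff_trSet σ b g, hbc]
      rfl
    have hpair : Cfsg.IsBrauerPairOf p M B' P e := by
      refine ⟨hBe.1, hB'b, fun ξ hξ => ?_⟩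
      have e1 : Cfsg.blockCoeff B' =
          Cfsg.subgroupBlockCoeff (Subgroup.centralizer (P : Set G))
          (bq_orbitUnion (Subgroup.centralizer (P : Set G)) ⊤ (fun x _ => hK x) e) :=
        funext hB'c
      rw [e1, bq_omega_self, if_pos (bq_subset_orbitUnion _ ⊤ _ e hξ), sub_self]
      exact h7_memLocalIdeal_zero hPr
    obtain ⟨B₀, _, huniq⟩ := br_unique_block p M hM P e hBe.1
    have hBB' : B = B' := (huniq B hBe).trans (huniq B' hpair).symm
    intro g
    rw [hBB', hB'c g]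
    exact bq_orbit_average hPr _ hK e he T hT g

end

end Cfsg.Agent.Lib.Helper25
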