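import Mathlib
import Cfsg.Agent.Lib.Helper25.BrauerPairCover
import Cfsg.Agent.S0906
import Cfsg.Agent.S0908
import Cfsg.Agent.S0912
import Cfsg.Agent.S0959
import Cfsg.Agent.S0920
import Cfsg.Agent.S0918

/-!
Maximal Brauer pairs: if (P,e) is a maximal B-Brauer pair then P is a defect group of B (S4659). Pieces: bq_nonvanishing, bq_going_up, bq_orbit_pick, bq_exists_bigger, bq_max_defect_N, convolution powers bq_convPow, bq_omega_cover (central characters of covering/covered blocks agree on invariant elements), bq_max_defect.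
-/

set_option autoImplicit false
set_option linter.style.haveILetI false
set_option linter.unusedVariables false
set_option warn.classDefReducibility false
set_option maxHeartbeats 1600000
set_option maxHeartbeats 3200000
set_option linter.unusedSectionVars false

namespace Cfsg.Agent.Lib.Helper25
open Cfsg.Agent.Lib.helper2
open Cfsg.Agent.Lib.helper7
open scoped ComplexConjugate
open Cfsg
section

/-- pointwise form of the multiplicativity of the Brauer map -/
theorem bq_conv_restrict {G : Type*} [Group G] [Fintype G] (p : ℕ) [hp : Fact p.Prime]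
    (M : Ideal Cfsg.AlgInt) (hM : Cfsg.IsPModular p M) (P : Subgroup G) (hP : IsPGroup p P)
    [Fintype (Subgroup.centralizer (P : Set G))]
    (a b : G → ℂ) (haR : ∀ x, Cfsg.MemLocalRing M (a x)) (hbR : ∀ x, Cfsg.MemLocalRing M (b x))
    (haP : ∀ u ∈ P, ∀ x, a (u * x * u⁻¹) = a x) (hbP : ∀ u ∈ P, ∀ x, b (u * x * u⁻¹) = b x)
    (x : Subgroup.centralizer (P : Set G)) :
    Cfsg.MemLocalIdeal M (h7_conv a b (x : G) -
      h7_conv (fun y : Subgroup.centralizer (P : Set G) => a y)
        (fun y : Subgroup.centralizer (P : Set G) => b y) x) := by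
  have hPr := hM.2.1.isPrime
  rw [h7_conv_apply, h7_conv_apply]
  have h1 := bm_sum_centralizer p M hM P hP (fun h : G => a h * b (h⁻¹ * (x : G)))
    (by
      intro u y
      have hu : (u : G) * (x : G) = (x : G) * (u : G) :=
        Subgroup.mem_centralizer_iff.mp x.2 u u.2
      have hu' : (x : G) * (u : G)⁻¹ = (u : G)⁻¹ * (x : G) := by
        rw [eq_inv_mul_iff_mul_eq, ← mul_assoc, hu, mul_assoc, mul_inv_cancel, mul_one]
      have e2 : ((u : G) * y * (u : G)⁻¹)⁻¹ * (x : G) =
          (u : G) * (y⁻¹ * (x : G)) * (u : G)⁻¹ := by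
        calc ((u : G) * y * (u : G)⁻¹)⁻¹ * (x : G)
            = (u : G) * y⁻¹ * ((u : G)⁻¹ * (x : G)) := by group
          _ = (u : G) * y⁻¹ * ((x : G) * (u : G)⁻¹) := by rw [hu']
          _ = (u : G) * (y⁻¹ * (x : G)) * (u : G)⁻¹ := by group
      show a ((u : G) * y * (u : G)⁻¹) * b (((u : G) * y * (u : G)⁻¹)⁻¹ * (x : G)) =
        a y * b (y⁻¹ * (x : G))
      rw [e2, haP u u.2, hbP u u.2])
    (fun y => h7_memLocalRing_mul hPr (haR _) (hbR _))
  exact h1

/-- **non-vanishing lemma**: an idempotent with a unit coefficient on the centralizer has a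
non-zero Brauer-map value -/
theorem bq_nonvanishing {G : Type*} [Group G] [Fintype G] (p : ℕ) [hp : Fact p.Prime]
    (M : Ideal Cfsg.AlgInt) (hM : Cfsg.IsPModular p M) (R : Subgroup G) (hR : IsPGroup p R)
    (a : G → ℂ) (haR : ∀ x, Cfsg.MemLocalRing M (a x))
    (haP : ∀ u ∈ R, ∀ x, a (u * x * u⁻¹) = a x)
    (haD : ∀ d ∈ Subgroup.centralizer (R : Set G), ∀ x, a (d * x * d⁻¹) = a x)
    (haa : h7_conv a a = a) (c : G) (hc : c ∈ Subgroup.centralizer (R : Set G))
    (hac : ¬ Cfsg.MemLocalIdeal M (a c)) :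
    ∃ ξ : Cfsg.IrrCharacter (Subgroup.centralizer (R : Set G)),
      ¬ Cfsg.MemLocalIdeal M (Cfsg.brauerOmega R a
        (ξ : Subgroup.centralizer (R : Set G) → ℂ)) := by
  classical
  haveI : Fintype (Subgroup.centralizer (R : Set G)) := Fintype.ofFinite _
  haveI : Fintype (Cfsg.IrrCharacter (Subgroup.centralizer (R : Set G))) := Fintype.ofFinite _
  have hPr := hM.2.1.isPrime
  by_contra hall
  push Not at hall
  set z : Subgroup.centralizer (R : Set G) → ℂ := fun x => a x with hz
  have hzcl : ∀ g h : Subgroup.centralizer (R : Set G), z (h * g * h⁻¹) = z g :=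
    fun g h => haD h h.2 g
  have hzR : ∀ k, Cfsg.MemLocalRing M (z k) := fun k => haR _
  have hν : ∀ ψ : Cfsg.IrrCharacter (Subgroup.centralizer (R : Set G)),
      Cfsg.MemLocalIdeal M (h7_fourier z ψ) := by
    intro ψ
    have := hall ψ
    rw [bq_omega_eq] at this
    unfold bm_omega at this
    rw [h7_fourier_apply, Finset.sum_div]
    exact this
  obtain ⟨N₀, hN₀⟩ := h7_radical_pow hM (h7_fourier z) hν
  let w : ℕ → Subgroup.centralizer (R : Set G) → ℂ :=
    fun n => Nat.rec z (fun _ v => h7_conv v z) n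
  have hw0 : w 0 = z := rfl
  have hw : ∀ n, w (n + 1) = h7_conv (w n) z := fun n => rfl
  have hwc := bq_conv_pow_coef z hzcl w hw0 hw
  have hzz : ∀ k, Cfsg.MemLocalIdeal M (h7_conv z z k - z k) := by
    intro k
    have h1 := bq_conv_restrict p M hM R hR a a haR haR haP haP k
    rw [haa] at h1
    have h2 := h7_memLocalIdeal_neg h1
    rwa [neg_sub] at h2
  have hwz : ∀ n, ∀ k, Cfsg.MemLocalIdeal M (w n k - z k) := by
    intro n
    induction n with
    | zero =>
      intro k
      rw [hw0, sub_self]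
      exact h7_memLocalIdeal_zero hPr
    | succ n ih =>
      intro k
      rw [hw]
      have h1 : h7_conv (w n) z k - z k =
          (h7_conv (w n) z k - h7_conv z z k) + (h7_conv z z k - z k) := by ring
      rw [h1]
      apply h7_memLocalIdeal_add hPr _ (hzz k)
      rw [h7_conv_apply, h7_conv_apply, ← Finset.sum_sub_distrib]
      apply h7_memLocalIdeal_sum hPr
      intro h _
      rw [← sub_mul]
      exact h7_memLocalIdeal_mul_right hPr (ih h) (hzR _)
  apply hac
  have h1 := hwz N₀ ⟨c, hc⟩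
  have h2 := hN₀ ⟨c, hc⟩
  rw [← hwc N₀] at h2
  have h3 := h7_memLocalIdeal_sub hPr h2 h1
  rwa [sub_sub_cancel] at h3

/-- **going up**: a `p`-subgroup stabilizing the block with non-zero Brauer-map value gives a
normal inclusion of Brauer pairs -/
theorem bq_going_up {G : Type*} [Group G] [Fintype G] (p : ℕ) [hp : Fact p.Prime]
    (M : Ideal Cfsg.AlgInt) (hM : Cfsg.IsPModular p M) (P R : Subgroup G)
    (e : Set (Cfsg.IrrCharacter (Subgroup.centralizer (P : Set G))))
    (hPe : Cfsg.IsBrauerPair p M P e) (hR : IsPGroup p R) (hPR : P ≤ R)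
    (hRN : R ≤ Subgroup.normalizer (P : Set G))
    (hst : ∀ x ∈ R, Cfsg.StabilizesBlock (Subgroup.centralizer (P : Set G)) e x)
    (ξ : Cfsg.IrrCharacter (Subgroup.centralizer (R : Set G)))
    (hξ : ¬ Cfsg.MemLocalIdeal M (Cfsg.brauerOmega R
      (Cfsg.subgroupBlockCoeff (Subgroup.centralizer (P : Set G)) e)
        (ξ : Subgroup.centralizer (R : Set G) → ℂ))) :
    Cfsg.IsNormalSubpair p M P e R (Cfsg.blockOf M (ξ : Subgroup.centralizer (R : Set G) → ℂ)) := by
  classical
  haveI : Fintype (Subgroup.centralizer (R : Set G)) := Fintype.ofFinite _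
  haveI : Fintype (Cfsg.IrrCharacter (Subgroup.centralizer (R : Set G))) := Fintype.ofFinite _
  have hPr := hM.2.1.isPrime
  have hDK : Subgroup.centralizer (R : Set G) ≤ Subgroup.centralizer (P : Set G) :=
    Subgroup.centralizer_le hPR
  refine ⟨hPe, ⟨hR, ξ, rfl⟩, hPR, hRN, hst, ?_⟩
  set t := Cfsg.brauerOmega R
      (Cfsg.subgroupBlockCoeff (Subgroup.centralizer (P : Set G)) e)
        (ξ : Subgroup.centralizer (R : Set G) → ℂ) with ht
  have htR : Cfsg.MemLocalRing M t :=
    bq_omega_mem hPr R _ (fun d hd x => bq_sbc_inner _ e d (hDK hd) x)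
      (bq_sbc_memLocalRing hPr _ e hPe.2) ξ
  have h1 := bq_omega_sbc_mul p M hM R hR _ hDK e e hPe.2 hPe.2 hst hst ξ
  rw [Set.inter_self] at h1
  have h2 : Cfsg.MemLocalIdeal M (t * (t - 1)) := by
    have := h7_memLocalIdeal_neg h1
    have e1 : t * (t - 1) = -(t - t * t) := by ring
    rw [e1]
    exact this
  have h3 : Cfsg.MemLocalIdeal M (t - 1) := by
    rcases h7_memLocalIdeal_mul_cases hPr htR
      (h7_memLocalRing_sub hPr htR (h7_memLocalRing_one hPr)) h2 with h4 | h4
    · exact absurd h4 hξ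
    · exact h4
  intro ξ' hξ'
  have h4 := bq_omega_congr hPr R _ (fun d hd x => bq_sbc_inner _ e d (hDK hd) x)
    (bq_sbc_memLocalRing hPr _ e hPe.2) ξ' ξ (h7_sameBlock_symm hξ')
  have h5 := h7_memLocalIdeal_add hPr h4 h3
  rwa [sub_add_sub_cancel] at h5

end

section

open Classical in
/-- the idempotent of a union of blocks is the sum of the block idempotents -/
theorem bq_sbc_union_sum {G : Type*} [Group G] [Fintype G] {M : Ideal Cfsg.AlgInt}
    (hM : M.IsPrime) (K : Subgroup G) (S : Set (Cfsg.IrrCharacter K))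
    (hS : ∀ θ ∈ S, Cfsg.blockOf M (θ : K → ℂ) ⊆ S)
    [Fintype {f : Set (Cfsg.IrrCharacter K) // Cfsg.IsPBlock M f}] :
    Cfsg.subgroupBlockCoeff K S =
      ∑ f : {f : Set (Cfsg.IrrCharacter K) // Cfsg.IsPBlock M f},
        if f.1 ⊆ S then Cfsg.subgroupBlockCoeff K f.1 else 0 := by
  haveI : Fintype K := Fintype.ofFinite _
  haveI : Fintype (Cfsg.IrrCharacter K) := Fintype.ofFinite _
  funext g
  rw [Finset.sum_apply]
  by_cases hg : g ∈ K
  · have e1 : ∀ f : {f : Set (Cfsg.IrrCharacter K) // Cfsg.IsPBlock M f},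
        (if f.1 ⊆ S then Cfsg.subgroupBlockCoeff K f.1 else 0) g =
        (Nat.card K : ℂ)⁻¹ * ∑ χ : Cfsg.IrrCharacter K,
          (if f.1 ⊆ S ∧ χ ∈ f.1 then (1 : ℂ) else 0) *
            ((χ : K → ℂ) 1 * conj ((χ : K → ℂ) ⟨g, hg⟩)) := by
      intro f
      by_cases hf : f.1 ⊆ S
      · rw [if_pos hf, bq_sbc_mem K _ g hg, ← h7_coef_indicator]
        unfold h7_coef
        congr 1
        refine Finset.sum_congr rfl fun χ _ => ?_
        beta_reduce
        by_cases hχ : χ ∈ f.1
        · rw [if_pos hχ, if_pos ⟨hf, hχ⟩]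
        · rw [if_neg hχ, if_neg (fun h => hχ h.2)]
      · rw [if_neg hf]
        have : ∑ χ : Cfsg.IrrCharacter K,
          (if f.1 ⊆ S ∧ χ ∈ f.1 then (1 : ℂ) else 0) *
            ((χ : K → ℂ) 1 * conj ((χ : K → ℂ) ⟨g, hg⟩)) = 0 := by
          apply Finset.sum_eq_zero
          intro χ _
          rw [if_neg (fun h => hf h.1), zero_mul]
        rw [this, mul_zero]
        rfl
    rw [Finset.sum_congr rfl (fun f _ => e1 f), ← Finset.mul_sum, Finset.sum_comm,
      bq_sbc_mem K S g hg, ← h7_coef_indicator]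
    unfold h7_coef
    congr 1
    refine Finset.sum_congr rfl fun χ _ => ?_
    rw [← Finset.sum_mul]
    congr 1
    rw [Finset.sum_eq_single (⟨Cfsg.blockOf M (χ : K → ℂ), ⟨χ, rfl⟩⟩ :
      {f : Set (Cfsg.IrrCharacter K) // Cfsg.IsPBlock M f})]
    · have hχχ : χ ∈ Cfsg.blockOf M (χ : K → ℂ) := h7_sameBlock_refl hM _
      beta_reduce
      by_cases hχ : χ ∈ S
      · rw [if_pos hχ, if_pos ⟨hS χ hχ, hχχ⟩]
      · rw [if_neg hχ, if_neg (fun h => hχ (h.1 hχχ))]
    · intro f _ hne
      rw [if_neg]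
      rintro ⟨_, hmem⟩
      apply hne
      obtain ⟨f, χ', rfl⟩ := f
      apply Subtype.ext
      exact h7_blockOf_eq_of_mem hM χ' χ hmem
    · intro h
      exact absurd (Finset.mem_univ _) h
  · rw [bq_sbc_not_mem K S g hg]
    symm
    apply Finset.sum_eq_zero
    intro f _
    by_cases hf : f.1 ⊆ S
    · rw [if_pos hf]
      exact bq_sbc_not_mem K _ g hg
    · rw [if_neg hf]
      rfl

/-- **picking a stable block**: if the Brauer-map value of a stable union of blocks does not
vanish, neither does that of some stable block inside it -/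
theorem bq_orbit_pick {G : Type*} [Group G] [Fintype G] (p : ℕ) [hp : Fact p.Prime]
    (M : Ideal Cfsg.AlgInt) (hM : Cfsg.IsPModular p M) (R : Subgroup G) (hR : IsPGroup p R)
    (K : Subgroup G) (hDK : Subgroup.centralizer (R : Set G) ≤ K)
    (hRK : R ≤ Subgroup.normalizer (K : Set G)) (S : Set (Cfsg.IrrCharacter K))
    (hS : ∀ θ ∈ S, Cfsg.blockOf M (θ : K → ℂ) ⊆ S)
    (hSst : ∀ (r : G) (hr : r ∈ R), bq_conjSet K r (hRK hr) S = S)
    (ξ : Cfsg.IrrCharacter (Subgroup.centralizer (R : Set G)))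
    (hξ : ¬ Cfsg.MemLocalIdeal M (Cfsg.brauerOmega R (Cfsg.subgroupBlockCoeff K S)
      (ξ : Subgroup.centralizer (R : Set G) → ℂ))) :
    ∃ f : Set (Cfsg.IrrCharacter K), Cfsg.IsPBlock M f ∧ f ⊆ S ∧
      (∀ r ∈ R, Cfsg.StabilizesBlock K f r) ∧
      ¬ Cfsg.MemLocalIdeal M (Cfsg.brauerOmega R (Cfsg.subgroupBlockCoeff K f)
        (ξ : Subgroup.centralizer (R : Set G) → ℂ)) := by
  classical
  have hPr := hM.2.1.isPrime
  haveI : Fintype R := Fintype.ofFinite _
  haveI : Fintype (Subgroup.centralizer (R : Set G)) := Fintype.ofFinite _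
  haveI : Fintype (Cfsg.IrrCharacter (Subgroup.centralizer (R : Set G))) := Fintype.ofFinite _
  haveI : Fintype {f : Set (Cfsg.IrrCharacter K) // Cfsg.IsPBlock M f} := Fintype.ofFinite _
  letI := bq_blockAction K R hRK M
  set F : {f : Set (Cfsg.IrrCharacter K) // Cfsg.IsPBlock M f} → ℂ := fun f =>
    if f.1 ⊆ S then Cfsg.brauerOmega R (Cfsg.subgroupBlockCoeff K f.1)
      (ξ : Subgroup.centralizer (R : Set G) → ℂ) else 0 with hF
  have hsum : ∑ f, F f = Cfsg.brauerOmega R (Cfsg.subgroupBlockCoeff K S)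
      (ξ : Subgroup.centralizer (R : Set G) → ℂ) := by
    rw [bq_sbc_union_sum hPr K S hS, bq_omega_sum]
    refine Finset.sum_congr rfl fun f _ => ?_
    simp only [hF]
    by_cases hf : f.1 ⊆ S
    · rw [if_pos hf, if_pos hf]
    · rw [if_neg hf, if_neg hf, bq_omega_zero]
  have hFinv : ∀ (u : R) (f : {f : Set (Cfsg.IrrCharacter K) // Cfsg.IsPBlock M f}),
      F (u • f) = F f := by
    intro u f
    have h1 : (u • f).1 = bq_conjSet K (u : G) (hRK u.2) f.1 := rfl
    have h2 : (u • f).1 ⊆ S ↔ f.1 ⊆ S := by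
      rw [h1]
      constructor
      · intro h
        have := bq_conjSet_mono K (u : G)⁻¹ (hRK (Subgroup.inv_mem _ u.2)) _ _ h
        rw [← bq_conjSet_mul, bq_conjSet_congr K ((u : G)⁻¹ * (u : G)) 1 _ (Subgroup.one_mem _)
          (by group), bq_conjSet_one, hSst _ (Subgroup.inv_mem _ u.2)] at this
        exact this
      · intro h
        have := bq_conjSet_mono K (u : G) (hRK u.2) _ _ h
        rwa [hSst _ u.2] at this
    have h3 : Cfsg.brauerOmega R (Cfsg.subgroupBlockCoeff K (u • f).1)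
        (ξ : Subgroup.centralizer (R : Set G) → ℂ) =
        Cfsg.brauerOmega R (Cfsg.subgroupBlockCoeff K f.1)
        (ξ : Subgroup.centralizer (R : Set G) → ℂ) := by
      rw [h1, bq_omega_eq, bq_omega_eq]
      congr 1
      funext x
      rw [bq_sbc_conjSet]
      congr 1
      have hx := Subgroup.mem_centralizer_iff.mp x.2 (u : G) u.2
      rw [mul_assoc, ← hx, ← mul_assoc, inv_mul_cancel, one_mul]
    simp only [hF]
    by_cases hf : f.1 ⊆ S
    · rw [if_pos hf, if_pos (h2.mpr hf), h3]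
    · rw [if_neg hf, if_neg (fun h => hf (h2.mp h))]
  have hFR : ∀ f, Cfsg.MemLocalRing M (F f) := by
    intro f
    simp only [hF]
    split_ifs
    · exact bq_omega_mem hPr R _ (fun d hd x => bq_sbc_inner _ f.1 d (hDK hd) x)
        (bq_sbc_memLocalRing hPr _ f.1 f.2) ξ
    · exact h7_memLocalRing_zero hPr
  have horb := bm_orbit_sum p M hM hR F hFinv hFR
  rw [hsum] at horb
  by_contra hno
  push Not at hno
  apply hξ
  have h1 : Cfsg.MemLocalIdeal M (∑ x ∈ Finset.univ.filter (fun x :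
      {f : Set (Cfsg.IrrCharacter K) // Cfsg.IsPBlock M f} => ∀ a : R, a • x = x), F x) := by
    apply h7_memLocalIdeal_sum hPr
    intro f hf
    have hf' := (Finset.mem_filter.mp hf).2
    simp only [hF]
    by_cases hfS : f.1 ⊆ S
    · rw [if_pos hfS]
      apply hno f.1 f.2 hfS
      intro r hr
      rw [bq_stabilizes_iff hPr K f.1 f.2 r (hRK hr)]
      exact congrArg Subtype.val (hf' ⟨r, hr⟩)
    · rw [if_neg hfS]
      exact h7_memLocalIdeal_zero hPr
  have h2 := h7_memLocalIdeal_add hPr horb h1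
  rwa [sub_add_cancel] at h2

end

section

/-- the Brauer-map value of a conjugated function at a conjugate subgroup -/
theorem bq_omega_conjG {G : Type*} [Group G] [Finite G] (R : Subgroup G) (x : G)
    (a : G → ℂ) (ξ : Cfsg.IrrCharacter
      (Subgroup.centralizer ((R.map (MulAut.conj x).toMonoidHom : Subgroup G) : Set G))) :
    Cfsg.brauerOmega (R.map (MulAut.conj x).toMonoidHom) (fun g => a (x⁻¹ * g * x))
        (ξ : _ → ℂ) =
      Cfsg.brauerOmega R a (bq_pull R x ξ : Subgroup.centralizer (R : Set G) → ℂ) := by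
  classical
  haveI : Fintype (Subgroup.centralizer (R : Set G)) := Fintype.ofFinite _
  haveI : Fintype (Subgroup.centralizer
    ((R.map (MulAut.conj x).toMonoidHom : Subgroup G) : Set G)) := Fintype.ofFinite _
  rw [bq_omega_eq, bq_omega_eq]
  unfold bm_omega
  refine (Fintype.sum_equiv (bq_centConj R x).toEquiv _ _ fun c => ?_).symm
  rw [bq_pull_apply, bq_pull_apply, map_one]
  have h3 : x⁻¹ * (((bq_centConj R x).toEquiv c : _) : G) * x = (c : G) := by
    show x⁻¹ * ((bq_centConj R x c : _) : G) * x = (c : G)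
    rw [bq_centConj_apply]
    group
  beta_reduce
  rw [h3]
  rfl

/-- **a properly bigger pair**: a unit coefficient of the covering block idempotent on the
centralizer of a `p`-subgroup `R ≥ P` of `N` gives a pair above `(P, e)` on a conjugate
of `R` -/
theorem bq_exists_bigger {G : Type*} [Group G] [Fintype G] (p : ℕ) [hp : Fact p.Prime]
    (M : Ideal Cfsg.AlgInt) (hM : Cfsg.IsPModular p M) (P : Subgroup G)
    (e : Set (Cfsg.IrrCharacter (Subgroup.centralizer (P : Set G))))
    (hPe : Cfsg.IsBrauerPair p M P e)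
    (hNK : Subgroup.normalizer (P : Set G) ≤ Subgroup.normalizer
      ((Subgroup.centralizer (P : Set G) : Subgroup G) : Set G))
    (R : Subgroup G) (hR : IsPGroup p R) (hPR : P ≤ R)
    (hRN : R ≤ Subgroup.normalizer (P : Set G)) (c : G)
    (hc : c ∈ Subgroup.centralizer (R : Set G))
    (hac : ¬ Cfsg.MemLocalIdeal M (Cfsg.subgroupBlockCoeff (Subgroup.centralizer (P : Set G))
      (bq_orbitUnion (Subgroup.centralizer (P : Set G)) (Subgroup.normalizer (P : Set G)) hNK e)
      c)) :
    ∃ (R₁ : Subgroup G) (g₁ : Set (Cfsg.IrrCharacter (Subgroup.centralizer (R₁ : Set G)))),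
      Nat.card R₁ = Nat.card R ∧ Cfsg.IsNormalSubpair p M P e R₁ g₁ := by
  classical
  haveI : Fintype (Subgroup.centralizer (P : Set G)) := Fintype.ofFinite _
  haveI : Fintype (Cfsg.IrrCharacter (Subgroup.centralizer (P : Set G))) := Fintype.ofFinite _
  have hPr := hM.2.1.isPrime
  obtain ⟨hP, he⟩ := hPe
  have hDK : Subgroup.centralizer (R : Set G) ≤ (Subgroup.centralizer (P : Set G)) := Subgroup.centralizer_le hPR
  have hUb := bq_orbitUnion_blocks hPr (Subgroup.centralizer (P : Set G)) (Subgroup.normalizer (P : Set G)) hNK e he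
  have hUst := bq_orbitUnion_stable (Subgroup.centralizer (P : Set G)) (Subgroup.normalizer (P : Set G)) hNK e
  have haR := bq_sbc_union_blocks hPr (Subgroup.centralizer (P : Set G)) (bq_orbitUnion (Subgroup.centralizer (P : Set G)) (Subgroup.normalizer (P : Set G)) hNK e) hUb
  have haN : ∀ n ∈ (Subgroup.normalizer (P : Set G)), ∀ x, Cfsg.subgroupBlockCoeff (Subgroup.centralizer (P : Set G)) (bq_orbitUnion (Subgroup.centralizer (P : Set G)) (Subgroup.normalizer (P : Set G)) hNK e) (n * x * n⁻¹) =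
      Cfsg.subgroupBlockCoeff (Subgroup.centralizer (P : Set G)) (bq_orbitUnion (Subgroup.centralizer (P : Set G)) (Subgroup.normalizer (P : Set G)) hNK e) x := by
    intro n hn x
    have h1 := bq_sbc_conjSet (Subgroup.centralizer (P : Set G)) n⁻¹ (hNK (Subgroup.inv_mem _ hn)) (bq_orbitUnion (Subgroup.centralizer (P : Set G)) (Subgroup.normalizer (P : Set G)) hNK e) x
    rw [hUst _ (Subgroup.inv_mem _ hn), inv_inv] at h1
    exact h1.symm
  have haa : h7_conv (Cfsg.subgroupBlockCoeff (Subgroup.centralizer (P : Set G)) (bq_orbitUnion (Subgroup.centralizer (P : Set G)) (Subgroup.normalizer (P : Set G)) hNK e)) (Cfsg.subgroupBlockCoeff (Subgroup.centralizer (P : Set G)) (bq_orbitUnion (Subgroup.centralizer (P : Set G)) (Subgroup.normalizer (P : Set G)) hNK e)) =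
      Cfsg.subgroupBlockCoeff (Subgroup.centralizer (P : Set G)) (bq_orbitUnion (Subgroup.centralizer (P : Set G)) (Subgroup.normalizer (P : Set G)) hNK e) := by
    rw [bq_sbc_conv, Set.inter_self]
  obtain ⟨ξ', hξ'⟩ := bq_nonvanishing p M hM R hR _ haR (fun u hu x => haN u (hRN hu) x)
    (fun d hd x => bq_sbc_inner (Subgroup.centralizer (P : Set G)) (bq_orbitUnion (Subgroup.centralizer (P : Set G)) (Subgroup.normalizer (P : Set G)) hNK e) d (hDK hd) x) haa c hc hac
  obtain ⟨f, hfb, hfU, hfst, hfξ⟩ := bq_orbit_pick p M hM R hR (Subgroup.centralizer (P : Set G)) hDK (hRN.trans hNK) (bq_orbitUnion (Subgroup.centralizer (P : Set G)) (Subgroup.normalizer (P : Set G)) hNK e) hUb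
    (fun r hr => hUst r (hRN hr)) ξ' hξ'
  -- f is a conjugate of e
  obtain ⟨n, hn, hfn⟩ : ∃ (n : G) (hn : n ∈ (Subgroup.normalizer (P : Set G))), f = bq_conjSet (Subgroup.centralizer (P : Set G)) n (hNK hn) e := by
    obtain ⟨θ₀, rfl⟩ := hfb
    have hθ₀ : θ₀ ∈ Cfsg.blockOf M (θ₀ : (Subgroup.centralizer (P : Set G)) → ℂ) := h7_sameBlock_refl hPr _
    obtain ⟨n, hn, hθn⟩ := hfU hθ₀
    refine ⟨n, hn, ?_⟩
    obtain ⟨χ, hχ⟩ := bq_conjSet_isBlock (Subgroup.centralizer (P : Set G)) n (hNK hn) M e he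
    rw [hχ] at hθn ⊢
    exact (h7_blockOf_eq_of_mem hPr _ _ hθn).symm
  have hn' : n⁻¹ ∈ (Subgroup.normalizer (P : Set G)) := Subgroup.inv_mem _ hn
  have hback : bq_conjSet (Subgroup.centralizer (P : Set G)) n⁻¹ (hNK hn') f = e := by
    rw [hfn, ← bq_conjSet_mul, bq_conjSet_congr (Subgroup.centralizer (P : Set G)) (n⁻¹ * n) 1 _ (Subgroup.one_mem _) (by group),
      bq_conjSet_one]
  set R₁ := R.map (MulAut.conj n⁻¹).toMonoidHom with hR₁
  have hR₁mem : ∀ y, y ∈ R₁ ↔ ∃ r ∈ R, n⁻¹ * r * n = y := by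
    intro y
    rw [hR₁, Subgroup.mem_map]
    constructor
    · rintro ⟨r, hr, rfl⟩
      exact ⟨r, hr, by rw [MulEquiv.coe_toMonoidHom, MulAut.conj_apply, inv_inv]⟩
    · rintro ⟨r, hr, rfl⟩
      exact ⟨r, hr, by rw [MulEquiv.coe_toMonoidHom, MulAut.conj_apply, inv_inv]⟩
  have hR₁p : IsPGroup p R₁ := hR.map _
  have hPR₁ : P ≤ R₁ := by
    intro y hy
    rw [hR₁mem]
    refine ⟨n * y * n⁻¹, hPR ((Subgroup.mem_normalizer_iff.mp hn y).mp hy), by group⟩
  have hR₁N : R₁ ≤ (Subgroup.normalizer (P : Set G)) := by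
    intro y hy
    obtain ⟨r, hr, rfl⟩ := (hR₁mem y).mp hy
    exact Subgroup.mul_mem _ (Subgroup.mul_mem _ hn' (hRN hr)) hn
  have hcard : Nat.card R₁ = Nat.card R := by
    rw [hR₁]
    exact Nat.card_congr (R.equivMapOfInjective _ (MulEquiv.injective _)).toEquiv.symm
  have hst₁ : ∀ y ∈ R₁, Cfsg.StabilizesBlock (Subgroup.centralizer (P : Set G)) e y := by
    intro y hy
    obtain ⟨r, hr, rfl⟩ := (hR₁mem y).mp hy
    have hrK := (hRN.trans hNK) hr
    have hyK : n⁻¹ * r * n ∈ Subgroup.normalizer (((Subgroup.centralizer (P : Set G)) : Subgroup G) : Set G) :=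
      Subgroup.mul_mem _ (Subgroup.mul_mem _ (hNK hn') hrK) (hNK hn)
    rw [bq_stabilizes_iff hPr (Subgroup.centralizer (P : Set G)) e he _ hyK]
    have h1 := (bq_stabilizes_iff hPr (Subgroup.centralizer (P : Set G)) f hfb r hrK).mp (hfst r hr)
    rw [bq_conjSet_congr (Subgroup.centralizer (P : Set G)) (n⁻¹ * r * n) (n⁻¹ * (r * n)) hyK
      (Subgroup.mul_mem _ (hNK hn') (Subgroup.mul_mem _ hrK (hNK hn))) (by group),
      bq_conjSet_mul (Subgroup.centralizer (P : Set G)) n⁻¹ (r * n) (hNK hn') (Subgroup.mul_mem _ hrK (hNK hn)),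
      bq_conjSet_mul (Subgroup.centralizer (P : Set G)) r n hrK (hNK hn), ← hfn, h1, hback]
  set ξ'' : Cfsg.IrrCharacter (Subgroup.centralizer ((R₁ : Subgroup G) : Set G)) :=
    bq_trIrr (bq_centConj R n⁻¹).symm ξ' with hξ''
  have hpull : bq_pull R n⁻¹ ξ'' = ξ' := by
    apply Subtype.ext
    funext c'
    rw [bq_pull_apply, hξ'', bq_trIrr_apply, MulEquiv.symm_apply_apply]
  have hfun : Cfsg.subgroupBlockCoeff (Subgroup.centralizer (P : Set G)) e =
      fun g => Cfsg.subgroupBlockCoeff (Subgroup.centralizer (P : Set G)) f (n⁻¹⁻¹ * g * n⁻¹) := by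
    funext g
    have h1 := bq_sbc_conjSet (Subgroup.centralizer (P : Set G)) n⁻¹ (hNK hn') f g
    rw [hback] at h1
    exact h1
  have hξ''ne : ¬ Cfsg.MemLocalIdeal M (Cfsg.brauerOmega R₁ (Cfsg.subgroupBlockCoeff (Subgroup.centralizer (P : Set G)) e)
      (ξ'' : _ → ℂ)) := by
    rw [hfun, bq_omega_conjG R n⁻¹ (Cfsg.subgroupBlockCoeff (Subgroup.centralizer (P : Set G)) f) ξ'', hpull]
    exact hfξ
  exact ⟨R₁, _, hcard, bq_going_up p M hM P R₁ e ⟨hP, he⟩ hR₁p hPR₁ hR₁N hst₁ ξ'' hξ''ne⟩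

end

section

/-- the block of `N_G(P)` covering the block of a maximal Brauer pair has defect group `P` -/
theorem bq_max_defect_N {G : Type*} [Group G] [Fintype G] (p : ℕ) [hp : Fact p.Prime]
    (M : Ideal Cfsg.AlgInt) (hM : Cfsg.IsPModular p M) (B : Set (Cfsg.IrrCharacter G))
    (P : Subgroup G) (e : Set (Cfsg.IrrCharacter (Subgroup.centralizer (P : Set G))))
    (hmax : Cfsg.IsMaximalBrauerPair p M B P e)
    (hNK : Subgroup.normalizer (P : Set G) ≤ Subgroup.normalizer
      ((Subgroup.centralizer (P : Set G) : Subgroup G) : Set G)) :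
    ∃ b : Set (Cfsg.IrrCharacter (Subgroup.normalizer (P : Set G))), Cfsg.IsPBlock M b ∧
      Cfsg.IsDefectGroup p M b (P.subgroupOf (Subgroup.normalizer (P : Set G))) ∧
      ∀ n : Subgroup.normalizer (P : Set G), Cfsg.blockCoeff b n =
        Cfsg.subgroupBlockCoeff (Subgroup.centralizer (P : Set G))
          (bq_orbitUnion (Subgroup.centralizer (P : Set G))
            (Subgroup.normalizer (P : Set G)) hNK e) (n : G) := by
  classical
  have hPr := hM.2.1.isPrime
  obtain ⟨hBe, hmaxR⟩ := hmax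
  have hP : IsPGroup p P := hBe.1.1
  have he : Cfsg.IsPBlock M e := hBe.1.2
  haveI : Fintype (Subgroup.normalizer (P : Set G)) := Fintype.ofFinite _
  obtain ⟨b, hb, hbc⟩ := bq_orbit_block p M hM P hP e he (Subgroup.normalizer (P : Set G)) le_rfl
    Subgroup.le_normalizer (Subgroup.centralizer_le_normalizer _) hNK
  refine ⟨b, hb, ?_, hbc⟩
  obtain ⟨g₀, hg₀⟩ := Cfsg.Agent.S0906.result p M hM b hb
  obtain ⟨S₀⟩ : Nonempty (Sylow p (Subgroup.centralizer ({g₀} : Set (Subgroup.normalizer (P : Set G))))) :=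
    inferInstance
  have hD' : Cfsg.IsDefectGroup p M b
      ((S₀ : Subgroup (Subgroup.centralizer ({g₀} : Set (Subgroup.normalizer (P : Set G))))).map
        (Subgroup.centralizer ({g₀} : Set (Subgroup.normalizer (P : Set G)))).subtype) :=
    ⟨g₀, hg₀, S₀, rfl⟩
  generalize hDdef : (S₀ : Subgroup (Subgroup.centralizer
    ({g₀} : Set (Subgroup.normalizer (P : Set G))))).map
      (Subgroup.centralizer ({g₀} : Set (Subgroup.normalizer (P : Set G)))).subtype = D' at hD'
  -- P' ≤ D'
  haveI hP'n : (P.subgroupOf (Subgroup.normalizer (P : Set G))).Normal :=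
    Subgroup.normal_in_normalizer
  have hP'D' : P.subgroupOf (Subgroup.normalizer (P : Set G)) ≤ D' := by
    refine le_trans ?_ (Cfsg.Agent.S0912.result p M hM b hb D' hD')
    exact le_sSup ⟨hP'n, hP.comap_subtype⟩
  -- D' is a p-group
  have hD'card := Cfsg.Agent.S0908.result p M hM b hb D' hD'
  have hD'p : IsPGroup p D' := IsPGroup.of_card hD'card
  set R := D'.map (Subgroup.normalizer (P : Set G)).subtype with hR
  have hRp : IsPGroup p R := hD'p.map _
  have hRN : R ≤ Subgroup.normalizer (P : Set G) := Subgroup.map_subtype_le D'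
  have hPR : P ≤ R := by
    intro y hy
    exact ⟨⟨y, Subgroup.le_normalizer hy⟩, hP'D' (Subgroup.mem_subgroupOf.mpr hy), rfl⟩
  -- a unit coefficient on the centralizer of R
  obtain ⟨g, hgR, hgI, c, hgc, hcD⟩ :=
    (Cfsg.Agent.S0959.result p M hM b hb D' hD' D' hD'p).mpr ⟨1, by
      intro y hy
      obtain ⟨d, hd, rfl⟩ := hy
      simpa using hd⟩
  have hcoef : Cfsg.blockCoeff b c = Cfsg.blockCoeff b g := by
    obtain ⟨u, hu⟩ := isConj_iff.mp hgc
    rw [← hu]
    exact br_blockCoeff_conj b g u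
  have hcR : (c : G) ∈ Subgroup.centralizer (R : Set G) := by
    rw [Subgroup.mem_centralizer_iff]
    rintro _ ⟨d, hd, rfl⟩
    have := Subgroup.mem_centralizer_iff.mp hcD d hd
    exact congrArg Subtype.val this
  have hac : ¬ Cfsg.MemLocalIdeal M (Cfsg.subgroupBlockCoeff (Subgroup.centralizer (P : Set G))
      (bq_orbitUnion (Subgroup.centralizer (P : Set G)) (Subgroup.normalizer (P : Set G)) hNK e)
      (c : G)) := by
    rw [← hbc, hcoef]
    exact hgI
  obtain ⟨R₁, g₁, hcard, hn⟩ := bq_exists_bigger p M hM P e hBe.1 hNK R hRp hPR hRN (c : G) hcR hac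
  have hpair₁ : Cfsg.IsBrauerPairOf p M B R₁ g₁ := bq_pairOf_step_up p M hM R₁ P g₁ e hn B hBe
  have hR₁P : R₁ = P := hmaxR R₁ g₁ hpair₁ (Relation.ReflTransGen.single hn)
  have hRP : R = P := by
    have h1 : Nat.card P = Nat.card R := by rw [← hcard, hR₁P]
    have h2 : (P : Set G) = (R : Set G) := by
      apply Set.eq_of_subset_of_ncard_le hPR _ (Set.toFinite _)
      rw [← Nat.card_coe_set_eq, ← Nat.card_coe_set_eq]
      exact h1.ge
    exact (SetLike.coe_injective h2).symm
  have hD'eq : D' = P.subgroupOf (Subgroup.normalizer (P : Set G)) := by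
    have h1 : (D'.map (Subgroup.normalizer (P : Set G)).subtype).subgroupOf
        (Subgroup.normalizer (P : Set G)) = D' := by
      unfold Subgroup.subgroupOf
      rw [Subgroup.comap_map_eq_self_of_injective (Subgroup.subtype_injective _)]
    rw [← h1]
    congr 1
  rw [← hD'eq]
  exact hD'

end

section

/-- restriction to a subgroup of the convolution of functions supported on it -/
theorem bq_res_conv {G : Type*} [Group G] [Fintype G] (N : Subgroup G) [Fintype N]
    (F₁ F₂ : G → ℂ) (hF₁ : ∀ g, g ∉ N → F₁ g = 0) :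
    (fun n : N => h7_conv F₁ F₂ n) = h7_conv (fun n : N => F₁ n) (fun n : N => F₂ n) := by
  funext n
  rw [h7_conv_apply, h7_conv_apply]
  rw [h7_sum_subgroup_of_support N (fun h => F₁ h * F₂ (h⁻¹ * (n : G)))
    (fun g hg => by rw [hF₁ g hg, zero_mul])]
  rfl

theorem bq_conv_support {G : Type*} [Group G] [Fintype G] (N : Subgroup G)
    (F₁ F₂ : G → ℂ) (hF₁ : ∀ g, g ∉ N → F₁ g = 0) (hF₂ : ∀ g, g ∉ N → F₂ g = 0) (g : G)
    (hg : g ∉ N) : h7_conv F₁ F₂ g = 0 := by
  rw [h7_conv_apply]
  apply Finset.sum_eq_zero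
  intro h _
  by_cases hh : h ∈ N
  · rw [hF₂ (h⁻¹ * g) (fun hmem => hg (by
      have := Subgroup.mul_mem _ hh hmem
      rwa [mul_inv_cancel_left] at this)), mul_zero]
  · rw [hF₁ h hh, zero_mul]

/-- iterated convolution powers of a function -/
noncomputable def bq_convPow {G : Type*} [Group G] [Fintype G] (Y : G → ℂ) : ℕ → G → ℂ
  | 0 => Y
  | (k + 1) => h7_conv (bq_convPow Y k) Y

theorem bq_convPow_zero {G : Type*} [Group G] [Fintype G] (Y : G → ℂ) : bq_convPow Y 0 = Y := rfl

theorem bq_convPow_succ {G : Type*} [Group G] [Fintype G] (Y : G → ℂ) (k : ℕ) :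
    bq_convPow Y (k + 1) = h7_conv (bq_convPow Y k) Y := rfl

theorem bq_convPow_support {G : Type*} [Group G] [Fintype G] (N : Subgroup G) (Y : G → ℂ)
    (hY : ∀ g, g ∉ N → Y g = 0) (k : ℕ) : ∀ g, g ∉ N → bq_convPow Y k g = 0 := by
  induction k with
  | zero => exact hY
  | succ k ih =>
    intro g hg
    rw [bq_convPow_succ]
    exact bq_conv_support N _ _ ih hY g hg

theorem bq_convPow_conj {G : Type*} [Group G] [Fintype G] (Y : G → ℂ) (n : G)
    (hY : ∀ x, Y (n * x * n⁻¹) = Y x) (k : ℕ) :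
    ∀ x, bq_convPow Y k (n * x * n⁻¹) = bq_convPow Y k x := by
  induction k with
  | zero => exact hY
  | succ k ih =>
    intro x
    rw [bq_convPow_succ]
    exact bq_conv_conj _ _ n ih hY x

theorem bq_convPow_res {G : Type*} [Group G] [Fintype G] (N : Subgroup G) [Fintype N]
    (Y : G → ℂ) (hY : ∀ g, g ∉ N → Y g = 0) (k : ℕ) :
    (fun n : N => bq_convPow Y k n) = bq_convPow (fun n : N => Y n) k := by
  induction k with
  | zero => rfl
  | succ k ih =>
    rw [bq_convPow_succ, bq_convPow_succ, ← ih]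
    exact bq_res_conv N _ _ (bq_convPow_support N Y hY k)

/-- exact multiplicativity of the central character on powers -/
theorem bq_bm_omega_pow {H : Type*} [Group H] [Fintype H] (z : H → ℂ)
    (hz : ∀ g h : H, z (h * g * h⁻¹) = z g) (ξ : Cfsg.IrrCharacter H) (k : ℕ) :
    bm_omega (bq_convPow z k) (ξ : H → ℂ) = bm_omega z (ξ : H → ℂ) ^ (k + 1) := by
  induction k with
  | zero => rw [bq_convPow_zero, zero_add, pow_one]
  | succ k ih =>
    rw [bq_convPow_succ, bq_bm_omega_conv _ z
      (fun g h => bq_convPow_conj z h (fun x => hz x h) k g) hz, ih, ← pow_succ]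

/-- the convolution powers in Fourier coordinates -/
theorem bq_convPow_coef {K : Type*} [Group K] [Fintype K] [Fintype (Cfsg.IrrCharacter K)]
    (z : K → ℂ) (hz : ∀ g h : K, z (h * g * h⁻¹) = z g) (k : ℕ) :
    bq_convPow z k = h7_coef ((h7_fourier z) ^ (k + 1)) :=
  bq_conv_pow_coef z hz (bq_convPow z) rfl (fun _ => rfl) k

/-- the central character of a class function with values in the local ideal -/
theorem bq_bm_omega_ideal {H : Type*} [Group H] [Fintype H] {M : Ideal Cfsg.AlgInt}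
    (hM : M.IsPrime) (z : H → ℂ) (hz : ∀ g h : H, z (h * g * h⁻¹) = z g)
    (hzI : ∀ h, Cfsg.MemLocalIdeal M (z h)) (ξ : Cfsg.IrrCharacter H) :
    Cfsg.MemLocalIdeal M (bm_omega z (ξ : H → ℂ)) := by
  classical
  haveI : Fintype (ConjClasses H) := Fintype.ofFinite _
  rw [bm_omega_expand z hz ξ]
  apply h7_memLocalIdeal_sum hM
  intro L _
  exact h7_memLocalIdeal_mul_right hM (hzI _) (h7_memLocalRing_centralChar hM ξ _)

end

section

theorem bq_bm_omega_eq_fourier {H : Type*} [Group H] [Fintype H]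
    [Fintype (Cfsg.IrrCharacter H)] (w : H → ℂ) (ξ : Cfsg.IrrCharacter H) :
    bm_omega w (ξ : H → ℂ) = h7_fourier w ξ := by
  unfold bm_omega
  rw [h7_fourier_apply, Finset.sum_div]

open Classical in
/-- **comparison of central characters**: the central character of a covering block of `N` and
that of the covered block of `C_G(P)` agree on `N`-invariant elements -/
theorem bq_omega_cover {G : Type*} [Group G] [Fintype G] (p : ℕ) [hp : Fact p.Prime]
    (M : Ideal Cfsg.AlgInt) (hM : Cfsg.IsPModular p M) (P : Subgroup G)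
    (e : Set (Cfsg.IrrCharacter (Subgroup.centralizer (P : Set G)))) (he : Cfsg.IsPBlock M e)
    (N : Subgroup G) [Fintype N] (hCN : Subgroup.centralizer (P : Set G) ≤ N)
    (hNK : N ≤ Subgroup.normalizer
      ((Subgroup.centralizer (P : Set G) : Subgroup G) : Set G))
    (b : Set (Cfsg.IrrCharacter N))
    (hbc : ∀ n : N, Cfsg.blockCoeff b n =
        Cfsg.subgroupBlockCoeff (Subgroup.centralizer (P : Set G))
          (bq_orbitUnion (Subgroup.centralizer (P : Set G)) N hNK e) (n : G))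
    (a : G → ℂ) (haR : ∀ x, Cfsg.MemLocalRing M (a x))
    (haN : ∀ n ∈ N, ∀ x, a (n * x * n⁻¹) = a x)
    (ξ : Cfsg.IrrCharacter N) (hξ : ξ ∈ b)
    (θ : Cfsg.IrrCharacter (Subgroup.centralizer (P : Set G))) (hθ : θ ∈ e) :
    Cfsg.MemLocalIdeal M
      (bm_omega (fun n : N => if (n : G) ∈ Subgroup.centralizer (P : Set G) then a n else 0)
          (ξ : N → ℂ) -
        Cfsg.brauerOmega P a (θ : Subgroup.centralizer (P : Set G) → ℂ)) := by
  haveI : Fintype (Subgroup.centralizer (P : Set G)) := Fintype.ofFinite _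
  haveI : Fintype (Cfsg.IrrCharacter (Subgroup.centralizer (P : Set G))) := Fintype.ofFinite _
  haveI : Fintype (Cfsg.IrrCharacter N) := Fintype.ofFinite _
  have hPr := hM.2.1.isPrime
  set s := Cfsg.brauerOmega P a (θ : Subgroup.centralizer (P : Set G) → ℂ) with hs
  have hsR : Cfsg.MemLocalRing M s :=
    bq_omega_mem hPr P a (fun d hd x => haN d (hCN hd) x) haR θ
  have hUb := bq_orbitUnion_blocks hPr (Subgroup.centralizer (P : Set G)) N hNK e he
  have hUst := bq_orbitUnion_stable (Subgroup.centralizer (P : Set G)) N hNK e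
  -- the functions on G
  set A : G → ℂ := fun g => if g ∈ Subgroup.centralizer (P : Set G) then
    a g - s * bq_delta G g else 0 with hA
  set τ : G → ℂ := Cfsg.subgroupBlockCoeff (Subgroup.centralizer (P : Set G))
    (bq_orbitUnion (Subgroup.centralizer (P : Set G)) N hNK e) with hτ
  set Y : G → ℂ := h7_conv A τ with hY
  have hAsupp : ∀ g, g ∉ Subgroup.centralizer (P : Set G) → A g = 0 := by
    intro g hg
    simp only [hA]
    rw [if_neg hg]
  have hτsupp : ∀ g, g ∉ Subgroup.centralizer (P : Set G) → τ g = 0 :=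
    fun g hg => bq_sbc_not_mem _ _ g hg
  have hYsupp : ∀ g, g ∉ Subgroup.centralizer (P : Set G) → Y g = 0 :=
    bq_conv_support _ A τ hAsupp hτsupp
  have hsuppN : ∀ (F : G → ℂ), (∀ g, g ∉ Subgroup.centralizer (P : Set G) → F g = 0) →
      ∀ g, g ∉ N → F g = 0 := fun F hF g hg => hF g (fun h => hg (hCN h))
  have hdelta : ∀ n x : G, bq_delta G (n * x * n⁻¹) = bq_delta G x := by
    intro n x
    rw [bq_delta_apply, bq_delta_apply]
    have e2 : n * x * n⁻¹ = 1 ↔ x = 1 := by
      constructor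
      · intro hh
        have := congrArg (fun t => n⁻¹ * t * n) hh
        simpa [mul_assoc] using this
      · intro hh
        rw [hh]
        simp
    by_cases hx : x = 1
    · rw [if_pos hx, if_pos (e2.mpr hx)]
    · rw [if_neg hx, if_neg (fun h => hx (e2.mp h))]
  have hAN : ∀ n ∈ N, ∀ x, A (n * x * n⁻¹) = A x := by
    intro n hn x
    have hmem : n * x * n⁻¹ ∈ Subgroup.centralizer (P : Set G) ↔
        x ∈ Subgroup.centralizer (P : Set G) :=
      (Subgroup.mem_normalizer_iff.mp (hNK hn) x).symm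
    simp only [hA]
    by_cases hx : x ∈ Subgroup.centralizer (P : Set G)
    · rw [if_pos hx, if_pos (hmem.mpr hx), haN n hn, hdelta]
    · rw [if_neg hx, if_neg (fun h => hx (hmem.mp h))]
  have hτN : ∀ n ∈ N, ∀ x, τ (n * x * n⁻¹) = τ x := by
    intro n hn x
    have h1 := bq_sbc_conjSet (Subgroup.centralizer (P : Set G)) n⁻¹
      (hNK (Subgroup.inv_mem _ hn)) (bq_orbitUnion (Subgroup.centralizer (P : Set G)) N hNK e) x
    rw [hUst _ (Subgroup.inv_mem _ hn), inv_inv] at h1
    exact h1.symm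
  have hYN : ∀ n ∈ N, ∀ x, Y (n * x * n⁻¹) = Y x :=
    fun n hn x => bq_conv_conj A τ n (hAN n hn) (hτN n hn) x
  have hdR : ∀ g, Cfsg.MemLocalRing M (bq_delta G g) := by
    intro g
    rw [bq_delta_apply]
    split_ifs
    · exact h7_memLocalRing_one hPr
    · exact h7_memLocalRing_zero hPr
  have hAR : ∀ g, Cfsg.MemLocalRing M (A g) := by
    intro g
    simp only [hA]
    split_ifs
    · exact h7_memLocalRing_sub hPr (haR _) (h7_memLocalRing_mul hPr hsR (hdR _))
    · exact h7_memLocalRing_zero hPr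
  have hτR : ∀ g, Cfsg.MemLocalRing M (τ g) := bq_sbc_union_blocks hPr _ _ hUb
  have hYR : ∀ g, Cfsg.MemLocalRing M (Y g) := by
    intro g
    rw [hY, h7_conv_apply]
    exact h7_memLocalRing_sum hPr _ _ fun h _ => h7_memLocalRing_mul hPr (hAR _) (hτR _)
  -- on C
  set zA : Subgroup.centralizer (P : Set G) → ℂ := fun c => A c with hzA
  set zτ : Subgroup.centralizer (P : Set G) → ℂ := fun c => τ c with hzτ
  set zY : Subgroup.centralizer (P : Set G) → ℂ := fun c => Y c with hzY
  have hzYconv : zY = h7_conv zA zτ := bq_res_conv _ A τ hAsupp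
  have hzAcl : ∀ g h : Subgroup.centralizer (P : Set G), zA (h * g * h⁻¹) = zA g :=
    fun g h => hAN h (hCN h.2) g
  have hzτcl : ∀ g h : Subgroup.centralizer (P : Set G), zτ (h * g * h⁻¹) = zτ g :=
    fun g h => hτN h (hCN h.2) g
  have hzYcl : ∀ g h : Subgroup.centralizer (P : Set G), zY (h * g * h⁻¹) = zY g :=
    fun g h => hYN h (hCN h.2) g
  have hzτF : h7_fourier zτ = fun χ : Cfsg.IrrCharacter (Subgroup.centralizer (P : Set G)) =>
      if χ ∈ bq_orbitUnion (Subgroup.centralizer (P : Set G)) N hNK e then (1 : ℂ) else 0 := by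
    have : zτ = fun k : Subgroup.centralizer (P : Set G) =>
        Cfsg.blockCoeff (bq_orbitUnion (Subgroup.centralizer (P : Set G)) N hNK e) k := by
      funext c
      exact bq_sbc_mem _ _ (c : G) c.2
    rw [this, bq_fourier_blockCoeff]
  have hzAF : ∀ θ' : Cfsg.IrrCharacter (Subgroup.centralizer (P : Set G)),
      h7_fourier zA θ' =
        Cfsg.brauerOmega P a (θ' : Subgroup.centralizer (P : Set G) → ℂ) - s := by
    intro θ'
    rw [bq_omega_eq, h7_fourier_apply]
    unfold bm_omega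
    have e1 : ∀ c : Subgroup.centralizer (P : Set G),
        zA c * (θ' : Subgroup.centralizer (P : Set G) → ℂ) c =
        a c * (θ' : Subgroup.centralizer (P : Set G) → ℂ) c -
          s * (bq_delta G (c : G) * (θ' : Subgroup.centralizer (P : Set G) → ℂ) c) := by
      intro c
      simp only [hzA, hA]
      rw [if_pos c.2]
      ring
    rw [Finset.sum_congr rfl (fun c _ => e1 c), Finset.sum_sub_distrib, sub_div, Finset.sum_div,
      ← Finset.mul_sum]
    congr 1
    rw [Finset.sum_eq_single (1 : Subgroup.centralizer (P : Set G))]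
    · rw [bq_delta_apply, if_pos (by simp), one_mul, mul_div_assoc,
        div_self (irr_one_ne_zero θ'), mul_one]
    · intro k _ hk
      rw [bq_delta_apply, if_neg, zero_mul]
      intro h
      exact hk (Subtype.ext h)
    · intro h
      exact absurd (Finset.mem_univ _) h
  have hν : ∀ θ' : Cfsg.IrrCharacter (Subgroup.centralizer (P : Set G)),
      Cfsg.MemLocalIdeal M (h7_fourier zY θ') := by
    intro θ'
    rw [hzYconv, h7_fourier_conv zA zτ hzAcl hzτcl, Pi.mul_apply, hzτF, hzAF]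
    beta_reduce
    by_cases hθ' : θ' ∈ bq_orbitUnion (Subgroup.centralizer (P : Set G)) N hNK e
    · rw [if_pos hθ', mul_one]
      obtain ⟨n, hn, θ₁, hθ₁, rfl⟩ := hθ'
      have h1 := bq_omega_conj P n⁻¹ (hNK (Subgroup.inv_mem _ hn)) a θ₁
      have h2 : (fun c => a (n⁻¹⁻¹ * c * n⁻¹)) = a := by
        funext c
        have := haN n hn c
        rw [inv_inv]
        exact this
      rw [h2] at h1
      have h3 : bq_conjIrr (Subgroup.centralizer (P : Set G)) n⁻¹⁻¹
          (Subgroup.inv_mem _ (hNK (Subgroup.inv_mem _ hn))) θ₁ =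
          bq_conjIrr (Subgroup.centralizer (P : Set G)) n (hNK hn) θ₁ :=
        bq_conjIrr_congr _ _ _ _ _ (inv_inv n) θ₁
      rw [h3] at h1
      rw [← h1]
      obtain ⟨χ₀, rfl⟩ := he
      exact bq_omega_congr hPr P a (fun d hd x => haN d (hCN hd) x) haR θ₁ θ
        (h7_sameBlock_trans hPr (h7_sameBlock_symm hθ₁) hθ)
    · rw [if_neg hθ', mul_zero]
      exact h7_memLocalIdeal_zero hPr
  obtain ⟨m, hm⟩ := h7_radical_pow hM (h7_fourier zY) hν
  rw [← bq_convPow_coef zY hzYcl m, ← bq_convPow_res _ Y hYsupp m] at hm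
  have hYmI : ∀ g, Cfsg.MemLocalIdeal M (bq_convPow Y m g) := by
    intro g
    by_cases hg : g ∈ Subgroup.centralizer (P : Set G)
    · exact hm ⟨g, hg⟩
    · rw [bq_convPow_support _ Y hYsupp m g hg]
      exact h7_memLocalIdeal_zero hPr
  -- on N
  set ZA : N → ℂ := fun n => A n with hZA
  set Zτ : N → ℂ := fun n => τ n with hZτ
  set ZY : N → ℂ := fun n => Y n with hZY
  have hZYconv : ZY = h7_conv ZA Zτ := bq_res_conv N A τ (hsuppN A hAsupp)
  have hZAcl : ∀ g h : N, ZA (h * g * h⁻¹) = ZA g := fun g h => hAN h h.2 g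
  have hZτcl : ∀ g h : N, Zτ (h * g * h⁻¹) = Zτ g := fun g h => hτN h h.2 g
  have hZYcl : ∀ g h : N, ZY (h * g * h⁻¹) = ZY g := fun g h => hYN h h.2 g
  have h1 : bm_omega ZY (ξ : N → ℂ) = bm_omega ZA (ξ : N → ℂ) * bm_omega Zτ (ξ : N → ℂ) := by
    rw [hZYconv]
    exact bq_bm_omega_conv ZA Zτ hZAcl hZτcl ξ
  have h2 : bm_omega Zτ (ξ : N → ℂ) = 1 := by
    have : Zτ = fun n : N => Cfsg.blockCoeff b n := by
      funext n
      exact (hbc n).symm
    rw [bq_bm_omega_eq_fourier, this, bq_fourier_blockCoeff]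
    beta_reduce
    rw [if_pos hξ]
  rw [h2, mul_one] at h1
  have h3 : bm_omega (fun n : N => bq_convPow Y m n) (ξ : N → ℂ) =
      bm_omega ZY (ξ : N → ℂ) ^ (m + 1) := by
    rw [bq_convPow_res N Y (hsuppN Y hYsupp) m]
    exact bq_bm_omega_pow ZY hZYcl ξ m
  have h4 : Cfsg.MemLocalIdeal M (bm_omega (fun n : N => bq_convPow Y m n) (ξ : N → ℂ)) := by
    apply bq_bm_omega_ideal hPr
    · intro g h
      exact bq_convPow_conj Y (h : G) (fun x => hYN h h.2 x) m (g : G)
    · intro n
      exact hYmI _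
  rw [h3] at h4
  have h5 : Cfsg.MemLocalIdeal M (bm_omega ZY (ξ : N → ℂ)) :=
    h7_memLocalIdeal_of_pow hPr (bm_omega_mem hPr ZY hZYcl (fun n => hYR _) ξ) m h4
  rw [h1] at h5
  have h6 : bm_omega ZA (ξ : N → ℂ) =
      bm_omega (fun n : N => if (n : G) ∈ Subgroup.centralizer (P : Set G) then a n else 0)
        (ξ : N → ℂ) - s := by
    unfold bm_omega
    have e1 : ∀ n : N, ZA n * (ξ : N → ℂ) n / (ξ : N → ℂ) 1 =
        (if (n : G) ∈ Subgroup.centralizer (P : Set G) then a n else 0) * (ξ : N → ℂ) n /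
          (ξ : N → ℂ) 1 - s * (bq_delta G (n : G) * (ξ : N → ℂ) n / (ξ : N → ℂ) 1) := by
      intro n
      simp only [hZA, hA]
      by_cases hn : (n : G) ∈ Subgroup.centralizer (P : Set G)
      · rw [if_pos hn, if_pos hn]
        ring
      · rw [if_neg hn, if_neg hn]
        have : bq_delta G (n : G) = 0 := by
          rw [bq_delta_apply, if_neg]
          intro h
          apply hn
          rw [h]
          exact Subgroup.one_mem _
        rw [this]
        ring
    rw [Finset.sum_congr rfl (fun n _ => e1 n), Finset.sum_sub_distrib, ← Finset.mul_sum]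
    congr 1
    rw [Finset.sum_eq_single (1 : N)]
    · rw [bq_delta_apply, if_pos (by simp), one_mul, div_self (irr_one_ne_zero ξ), mul_one]
    · intro k _ hk
      rw [bq_delta_apply, if_neg, zero_mul, zero_div]
      intro h
      exact hk (Subtype.ext h)
    · intro h
      exact absurd (Finset.mem_univ _) h
  rw [h6] at h5
  exact h5

end

section

/-- **maximal Brauer pairs have defect groups as first components** -/
theorem bq_max_defect {G : Type*} [Group G] [Fintype G] (p : ℕ) [hp : Fact p.Prime]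
    (M : Ideal Cfsg.AlgInt) (hM : Cfsg.IsPModular p M) (B : Set (Cfsg.IrrCharacter G))
    (P : Subgroup G) (e : Set (Cfsg.IrrCharacter (Subgroup.centralizer (P : Set G))))
    (hmax : Cfsg.IsMaximalBrauerPair p M B P e) : Cfsg.IsDefectGroup p M B P := by
  classical
  haveI : Fintype (Cfsg.IrrCharacter G) := Fintype.ofFinite _
  haveI : Fintype (Subgroup.normalizer (P : Set G)) := Fintype.ofFinite _
  haveI : Fintype (Cfsg.IrrCharacter (Subgroup.normalizer (P : Set G))) := Fintype.ofFinite _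
  have hPr := hM.2.1.isPrime
  have hNK : Subgroup.normalizer (P : Set G) ≤ Subgroup.normalizer
      ((Subgroup.centralizer (P : Set G) : Subgroup G) : Set G) :=
    fun x hx => bm_normalizer_centralizer P x hx
  obtain ⟨b, hb, hdef, hbc⟩ := bq_max_defect_N p M hM B P e hmax hNK
  have hBe := hmax.1
  have hP : IsPGroup p P := hBe.1.1
  have he : Cfsg.IsPBlock M e := hBe.1.2
  obtain ⟨B', hB', hdefB', hind⟩ := (Cfsg.Agent.S0920.result p M hM P hP).1 b hb hdef
  have hCN : Subgroup.centralizer (P : Set G) ≤ Subgroup.normalizer (P : Set G) :=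
    Subgroup.centralizer_le_normalizer _
  have hbr := (Cfsg.Agent.S0918.result p M hM P (Subgroup.normalizer (P : Set G)) hP
    Subgroup.le_normalizer hCN le_rfl b hb B' hB').mp hind
  obtain ⟨ξ, hbξ⟩ := hb
  have hξ : ξ ∈ b := by rw [hbξ]; exact h7_sameBlock_refl hPr _
  obtain ⟨χ₀, hχ₀⟩ := h7_brauer_hom_block P (Subgroup.normalizer (P : Set G)) hM hP hCN le_rfl ξ
  obtain ⟨χ₁, hχ₁⟩ := hB'
  have hχ₁B : χ₁ ∈ B' := by rw [hχ₁]; exact h7_sameBlock_refl hPr _
  have hχ₀B : χ₀ ∈ B' := by
    rw [hχ₁]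
    intro g
    have h1 := hχ₀ _ (h7_centralChar_mem hPr g)
    rw [h7_brEval_centralChar] at h1
    have h2 := hbr ξ hξ χ₁ hχ₁B g
    have := h7_memLocalIdeal_sub hPr h1 h2
    rwa [sub_sub_sub_cancel_left] at this
  -- the indicator of B'
  have hB'eq : B' = Cfsg.blockOf M (χ₀ : G → ℂ) := by
    rw [hχ₁]
    exact h7_blockOf_eq_of_mem hPr χ₁ χ₀ (by rw [← hχ₁]; exact hχ₀B)
  have h3 := hχ₀ _ (h7_block_indicator_mem hPr χ₀)
  beta_reduce at h3
  have hmem0 : χ₀ ∈ Cfsg.blockOf M (χ₀ : G → ℂ) := h7_sameBlock_refl hPr _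
  rw [if_pos hmem0] at h3
  have h4 : h7_brEval P (Subgroup.normalizer (P : Set G)) (ξ : Subgroup.normalizer (P : Set G) → ℂ)
      (fun χ : Cfsg.IrrCharacter G =>
        if χ ∈ Cfsg.blockOf M (χ₀ : G → ℂ) then (1 : ℂ) else 0) =
      bm_omega (fun n : Subgroup.normalizer (P : Set G) =>
        if (n : G) ∈ Subgroup.centralizer (P : Set G) then Cfsg.blockCoeff B' n else 0)
        (ξ : Subgroup.normalizer (P : Set G) → ℂ) := by
    unfold h7_brEval h7_omega bm_omega h7_brFun
    refine Finset.sum_congr rfl fun x _ => ?_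
    rw [h7_coef_indicator, hB'eq]
  rw [h4] at h3
  have hpair : Cfsg.IsBrauerPairOf p M B' P e := by
    refine ⟨hBe.1, ⟨χ₁, hχ₁⟩, ?_⟩
    intro θ hθ
    have h5 := bq_omega_cover p M hM P e he (Subgroup.normalizer (P : Set G)) hCN hNK b hbc
      (Cfsg.blockCoeff B') (fun x => by rw [hB'eq]; exact h7_osima hPr χ₀ x)
      (fun n _ x => br_blockCoeff_conj B' x n) ξ hξ θ hθ
    have := h7_memLocalIdeal_sub hPr h3 h5
    rwa [sub_sub_sub_cancel_left] at this
  have hBB : B' = B := (br_unique_block p M hM P e hBe.1).unique hpair hBe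
  rw [← hBB]
  exact hdefB'

end

end Cfsg.Agent.Lib.Helper25
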