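import Mathlib
import Cfsg.Agent.Lib.Helper25.BrauerPairMaximal
import Cfsg.Agent.Lib.Helper24.QuotDefect2

/-!
Conjugation of Brauer pairs (S4660): bq_idx_ext (extensionality of pairs up to equality of subgroups), bq_conjIdx (+_mul,_one), bq_sbc_conjBlock, bq_conj_isBrauerPairOf, bq_conj_normalSubpair, bq_conj_subpairLE (equivariance), bq_exists_max_above, bq_max_induced (Brauer correspondent of a maximal pair), bq_max_of_defect, bq_max_same, bq_conjIdx_normalizer, bq_conj_into_max.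
-/

set_option autoImplicit false
set_option linter.style.haveILetI false
set_option linter.unusedVariables false
set_option warn.classDefReducibility false
set_option maxHeartbeats 1600000

namespace Cfsg.Agent.Lib.Helper25
open Cfsg.Agent.Lib.helper2
open Cfsg.Agent.Lib.helper7
open scoped ComplexConjugate
open Cfsg.Agent.Lib.Helper24
section

/-- extensionality for pairs -/
theorem bq_idx_ext {G : Type*} [Group G] (a b : Cfsg.BrauerPairIdx G) (h1 : a.1 = b.1)
    (h : ∀ (ξ : Cfsg.IrrCharacter (Subgroup.centralizer (a.1 : Set G)))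
      (ξ' : Cfsg.IrrCharacter (Subgroup.centralizer (b.1 : Set G))),
      (∀ (c : Subgroup.centralizer (a.1 : Set G)) (c' : Subgroup.centralizer (b.1 : Set G)),
        (c : G) = (c' : G) → (ξ : _ → ℂ) c = (ξ' : _ → ℂ) c') → (ξ ∈ a.2 ↔ ξ' ∈ b.2)) :
    a = b := by
  obtain ⟨Q, f⟩ := a
  obtain ⟨Q', f'⟩ := b
  simp only at h1
  subst h1
  have : f = f' := by
    ext ξ
    exact h ξ ξ (fun c c' hcc => by rw [Subtype.ext hcc])
  rw [this]

/-- conjugation of pairs -/
abbrev bq_conjIdx {G : Type*} [Group G] (x : G) (a : Cfsg.BrauerPairIdx G) :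
    Cfsg.BrauerPairIdx G :=
  ⟨a.1.map (MulAut.conj x).toMonoidHom, Cfsg.conjBlock a.1 x a.2⟩

theorem bq_conjIdx_mul {G : Type*} [Group G] (x y : G) (a : Cfsg.BrauerPairIdx G) :
    bq_conjIdx y (bq_conjIdx x a) = bq_conjIdx (y * x) a := by
  apply bq_idx_ext
  · show (a.1.map _).map _ = a.1.map _
    rw [Subgroup.map_map]
    congr 1
    ext g
    simp [mul_assoc]
  · intro ξ ξ' hval
    show ξ ∈ Cfsg.conjBlock (a.1.map (MulAut.conj x).toMonoidHom) y (Cfsg.conjBlock a.1 x a.2) ↔
      ξ' ∈ Cfsg.conjBlock a.1 (y * x) a.2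
    rw [bq_mem_conjBlock, bq_mem_conjBlock, bq_mem_conjBlock]
    have : bq_pull a.1 x (bq_pull (a.1.map (MulAut.conj x).toMonoidHom) y ξ) =
        bq_pull a.1 (y * x) ξ' := by
      apply Subtype.ext
      funext c
      rw [bq_pull_apply, bq_pull_apply, bq_pull_apply]
      apply hval
      rw [bq_centConj_apply, bq_centConj_apply, bq_centConj_apply]
      group
    rw [this]

theorem bq_conjIdx_one {G : Type*} [Group G] (a : Cfsg.BrauerPairIdx G) :
    bq_conjIdx 1 a = a := by
  apply bq_idx_ext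
  · show a.1.map _ = a.1
    ext g
    simp
  · intro ξ ξ' hval
    show ξ ∈ Cfsg.conjBlock a.1 1 a.2 ↔ ξ' ∈ a.2
    rw [bq_mem_conjBlock]
    have : bq_pull a.1 1 ξ = ξ' := by
      apply Subtype.ext
      funext c
      rw [bq_pull_apply]
      apply hval
      rw [bq_centConj_apply]
      group
    rw [this]

end

section

theorem bq_centConj_symm_apply {G : Type*} [Group G] (Q : Subgroup G) (x : G)
    (c' : Subgroup.centralizer ((Q.map (MulAut.conj x).toMonoidHom : Subgroup G) : Set G)) :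
    (((bq_centConj Q x).symm c' : _) : G) = x⁻¹ * (c' : G) * x := rfl

/-- membership in the centralizer of a conjugate -/
theorem bq_mem_centConj {G : Type*} [Group G] (Q : Subgroup G) (x y : G) :
    y ∈ Subgroup.centralizer ((Q.map (MulAut.conj x).toMonoidHom : Subgroup G) : Set G) ↔
      x⁻¹ * y * x ∈ Subgroup.centralizer (Q : Set G) := by
  constructor
  · intro hy
    exact ((bq_centConj Q x).symm ⟨y, hy⟩).2
  · intro hy
    have := (bq_centConj Q x ⟨_, hy⟩).2
    rw [bq_centConj_apply] at this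
    simpa [mul_assoc] using this

/-- a conjugate block as a transported set -/
theorem bq_conjBlock_eq_trSet {G : Type*} [Group G] (Q : Subgroup G) (x : G)
    (f : Set (Cfsg.IrrCharacter (Subgroup.centralizer (Q : Set G)))) :
    Cfsg.conjBlock Q x f = bq_trSet (bq_centConj Q x).symm f := by
  ext ξ
  rw [bq_mem_conjBlock]
  rfl

/-- the idempotent of a conjugate block -/
theorem bq_sbc_conjBlock {G : Type*} [Group G] [Fintype G] (Q : Subgroup G) (x : G)
    (f : Set (Cfsg.IrrCharacter (Subgroup.centralizer (Q : Set G)))) (y : G) :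
    Cfsg.subgroupBlockCoeff
        (Subgroup.centralizer ((Q.map (MulAut.conj x).toMonoidHom : Subgroup G) : Set G))
        (Cfsg.conjBlock Q x f) y =
      Cfsg.subgroupBlockCoeff (Subgroup.centralizer (Q : Set G)) f (x⁻¹ * y * x) := by
  classical
  haveI : Fintype (Subgroup.centralizer (Q : Set G)) := Fintype.ofFinite _
  haveI : Fintype (Subgroup.centralizer
    ((Q.map (MulAut.conj x).toMonoidHom : Subgroup G) : Set G)) := Fintype.ofFinite _
  by_cases hy : y ∈ Subgroup.centralizer ((Q.map (MulAut.conj x).toMonoidHom : Subgroup G) : Set G)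
  · have hy' := (bq_mem_centConj Q x y).mp hy
    rw [bq_sbc_mem _ _ y hy, bq_sbc_mem _ _ _ hy', bq_conjBlock_eq_trSet, bq_blockCoeff_trSet]
    rfl
  · have hy' : x⁻¹ * y * x ∉ Subgroup.centralizer (Q : Set G) :=
      fun h => hy ((bq_mem_centConj Q x y).mpr h)
    rw [bq_sbc_not_mem _ _ y hy, bq_sbc_not_mem _ _ _ hy']

/-- conjugates of Brauer pairs are Brauer pairs -/
theorem bq_conj_isBrauerPair {G : Type*} [Group G] (p : ℕ) (M : Ideal Cfsg.AlgInt)
    (Q : Subgroup G) (x : G)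
    (f : Set (Cfsg.IrrCharacter (Subgroup.centralizer (Q : Set G))))
    (h : Cfsg.IsBrauerPair p M Q f) :
    Cfsg.IsBrauerPair p M (Q.map (MulAut.conj x).toMonoidHom) (Cfsg.conjBlock Q x f) :=
  ⟨h.1.map _, bq_conjBlock_isBlock M Q x f h.2⟩

/-- conjugates of `B`-pairs are `B`-pairs -/
theorem bq_conj_isBrauerPairOf {G : Type*} [Group G] [Fintype G] (p : ℕ) (M : Ideal Cfsg.AlgInt)
    (B : Set (Cfsg.IrrCharacter G)) (Q : Subgroup G) (x : G)
    (f : Set (Cfsg.IrrCharacter (Subgroup.centralizer (Q : Set G))))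
    (h : Cfsg.IsBrauerPairOf p M B Q f) :
    Cfsg.IsBrauerPairOf p M B (Q.map (MulAut.conj x).toMonoidHom) (Cfsg.conjBlock Q x f) := by
  refine ⟨bq_conj_isBrauerPair p M Q x f h.1, h.2.1, ?_⟩
  intro ξ hξ
  have h1 : Cfsg.blockCoeff B = fun g => Cfsg.blockCoeff B (x⁻¹ * g * x) := by
    funext g
    have := br_blockCoeff_conj B g x⁻¹
    rw [inv_inv] at this
    exact this.symm
  rw [h1, bq_omega_conjG]
  exact h.2.2 _ ((bq_mem_conjBlock Q x f ξ).mp hξ)

end

section

/-- the push-forward of a character to the centralizer of a conjugate -/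
noncomputable def bq_push {G : Type*} [Group G] (Q : Subgroup G) (x : G)
    (ξ : Cfsg.IrrCharacter (Subgroup.centralizer (Q : Set G))) :
    Cfsg.IrrCharacter
      (Subgroup.centralizer ((Q.map (MulAut.conj x).toMonoidHom : Subgroup G) : Set G)) :=
  bq_trIrr (bq_centConj Q x).symm ξ

theorem bq_push_apply {G : Type*} [Group G] (Q : Subgroup G) (x : G)
    (ξ : Cfsg.IrrCharacter (Subgroup.centralizer (Q : Set G)))
    (c' : Subgroup.centralizer ((Q.map (MulAut.conj x).toMonoidHom : Subgroup G) : Set G)) :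
    (bq_push Q x ξ : _ → ℂ) c' = (ξ : _ → ℂ) ((bq_centConj Q x).symm c') := rfl

theorem bq_pull_push {G : Type*} [Group G] (Q : Subgroup G) (x : G)
    (ξ : Cfsg.IrrCharacter (Subgroup.centralizer (Q : Set G))) :
    bq_pull Q x (bq_push Q x ξ) = ξ := by
  apply Subtype.ext
  funext c
  rw [bq_pull_apply, bq_push_apply, MulEquiv.symm_apply_apply]

theorem bq_push_pull {G : Type*} [Group G] (Q : Subgroup G) (x : G)
    (ξ' : Cfsg.IrrCharacter
      (Subgroup.centralizer ((Q.map (MulAut.conj x).toMonoidHom : Subgroup G) : Set G))) :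
    bq_push Q x (bq_pull Q x ξ') = ξ' := by
  apply Subtype.ext
  funext c
  rw [bq_push_apply, bq_pull_apply, MulEquiv.apply_symm_apply]

theorem bq_push_mem {G : Type*} [Group G] (Q : Subgroup G) (x : G)
    (f : Set (Cfsg.IrrCharacter (Subgroup.centralizer (Q : Set G))))
    (ξ : Cfsg.IrrCharacter (Subgroup.centralizer (Q : Set G))) :
    bq_push Q x ξ ∈ Cfsg.conjBlock Q x f ↔ ξ ∈ f := by
  rw [bq_mem_conjBlock, bq_pull_push]

/-- conjugation of the normalizer of a centralizer -/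
theorem bq_conj_mem_normalizer_centralizer {G : Type*} [Group G] (Q : Subgroup G) (x r : G)
    (hr : r ∈ Subgroup.normalizer ((Subgroup.centralizer (Q : Set G) : Subgroup G) : Set G)) :
    x * r * x⁻¹ ∈ Subgroup.normalizer ((Subgroup.centralizer
      ((Q.map (MulAut.conj x).toMonoidHom : Subgroup G) : Set G) : Subgroup G) : Set G) := by
  rw [Subgroup.mem_normalizer_iff] at hr ⊢
  intro h
  rw [bq_mem_centConj, bq_mem_centConj, hr (x⁻¹ * h * x)]
  have : r * (x⁻¹ * h * x) * r⁻¹ = x⁻¹ * (x * r * x⁻¹ * h * (x * r * x⁻¹)⁻¹) * x := by group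
  rw [this]

/-- stabilizers of conjugate blocks -/
theorem bq_conj_stabilizes {G : Type*} [Group G] (Q : Subgroup G) (x r : G)
    (f : Set (Cfsg.IrrCharacter (Subgroup.centralizer (Q : Set G))))
    (h : Cfsg.StabilizesBlock (Subgroup.centralizer (Q : Set G)) f r) :
    Cfsg.StabilizesBlock
      (Subgroup.centralizer ((Q.map (MulAut.conj x).toMonoidHom : Subgroup G) : Set G))
      (Cfsg.conjBlock Q x f) (x * r * x⁻¹) := by
  obtain ⟨hr, hst⟩ := h
  refine ⟨bq_conj_mem_normalizer_centralizer Q x r hr, ?_⟩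
  intro χ' hχ'
  have hχ := (bq_mem_conjBlock Q x f χ').mp hχ'
  obtain ⟨ψ, hψ, hconj⟩ := hst _ hχ
  refine ⟨bq_push Q x ψ, (bq_push_mem Q x f ψ).mpr hψ, ?_⟩
  intro k k' hkk'
  rw [bq_push_apply]
  have h1 := hconj ((bq_centConj Q x).symm k) ((bq_centConj Q x).symm k') (by
    rw [bq_centConj_symm_apply, bq_centConj_symm_apply, hkk']
    group)
  rw [h1, bq_pull_apply, MulEquiv.apply_symm_apply]

/-- conjugates of normal subpairs are normal subpairs -/
theorem bq_conj_normalSubpair {G : Type*} [Group G] [Fintype G] (p : ℕ) (M : Ideal Cfsg.AlgInt)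
    (Q R : Subgroup G) (x : G)
    (f : Set (Cfsg.IrrCharacter (Subgroup.centralizer (Q : Set G))))
    (g : Set (Cfsg.IrrCharacter (Subgroup.centralizer (R : Set G))))
    (h : Cfsg.IsNormalSubpair p M Q f R g) :
    Cfsg.IsNormalSubpair p M (Q.map (MulAut.conj x).toMonoidHom) (Cfsg.conjBlock Q x f)
      (R.map (MulAut.conj x).toMonoidHom) (Cfsg.conjBlock R x g) := by
  obtain ⟨hQf, hRg, hQR, hRN, hst, hom⟩ := h
  refine ⟨bq_conj_isBrauerPair p M Q x f hQf, bq_conj_isBrauerPair p M R x g hRg,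
    Subgroup.map_mono hQR, ?_, ?_, ?_⟩
  · rintro _ ⟨r, hr, rfl⟩
    exact Subgroup.le_normalizer_map _ ⟨r, hRN hr, rfl⟩
  · rintro _ ⟨r, hr, rfl⟩
    simp only [MulEquiv.coe_toMonoidHom, MulAut.conj_apply]
    exact bq_conj_stabilizes Q x r f (hst r hr)
  · intro ξ hξ
    have h1 : Cfsg.subgroupBlockCoeff
        (Subgroup.centralizer ((Q.map (MulAut.conj x).toMonoidHom : Subgroup G) : Set G))
        (Cfsg.conjBlock Q x f) =
        fun y => Cfsg.subgroupBlockCoeff (Subgroup.centralizer (Q : Set G)) f (x⁻¹ * y * x) := by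
      funext y
      exact bq_sbc_conjBlock Q x f y
    rw [h1, bq_omega_conjG]
    exact hom _ ((bq_mem_conjBlock R x g ξ).mp hξ)

/-- conjugates of subpairs are subpairs -/
theorem bq_conj_subpairLE {G : Type*} [Group G] [Fintype G] (p : ℕ) (M : Ideal Cfsg.AlgInt)
    (x : G) (a b : Cfsg.BrauerPairIdx G)
    (h : Relation.ReflTransGen (Cfsg.NormalSubpairRel p M) a b) :
    Relation.ReflTransGen (Cfsg.NormalSubpairRel p M) (bq_conjIdx x a) (bq_conjIdx x b) := by
  induction h with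
  | refl => exact Relation.ReflTransGen.refl
  | @tail c d _ hcd ih =>
    exact Relation.ReflTransGen.tail ih (bq_conj_normalSubpair p M c.1 d.1 x c.2 d.2 hcd)

end

section

/-- every `B`-pair lies below a maximal `B`-pair -/
theorem bq_exists_max_above {G : Type*} [Group G] [Fintype G] (p : ℕ) (M : Ideal Cfsg.AlgInt)
    (B : Set (Cfsg.IrrCharacter G)) (Q : Subgroup G)
    (f : Set (Cfsg.IrrCharacter (Subgroup.centralizer (Q : Set G))))
    (hQf : Cfsg.IsBrauerPairOf p M B Q f) :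
    ∃ (R : Subgroup G) (g : Set (Cfsg.IrrCharacter (Subgroup.centralizer (R : Set G)))),
      Cfsg.IsMaximalBrauerPair p M B R g ∧ Cfsg.SubpairLE p M Q f R g := by
  classical
  let S : Set (Cfsg.BrauerPairIdx G) := {a | Cfsg.IsBrauerPairOf p M B a.1 a.2 ∧
    Relation.ReflTransGen (Cfsg.NormalSubpairRel p M) ⟨Q, f⟩ a}
  have hne : S.Nonempty := ⟨⟨Q, f⟩, hQf, Relation.ReflTransGen.refl⟩
  haveI : Finite (Cfsg.BrauerPairIdx G) := inferInstance
  obtain ⟨a, haS, hmax⟩ := Set.exists_max_image S (fun a => Nat.card a.1) (Set.toFinite S) hne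
  refine ⟨a.1, a.2, ⟨haS.1, ?_⟩, haS.2⟩
  intro R' g' hR'g' hle
  have hS' : (⟨R', g'⟩ : Cfsg.BrauerPairIdx G) ∈ S := ⟨hR'g', haS.2.trans hle⟩
  have hcard := hmax _ hS'
  have hsub : a.1 ≤ R' := bq_chain_le p M _ _ hle
  exact (Subgroup.eq_of_le_of_card_ge hsub hcard).symm

/-- the block of the normalizer attached to a maximal pair induces `B` -/
theorem bq_max_induced {G : Type*} [Group G] [Fintype G] (p : ℕ) [hp : Fact p.Prime]
    (M : Ideal Cfsg.AlgInt) (hM : Cfsg.IsPModular p M) (B : Set (Cfsg.IrrCharacter G))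
    (P : Subgroup G) (e : Set (Cfsg.IrrCharacter (Subgroup.centralizer (P : Set G))))
    (hmax : Cfsg.IsMaximalBrauerPair p M B P e)
    (hNK : Subgroup.normalizer (P : Set G) ≤ Subgroup.normalizer
      ((Subgroup.centralizer (P : Set G) : Subgroup G) : Set G)) :
    ∃ b : Set (Cfsg.IrrCharacter (Subgroup.normalizer (P : Set G))), Cfsg.IsPBlock M b ∧
      Cfsg.IsDefectGroup p M b (P.subgroupOf (Subgroup.normalizer (P : Set G))) ∧
      (∀ n : Subgroup.normalizer (P : Set G), Cfsg.blockCoeff b n =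
        Cfsg.subgroupBlockCoeff (Subgroup.centralizer (P : Set G))
          (bq_orbitUnion (Subgroup.centralizer (P : Set G))
            (Subgroup.normalizer (P : Set G)) hNK e) (n : G)) ∧
      Cfsg.IsInducedBlock M (Subgroup.normalizer (P : Set G)) b B := by
  classical
  haveI : Fintype (Cfsg.IrrCharacter G) := Fintype.ofFinite _
  haveI : Fintype (Subgroup.normalizer (P : Set G)) := Fintype.ofFinite _
  haveI : Fintype (Cfsg.IrrCharacter (Subgroup.normalizer (P : Set G))) := Fintype.ofFinite _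
  have hPr := hM.2.1.isPrime
  obtain ⟨b, hb, hdef, hbc⟩ := bq_max_defect_N p M hM B P e hmax hNK
  have hBe := hmax.1
  have hP : IsPGroup p P := hBe.1.1
  have he : Cfsg.IsPBlock M e := hBe.1.2
  obtain ⟨B', hB', hdefB', hind⟩ := (Cfsg.Agent.S0920.result p M hM P hP).1 b hb hdef
  have hCN : Subgroup.centralizer (P : Set G) ≤ Subgroup.normalizer (P : Set G) :=
    Subgroup.centralizer_le_normalizer _
  have hbr := (Cfsg.Agent.S0918.result p M hM P (Subgroup.normalizer (P : Set G)) hP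
    Subgroup.le_normalizer hCN le_rfl b hb B' hB').mp hind
  have hb0 := hb
  obtain ⟨ξ, hbξ⟩ := hb
  have hξ : ξ ∈ b := by rw [hbξ]; exact h7_sameBlock_refl hPr _
  obtain ⟨χ₀, hχ₀⟩ := h7_brauer_hom_block P (Subgroup.normalizer (P : Set G)) hM hP hCN le_rfl ξ
  obtain ⟨χ₁, hχ₁⟩ := hB'
  have hχ₁B : χ₁ ∈ B' := by rw [hχ₁]; exact h7_sameBlock_refl hPr _
  have hχ₀B : χ₀ ∈ B' := by
    rw [hχ₁]
    intro g
    have h1 := hχ₀ _ (h7_centralChar_mem hPr g)
    rw [h7_brEval_centralChar] at h1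
    have h2 := hbr ξ hξ χ₁ hχ₁B g
    have := h7_memLocalIdeal_sub hPr h1 h2
    rwa [sub_sub_sub_cancel_left] at this
  have hB'eq : B' = Cfsg.blockOf M (χ₀ : G → ℂ) := by
    rw [hχ₁]
    exact h7_blockOf_eq_of_mem hPr χ₁ χ₀ (by rw [← hχ₁]; exact hχ₀B)
  have h3 := hχ₀ _ (h7_block_indicator_mem hPr χ₀)
  beta_reduce at h3
  have hmem0 : χ₀ ∈ Cfsg.blockOf M (χ₀ : G → ℂ) := h7_sameBlock_refl hPr _
  rw [if_pos hmem0] at h3
  have h4 : h7_brEval P (Subgroup.normalizer (P : Set G)) (ξ : Subgroup.normalizer (P : Set G) → ℂ)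
      (fun χ : Cfsg.IrrCharacter G =>
        if χ ∈ Cfsg.blockOf M (χ₀ : G → ℂ) then (1 : ℂ) else 0) =
      bm_omega (fun n : Subgroup.normalizer (P : Set G) =>
        if (n : G) ∈ Subgroup.centralizer (P : Set G) then Cfsg.blockCoeff B' n else 0)
        (ξ : Subgroup.normalizer (P : Set G) → ℂ) := by
    unfold h7_brEval h7_omega bm_omega h7_brFun
    refine Finset.sum_congr rfl fun x _ => ?_
    rw [h7_coef_indicator, hB'eq]
  rw [h4] at h3
  have hpair : Cfsg.IsBrauerPairOf p M B' P e := by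
    refine ⟨hBe.1, ⟨χ₁, hχ₁⟩, ?_⟩
    intro θ hθ
    have h5 := bq_omega_cover p M hM P e he (Subgroup.normalizer (P : Set G)) hCN hNK b hbc
      (Cfsg.blockCoeff B') (fun x => by rw [hB'eq]; exact h7_osima hPr χ₀ x)
      (fun n _ x => br_blockCoeff_conj B' x n) ξ hξ θ hθ
    have := h7_memLocalIdeal_sub hPr h3 h5
    rwa [sub_sub_sub_cancel_left] at this
  have hBB : B' = B := (br_unique_block p M hM P e hBe.1).unique hpair hBe
  rw [← hBB]
  exact ⟨b, hb0, hdef, hbc, hind⟩

end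

section

/-- a pair of `B` on a defect group is maximal -/
theorem bq_max_of_defect {G : Type*} [Group G] [Fintype G] (p : ℕ) [hp : Fact p.Prime]
    (M : Ideal Cfsg.AlgInt) (hM : Cfsg.IsPModular p M) (B : Set (Cfsg.IrrCharacter G))
    (P : Subgroup G) (e' : Set (Cfsg.IrrCharacter (Subgroup.centralizer (P : Set G))))
    (hpair : Cfsg.IsBrauerPairOf p M B P e') (hdef : Cfsg.IsDefectGroup p M B P) :
    Cfsg.IsMaximalBrauerPair p M B P e' := by
  refine ⟨hpair, ?_⟩
  intro R' g' hR'g' hle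
  obtain ⟨R'', g'', hmax'', hle''⟩ := bq_exists_max_above p M B R' g' hR'g'
  have hdef'' := bq_max_defect p M hM B R'' g'' hmax''
  obtain ⟨x, hx⟩ := qh_defect_conj p M hM B hpair.2.1 P R'' hdef hdef''
  have hcard : Nat.card R'' = Nat.card P := by
    rw [hx]
    exact Subgroup.card_map_of_injective (MulAut.conj x).injective
  have h1 : P ≤ R' := bq_chain_le p M _ _ hle
  have h2 : R' ≤ R'' := bq_chain_le p M _ _ hle''
  have h3 : Nat.card R' ≤ Nat.card P := by
    rw [← hcard]
    exact Subgroup.card_le_of_le h2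
  exact (Subgroup.eq_of_le_of_card_ge h1 h3).symm

/-- two maximal pairs of `B` on the same subgroup are conjugate under its normalizer -/
theorem bq_max_same {G : Type*} [Group G] [Fintype G] (p : ℕ) [hp : Fact p.Prime]
    (M : Ideal Cfsg.AlgInt) (hM : Cfsg.IsPModular p M) (B : Set (Cfsg.IrrCharacter G))
    (P : Subgroup G) (e e' : Set (Cfsg.IrrCharacter (Subgroup.centralizer (P : Set G))))
    (h : Cfsg.IsMaximalBrauerPair p M B P e) (h' : Cfsg.IsMaximalBrauerPair p M B P e')
    (hNK : Subgroup.normalizer (P : Set G) ≤ Subgroup.normalizer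
      ((Subgroup.centralizer (P : Set G) : Subgroup G) : Set G)) :
    ∃ (n : G) (hn : n ∈ Subgroup.normalizer (P : Set G)),
      e = bq_conjSet (Subgroup.centralizer (P : Set G)) n (hNK hn) e' := by
  classical
  haveI : Fintype (Subgroup.centralizer (P : Set G)) := Fintype.ofFinite _
  haveI : Fintype (Cfsg.IrrCharacter (Subgroup.centralizer (P : Set G))) := Fintype.ofFinite _
  have hPr := hM.2.1.isPrime
  have hP : IsPGroup p P := h.1.1.1
  have hB : Cfsg.IsPBlock M B := h.1.2.1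
  have hCN : Subgroup.centralizer (P : Set G) ≤ Subgroup.normalizer (P : Set G) :=
    Subgroup.centralizer_le_normalizer _
  obtain ⟨b, hb, hdef, hbc, hind⟩ := bq_max_induced p M hM B P e h hNK
  obtain ⟨b', hb', hdef', hbc', hind'⟩ := bq_max_induced p M hM B P e' h' hNK
  have hdefB := bq_max_defect p M hM B P e h
  have huniq := (Cfsg.Agent.S0920.result p M hM P hP).2 B hB hdefB
  have hbb : b = b' := huniq.unique ⟨hb, hdef, hind⟩ ⟨hb', hdef', hind'⟩
  subst hbb
  have hOU : bq_orbitUnion (Subgroup.centralizer (P : Set G))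
      (Subgroup.normalizer (P : Set G)) hNK e =
      bq_orbitUnion (Subgroup.centralizer (P : Set G))
      (Subgroup.normalizer (P : Set G)) hNK e' := by
    apply bq_blockCoeff_inj
    intro c
    have e1 := hbc ⟨c, hCN c.2⟩
    have e2 := hbc' ⟨c, hCN c.2⟩
    rw [bq_sbc_mem _ _ _ c.2] at e1 e2
    rw [← e1, ← e2]
  obtain ⟨θ₀, hθ₀⟩ := h.1.1.2
  have hθ₀e : θ₀ ∈ e := by rw [hθ₀]; exact h7_sameBlock_refl hPr _
  have hmem := bq_subset_orbitUnion (Subgroup.centralizer (P : Set G))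
      (Subgroup.normalizer (P : Set G)) hNK e hθ₀e
  rw [hOU] at hmem
  obtain ⟨n, hn, hθn⟩ := hmem
  refine ⟨n, hn, ?_⟩
  obtain ⟨ψ, hψ⟩ := bq_conjSet_isBlock (Subgroup.centralizer (P : Set G)) n (hNK hn) M e' h'.1.1.2
  rw [hψ] at hθn ⊢
  rw [hθ₀]
  exact (h7_blockOf_eq_of_mem hPr ψ θ₀ hθn).symm

theorem bq_map_conj_normalizer {G : Type*} [Group G] (P : Subgroup G) (n : G)
    (hn : n ∈ Subgroup.normalizer (P : Set G)) :
    P.map (MulAut.conj n).toMonoidHom = P := by
  ext g
  constructor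
  · rintro ⟨q, hq, rfl⟩
    exact (Subgroup.mem_normalizer_iff.mp hn q).mp hq
  · intro hg
    refine ⟨n⁻¹ * g * n, ?_, by simp [mul_assoc]⟩
    rw [SetLike.mem_coe, Subgroup.mem_normalizer_iff.mp hn]
    simpa [mul_assoc] using hg

/-- conjugation of a pair by an element of the normalizer -/
theorem bq_conjIdx_normalizer {G : Type*} [Group G] (P : Subgroup G) (n : G)
    (hn : n ∈ Subgroup.normalizer (P : Set G))
    (hn' : n ∈ Subgroup.normalizer ((Subgroup.centralizer (P : Set G) : Subgroup G) : Set G))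
    (e' : Set (Cfsg.IrrCharacter (Subgroup.centralizer (P : Set G)))) :
    bq_conjIdx n ⟨P, e'⟩ =
      (⟨P, bq_conjSet (Subgroup.centralizer (P : Set G)) n hn' e'⟩ : Cfsg.BrauerPairIdx G) := by
  apply bq_idx_ext
  · exact bq_map_conj_normalizer P n hn
  · intro ξ ξ' hval
    show ξ ∈ Cfsg.conjBlock P n e' ↔ ξ' ∈ bq_conjSet (Subgroup.centralizer (P : Set G)) n hn' e'
    rw [bq_mem_conjBlock, bq_mem_conjSet]
    have : bq_pull P n ξ = bq_conjIrr (Subgroup.centralizer (P : Set G)) n⁻¹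
        (Subgroup.inv_mem _ hn') ξ' := by
      apply Subtype.ext
      funext c
      rw [bq_pull_apply, bq_conjIrr_apply]
      apply hval
      rw [bq_centConj_apply, bq_conjEquiv_symm_apply, inv_inv]
    rw [this]

/-- **conjugacy of Brauer pairs into a maximal pair** -/
theorem bq_conj_into_max {G : Type*} [Group G] [Fintype G] (p : ℕ) [hp : Fact p.Prime]
    (M : Ideal Cfsg.AlgInt) (hM : Cfsg.IsPModular p M) (B : Set (Cfsg.IrrCharacter G))
    (P Q : Subgroup G) (e : Set (Cfsg.IrrCharacter (Subgroup.centralizer (P : Set G))))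
    (f : Set (Cfsg.IrrCharacter (Subgroup.centralizer (Q : Set G))))
    (hmax : Cfsg.IsMaximalBrauerPair p M B P e) (hQf : Cfsg.IsBrauerPairOf p M B Q f) :
    ∃ x : G, Cfsg.SubpairLE p M (Q.map (MulAut.conj x).toMonoidHom) (Cfsg.conjBlock Q x f) P e := by
  have hB : Cfsg.IsPBlock M B := hQf.2.1
  obtain ⟨R, g, hmaxR, hle⟩ := bq_exists_max_above p M B Q f hQf
  have hdefR := bq_max_defect p M hM B R g hmaxR
  have hdefP := bq_max_defect p M hM B P e hmax
  obtain ⟨y, hy⟩ := qh_defect_conj p M hM B hB R P hdefR hdefP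
  have key : ∀ (P' : Subgroup G)
      (g' : Set (Cfsg.IrrCharacter (Subgroup.centralizer (P' : Set G)))), P' = P →
      Cfsg.IsBrauerPairOf p M B P' g' →
      ∃ z, bq_conjIdx z ⟨P', g'⟩ = (⟨P, e⟩ : Cfsg.BrauerPairIdx G) := by
    intro P' g' hP' hpair'
    subst hP'
    have hNK : Subgroup.normalizer (P' : Set G) ≤ Subgroup.normalizer
        ((Subgroup.centralizer (P' : Set G) : Subgroup G) : Set G) :=
      fun x hx => bm_normalizer_centralizer P' x hx
    have hmax' := bq_max_of_defect p M hM B P' g' hpair' hdefP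
    obtain ⟨n, hn, hen⟩ := bq_max_same p M hM B P' e g' hmax hmax' hNK
    refine ⟨n, ?_⟩
    rw [hen]
    exact bq_conjIdx_normalizer P' n hn (hNK hn) g'
  obtain ⟨z, hz⟩ := key (R.map (MulAut.conj y).toMonoidHom) (Cfsg.conjBlock R y g) hy.symm
    (bq_conj_isBrauerPairOf p M B R y g hmaxR.1)
  refine ⟨z * y, ?_⟩
  have h1 := bq_conj_subpairLE p M (z * y) ⟨Q, f⟩ ⟨R, g⟩ hle
  rw [← bq_conjIdx_mul y z ⟨R, g⟩, hz] at h1
  exact h1

end

end Cfsg.Agent.Lib.Helper25
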