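import Mathlib
import Cfsg.Agent.Lib.Helper25.BrauerPairConj
import Cfsg.Agent.Lib.helper7.BlockDefGrp

/-!
Centralizers in Brauer pairs (S4661): bq_defect_trSet (transport of defect groups along an isomorphism), bq_defect_card, bq_stabSubgroup, bq_relCent (C_K(S) = C_G(R)), bq_omega_relCent, bq_pair_of_normalSubpair / bq_normalSubpair_of_pair (Brauer pairs of f inside C_G(Q) vs normal subpairs over (Q,f)), bq_cent_sup, bq_le_normal, bq_cent_le_defect, bq_cent_defect_conj, bq_subpair_cent_defect.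
-/

set_option autoImplicit false
set_option linter.style.haveILetI false
set_option linter.unusedVariables false
set_option warn.classDefReducibility false
set_option maxHeartbeats 1600000

namespace Cfsg.Agent.Lib.Helper25
open Cfsg.Agent.Lib.Helper24
open Cfsg.Agent.Lib.helper2
open Cfsg.Agent.Lib.helper7
open scoped ComplexConjugate
section

/-- transport of defect groups along an isomorphism -/
theorem bq_defect_trSet {A B : Type*} [Group A] [Group B] [Finite A] [Finite B] (p : ℕ)
    [hp : Fact p.Prime] (M : Ideal Cfsg.AlgInt) (σ : A ≃* B) (b : Set (Cfsg.IrrCharacter B))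
    (D : Subgroup B) (h : Cfsg.IsDefectGroup p M b D) :
    Cfsg.IsDefectGroup p M (bq_trSet σ b) (D.comap σ.toMonoidHom) := by
  classical
  haveI : Fintype A := Fintype.ofFinite _
  haveI : Fintype B := Fintype.ofFinite _
  obtain ⟨g, hg, P, hD⟩ := h
  have hσg : σ (σ.symm g) = g := σ.apply_symm_apply g
  apply h7_isDefectGroup_of_card p M (bq_trSet σ b) (σ.symm g)
  · obtain ⟨h1, h2, h3⟩ := hg
    have hbc : Cfsg.blockCoeff (bq_trSet σ b) (σ.symm g) = Cfsg.blockCoeff b g := by
      rw [bq_blockCoeff_trSet, hσg]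
    refine ⟨by rw [hbc]; exact h1, by rw [hbc]; exact h2, ?_⟩
    intro θ' hθ'
    have h4 := h3 _ hθ'
    have h5 := bm_centralChar_comp_equiv σ.symm (θ' : A → ℂ) g
    rw [← h5]
    exact h4
  · intro x hx
    have hx' : σ x ∈ D := hx
    rw [hD] at hx'
    obtain ⟨c, _, hc⟩ := hx'
    have hcg : σ x ∈ Subgroup.centralizer ({g} : Set B) := by
      rw [← hc]
      exact c.2
    rw [Subgroup.mem_centralizer_iff] at hcg ⊢
    intro y hy
    rw [Set.mem_singleton_iff] at hy
    subst hy
    have := hcg g rfl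
    apply σ.injective
    rw [map_mul, map_mul, hσg]
    exact this
  · have h1 : Nat.card (D.comap σ.toMonoidHom) = Nat.card D := by
      refine Nat.card_congr ⟨fun x => ⟨σ x, x.2⟩, fun y => ⟨σ.symm y, ?_⟩, ?_, ?_⟩
      · show σ (σ.symm y) ∈ D
        rw [σ.apply_symm_apply]
        exact y.2
      · intro x
        apply Subtype.ext
        exact σ.symm_apply_apply x
      · intro y
        apply Subtype.ext
        exact σ.apply_symm_apply y
    have h2 : Nat.card D = Nat.card P := by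
      rw [hD]
      exact Subgroup.card_map_of_injective (Subgroup.subtype_injective _)
    have h3 : Nat.card (Subgroup.centralizer ({σ.symm g} : Set A)) =
        Nat.card (Subgroup.centralizer ({g} : Set B)) := by
      refine Nat.card_congr ⟨fun x => ⟨σ x, ?_⟩, fun y => ⟨σ.symm y, ?_⟩, ?_, ?_⟩
      · have hx := x.2
        rw [Subgroup.mem_centralizer_iff] at hx ⊢
        intro z hz
        rw [Set.mem_singleton_iff] at hz
        subst hz
        have := hx (σ.symm z) rfl
        have h' := congrArg σ this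
        rwa [map_mul, map_mul, σ.apply_symm_apply] at h'
      · have hy := y.2
        rw [Subgroup.mem_centralizer_iff] at hy ⊢
        intro z hz
        rw [Set.mem_singleton_iff] at hz
        subst hz
        have := hy g rfl
        have h' := congrArg σ.symm this
        rwa [map_mul, map_mul] at h'
      · intro x
        apply Subtype.ext
        exact σ.symm_apply_apply x
      · intro y
        apply Subtype.ext
        exact σ.apply_symm_apply y
    rw [h1, h2, h3]
    exact Sylow.card_eq_multiplicity P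

/-- defect groups of a block have the same order -/
theorem bq_defect_card {G : Type*} [Group G] [Finite G] (p : ℕ) [hp : Fact p.Prime]
    (M : Ideal Cfsg.AlgInt) (hM : Cfsg.IsPModular p M) (B : Set (Cfsg.IrrCharacter G))
    (hB : Cfsg.IsPBlock M B) (D₁ D₂ : Subgroup G) (h₁ : Cfsg.IsDefectGroup p M B D₁)
    (h₂ : Cfsg.IsDefectGroup p M B D₂) : Nat.card D₁ = Nat.card D₂ := by
  obtain ⟨x, hx⟩ := qh_defect_conj p M hM B hB D₁ D₂ h₁ h₂
  rw [hx]
  exact (Subgroup.card_map_of_injective (MulAut.conj x).injective).symm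

/-- the stabilizer of a set of characters of `K` in the normalizer of `K` -/
def bq_stabSubgroup {G : Type*} [Group G] (K : Subgroup G) (f : Set (Cfsg.IrrCharacter K)) :
    Subgroup G where
  carrier := {x | ∃ hx : x ∈ Subgroup.normalizer (K : Set G), bq_conjSet K x hx f = f}
  one_mem' := ⟨Subgroup.one_mem _, bq_conjSet_one K f⟩
  mul_mem' := by
    rintro x y ⟨hx, hxf⟩ ⟨hy, hyf⟩
    refine ⟨Subgroup.mul_mem _ hx hy, ?_⟩
    rw [bq_conjSet_mul K x y hx hy, hyf, hxf]
  inv_mem' := by
    rintro x ⟨hx, hxf⟩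
    refine ⟨Subgroup.inv_mem _ hx, ?_⟩
    have h1 := bq_conjSet_mul K x⁻¹ x (Subgroup.inv_mem _ hx) hx f
    rw [hxf] at h1
    rw [← h1, bq_conjSet_congr K (x⁻¹ * x) 1 _ (Subgroup.one_mem _) (by group), bq_conjSet_one]

theorem bq_mem_stabSubgroup {G : Type*} [Group G] [Finite G] {M : Ideal Cfsg.AlgInt}
    (hM : M.IsPrime) (K : Subgroup G) (f : Set (Cfsg.IrrCharacter K)) (hf : Cfsg.IsPBlock M f)
    (x : G) : x ∈ bq_stabSubgroup K f ↔ Cfsg.StabilizesBlock K f x := by
  constructor
  · rintro ⟨hx, hxf⟩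
    exact (bq_stabilizes_iff hM K f hf x hx).mpr hxf
  · intro h
    exact ⟨h.1, (bq_stabilizes_iff hM K f hf x h.1).mp h⟩

end

section

/-- identification of the centralizer of `S` in the subgroup `K` with the centralizer of `R`
in `G` -/
def bq_relCent {G : Type*} [Group G] (K : Subgroup G) (S : Subgroup K) (R : Subgroup G)
    (hR : ∀ g : G, g ∈ Subgroup.centralizer (R : Set G) ↔
      ∃ h : g ∈ K, (⟨g, h⟩ : K) ∈ Subgroup.centralizer (S : Set K)) :
    Subgroup.centralizer (S : Set K) ≃* Subgroup.centralizer (R : Set G) where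
  toFun x := ⟨((x : K) : G), (hR _).mpr ⟨(x : K).2, x.2⟩⟩
  invFun y := ⟨⟨(y : G), ((hR y).mp y.2).fst⟩, ((hR y).mp y.2).snd⟩
  left_inv x := rfl
  right_inv y := rfl
  map_mul' x y := rfl

theorem bq_relCent_coe {G : Type*} [Group G] (K : Subgroup G) (S : Subgroup K) (R : Subgroup G)
    (hR : ∀ g : G, g ∈ Subgroup.centralizer (R : Set G) ↔
      ∃ h : g ∈ K, (⟨g, h⟩ : K) ∈ Subgroup.centralizer (S : Set K))
    (x : Subgroup.centralizer (S : Set K)) :
    ((bq_relCent K S R hR x : _) : G) = ((x : K) : G) := rfl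

/-- the Brauer-map value inside `K` as a Brauer-map value in `G` -/
theorem bq_omega_relCent {G : Type*} [Group G] [Finite G] (K : Subgroup G) (S : Subgroup K)
    (R : Subgroup G)
    (hR : ∀ g : G, g ∈ Subgroup.centralizer (R : Set G) ↔
      ∃ h : g ∈ K, (⟨g, h⟩ : K) ∈ Subgroup.centralizer (S : Set K))
    (f : Set (Cfsg.IrrCharacter K))
    (ξ : Cfsg.IrrCharacter (Subgroup.centralizer (S : Set K))) :
    Cfsg.brauerOmega S (Cfsg.blockCoeff f) (ξ : _ → ℂ) =
      Cfsg.brauerOmega R (Cfsg.subgroupBlockCoeff K f)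
        (bq_trIrr (bq_relCent K S R hR).symm ξ : _ → ℂ) := by
  classical
  haveI : Fintype (Subgroup.centralizer (S : Set K)) := Fintype.ofFinite _
  haveI : Fintype (Subgroup.centralizer (R : Set G)) := Fintype.ofFinite _
  rw [bq_omega_eq, bq_omega_eq]
  unfold bm_omega
  refine Fintype.sum_equiv (bq_relCent K S R hR).toEquiv _ _ fun x => ?_
  rw [bq_trIrr_apply, bq_trIrr_apply, map_one]
  have h1 : (bq_relCent K S R hR).symm ((bq_relCent K S R hR).toEquiv x) = x :=
    (bq_relCent K S R hR).symm_apply_apply x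
  rw [h1]
  have h2 : Cfsg.subgroupBlockCoeff K f (((bq_relCent K S R hR).toEquiv x : _) : G) =
      Cfsg.blockCoeff f (x : K) := by
    have : (((bq_relCent K S R hR).toEquiv x : _) : G) = ((x : K) : G) := rfl
    rw [this, bq_sbc_mem K f _ (x : K).2]
  beta_reduce
  rw [h2]

/-- a normal subpair of `G` over `(Q, f)` as a Brauer pair of `f` inside `K = C_G(Q)` -/
theorem bq_pair_of_normalSubpair {G : Type*} [Group G] [Finite G] (p : ℕ)
    (M : Ideal Cfsg.AlgInt) (Q R : Subgroup G)
    (S : Subgroup (Subgroup.centralizer (Q : Set G)))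
    (hR : ∀ g : G, g ∈ Subgroup.centralizer (R : Set G) ↔
      ∃ h : g ∈ Subgroup.centralizer (Q : Set G),
        (⟨g, h⟩ : Subgroup.centralizer (Q : Set G)) ∈
          Subgroup.centralizer (S : Set (Subgroup.centralizer (Q : Set G))))
    (hS : IsPGroup p S)
    (f : Set (Cfsg.IrrCharacter (Subgroup.centralizer (Q : Set G))))
    (g : Set (Cfsg.IrrCharacter (Subgroup.centralizer (R : Set G))))
    (hn : Cfsg.IsNormalSubpair p M Q f R g) :
    Cfsg.IsBrauerPairOf p M f S
      (bq_trSet (bq_relCent (Subgroup.centralizer (Q : Set G)) S R hR) g) := by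
  obtain ⟨⟨_, hf⟩, ⟨_, hg⟩, _, _, _, hom⟩ := hn
  refine ⟨⟨hS, bq_trSet_isBlock M _ g hg⟩, hf, ?_⟩
  intro ξ hξ
  rw [bq_omega_relCent (Subgroup.centralizer (Q : Set G)) S R hR f ξ]
  exact hom _ hξ

/-- a Brauer pair of `f` inside `K = C_G(Q)` as a normal subpair of `G` over `(Q, f)` -/
theorem bq_normalSubpair_of_pair {G : Type*} [Group G] [Finite G] (p : ℕ)
    (M : Ideal Cfsg.AlgInt) (Q R : Subgroup G)
    (S : Subgroup (Subgroup.centralizer (Q : Set G)))
    (hR : ∀ g : G, g ∈ Subgroup.centralizer (R : Set G) ↔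
      ∃ h : g ∈ Subgroup.centralizer (Q : Set G),
        (⟨g, h⟩ : Subgroup.centralizer (Q : Set G)) ∈
          Subgroup.centralizer (S : Set (Subgroup.centralizer (Q : Set G))))
    (hQ : IsPGroup p Q) (hRp : IsPGroup p R) (hQR : Q ≤ R)
    (hRN : R ≤ Subgroup.normalizer (Q : Set G))
    (f : Set (Cfsg.IrrCharacter (Subgroup.centralizer (Q : Set G))))
    (hst : ∀ x ∈ R, Cfsg.StabilizesBlock (Subgroup.centralizer (Q : Set G)) f x)
    (h : Set (Cfsg.IrrCharacter
      (Subgroup.centralizer (S : Set (Subgroup.centralizer (Q : Set G))))))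
    (hp : Cfsg.IsBrauerPairOf p M f S h) :
    Cfsg.IsNormalSubpair p M Q f R
      (bq_trSet (bq_relCent (Subgroup.centralizer (Q : Set G)) S R hR).symm h) := by
  obtain ⟨⟨_, hh⟩, hf, hom⟩ := hp
  refine ⟨⟨hQ, hf⟩, ⟨hRp, bq_trSet_isBlock M _ h hh⟩, hQR, hRN, hst, ?_⟩
  intro ξ hξ
  have hξ' : bq_trIrr (bq_relCent (Subgroup.centralizer (Q : Set G)) S R hR).symm.symm ξ ∈ h := hξ
  have h1 := bq_omega_relCent (Subgroup.centralizer (Q : Set G)) S R hR f _ ▸ hom _ hξ'
  rw [bq_trIrr_symm'] at h1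
  exact h1

end

section

/-- the centralizer of `Q ⊔ S` for `S ≤ C_G(Q)` -/
theorem bq_cent_sup {G : Type*} [Group G] (Q : Subgroup G)
    (S : Subgroup (Subgroup.centralizer (Q : Set G))) (g : G) :
    g ∈ Subgroup.centralizer
        ((Q ⊔ S.map (Subgroup.centralizer (Q : Set G)).subtype : Subgroup G) : Set G) ↔
      ∃ h : g ∈ Subgroup.centralizer (Q : Set G),
        (⟨g, h⟩ : Subgroup.centralizer (Q : Set G)) ∈
          Subgroup.centralizer (S : Set (Subgroup.centralizer (Q : Set G))) := by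
  constructor
  · intro hg
    have h1 : g ∈ Subgroup.centralizer (Q : Set G) :=
      Subgroup.centralizer_le (show (Q : Set G) ⊆ _ from
        (le_sup_left : Q ≤ Q ⊔ S.map (Subgroup.centralizer (Q : Set G)).subtype)) hg
    refine ⟨h1, ?_⟩
    rw [Subgroup.mem_centralizer_iff]
    intro s hs
    apply Subtype.ext
    have hs' : ((s : Subgroup.centralizer (Q : Set G)) : G) ∈
        ((Q ⊔ S.map (Subgroup.centralizer (Q : Set G)).subtype : Subgroup G) : Set G) :=
      (le_sup_right : S.map (Subgroup.centralizer (Q : Set G)).subtype ≤ _) ⟨s, hs, rfl⟩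
    exact Subgroup.mem_centralizer_iff.mp hg _ hs'
  · rintro ⟨h1, h2⟩
    have hle : Q ⊔ S.map (Subgroup.centralizer (Q : Set G)).subtype ≤
        Subgroup.centralizer ({g} : Set G) := by
      refine sup_le ?_ ?_
      · intro q hq
        rw [Subgroup.mem_centralizer_iff]
        intro y hy
        rw [Set.mem_singleton_iff] at hy
        subst hy
        exact (Subgroup.mem_centralizer_iff.mp h1 q hq).symm
      · rintro _ ⟨s, hs, rfl⟩
        rw [Subgroup.mem_centralizer_iff]
        intro y hy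
        rw [Set.mem_singleton_iff] at hy
        subst hy
        have := Subgroup.mem_centralizer_iff.mp h2 s hs
        exact (congrArg Subtype.val this).symm
    rw [Subgroup.mem_centralizer_iff]
    intro r hr
    have := Subgroup.mem_centralizer_iff.mp (hle hr) g rfl
    exact this.symm

theorem bq_sup_le_normalizer {G : Type*} [Group G] (Q : Subgroup G)
    (S : Subgroup (Subgroup.centralizer (Q : Set G))) :
    Q ⊔ S.map (Subgroup.centralizer (Q : Set G)).subtype ≤ Subgroup.normalizer (Q : Set G) := by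
  refine sup_le Subgroup.le_normalizer ?_
  rintro _ ⟨s, _, rfl⟩
  exact Subgroup.centralizer_le_normalizer _ s.2

theorem bq_sup_isPGroup {G : Type*} [Group G] (p : ℕ) [hp : Fact p.Prime] (Q : Subgroup G)
    (S : Subgroup (Subgroup.centralizer (Q : Set G))) (hQ : IsPGroup p Q) (hS : IsPGroup p S) :
    IsPGroup p (Q ⊔ S.map (Subgroup.centralizer (Q : Set G)).subtype : Subgroup G) := by
  apply IsPGroup.to_sup_of_normal_left' hQ (hS.map _)
  rintro _ ⟨s, _, rfl⟩
  exact Subgroup.centralizer_le_normalizer _ s.2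

theorem bq_sup_stabilizes {G : Type*} [Group G] [Finite G] {M : Ideal Cfsg.AlgInt}
    (hM : M.IsPrime) (Q : Subgroup G)
    (S : Subgroup (Subgroup.centralizer (Q : Set G)))
    (f : Set (Cfsg.IrrCharacter (Subgroup.centralizer (Q : Set G)))) (hf : Cfsg.IsPBlock M f)
    (x : G) (hx : x ∈ Q ⊔ S.map (Subgroup.centralizer (Q : Set G)).subtype) :
    Cfsg.StabilizesBlock (Subgroup.centralizer (Q : Set G)) f x := by
  rw [← bq_mem_stabSubgroup hM _ f hf]
  have hle : Q ⊔ S.map (Subgroup.centralizer (Q : Set G)).subtype ≤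
      bq_stabSubgroup (Subgroup.centralizer (Q : Set G)) f := by
    refine sup_le ?_ ?_
    · intro q hq
      rw [bq_mem_stabSubgroup hM _ f hf]
      exact bq_self_stabilizes Q f q hq
    · rintro _ ⟨s, _, rfl⟩
      rw [bq_mem_stabSubgroup hM _ f hf]
      exact bq_inner_stabilizes _ f _ s.2
  exact hle hx

end

section

/-- a subpair `(Q, f) ≤ (R, g)` with `Q` normal in `R` is a normal subpair -/
theorem bq_le_normal {G : Type*} [Group G] [Fintype G] (p : ℕ) [hp : Fact p.Prime]
    (M : Ideal Cfsg.AlgInt) (hM : Cfsg.IsPModular p M) (Q R : Subgroup G)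
    (f : Set (Cfsg.IrrCharacter (Subgroup.centralizer (Q : Set G))))
    (g : Set (Cfsg.IrrCharacter (Subgroup.centralizer (R : Set G))))
    (hRg : Cfsg.IsBrauerPair p M R g) (hQR : Q ≤ R) (hRN : R ≤ Subgroup.normalizer (Q : Set G))
    (hle : Cfsg.SubpairLE p M Q f R g) : Cfsg.IsNormalSubpair p M Q f R g := by
  obtain ⟨f'', hf'', _⟩ := bq_normal_subpair p M hM R Q g hRg hQR hRN
  have hle'' : Cfsg.SubpairLE p M Q f'' R g := Relation.ReflTransGen.single hf''
  have : f'' = f := bq_subpair_unique p M hM R g hRg Q f'' f hle'' hle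
  rw [← this]
  exact hf''

/-- **the centralizer in `P` of `Q` lies in a defect group of `f`** for `(Q, f) ≤ (P, e)` -/
theorem bq_cent_le_defect {G : Type*} [Group G] [Fintype G] (p : ℕ) [hp : Fact p.Prime]
    (M : Ideal Cfsg.AlgInt) (hM : Cfsg.IsPModular p M) (P Q : Subgroup G)
    (e : Set (Cfsg.IrrCharacter (Subgroup.centralizer (P : Set G))))
    (f : Set (Cfsg.IrrCharacter (Subgroup.centralizer (Q : Set G))))
    (hPe : Cfsg.IsBrauerPair p M P e) (hQP : Q ≤ P)
    (hle : Cfsg.SubpairLE p M Q f P e) :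
    ∃ (D : Subgroup (Subgroup.centralizer (Q : Set G)))
      (h : Set (Cfsg.IrrCharacter (Subgroup.centralizer
        (D : Set (Subgroup.centralizer (Q : Set G)))))),
      Cfsg.IsMaximalBrauerPair p M f D h ∧ Cfsg.IsDefectGroup p M f D ∧
      (P ⊓ Subgroup.centralizer (Q : Set G)).subgroupOf (Subgroup.centralizer (Q : Set G)) ≤ D := by
  classical
  haveI : Fintype (Subgroup.centralizer (Q : Set G)) := Fintype.ofFinite _
  have hPr := hM.2.1.isPrime
  have hP : IsPGroup p P := hPe.1
  have hQ : IsPGroup p Q := hP.to_le hQP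
  set S : Subgroup (Subgroup.centralizer (Q : Set G)) :=
    (P ⊓ Subgroup.centralizer (Q : Set G)).subgroupOf (Subgroup.centralizer (Q : Set G)) with hS
  have hSP : S.map (Subgroup.centralizer (Q : Set G)).subtype ≤ P := by
    rintro _ ⟨s, hs, rfl⟩
    exact (Subgroup.mem_subgroupOf.mp hs).1
  have hRP : Q ⊔ S.map (Subgroup.centralizer (Q : Set G)).subtype ≤ P := sup_le hQP hSP
  have hSp : IsPGroup p S := by
    have : IsPGroup p (S.map (Subgroup.centralizer (Q : Set G)).subtype) := hP.to_le hSP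
    exact this.of_equiv
      (Subgroup.equivMapOfInjective S _ (Subgroup.subtype_injective _)).symm
  obtain ⟨g, hg, hleR⟩ := bq_subpair_exists p M hM P e hPe _ hRP
  have hRp := hP.to_le hRP
  obtain ⟨f', hf', hleQ⟩ := bq_subpair_exists p M hM _ g ⟨hRp, hg⟩ Q le_sup_left
  have hff : f' = f := bq_subpair_unique p M hM P e hPe Q f' f (hleQ.trans hleR) hle
  rw [hff] at hleQ
  have hn := bq_le_normal p M hM Q _ f g ⟨hRp, hg⟩ le_sup_left (bq_sup_le_normalizer Q S) hleQ
  have hpair := bq_pair_of_normalSubpair p M Q _ S (bq_cent_sup Q S) hSp f g hn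
  obtain ⟨D, h, hmaxD, hleD⟩ := bq_exists_max_above p M f S _ hpair
  refine ⟨D, h, hmaxD, bq_max_defect p M hM f D h hmaxD, ?_⟩
  exact bq_chain_le p M _ _ hleD

end

section

theorem bq_le_of_normal_of_le {G : Type*} [Group G] (p : ℕ) (M : Ideal Cfsg.AlgInt)
    (Q R P : Subgroup G)
    (f : Set (Cfsg.IrrCharacter (Subgroup.centralizer (Q : Set G))))
    (g : Set (Cfsg.IrrCharacter (Subgroup.centralizer (R : Set G))))
    (e : Set (Cfsg.IrrCharacter (Subgroup.centralizer (P : Set G))))
    (hn : Cfsg.IsNormalSubpair p M Q f R g) (hle : Cfsg.SubpairLE p M R g P e) :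
    Cfsg.SubpairLE p M Q f P e := by
  unfold Cfsg.SubpairLE at hle ⊢
  exact Relation.ReflTransGen.head (show Cfsg.NormalSubpairRel p M ⟨Q, f⟩ ⟨R, g⟩ from hn) hle

/-- **a conjugate of `(Q, f)` below `(P, e)` for which `C_P(Q)` is a defect group** -/
theorem bq_cent_defect_conj {G : Type*} [Group G] [Fintype G] (p : ℕ) [hp : Fact p.Prime]
    (M : Ideal Cfsg.AlgInt) (hM : Cfsg.IsPModular p M) (B : Set (Cfsg.IrrCharacter G))
    (P Q : Subgroup G)
    (e : Set (Cfsg.IrrCharacter (Subgroup.centralizer (P : Set G))))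
    (f : Set (Cfsg.IrrCharacter (Subgroup.centralizer (Q : Set G))))
    (hmax : Cfsg.IsMaximalBrauerPair p M B P e) (hQP : Q ≤ P) (hf : Cfsg.IsPBlock M f)
    (hle : Cfsg.SubpairLE p M Q f P e) :
    ∃ x : G, Cfsg.SubpairLE p M (Q.map (MulAut.conj x).toMonoidHom) (Cfsg.conjBlock Q x f) P e ∧
      Cfsg.IsDefectGroup p M (Cfsg.conjBlock Q x f)
        ((P ⊓ Subgroup.centralizer ((Q.map (MulAut.conj x).toMonoidHom) : Set G)).subgroupOf
          (Subgroup.centralizer ((Q.map (MulAut.conj x).toMonoidHom) : Set G))) := by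
  classical
  have hPr := hM.2.1.isPrime
  have hPe : Cfsg.IsBrauerPair p M P e := hmax.1.1
  have hQ : IsPGroup p Q := hPe.1.to_le hQP
  have hBQ : Cfsg.IsBrauerPairOf p M B Q f := (bq_pairOf_le p M hM P Q e f hle B).mp hmax.1
  obtain ⟨D, h, hmaxD, hdefD, hSD⟩ := bq_cent_le_defect p M hM P Q e f hPe hQP hle
  have hDp : IsPGroup p D := hmaxD.1.1.1
  have hn := bq_normalSubpair_of_pair p M Q _ D (bq_cent_sup Q D) hQ
    (bq_sup_isPGroup p Q D hQ hDp) le_sup_left (bq_sup_le_normalizer Q D) f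
    (fun x hx => bq_sup_stabilizes hPr Q D f hf x hx) h hmaxD.1
  have hBR' := bq_pairOf_step_up p M hM _ Q _ f hn B hBQ
  obtain ⟨x, hx⟩ := bq_conj_into_max p M hM B P _ e _ hmax hBR'
  have hnx := bq_conj_normalSubpair p M Q _ x f _ hn
  have hlex : Cfsg.SubpairLE p M (Q.map (MulAut.conj x).toMonoidHom) (Cfsg.conjBlock Q x f) P e :=
    bq_le_of_normal_of_le p M _ _ _ _ _ _ hnx hx
  refine ⟨x, hlex, ?_⟩
  have hD₁ := bq_defect_trSet p M (bq_centConj Q x).symm f D hdefD
  rw [← bq_conjBlock_eq_trSet] at hD₁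
  have hQxP : Q.map (MulAut.conj x).toMonoidHom ≤ P := bq_chain_le p M _ _ hlex
  have hR'xP : (Q ⊔ D.map (Subgroup.centralizer (Q : Set G)).subtype).map
      (MulAut.conj x).toMonoidHom ≤ P := bq_chain_le p M _ _ hx
  obtain ⟨D₂, _, _, hdefD₂, hS₂D₂⟩ := bq_cent_le_defect p M hM P _ e _ hPe hQxP hlex
  have hD₁S₂ : D.comap (bq_centConj Q x).symm.toMonoidHom ≤
      (P ⊓ Subgroup.centralizer ((Q.map (MulAut.conj x).toMonoidHom) : Set G)).subgroupOf
          (Subgroup.centralizer ((Q.map (MulAut.conj x).toMonoidHom) : Set G)) := by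
    intro c' hc'
    rw [Subgroup.mem_subgroupOf]
    refine ⟨?_, c'.2⟩
    have hd : (bq_centConj Q x).symm c' ∈ D := hc'
    apply hR'xP
    refine ⟨(((bq_centConj Q x).symm c' : _) : G), ?_, ?_⟩
    · exact (le_sup_right : D.map (Subgroup.centralizer (Q : Set G)).subtype ≤ _)
        ⟨_, hd, rfl⟩
    · rw [bq_centConj_symm_apply]
      simp only [MulEquiv.coe_toMonoidHom, MulAut.conj_apply]
      group
  have hcard := bq_defect_card p M hM _ (bq_conjBlock_isBlock M Q x f hf) _ _ hD₁ hdefD₂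
  have heq : (P ⊓ Subgroup.centralizer ((Q.map (MulAut.conj x).toMonoidHom) : Set G)).subgroupOf
          (Subgroup.centralizer ((Q.map (MulAut.conj x).toMonoidHom) : Set G)) = D₂ := by
    apply Subgroup.eq_of_le_of_card_ge hS₂D₂
    rw [← hcard]
    exact Subgroup.card_le_of_le hD₁S₂
  rw [heq]
  exact hdefD₂

/-- S4661 -/
theorem bq_subpair_cent_defect {G : Type*} [Group G] [Fintype G] (p : ℕ) [hp : Fact p.Prime]
    (M : Ideal Cfsg.AlgInt) (hM : Cfsg.IsPModular p M) (B : Set (Cfsg.IrrCharacter G))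
    (P Q : Subgroup G)
    (e : Set (Cfsg.IrrCharacter (Subgroup.centralizer (P : Set G))))
    (f : Set (Cfsg.IrrCharacter (Subgroup.centralizer (Q : Set G))))
    (hmax : Cfsg.IsMaximalBrauerPair p M B P e) (hQP : Q ≤ P) (hf : Cfsg.IsPBlock M f)
    (hle : Cfsg.SubpairLE p M Q f P e) :
    (∃ D : Subgroup (Subgroup.centralizer (Q : Set G)), Cfsg.IsDefectGroup p M f D ∧
      (P ⊓ Subgroup.centralizer (Q : Set G)).subgroupOf (Subgroup.centralizer (Q : Set G)) ≤ D) ∧
    ∃ x : G, Cfsg.SubpairLE p M (Q.map (MulAut.conj x).toMonoidHom) (Cfsg.conjBlock Q x f) P e ∧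
      Cfsg.IsDefectGroup p M (Cfsg.conjBlock Q x f)
        ((P ⊓ Subgroup.centralizer ((Q.map (MulAut.conj x).toMonoidHom) : Set G)).subgroupOf
          (Subgroup.centralizer ((Q.map (MulAut.conj x).toMonoidHom) : Set G))) := by
  refine ⟨?_, bq_cent_defect_conj p M hM B P Q e f hmax hQP hf hle⟩
  obtain ⟨D, _, _, hdefD, hSD⟩ := bq_cent_le_defect p M hM P Q e f hmax.1.1 hQP hle
  exact ⟨D, hdefD, hSD⟩

end

end Cfsg.Agent.Lib.Helper25
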