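import Mathlib
import Cfsg.Agent.Lib.Helper25.BrauerPairCent

/-!
Normalizers in Brauer pairs (S4662): bq_stab_basic, bq_stab_pair_exists (block F of the stabilizer T of (Q,f) with the idempotent of f), bq_sbc_stab, bq_normalizer_stab (N_P(Q) stabilizes f), bq_pairT_of_normalSubpair / bq_normalSubpair_of_pairT (Brauer pairs of F inside T vs normal subpairs over (Q,f)), bq_cent_in_stab, bq_norm_le_defect, bq_idx_stab, bq_stab_conj, bq_norm_defect_conj, bq_subpair_norm_defect.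
-/

set_option autoImplicit false
set_option linter.style.haveILetI false
set_option linter.unusedVariables false
set_option warn.classDefReducibility false
set_option maxHeartbeats 1600000

namespace Cfsg.Agent.Lib.Helper25
open Cfsg.Agent.Lib.Helper24
open Cfsg.Agent.Lib.helper2
open Cfsg.Agent.Lib.helper7
open scoped ComplexConjugate
section

/-- basic facts on the stabilizer `T` of `(Q, f)` -/
theorem bq_stab_basic {G : Type*} [Group G] [Finite G] (Q : Subgroup G)
    (f : Set (Cfsg.IrrCharacter (Subgroup.centralizer (Q : Set G))))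
    (T : Subgroup G) (hT : ∀ y : G, y ∈ T ↔ y ∈ Subgroup.normalizer (Q : Set G) ∧
      Cfsg.StabilizesBlock (Subgroup.centralizer (Q : Set G)) f y) :
    T ≤ Subgroup.normalizer (Q : Set G) ∧ Q ≤ T ∧ Subgroup.centralizer (Q : Set G) ≤ T ∧
      ∀ x ∈ T, Cfsg.StabilizesBlock (Subgroup.centralizer (Q : Set G)) f x := by
  refine ⟨fun y hy => ((hT y).mp hy).1, ?_, ?_, fun y hy => ((hT y).mp hy).2⟩
  · intro q hq
    exact (hT q).mpr ⟨Subgroup.le_normalizer hq, bq_self_stabilizes Q f q hq⟩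
  · intro c hc
    exact (hT c).mpr ⟨Subgroup.centralizer_le_normalizer _ hc, bq_inner_stabilizes _ f c hc⟩

/-- the block of the stabilizer with the idempotent of `f` -/
theorem bq_stab_pair_exists {G : Type*} [Group G] [Fintype G] (p : ℕ) [hp : Fact p.Prime]
    (M : Ideal Cfsg.AlgInt) (hM : Cfsg.IsPModular p M) (Q : Subgroup G) (hQ : IsPGroup p Q)
    (f : Set (Cfsg.IrrCharacter (Subgroup.centralizer (Q : Set G)))) (hf : Cfsg.IsPBlock M f)
    (T : Subgroup G) (hT : ∀ y : G, y ∈ T ↔ y ∈ Subgroup.normalizer (Q : Set G) ∧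
      Cfsg.StabilizesBlock (Subgroup.centralizer (Q : Set G)) f y) :
    ∃ F : Set (Cfsg.IrrCharacter T), Cfsg.IsPBlock M F ∧
      ∀ t : T, Cfsg.blockCoeff F t =
        Cfsg.subgroupBlockCoeff (Subgroup.centralizer (Q : Set G)) f (t : G) := by
  obtain ⟨h1, h2, h3, h4⟩ := bq_stab_basic Q f T hT
  exact bq_stab_block p M hM Q hQ f hf T h1 h2 h3 h4

/-- the idempotent of `F` as a function on `G` -/
theorem bq_sbc_stab {G : Type*} [Group G] (Q : Subgroup G)
    (f : Set (Cfsg.IrrCharacter (Subgroup.centralizer (Q : Set G))))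
    (T : Subgroup G) (hCT : Subgroup.centralizer (Q : Set G) ≤ T)
    (F : Set (Cfsg.IrrCharacter T))
    (hF : ∀ t : T, Cfsg.blockCoeff F t =
        Cfsg.subgroupBlockCoeff (Subgroup.centralizer (Q : Set G)) f (t : G)) :
    Cfsg.subgroupBlockCoeff T F = Cfsg.subgroupBlockCoeff (Subgroup.centralizer (Q : Set G)) f := by
  funext g
  by_cases hg : g ∈ T
  · rw [bq_sbc_mem T F g hg, hF]
  · rw [bq_sbc_not_mem T F g hg, bq_sbc_not_mem _ f g (fun h => hg (hCT h))]

/-- the normalizer of `Q` in `P` stabilizes `f` when `(Q, f) ≤ (P, e)` -/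
theorem bq_normalizer_stab {G : Type*} [Group G] [Fintype G] (p : ℕ) [hp : Fact p.Prime]
    (M : Ideal Cfsg.AlgInt) (hM : Cfsg.IsPModular p M) (P Q : Subgroup G)
    (e : Set (Cfsg.IrrCharacter (Subgroup.centralizer (P : Set G))))
    (f : Set (Cfsg.IrrCharacter (Subgroup.centralizer (Q : Set G))))
    (hPe : Cfsg.IsBrauerPair p M P e) (hQP : Q ≤ P)
    (hle : Cfsg.SubpairLE p M Q f P e) :
    ∃ g : Set (Cfsg.IrrCharacter (Subgroup.centralizer
        ((P ⊓ Subgroup.normalizer (Q : Set G) : Subgroup G) : Set G))),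
      Cfsg.SubpairLE p M (P ⊓ Subgroup.normalizer (Q : Set G)) g P e ∧
      Cfsg.IsNormalSubpair p M Q f (P ⊓ Subgroup.normalizer (Q : Set G)) g := by
  have hP : IsPGroup p P := hPe.1
  have hQR : Q ≤ P ⊓ Subgroup.normalizer (Q : Set G) := le_inf hQP Subgroup.le_normalizer
  obtain ⟨g, hg, hleR⟩ := bq_subpair_exists p M hM P e hPe _ (inf_le_left :
    P ⊓ Subgroup.normalizer (Q : Set G) ≤ P)
  have hRp : IsPGroup p (P ⊓ Subgroup.normalizer (Q : Set G) : Subgroup G) := hP.to_le inf_le_left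
  obtain ⟨f', hf', hleQ⟩ := bq_subpair_exists p M hM _ g ⟨hRp, hg⟩ Q hQR
  have hff : f' = f := bq_subpair_unique p M hM P e hPe Q f' f (hleQ.trans hleR) hle
  rw [hff] at hleQ
  exact ⟨g, hleR, bq_le_normal p M hM Q _ f g ⟨hRp, hg⟩ hQR inf_le_right hleQ⟩

end

section

/-- a normal subpair of `G` over `(Q, f)` as a Brauer pair of `F` inside the stabilizer `T` -/
theorem bq_pairT_of_normalSubpair {G : Type*} [Group G] [Finite G] (p : ℕ)
    (M : Ideal Cfsg.AlgInt) (Q R T : Subgroup G)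
    (hCT : Subgroup.centralizer (Q : Set G) ≤ T)
    (S : Subgroup T)
    (hR : ∀ g : G, g ∈ Subgroup.centralizer (R : Set G) ↔
      ∃ h : g ∈ T, (⟨g, h⟩ : T) ∈ Subgroup.centralizer (S : Set T))
    (hS : IsPGroup p S)
    (f : Set (Cfsg.IrrCharacter (Subgroup.centralizer (Q : Set G))))
    (F : Set (Cfsg.IrrCharacter T)) (hFb : Cfsg.IsPBlock M F)
    (hF : ∀ t : T, Cfsg.blockCoeff F t =
        Cfsg.subgroupBlockCoeff (Subgroup.centralizer (Q : Set G)) f (t : G))
    (g : Set (Cfsg.IrrCharacter (Subgroup.centralizer (R : Set G))))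
    (hn : Cfsg.IsNormalSubpair p M Q f R g) :
    Cfsg.IsBrauerPairOf p M F S (bq_trSet (bq_relCent T S R hR) g) := by
  obtain ⟨⟨_, hf⟩, ⟨_, hg⟩, _, _, _, hom⟩ := hn
  refine ⟨⟨hS, bq_trSet_isBlock M _ g hg⟩, hFb, ?_⟩
  intro ξ hξ
  rw [bq_omega_relCent T S R hR F ξ, bq_sbc_stab Q f T hCT F hF]
  exact hom _ hξ

/-- a Brauer pair of `F` inside the stabilizer `T` as a normal subpair of `G` over `(Q, f)` -/
theorem bq_normalSubpair_of_pairT {G : Type*} [Group G] [Finite G] (p : ℕ)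
    (M : Ideal Cfsg.AlgInt) (Q R T : Subgroup G)
    (hCT : Subgroup.centralizer (Q : Set G) ≤ T)
    (S : Subgroup T)
    (hR : ∀ g : G, g ∈ Subgroup.centralizer (R : Set G) ↔
      ∃ h : g ∈ T, (⟨g, h⟩ : T) ∈ Subgroup.centralizer (S : Set T))
    (hQ : IsPGroup p Q) (hRp : IsPGroup p R) (hQR : Q ≤ R)
    (hRN : R ≤ Subgroup.normalizer (Q : Set G))
    (f : Set (Cfsg.IrrCharacter (Subgroup.centralizer (Q : Set G)))) (hf : Cfsg.IsPBlock M f)
    (hst : ∀ x ∈ R, Cfsg.StabilizesBlock (Subgroup.centralizer (Q : Set G)) f x)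
    (F : Set (Cfsg.IrrCharacter T))
    (hF : ∀ t : T, Cfsg.blockCoeff F t =
        Cfsg.subgroupBlockCoeff (Subgroup.centralizer (Q : Set G)) f (t : G))
    (h : Set (Cfsg.IrrCharacter (Subgroup.centralizer (S : Set T))))
    (hp : Cfsg.IsBrauerPairOf p M F S h) :
    Cfsg.IsNormalSubpair p M Q f R (bq_trSet (bq_relCent T S R hR).symm h) := by
  obtain ⟨⟨_, hh⟩, _, hom⟩ := hp
  refine ⟨⟨hQ, hf⟩, ⟨hRp, bq_trSet_isBlock M _ h hh⟩, hQR, hRN, hst, ?_⟩
  intro ξ hξ
  have hξ' : bq_trIrr (bq_relCent T S R hR).symm.symm ξ ∈ h := hξ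
  have h1 := hom _ hξ'
  rw [bq_omega_relCent T S R hR F _, bq_sbc_stab Q f T hCT F hF, bq_trIrr_symm'] at h1
  exact h1

/-- the centralizer of a subgroup `R ≥ Q` of `T` computed inside `T` -/
theorem bq_cent_in_stab {G : Type*} [Group G] (Q R T : Subgroup G)
    (hCT : Subgroup.centralizer (Q : Set G) ≤ T) (hQR : Q ≤ R) (hRT : R ≤ T) (g : G) :
    g ∈ Subgroup.centralizer (R : Set G) ↔
      ∃ h : g ∈ T, (⟨g, h⟩ : T) ∈ Subgroup.centralizer ((R.subgroupOf T : Subgroup T) : Set T) := by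
  constructor
  · intro hg
    have h1 : g ∈ T := hCT (Subgroup.centralizer_le (show (Q : Set G) ⊆ R from hQR) hg)
    refine ⟨h1, ?_⟩
    rw [Subgroup.mem_centralizer_iff]
    intro s hs
    apply Subtype.ext
    exact Subgroup.mem_centralizer_iff.mp hg _ (Subgroup.mem_subgroupOf.mp hs)
  · rintro ⟨h1, h2⟩
    rw [Subgroup.mem_centralizer_iff]
    intro r hr
    have := Subgroup.mem_centralizer_iff.mp h2 ⟨r, hRT hr⟩ (Subgroup.mem_subgroupOf.mpr hr)
    exact congrArg Subtype.val this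

/-- **the normalizer in `P` of `Q` lies in a defect group of the stabilizer block** -/
theorem bq_norm_le_defect {G : Type*} [Group G] [Fintype G] (p : ℕ) [hp : Fact p.Prime]
    (M : Ideal Cfsg.AlgInt) (hM : Cfsg.IsPModular p M) (P Q : Subgroup G)
    (e : Set (Cfsg.IrrCharacter (Subgroup.centralizer (P : Set G))))
    (f : Set (Cfsg.IrrCharacter (Subgroup.centralizer (Q : Set G))))
    (hPe : Cfsg.IsBrauerPair p M P e) (hQP : Q ≤ P)
    (hle : Cfsg.SubpairLE p M Q f P e)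
    (T : Subgroup G) (hT : ∀ y : G, y ∈ T ↔ y ∈ Subgroup.normalizer (Q : Set G) ∧
      Cfsg.StabilizesBlock (Subgroup.centralizer (Q : Set G)) f y)
    (F : Set (Cfsg.IrrCharacter T)) (hFb : Cfsg.IsPBlock M F)
    (hF : ∀ t : T, Cfsg.blockCoeff F t =
        Cfsg.subgroupBlockCoeff (Subgroup.centralizer (Q : Set G)) f (t : G)) :
    ∃ (D : Subgroup T) (h : Set (Cfsg.IrrCharacter (Subgroup.centralizer (D : Set T)))),
      Cfsg.IsMaximalBrauerPair p M F D h ∧ Cfsg.IsDefectGroup p M F D ∧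
      (P ⊓ Subgroup.normalizer (Q : Set G)).subgroupOf T ≤ D := by
  classical
  haveI : Fintype T := Fintype.ofFinite _
  have hPr := hM.2.1.isPrime
  have hP : IsPGroup p P := hPe.1
  obtain ⟨hTN, hQT, hCT, hTst⟩ := bq_stab_basic Q f T hT
  obtain ⟨g, hleR, hn⟩ := bq_normalizer_stab p M hM P Q e f hPe hQP hle
  have hQR : Q ≤ P ⊓ Subgroup.normalizer (Q : Set G) := le_inf hQP Subgroup.le_normalizer
  have hRT : P ⊓ Subgroup.normalizer (Q : Set G) ≤ T := by
    intro r hr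
    exact (hT r).mpr ⟨hr.2, hn.2.2.2.2.1 r hr⟩
  have hRp : IsPGroup p (P ⊓ Subgroup.normalizer (Q : Set G) : Subgroup G) := hP.to_le inf_le_left
  have hSp : IsPGroup p ((P ⊓ Subgroup.normalizer (Q : Set G)).subgroupOf T) :=
    hRp.of_equiv (Subgroup.subgroupOfEquivOfLe hRT).symm
  have hpair := bq_pairT_of_normalSubpair p M Q _ T hCT _
    (bq_cent_in_stab Q _ T hCT hQR hRT) hSp f F hFb hF g hn
  obtain ⟨D, h, hmaxD, hleD⟩ := bq_exists_max_above p M F _ _ hpair
  exact ⟨D, h, hmaxD, bq_max_defect p M hM F D h hmaxD, bq_chain_le p M _ _ hleD⟩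

end

section

theorem bq_idx_stab {G : Type*} [Group G] (a b : Cfsg.BrauerPairIdx G) (h : a = b) (y : G)
    (hs : Cfsg.StabilizesBlock (Subgroup.centralizer (a.1 : Set G)) a.2 y) :
    Cfsg.StabilizesBlock (Subgroup.centralizer (b.1 : Set G)) b.2 y := by
  subst h
  exact hs

/-- the stabilizer of a conjugate pair is the conjugate of the stabilizer -/
theorem bq_stab_conj {G : Type*} [Group G] (Q : Subgroup G)
    (f : Set (Cfsg.IrrCharacter (Subgroup.centralizer (Q : Set G)))) (x : G)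
    (T : Subgroup G) (hT : ∀ y : G, y ∈ T ↔ y ∈ Subgroup.normalizer (Q : Set G) ∧
      Cfsg.StabilizesBlock (Subgroup.centralizer (Q : Set G)) f y) (y : G) :
    y ∈ T.map (MulAut.conj x).toMonoidHom ↔
      y ∈ Subgroup.normalizer ((Q.map (MulAut.conj x).toMonoidHom : Subgroup G) : Set G) ∧
      Cfsg.StabilizesBlock
        (Subgroup.centralizer ((Q.map (MulAut.conj x).toMonoidHom : Subgroup G) : Set G))
        (Cfsg.conjBlock Q x f) y := by
  constructor
  · rintro ⟨t, ht, rfl⟩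
    obtain ⟨h1, h2⟩ := (hT t).mp ht
    refine ⟨Subgroup.le_normalizer_map _ ⟨t, h1, rfl⟩, ?_⟩
    have := bq_conj_stabilizes Q x t f h2
    simpa only [MulEquiv.coe_toMonoidHom, MulAut.conj_apply] using this
  · rintro ⟨h1, h2⟩
    rw [← Subgroup.map_equiv_normalizer_eq Q (MulAut.conj x)] at h1
    obtain ⟨n, hn, rfl⟩ := h1
    refine ⟨n, (hT n).mpr ⟨hn, ?_⟩, rfl⟩
    have h3 := bq_conj_stabilizes _ x⁻¹ _ _ h2
    have hidx : bq_conjIdx x⁻¹ (bq_conjIdx x ⟨Q, f⟩) = (⟨Q, f⟩ : Cfsg.BrauerPairIdx G) := by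
      rw [bq_conjIdx_mul, inv_mul_cancel, bq_conjIdx_one]
    have h4 := bq_idx_stab _ _ hidx _ h3
    have h5 : x⁻¹ * ((MulAut.conj x).toMonoidHom n) * x⁻¹⁻¹ = n := by
      simp only [MulEquiv.coe_toMonoidHom, MulAut.conj_apply]
      group
    rw [h5] at h4
    exact h4

/-- the centralizer of the image of a subgroup `S ≥ Q` of `T` computed inside `T` -/
theorem bq_cent_in_stab' {G : Type*} [Group G] (Q T : Subgroup G)
    (hCT : Subgroup.centralizer (Q : Set G) ≤ T) (S : Subgroup T)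
    (hQS : Q ≤ S.map T.subtype) (g : G) :
    g ∈ Subgroup.centralizer ((S.map T.subtype : Subgroup G) : Set G) ↔
      ∃ h : g ∈ T, (⟨g, h⟩ : T) ∈ Subgroup.centralizer (S : Set T) := by
  constructor
  · intro hg
    have h1 : g ∈ T := hCT (Subgroup.centralizer_le (show (Q : Set G) ⊆ _ from hQS) hg)
    refine ⟨h1, ?_⟩
    rw [Subgroup.mem_centralizer_iff]
    intro s hs
    apply Subtype.ext
    exact Subgroup.mem_centralizer_iff.mp hg _ ⟨s, hs, rfl⟩
  · rintro ⟨h1, h2⟩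
    rw [Subgroup.mem_centralizer_iff]
    rintro _ ⟨s, hs, rfl⟩
    have := Subgroup.mem_centralizer_iff.mp h2 s hs
    exact congrArg Subtype.val this

end

section

/-- **a conjugate of `(Q, f)` below `(P, e)` for which `N_P(Q)` is a defect group of the
stabilizer block** -/
theorem bq_norm_defect_conj {G : Type*} [Group G] [Fintype G] (p : ℕ) [hp : Fact p.Prime]
    (M : Ideal Cfsg.AlgInt) (hM : Cfsg.IsPModular p M) (B : Set (Cfsg.IrrCharacter G))
    (P Q : Subgroup G)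
    (e : Set (Cfsg.IrrCharacter (Subgroup.centralizer (P : Set G))))
    (f : Set (Cfsg.IrrCharacter (Subgroup.centralizer (Q : Set G))))
    (hmax : Cfsg.IsMaximalBrauerPair p M B P e) (hQP : Q ≤ P) (hf : Cfsg.IsPBlock M f)
    (hle : Cfsg.SubpairLE p M Q f P e)
    (T : Subgroup G) (hT : ∀ y : G, y ∈ T ↔ y ∈ Subgroup.normalizer (Q : Set G) ∧
      Cfsg.StabilizesBlock (Subgroup.centralizer (Q : Set G)) f y) :
    ∃ x : G, Cfsg.SubpairLE p M (Q.map (MulAut.conj x).toMonoidHom) (Cfsg.conjBlock Q x f) P e ∧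
      ∀ (T' : Subgroup G), (∀ y : G, y ∈ T' ↔
        y ∈ Subgroup.normalizer ((Q.map (MulAut.conj x).toMonoidHom) : Set G) ∧
        Cfsg.StabilizesBlock (Subgroup.centralizer ((Q.map (MulAut.conj x).toMonoidHom) : Set G))
          (Cfsg.conjBlock Q x f) y) →
      ∃ F' : Set (Cfsg.IrrCharacter T'), Cfsg.IsPBlock M F' ∧
        (∀ t : T', Cfsg.blockCoeff F' t = Cfsg.subgroupBlockCoeff
          (Subgroup.centralizer ((Q.map (MulAut.conj x).toMonoidHom) : Set G))
          (Cfsg.conjBlock Q x f) (t : G)) ∧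
        Cfsg.IsDefectGroup p M F'
          ((P ⊓ Subgroup.normalizer ((Q.map (MulAut.conj x).toMonoidHom) : Set G)).subgroupOf
            T') := by
  classical
  have hPr := hM.2.1.isPrime
  have hPe : Cfsg.IsBrauerPair p M P e := hmax.1.1
  have hQ : IsPGroup p Q := hPe.1.to_le hQP
  have hBQ : Cfsg.IsBrauerPairOf p M B Q f := (bq_pairOf_le p M hM P Q e f hle B).mp hmax.1
  obtain ⟨hTN, hQT, hCT, hTst⟩ := bq_stab_basic Q f T hT
  obtain ⟨F, hFb, hF⟩ := bq_stab_pair_exists p M hM Q hQ f hf T hT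
  obtain ⟨D, h, hmaxD, hdefD, hSD⟩ := bq_norm_le_defect p M hM P Q e f hPe hQP hle T hT F hFb hF
  have hDp : IsPGroup p D := hmaxD.1.1.1
  have hQD' : Q ≤ D.map T.subtype := by
    intro q hq
    refine ⟨⟨q, hQT hq⟩, hSD ?_, rfl⟩
    rw [Subgroup.mem_subgroupOf]
    exact ⟨hQP hq, Subgroup.le_normalizer hq⟩
  have hD'T : D.map T.subtype ≤ T := by
    rintro _ ⟨d, _, rfl⟩
    exact d.2
  have hn := bq_normalSubpair_of_pairT p M Q (D.map T.subtype) T hCT D
    (bq_cent_in_stab' Q T hCT D hQD') hQ (hDp.map _) hQD' (hD'T.trans hTN) f hf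
    (fun x hx => hTst x (hD'T hx)) F hF h hmaxD.1
  have hBD' := bq_pairOf_step_up p M hM _ Q _ f hn B hBQ
  obtain ⟨x, hx⟩ := bq_conj_into_max p M hM B P _ e _ hmax hBD'
  have hnx := bq_conj_normalSubpair p M Q _ x f _ hn
  have hlex : Cfsg.SubpairLE p M (Q.map (MulAut.conj x).toMonoidHom) (Cfsg.conjBlock Q x f) P e :=
    bq_le_of_normal_of_le p M _ _ _ _ _ _ hnx hx
  refine ⟨x, hlex, ?_⟩
  intro T' hT'
  have hT'eq : T' = T.map (MulAut.conj x).toMonoidHom := by
    ext y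
    rw [hT' y, bq_stab_conj Q f x T hT y]
  subst hT'eq
  haveI : Fintype T := Fintype.ofFinite _
  haveI : Fintype (T.map (MulAut.conj x).toMonoidHom) := Fintype.ofFinite _
  set σ : T.map (MulAut.conj x).toMonoidHom ≃* T :=
    (Subgroup.equivMapOfInjective T (MulAut.conj x).toMonoidHom (MulAut.conj x).injective).symm
    with hσdef
  have hσ : ∀ t' : T.map (MulAut.conj x).toMonoidHom,
      ((σ t' : T) : G) = x⁻¹ * (t' : G) * x := by
    intro t'
    have h1 : (t' : G) = (MulAut.conj x).toMonoidHom ((σ t' : T) : G) := by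
      have := Subgroup.coe_equivMapOfInjective_apply T (MulAut.conj x).toMonoidHom
        (MulAut.conj x).injective (σ t')
      rw [← this, hσdef, MulEquiv.apply_symm_apply]
    rw [h1]
    simp only [MulEquiv.coe_toMonoidHom, MulAut.conj_apply]
    group
  have hF'c : ∀ t : T.map (MulAut.conj x).toMonoidHom,
      Cfsg.blockCoeff (bq_trSet σ F) t = Cfsg.subgroupBlockCoeff
        (Subgroup.centralizer ((Q.map (MulAut.conj x).toMonoidHom) : Set G))
        (Cfsg.conjBlock Q x f) (t : G) := by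
    intro t'
    rw [bq_blockCoeff_trSet, hF, hσ, bq_sbc_conjBlock]
  refine ⟨bq_trSet σ F, bq_trSet_isBlock M σ F hFb, hF'c, ?_⟩
  have hD₁ := bq_defect_trSet p M σ F D hdefD
  have hQxP : Q.map (MulAut.conj x).toMonoidHom ≤ P := bq_chain_le p M _ _ hlex
  have hD'xP : (D.map T.subtype).map (MulAut.conj x).toMonoidHom ≤ P := bq_chain_le p M _ _ hx
  obtain ⟨D₂, _, _, hdefD₂, hS₂D₂⟩ := bq_norm_le_defect p M hM P _ e _ hPe hQxP hlex
    (T.map (MulAut.conj x).toMonoidHom) hT' (bq_trSet σ F) (bq_trSet_isBlock M σ F hFb) hF'c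
  have hD₁S₂ : D.comap σ.toMonoidHom ≤
      (P ⊓ Subgroup.normalizer ((Q.map (MulAut.conj x).toMonoidHom) : Set G)).subgroupOf
        (T.map (MulAut.conj x).toMonoidHom) := by
    intro t' ht'
    rw [Subgroup.mem_subgroupOf]
    refine ⟨?_, ((hT' _).mp t'.2).1⟩
    apply hD'xP
    refine ⟨((σ t' : T) : G), ⟨σ t', ht', rfl⟩, ?_⟩
    rw [hσ]
    simp only [MulEquiv.coe_toMonoidHom, MulAut.conj_apply]
    group
  have hcard := bq_defect_card p M hM _ (bq_trSet_isBlock M σ F hFb) _ _ hD₁ hdefD₂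
  have heq : (P ⊓ Subgroup.normalizer ((Q.map (MulAut.conj x).toMonoidHom) : Set G)).subgroupOf
        (T.map (MulAut.conj x).toMonoidHom) = D₂ := by
    apply Subgroup.eq_of_le_of_card_ge hS₂D₂
    rw [← hcard]
    exact Subgroup.card_le_of_le hD₁S₂
  rw [heq]
  exact hdefD₂

/-- S4662 -/
theorem bq_subpair_norm_defect {G : Type*} [Group G] [Fintype G] (p : ℕ) [hp : Fact p.Prime]
    (M : Ideal Cfsg.AlgInt) (hM : Cfsg.IsPModular p M) (B : Set (Cfsg.IrrCharacter G))
    (P Q : Subgroup G)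
    (e : Set (Cfsg.IrrCharacter (Subgroup.centralizer (P : Set G))))
    (f : Set (Cfsg.IrrCharacter (Subgroup.centralizer (Q : Set G))))
    (hmax : Cfsg.IsMaximalBrauerPair p M B P e) (hQP : Q ≤ P) (hf : Cfsg.IsPBlock M f)
    (hle : Cfsg.SubpairLE p M Q f P e)
    (T : Subgroup G) (hT : ∀ y : G, y ∈ T ↔ y ∈ Subgroup.normalizer (Q : Set G) ∧
      Cfsg.StabilizesBlock (Subgroup.centralizer (Q : Set G)) f y) :
    (∃ F : Set (Cfsg.IrrCharacter T), Cfsg.IsPBlock M F ∧
      (∀ t : T, Cfsg.blockCoeff F t =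
        Cfsg.subgroupBlockCoeff (Subgroup.centralizer (Q : Set G)) f (t : G)) ∧
      ∃ D : Subgroup T, Cfsg.IsDefectGroup p M F D ∧
        (P ⊓ Subgroup.normalizer (Q : Set G)).subgroupOf T ≤ D) ∧
    ∃ x : G, Cfsg.SubpairLE p M (Q.map (MulAut.conj x).toMonoidHom) (Cfsg.conjBlock Q x f) P e ∧
      ∀ (T' : Subgroup G), (∀ y : G, y ∈ T' ↔
        y ∈ Subgroup.normalizer ((Q.map (MulAut.conj x).toMonoidHom) : Set G) ∧
        Cfsg.StabilizesBlock (Subgroup.centralizer ((Q.map (MulAut.conj x).toMonoidHom) : Set G))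
          (Cfsg.conjBlock Q x f) y) →
      ∃ F' : Set (Cfsg.IrrCharacter T'), Cfsg.IsPBlock M F' ∧
        (∀ t : T', Cfsg.blockCoeff F' t = Cfsg.subgroupBlockCoeff
          (Subgroup.centralizer ((Q.map (MulAut.conj x).toMonoidHom) : Set G))
          (Cfsg.conjBlock Q x f) (t : G)) ∧
        Cfsg.IsDefectGroup p M F'
          ((P ⊓ Subgroup.normalizer ((Q.map (MulAut.conj x).toMonoidHom) : Set G)).subgroupOf
            T') := by
  refine ⟨?_, bq_norm_defect_conj p M hM B P Q e f hmax hQP hf hle T hT⟩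
  have hPe : Cfsg.IsBrauerPair p M P e := hmax.1.1
  have hQ : IsPGroup p Q := hPe.1.to_le hQP
  obtain ⟨F, hFb, hF⟩ := bq_stab_pair_exists p M hM Q hQ f hf T hT
  obtain ⟨D, _, _, hdefD, hSD⟩ := bq_norm_le_defect p M hM P Q e f hPe hQP hle T hT F hFb hF
  exact ⟨F, hFb, hF, D, hdefD, hSD⟩

end

end Cfsg.Agent.Lib.Helper25
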