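import Mathlib
import Cfsg.Agent.Lib.Helper25.BrauerPairNorm
import Cfsg.Prelude.Def_BlockFusion

/-!
Fusion system of a block, fully centralized subgroups (S4678): bq_fusion_conj_iff (F-conjugates of Q are the Q^g with (Q^g,f^g) <= (P,e)), bq_card_centralizerIn, bq_defect_card_conj, bq_fully_centralized_iff.
-/

set_option autoImplicit false
set_option linter.style.haveILetI false
set_option linter.unusedVariables false
set_option warn.classDefReducibility false
set_option maxHeartbeats 1600000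

namespace Cfsg.Agent.Lib.Helper25
open Cfsg.Agent.Lib.Helper24
open Cfsg.Agent.Lib.helper2
open Cfsg.Agent.Lib.helper7
open scoped ComplexConjugate
section

/-- conjugacy in the fusion system of a block -/
theorem bq_fusion_conj_iff {G : Type*} [Group G] [Fintype G] (p : ℕ) [hp : Fact p.Prime]
    (M : Ideal Cfsg.AlgInt) (hM : Cfsg.IsPModular p M) (B : Set (Cfsg.IrrCharacter G))
    (P : Subgroup G) (e : Set (Cfsg.IrrCharacter (Subgroup.centralizer (P : Set G))))
    (F : Cfsg.FusionSystem P) (hF : Cfsg.IsBlockFusionSystemOn p M B P e F)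
    (Q : Subgroup G) (f : Set (Cfsg.IrrCharacter (Subgroup.centralizer (Q : Set G))))
    (hQP : Q ≤ P) (hle : Cfsg.SubpairLE p M Q f P e) (Q' : Subgroup G) :
    F.IsConj Q Q' ↔ ∃ g : G, Q' = Q.map (MulAut.conj g).toMonoidHom ∧
      Cfsg.SubpairLE p M (Q.map (MulAut.conj g).toMonoidHom) (Cfsg.conjBlock Q g f) P e := by
  have hPe : Cfsg.IsBrauerPair p M P e := hF.1.1.1
  constructor
  · rintro ⟨φ, hφ, hrange⟩
    obtain ⟨_, g, hg, hQg, f₀, hle₀, hleg⟩ := (hF.2 Q φ).mp hφ
    have hff : f₀ = f := bq_subpair_unique p M hM P e hPe Q f₀ f hle₀ hle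
    rw [hff] at hleg
    refine ⟨g, ?_, hleg⟩
    rw [← hrange]
    ext y
    constructor
    · rintro ⟨u, rfl⟩
      exact ⟨(u : G), u.2, by rw [hg u]; rfl⟩
    · rintro ⟨u, hu, rfl⟩
      exact ⟨⟨u, hu⟩, by rw [hg]; rfl⟩
  · rintro ⟨g, rfl, hleg⟩
    refine ⟨(MulAut.conj g).toMonoidHom.comp Q.subtype, ?_, ?_⟩
    · rw [hF.2]
      exact ⟨hQP, g, fun u => rfl, bq_chain_le p M _ _ hleg, f, hle, hleg⟩
    · rw [MonoidHom.range_comp, Subgroup.range_subtype]

theorem bq_card_centralizerIn {G : Type*} [Group G] (P Q : Subgroup G) :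
    Nat.card (Cfsg.FusionSystem.centralizerIn P Q) =
      Nat.card ((P ⊓ Subgroup.centralizer (Q : Set G)).subgroupOf
        (Subgroup.centralizer (Q : Set G))) :=
  (Nat.card_congr (Subgroup.subgroupOfEquivOfLe
    (inf_le_right : P ⊓ Subgroup.centralizer (Q : Set G) ≤ _)).toEquiv).symm

/-- defect groups of a block and of a conjugate block have the same order -/
theorem bq_defect_card_conj {G : Type*} [Group G] [Fintype G] (p : ℕ) [hp : Fact p.Prime]
    (M : Ideal Cfsg.AlgInt) (hM : Cfsg.IsPModular p M) (Q : Subgroup G) (g : G)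
    (f : Set (Cfsg.IrrCharacter (Subgroup.centralizer (Q : Set G)))) (hf : Cfsg.IsPBlock M f)
    (D : Subgroup (Subgroup.centralizer (Q : Set G)))
    (D' : Subgroup (Subgroup.centralizer
      ((Q.map (MulAut.conj g).toMonoidHom : Subgroup G) : Set G)))
    (hD : Cfsg.IsDefectGroup p M f D) (hD' : Cfsg.IsDefectGroup p M (Cfsg.conjBlock Q g f) D') :
    Nat.card D = Nat.card D' := by
  have h1 := bq_defect_trSet p M (bq_centConj Q g).symm f D hD
  rw [← bq_conjBlock_eq_trSet] at h1
  have h2 := bq_defect_card p M hM _ (bq_conjBlock_isBlock M Q g f hf) _ _ h1 hD'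
  rw [← h2]
  refine Nat.card_congr ⟨fun d => ⟨(bq_centConj Q g) d, ?_⟩, fun d' => ⟨(bq_centConj Q g).symm d', d'.2⟩,
    ?_, ?_⟩
  · show (bq_centConj Q g).symm ((bq_centConj Q g) d) ∈ D
    rw [MulEquiv.symm_apply_apply]
    exact d.2
  · intro d
    apply Subtype.ext
    exact (bq_centConj Q g).symm_apply_apply d
  · intro d'
    apply Subtype.ext
    exact (bq_centConj Q g).apply_symm_apply d'

/-- S4678 -/
theorem bq_fully_centralized_iff {G : Type*} [Group G] [Fintype G] (p : ℕ) [hp : Fact p.Prime]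
    (M : Ideal Cfsg.AlgInt) (hM : Cfsg.IsPModular p M) (B : Set (Cfsg.IrrCharacter G))
    (P : Subgroup G) (e : Set (Cfsg.IrrCharacter (Subgroup.centralizer (P : Set G))))
    (hmax : Cfsg.IsMaximalBrauerPair p M B P e)
    (F : Cfsg.FusionSystem P) (hF : Cfsg.IsBlockFusionSystemOn p M B P e F)
    (Q : Subgroup G) (f : Set (Cfsg.IrrCharacter (Subgroup.centralizer (Q : Set G))))
    (hQP : Q ≤ P) (hf : Cfsg.IsPBlock M f) (hle : Cfsg.SubpairLE p M Q f P e) :
    F.IsFullyCentralized Q ↔ Cfsg.IsDefectGroup p M f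
      ((P ⊓ Subgroup.centralizer (Q : Set G)).subgroupOf (Subgroup.centralizer (Q : Set G))) := by
  have hPe : Cfsg.IsBrauerPair p M P e := hmax.1.1
  constructor
  · rintro ⟨_, hfc⟩
    obtain ⟨x, hlex, hdefx⟩ := bq_cent_defect_conj p M hM B P Q e f hmax hQP hf hle
    have hconj : F.IsConj Q (Q.map (MulAut.conj x).toMonoidHom) :=
      (bq_fusion_conj_iff p M hM B P e F hF Q f hQP hle _).mpr ⟨x, rfl, hlex⟩
    have h1 := hfc _ hconj
    rw [bq_card_centralizerIn, bq_card_centralizerIn] at h1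
    obtain ⟨D, _, _, hdefD, hSD⟩ := bq_cent_le_defect p M hM P Q e f hPe hQP hle
    have h2 := bq_defect_card_conj p M hM Q x f hf D _ hdefD hdefx
    have heq : (P ⊓ Subgroup.centralizer (Q : Set G)).subgroupOf
        (Subgroup.centralizer (Q : Set G)) = D := by
      apply Subgroup.eq_of_le_of_card_ge hSD
      rw [h2]
      exact h1
    rw [heq]
    exact hdefD
  · intro hdef
    refine ⟨hQP, ?_⟩
    intro Q' hconj
    obtain ⟨g, rfl, hleg⟩ := (bq_fusion_conj_iff p M hM B P e F hF Q f hQP hle _).mp hconj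
    have hQgP : Q.map (MulAut.conj g).toMonoidHom ≤ P := bq_chain_le p M _ _ hleg
    obtain ⟨D₂, _, _, hdefD₂, hS₂D₂⟩ := bq_cent_le_defect p M hM P _ e _ hPe hQgP hleg
    have h2 := bq_defect_card_conj p M hM Q g f hf _ D₂ hdef hdefD₂
    rw [bq_card_centralizerIn, bq_card_centralizerIn, h2]
    exact Subgroup.card_le_of_le hS₂D₂

end

end Cfsg.Agent.Lib.Helper25
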