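import Mathlib
import Cfsg.Agent.Lib.Helper25.BrauerPairFusion1

/-!
Fusion system of a block, centric subgroups (S4680): bq_mem_map_conj, bq_center_conj, bq_trSet_conjBlock, bq_centric_iff.
-/

set_option autoImplicit false
set_option linter.style.haveILetI false
set_option linter.unusedVariables false
set_option warn.classDefReducibility false
set_option maxHeartbeats 1600000

namespace Cfsg.Agent.Lib.Helper25
open Cfsg.Agent.Lib.Helper24
open Cfsg.Agent.Lib.helper2
open Cfsg.Agent.Lib.helper7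
open scoped ComplexConjugate
section

theorem bq_mem_map_conj {G : Type*} [Group G] (Q : Subgroup G) (g y : G) :
    y ∈ Q.map (MulAut.conj g).toMonoidHom ↔ g⁻¹ * y * g ∈ Q := by
  rw [Subgroup.mem_map_equiv]
  simp [MulAut.conj_symm_apply]

/-- the centre of `Q` inside `C_G(Q)` and conjugation -/
theorem bq_center_conj {G : Type*} [Group G] (Q : Subgroup G) (g : G) :
    ((Q ⊓ Subgroup.centralizer (Q : Set G)).subgroupOf (Subgroup.centralizer (Q : Set G))).comap
        (bq_centConj Q g).symm.toMonoidHom =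
      ((Q.map (MulAut.conj g).toMonoidHom) ⊓ Subgroup.centralizer
        ((Q.map (MulAut.conj g).toMonoidHom : Subgroup G) : Set G)).subgroupOf
        (Subgroup.centralizer ((Q.map (MulAut.conj g).toMonoidHom : Subgroup G) : Set G)) := by
  ext c'
  rw [Subgroup.mem_comap, Subgroup.mem_subgroupOf, Subgroup.mem_subgroupOf]
  show (((bq_centConj Q g).symm c' : _) : G) ∈ Q ⊓ Subgroup.centralizer (Q : Set G) ↔ _
  rw [bq_centConj_symm_apply, Subgroup.mem_inf, Subgroup.mem_inf, bq_mem_map_conj]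
  constructor
  · rintro ⟨h1, _⟩
    exact ⟨h1, c'.2⟩
  · rintro ⟨h1, _⟩
    exact ⟨h1, ((bq_centConj Q g).symm c').2⟩

theorem bq_center_conj' {G : Type*} [Group G] (Q : Subgroup G) (g : G) :
    (((Q.map (MulAut.conj g).toMonoidHom) ⊓ Subgroup.centralizer
        ((Q.map (MulAut.conj g).toMonoidHom : Subgroup G) : Set G)).subgroupOf
        (Subgroup.centralizer ((Q.map (MulAut.conj g).toMonoidHom : Subgroup G) : Set G))).comap
        (bq_centConj Q g).toMonoidHom =
      (Q ⊓ Subgroup.centralizer (Q : Set G)).subgroupOf (Subgroup.centralizer (Q : Set G)) := by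
  ext c
  rw [Subgroup.mem_comap, Subgroup.mem_subgroupOf, Subgroup.mem_subgroupOf]
  show (((bq_centConj Q g) c : _) : G) ∈ _ ↔ _
  rw [bq_centConj_apply, Subgroup.mem_inf, Subgroup.mem_inf, bq_mem_map_conj]
  have : g⁻¹ * (g * (c : G) * g⁻¹) * g = (c : G) := by group
  rw [this]
  constructor
  · rintro ⟨h1, _⟩
    exact ⟨h1, c.2⟩
  · rintro ⟨h1, _⟩
    exact ⟨h1, ((bq_centConj Q g) c).2⟩

theorem bq_trSet_conjBlock {G : Type*} [Group G] (Q : Subgroup G) (x : G)
    (f : Set (Cfsg.IrrCharacter (Subgroup.centralizer (Q : Set G)))) :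
    bq_trSet (bq_centConj Q x) (Cfsg.conjBlock Q x f) = f := by
  ext ξ
  show bq_trIrr (bq_centConj Q x).symm ξ ∈ Cfsg.conjBlock Q x f ↔ ξ ∈ f
  exact bq_push_mem Q x f ξ

/-- S4680 -/
theorem bq_centric_iff {G : Type*} [Group G] [Fintype G] (p : ℕ) [hp : Fact p.Prime]
    (M : Ideal Cfsg.AlgInt) (hM : Cfsg.IsPModular p M) (B : Set (Cfsg.IrrCharacter G))
    (P : Subgroup G) (e : Set (Cfsg.IrrCharacter (Subgroup.centralizer (P : Set G))))
    (hmax : Cfsg.IsMaximalBrauerPair p M B P e)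
    (F : Cfsg.FusionSystem P) (hF : Cfsg.IsBlockFusionSystemOn p M B P e F)
    (Q : Subgroup G) (f : Set (Cfsg.IrrCharacter (Subgroup.centralizer (Q : Set G))))
    (hQP : Q ≤ P) (hf : Cfsg.IsPBlock M f) (hle : Cfsg.SubpairLE p M Q f P e) :
    F.IsCentric Q ↔ Cfsg.IsDefectGroup p M f
      ((Q ⊓ Subgroup.centralizer (Q : Set G)).subgroupOf (Subgroup.centralizer (Q : Set G))) := by
  have hPe : Cfsg.IsBrauerPair p M P e := hmax.1.1
  constructor
  · rintro ⟨_, hcen⟩
    obtain ⟨x, hlex, hdefx⟩ := bq_cent_defect_conj p M hM B P Q e f hmax hQP hf hle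
    have hconj : F.IsConj Q (Q.map (MulAut.conj x).toMonoidHom) :=
      (bq_fusion_conj_iff p M hM B P e F hF Q f hQP hle _).mpr ⟨x, rfl, hlex⟩
    have h1 := hcen _ hconj
    have hQxP : Q.map (MulAut.conj x).toMonoidHom ≤ P := bq_chain_le p M _ _ hlex
    have heq : (P ⊓ Subgroup.centralizer ((Q.map (MulAut.conj x).toMonoidHom) : Set G)).subgroupOf
          (Subgroup.centralizer ((Q.map (MulAut.conj x).toMonoidHom) : Set G)) =
        ((Q.map (MulAut.conj x).toMonoidHom) ⊓ Subgroup.centralizer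
          ((Q.map (MulAut.conj x).toMonoidHom : Subgroup G) : Set G)).subgroupOf
          (Subgroup.centralizer ((Q.map (MulAut.conj x).toMonoidHom : Subgroup G) : Set G)) := by
      ext c
      rw [Subgroup.mem_subgroupOf, Subgroup.mem_subgroupOf]
      constructor
      · intro hc
        exact ⟨h1 hc, hc.2⟩
      · intro hc
        exact ⟨hQxP hc.1, hc.2⟩
    rw [heq] at hdefx
    have h2 := bq_defect_trSet p M (bq_centConj Q x) _ _ hdefx
    rw [bq_trSet_conjBlock, bq_center_conj'] at h2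
    exact h2
  · intro hdef
    refine ⟨hQP, ?_⟩
    intro Q' hconj
    obtain ⟨g, rfl, hleg⟩ := (bq_fusion_conj_iff p M hM B P e F hF Q f hQP hle _).mp hconj
    have hQgP : Q.map (MulAut.conj g).toMonoidHom ≤ P := bq_chain_le p M _ _ hleg
    obtain ⟨D₂, _, _, hdefD₂, hS₂D₂⟩ := bq_cent_le_defect p M hM P _ e _ hPe hQgP hleg
    have h1 := bq_defect_trSet p M (bq_centConj Q g).symm f _ hdef
    rw [← bq_conjBlock_eq_trSet, bq_center_conj] at h1
    have hcard := bq_defect_card p M hM _ (bq_conjBlock_isBlock M Q g f hf) _ _ h1 hdefD₂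
    have hZS : ((Q.map (MulAut.conj g).toMonoidHom) ⊓ Subgroup.centralizer
          ((Q.map (MulAut.conj g).toMonoidHom : Subgroup G) : Set G)).subgroupOf
          (Subgroup.centralizer ((Q.map (MulAut.conj g).toMonoidHom : Subgroup G) : Set G)) ≤
        (P ⊓ Subgroup.centralizer ((Q.map (MulAut.conj g).toMonoidHom) : Set G)).subgroupOf
          (Subgroup.centralizer ((Q.map (MulAut.conj g).toMonoidHom) : Set G)) := by
      intro c hc
      rw [Subgroup.mem_subgroupOf] at hc ⊢
      exact ⟨hQgP hc.1, hc.2⟩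
    have heq := Subgroup.eq_of_le_of_card_ge (hZS.trans hS₂D₂) (le_of_eq hcard.symm)
    intro c hc
    have hc' : c ∈ P ⊓ Subgroup.centralizer ((Q.map (MulAut.conj g).toMonoidHom) : Set G) := hc
    have h3 : (⟨c, hc'.2⟩ : Subgroup.centralizer
        ((Q.map (MulAut.conj g).toMonoidHom : Subgroup G) : Set G)) ∈ D₂ :=
      hS₂D₂ (Subgroup.mem_subgroupOf.mpr hc')
    rw [← heq, Subgroup.mem_subgroupOf] at h3
    exact h3.1

end

end Cfsg.Agent.Lib.Helper25
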