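import Mathlib
import Cfsg.Agent.Lib.Helper25.BrauerPairFusion2

/-!
Fusion system of a block, fully normalized subgroups (S4679): bq_stabEquiv, bq_card_comap_equiv, bq_stab_transport, bq_card_normalizerIn, bq_normalizerIn_le_stab, bq_fully_normalized_iff.
-/

set_option autoImplicit false
set_option linter.style.haveILetI false
set_option linter.unusedVariables false
set_option warn.classDefReducibility false
set_option maxHeartbeats 1600000

namespace Cfsg.Agent.Lib.Helper25
open Cfsg.Agent.Lib.Helper24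
open Cfsg.Agent.Lib.helper2
open Cfsg.Agent.Lib.helper7
open scoped ComplexConjugate
section

/-- conjugation from the conjugate of a subgroup back to the subgroup -/
noncomputable def bq_stabEquiv {G : Type*} [Group G] (T : Subgroup G) (g : G) :
    T.map (MulAut.conj g).toMonoidHom ≃* T :=
  (Subgroup.equivMapOfInjective T (MulAut.conj g).toMonoidHom (MulAut.conj g).injective).symm

theorem bq_stabEquiv_coe {G : Type*} [Group G] (T : Subgroup G) (g : G)
    (t' : T.map (MulAut.conj g).toMonoidHom) :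
    ((bq_stabEquiv T g t' : T) : G) = g⁻¹ * (t' : G) * g := by
  have h1 : (t' : G) = (MulAut.conj g).toMonoidHom ((bq_stabEquiv T g t' : T) : G) := by
    have := Subgroup.coe_equivMapOfInjective_apply T (MulAut.conj g).toMonoidHom
      (MulAut.conj g).injective (bq_stabEquiv T g t')
    rw [← this]
    unfold bq_stabEquiv
    rw [MulEquiv.apply_symm_apply]
  rw [h1]
  simp only [MulEquiv.coe_toMonoidHom, MulAut.conj_apply]
  group

theorem bq_card_comap_equiv {A B : Type*} [Group A] [Group B] (σ : A ≃* B) (D : Subgroup B) :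
    Nat.card (D.comap σ.toMonoidHom) = Nat.card D := by
  refine Nat.card_congr ⟨fun x => ⟨σ x, x.2⟩, fun y => ⟨σ.symm y, ?_⟩, ?_, ?_⟩
  · show σ (σ.symm y) ∈ D
    rw [σ.apply_symm_apply]
    exact y.2
  · intro x
    apply Subtype.ext
    exact σ.symm_apply_apply x
  · intro y
    apply Subtype.ext
    exact σ.apply_symm_apply y

/-- the transported stabilizer block has the idempotent of the conjugate block -/
theorem bq_stab_transport {G : Type*} [Group G] [Fintype G] (Q : Subgroup G)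
    (f : Set (Cfsg.IrrCharacter (Subgroup.centralizer (Q : Set G)))) (g : G)
    (T : Subgroup G) (F : Set (Cfsg.IrrCharacter T))
    (hF : ∀ t : T, Cfsg.blockCoeff F t =
        Cfsg.subgroupBlockCoeff (Subgroup.centralizer (Q : Set G)) f (t : G))
    (t' : T.map (MulAut.conj g).toMonoidHom) :
    Cfsg.blockCoeff (bq_trSet (bq_stabEquiv T g) F) t' = Cfsg.subgroupBlockCoeff
        (Subgroup.centralizer ((Q.map (MulAut.conj g).toMonoidHom) : Set G))
        (Cfsg.conjBlock Q g f) (t' : G) := by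
  classical
  haveI : Fintype T := Fintype.ofFinite _
  haveI : Fintype (T.map (MulAut.conj g).toMonoidHom) := Fintype.ofFinite _
  rw [bq_blockCoeff_trSet, hF, bq_stabEquiv_coe, bq_sbc_conjBlock]

theorem bq_card_normalizerIn {G : Type*} [Group G] (P Q T : Subgroup G)
    (hle : P ⊓ Subgroup.normalizer (Q : Set G) ≤ T) :
    Nat.card (Cfsg.FusionSystem.normalizerIn P Q) =
      Nat.card ((P ⊓ Subgroup.normalizer (Q : Set G)).subgroupOf T) :=
  (Nat.card_congr (Subgroup.subgroupOfEquivOfLe hle).toEquiv).symm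

/-- `N_P(Q)` lies in the stabilizer of `(Q, f)` when `(Q, f) ≤ (P, e)` -/
theorem bq_normalizerIn_le_stab {G : Type*} [Group G] [Fintype G] (p : ℕ) [hp : Fact p.Prime]
    (M : Ideal Cfsg.AlgInt) (hM : Cfsg.IsPModular p M) (P Q : Subgroup G)
    (e : Set (Cfsg.IrrCharacter (Subgroup.centralizer (P : Set G))))
    (f : Set (Cfsg.IrrCharacter (Subgroup.centralizer (Q : Set G))))
    (hPe : Cfsg.IsBrauerPair p M P e) (hQP : Q ≤ P)
    (hle : Cfsg.SubpairLE p M Q f P e)
    (T : Subgroup G) (hT : ∀ y : G, y ∈ T ↔ y ∈ Subgroup.normalizer (Q : Set G) ∧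
      Cfsg.StabilizesBlock (Subgroup.centralizer (Q : Set G)) f y) :
    P ⊓ Subgroup.normalizer (Q : Set G) ≤ T := by
  obtain ⟨g, _, hn⟩ := bq_normalizer_stab p M hM P Q e f hPe hQP hle
  intro r hr
  exact (hT r).mpr ⟨hr.2, hn.2.2.2.2.1 r hr⟩

/-- S4679 -/
theorem bq_fully_normalized_iff {G : Type*} [Group G] [Fintype G] (p : ℕ) [hp : Fact p.Prime]
    (M : Ideal Cfsg.AlgInt) (hM : Cfsg.IsPModular p M) (B : Set (Cfsg.IrrCharacter G))
    (P : Subgroup G) (e : Set (Cfsg.IrrCharacter (Subgroup.centralizer (P : Set G))))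
    (hmax : Cfsg.IsMaximalBrauerPair p M B P e)
    (F : Cfsg.FusionSystem P) (hF : Cfsg.IsBlockFusionSystemOn p M B P e F)
    (Q : Subgroup G) (f : Set (Cfsg.IrrCharacter (Subgroup.centralizer (Q : Set G))))
    (hQP : Q ≤ P) (hf : Cfsg.IsPBlock M f) (hle : Cfsg.SubpairLE p M Q f P e)
    (T : Subgroup G) (hT : ∀ y : G, y ∈ T ↔ y ∈ Subgroup.normalizer (Q : Set G) ∧
      Cfsg.StabilizesBlock (Subgroup.centralizer (Q : Set G)) f y) :
    F.IsFullyNormalized Q ↔ ∃ F' : Set (Cfsg.IrrCharacter T), Cfsg.IsPBlock M F' ∧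
      (∀ t : T, Cfsg.blockCoeff F' t =
        Cfsg.subgroupBlockCoeff (Subgroup.centralizer (Q : Set G)) f (t : G)) ∧
      Cfsg.IsDefectGroup p M F' ((P ⊓ Subgroup.normalizer (Q : Set G)).subgroupOf T) := by
  classical
  have hPe : Cfsg.IsBrauerPair p M P e := hmax.1.1
  have hQ : IsPGroup p Q := hPe.1.to_le hQP
  have hNT := bq_normalizerIn_le_stab p M hM P Q e f hPe hQP hle T hT
  constructor
  · rintro ⟨_, hfn⟩
    obtain ⟨x, hlex, hall⟩ := bq_norm_defect_conj p M hM B P Q e f hmax hQP hf hle T hT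
    have hT' := bq_stab_conj Q f x T hT
    obtain ⟨F'', hF''b, hF''c, hdef''⟩ := hall (T.map (MulAut.conj x).toMonoidHom) hT'
    have hconj : F.IsConj Q (Q.map (MulAut.conj x).toMonoidHom) :=
      (bq_fusion_conj_iff p M hM B P e F hF Q f hQP hle _).mpr ⟨x, rfl, hlex⟩
    have h1 := hfn _ hconj
    have hQxP : Q.map (MulAut.conj x).toMonoidHom ≤ P := bq_chain_le p M _ _ hlex
    have hNT' := bq_normalizerIn_le_stab p M hM P _ e _ hPe hQxP hlex _ hT'
    rw [bq_card_normalizerIn P _ _ hNT', bq_card_normalizerIn P Q T hNT] at h1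
    obtain ⟨F₀, hF₀b, hF₀⟩ := bq_stab_pair_exists p M hM Q hQ f hf T hT
    obtain ⟨D, _, _, hdefD, hSD⟩ := bq_norm_le_defect p M hM P Q e f hPe hQP hle T hT F₀ hF₀b hF₀
    haveI : Fintype (T.map (MulAut.conj x).toMonoidHom) := Fintype.ofFinite _
    have hFF : bq_trSet (bq_stabEquiv T x) F₀ = F'' := by
      apply bq_blockCoeff_inj
      intro t'
      rw [bq_stab_transport Q f x T F₀ hF₀ t', hF''c]
    have h2 := bq_defect_trSet p M (bq_stabEquiv T x) F₀ D hdefD
    rw [hFF] at h2
    have h3 := bq_defect_card p M hM _ hF''b _ _ h2 hdef''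
    rw [bq_card_comap_equiv] at h3
    have heq : (P ⊓ Subgroup.normalizer (Q : Set G)).subgroupOf T = D := by
      apply Subgroup.eq_of_le_of_card_ge hSD
      rw [h3]
      exact h1
    refine ⟨F₀, hF₀b, hF₀, ?_⟩
    rw [heq]
    exact hdefD
  · rintro ⟨F', hF'b, hF'c, hdef⟩
    refine ⟨hQP, ?_⟩
    intro Q' hconj
    obtain ⟨g, rfl, hleg⟩ := (bq_fusion_conj_iff p M hM B P e F hF Q f hQP hle _).mp hconj
    have hQgP : Q.map (MulAut.conj g).toMonoidHom ≤ P := bq_chain_le p M _ _ hleg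
    have hT' := bq_stab_conj Q f g T hT
    have hNT' := bq_normalizerIn_le_stab p M hM P _ e _ hPe hQgP hleg _ hT'
    have hF''b := bq_trSet_isBlock M (bq_stabEquiv T g) F' hF'b
    obtain ⟨D₂, _, _, hdefD₂, hS₂D₂⟩ := bq_norm_le_defect p M hM P _ e _ hPe hQgP hleg
      (T.map (MulAut.conj g).toMonoidHom) hT' (bq_trSet (bq_stabEquiv T g) F') hF''b
      (bq_stab_transport Q f g T F' hF'c)
    have h2 := bq_defect_trSet p M (bq_stabEquiv T g) F' _ hdef
    have h3 := bq_defect_card p M hM _ hF''b _ _ h2 hdefD₂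
    rw [bq_card_comap_equiv] at h3
    rw [bq_card_normalizerIn P _ _ hNT', bq_card_normalizerIn P Q T hNT, h3]
    exact Subgroup.card_le_of_le hS₂D₂

end

end Cfsg.Agent.Lib.Helper25
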