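import Mathlib
import Cfsg.Agent.Lib.Helper25.BrauerPairFusion3

/-!
Abelian defect groups: stabilizers of subpairs (S4682). bq_liftIdx (pairs of C_G(Q) lifted to pairs of G over (Q,.)), bq_le_eq_of_card, bq_liftIdx_of, bq_liftIdx_conj, bq_over_conj (pairs over (Q,f) inside C_G(Q) of maximal order are C_G(Q)-conjugate), bq_conjIdx_of_stab, bq_stab_of_conjIdx, bq_abelian_frattini, bq_abelian_stab_factor, bq_stab_inf_le, bq_abelian_stab.
-/

set_option autoImplicit false
set_option linter.style.haveILetI false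
set_option linter.unusedVariables false
set_option warn.classDefReducibility false
set_option maxHeartbeats 1600000

namespace Cfsg.Agent.Lib.Helper25
open Cfsg.Agent.Lib.Helper24
open Cfsg.Agent.Lib.helper2
open Cfsg.Agent.Lib.helper7
open scoped ComplexConjugate
section

/-- the pair of `G` over `(Q, ·)` attached to a pair of `C_G(Q)` -/
noncomputable abbrev bq_liftIdx {G : Type*} [Group G] (Q : Subgroup G)
    (a : Cfsg.BrauerPairIdx (Subgroup.centralizer (Q : Set G))) : Cfsg.BrauerPairIdx G :=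
  ⟨Q ⊔ a.1.map (Subgroup.centralizer (Q : Set G)).subtype,
    bq_trSet (bq_relCent (Subgroup.centralizer (Q : Set G)) a.1 _ (bq_cent_sup Q a.1)).symm a.2⟩

/-- a chain of pairs with equal orders at the ends is trivial -/
theorem bq_le_eq_of_card {G : Type*} [Group G] [Fintype G] (p : ℕ) [hp : Fact p.Prime]
    (M : Ideal Cfsg.AlgInt) (hM : Cfsg.IsPModular p M) (a b : Cfsg.BrauerPairIdx G)
    (h : Relation.ReflTransGen (Cfsg.NormalSubpairRel p M) a b)
    (hcard : Nat.card b.1 ≤ Nat.card a.1) : a = b := by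
  rcases bq_chain_last p M hM a b h with h1 | ⟨c, hc, hac, _⟩
  · exact h1
  · exfalso
    have h2 : a.1 ≤ c.1 := bq_chain_le p M _ _ hac
    have h3 : a.1 < b.1 := lt_of_le_of_lt h2 hc
    have h4 : Nat.card a.1 < Nat.card b.1 := by
      have hfin : (b.1 : Set G).Finite := Set.toFinite _
      exact Set.ncard_lt_ncard (SetLike.coe_ssubset_coe.mpr h3) hfin
    omega

/-- the lift of the pair of `C_G(Q)` attached to a pair `(P, e)` of `G` with `Q ≤ P ≤ C_G(Q)` -/
theorem bq_liftIdx_of {G : Type*} [Group G] (Q P : Subgroup G) (hQP : Q ≤ P)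
    (hPC : P ≤ Subgroup.centralizer (Q : Set G))
    (e : Set (Cfsg.IrrCharacter (Subgroup.centralizer (P : Set G)))) :
    bq_liftIdx Q ⟨P.subgroupOf (Subgroup.centralizer (Q : Set G)),
      bq_trSet (bq_relCent (Subgroup.centralizer (Q : Set G))
        (P.subgroupOf (Subgroup.centralizer (Q : Set G))) P
        (bq_cent_in_stab Q P _ le_rfl hQP hPC)) e⟩ = ⟨P, e⟩ := by
  apply bq_idx_ext
  · show Q ⊔ (P.subgroupOf (Subgroup.centralizer (Q : Set G))).map
      (Subgroup.centralizer (Q : Set G)).subtype = P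
    rw [Subgroup.map_subgroupOf_eq_of_le hPC]
    exact sup_eq_right.mpr hQP
  · intro ξ ξ' hval
    show bq_trIrr (bq_relCent (Subgroup.centralizer (Q : Set G)) _ _ (bq_cent_sup Q _)).symm.symm ξ ∈
      bq_trSet (bq_relCent (Subgroup.centralizer (Q : Set G))
        (P.subgroupOf (Subgroup.centralizer (Q : Set G))) P
        (bq_cent_in_stab Q P _ le_rfl hQP hPC)) e ↔ ξ' ∈ e
    show bq_trIrr (bq_relCent (Subgroup.centralizer (Q : Set G))
        (P.subgroupOf (Subgroup.centralizer (Q : Set G))) P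
        (bq_cent_in_stab Q P _ le_rfl hQP hPC)).symm
      (bq_trIrr (bq_relCent (Subgroup.centralizer (Q : Set G)) _ _ (bq_cent_sup Q _)).symm.symm ξ) ∈ e
      ↔ ξ' ∈ e
    have : bq_trIrr (bq_relCent (Subgroup.centralizer (Q : Set G))
        (P.subgroupOf (Subgroup.centralizer (Q : Set G))) P
        (bq_cent_in_stab Q P _ le_rfl hQP hPC)).symm
      (bq_trIrr (bq_relCent (Subgroup.centralizer (Q : Set G)) _ _ (bq_cent_sup Q _)).symm.symm ξ)
        = ξ' := by
      apply Subtype.ext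
      funext y
      rw [bq_trIrr_apply, bq_trIrr_apply]
      apply hval
      rfl
    rw [this]

end

section

/-- lifting pairs from `C_G(Q)` to `G` commutes with conjugation by elements of `C_G(Q)` -/
theorem bq_liftIdx_conj {G : Type*} [Group G] (Q : Subgroup G)
    (c : Subgroup.centralizer (Q : Set G))
    (a : Cfsg.BrauerPairIdx (Subgroup.centralizer (Q : Set G))) :
    bq_liftIdx Q (bq_conjIdx c a) = bq_conjIdx (c : G) (bq_liftIdx Q a) := by
  apply bq_idx_ext
  · show Q ⊔ (a.1.map (MulAut.conj c).toMonoidHom).map (Subgroup.centralizer (Q : Set G)).subtype =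
      (Q ⊔ a.1.map (Subgroup.centralizer (Q : Set G)).subtype).map (MulAut.conj (c : G)).toMonoidHom
    rw [Subgroup.map_sup, bq_map_conj_normalizer Q (c : G)
      (Subgroup.centralizer_le_normalizer _ c.2), Subgroup.map_map, Subgroup.map_map]
    congr 2
  · intro ξ ξ' hval
    show bq_trIrr (bq_relCent (Subgroup.centralizer (Q : Set G)) _ _ (bq_cent_sup Q _)).symm.symm ξ ∈
        Cfsg.conjBlock a.1 c a.2 ↔
      ξ' ∈ Cfsg.conjBlock (Q ⊔ a.1.map (Subgroup.centralizer (Q : Set G)).subtype) (c : G)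
        (bq_trSet (bq_relCent (Subgroup.centralizer (Q : Set G)) a.1 _ (bq_cent_sup Q a.1)).symm a.2)
    rw [bq_mem_conjBlock, bq_mem_conjBlock]
    show _ ↔ bq_trIrr (bq_relCent (Subgroup.centralizer (Q : Set G)) a.1 _
      (bq_cent_sup Q a.1)).symm.symm (bq_pull _ (c : G) ξ') ∈ a.2
    have : bq_pull a.1 c (bq_trIrr (bq_relCent (Subgroup.centralizer (Q : Set G)) _ _
        (bq_cent_sup Q _)).symm.symm ξ) =
      bq_trIrr (bq_relCent (Subgroup.centralizer (Q : Set G)) a.1 _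
        (bq_cent_sup Q a.1)).symm.symm (bq_pull _ (c : G) ξ') := by
      apply Subtype.ext
      funext y
      rw [bq_pull_apply, bq_trIrr_apply, bq_trIrr_apply, bq_pull_apply]
      apply hval
      rfl
    rw [this]

end

section

theorem bq_card_subgroupOf_of_le {G : Type*} [Group G] (P C : Subgroup G) (h : P ≤ C) :
    Nat.card (P.subgroupOf C) = Nat.card P :=
  Nat.card_congr (Subgroup.subgroupOfEquivOfLe h).toEquiv

/-- **pairs over `(Q, f)` inside `C_G(Q)` of maximal order are conjugate under `C_G(Q)`** -/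
theorem bq_over_conj {G : Type*} [Group G] [Fintype G] (p : ℕ) [hp : Fact p.Prime]
    (M : Ideal Cfsg.AlgInt) (hM : Cfsg.IsPModular p M) (B : Set (Cfsg.IrrCharacter G))
    (P : Subgroup G) (e : Set (Cfsg.IrrCharacter (Subgroup.centralizer (P : Set G))))
    (hmax : Cfsg.IsMaximalBrauerPair p M B P e)
    (Q : Subgroup G) (f : Set (Cfsg.IrrCharacter (Subgroup.centralizer (Q : Set G))))
    (hQP : Q ≤ P) (hPC : P ≤ Subgroup.centralizer (Q : Set G))
    (hn : Cfsg.IsNormalSubpair p M Q f P e)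
    (P₂ : Subgroup G) (e₂ : Set (Cfsg.IrrCharacter (Subgroup.centralizer (P₂ : Set G))))
    (hQP₂ : Q ≤ P₂) (hP₂C : P₂ ≤ Subgroup.centralizer (Q : Set G))
    (hn₂ : Cfsg.IsNormalSubpair p M Q f P₂ e₂) (hcard : Nat.card P ≤ Nat.card P₂) :
    ∃ c ∈ Subgroup.centralizer (Q : Set G),
      bq_conjIdx c ⟨P₂, e₂⟩ = (⟨P, e⟩ : Cfsg.BrauerPairIdx G) := by
  classical
  haveI : Fintype (Subgroup.centralizer (Q : Set G)) := Fintype.ofFinite _
  have hPe : Cfsg.IsBrauerPair p M P e := hmax.1.1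
  have hf : Cfsg.IsPBlock M f := hn.1.2
  have hle : Cfsg.SubpairLE p M Q f P e := Relation.ReflTransGen.single hn
  have hSp : IsPGroup p (P.subgroupOf (Subgroup.centralizer (Q : Set G))) :=
    hPe.1.of_equiv (Subgroup.subgroupOfEquivOfLe hPC).symm
  have hS₂p : IsPGroup p (P₂.subgroupOf (Subgroup.centralizer (Q : Set G))) :=
    hn₂.2.1.1.of_equiv (Subgroup.subgroupOfEquivOfLe hP₂C).symm
  have hpair := bq_pair_of_normalSubpair p M Q P _
    (bq_cent_in_stab Q P _ le_rfl hQP hPC) hSp f e hn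
  have hpair₂ := bq_pair_of_normalSubpair p M Q P₂ _
    (bq_cent_in_stab Q P₂ _ le_rfl hQP₂ hP₂C) hS₂p f e₂ hn₂
  -- `S` is a defect group of `f`
  obtain ⟨D, _, _, hdefD, hSD⟩ := bq_cent_le_defect p M hM P Q e f hPe hQP hle
  rw [inf_eq_left.mpr hPC] at hSD
  obtain ⟨x, hlex, hdefx⟩ := bq_cent_defect_conj p M hM B P Q e f hmax hQP hf hle
  have hc1 := bq_defect_card_conj p M hM Q x f hf D _ hdefD hdefx
  have hc2 : Nat.card ((P ⊓ Subgroup.centralizer
      ((Q.map (MulAut.conj x).toMonoidHom) : Set G)).subgroupOf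
      (Subgroup.centralizer ((Q.map (MulAut.conj x).toMonoidHom) : Set G))) ≤ Nat.card P := by
    rw [bq_card_subgroupOf_of_le _ _ inf_le_right]
    exact Subgroup.card_le_of_le inf_le_left
  have hSD' : P.subgroupOf (Subgroup.centralizer (Q : Set G)) = D := by
    apply Subgroup.eq_of_le_of_card_ge hSD
    rw [hc1, bq_card_subgroupOf_of_le _ _ hPC]
    exact hc2
  have hmaxS := bq_max_of_defect p M hM f _ _ hpair (hSD' ▸ hdefD)
  obtain ⟨c, hc⟩ := bq_conj_into_max p M hM f _ _ _ _ hmaxS hpair₂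
  have hsig : bq_conjIdx c (⟨P₂.subgroupOf (Subgroup.centralizer (Q : Set G)),
      bq_trSet (bq_relCent (Subgroup.centralizer (Q : Set G))
        (P₂.subgroupOf (Subgroup.centralizer (Q : Set G))) P₂
        (bq_cent_in_stab Q P₂ _ le_rfl hQP₂ hP₂C)) e₂⟩ :
        Cfsg.BrauerPairIdx (Subgroup.centralizer (Q : Set G))) =
      ⟨P.subgroupOf (Subgroup.centralizer (Q : Set G)),
      bq_trSet (bq_relCent (Subgroup.centralizer (Q : Set G))
        (P.subgroupOf (Subgroup.centralizer (Q : Set G))) P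
        (bq_cent_in_stab Q P _ le_rfl hQP hPC)) e⟩ := by
    apply bq_le_eq_of_card p M hM _ _ hc
    show Nat.card (P.subgroupOf (Subgroup.centralizer (Q : Set G))) ≤
      Nat.card ((P₂.subgroupOf (Subgroup.centralizer (Q : Set G))).map
        (MulAut.conj c).toMonoidHom)
    rw [Subgroup.card_map_of_injective (MulAut.conj c).injective,
      bq_card_subgroupOf_of_le _ _ hPC, bq_card_subgroupOf_of_le _ _ hP₂C]
    exact hcard
  refine ⟨(c : G), c.2, ?_⟩
  rw [← bq_liftIdx_of Q P₂ hQP₂ hP₂C e₂, ← bq_liftIdx_conj, hsig, bq_liftIdx_of Q P hQP hPC e]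

end

section

/-- an element of the stabilizer of `(Q, f)` fixes the pair -/
theorem bq_conjIdx_of_stab {G : Type*} [Group G] [Finite G] {M : Ideal Cfsg.AlgInt}
    (hM : M.IsPrime) (Q : Subgroup G)
    (f : Set (Cfsg.IrrCharacter (Subgroup.centralizer (Q : Set G)))) (hf : Cfsg.IsPBlock M f)
    (x : G) (hx : x ∈ Subgroup.normalizer (Q : Set G))
    (hst : Cfsg.StabilizesBlock (Subgroup.centralizer (Q : Set G)) f x) :
    bq_conjIdx x ⟨Q, f⟩ = (⟨Q, f⟩ : Cfsg.BrauerPairIdx G) := by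
  rw [bq_conjIdx_normalizer Q x hx hst.1 f, (bq_stabilizes_iff hM _ f hf x hst.1).mp hst]

/-- an element fixing the pair `(P, e)` lies in its stabilizer -/
theorem bq_stab_of_conjIdx {G : Type*} [Group G] [Finite G] {M : Ideal Cfsg.AlgInt}
    (hM : M.IsPrime) (P : Subgroup G)
    (e : Set (Cfsg.IrrCharacter (Subgroup.centralizer (P : Set G)))) (he : Cfsg.IsPBlock M e)
    (n : G) (h : bq_conjIdx n ⟨P, e⟩ = (⟨P, e⟩ : Cfsg.BrauerPairIdx G)) :
    n ∈ Subgroup.normalizer (P : Set G) ∧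
      Cfsg.StabilizesBlock (Subgroup.centralizer (P : Set G)) e n := by
  have h1 : P.map (MulAut.conj n).toMonoidHom = P := congrArg Sigma.fst h
  have hn : n ∈ Subgroup.normalizer (P : Set G) := by
    rw [Subgroup.mem_normalizer_iff]
    intro u
    constructor
    · intro hu
      rw [← h1]
      exact ⟨u, hu, rfl⟩
    · intro hu
      rw [← h1] at hu
      obtain ⟨q, hq, hqe⟩ := hu
      simp only [MulEquiv.coe_toMonoidHom, MulAut.conj_apply] at hqe
      have : q = u := by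
        have := mul_left_cancel (mul_right_cancel hqe)
        exact this
      rw [← this]
      exact hq
  refine ⟨hn, ?_⟩
  have hn' := bm_normalizer_centralizer P n hn
  rw [bq_conjIdx_normalizer P n hn hn' e] at h
  have h2 : bq_conjSet (Subgroup.centralizer (P : Set G)) n hn' e = e :=
    eq_of_heq (Sigma.mk.inj_iff.mp h).2
  exact (bq_stabilizes_iff hM _ e he n hn').mpr h2

end

section

/-- **Frattini argument for abelian defect groups**: an element of the stabilizer of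
`(Q, f) ≤ (P, e)` is a product of an element of `C_G(Q)` and an element fixing `(P, e)` -/
theorem bq_abelian_frattini {G : Type*} [Group G] [Fintype G] (p : ℕ) [hp : Fact p.Prime]
    (M : Ideal Cfsg.AlgInt) (hM : Cfsg.IsPModular p M) (B : Set (Cfsg.IrrCharacter G))
    (P : Subgroup G) (e : Set (Cfsg.IrrCharacter (Subgroup.centralizer (P : Set G))))
    (hmax : Cfsg.IsMaximalBrauerPair p M B P e)
    (hab : ∀ x ∈ P, ∀ y ∈ P, x * y = y * x)
    (Q : Subgroup G) (f : Set (Cfsg.IrrCharacter (Subgroup.centralizer (Q : Set G))))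
    (hQP : Q ≤ P) (hf : Cfsg.IsPBlock M f) (hle : Cfsg.SubpairLE p M Q f P e)
    (x : G) (hx : x ∈ Subgroup.normalizer (Q : Set G))
    (hst : Cfsg.StabilizesBlock (Subgroup.centralizer (Q : Set G)) f x) :
    ∃ c ∈ Subgroup.centralizer (Q : Set G),
      bq_conjIdx (c * x) ⟨P, e⟩ = (⟨P, e⟩ : Cfsg.BrauerPairIdx G) := by
  have hPr := hM.2.1.isPrime
  have hPe : Cfsg.IsBrauerPair p M P e := hmax.1.1
  have hPC : P ≤ Subgroup.centralizer (Q : Set G) := by
    intro u hu
    rw [Subgroup.mem_centralizer_iff]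
    intro q hq
    exact hab q (hQP hq) u hu
  have hPN : P ≤ Subgroup.normalizer (Q : Set G) :=
    hPC.trans (Subgroup.centralizer_le_normalizer _)
  have hn := bq_le_normal p M hM Q P f e hPe hQP hPN hle
  have hnx := bq_conj_normalSubpair p M Q P x f e hn
  have hnx' : Cfsg.NormalSubpairRel p M (bq_conjIdx x ⟨Q, f⟩) (bq_conjIdx x ⟨P, e⟩) := hnx
  rw [bq_conjIdx_of_stab hPr Q f hf x hx hst] at hnx'
  have hn₂ : Cfsg.IsNormalSubpair p M Q f (P.map (MulAut.conj x).toMonoidHom)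
      (Cfsg.conjBlock P x e) := hnx'
  have hP₂C : P.map (MulAut.conj x).toMonoidHom ≤ Subgroup.centralizer (Q : Set G) := by
    rintro _ ⟨u, hu, rfl⟩
    have hxC := bm_normalizer_centralizer Q x hx
    exact (Subgroup.mem_normalizer_iff.mp hxC u).mp (hPC hu)
  obtain ⟨c, hcC, hc⟩ := bq_over_conj p M hM B P e hmax Q f hQP hPC hn _ _ hn₂.2.2.1 hP₂C hn₂
    (le_of_eq (Subgroup.card_map_of_injective (MulAut.conj x).injective).symm)
  refine ⟨c, hcC, ?_⟩
  rw [← bq_conjIdx_mul]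
  exact hc

/-- S4682, first part -/
theorem bq_abelian_stab_factor {G : Type*} [Group G] [Fintype G] (p : ℕ) [hp : Fact p.Prime]
    (M : Ideal Cfsg.AlgInt) (hM : Cfsg.IsPModular p M) (B : Set (Cfsg.IrrCharacter G))
    (P : Subgroup G) (e : Set (Cfsg.IrrCharacter (Subgroup.centralizer (P : Set G))))
    (hmax : Cfsg.IsMaximalBrauerPair p M B P e)
    (hab : ∀ x ∈ P, ∀ y ∈ P, x * y = y * x)
    (Q : Subgroup G) (f : Set (Cfsg.IrrCharacter (Subgroup.centralizer (Q : Set G))))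
    (hQP : Q ≤ P) (hf : Cfsg.IsPBlock M f) (hle : Cfsg.SubpairLE p M Q f P e)
    (TQ : Subgroup G) (hTQ : ∀ y : G, y ∈ TQ ↔ y ∈ Subgroup.normalizer (Q : Set G) ∧
      Cfsg.StabilizesBlock (Subgroup.centralizer (Q : Set G)) f y)
    (TP : Subgroup G) (hTP : ∀ y : G, y ∈ TP ↔ y ∈ Subgroup.normalizer (P : Set G) ∧
      Cfsg.StabilizesBlock (Subgroup.centralizer (P : Set G)) e y)
    (x : G) (hx : x ∈ TQ) :
    ∃ y ∈ TP, ∃ c ∈ Subgroup.centralizer (Q : Set G), x = y * c := by
  have hPr := hM.2.1.isPrime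
  have hx' : x⁻¹ ∈ TQ := TQ.inv_mem hx
  obtain ⟨h1, h2⟩ := (hTQ _).mp hx'
  obtain ⟨c, hcC, hc⟩ := bq_abelian_frattini p M hM B P e hmax hab Q f hQP hf hle x⁻¹ h1 h2
  have hy := bq_stab_of_conjIdx hPr P e hmax.1.1.2 _ hc
  refine ⟨(c * x⁻¹)⁻¹, TP.inv_mem ((hTP _).mpr hy), c, hcC, ?_⟩
  group

end

section

/-- elements of the stabilizer of `(P, e)` normalizing `Q` stabilize `f` when `(Q, f) ≤ (P, e)` -/
theorem bq_stab_inf_le {G : Type*} [Group G] [Fintype G] (p : ℕ) [hp : Fact p.Prime]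
    (M : Ideal Cfsg.AlgInt) (hM : Cfsg.IsPModular p M)
    (P : Subgroup G) (e : Set (Cfsg.IrrCharacter (Subgroup.centralizer (P : Set G))))
    (hPe : Cfsg.IsBrauerPair p M P e)
    (Q : Subgroup G) (f : Set (Cfsg.IrrCharacter (Subgroup.centralizer (Q : Set G))))
    (hf : Cfsg.IsPBlock M f) (hle : Cfsg.SubpairLE p M Q f P e)
    (y : G) (hyP : y ∈ Subgroup.normalizer (P : Set G))
    (hye : Cfsg.StabilizesBlock (Subgroup.centralizer (P : Set G)) e y)
    (hyQ : y ∈ Subgroup.normalizer (Q : Set G)) :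
    Cfsg.StabilizesBlock (Subgroup.centralizer (Q : Set G)) f y := by
  have hPr := hM.2.1.isPrime
  have h1 := bq_conj_subpairLE p M y ⟨Q, f⟩ ⟨P, e⟩ hle
  have hyC := bm_normalizer_centralizer Q y hyQ
  rw [bq_conjIdx_of_stab hPr P e hPe.2 y hyP hye, bq_conjIdx_normalizer Q y hyQ hyC f] at h1
  have h2 : Cfsg.SubpairLE p M Q (bq_conjSet (Subgroup.centralizer (Q : Set G)) y hyC f) P e := h1
  have h3 := bq_subpair_unique p M hM P e hPe Q _ f h2 hle
  exact (bq_stabilizes_iff hPr _ f hf y hyC).mpr h3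

/-- S4682 -/
theorem bq_abelian_stab {G : Type*} [Group G] [Fintype G] (p : ℕ) [hp : Fact p.Prime]
    (M : Ideal Cfsg.AlgInt) (hM : Cfsg.IsPModular p M) (B : Set (Cfsg.IrrCharacter G))
    (P : Subgroup G) (e : Set (Cfsg.IrrCharacter (Subgroup.centralizer (P : Set G))))
    (hmax : Cfsg.IsMaximalBrauerPair p M B P e)
    (hab : ∀ x ∈ P, ∀ y ∈ P, x * y = y * x)
    (Q : Subgroup G) (f : Set (Cfsg.IrrCharacter (Subgroup.centralizer (Q : Set G))))
    (hQP : Q ≤ P) (hf : Cfsg.IsPBlock M f) (hle : Cfsg.SubpairLE p M Q f P e)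
    (TQ : Subgroup G) (hTQ : ∀ y : G, y ∈ TQ ↔ y ∈ Subgroup.normalizer (Q : Set G) ∧
      Cfsg.StabilizesBlock (Subgroup.centralizer (Q : Set G)) f y)
    (TP : Subgroup G) (hTP : ∀ y : G, y ∈ TP ↔ y ∈ Subgroup.normalizer (P : Set G) ∧
      Cfsg.StabilizesBlock (Subgroup.centralizer (P : Set G)) e y) :
    (∀ x ∈ TQ, ∃ y ∈ TP, ∃ c ∈ Subgroup.centralizer (Q : Set G), x = y * c) ∧
    ((Subgroup.centralizer (Q : Set G)).subgroupOf TQ).index =
      ((TP ⊓ Subgroup.centralizer (Q : Set G)).subgroupOf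
        (TP ⊓ Subgroup.normalizer (Q : Set G))).index := by
  have hfac := bq_abelian_stab_factor p M hM B P e hmax hab Q f hQP hf hle TQ hTQ TP hTP
  refine ⟨hfac, ?_⟩
  obtain ⟨hTQN, hQTQ, hCTQ, hTQst⟩ := bq_stab_basic Q f TQ hTQ
  have hCN : Subgroup.centralizer (Q : Set G) ≤ Subgroup.normalizer (Q : Set G) :=
    Subgroup.centralizer_le_normalizer _
  have hATQ : TP ⊓ Subgroup.normalizer (Q : Set G) ≤ TQ := by
    intro y hy
    obtain ⟨h1, h2⟩ := (hTP y).mp hy.1
    exact (hTQ y).mpr ⟨hy.2, bq_stab_inf_le p M hM P e hmax.1.1 Q f hf hle y h1 h2 hy.2⟩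
  haveI hnorm : ((Subgroup.centralizer (Q : Set G)).subgroupOf TQ).Normal := by
    constructor
    intro n hn g
    rw [Subgroup.mem_subgroupOf] at hn ⊢
    have hg := bm_normalizer_centralizer Q (g : G) (hTQN g.2)
    have := (Subgroup.mem_normalizer_iff.mp hg (n : G)).mp hn
    simpa using this
  have hsup : (TP ⊓ Subgroup.normalizer (Q : Set G)).subgroupOf TQ ⊔
      (Subgroup.centralizer (Q : Set G)).subgroupOf TQ = ⊤ := by
    rw [eq_top_iff]
    intro t _
    obtain ⟨y, hy, c, hc, hyc⟩ := hfac (t : G) t.2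
    have hyN : y ∈ Subgroup.normalizer (Q : Set G) := by
      have : y = (t : G) * c⁻¹ := by rw [hyc]; group
      rw [this]
      exact Subgroup.mul_mem _ (hTQN t.2) (Subgroup.inv_mem _ (hCN hc))
    have hyA : y ∈ TP ⊓ Subgroup.normalizer (Q : Set G) := ⟨hy, hyN⟩
    have ht : t = (⟨y, hATQ hyA⟩ : TQ) * (⟨c, hCTQ hc⟩ : TQ) := by
      apply Subtype.ext
      exact hyc
    rw [ht]
    exact Subgroup.mul_mem_sup (Subgroup.mem_subgroupOf.mpr hyA) (Subgroup.mem_subgroupOf.mpr hc)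
  have h1 : ((Subgroup.centralizer (Q : Set G)).subgroupOf TQ).index =
      ((Subgroup.centralizer (Q : Set G)).subgroupOf TQ).relIndex
        ((TP ⊓ Subgroup.normalizer (Q : Set G)).subgroupOf TQ) := by
    rw [← Subgroup.relIndex_sup_right, hsup, Subgroup.relIndex_top_right]
  rw [h1, Subgroup.relIndex_subgroupOf hATQ, ← Subgroup.inf_relIndex_right]
  have h2 : Subgroup.centralizer (Q : Set G) ⊓ (TP ⊓ Subgroup.normalizer (Q : Set G)) =
      TP ⊓ Subgroup.centralizer (Q : Set G) := by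
    ext u
    simp only [Subgroup.mem_inf]
    constructor
    · rintro ⟨h1, h2, _⟩
      exact ⟨h2, h1⟩
    · rintro ⟨h1, h2⟩
      exact ⟨h2, h1, hCN h2⟩
  rw [h2]
  rfl

end

end Cfsg.Agent.Lib.Helper25
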