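import Mathlib
import Cfsg.Agent.Lib.Helper25.BrauerPairAbelian
import Cfsg.Agent.Lib.Helper24.StabIndex2

/-!
Abelian defect groups: nilpotent iff trivial inertial quotient (S4687). bq_defect_of_le_cent, bq_mem_of_pow_coprime, bq_stabilizes_iff_forall, bq_abelian_nilpotent_iff (uses Helper24.StabIndex2 si_main for the inertial index being prime to p).
-/

set_option autoImplicit false
set_option linter.style.haveILetI false
set_option linter.unusedVariables false
set_option warn.classDefReducibility false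
set_option maxHeartbeats 1600000

namespace Cfsg.Agent.Lib.Helper25
open Cfsg.Agent.Lib.Helper24
open Cfsg.Agent.Lib.helper2
open Cfsg.Agent.Lib.helper7
open scoped ComplexConjugate
section

/-- if `Q ≤ P ≤ C_G(Q)` and `(Q, f) ≤ (P, e)` with `(P, e)` maximal, then `P` is a defect group
of `f` -/
theorem bq_defect_of_le_cent {G : Type*} [Group G] [Fintype G] (p : ℕ) [hp : Fact p.Prime]
    (M : Ideal Cfsg.AlgInt) (hM : Cfsg.IsPModular p M) (B : Set (Cfsg.IrrCharacter G))
    (P : Subgroup G) (e : Set (Cfsg.IrrCharacter (Subgroup.centralizer (P : Set G))))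
    (hmax : Cfsg.IsMaximalBrauerPair p M B P e)
    (Q : Subgroup G) (f : Set (Cfsg.IrrCharacter (Subgroup.centralizer (Q : Set G))))
    (hQP : Q ≤ P) (hPC : P ≤ Subgroup.centralizer (Q : Set G)) (hf : Cfsg.IsPBlock M f)
    (hle : Cfsg.SubpairLE p M Q f P e) :
    Cfsg.IsDefectGroup p M f (P.subgroupOf (Subgroup.centralizer (Q : Set G))) := by
  have hPe : Cfsg.IsBrauerPair p M P e := hmax.1.1
  obtain ⟨D, _, _, hdefD, hSD⟩ := bq_cent_le_defect p M hM P Q e f hPe hQP hle
  rw [inf_eq_left.mpr hPC] at hSD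
  obtain ⟨x, hlex, hdefx⟩ := bq_cent_defect_conj p M hM B P Q e f hmax hQP hf hle
  have hc1 := bq_defect_card_conj p M hM Q x f hf D _ hdefD hdefx
  have hc2 : Nat.card ((P ⊓ Subgroup.centralizer
      ((Q.map (MulAut.conj x).toMonoidHom) : Set G)).subgroupOf
      (Subgroup.centralizer ((Q.map (MulAut.conj x).toMonoidHom) : Set G))) ≤ Nat.card P := by
    rw [bq_card_subgroupOf_of_le _ _ inf_le_right]
    exact Subgroup.card_le_of_le inf_le_left
  have hSD' : P.subgroupOf (Subgroup.centralizer (Q : Set G)) = D := by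
    apply Subgroup.eq_of_le_of_card_ge hSD
    rw [hc1, bq_card_subgroupOf_of_le _ _ hPC]
    exact hc2
  rw [hSD']
  exact hdefD

theorem bq_mem_of_pow_coprime {G : Type*} [Group G] (C : Subgroup G) (y : G) (a b : ℕ)
    (hab : Nat.Coprime a b) (ha : y ^ a ∈ C) (hb : y ^ b ∈ C) : y ∈ C := by
  have h1 : ((Nat.gcd a b : ℕ) : ℤ) = a * Nat.gcdA a b + b * Nat.gcdB a b := Nat.gcd_eq_gcd_ab a b
  rw [hab.gcd_eq_one] at h1
  have h2 : y = (y ^ a) ^ (Nat.gcdA a b) * (y ^ b) ^ (Nat.gcdB a b) := by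
    rw [← zpow_natCast y a, ← zpow_natCast y b, ← zpow_mul, ← zpow_mul, ← zpow_add, ← h1]
    simp
  rw [h2]
  exact C.mul_mem (C.zpow_mem ha _) (C.zpow_mem hb _)

/-- the two forms of the stabilizer condition -/
theorem bq_stabilizes_iff_forall {G : Type*} [Group G] (K : Subgroup G)
    (e : Set (Cfsg.IrrCharacter K)) (g : G) (hg : g ∈ Subgroup.normalizer (K : Set G)) :
    Cfsg.StabilizesBlock K e g ↔ ∀ θ ∈ e, ∀ θ' : Cfsg.IrrCharacter K,
      (∀ h h' : K, (h' : G) = g * h * g⁻¹ → (θ' : K → ℂ) h' = (θ : K → ℂ) h) → θ' ∈ e := by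
  constructor
  · rintro ⟨_, hst⟩ θ hθ θ' hθ'
    obtain ⟨χ', hχ', hconj⟩ := hst θ hθ
    have : θ' = χ' := by
      apply Subtype.ext
      funext k'
      have hk : g⁻¹ * (k' : G) * g ∈ K := by
        have := (Subgroup.mem_normalizer_iff.mp (Subgroup.inv_mem _ hg) (k' : G)).mp k'.2
        simpa using this
      have e1 : (k' : G) = g * ((⟨_, hk⟩ : K) : G) * g⁻¹ := by
        show (k' : G) = g * (g⁻¹ * (k' : G) * g) * g⁻¹
        group
      rw [hθ' ⟨_, hk⟩ k' e1, hconj ⟨_, hk⟩ k' e1]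
    rw [this]
    exact hχ'
  · intro h
    refine ⟨hg, fun χ hχ => ⟨bq_conjIrr K g hg χ, ?_, ?_⟩⟩
    · apply h χ hχ
      intro k k' hkk'
      exact bq_conjIrr_conj K g hg χ k k' hkk'
    · intro k k' hkk'
      exact bq_conjIrr_conj K g hg χ k k' hkk'

end

section

/-- S4687 -/
theorem bq_abelian_nilpotent_iff {G : Type*} [Group G] [Fintype G] (p : ℕ) [hp : Fact p.Prime]
    (M : Ideal Cfsg.AlgInt) (hM : Cfsg.IsPModular p M) (B : Set (Cfsg.IrrCharacter G))
    (P : Subgroup G) (e : Set (Cfsg.IrrCharacter (Subgroup.centralizer (P : Set G))))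
    (hmax : Cfsg.IsMaximalBrauerPair p M B P e)
    (hab : ∀ x ∈ P, ∀ y ∈ P, x * y = y * x) :
    Cfsg.IsNilpotentBlock p M B ↔ ∀ x : G, x ∈ Subgroup.normalizer (P : Set G) →
      Cfsg.StabilizesBlock (Subgroup.centralizer (P : Set G)) e x →
      x ∈ Subgroup.centralizer (P : Set G) := by
  classical
  have hPr := hM.2.1.isPrime
  have hPe : Cfsg.IsBrauerPair p M P e := hmax.1.1
  have hP : IsPGroup p P := hPe.1
  have he : Cfsg.IsPBlock M e := hPe.2
  have hPC : P ≤ Subgroup.centralizer (P : Set G) := by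
    intro u hu
    rw [Subgroup.mem_centralizer_iff]
    intro q hq
    exact hab q hq u hu
  have hNK : Subgroup.normalizer (P : Set G) ≤ Subgroup.normalizer
      ((Subgroup.centralizer (P : Set G) : Subgroup G) : Set G) :=
    fun x hx => bm_normalizer_centralizer P x hx
  constructor
  · intro hnil x hxN hxst
    haveI : Fintype (Subgroup.centralizer (P : Set G)) := Fintype.ofFinite _
    set T : Subgroup G := Subgroup.normalizer (P : Set G) ⊓
      bq_stabSubgroup (Subgroup.centralizer (P : Set G)) e with hTdef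
    have hT : ∀ g : G, g ∈ T ↔ (g ∈ Subgroup.normalizer (P : Set G) ∧
        ∀ θ ∈ e, ∀ θ' : Cfsg.IrrCharacter (Subgroup.centralizer (P : Set G)),
          (∀ h h' : Subgroup.centralizer (P : Set G), (h' : G) = g * h * g⁻¹ →
            (θ' : _ → ℂ) h' = (θ : _ → ℂ) h) → θ' ∈ e) := by
      intro g
      rw [hTdef, Subgroup.mem_inf, bq_mem_stabSubgroup hPr _ e he]
      constructor
      · rintro ⟨h1, h2⟩
        exact ⟨h1, (bq_stabilizes_iff_forall _ e g (hNK h1)).mp h2⟩
      · rintro ⟨h1, h2⟩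
        exact ⟨h1, (bq_stabilizes_iff_forall _ e g (hNK h1)).mpr h2⟩
    have hH : Subgroup.centralizer (P : Set G) = P ⊔ Subgroup.centralizer (P : Set G) :=
      (sup_eq_right.mpr hPC).symm
    have hbP := bq_defect_of_le_cent p M hM B P e hmax P e le_rfl hPC he
      Relation.ReflTransGen.refl
    have hind := tp_pair_induced p M hM P B e hmax.1
    have hdefB := bq_max_defect p M hM B P e hmax
    have hidx := (si_main p M hM P hP _ hH e he hbP B hind T hT).mp hdefB
    have hxT : x ∈ T := ⟨hxN, (bq_mem_stabSubgroup hPr _ e he x).mpr hxst⟩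
    have hTN : T ≤ Subgroup.normalizer (P : Set G) := inf_le_left
    haveI hnorm : ((Subgroup.centralizer (P : Set G)).subgroupOf T).Normal := by
      constructor
      intro n hn g
      rw [Subgroup.mem_subgroupOf] at hn ⊢
      have hg := hNK (hTN g.2)
      have := (Subgroup.mem_normalizer_iff.mp hg (n : G)).mp hn
      simpa using this
    have h2 : x ^ (Subgroup.centralizer (P : Set G)).relIndex T ∈
        Subgroup.centralizer (P : Set G) := by
      have := Subgroup.pow_index_mem ((Subgroup.centralizer (P : Set G)).subgroupOf T) ⟨x, hxT⟩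
      rw [Subgroup.mem_subgroupOf] at this
      have h' : ((⟨x, hxT⟩ : T) ^ ((Subgroup.centralizer (P : Set G)).subgroupOf T).index : T) =
          (⟨x ^ ((Subgroup.centralizer (P : Set G)).subgroupOf T).index, T.pow_mem hxT _⟩ : T) := by
        apply Subtype.ext
        simp
      rw [h'] at this
      exact this
    set a := (orderOf x).factorization p with ha
    have hxa : x ^ (p ^ a) ∈ T := T.pow_mem hxT _
    have hreg : Cfsg.IsPRegular p (x ^ (p ^ a)) := by
      unfold Cfsg.IsPRegular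
      rw [orderOf_pow, Nat.gcd_eq_right (Nat.ordProj_dvd _ _)]
      exact Nat.not_dvd_ordCompl hp.out (orderOf_pos x).ne'
    have h1 : x ^ (p ^ a) ∈ Subgroup.centralizer (P : Set G) :=
      hnil.2 P e hmax.1 _ hxa.1
        ((bq_mem_stabSubgroup hPr _ e he _).mp hxa.2) hreg
    exact bq_mem_of_pow_coprime _ x _ _
      (Nat.Coprime.pow_left a ((Nat.Prime.coprime_iff_not_dvd hp.out).mpr hidx)) h1 h2
  · intro h
    refine ⟨hmax.1.2.1, ?_⟩
    intro Q₀ f₀ hpair x₀ hx₀N hx₀st _
    obtain ⟨z, hz⟩ := bq_conj_into_max p M hM B P Q₀ e f₀ hmax hpair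
    have hQP : Q₀.map (MulAut.conj z).toMonoidHom ≤ P := bq_chain_le p M _ _ hz
    have hf := bq_conjBlock_isBlock M Q₀ z f₀ hpair.1.2
    have hxN : z * x₀ * z⁻¹ ∈ Subgroup.normalizer
        ((Q₀.map (MulAut.conj z).toMonoidHom : Subgroup G) : Set G) := by
      have := Subgroup.le_normalizer_map (MulAut.conj z).toMonoidHom
        (show (MulAut.conj z).toMonoidHom x₀ ∈ (Subgroup.normalizer (Q₀ : Set G)).map _ from
          ⟨x₀, hx₀N, rfl⟩)
      simpa only [MulEquiv.coe_toMonoidHom, MulAut.conj_apply] using this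
    have hxst := bq_conj_stabilizes Q₀ z x₀ f₀ hx₀st
    obtain ⟨c, hcC, hc⟩ := bq_abelian_frattini p M hM B P e hmax hab _ _ hQP hf hz _ hxN hxst
    obtain ⟨h1, h2⟩ := bq_stab_of_conjIdx hPr P e he _ hc
    have h3 := h _ h1 h2
    have h4 : c * (z * x₀ * z⁻¹) ∈ Subgroup.centralizer
        ((Q₀.map (MulAut.conj z).toMonoidHom : Subgroup G) : Set G) :=
      Subgroup.centralizer_le (show ((Q₀.map (MulAut.conj z).toMonoidHom : Subgroup G) : Set G) ⊆ P
        from hQP) h3
    have h5 : z * x₀ * z⁻¹ ∈ Subgroup.centralizer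
        ((Q₀.map (MulAut.conj z).toMonoidHom : Subgroup G) : Set G) := by
      have := Subgroup.mul_mem _ (Subgroup.inv_mem _ hcC) h4
      simpa using this
    have h6 := (bq_mem_centConj Q₀ z _).mp h5
    have h7 : z⁻¹ * (z * x₀ * z⁻¹) * z = x₀ := by group
    rw [h7] at h6
    exact h6

end

end Cfsg.Agent.Lib.Helper25
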