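import Mathlib
import Cfsg.Agent.Lib.helper7.BD.Defs

/-! Project BD (S0960 / S4441), piece COIND: the coinduced module with its evaluation and
its canonical section. -/

set_option autoImplicit false
set_option linter.unusedVariables false
set_option linter.unusedSectionVars false
set_option linter.style.haveILetI false

namespace Cfsg.Agent.Lib.helper7.BD

universe u v w

section B
variable {F : Type*} [Field F] {G : Type u} [Group G] [Fintype G]

open Classical in
/-- the canonical section `S → Coind` : `s ↦ (g ↦ σ(g) s` if `g ∈ N`, `0` otherwise) -/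
noncomputable def bdcoind_iota (N : Subgroup G) {S : Type w} [AddCommGroup S] [Module F S]
    (σ : Representation F ↥N S) : S →ₗ[F] ↥(Representation.coindV N.subtype σ) where
  toFun s := ⟨fun g => if h : g ∈ N then σ ⟨g, h⟩ s else 0, by
    rw [Representation.mem_coindV]
    intro n g
    by_cases hg : g ∈ N
    · have hng : (N.subtype n) * g ∈ N := N.mul_mem n.2 hg
      rw [dif_pos hng, dif_pos hg]
      have : (⟨N.subtype n * g, hng⟩ : ↥N) = n * ⟨g, hg⟩ := Subtype.ext rfl
      rw [this, map_mul]
      rfl
    · have hng : ¬ (N.subtype n) * g ∈ N := by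
        intro h
        apply hg
        have := N.mul_mem (N.inv_mem n.2) h
        simpa using this
      rw [dif_neg hng, dif_neg hg, map_zero]⟩
  map_add' s t := by
    apply Subtype.ext
    funext g
    show (if h : g ∈ N then σ ⟨g, h⟩ (s + t) else 0) =
      (if h : g ∈ N then σ ⟨g, h⟩ s else 0) + (if h : g ∈ N then σ ⟨g, h⟩ t else 0)
    by_cases hg : g ∈ N
    · rw [dif_pos hg, dif_pos hg, dif_pos hg, map_add]
    · rw [dif_neg hg, dif_neg hg, dif_neg hg, add_zero]
  map_smul' c s := by
    apply Subtype.ext
    funext g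
    show (if h : g ∈ N then σ ⟨g, h⟩ (c • s) else 0) =
      c • (if h : g ∈ N then σ ⟨g, h⟩ s else 0)
    by_cases hg : g ∈ N
    · rw [dif_pos hg, dif_pos hg, map_smul]
    · rw [dif_neg hg, dif_neg hg, smul_zero]

open Classical in
theorem bdcoind_iota_apply (N : Subgroup G) {S : Type w} [AddCommGroup S] [Module F S]
    (σ : Representation F ↥N S) (s : S) (g : G) :
    (bdcoind_iota N σ s : G → S) g = if h : g ∈ N then σ ⟨g, h⟩ s else 0 := rfl

/-- evaluation at `1` -/
def bdcoind_eps (N : Subgroup G) {S : Type w} [AddCommGroup S] [Module F S]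
    (σ : Representation F ↥N S) : ↥(Representation.coindV N.subtype σ) →ₗ[F] S :=
  (LinearMap.proj (1 : G)) ∘ₗ (Representation.coindV N.subtype σ).subtype

theorem bdcoind_eps_apply (N : Subgroup G) {S : Type w} [AddCommGroup S] [Module F S]
    (σ : Representation F ↥N S) (φ : ↥(Representation.coindV N.subtype σ)) :
    bdcoind_eps N σ φ = (φ : G → S) 1 := rfl

theorem bdcoind_coind_apply (N : Subgroup G) {S : Type w} [AddCommGroup S] [Module F S]
    (σ : Representation F ↥N S) (g h : G) (φ : ↥(Representation.coindV N.subtype σ)) :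
    ((Representation.coind N.subtype σ g φ : ↥(Representation.coindV N.subtype σ)) : G → S) h =
      (φ : G → S) (h * g) := rfl

/-- COIND : a `G`-module `I` with `N`-maps `ε : I → S`, `ι : S → I`, `ε ∘ ι = id` (the coinduced module). -/
theorem exists_coind (N : Subgroup G) {S : Type w} [AddCommGroup S] [Module F S] [FiniteDimensional F S]
    (σ : Representation F ↥N S) :
    ∃ (I : Type (max u w)) (_ : AddCommGroup I) (_ : Module F I) (_ : FiniteDimensional F I)
      (ρ : Representation F G I) (ε : I →ₗ[F] S) (ι : S →ₗ[F] I),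
      IsHom (ρ.comp N.subtype) σ ε ∧ IsHom σ (ρ.comp N.subtype) ι ∧ ε ∘ₗ ι = LinearMap.id := by
  classical
  refine ⟨↥(Representation.coindV N.subtype σ), inferInstance, inferInstance, inferInstance,
    Representation.coind N.subtype σ, bdcoind_eps N σ, bdcoind_iota N σ, ?_, ?_, ?_⟩
  · rw [isHom_iff]
    intro n φ
    show bdcoind_eps N σ (Representation.coind N.subtype σ (N.subtype n) φ) = σ n (bdcoind_eps N σ φ)
    rw [bdcoind_eps_apply, bdcoind_eps_apply, bdcoind_coind_apply, one_mul]
    have := (Representation.mem_coindV N.subtype σ (φ : G → S)).1 φ.2 n 1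
    rw [mul_one] at this
    exact this
  · rw [isHom_iff]
    intro n s
    show bdcoind_iota N σ (σ n s) = Representation.coind N.subtype σ (N.subtype n) (bdcoind_iota N σ s)
    apply Subtype.ext
    funext g
    rw [bdcoind_coind_apply, bdcoind_iota_apply, bdcoind_iota_apply]
    by_cases hg : g ∈ N
    · have hgn : g * N.subtype n ∈ N := N.mul_mem hg n.2
      rw [dif_pos hg, dif_pos hgn]
      have : (⟨g * N.subtype n, hgn⟩ : ↥N) = ⟨g, hg⟩ * n := Subtype.ext rfl
      rw [this, map_mul]
      rfl
    · have hgn : ¬ g * N.subtype n ∈ N := by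
        intro h
        apply hg
        have := N.mul_mem h (N.inv_mem n.2)
        simpa using this
      rw [dif_neg hg, dif_neg hgn]
  · refine LinearMap.ext fun s => ?_
    rw [LinearMap.comp_apply, bdcoind_eps_apply, bdcoind_iota_apply, dif_pos N.one_mem,
      LinearMap.id_apply]
    have : (⟨1, N.one_mem⟩ : ↥N) = 1 := rfl
    rw [this, map_one]
    rfl

end B

end Cfsg.Agent.Lib.helper7.BD
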