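import Mathlib
import Cfsg.Agent.Lib.helper7.BD.Defs

/-! Project BD (S0960 / S4441), piece MACK: Mackey for the TI situation,
`Tr_N^G φ - φ` is a trace from the trivial subgroup of `P`. -/

set_option autoImplicit false
set_option linter.unusedVariables false
set_option linter.unusedSectionVars false
set_option linter.style.haveILetI false

namespace Cfsg.Agent.Lib.helper7.BD

universe u v w

section C
variable {F : Type*} [Field F] {G : Type u} [Group G] [Fintype G]
variable {V : Type*} [AddCommGroup V] [Module F V] {W : Type*} [AddCommGroup W] [Module F W]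

/-- the conjugate `σ(g) φ ρ(g)⁻¹` -/
def bdmack_c (ρ : Representation F G V) (σ : Representation F G W) (φ : V →ₗ[F] W) (g : G) :
    V →ₗ[F] W :=
  σ g ∘ₗ φ ∘ₗ ρ g⁻¹

theorem bdmack_c_apply (ρ : Representation F G V) (σ : Representation F G W) (φ : V →ₗ[F] W)
    (g : G) (v : V) : bdmack_c ρ σ φ g v = σ g (φ (ρ g⁻¹ v)) := rfl

theorem bdmack_c_mul_right (N : Subgroup G) (ρ : Representation F G V) (σ : Representation F G W)
    (φ : V →ₗ[F] W) (hφ : IsHom (ρ.comp N.subtype) (σ.comp N.subtype) φ) (g n : G) (hn : n ∈ N) :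
    bdmack_c ρ σ φ (g * n) = bdmack_c ρ σ φ g := by
  refine LinearMap.ext fun v => ?_
  rw [bdmack_c_apply, bdmack_c_apply, mul_inv_rev, map_mul, map_mul, Module.End.mul_apply,
    Module.End.mul_apply]
  congr 1
  have h1 : φ (ρ n (ρ n⁻¹ (ρ g⁻¹ v))) = σ n (φ (ρ n⁻¹ (ρ g⁻¹ v))) :=
    hφ.apply ⟨n, hn⟩ (ρ n⁻¹ (ρ g⁻¹ v))
  have h2 : ρ n (ρ n⁻¹ (ρ g⁻¹ v)) = ρ g⁻¹ v := by
    rw [← Module.End.mul_apply, ← map_mul, mul_inv_cancel, map_one]
    rfl
  rw [← h1, h2]

theorem bdmack_c_conj (ρ : Representation F G V) (σ : Representation F G W) (φ : V →ₗ[F] W)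
    (x g : G) : σ x ∘ₗ bdmack_c ρ σ φ g ∘ₗ ρ x⁻¹ = bdmack_c ρ σ φ (x * g) := by
  refine LinearMap.ext fun v => ?_
  rw [LinearMap.comp_apply, LinearMap.comp_apply, bdmack_c_apply, bdmack_c_apply, mul_inv_rev,
    map_mul, map_mul, Module.End.mul_apply, Module.End.mul_apply]

/-- the conjugate as a function of the coset -/
noncomputable def bdmack_cbar (N : Subgroup G) (ρ : Representation F G V) (σ : Representation F G W)
    (φ : V →ₗ[F] W) (q : G ⧸ N) : V →ₗ[F] W :=
  bdmack_c ρ σ φ (Quotient.out q)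

theorem bdmack_cbar_mk (N : Subgroup G) (ρ : Representation F G V) (σ : Representation F G W)
    (φ : V →ₗ[F] W) (hφ : IsHom (ρ.comp N.subtype) (σ.comp N.subtype) φ) (g : G) :
    bdmack_cbar N ρ σ φ (QuotientGroup.mk g) = bdmack_c ρ σ φ g := by
  obtain ⟨n, hn⟩ := QuotientGroup.mk_out_eq_mul N g
  unfold bdmack_cbar
  rw [hn]
  exact bdmack_c_mul_right N ρ σ φ hφ g n n.2

theorem bdmack_cbar_smul (N : Subgroup G) (ρ : Representation F G V) (σ : Representation F G W)
    (φ : V →ₗ[F] W) (hφ : IsHom (ρ.comp N.subtype) (σ.comp N.subtype) φ) (x : G) (q : G ⧸ N) :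
    σ x ∘ₗ bdmack_cbar N ρ σ φ q ∘ₗ ρ x⁻¹ = bdmack_cbar N ρ σ φ (x • q) := by
  induction q using QuotientGroup.induction_on with
  | H g =>
    rw [MulAction.Quotient.smul_mk, bdmack_cbar_mk N ρ σ φ hφ, bdmack_cbar_mk N ρ σ φ hφ,
      bdmack_c_conj, smul_eq_mul]

theorem bdmack_cbar_one (N : Subgroup G) (ρ : Representation F G V) (σ : Representation F G W)
    (φ : V →ₗ[F] W) (hφ : IsHom (ρ.comp N.subtype) (σ.comp N.subtype) φ) :
    bdmack_cbar N ρ σ φ (QuotientGroup.mk 1) = φ := by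
  rw [bdmack_cbar_mk N ρ σ φ hφ]
  refine LinearMap.ext fun v => ?_
  rw [bdmack_c_apply, inv_one, map_one, map_one]
  rfl

/-- `P` fixes the trivial coset -/
theorem bdmack_smul_one {p : ℕ} {P N : Subgroup G} (h : TISetup p P N) (x : G) (hx : x ∈ P) :
    x • (QuotientGroup.mk 1 : G ⧸ N) = QuotientGroup.mk 1 := by
  rw [MulAction.Quotient.smul_mk, smul_eq_mul, mul_one, QuotientGroup.eq, mul_one]
  exact N.inv_mem (h.P_le_N hx)

/-- `P` acts freely on the nontrivial cosets -/
theorem bdmack_free {p : ℕ} [Fact p.Prime] {P N : Subgroup G} (h : TISetup p P N) (x : ↥P)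
    (q : G ⧸ N) (hq : q ≠ QuotientGroup.mk 1) (hx : (x : G) • q = q) : x = 1 := by
  by_contra hx1
  apply hq
  induction q using QuotientGroup.induction_on with
  | H g =>
    rw [MulAction.Quotient.smul_mk, smul_eq_mul, QuotientGroup.eq] at hx
    have hx' : g⁻¹ * (x : G) * g ∈ N := by
      have := N.inv_mem hx
      simpa [mul_assoc] using this
    have htop : Subgroup.zpowers x = ⊤ := zpowers_eq_top_of_prime_card h.card_P hx1
    have hg : g ∈ N := by
      apply h.ti g
      intro y hy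
      have hy' : (⟨y, hy⟩ : ↥P) ∈ Subgroup.zpowers x := by rw [htop]; trivial
      obtain ⟨k, hk⟩ := Subgroup.mem_zpowers_iff.1 hy'
      have hyk : y = (x : G) ^ k := by
        have := congrArg Subtype.val hk
        simpa using this.symm
      have hconj : g⁻¹ * y * g = (g⁻¹ * (x : G) * g) ^ k := by
        rw [hyk]
        have := map_zpow (MulAut.conj g⁻¹) (x : G) k
        simp only [MulAut.conj_apply, inv_inv] at this
        exact this
      rw [hconj]
      exact N.zpow_mem hx' k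
    rw [QuotientGroup.eq, mul_one]
    exact N.inv_mem hg

open Classical in
/-- a partition of unity for the free `P`-action on the cosets -/
noncomputable def bdmack_w (P N : Subgroup G) (q : G ⧸ N) : F :=
  if Quotient.out (Quotient.mk (MulAction.orbitRel ↥P (G ⧸ N)) q) = q then 1 else 0

theorem bdmack_rep_mem (P N : Subgroup G) (q : G ⧸ N) :
    ∃ x : ↥P, (x : G) • q = Quotient.out (Quotient.mk (MulAction.orbitRel ↥P (G ⧸ N)) q) := by
  have h1 : (MulAction.orbitRel ↥P (G ⧸ N)).r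
      (Quotient.out (Quotient.mk (MulAction.orbitRel ↥P (G ⧸ N)) q)) q :=
    Quotient.exact (Quotient.out_eq _)
  rw [MulAction.orbitRel_apply] at h1
  obtain ⟨x, hx⟩ := h1
  exact ⟨x, hx⟩

theorem bdmack_rep_smul (P N : Subgroup G) (x : ↥P) (q : G ⧸ N) :
    Quotient.mk (MulAction.orbitRel ↥P (G ⧸ N)) ((x : G) • q) =
      Quotient.mk (MulAction.orbitRel ↥P (G ⧸ N)) q := by
  apply Quotient.sound
  show (MulAction.orbitRel ↥P (G ⧸ N)).r _ _
  rw [MulAction.orbitRel_apply]
  exact ⟨x, rfl⟩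

theorem bdmack_sum_w {p : ℕ} [Fact p.Prime] {P N : Subgroup G} (h : TISetup p P N) [Fintype ↥P]
    (q : G ⧸ N) (hq : q ≠ QuotientGroup.mk 1) :
    ∑ x : ↥P, (bdmack_w (F := F) P N (((x : G)) • q)) = 1 := by
  classical
  obtain ⟨x₀, hx₀⟩ := bdmack_rep_mem P N q
  have key : ∀ x : ↥P, bdmack_w (F := F) P N ((x : G) • q) = if x = x₀ then 1 else 0 := by
    intro x
    unfold bdmack_w
    rw [bdmack_rep_smul P N x q, ← hx₀]
    by_cases hxx : x = x₀
    · rw [if_pos hxx, hxx, if_pos rfl]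
    · rw [if_neg hxx, if_neg]
      intro heq
      apply hxx
      have h1 : ((x₀⁻¹ * x : ↥P) : G) • q = q := by
        rw [Subgroup.coe_mul, mul_smul, ← heq, ← mul_smul, Subgroup.coe_inv, inv_mul_cancel, one_smul]
      have h2 := bdmack_free h (x₀⁻¹ * x) q hq h1
      exact (inv_mul_eq_one.1 h2).symm
  rw [Finset.sum_congr rfl fun x _ => key x, Finset.sum_ite_eq' Finset.univ x₀]
  simp

/-- MACK -/
theorem trSub_sub_self {p : ℕ} [Fact p.Prime] [CharP F p] {P N : Subgroup G} (h : TISetup p P N)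
    [Fintype ↥P] [Fintype (G ⧸ N)] (ρ : Representation F G V) (σ : Representation F G W)
    (φ : V →ₗ[F] W) (hφ : IsHom (ρ.comp N.subtype) (σ.comp N.subtype) φ) :
    IsProjHom (ρ.comp P.subtype) (σ.comp P.subtype) (trSub N ρ σ φ - φ) := by
  classical
  set q₀ : G ⧸ N := QuotientGroup.mk 1 with hq₀
  set cb := bdmack_cbar N ρ σ φ with hcb
  -- the relative trace minus `φ` is the sum over the nontrivial cosets
  have h1 : trSub N ρ σ φ - φ = ∑ q ∈ Finset.univ.erase q₀, cb q := by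
    have h2 : trSub N ρ σ φ = ∑ q : G ⧸ N, cb q := rfl
    rw [h2, ← Finset.add_sum_erase Finset.univ cb (Finset.mem_univ q₀), hcb, hq₀,
      bdmack_cbar_one N ρ σ φ hφ, add_sub_cancel_left]
  set ψ : V →ₗ[F] W := ∑ q ∈ Finset.univ.erase q₀, bdmack_w (F := F) P N q • cb q with hψ
  refine ⟨ψ, ?_⟩
  rw [h1]
  -- insert the partition of unity
  have h3 : ∑ q ∈ Finset.univ.erase q₀, cb q =
      ∑ q ∈ Finset.univ.erase q₀, ∑ x : ↥P, bdmack_w (F := F) P N (((x⁻¹ : ↥P) : G) • q) • cb q := by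
    refine Finset.sum_congr rfl fun q hq => ?_
    rw [← Finset.sum_smul]
    have hq' : q ≠ q₀ := (Finset.mem_erase.1 hq).1
    have h4 : ∑ x : ↥P, bdmack_w (F := F) P N (((x⁻¹ : ↥P) : G) • q) = 1 := by
      rw [← bdmack_sum_w (F := F) h q hq']
      exact Fintype.sum_equiv (Equiv.inv ↥P) _ _ fun x => rfl
    rw [h4, one_smul]
  rw [h3, Finset.sum_comm]
  unfold tr1
  refine Finset.sum_congr rfl fun x _ => ?_
  -- reindex the inner sum by `q = x • q'`
  have h5 : ∑ q ∈ Finset.univ.erase q₀, bdmack_w (F := F) P N (((x⁻¹ : ↥P) : G) • q) • cb q =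
      ∑ q' ∈ Finset.univ.erase q₀, bdmack_w (F := F) P N q' • cb ((x : G) • q') := by
    symm
    refine Finset.sum_bij (fun q' _ => (x : G) • q') ?_ ?_ ?_ ?_
    · intro q' hq'
      rw [Finset.mem_erase] at hq' ⊢
      refine ⟨?_, Finset.mem_univ _⟩
      intro heq
      apply hq'.1
      have h6 : (x : G)⁻¹ • ((x : G) • q') = (x : G)⁻¹ • q₀ := by rw [heq]
      rw [inv_smul_smul] at h6
      rw [h6, hq₀]
      exact bdmack_smul_one h _ (P.inv_mem x.2)
    · intro a _ b _ hab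
      exact smul_left_cancel _ hab
    · intro q hq
      refine ⟨(x : G)⁻¹ • q, ?_, smul_inv_smul _ _⟩
      rw [Finset.mem_erase] at hq ⊢
      refine ⟨?_, Finset.mem_univ _⟩
      intro heq
      apply hq.1
      have h6 : (x : G) • ((x : G)⁻¹ • q) = (x : G) • q₀ := by rw [heq]
      rw [smul_inv_smul] at h6
      rw [h6, hq₀]
      exact bdmack_smul_one h _ x.2
    · intro q' _
      rw [Subgroup.coe_inv, inv_smul_smul]
  rw [h5, hψ]
  refine LinearMap.ext fun v => ?_
  rw [LinearMap.comp_apply, LinearMap.comp_apply, LinearMap.sum_apply, LinearMap.sum_apply,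
    map_sum]
  refine Finset.sum_congr rfl fun q' _ => ?_
  rw [LinearMap.smul_apply, LinearMap.smul_apply, map_smul]
  congr 1
  have h7 := LinearMap.congr_fun (bdmack_cbar_smul N ρ σ φ hφ (x : G) q') v
  rw [← h7]
  rfl

end C

end Cfsg.Agent.Lib.helper7.BD
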