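import Mathlib
import Cfsg.Agent.Lib.Helper29.LeoFaithful
import Cfsg.Agent.Lib.helper15.BH.Defs
import Cfsg.Agent.Lib.Helper25.CharBasic

/-!
# Project BH (S4503), piece E1 : inner products of `χ conj χ - χ conj χ'` with a function constant on
the `p`-singular elements
-/

set_option autoImplicit false
set_option linter.unusedVariables false
set_option linter.unusedSectionVars false
open scoped ComplexConjugate
open Classical

namespace Cfsg.Agent.Lib.helper15.BH

open Cfsg.Agent.Lib.helper7 Cfsg.Agent.Lib.helper2 Cfsg.Agent.Lib.Helper25 Cfsg.Agent.Lib.Helper29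

universe u

section abstract

variable {G : Type u} [Group G] [Fintype G]
variable {p : ℕ} {C N P : Subgroup G} {hPC : P ≤ C} {π : ↥C →* ↥P}

/-- E1 : inner products of `χ conj χ - χ conj χ'` with a function constant on the `p`-singular elements -/
theorem inner_diff_of_const_sing (p : ℕ) (χ χ' : Cfsg.IrrCharacter G) (hne : χ' ≠ χ)
    (hreg : ∀ g : G, ¬ p ∣ orderOf g → (χ' : G → ℂ) g = (χ : G → ℂ) g) (F : G → ℂ) (a : ℂ)
    (hF : ∀ g : G, p ∣ orderOf g → F g = a) :
    Cfsg.classInner (fun g => (χ : G → ℂ) g * conj ((χ : G → ℂ) g)) F -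
      Cfsg.classInner (fun g => (χ : G → ℂ) g * conj ((χ' : G → ℂ) g)) F = conj a := by
  have h1 := Cfsg.Agent.Lib.Helper25.irr_classInner χ χ
  have h2 := Cfsg.Agent.Lib.Helper25.irr_classInner χ χ'
  rw [if_pos rfl] at h1
  rw [if_neg (fun h => hne h.symm)] at h2
  have key : Cfsg.classInner (fun g => (χ : G → ℂ) g * conj ((χ : G → ℂ) g)) F -
      Cfsg.classInner (fun g => (χ : G → ℂ) g * conj ((χ' : G → ℂ) g)) F =
      conj a * (Cfsg.classInner (χ : G → ℂ) (χ : G → ℂ) -
        Cfsg.classInner (χ : G → ℂ) (χ' : G → ℂ)) := by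
    unfold Cfsg.classInner
    have hsum : ∀ g : G, (χ : G → ℂ) g * conj ((χ : G → ℂ) g) * conj (F g) -
        (χ : G → ℂ) g * conj ((χ' : G → ℂ) g) * conj (F g) =
        conj a * ((χ : G → ℂ) g * conj ((χ : G → ℂ) g) -
          (χ : G → ℂ) g * conj ((χ' : G → ℂ) g)) := by
      intro g
      by_cases hg : p ∣ orderOf g
      · rw [hF g hg]
        ring
      · rw [hreg g hg]
        ring
    simp only [← mul_sub, ← Finset.sum_sub_distrib]
    rw [Finset.sum_congr rfl (fun g _ => hsum g), ← Finset.mul_sum]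
    ring
  rw [key, h1, h2, sub_zero, mul_one]

end abstract

end Cfsg.Agent.Lib.helper15.BH
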