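import Mathlib
import Cfsg.Agent.Lib.helper7.BD.D1Defs
import Cfsg.Agent.Lib.Helper25.CharOrth

/-!
# Project BD, stage B, piece TSUB : `C ≤ T ≤ N`
-/

set_option autoImplicit false
set_option linter.unusedVariables false
set_option linter.unusedSectionVars false

namespace Cfsg.Agent.Lib.helper7.BD

universe u

section root

variable {G : Type u} [Group G] [Fintype G] {M : Ideal Cfsg.AlgInt} {p : ℕ} [Fact p.Prime]
  {P : Sylow p G} {B : Set (Cfsg.IrrCharacter G)}
  {b : Set (Cfsg.IrrCharacter (Subgroup.centralizer ((P : Subgroup G) : Set G)))}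
  {θ : Cfsg.IrrCharacter (Subgroup.centralizer ((P : Subgroup G) : Set G))} {T : Subgroup G}

/-- M15 = TSUB : `C ≤ T ≤ N` -/
theorem root_C_le_T (h : RootHyp p M P B b θ T) :
    Subgroup.centralizer ((P : Subgroup G) : Set G) ≤ T ∧
      T ≤ Subgroup.normalizer ((P : Subgroup G) : Set G) := by
  refine ⟨fun c hc => ?_, fun t ht => ((h.hT t).mp ht).1⟩
  rw [h.hT]
  refine ⟨Subgroup.centralizer_le_normalizer _ hc, fun d d' hd => ?_⟩
  have h1 : d' = (⟨c, hc⟩ : Subgroup.centralizer ((P : Subgroup G) : Set G)) * d *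
      (⟨c, hc⟩ : Subgroup.centralizer ((P : Subgroup G) : Set G))⁻¹ := by
    apply Subtype.ext
    rw [hd]
    rfl
  rw [h1]
  exact Cfsg.Agent.Lib.Helper25.irr_conj_invariant θ d ⟨c, hc⟩

end root

end Cfsg.Agent.Lib.helper7.BD
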