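import Mathlib
import Cfsg.Agent.Lib.helper7.BD.D1Defs
import Cfsg.Agent.Lib.helper7.BlockHom
import Cfsg.Agent.Lib.Helper24.CyclicInertial3
import Cfsg.Agent.Lib.Helper25.CharBasic
import Cfsg.Agent.Lib.Helper1.BD2BLKCJ
import Cfsg.Agent.Lib.Helper13.BD2ROOTU

/-!
# Project BD, stage B, piece TSTAB : `T` is the stabilizer of the block `b` in `N`
-/

set_option autoImplicit false
set_option linter.unusedVariables false
set_option linter.unusedSectionVars false
set_option linter.style.haveILetI false

namespace Cfsg.Agent.Lib.helper7.BD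

universe u

section root

/-- two blocks with a common member are equal -/
theorem bdtstab_block_eq {H : Type*} [Group H] [Finite H] {M : Ideal Cfsg.AlgInt} (hMp : M.IsPrime)
    (b b' : Set (Cfsg.IrrCharacter H)) (hb : Cfsg.IsPBlock M b) (hb' : Cfsg.IsPBlock M b')
    (θ : Cfsg.IrrCharacter H) (h1 : θ ∈ b) (h2 : θ ∈ b') : b = b' := by
  classical
  haveI : Fintype H := Fintype.ofFinite H
  haveI : Fintype (Cfsg.IrrCharacter H) := Fintype.ofFinite _
  obtain ⟨χ, rfl⟩ := hb
  obtain ⟨χ', rfl⟩ := hb'
  rw [Cfsg.Agent.Lib.helper7.h7_blockOf_eq_of_mem hMp χ θ h1,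
    Cfsg.Agent.Lib.helper7.h7_blockOf_eq_of_mem hMp χ' θ h2]

variable {G : Type u} [Group G] [Fintype G] {M : Ideal Cfsg.AlgInt} {p : ℕ} [Fact p.Prime]
  {P : Sylow p G} {B : Set (Cfsg.IrrCharacter G)}
  {b : Set (Cfsg.IrrCharacter (Subgroup.centralizer ((P : Subgroup G) : Set G)))}
  {θ : Cfsg.IrrCharacter (Subgroup.centralizer ((P : Subgroup G) : Set G))} {T : Subgroup G}

/-- M14 = TSTAB : `T` is the stabilizer of the block `b` in `N` -/
theorem root_stab (h : RootHyp p M P B b θ T) (n : G)
    (hn : n ∈ Subgroup.normalizer ((P : Subgroup G) : Set G)) :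
    n ∈ T ↔ cjSet (Subgroup.centralizer ((P : Subgroup G) : Set G)) n b = b := by
  have hnC : n ∈ Subgroup.normalizer
      ((Subgroup.centralizer ((P : Subgroup G) : Set G) : Subgroup G) : Set G) :=
    Cfsg.Agent.Lib.Helper24.ci_normalizer_le (P : Subgroup G) hn
  have hMp : M.IsPrime := h.hM.2.1.isPrime
  constructor
  · intro hnT
    have hconj : Cfsg.IsConjCharOf (Subgroup.centralizer ((P : Subgroup G) : Set G)) n
        (θ : Subgroup.centralizer ((P : Subgroup G) : Set G) → ℂ)
        (θ : Subgroup.centralizer ((P : Subgroup G) : Set G) → ℂ) :=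
      fun c c' hc => ((h.hT n).mp hnT).2 c c' hc
    have hθ' : θ = cjIrr (Subgroup.centralizer ((P : Subgroup G) : Set G)) n θ :=
      eq_cjIrr_of_isConjCharOf _ hnC θ θ hconj
    have hmem : θ ∈ cjSet (Subgroup.centralizer ((P : Subgroup G) : Set G)) n b := by
      rw [hθ']
      exact Set.mem_image_of_mem _ h.hθ
    exact (bdtstab_block_eq hMp b _ h.hind.1 (isPBlock_cjSet _ hnC b h.hind.1) θ h.hθ hmem).symm
  · intro hb
    have hmem : cjIrr (Subgroup.centralizer ((P : Subgroup G) : Set G)) n θ ∈ b := by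
      rw [← hb]
      exact Set.mem_image_of_mem _ h.hθ
    have htriv : ∀ x : Subgroup.centralizer ((P : Subgroup G) : Set G), (x : G) ∈ (P : Subgroup G) →
        (cjIrr (Subgroup.centralizer ((P : Subgroup G) : Set G)) n θ :
          Subgroup.centralizer ((P : Subgroup G) : Set G) → ℂ) x =
        (cjIrr (Subgroup.centralizer ((P : Subgroup G) : Set G)) n θ :
          Subgroup.centralizer ((P : Subgroup G) : Set G) → ℂ) 1 := by
      intro x hx
      rw [cjIrr_apply _ hnC, cjIrr_apply _ hnC, map_one]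
      apply h.hθP
      -- the preimage of `x` under conjugation by `n` lies in `P`
      set y := ((Subgroup.centralizer ((P : Subgroup G) : Set G)).normalizerMonoidHom ⟨n, hnC⟩).symm x
        with hy
      have hxy : (x : G) = n * (y : G) * n⁻¹ := by
        have h1 : x = ((Subgroup.centralizer ((P : Subgroup G) : Set G)).normalizerMonoidHom
            ⟨n, hnC⟩) y := by
          rw [hy, MulEquiv.apply_symm_apply]
        rw [h1]
        rfl
      have hy' : (y : G) = n⁻¹ * (x : G) * n⁻¹⁻¹ := by
        rw [hxy]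
        group
      rw [hy']
      exact (Subgroup.mem_normalizer_iff.mp (Subgroup.inv_mem _ hn) (x : G)).mp hx
    have heq := root_unique h _ hmem htriv
    rw [h.hT]
    refine ⟨hn, fun c c' hc => ?_⟩
    have := isConjCharOf_cjIrr (Subgroup.centralizer ((P : Subgroup G) : Set G)) hnC θ c c' hc
    rw [heq] at this
    exact this

end root

end Cfsg.Agent.Lib.helper7.BD
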