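import Mathlib
import Cfsg.Agent.Lib.Helper29.LeoFaithful
import Cfsg.Agent.Lib.helper7.BD.D1Defs2
import Cfsg.Agent.Lib.Helper13.BD4VALXY
import Cfsg.Agent.Lib.Helper25.CharBound
import Cfsg.Agent.Lib.Helper25.CharRestrict
import Cfsg.Agent.Lib.Helper25.BDTSUB
import Cfsg.Agent.Lib.Helper24.CyclicInertial3
import Cfsg.Agent.Lib.Helper10.BDCHARS
import Cfsg.Agent.Lib.helper2.BDREPS

/-!
# Project BH (S4503), piece BT2 : a member of `B` with the non-exceptional multiplicity pattern and of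
degree `< p - 1` is trivial on `P`.

NOTE: the hypothesis is `leoDeg χ + 1 < p`; with `leoDeg χ < p` the statement is false (`A₅`, `p = 5`, degree `4`).
-/

set_option autoImplicit false
set_option linter.unusedVariables false
set_option linter.unusedSectionVars false
open scoped ComplexConjugate

namespace Cfsg.Agent.Lib.helper15.BH

open Cfsg.Agent.Lib.helper7 Cfsg.Agent.Lib.helper7.BD Cfsg.Agent.Lib.helper2 Cfsg.Agent.Lib.Helper25
  Cfsg.Agent.Lib.Helper29

universe u

/-- the arithmetic of BT2 -/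
theorem bhbt2_arith (p d k s : ℤ) (hk : 0 ≤ k) (hs : |s| ≤ d) (hd : d + 1 < p)
    (h : d + (p - 1) * s = p * k) : s = d := by
  have hs1 := abs_le.mp hs
  have hp : 0 < p := by linarith [hs1.1, hs1.2]
  have hu : d - s = p * (k - s) := by linarith
  have hu0 : 0 ≤ k - s := by
    by_contra hcon
    have h1 : k - s ≤ -1 := by linarith [not_le.mp hcon]
    have h2 : p * (k - s) ≤ p * (-1) := mul_le_mul_of_nonneg_left h1 hp.le
    linarith [hs1.1, hs1.2]
  have hu2 : k - s < 2 := by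
    by_contra hcon
    have h1 : 2 ≤ k - s := not_lt.mp hcon
    have h2 : p * 2 ≤ p * (k - s) := mul_le_mul_of_nonneg_left h1 hp.le
    linarith [hs1.1, hs1.2]
  have hcases : k - s = 0 ∨ k - s = 1 := by omega
  rcases hcases with h0 | h1
  · rw [h0, mul_zero] at hu
    linarith
  · rw [h1, mul_one] at hu
    have : k = 1 + s := by linarith
    linarith [hs1.1, hs1.2]

section adapter

variable {G : Type u} [Group G] [Fintype G] {M : Ideal Cfsg.AlgInt} {p : ℕ} [Fact p.Prime]
  {P : Sylow p G} {B : Set (Cfsg.IrrCharacter G)}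
  {b : Set (Cfsg.IrrCharacter (Subgroup.centralizer ((P : Subgroup G) : Set G)))}
  {θ : Cfsg.IrrCharacter (Subgroup.centralizer ((P : Subgroup G) : Set G))} {T : Subgroup G}
variable [Fintype ↥(Subgroup.centralizer ((P : Subgroup G) : Set G))]
  [Fintype ↥(Subgroup.normalizer ((P : Subgroup G) : Set G))]

/-- BT2 : a member of `B` with the non-exceptional multiplicity pattern and of degree `< p - 1` is trivial on `P` -/
theorem small_not_X (h : RootHyp p M P B b θ T) {t : ℕ}
    (r : Fin t → Cfsg.IrrCharacter (Subgroup.centralizer ((P : Subgroup G) : Set G)))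
    (hr : IsReps P b θ T ((Subgroup.centralizer ((P : Subgroup G) : Set G)).relIndex T) t r)
    (χ : Cfsg.IrrCharacter G) (hχ : χ ∈ B) (ε : ℤ)
    (hmul : ∀ j,
      Cfsg.classInner (r j : ↥(Subgroup.centralizer ((P : Subgroup G) : Set G)) → ℂ)
          (fun c : ↥(Subgroup.centralizer ((P : Subgroup G) : Set G)) => (χ : G → ℂ) (c : G)) -
        Cfsg.classInner (θ : ↥(Subgroup.centralizer ((P : Subgroup G) : Set G)) → ℂ)
          (fun c : ↥(Subgroup.centralizer ((P : Subgroup G) : Set G)) => (χ : G → ℂ) (c : G)) =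
        ((ε : ℤ) : ℂ))
    (hdeg : leoDeg χ + 1 < p) :
    ∀ x ∈ (P : Subgroup G), (χ : G → ℂ) x = (χ : G → ℂ) 1 := by
  classical
  have hp := (Fact.out : p.Prime)
  obtain ⟨hCT, hTN⟩ := root_C_le_T h
  have hPC : (P : Subgroup G) ≤ Subgroup.centralizer ((P : Subgroup G) : Set G) :=
    bdchars_le_centralizer (P : Subgroup G) h.card_P
  -- the constant value on `P ∖ 1`
  set s : ℤ := - ε * ((T.relIndex (Subgroup.normalizer ((P : Subgroup G) : Set G)) : ℕ) : ℤ) *
    ((leoDeg θ : ℕ) : ℤ) with hs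
  have hcardN : (Nat.card T : ℂ) *
      ((T.relIndex (Subgroup.normalizer ((P : Subgroup G) : Set G)) : ℕ) : ℂ) =
      (Nat.card (Subgroup.normalizer ((P : Subgroup G) : Set G)) : ℂ) := by
    have h1 := Subgroup.relIndex_mul_relIndex ⊥ T
      (Subgroup.normalizer ((P : Subgroup G) : Set G)) bot_le hTN
    rw [Subgroup.relIndex_bot_left, Subgroup.relIndex_bot_left] at h1
    exact_mod_cast h1
  have hT0 : (Nat.card T : ℂ) ≠ 0 := by
    exact_mod_cast Nat.card_pos.ne'
  have hval : ∀ y ∈ (P : Subgroup G), y ≠ 1 → (χ : G → ℂ) y = ((s : ℤ) : ℂ) := by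
    intro y hy hy1
    have hord : p ∣ orderOf (⟨y, hPC hy⟩ : ↥(Subgroup.centralizer ((P : Subgroup G) : Set G))) := by
      rw [← Subgroup.orderOf_coe]
      show p ∣ orderOf y
      rw [h2_orderOf_of_card_prime p (P : Subgroup G) h.card_P y hy hy1]
    have hX := root_value_X h r hr χ hχ ε hmul ⟨y, hPC hy⟩ hord
    have hterm : ∀ n : ↥(Subgroup.normalizer ((P : Subgroup G) : Set G)),
        (cjIrr (Subgroup.centralizer ((P : Subgroup G) : Set G)) (n : G) θ :
          ↥(Subgroup.centralizer ((P : Subgroup G) : Set G)) → ℂ) ⟨y, hPC hy⟩ =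
        (θ : ↥(Subgroup.centralizer ((P : Subgroup G) : Set G)) → ℂ) 1 := by
      intro n
      have hnC : (n : G) ∈ Subgroup.normalizer
          ((Subgroup.centralizer ((P : Subgroup G) : Set G) : Subgroup G) : Set G) :=
        Cfsg.Agent.Lib.Helper24.ci_normalizer_le (P : Subgroup G) n.2
      have hmem : (n : G)⁻¹ * y * (n : G) ∈ (P : Subgroup G) := by
        have h1 := (Subgroup.mem_normalizer_iff.mp (inv_mem n.2) y).mp hy
        rwa [inv_inv] at h1
      rw [cjIrr_conj _ hnC θ ⟨(n : G)⁻¹ * y * (n : G), hPC hmem⟩ ⟨y, hPC hy⟩ (by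
        show y = (n : G) * ((n : G)⁻¹ * y * (n : G)) * (n : G)⁻¹
        group)]
      exact h.hθP _ hmem
    rw [Finset.sum_congr rfl (fun n _ => hterm n), Finset.sum_const, Finset.card_univ,
      ← Nat.card_eq_fintype_card, nsmul_eq_mul, ← hcardN, leoDeg_spec θ] at hX
    apply mul_left_cancel₀ hT0
    rw [hX, hs]
    push_cast
    ring
  intro x hx
  by_cases hx1 : x = 1
  · rw [hx1]
  -- the sum over `P`
  haveI : Fintype ↥(P : Subgroup G) := Fintype.ofFinite _
  obtain ⟨k, hk⟩ := Cfsg.Agent.Lib.Helper25.sum_subgroup_irr (P : Subgroup G) χ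
  have hcP : Nat.card (P : Subgroup G) = p := h.card_P
  have hsum : ∑ y : ↥(P : Subgroup G), (χ : G → ℂ) (y : G) =
      ((leoDeg χ : ℕ) : ℂ) + ((p : ℂ) - 1) * ((s : ℤ) : ℂ) := by
    rw [← Finset.add_sum_erase Finset.univ _ (Finset.mem_univ (1 : ↥(P : Subgroup G)))]
    have h1 : ∀ y ∈ Finset.univ.erase (1 : ↥(P : Subgroup G)),
        (χ : G → ℂ) (y : G) = ((s : ℤ) : ℂ) := by
      intro y hy
      apply hval (y : G) y.2
      intro hy1
      exact Finset.ne_of_mem_erase hy (Subtype.ext hy1)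
    rw [Finset.sum_congr rfl h1, Finset.sum_const, Finset.card_erase_of_mem (Finset.mem_univ _),
      Finset.card_univ, ← Nat.card_eq_fintype_card, hcP, nsmul_eq_mul, Nat.cast_sub hp.one_le,
      Nat.cast_one]
    congr 1
    exact leoDeg_spec χ
  rw [hsum, hcP] at hk
  have hkZ : ((leoDeg χ : ℕ) : ℤ) + ((p : ℤ) - 1) * s = (p : ℤ) * (k : ℤ) := by
    exact_mod_cast hk
  -- the bound
  have hbound : |s| ≤ ((leoDeg χ : ℕ) : ℤ) := by
    have h1 := Cfsg.Agent.Lib.Helper25.irr_norm_le χ x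
    rw [hval x hx hx1, leoDeg_spec χ] at h1
    have h2 : ‖((s : ℤ) : ℂ)‖ = ((|s| : ℤ) : ℝ) := by
      rw [Complex.norm_intCast, Int.cast_abs]
    have h3 : ‖((leoDeg χ : ℕ) : ℂ)‖ = ((leoDeg χ : ℕ) : ℝ) := Complex.norm_natCast _
    rw [h2, h3] at h1
    exact_mod_cast h1
  have hfinal := bhbt2_arith (p : ℤ) ((leoDeg χ : ℕ) : ℤ) (k : ℤ) s (Int.natCast_nonneg k) hbound
    (by exact_mod_cast hdeg) hkZ
  rw [hval x hx hx1, leoDeg_spec χ, hfinal]
  simp

end adapter

end Cfsg.Agent.Lib.helper15.BH
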