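import Mathlib
import Cfsg.Prelude.Def_OddOrderChar
import Cfsg.Agent.Lib.helper7.BD.D1Defs
import Cfsg.Agent.Lib.helper7.BD.D1Defs2
import Cfsg.Agent.Lib.Helper25.CharBasic
import Cfsg.Agent.Lib.Helper25.BDTSTAB
import Cfsg.Agent.Lib.Helper25.BDTSUB
import Cfsg.Agent.Lib.Helper25.CharAbelian
import Cfsg.Agent.Lib.Helper13.BD3CJ
import Cfsg.Agent.Lib.Helper29.BD3IND3
import Cfsg.Agent.Lib.Helper29.BD3IND5
import Cfsg.Agent.Lib.Helper27.BD3LAM
import Cfsg.Agent.Lib.Helper1.BD3BLK
import Cfsg.Agent.Lib.Helper10.BDCHARS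

/-!
# Project BD, stage B, piece 3-GRAM : the Gram matrix of the induced differences `(r_j - θ)^N` is `I + e J`
-/

set_option autoImplicit false
set_option linter.unusedVariables false
set_option linter.unusedSectionVars false
set_option linter.style.haveILetI false

namespace Cfsg.Agent.Lib.helper7.BD

open Cfsg.Agent.Lib.helper7

universe u

/-- extension by zero is compatible with differences -/
theorem bd3gram_extendByZero_sub {G : Type u} [Group G] (H : Subgroup G) (f g : ↥H → ℂ) (x : G) :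
    Cfsg.extendByZero H (fun c => f c - g c) x =
      Cfsg.extendByZero H f x - Cfsg.extendByZero H g x := by
  unfold Cfsg.extendByZero
  by_cases hx : x ∈ H
  · have hx2 : x = ((⟨x, hx⟩ : ↥H) : G) := rfl
    rw [hx2, Subtype.val_injective.extend_apply, Subtype.val_injective.extend_apply,
      Subtype.val_injective.extend_apply]
  · have hx' : ¬ ∃ a : ↥H, (a : G) = x := by
      rintro ⟨a, rfl⟩
      exact hx a.2
    rw [Function.extend_apply' _ _ _ hx', Function.extend_apply' _ _ _ hx',
      Function.extend_apply' _ _ _ hx']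
    simp

/-- the inner product of two differences -/
theorem bd3gram_classInner_sub_sub {H : Type*} [Group H] [Fintype H] (a b c d : H → ℂ) :
    Cfsg.classInner (fun x => a x - b x) (fun x => c x - d x) =
      Cfsg.classInner a c - Cfsg.classInner a d - Cfsg.classInner b c + Cfsg.classInner b d := by
  unfold Cfsg.classInner
  simp only [map_sub]
  rw [← mul_sub, ← mul_sub, ← mul_add, ← Finset.sum_sub_distrib, ← Finset.sum_sub_distrib,
    ← Finset.sum_add_distrib]
  congr 1
  refine Finset.sum_congr rfl fun x _ => ?_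
  ring

open Classical in
/-- counting the elements of a subgroup `K ≤ N` inside `N` -/
theorem bd3gram_count {G : Type u} [Group G] (K N : Subgroup G) [Fintype ↥N] (hKN : K ≤ N) :
    ∑ m : ↥N, (if (m : G) ∈ K then (1 : ℂ) else 0) = (Nat.card K : ℂ) := by
  classical
  rw [Finset.sum_boole]
  congr 1
  have h1 : Nat.card K = Nat.card (K.subgroupOf N) :=
    (Nat.card_congr (Subgroup.subgroupOfEquivOfLe hKN).toEquiv).symm
  rw [h1, Nat.card_eq_fintype_card, Fintype.card_subtype]
  congr

section loc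

variable {G : Type u} [Group G] [Fintype G] {M : Ideal Cfsg.AlgInt} {p : ℕ} [Fact p.Prime]
  {P : Sylow p G} {B : Set (Cfsg.IrrCharacter G)}
  {b : Set (Cfsg.IrrCharacter (Subgroup.centralizer ((P : Subgroup G) : Set G)))}
  {θ : Cfsg.IrrCharacter (Subgroup.centralizer ((P : Subgroup G) : Set G))} {T : Subgroup G}

variable [Fintype ↥(Subgroup.centralizer ((P : Subgroup G) : Set G))]
  [Fintype ↥(Subgroup.normalizer ((P : Subgroup G) : Set G))]

/-- a private copy of the free-ness of the action of `T / C` on `b ∖ {θ}` (piece 3-FREE), from LAM + BLK -/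
theorem bd3gram_free (h : RootHyp p M P B b θ T) (n : G) (hn : n ∈ T)
    (ξ : Cfsg.IrrCharacter (Subgroup.centralizer ((P : Subgroup G) : Set G))) (hξ : ξ ∈ b)
    (hne : ξ ≠ θ) (hfix : cjIrr (Subgroup.centralizer ((P : Subgroup G) : Set G)) n ξ = ξ) :
    n ∈ Subgroup.centralizer ((P : Subgroup G) : Set G) := by
  have hp := (Fact.out : p.Prime)
  obtain ⟨hCT, hTN⟩ := root_C_le_T h
  have hnN : n ∈ Subgroup.normalizer ((P : Subgroup G) : Set G) := hTN hn
  have hnC : n ∈ Subgroup.normalizer
      ((Subgroup.centralizer ((P : Subgroup G) : Set G) : Subgroup G) : Set G) :=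
    Cfsg.Agent.Lib.Helper24.ci_normalizer_le (P : Subgroup G) hnN
  have hPC : (P : Subgroup G) ≤ Subgroup.centralizer ((P : Subgroup G) : Set G) :=
    bdchars_le_centralizer (P : Subgroup G) h.card_P
  obtain ⟨Λ, hΛ1, hΛ2, hΛ3⟩ := root_exists_Lambda P h.card_P
  obtain ⟨ξs, hinj, hrange, hval⟩ := root_block_param h Λ hΛ1 hΛ2 hΛ3
  obtain ⟨a, rfl⟩ : ∃ a, ξs a = ξ := by
    have h1 : ξ ∈ Set.range ξs := by rw [hrange]; exact hξ
    exact h1
  -- `a ≠ 0`
  have ha0 : (a : ℕ) ≠ 0 := by
    intro h0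
    apply hne
    apply Subtype.ext
    funext c
    rw [hval a c, h0, pow_zero, one_mul]
  have hcop : Nat.Coprime (a : ℕ) p :=
    ((Nat.Prime.coprime_iff_not_dvd hp).mpr
      (Nat.not_dvd_of_pos_of_lt (Nat.pos_of_ne_zero ha0) a.2)).symm
  have hθ1 : (θ : ↥(Subgroup.centralizer ((P : Subgroup G) : Set G)) → ℂ) 1 ≠ 0 := by
    obtain ⟨h1, h2⟩ := Cfsg.Agent.Lib.Helper25.charDegree_irr θ
    rw [← h1]
    exact_mod_cast h2.ne'
  rw [Subgroup.mem_centralizer_iff]
  intro x hx
  have hxP : x ∈ (P : Subgroup G) := hx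
  have hyP : n⁻¹ * x * n ∈ (P : Subgroup G) := by
    have h1 := (Subgroup.mem_normalizer_iff.mp (inv_mem hnN) x).mp hxP
    rwa [inv_inv] at h1
  set x' : ↥(Subgroup.centralizer ((P : Subgroup G) : Set G)) := ⟨x, hPC hxP⟩ with hx'
  set y' : ↥(Subgroup.centralizer ((P : Subgroup G) : Set G)) := ⟨n⁻¹ * x * n, hPC hyP⟩ with hy'
  have hxy : (ξs a : ↥(Subgroup.centralizer ((P : Subgroup G) : Set G)) → ℂ) x' =
      (ξs a : ↥(Subgroup.centralizer ((P : Subgroup G) : Set G)) → ℂ) y' := by
    have h1 := cjIrr_conj _ hnC (ξs a) y' x' (by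
      show x = n * (n⁻¹ * x * n) * n⁻¹
      group)
    rw [hfix] at h1
    exact h1
  rw [hval a x', hval a y', h.hθP x' hxP, h.hθP y' hyP] at hxy
  have hpow : ((Λ x' : ℂˣ) : ℂ) ^ (a : ℕ) = ((Λ y' : ℂˣ) : ℂ) ^ (a : ℕ) :=
    mul_right_cancel₀ hθ1 hxy
  have hpow' : (Λ x') ^ (a : ℕ) = (Λ y') ^ (a : ℕ) := by
    apply Units.ext
    rw [Units.val_pow_eq_pow_val, Units.val_pow_eq_pow_val]
    exact hpow
  have hz : (Λ (x' * y'⁻¹)) ^ (a : ℕ) = 1 := by
    rw [map_mul, map_inv, mul_pow, inv_pow, hpow', mul_inv_cancel]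
  have hz1 : Λ (x' * y'⁻¹) = 1 := by
    have h1 : (Λ (x' * y'⁻¹)) ^ Nat.gcd (a : ℕ) p = 1 :=
      pow_gcd_eq_one.mpr ⟨hz, hΛ3 (x' * y'⁻¹)⟩
    rwa [hcop, pow_one] at h1
  have hzP : ((x' * y'⁻¹ : ↥(Subgroup.centralizer ((P : Subgroup G) : Set G))) : G) ∈
      (P : Subgroup G) := by
    show x * (n⁻¹ * x * n)⁻¹ ∈ (P : Subgroup G)
    exact mul_mem hxP (inv_mem hyP)
  have hzeq : x' * y'⁻¹ = 1 := by
    by_contra hcon
    exact hΛ2 _ hzP hcon hz1
  have hxy' : x' = y' := by
    rw [mul_inv_eq_one] at hzeq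
    exact hzeq
  have hxeq : x = n⁻¹ * x * n := congrArg Subtype.val hxy'
  calc x * n = n * (n⁻¹ * x * n) := by group
    _ = n * x := by rw [← hxeq]

/-- GRAM : the Gram matrix of the induced differences `(r_j - θ)^N` is `I + e J` -/
theorem root_gram (h : RootHyp p M P B b θ T) {t : ℕ}
    (r : Fin t → Cfsg.IrrCharacter (Subgroup.centralizer ((P : Subgroup G) : Set G)))
    (hr : IsReps P b θ T ((Subgroup.centralizer ((P : Subgroup G) : Set G)).relIndex T) t r)
    (j j' : Fin t) :
    Cfsg.classInner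
      (indCN (Subgroup.centralizer ((P : Subgroup G) : Set G))
        (Subgroup.normalizer ((P : Subgroup G) : Set G))
        (fun c => (r j : ↥(Subgroup.centralizer ((P : Subgroup G) : Set G)) → ℂ) c -
          (θ : ↥(Subgroup.centralizer ((P : Subgroup G) : Set G)) → ℂ) c))
      (indCN (Subgroup.centralizer ((P : Subgroup G) : Set G))
        (Subgroup.normalizer ((P : Subgroup G) : Set G))
        (fun c => (r j' : ↥(Subgroup.centralizer ((P : Subgroup G) : Set G)) → ℂ) c -
          (θ : ↥(Subgroup.centralizer ((P : Subgroup G) : Set G)) → ℂ) c)) =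
      (if j = j' then 1 else 0) +
        (((Subgroup.centralizer ((P : Subgroup G) : Set G)).relIndex T : ℕ) : ℂ) := by
  classical
  obtain ⟨hCT, hTN⟩ := root_C_le_T h
  have hCN : Subgroup.centralizer ((P : Subgroup G) : Set G) ≤
      Subgroup.normalizer ((P : Subgroup G) : Set G) := hCT.trans hTN
  have hMp : M.IsPrime := h.hM.2.1.isPrime
  rw [indCN_inner _ _ hCN]
  -- each term of the sum
  have hterm : ∀ m : ↥(Subgroup.normalizer ((P : Subgroup G) : Set G)),
      Cfsg.classInner
        (fun c => (r j : ↥(Subgroup.centralizer ((P : Subgroup G) : Set G)) → ℂ) c -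
          (θ : ↥(Subgroup.centralizer ((P : Subgroup G) : Set G)) → ℂ) c)
        (fun c : ↥(Subgroup.centralizer ((P : Subgroup G) : Set G)) =>
          Cfsg.extendByZero (Subgroup.centralizer ((P : Subgroup G) : Set G))
            (fun c => (r j' : ↥(Subgroup.centralizer ((P : Subgroup G) : Set G)) → ℂ) c -
              (θ : ↥(Subgroup.centralizer ((P : Subgroup G) : Set G)) → ℂ) c)
            ((m : G)⁻¹ * (c : G) * (m : G))) =
        (if j = j' then
          (if (m : G) ∈ Subgroup.centralizer ((P : Subgroup G) : Set G) then (1 : ℂ) else 0)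
          else 0) + (if (m : G) ∈ T then (1 : ℂ) else 0) := by
    intro m
    have hmC : (m : G) ∈ Subgroup.normalizer
        ((Subgroup.centralizer ((P : Subgroup G) : Set G) : Subgroup G) : Set G) :=
      Cfsg.Agent.Lib.Helper24.ci_normalizer_le (P : Subgroup G) m.2
    have h1 : (fun c : ↥(Subgroup.centralizer ((P : Subgroup G) : Set G)) =>
          Cfsg.extendByZero (Subgroup.centralizer ((P : Subgroup G) : Set G))
            (fun c => (r j' : ↥(Subgroup.centralizer ((P : Subgroup G) : Set G)) → ℂ) c -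
              (θ : ↥(Subgroup.centralizer ((P : Subgroup G) : Set G)) → ℂ) c)
            ((m : G)⁻¹ * (c : G) * (m : G))) =
        fun c => (cjIrr (Subgroup.centralizer ((P : Subgroup G) : Set G)) (m : G) (r j') :
            ↥(Subgroup.centralizer ((P : Subgroup G) : Set G)) → ℂ) c -
          (cjIrr (Subgroup.centralizer ((P : Subgroup G) : Set G)) (m : G) θ :
            ↥(Subgroup.centralizer ((P : Subgroup G) : Set G)) → ℂ) c := by
      funext c
      rw [bd3gram_extendByZero_sub, extendByZero_conj_eq_cjIrr _ hmC,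
        extendByZero_conj_eq_cjIrr _ hmC]
    rw [h1, bd3gram_classInner_sub_sub, Cfsg.Agent.Lib.Helper25.irr_classInner,
      Cfsg.Agent.Lib.Helper25.irr_classInner, Cfsg.Agent.Lib.Helper25.irr_classInner,
      Cfsg.Agent.Lib.Helper25.irr_classInner]
    by_cases hmT : (m : G) ∈ T
    · rw [if_pos hmT]
      have hθm : cjIrr (Subgroup.centralizer ((P : Subgroup G) : Set G)) (m : G) θ = θ :=
        (eq_cjIrr_of_isConjCharOf _ hmC θ θ
          (fun c c' hc => ((h.hT (m : G)).mp hmT).2 c c' hc)).symm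
      have hne3 : θ ≠ cjIrr (Subgroup.centralizer ((P : Subgroup G) : Set G)) (m : G) (r j') := by
        intro heq
        have h2 : cjIrr (Subgroup.centralizer ((P : Subgroup G) : Set G)) (m : G) θ =
            cjIrr (Subgroup.centralizer ((P : Subgroup G) : Set G)) (m : G) (r j') := by
          rw [hθm]
          exact heq
        exact hr.ne j' (cjIrr_injective _ hmC h2).symm
      rw [hθm, if_neg (hr.ne j), if_neg hne3, if_pos rfl]
      by_cases hjj : j = j'
      · subst hjj
        rw [if_pos rfl]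
        by_cases hmc : (m : G) ∈ Subgroup.centralizer ((P : Subgroup G) : Set G)
        · rw [if_pos hmc, cjIrr_of_mem_self _ hmc, if_pos rfl]
          ring
        · rw [if_neg hmc, if_neg]
          · ring
          · intro heq
            exact hmc (bd3gram_free h (m : G) hmT (r j) (hr.mem j) (hr.ne j) heq.symm)
      · rw [if_neg hjj, if_neg]
        · ring
        · intro heq
          exact hjj (hr.inj j' j (m : G) hmT heq.symm).symm
    · rw [if_neg hmT]
      have hmc : (m : G) ∉ Subgroup.centralizer ((P : Subgroup G) : Set G) :=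
        fun hc => hmT (hCT hc)
      have hne : cjSet (Subgroup.centralizer ((P : Subgroup G) : Set G)) (m : G) b ≠ b :=
        fun hh => hmT ((root_stab h (m : G) m.2).mpr hh)
      have hdisj : ∀ ξ ∈ b, ∀ ξ' ∈ b,
          ξ ≠ cjIrr (Subgroup.centralizer ((P : Subgroup G) : Set G)) (m : G) ξ' := by
        intro ξ hξ ξ' hξ' heq
        apply hne
        refine (bdtstab_block_eq hMp b _ h.hind.1 (isPBlock_cjSet _ hmC b h.hind.1) ξ hξ ?_).symm
        rw [heq]
        exact Set.mem_image_of_mem _ hξ'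
      rw [if_neg (hdisj _ (hr.mem j) _ (hr.mem j')), if_neg (hdisj _ (hr.mem j) _ h.hθ),
        if_neg (hdisj _ h.hθ _ (hr.mem j')), if_neg (hdisj _ h.hθ _ h.hθ), if_neg hmc]
      split_ifs <;> ring
  rw [Finset.sum_congr rfl (fun m _ => hterm m), Finset.sum_add_distrib,
    bd3gram_count T _ hTN]
  have hcard : (Nat.card (Subgroup.centralizer ((P : Subgroup G) : Set G)) : ℂ) *
      (((Subgroup.centralizer ((P : Subgroup G) : Set G)).relIndex T : ℕ) : ℂ) =
      (Nat.card T : ℂ) := by
    have h1 := Subgroup.relIndex_mul_relIndex ⊥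
      (Subgroup.centralizer ((P : Subgroup G) : Set G)) T bot_le hCT
    rw [Subgroup.relIndex_bot_left, Subgroup.relIndex_bot_left] at h1
    exact_mod_cast h1
  have hC0 : (Nat.card (Subgroup.centralizer ((P : Subgroup G) : Set G)) : ℂ) ≠ 0 := by
    exact_mod_cast Nat.card_pos.ne'
  by_cases hjj : j = j'
  · simp only [if_pos hjj]
    rw [bd3gram_count _ _ hCN, ← hcard]
    field_simp
  · simp only [if_neg hjj]
    rw [Finset.sum_const_zero, ← hcard]
    field_simp
    ring

end loc

end Cfsg.Agent.Lib.helper7.BD
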