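import Mathlib
import Cfsg.Prelude.Def_OddOrderChar
import Cfsg.Agent.Lib.helper7.BD.D1Defs
import Cfsg.Agent.Lib.helper7.BD.D1Defs2
import Cfsg.Agent.Lib.Helper25.CharBasic
import Cfsg.Agent.Lib.Helper25.CharRestrict
import Cfsg.Agent.Lib.Helper25.BDTSUB
import Cfsg.Agent.Lib.Helper24.CyclicInertial3
import Cfsg.Agent.Lib.Helper10.BDCHARS
import Cfsg.Agent.Lib.helper2.BDREPS
import Cfsg.Agent.Lib.helper23.BD3CJ4
import Cfsg.Agent.Lib.Helper1.BD3FACTS
import Cfsg.Agent.Lib.Helper24.BD3VAL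

/-!
# Project BD, stage B, piece 3-DEG : the degree formula
-/

set_option autoImplicit false
set_option linter.unusedVariables false
set_option linter.unusedSectionVars false
set_option linter.style.haveILetI false

namespace Cfsg.Agent.Lib.helper7.BD

open Cfsg.Agent.Lib.helper7

universe u

open Classical in
/-- counting the elements of a subgroup `K ≤ C` inside `C` -/
theorem bd3deg_card_filter {G : Type u} [Group G] (K C : Subgroup G) [Fintype ↥C] (hKC : K ≤ C) :
    (Finset.univ.filter (fun c : ↥C => (c : G) ∈ K)).card = Nat.card K := by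
  have h1 : Nat.card K = Nat.card (K.subgroupOf C) :=
    (Nat.card_congr (Subgroup.subgroupOfEquivOfLe hKC).toEquiv).symm
  rw [h1, Nat.card_eq_fintype_card, Fintype.card_subtype]
  congr

open Classical in
/-- a sum over the elements of `C` lying in `K` is the sum over `K` -/
theorem bd3deg_sum_filter {G : Type u} [Group G] (K C : Subgroup G) [Fintype ↥C] [Fintype ↥K]
    (hKC : K ≤ C) (f : G → ℂ) :
    ∑ c ∈ Finset.univ.filter (fun c : ↥C => (c : G) ∈ K), f (c : G) = ∑ x : ↥K, f (x : G) := by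
  refine Finset.sum_bij' (fun c hc => (⟨(c : G), (Finset.mem_filter.mp hc).2⟩ : ↥K))
    (fun x _ => (⟨(x : G), hKC x.2⟩ : ↥C)) ?_ ?_ ?_ ?_ ?_
  · intro c hc
    exact Finset.mem_univ _
  · intro x _
    exact Finset.mem_filter.mpr ⟨Finset.mem_univ _, x.2⟩
  · intro c hc
    rfl
  · intro x _
    rfl
  · intro c hc
    rfl

section glob

variable {G : Type u} [Group G] [Fintype G] {M : Ideal Cfsg.AlgInt} {p : ℕ} [Fact p.Prime]
  {P : Sylow p G} {B : Set (Cfsg.IrrCharacter G)}
  {b : Set (Cfsg.IrrCharacter (Subgroup.centralizer ((P : Subgroup G) : Set G)))}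
  {θ : Cfsg.IrrCharacter (Subgroup.centralizer ((P : Subgroup G) : Set G))} {T : Subgroup G}

variable [Fintype ↥(Subgroup.centralizer ((P : Subgroup G) : Set G))]
  [Fintype ↥(Subgroup.normalizer ((P : Subgroup G) : Set G))]

/-- DEG : the degree formula -/
theorem root_degree (h : RootHyp p M P B b θ T) {t : ℕ}
    (r : Fin t → Cfsg.IrrCharacter (Subgroup.centralizer ((P : Subgroup G) : Set G)))
    (hr : IsReps P b θ T ((Subgroup.centralizer ((P : Subgroup G) : Set G)).relIndex T) t r)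
    (χ : Cfsg.IrrCharacter G) (hχ : χ ∈ B) :
    ∃ k : ℤ, (χ : G → ℂ) 1 = (p : ℂ) * (k : ℂ) +
      (((Subgroup.centralizer ((P : Subgroup G) : Set G)).relIndex
        (Subgroup.normalizer ((P : Subgroup G) : Set G)) : ℕ) : ℂ) *
      (θ : ↥(Subgroup.centralizer ((P : Subgroup G) : Set G)) → ℂ) 1 *
      ∑ j, (Cfsg.classInner (r j : ↥(Subgroup.centralizer ((P : Subgroup G) : Set G)) → ℂ)
          (fun c : ↥(Subgroup.centralizer ((P : Subgroup G) : Set G)) => (χ : G → ℂ) (c : G)) -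
        Cfsg.classInner (θ : ↥(Subgroup.centralizer ((P : Subgroup G) : Set G)) → ℂ)
          (fun c : ↥(Subgroup.centralizer ((P : Subgroup G) : Set G)) => (χ : G → ℂ) (c : G))) := by
  classical
  have hp := (Fact.out : p.Prime)
  obtain ⟨hCT, hTN⟩ := root_C_le_T h
  obtain ⟨-, hF2, -, hF4⟩ := root_block_facts h
  have hPC : (P : Subgroup G) ≤ Subgroup.centralizer ((P : Subgroup G) : Set G) :=
    bdchars_le_centralizer (P : Subgroup G) h.card_P
  -- the multiplicities
  set m : Cfsg.IrrCharacter (Subgroup.centralizer ((P : Subgroup G) : Set G)) → ℂ := fun ξ =>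
    Cfsg.classInner (ξ : ↥(Subgroup.centralizer ((P : Subgroup G) : Set G)) → ℂ)
      (fun c : ↥(Subgroup.centralizer ((P : Subgroup G) : Set G)) => (χ : G → ℂ) (c : G)) with hm
  have hinv : ∀ n ∈ T, ∀ ξ ∈ b,
      m (cjIrr (Subgroup.centralizer ((P : Subgroup G) : Set G)) n ξ) = m ξ := by
    intro n hn ξ _
    exact classInner_res_cjIrr _
      (Cfsg.Agent.Lib.Helper24.ci_normalizer_le (P : Subgroup G) (hTN hn)) χ ξ
  -- the elements of `P` inside `C`
  set PC : Finset ↥(Subgroup.centralizer ((P : Subgroup G) : Set G)) :=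
    Finset.univ.filter (fun c : ↥(Subgroup.centralizer ((P : Subgroup G) : Set G)) =>
      (c : G) ∈ (P : Subgroup G)) with hPCdef
  have hmemPC : ∀ c : ↥(Subgroup.centralizer ((P : Subgroup G) : Set G)),
      c ∈ PC ↔ (c : G) ∈ (P : Subgroup G) := by
    intro c
    rw [hPCdef, Finset.mem_filter]
    exact ⟨fun hc => hc.2, fun hc => ⟨Finset.mem_univ _, hc⟩⟩
  have h1PC : (1 : ↥(Subgroup.centralizer ((P : Subgroup G) : Set G))) ∈ PC :=
    (hmemPC 1).mpr (one_mem _)
  have hcardPC : PC.card = p := by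
    rw [hPCdef, bd3deg_card_filter _ _ hPC]
    exact h.card_P
  have hsetPC : {x : ↥(Subgroup.centralizer ((P : Subgroup G) : Set G)) |
      (x : G) ∈ (P : Subgroup G)} = (PC : Set ↥(Subgroup.centralizer ((P : Subgroup G) : Set G))) := by
    ext c
    rw [Set.mem_ofPred_eq, Finset.mem_coe, hmemPC]
  -- the block as a finset
  have hbfin : b.Finite := Set.toFinite b
  have hfs : ∀ f : Cfsg.IrrCharacter (Subgroup.centralizer ((P : Subgroup G) : Set G)) → ℂ,
      ∑ᶠ ξ ∈ b, f ξ = ∑ ξ ∈ hbfin.toFinset, f ξ := by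
    intro f
    rw [← finsum_mem_coe_finset, Set.Finite.coe_toFinset]
  have hfs' : ∀ f : Cfsg.IrrCharacter (Subgroup.centralizer ((P : Subgroup G) : Set G)) → ℂ,
      ∑ᶠ ξ ∈ b \ {θ}, f ξ = ∑ ξ ∈ hbfin.toFinset.erase θ, f ξ := by
    intro f
    rw [← finsum_mem_coe_finset, Finset.coe_erase, Set.Finite.coe_toFinset]
  have hθbF : θ ∈ hbfin.toFinset := (Set.Finite.mem_toFinset _).mpr h.hθ
  -- the sums over `P ∖ 1`
  have hAθ : ∑ x ∈ PC.erase 1, (θ : ↥(Subgroup.centralizer ((P : Subgroup G) : Set G)) → ℂ) x =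
      ((p : ℂ) - 1) * (θ : ↥(Subgroup.centralizer ((P : Subgroup G) : Set G)) → ℂ) 1 := by
    rw [Finset.sum_congr rfl (fun x hx => h.hθP x ((hmemPC x).mp (Finset.mem_of_mem_erase hx))),
      Finset.sum_const, Finset.card_erase_of_mem h1PC, hcardPC, nsmul_eq_mul,
      Nat.cast_sub hp.one_le, Nat.cast_one]
  have hAξ : ∀ ξ ∈ b, ξ ≠ θ →
      ∑ x ∈ PC.erase 1, (ξ : ↥(Subgroup.centralizer ((P : Subgroup G) : Set G)) → ℂ) x =
        - (θ : ↥(Subgroup.centralizer ((P : Subgroup G) : Set G)) → ℂ) 1 := by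
    intro ξ hξ hne
    have h4 := hF4 ξ hξ hne
    rw [hsetPC, finsum_mem_coe_finset] at h4
    rw [Finset.sum_erase_eq_sub h1PC, h4, hF2 ξ hξ, zero_sub]
  have hconj : ∀ (n : ↥(Subgroup.normalizer ((P : Subgroup G) : Set G)))
      (ξ : Cfsg.IrrCharacter (Subgroup.centralizer ((P : Subgroup G) : Set G))),
      ∑ x ∈ PC.erase 1, (cjIrr (Subgroup.centralizer ((P : Subgroup G) : Set G)) (n : G) ξ :
          ↥(Subgroup.centralizer ((P : Subgroup G) : Set G)) → ℂ) x =
        ∑ x ∈ PC.erase 1, (ξ : ↥(Subgroup.centralizer ((P : Subgroup G) : Set G)) → ℂ) x := by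
    intro n ξ
    have hnC : (n : G) ∈ Subgroup.normalizer
        ((Subgroup.centralizer ((P : Subgroup G) : Set G) : Subgroup G) : Set G) :=
      Cfsg.Agent.Lib.Helper24.ci_normalizer_le (P : Subgroup G) n.2
    symm
    refine Finset.sum_equiv
      ((Subgroup.centralizer ((P : Subgroup G) : Set G)).normalizerMonoidHom ⟨(n : G), hnC⟩).toEquiv
      ?_ ?_
    · intro x
      have hcoe : ((((Subgroup.centralizer ((P : Subgroup G) : Set G)).normalizerMonoidHom
          ⟨(n : G), hnC⟩).toEquiv x : ↥(Subgroup.centralizer ((P : Subgroup G) : Set G))) : G) =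
          (n : G) * (x : G) * (n : G)⁻¹ := rfl
      rw [Finset.mem_erase, Finset.mem_erase, hmemPC, hmemPC, hcoe,
        ← Subgroup.mem_normalizer_iff.mp n.2 (x : G)]
      refine and_congr_left fun _ => not_congr ?_
      exact (MulEquiv.map_eq_one_iff _).symm
    · intro x _
      exact (cjIrr_conj _ hnC ξ x _ rfl).symm
  -- the sum of `χ` over `P`
  haveI : Fintype ↥(P : Subgroup G) := Fintype.ofFinite _
  obtain ⟨k, hk⟩ := Cfsg.Agent.Lib.Helper25.sum_subgroup_irr (P : Subgroup G) χ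
  have hsumP : (χ : G → ℂ) 1 + ∑ x ∈ PC.erase 1, (χ : G → ℂ) (x : G) = (p : ℂ) * (k : ℂ) := by
    have h1 := bd3deg_sum_filter (P : Subgroup G) _ hPC (χ : G → ℂ)
    rw [← hPCdef, ← Finset.add_sum_erase PC _ h1PC, hk] at h1
    have hcP : Nat.card (P : Subgroup G) = p := h.card_P
    rw [hcP] at h1
    exact h1
  -- the values on `P ∖ 1`
  have hval : ∀ x ∈ PC.erase 1, (Nat.card T : ℂ) * (χ : G → ℂ) (x : G) =
      ∑ n : ↥(Subgroup.normalizer ((P : Subgroup G) : Set G)), ∑ ξ ∈ hbfin.toFinset,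
        m ξ * (cjIrr (Subgroup.centralizer ((P : Subgroup G) : Set G)) (n : G) ξ :
          ↥(Subgroup.centralizer ((P : Subgroup G) : Set G)) → ℂ) x := by
    intro x hx
    have hxP : (x : G) ∈ (P : Subgroup G) := (hmemPC x).mp (Finset.mem_of_mem_erase hx)
    have hx1 : (x : G) ≠ 1 := by
      intro h1
      exact Finset.ne_of_mem_erase hx (Subtype.ext h1)
    have hord : p ∣ orderOf x := by
      rw [← Subgroup.orderOf_coe,
        h2_orderOf_of_card_prime p (P : Subgroup G) h.card_P (x : G) hxP hx1]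
    rw [root_value_sing h χ hχ x hord]
    refine Finset.sum_congr rfl fun n _ => ?_
    rw [hfs]
  -- summing over `P ∖ 1`
  have hT0 : (Nat.card T : ℂ) * ∑ x ∈ PC.erase 1, (χ : G → ℂ) (x : G) =
      (Nat.card (Subgroup.normalizer ((P : Subgroup G) : Set G)) : ℂ) *
        ∑ ξ ∈ hbfin.toFinset, m ξ *
          ∑ x ∈ PC.erase 1, (ξ : ↥(Subgroup.centralizer ((P : Subgroup G) : Set G)) → ℂ) x := by
    rw [Finset.mul_sum, Finset.sum_congr rfl hval, Finset.sum_comm]
    have h2 : ∀ n : ↥(Subgroup.normalizer ((P : Subgroup G) : Set G)),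
        ∑ x ∈ PC.erase 1, ∑ ξ ∈ hbfin.toFinset,
          m ξ * (cjIrr (Subgroup.centralizer ((P : Subgroup G) : Set G)) (n : G) ξ :
            ↥(Subgroup.centralizer ((P : Subgroup G) : Set G)) → ℂ) x =
        ∑ ξ ∈ hbfin.toFinset, m ξ *
          ∑ x ∈ PC.erase 1, (ξ : ↥(Subgroup.centralizer ((P : Subgroup G) : Set G)) → ℂ) x := by
      intro n
      rw [Finset.sum_comm]
      refine Finset.sum_congr rfl fun ξ _ => ?_
      rw [← Finset.mul_sum, hconj n ξ]
    rw [Finset.sum_congr rfl (fun n _ => h2 n), Finset.sum_const, Finset.card_univ,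
      ← Nat.card_eq_fintype_card, nsmul_eq_mul]
  -- the sum over the block
  have hblock : ∑ ξ ∈ hbfin.toFinset, m ξ *
      ∑ x ∈ PC.erase 1, (ξ : ↥(Subgroup.centralizer ((P : Subgroup G) : Set G)) → ℂ) x =
      - ((θ : ↥(Subgroup.centralizer ((P : Subgroup G) : Set G)) → ℂ) 1 *
        (((Subgroup.centralizer ((P : Subgroup G) : Set G)).relIndex T : ℕ) : ℂ) *
        ∑ j, (m (r j) - m θ)) := by
    rw [← Finset.add_sum_erase _ _ hθbF, hAθ]
    have h3 : ∑ ξ ∈ hbfin.toFinset.erase θ, m ξ *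
        ∑ x ∈ PC.erase 1, (ξ : ↥(Subgroup.centralizer ((P : Subgroup G) : Set G)) → ℂ) x =
        - (θ : ↥(Subgroup.centralizer ((P : Subgroup G) : Set G)) → ℂ) 1 *
          ∑ ξ ∈ hbfin.toFinset.erase θ, m ξ := by
      rw [Finset.mul_sum]
      refine Finset.sum_congr rfl fun ξ hξ => ?_
      rw [hAξ ξ ((Set.Finite.mem_toFinset _).mp (Finset.mem_of_mem_erase hξ))
        (Finset.ne_of_mem_erase hξ)]
      ring
    rw [h3, ← hfs', hr.sum m hinv, Finset.sum_sub_distrib, Finset.sum_const, Finset.card_univ,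
      Fintype.card_fin, nsmul_eq_mul]
    have het : ((p : ℂ) - 1) =
        (((Subgroup.centralizer ((P : Subgroup G) : Set G)).relIndex T : ℕ) : ℂ) * (t : ℂ) := by
      have h4 := hr.et
      have h5 : (((Subgroup.centralizer ((P : Subgroup G) : Set G)).relIndex T * t : ℕ) : ℂ) =
          ((p - 1 : ℕ) : ℂ) := by rw [h4]
      rw [Nat.cast_sub hp.one_le, Nat.cast_one, Nat.cast_mul] at h5
      exact h5.symm
    rw [het]
    ring
  -- cardinalities
  have hcT : (Nat.card (Subgroup.centralizer ((P : Subgroup G) : Set G)) : ℂ) *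
      (((Subgroup.centralizer ((P : Subgroup G) : Set G)).relIndex T : ℕ) : ℂ) =
      (Nat.card T : ℂ) := by
    have h1 := Subgroup.relIndex_mul_relIndex ⊥
      (Subgroup.centralizer ((P : Subgroup G) : Set G)) T bot_le hCT
    rw [Subgroup.relIndex_bot_left, Subgroup.relIndex_bot_left] at h1
    exact_mod_cast h1
  have hcN : (Nat.card (Subgroup.centralizer ((P : Subgroup G) : Set G)) : ℂ) *
      (((Subgroup.centralizer ((P : Subgroup G) : Set G)).relIndex
        (Subgroup.normalizer ((P : Subgroup G) : Set G)) : ℕ) : ℂ) =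
      (Nat.card (Subgroup.normalizer ((P : Subgroup G) : Set G)) : ℂ) := by
    have h1 := Subgroup.relIndex_mul_relIndex ⊥
      (Subgroup.centralizer ((P : Subgroup G) : Set G))
      (Subgroup.normalizer ((P : Subgroup G) : Set G)) bot_le (hCT.trans hTN)
    rw [Subgroup.relIndex_bot_left, Subgroup.relIndex_bot_left] at h1
    exact_mod_cast h1
  have hC0 : (Nat.card (Subgroup.centralizer ((P : Subgroup G) : Set G)) : ℂ) ≠ 0 := by
    exact_mod_cast Nat.card_pos.ne'
  have he0 : (((Subgroup.centralizer ((P : Subgroup G) : Set G)).relIndex T : ℕ) : ℂ) ≠ 0 := by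
    have h4 := hr.et
    have h5 : (Subgroup.centralizer ((P : Subgroup G) : Set G)).relIndex T ≠ 0 := by
      intro h0
      rw [h0, zero_mul] at h4
      have := hp.two_le
      omega
    exact_mod_cast h5
  rw [hblock, ← hcT, ← hcN] at hT0
  have hkey : ∑ x ∈ PC.erase 1, (χ : G → ℂ) (x : G) =
      - ((((Subgroup.centralizer ((P : Subgroup G) : Set G)).relIndex
        (Subgroup.normalizer ((P : Subgroup G) : Set G)) : ℕ) : ℂ) *
      (θ : ↥(Subgroup.centralizer ((P : Subgroup G) : Set G)) → ℂ) 1 * ∑ j, (m (r j) - m θ)) := by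
    have h6 : (Nat.card (Subgroup.centralizer ((P : Subgroup G) : Set G)) : ℂ) *
        (((Subgroup.centralizer ((P : Subgroup G) : Set G)).relIndex T : ℕ) : ℂ) ≠ 0 :=
      mul_ne_zero hC0 he0
    apply mul_left_cancel₀ h6
    rw [hT0]
    ring
  refine ⟨(k : ℤ), ?_⟩
  rw [hkey] at hsumP
  rw [Int.cast_natCast]
  linear_combination hsumP

end glob

end Cfsg.Agent.Lib.helper7.BD
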