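import Mathlib
import Cfsg.Agent.Lib.helper15.PSL.Defs
import Cfsg.Agent.Lib.Helper21.PSLPOS
import Cfsg.Agent.Lib.Helper13.PSLEXB

/-!
# Project PSL (S4504), piece INEQ2, core (T1SUM, TNSUM, QY, QCHI as hypotheses; POS and EXB are landed)
-/

set_option autoImplicit false
set_option linter.unusedVariables false
set_option linter.unusedSectionVars false
open scoped ComplexConjugate
open Classical

namespace Cfsg.Agent.Lib.helper15.PSL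

open Cfsg.Agent.Lib.helper7 Cfsg.Agent.Lib.helper7.BR Cfsg.Agent.Lib.helper2 Cfsg.Agent.Lib.Helper25
  Cfsg.Agent.Lib.Helper29 Cfsg.Agent.Lib.helper15.BH

universe u

variable {G : Type u} [Group G] [Fintype G] {p : ℕ} [Fact p.Prime]

/-- a non-trivial element of `P` -/
theorem pslineq2_exists {f : ℕ} {P : Sylow p G} (hL : Loc p f P) :
    ∃ a₀ ∈ (P : Subgroup G), a₀ ≠ 1 := by
  by_contra hcon
  push Not at hcon
  have hbot : (P : Subgroup G) = ⊥ := by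
    rw [Subgroup.eq_bot_iff_forall]
    exact hcon
  have h1 := hL.cardP
  rw [hbot, Subgroup.card_bot] at h1
  exact (Fact.out : p.Prime).one_lt.ne' h1.symm

/-- INEQ2, core -/
theorem pslineq2_core [Fintype (Cfsg.IrrCharacter G)] {f : ℕ} {P : Sylow p G}
    {X Y X' : Finset (Cfsg.IrrCharacter G)}
    {D : ℕ} {χ χ' : Cfsg.IrrCharacter G} (hL : Loc p f P)
    (z : G) (y : ℂ)
    (hT1 : ∀ a₀ b : G, a₀ ∈ (P : Subgroup G) → a₀ ≠ 1 → b ∈ (P : Subgroup G) → b ≠ 1 →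
      ∑ ξ ∈ Finset.univ.filter (SameCC (trivIrr G)), term a₀ b z ξ =
        Upart X z + (∑ η ∈ Y, (η : G → ℂ) a₀ * (η : G → ℂ) b) * conj y / (D : ℂ))
    (hQY : ∀ a₀ b : G, a₀ ∈ (P : Subgroup G) → a₀ ≠ 1 → b ∈ (P : Subgroup G) → b ≠ 1 →
      ∑ η ∈ Y, (η : G → ℂ) a₀ * (η : G → ℂ) b =
        if IsConj a₀⁻¹ b then (f : ℂ) + 1 else -(f : ℂ))
    (hTN : ∀ a₀ b : G, a₀ ∈ (P : Subgroup G) → a₀ ≠ 1 → b ∈ (P : Subgroup G) → b ≠ 1 →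
      ∑ ξ ∈ Finset.univ.filter (SameCC χ), term a₀ b z ξ =
        Upart X' z + ((χ : G → ℂ) a₀ * (χ : G → ℂ) b + (χ' : G → ℂ) a₀ * (χ' : G → ℂ) b) *
          conj ((χ : G → ℂ) z) / (f : ℂ))
    (hQC : ∀ a₀ b : G, a₀ ∈ (P : Subgroup G) → a₀ ≠ 1 → b ∈ (P : Subgroup G) → b ≠ 1 →
      (χ : G → ℂ) a₀ * (χ : G → ℂ) b + (χ' : G → ℂ) a₀ * (χ' : G → ℂ) b =
        if IsConj a₀⁻¹ b then (f : ℂ) + 1 else -(f : ℂ)) :
    ‖Upart X' z + ((f : ℂ) + 1) * conj ((χ : G → ℂ) z) / (f : ℂ)‖ ≤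
      (Upart X z + ((f : ℂ) + 1) * conj y / (D : ℂ)).re ∧
    ‖Upart X' z - (f : ℂ) * conj ((χ : G → ℂ) z) / (f : ℂ)‖ ≤
      (Upart X z - (f : ℂ) * conj y / (D : ℂ)).re := by
  obtain ⟨a₀, ha₀, ha₀1⟩ := pslineq2_exists hL
  have hinv : a₀⁻¹ ∈ (P : Subgroup G) := Subgroup.inv_mem _ ha₀
  have hinv1 : a₀⁻¹ ≠ 1 := fun h => ha₀1 (inv_eq_one.mp h)
  constructor
  · -- `b = a₀⁻¹`
    obtain ⟨r, hr1, hr2⟩ := pos_main χ a₀ a₀⁻¹ z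
    rw [hT1 a₀ a₀⁻¹ ha₀ ha₀1 hinv hinv1, hQY a₀ a₀⁻¹ ha₀ ha₀1 hinv hinv1,
      if_pos (IsConj.refl _)] at hr1
    rw [hTN a₀ a₀⁻¹ ha₀ ha₀1 hinv hinv1, hQC a₀ a₀⁻¹ ha₀ ha₀1 hinv hinv1,
      if_pos (IsConj.refl _)] at hr2
    rw [hr1, Complex.ofReal_re]
    exact hr2
  · -- `b` not conjugate to `a₀⁻¹`
    obtain ⟨b, hb, hb1, hnc⟩ := exists_nonconj hL a₀⁻¹ hinv hinv1
    obtain ⟨r, hr1, hr2⟩ := pos_main χ a₀ b z
    rw [hT1 a₀ b ha₀ ha₀1 hb hb1, hQY a₀ b ha₀ ha₀1 hb hb1, if_neg hnc] at hr1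
    rw [hTN a₀ b ha₀ ha₀1 hb hb1, hQC a₀ b ha₀ ha₀1 hb hb1, if_neg hnc] at hr2
    have e1 : Upart X z - (f : ℂ) * conj y / (D : ℂ) =
        Upart X z + -(f : ℂ) * conj y / (D : ℂ) := by ring
    have e2 : Upart X' z - (f : ℂ) * conj ((χ : G → ℂ) z) / (f : ℂ) =
        Upart X' z + -(f : ℂ) * conj ((χ : G → ℂ) z) / (f : ℂ) := by ring
    rw [e1, e2, hr1, Complex.ofReal_re]
    exact hr2

end Cfsg.Agent.Lib.helper15.PSL
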