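import Mathlib
import Cfsg.Agent.Lib.helper15.PSL.Defs
import Cfsg.Agent.Lib.Helper25.CharOrth

/-!
# Project PSL (S4504), piece QCHI, core: the hypotheses of `Q_gen` for the pair `χ, χ'` (case B)
-/

set_option autoImplicit false
set_option linter.unusedVariables false
set_option linter.unusedSectionVars false
open scoped ComplexConjugate
open Classical

namespace Cfsg.Agent.Lib.helper15.PSL

open Cfsg.Agent.Lib.helper7 Cfsg.Agent.Lib.helper7.BR Cfsg.Agent.Lib.helper2 Cfsg.Agent.Lib.Helper25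
  Cfsg.Agent.Lib.Helper29 Cfsg.Agent.Lib.helper15.BH

universe u

variable {G : Type u} [Group G] [Fintype G] {p : ℕ} [Fact p.Prime]

/-- a non-trivial element of `P` is `p`-singular -/
theorem pslqchi_sing {f : ℕ} {P : Sylow p G} (hL : Loc p f P) (x : G)
    (hx : x ∈ (P : Subgroup G)) (hx1 : x ≠ 1) : p ∣ orderOf x := by
  have h1 : orderOf x ∣ p := by
    have := Subgroup.orderOf_dvd_natCard (P : Subgroup G) hx
    rwa [hL.cardP] at this
  rcases (Nat.dvd_prime (Fact.out : p.Prime)).mp h1 with h | h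
  · exact absurd (orderOf_eq_one_iff.mp h) hx1
  · rw [h]

/-- the number of members of `X` with sign `-1` in case B -/
theorem pslqchi_cardXm {f : ℕ} {P : Sylow p G} {X Y : Finset (Cfsg.IrrCharacter G)}
    {a : Cfsg.IrrCharacter G → ℤ} {ε : ℤ} {D : ℕ} {χ χ' η₀ : Cfsg.IrrCharacter G}
    (hB : PB p f (P : Subgroup G) X Y a ε D) (hC : CaseB f χ χ' X Y a ε D η₀) :
    2 * (Xm X a).card = f := by
  have h1 : (Xp X a).card + (Xm X a).card = X.card := by
    have h2 : Xm X a = X.filter (fun ξ => ¬ a ξ = 1) := by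
      unfold Xm
      apply Finset.filter_congr
      intro ξ hξ
      constructor
      · intro h; rw [h]; norm_num
      · intro h
        rcases hB.a_pm ξ hξ with h' | h'
        · exact absurd h' h
        · exact h'
    rw [h2]
    unfold Xp
    exact Finset.card_filter_add_card_filter_not (fun ξ => a ξ = 1)
  have h3 := hC.cardXp
  have h4 := hB.cardX
  omega

/-- the value of `χ` at `x ∈ P ∖ 1` is real and satisfies `χ(x)² + χ(x) = f / 2` -/
theorem pslqchi_val {f : ℕ} {P : Sylow p G} {X Y X' : Finset (Cfsg.IrrCharacter G)}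
    {a a' : Cfsg.IrrCharacter G → ℤ} {ε : ℤ} {D : ℕ} {χ χ' η₀ : Cfsg.IrrCharacter G}
    (hL : Loc p f P) (hB : PB p f (P : Subgroup G) X Y a ε D)
    (hC : CaseB f χ χ' X Y a ε D η₀) (hX : BX p f (P : Subgroup G) χ χ' X' a')
    (x : G) (hx : x ∈ (P : Subgroup G)) (hx1 : x ≠ 1) :
    conj ((χ : G → ℂ) x) = (χ : G → ℂ) x ∧
      2 * ((χ : G → ℂ) x * (χ : G → ℂ) x + (χ : G → ℂ) x) = (f : ℂ) := by
  have hs := pslqchi_sing hL x hx hx1
  have hW := hC.W' x
  have hsum : ∑ ξ ∈ Xm X a, (ξ : G → ℂ) x = -((Xm X a).card : ℂ) := by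
    have : ∀ ξ ∈ Xm X a, (ξ : G → ℂ) x = -1 := by
      intro ξ hξ
      have hξ' := Finset.mem_filter.mp hξ
      rw [hB.valX ξ hξ'.1 x hs, hξ'.2]; norm_num
    rw [Finset.sum_congr rfl this, Finset.sum_const, nsmul_eq_mul]; ring
  have hm := pslqchi_cardXm hB hC
  have hm' : 2 * ((Xm X a).card : ℂ) = (f : ℂ) := by exact_mod_cast hm
  have hχ' : (χ' : G → ℂ) x = -1 - (χ : G → ℂ) x := by
    have := hX.hsum x hx hx1
    linear_combination this
  rw [hsum, hχ'] at hW
  set c := (χ : G → ℂ) x with hc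
  set m := ((Xm X a).card : ℂ) with hmdef
  have hconj : conj (-1 - c) = -1 - conj c := by simp
  rw [hconj] at hW
  -- c * (-1 - conj c) = -m
  have hcc : c = m - c * conj c := by linear_combination -hW
  have hreal : conj c = c := by
    have h1 : conj (c * conj c) = c * conj c := by
      rw [map_mul, Complex.conj_conj]; ring
    have hmreal : conj m = m := by rw [hmdef]; simp
    calc conj c = conj (m - c * conj c) := by rw [← hcc]
      _ = m - c * conj c := by rw [map_sub, h1, hmreal]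
      _ = c := hcc.symm
  refine ⟨hreal, ?_⟩
  rw [hreal] at hcc
  linear_combination (2 : ℂ) * hcc + hm'

/-- auxiliary: the sum of a constant over `P ∖ 1` -/
theorem pslqchi_sum_const (P : Subgroup G) (m : ℂ) :
    ∑ x : ↥P, (if (x : G) = 1 then 0 else m) = ((Nat.card ↥P : ℂ) - 1) * m := by
  have h1 : ∀ x : ↥P, (if (x : G) = 1 then (0 : ℂ) else m) = m - (if x = 1 then m else 0) := by
    intro x
    by_cases hx : x = 1
    · subst hx; simp
    · have : (x : G) ≠ 1 := fun h => hx (Subtype.ext h)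
      simp [hx, this]
  rw [Finset.sum_congr rfl (fun x _ => h1 x), Finset.sum_sub_distrib, Finset.sum_const,
    Finset.sum_ite_eq' Finset.univ (1 : ↥P) (fun _ => m)]
  simp only [Finset.mem_univ, if_true, Finset.card_univ, nsmul_eq_mul, Nat.card_eq_fintype_card]
  ring

/-- the sum of `χ` over `P ∖ 1` -/
theorem pslqchi_hP1 {f : ℕ} {P : Sylow p G} {X' : Finset (Cfsg.IrrCharacter G)}
    {a' : Cfsg.IrrCharacter G → ℤ} {χ χ' : Cfsg.IrrCharacter G}
    (hX : BX p f (P : Subgroup G) χ χ' X' a') :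
    ∑ x : ↥(P : Subgroup G), (if (x : G) = 1 then 0 else (χ : G → ℂ) (x : G)) =
      -(1 : ℂ) * (f : ℂ) := by
  have h1 : ∀ x : ↥(P : Subgroup G), (if (x : G) = 1 then (0 : ℂ) else (χ : G → ℂ) (x : G)) =
      (χ : G → ℂ) (x : G) - (if x = 1 then (χ : G → ℂ) 1 else 0) := by
    intro x
    by_cases hx : x = 1
    · subst hx; simp
    · have : (x : G) ≠ 1 := fun h => hx (Subtype.ext h)
      simp [hx, this]
  rw [Finset.sum_congr rfl (fun x _ => h1 x), Finset.sum_sub_distrib, hX.sumP,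
    Finset.sum_ite_eq' Finset.univ (1 : ↥(P : Subgroup G)) (fun _ => (χ : G → ℂ) 1)]
  simp only [Finset.mem_univ, if_true, hX.degχ]
  ring

/-- the square sum of `χ` over `P ∖ 1` -/
theorem pslqchi_hsq {f : ℕ} {P : Sylow p G} {X Y X' : Finset (Cfsg.IrrCharacter G)}
    {a a' : Cfsg.IrrCharacter G → ℤ} {ε : ℤ} {D : ℕ} {χ χ' η₀ : Cfsg.IrrCharacter G}
    (hL : Loc p f P) (hB : PB p f (P : Subgroup G) X Y a ε D)
    (hC : CaseB f χ χ' X Y a ε D η₀) (hX : BX p f (P : Subgroup G) χ χ' X' a') :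
    ∑ x : ↥(P : Subgroup G),
        (if (x : G) = 1 then 0 else (χ : G → ℂ) (x : G) * conj ((χ : G → ℂ) (x : G))) =
      (f : ℂ) * ((f : ℂ) + 1) := by
  have h1 : ∀ x : ↥(P : Subgroup G),
      (if (x : G) = 1 then (0 : ℂ) else (χ : G → ℂ) (x : G) * conj ((χ : G → ℂ) (x : G))) =
      (if (x : G) = 1 then (0 : ℂ) else (f : ℂ) / 2) -
        (if (x : G) = 1 then (0 : ℂ) else (χ : G → ℂ) (x : G)) := by
    intro x
    by_cases hx : (x : G) = 1
    · simp [hx]
    · obtain ⟨hr, hq⟩ := pslqchi_val hL hB hC hX (x : G) x.2 hx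
      simp only [hx, if_false]
      rw [hr]
      linear_combination (1 / 2 : ℂ) * hq
  rw [Finset.sum_congr rfl (fun x _ => h1 x), Finset.sum_sub_distrib, pslqchi_sum_const,
    pslqchi_hP1 hX, hL.cardP]
  have hp : (p : ℂ) = 2 * (f : ℂ) + 1 := by
    have := hL.two_f
    exact_mod_cast this.symm
  rw [hp]
  ring

end Cfsg.Agent.Lib.helper15.PSL
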