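import Mathlib
import Cfsg.Agent.Lib.helper15.PSL.Defs
import Cfsg.Agent.Lib.Helper25.PSLQCHIcore
import Cfsg.Agent.Lib.Helper20.PSLQGEN

/-!
# Project PSL (S4504), piece QCHI (verbatim)
-/

set_option autoImplicit false
set_option linter.unusedVariables false
set_option linter.unusedSectionVars false
open scoped ComplexConjugate
open Classical

namespace Cfsg.Agent.Lib.helper15.PSL

open Cfsg.Agent.Lib.helper7 Cfsg.Agent.Lib.helper7.BR Cfsg.Agent.Lib.helper2 Cfsg.Agent.Lib.Helper25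
  Cfsg.Agent.Lib.Helper29 Cfsg.Agent.Lib.helper15.BH

universe u

variable {G : Type u} [Group G] [Fintype G] {p : ℕ} [Fact p.Prime]

/-- QCHI : `QGEN` for `χ, χ'` -/
theorem Q_chi {f : ℕ} {P : Sylow p G} {X Y X' : Finset (Cfsg.IrrCharacter G)}
    {a a' : Cfsg.IrrCharacter G → ℤ} {ε : ℤ} {D : ℕ} {χ χ' η₀ : Cfsg.IrrCharacter G}
    (hL : Loc p f P) (hB : PB p f (P : Subgroup G) X Y a ε D)
    (hC : CaseB f χ χ' X Y a ε D η₀) (hX : BX p f (P : Subgroup G) χ χ' X' a')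
    (a₀ b : G) (ha₀ : a₀ ∈ (P : Subgroup G)) (ha₀1 : a₀ ≠ 1) (hb : b ∈ (P : Subgroup G)) (hb1 : b ≠ 1) :
    (χ : G → ℂ) a₀ * (χ : G → ℂ) b + (χ' : G → ℂ) a₀ * (χ' : G → ℂ) b =
      if IsConj a₀⁻¹ b then (f : ℂ) + 1 else -(f : ℂ) :=
  Q_gen hL χ χ' 1 (Or.inl rfl) (fun x hx hx1 => hX.hsum x hx hx1) (pslqchi_hP1 hX)
    (pslqchi_hsq hL hB hC hX) a₀ b ha₀ ha₀1 hb hb1

end Cfsg.Agent.Lib.helper15.PSL
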