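import Mathlib
import Cfsg.Agent.Lib.helper15.PSL.Defs
import Cfsg.Agent.Lib.Helper25.CharOrth
import Cfsg.Agent.Lib.Helper25.PSLQCHIcore
import Cfsg.Agent.Lib.helper7.CharCentral

/-!
# Project PSL (S4504), piece TNSUM, core (with VANISH as a hypothesis)
-/

set_option autoImplicit false
set_option linter.unusedVariables false
set_option linter.unusedSectionVars false
open scoped ComplexConjugate
open Classical

namespace Cfsg.Agent.Lib.helper15.PSL

open Cfsg.Agent.Lib.helper7 Cfsg.Agent.Lib.helper7.BR Cfsg.Agent.Lib.helper2 Cfsg.Agent.Lib.Helper25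
  Cfsg.Agent.Lib.Helper29 Cfsg.Agent.Lib.helper15.BH

universe u

variable {G : Type u} [Group G] [Fintype G] {p : ℕ} [Fact p.Prime]

/-- the centre is a `p'`-group -/
theorem psltnsum_center {f : ℕ} {P : Sylow p G} (hL : Loc p f P) :
    ¬ p ∣ Nat.card ↥(Subgroup.center G) := by
  intro hdiv
  have hp : p.Prime := Fact.out
  have h1 : Nat.card ↥(P : Subgroup G) = p ^ (Nat.card G).factorization p :=
    Sylow.card_eq_multiplicity P
  rw [hL.cardP] at h1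
  have hk : (Nat.card G).factorization p = 1 := by
    have : p ^ 1 = p ^ (Nat.card G).factorization p := by rw [pow_one]; exact h1
    exact (Nat.pow_right_injective hp.two_le this).symm
  have h2 : p ^ 2 ∣ Nat.card G := by
    have h3 : Nat.card ↥(cen P) ∣ Nat.card G := Subgroup.card_subgroup_dvd_card _
    rw [hL.cardC] at h3
    refine dvd_trans ?_ h3
    rw [pow_two]
    exact Nat.mul_dvd_mul_left p hdiv
  have h4 := (hp.pow_dvd_iff_le_factorization (Nat.card_pos.ne')).mp h2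
  omega

/-- central elements are `p`-regular -/
theorem psltnsum_center_reg {f : ℕ} {P : Sylow p G} (hL : Loc p f P) (ζ : G)
    (hζ : ζ ∈ Subgroup.center G) : ¬ p ∣ orderOf ζ := by
  intro h
  exact psltnsum_center hL (dvd_trans h (Subgroup.orderOf_dvd_natCard _ hζ))

/-- the value of a member of `X'` on `P ∖ 1` -/
theorem psltnsum_valX' {f : ℕ} {P : Sylow p G} {X' : Finset (Cfsg.IrrCharacter G)}
    {a' : Cfsg.IrrCharacter G → ℤ} {χ χ' : Cfsg.IrrCharacter G} (hL : Loc p f P)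
    (hX : BX p f (P : Subgroup G) χ χ' X' a') (ξ : Cfsg.IrrCharacter G) (hξ : ξ ∈ X')
    (x : G) (hx : x ∈ (P : Subgroup G)) (hx1 : x ≠ 1) : (ξ : G → ℂ) x = (a' ξ : ℂ) := by
  have h := hX.val ξ hξ x hx hx1 1 (Subgroup.one_mem _)
  rw [mul_one, hX.degχ] at h
  have hf : (f : ℂ) ≠ 0 := by
    have := hL.f_ge
    exact_mod_cast (by omega : f ≠ 0)
  have : (f : ℂ) * ((ξ : G → ℂ) x - (a' ξ : ℂ)) = 0 := by linear_combination h
  rcases mul_eq_zero.mp this with h' | h'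
  · exact absurd h' hf
  · linear_combination h'

/-- `a'` as a complex number squares to one -/
theorem psltnsum_sq {X' : Finset (Cfsg.IrrCharacter G)} {a' : Cfsg.IrrCharacter G → ℤ}
    (hpm : ∀ ξ ∈ X', a' ξ = 1 ∨ a' ξ = -1) (ξ : Cfsg.IrrCharacter G) (hξ : ξ ∈ X') :
    (a' ξ : ℂ) * (a' ξ : ℂ) = 1 := by
  rcases hpm ξ hξ with h | h <;> rw [h] <;> norm_num

/-- the members of `X'` have the central character of `χ` -/
theorem psltnsum_cc {f : ℕ} {P : Sylow p G} {X' : Finset (Cfsg.IrrCharacter G)}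
    {a' : Cfsg.IrrCharacter G → ℤ} {χ χ' : Cfsg.IrrCharacter G} (hL : Loc p f P)
    (hX : BX p f (P : Subgroup G) χ χ' X' a') (ξ : Cfsg.IrrCharacter G) (hξ : ξ ∈ X')
    (a₀ : G) (ha₀ : a₀ ∈ (P : Subgroup G)) (ha₀1 : a₀ ≠ 1) : SameCC χ ξ := by
  intro ζ hζ
  obtain ⟨c, hc⟩ := h7_central_char ξ.2 ζ hζ
  have h1 : (ξ : G → ℂ) ζ = c * (ξ : G → ℂ) 1 := by simpa using hc 1
  have h2 : (ξ : G → ℂ) (a₀ * ζ) = c * (a' ξ : ℂ) := by
    have hcomm : a₀ * ζ = ζ * a₀ := Subgroup.mem_center_iff.mp hζ a₀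
    rw [hcomm, hc a₀, psltnsum_valX' hL hX ξ hξ a₀ ha₀ ha₀1]
  have h3 := hX.val ξ hξ a₀ ha₀ ha₀1 ζ hζ
  rw [h2] at h3
  have hsq := psltnsum_sq hX.a_pm ξ hξ
  have h4 : (f : ℂ) * c = (χ : G → ℂ) ζ := by
    have : (f : ℂ) * c * ((a' ξ : ℂ) * (a' ξ : ℂ)) = (χ : G → ℂ) ζ * ((a' ξ : ℂ) * (a' ξ : ℂ)) := by
      linear_combination (a' ξ : ℂ) * h3
    rwa [hsq, mul_one, mul_one] at this
  rw [h1, hX.degχ, ← h4]
  ring

/-- `χ ∉ X'` -/
theorem psltnsum_chi_notMem {f : ℕ} {P : Sylow p G} {X' : Finset (Cfsg.IrrCharacter G)}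
    {a' : Cfsg.IrrCharacter G → ℤ} {χ χ' : Cfsg.IrrCharacter G} (hL : Loc p f P)
    (hX : BX p f (P : Subgroup G) χ χ' X' a') : χ ∉ X' := by
  intro hmem
  have h1 := pslqchi_hP1 hX
  have h2 : ∀ x : ↥(P : Subgroup G), (if (x : G) = 1 then (0 : ℂ) else (χ : G → ℂ) (x : G)) =
      (if (x : G) = 1 then (0 : ℂ) else (a' χ : ℂ)) := by
    intro x
    by_cases hx : (x : G) = 1
    · simp [hx]
    · simp only [hx, if_false]
      exact psltnsum_valX' hL hX χ hmem (x : G) x.2 hx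
  rw [Finset.sum_congr rfl (fun x _ => h2 x), pslqchi_sum_const, hL.cardP] at h1
  have hp : (p : ℂ) = 2 * (f : ℂ) + 1 := by
    have := hL.two_f
    exact_mod_cast this.symm
  have hf : (f : ℂ) ≠ 0 := by
    have := hL.f_ge
    exact_mod_cast (by omega : f ≠ 0)
  rw [hp] at h1
  have h3 : (f : ℂ) * (2 * (a' χ : ℂ) + 1) = 0 := by linear_combination h1
  rcases mul_eq_zero.mp h3 with h' | h'
  · exact hf h'
  · rcases hX.a_pm χ hmem with h | h <;> rw [h] at h' <;> norm_num at h'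

/-- `χ' ∉ X'` -/
theorem psltnsum_chi'_notMem {f : ℕ} {P : Sylow p G} {X' : Finset (Cfsg.IrrCharacter G)}
    {a' : Cfsg.IrrCharacter G → ℤ} {χ χ' : Cfsg.IrrCharacter G} (hL : Loc p f P)
    (hX : BX p f (P : Subgroup G) χ χ' X' a') : χ' ∉ X' := by
  intro hmem
  have h1 := pslqchi_hP1 hX
  have h2 : ∀ x : ↥(P : Subgroup G), (if (x : G) = 1 then (0 : ℂ) else (χ : G → ℂ) (x : G)) =
      (if (x : G) = 1 then (0 : ℂ) else (-1 - (a' χ' : ℂ))) := by
    intro x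
    by_cases hx : (x : G) = 1
    · simp [hx]
    · simp only [hx, if_false]
      have h3 := psltnsum_valX' hL hX χ' hmem (x : G) x.2 hx
      have h4 := hX.hsum (x : G) x.2 hx
      linear_combination h4 - h3
  rw [Finset.sum_congr rfl (fun x _ => h2 x), pslqchi_sum_const, hL.cardP] at h1
  have hp : (p : ℂ) = 2 * (f : ℂ) + 1 := by
    have := hL.two_f
    exact_mod_cast this.symm
  have hf : (f : ℂ) ≠ 0 := by
    have := hL.f_ge
    exact_mod_cast (by omega : f ≠ 0)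
  rw [hp] at h1
  have h3 : (f : ℂ) * (2 * (a' χ' : ℂ) + 1) = 0 := by linear_combination -h1
  rcases mul_eq_zero.mp h3 with h' | h'
  · exact hf h'
  · rcases hX.a_pm χ' hmem with h | h <;> rw [h] at h' <;> norm_num at h'

/-- TNSUM, core: `VANISH` as a hypothesis -/
theorem psltnsum_core [Fintype (Cfsg.IrrCharacter G)] {f : ℕ} {P : Sylow p G}
    {X Y X' : Finset (Cfsg.IrrCharacter G)} {a a' : Cfsg.IrrCharacter G → ℤ} {ε : ℤ} {D : ℕ}
    {χ χ' η₀ : Cfsg.IrrCharacter G} (hL : Loc p f P) (hB : PB p f (P : Subgroup G) X Y a ε D)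
    (hC : CaseB f χ χ' X Y a ε D η₀) (hX : BX p f (P : Subgroup G) χ χ' X' a')
    (a₀ b : G) (ha₀ : a₀ ∈ (P : Subgroup G)) (ha₀1 : a₀ ≠ 1) (hb : b ∈ (P : Subgroup G)) (hb1 : b ≠ 1)
    (z : G) (hz : ¬ p ∣ orderOf z)
    (hV : ∀ S : Finset (Cfsg.IrrCharacter G), (∀ ξ ∈ S, SameCC χ ξ) →
      ∑ ξ ∈ S, (ξ : G → ℂ) a₀ * conj ((ξ : G → ℂ) a₀) = (p : ℂ) →
      ∀ ξ : Cfsg.IrrCharacter G, SameCC χ ξ → ξ ∉ S → (ξ : G → ℂ) a₀ = 0) :
    ∑ ξ ∈ Finset.univ.filter (SameCC χ), term a₀ b z ξ =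
      Upart X' z + ((χ : G → ℂ) a₀ * (χ : G → ℂ) b + (χ' : G → ℂ) a₀ * (χ' : G → ℂ) b) *
        conj ((χ : G → ℂ) z) / (f : ℂ) := by
  have hχX := psltnsum_chi_notMem hL hX
  have hχ'X := psltnsum_chi'_notMem hL hX
  have hne : χ ≠ χ' := fun h => hX.hne h.symm
  have hχ'1 : (χ' : G → ℂ) 1 = (f : ℂ) := by
    rw [hX.hreg 1 (by rw [orderOf_one]; exact (Fact.out : p.Prime).one_lt.ne' ∘ Nat.dvd_one.mp),
      hX.degχ]
  set S : Finset (Cfsg.IrrCharacter G) := insert χ (insert χ' X') with hSdef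
  have hχins : χ ∉ insert χ' X' := by
    rw [Finset.mem_insert]; push Not; exact ⟨hne, hχX⟩
  -- all members of `S` have the central character of `χ`
  have hS : ∀ ξ ∈ S, SameCC χ ξ := by
    intro ξ hξ
    rw [hSdef, Finset.mem_insert, Finset.mem_insert] at hξ
    rcases hξ with rfl | rfl | hξ
    · intro ζ _; ring
    · intro ζ hζ
      rw [hX.hreg ζ (psltnsum_center_reg hL ζ hζ), hχ'1, hX.degχ]
    · exact psltnsum_cc hL hX ξ hξ a₀ ha₀ ha₀1
  -- the column sum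
  obtain ⟨hreal, hq⟩ := pslqchi_val hL hB hC hX a₀ ha₀ ha₀1
  have hχ'a : (χ' : G → ℂ) a₀ = -1 - (χ : G → ℂ) a₀ := by
    have := hX.hsum a₀ ha₀ ha₀1
    linear_combination this
  have hp : (p : ℂ) = 2 * (f : ℂ) + 1 := by
    have := hL.two_f
    exact_mod_cast this.symm
  have hsumX : ∑ ξ ∈ X', (ξ : G → ℂ) a₀ * conj ((ξ : G → ℂ) a₀) = (f : ℂ) := by
    have : ∀ ξ ∈ X', (ξ : G → ℂ) a₀ * conj ((ξ : G → ℂ) a₀) = 1 := by
      intro ξ hξ
      rw [psltnsum_valX' hL hX ξ hξ a₀ ha₀ ha₀1]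
      have : conj ((a' ξ : ℂ)) = (a' ξ : ℂ) := by simp
      rw [this]
      exact psltnsum_sq hX.a_pm ξ hξ
    rw [Finset.sum_congr rfl this, Finset.sum_const, nsmul_eq_mul, mul_one, hX.cardX]
  have hsum : ∑ ξ ∈ S, (ξ : G → ℂ) a₀ * conj ((ξ : G → ℂ) a₀) = (p : ℂ) := by
    rw [hSdef, Finset.sum_insert hχins, Finset.sum_insert hχ'X, hsumX, hχ'a, hp]
    have : conj (-1 - (χ : G → ℂ) a₀) = -1 - (χ : G → ℂ) a₀ := by
      rw [map_sub, hreal]; simp
    rw [this, hreal]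
    linear_combination hq
  have hvan := hV S hS hsum
  -- reduce the sum to `S`
  have hsub : S ⊆ Finset.univ.filter (SameCC χ) := by
    intro ξ hξ
    exact Finset.mem_filter.mpr ⟨Finset.mem_univ _, hS ξ hξ⟩
  have hzero : ∀ ξ ∈ Finset.univ.filter (SameCC χ), ξ ∉ S → term a₀ b z ξ = 0 := by
    intro ξ hξ hξS
    have := hvan ξ (Finset.mem_filter.mp hξ).2 hξS
    unfold term
    rw [this]; ring
  rw [← Finset.sum_subset hsub hzero, hSdef, Finset.sum_insert hχins, Finset.sum_insert hχ'X]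
  have hX'term : ∑ ξ ∈ X', term a₀ b z ξ = Upart X' z := by
    unfold Upart
    apply Finset.sum_congr rfl
    intro ξ hξ
    unfold term
    rw [psltnsum_valX' hL hX ξ hξ a₀ ha₀ ha₀1, psltnsum_valX' hL hX ξ hξ b hb hb1,
      psltnsum_sq hX.a_pm ξ hξ, one_mul]
  rw [hX'term]
  unfold term
  rw [hX.hreg z hz, hχ'1, hX.degχ]
  ring

end Cfsg.Agent.Lib.helper15.PSL
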