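import Mathlib
import Cfsg.Agent.Lib.helper15.PSL.Defs
import Cfsg.Agent.Lib.Helper25.PSLTNSUMcore
import Cfsg.Agent.Lib.Helper28.PSLVANISH

/-!
# Project PSL (S4504), piece TNSUM (verbatim)
-/

set_option autoImplicit false
set_option linter.unusedVariables false
set_option linter.unusedSectionVars false
open scoped ComplexConjugate
open Classical

namespace Cfsg.Agent.Lib.helper15.PSL

open Cfsg.Agent.Lib.helper7 Cfsg.Agent.Lib.helper7.BR Cfsg.Agent.Lib.helper2 Cfsg.Agent.Lib.Helper25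
  Cfsg.Agent.Lib.Helper29 Cfsg.Agent.Lib.helper15.BH

universe u

variable {G : Type u} [Group G] [Fintype G] {p : ℕ} [Fact p.Prime]

/-- TNSUM : the class multiplication constant, summed over the characters with the central character of `χ` -/
theorem tnu_sum [Fintype (Cfsg.IrrCharacter G)] {f : ℕ} {P : Sylow p G}
    {X Y X' : Finset (Cfsg.IrrCharacter G)} {a a' : Cfsg.IrrCharacter G → ℤ} {ε : ℤ} {D : ℕ}
    {χ χ' η₀ : Cfsg.IrrCharacter G} (hL : Loc p f P) (hB : PB p f (P : Subgroup G) X Y a ε D)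
    (hC : CaseB f χ χ' X Y a ε D η₀) (hX : BX p f (P : Subgroup G) χ χ' X' a')
    (a₀ b : G) (ha₀ : a₀ ∈ (P : Subgroup G)) (ha₀1 : a₀ ≠ 1) (hb : b ∈ (P : Subgroup G)) (hb1 : b ≠ 1)
    (z : G) (hz : ¬ p ∣ orderOf z) :
    ∑ ξ ∈ Finset.univ.filter (SameCC χ), term a₀ b z ξ =
      Upart X' z + ((χ : G → ℂ) a₀ * (χ : G → ℂ) b + (χ' : G → ℂ) a₀ * (χ' : G → ℂ) b) *
        conj ((χ : G → ℂ) z) / (f : ℂ) :=
  psltnsum_core hL hB hC hX a₀ b ha₀ ha₀1 hb hb1 z hz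
    (fun S hS hsum => vanish_of_complete hL χ a₀ ha₀ ha₀1 S hS hsum)

end Cfsg.Agent.Lib.helper15.PSL
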