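import Mathlib
import Cfsg.Agent.Lib.helper15.PSL.Defs
import Cfsg.Agent.Lib.Helper25.PSLINEQ2core
import Cfsg.Agent.Lib.Helper25.PSLQCHI
import Cfsg.Agent.Lib.Helper25.PSLTNSUM
import Cfsg.Agent.Lib.Helper10.PSLQY
import Cfsg.Agent.Lib.helper23.PSLT1SUM

/-!
# Project PSL (S4504), piece INEQ2 (verbatim)
-/

set_option autoImplicit false
set_option linter.unusedVariables false
set_option linter.unusedSectionVars false
open scoped ComplexConjugate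
open Classical

namespace Cfsg.Agent.Lib.helper15.PSL

open Cfsg.Agent.Lib.helper7 Cfsg.Agent.Lib.helper7.BR Cfsg.Agent.Lib.helper2 Cfsg.Agent.Lib.Helper25
  Cfsg.Agent.Lib.Helper29 Cfsg.Agent.Lib.helper15.BH

universe u

variable {G : Type u} [Group G] [Fintype G] {p : ℕ} [Fact p.Prime]

/-- INEQ2 : the two inequalities from the block of `χ` -/
theorem ineq_two {f : ℕ} {P : Sylow p G} {X Y X' : Finset (Cfsg.IrrCharacter G)}
    {a a' : Cfsg.IrrCharacter G → ℤ} {ε : ℤ} {D : ℕ} {χ χ' η₀ : Cfsg.IrrCharacter G}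
    (hL : Loc p f P) (hB : PB p f (P : Subgroup G) X Y a ε D)
    (hC : CaseB f χ χ' X Y a ε D η₀) (hX : BX p f (P : Subgroup G) χ χ' X' a')
    (z : G) (hz : ¬ p ∣ orderOf z) (y : ℂ) (hy : ∀ η ∈ Y, (η : G → ℂ) z = y) :
    ‖Upart X' z + ((f : ℂ) + 1) * conj ((χ : G → ℂ) z) / (f : ℂ)‖ ≤
      (Upart X z + ((f : ℂ) + 1) * conj y / (D : ℂ)).re ∧
    ‖Upart X' z - (f : ℂ) * conj ((χ : G → ℂ) z) / (f : ℂ)‖ ≤
      (Upart X z - (f : ℂ) * conj y / (D : ℂ)).re := by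
  haveI : Fintype (Cfsg.IrrCharacter G) := Fintype.ofFinite _
  exact pslineq2_core hL z y
    (fun a₀ b ha₀ ha₀1 hb hb1 => t1_sum hL hB a₀ b ha₀ ha₀1 hb hb1 z hz y hy)
    (fun a₀ b ha₀ ha₀1 hb hb1 => Q_Y hL hB a₀ b ha₀ ha₀1 hb hb1)
    (fun a₀ b ha₀ ha₀1 hb hb1 => tnu_sum hL hB hC hX a₀ b ha₀ ha₀1 hb hb1 z hz)
    (fun a₀ b ha₀ ha₀1 hb hb1 => Q_chi hL hB hC hX a₀ b ha₀ ha₀1 hb hb1)

end Cfsg.Agent.Lib.helper15.PSL
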