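import Mathlib
import Cfsg.Agent.Lib.Helper27.STU.Defs
import Cfsg.Agent.Lib.Helper27.STU.Defs2

/-!
# Project STU (designer helper27), row Λ2 (helper25), VERBATIM: `Lam.bar_bar bar_mul bar_act inv_eq_act_bar act_neg_bar_inv comm_eq`
-/

set_option autoImplicit false

namespace Cfsg.Agent.Lib.Helper27.STU

open Cfsg.Agent.Lib.helper15.St2 Cfsg.Agent.Lib.helper3.STC

namespace Lam

variable {F : Type*} [Field F] [StarRing F] {od : Prop}

/-- Λ2 [S]  `bar` is an anti-automorphism; `(act (-u) (bar ξ))⁻¹ = act u ξ`. -/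
theorem bar_bar (ξ : Lam F od) : bar (bar ξ) = ξ := by
  ext
  · rfl
  · simp only [bar_c, star_star]

theorem bar_mul (ξ η : Lam F od) : bar (ξ * η) = bar η * bar ξ := by
  ext
  · simp only [bar_v, mul_v]
    ring
  · simp only [bar_c, mul_c, bar_v, star_sub, star_add, star_mul', star_star]
    ring

theorem bar_act (t : F) (ξ : Lam F od) : bar (act t ξ) = act t (bar ξ) := by
  ext
  · rfl
  · simp only [bar_c, act_c, star_mul', star_star]
    ring

theorem inv_eq_act_bar (ξ : Lam F od) : ξ⁻¹ = act (-1) (bar ξ) := by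
  ext
  · simp only [inv_v, act_v, bar_v]
    ring
  · simp only [inv_c, act_c, bar_c, star_neg, star_one]
    ring

theorem act_neg_bar_inv (u : F) (ξ : Lam F od) : (act (-u) (bar ξ))⁻¹ = act u ξ := by
  ext
  · simp only [inv_v, act_v, bar_v]
    ring
  · simp only [inv_c, act_c, bar_c, star_neg, star_mul', star_star]
    ring

/-- the commutator in `Lam` -/
theorem comm_eq (ξ η : Lam F od) : ξ * η * ξ⁻¹ * η⁻¹ = tr (-(ξ.v * star η.v)) := by
  ext
  · simp only [mul_v, inv_v, tr_v]
    ring
  · have h1 := ξ.h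
    have h2 := η.h
    simp only [mul_c, mul_v, inv_c, inv_v, tr_c, star_neg, star_mul', star_star]
    linear_combination h1 + h2

end Lam

end Cfsg.Agent.Lib.Helper27.STU
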