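import Mathlib
import Cfsg.Agent.Lib.Helper1.ODN.Defs
import Cfsg.Agent.Lib.Helper24.ODNSTDTY
import Cfsg.Agent.Lib.helper8.ONECM2A

/-!
# ODN row CNTONE (helper25): `odn_cnt_one`, `#{Q v = 1} = q^(d-1) (q^d - ε)`.
-/

set_option autoImplicit false
set_option linter.unusedVariables false

namespace Cfsg.Agent.Lib.Helper1.ODN

open Polynomial Module Cfsg.Agent.Lib.Helper13.S5955 Cfsg.Agent.Lib.helper15.S5972 Cfsg.Agent.Lib.Helper18.ONE
  Cfsg.Agent.Lib.Helper16.OSemi

/-- CNTONE [M]: helper8's `Cfsg.Agent.Lib.Helper18.ONE.onecm2_val_even` (helper8/ONECM2A.lean) with `V = ι → F`, `W = ⊤`, `B = polarBilin Q`, `c = 2` (`B v v = 2 Q v`): `q · N = q^(2d) - ε q^d`; STDTY. -/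
theorem odn_cnt_one {F : Type*} [Field F] [Fintype F] (h2 : (2 : F) ≠ 0) {ι : Type} [Fintype ι] [DecidableEq ι]
    (Q : QuadraticForm F (ι → F)) (hQ : (QuadraticMap.polarBilin Q).Nondegenerate) (d : ℕ) (hd : 1 ≤ d)
    (hcard : Fintype.card ι = 2 * d) (ε : ℤ) (hε : ε = 1 ∨ ε = -1) (htyQ : IsType (⇑Q) d ε) :
    (Nat.card {v : ι → F // Q v = 1} : ℤ) =
      (Fintype.card F : ℤ) ^ (d - 1) * ((Fintype.card F : ℤ) ^ d - ε) := by
  classical
  obtain ⟨hty, hsymm, hnd, hfr⟩ := odn_std_ty h2 Q hQ d hcard ε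
  have hOTy : OTy (QuadraticMap.polarBilin Q) ⊤ ε := hty.mp htyQ
  have htopnd : SND (QuadraticMap.polarBilin Q) (⊤ : Submodule F (ι → F)) :=
    fun u _ hu => hnd u (fun v => hu v trivial)
  have hval := onecm2_val_even h2 (QuadraticMap.polarBilin Q) hsymm ⊤ htopnd d hd
    (by rw [finrank_top, hfr]) ε hOTy (2 : F) h2
  -- the two counted sets are in bijection
  have hbij : Nat.card {w : ↥(⊤ : Submodule F (ι → F)) //
      QuadraticMap.polarBilin Q (w : ι → F) (w : ι → F) = 2} = Nat.card {v : ι → F // Q v = 1} := by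
    apply Nat.card_congr
    refine (Equiv.subtypeEquiv (Submodule.topEquiv (R := F) (M := ι → F)).toEquiv ?_)
    intro w
    rw [QuadraticMap.polarBilin_apply_apply, QuadraticMap.polar_self]
    change _ ↔ Q (w : ι → F) = 1
    have h4 : (2 : F) • Q (w : ι → F) = 2 * Q (w : ι → F) := smul_eq_mul _ _
    first
      | rw [h4]
      | (rw [two_nsmul, ← two_mul])
    constructor
    · intro h
      have h3 : 2 * Q (w : ι → F) = 2 * 1 := by rw [h, mul_one]
      exact mul_left_cancel₀ h2 h3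
    · intro h
      rw [h, mul_one]
  rw [hbij] at hval
  have hq0 : (Fintype.card F : ℤ) ≠ 0 := by
    have := Fintype.card_pos (α := F)
    exact_mod_cast this.ne'
  apply mul_left_cancel₀ hq0
  rw [hval]
  obtain ⟨e, rfl⟩ : ∃ e, d = e + 1 := ⟨d - 1, by omega⟩
  rw [Nat.add_sub_cancel]
  ring

end Cfsg.Agent.Lib.Helper1.ODN
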