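import Mathlib
import Cfsg.Agent.Lib.Helper1.ODN.Defs
import Cfsg.Agent.Lib.Helper24.S5972SPLIT
import Cfsg.Agent.Lib.helper23.ONECYCLADDER
import Cfsg.Agent.Lib.helper23.ONETYARITH
import Cfsg.Agent.Lib.Helper18.ONETYFPF

/-!
# ODN row FIXBOT (helper25): `odn_fix_bot`, `fixS x = ⊥` forces `c ∣ 2d` and the type.
-/

set_option autoImplicit false
set_option linter.unusedVariables false

namespace Cfsg.Agent.Lib.Helper1.ODN

open Polynomial Module Cfsg.Agent.Lib.Helper13.S5955 Cfsg.Agent.Lib.helper15.S5972 Cfsg.Agent.Lib.Helper18.ONE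

/-- FIXBOT [M]: `fixS x = ⊥` ⇒ `cycS r x = ⊤` (`o_split`: `IsCompl`), `c ∣ 2d` (ONE CYCDVD with `N = ⊤`), ONE TYFPF `ty_fpf` with `M = ⊤` (`finrank ⊤ = 2d`)
and ONE TYARITH `ty_arith` with `m := 2d`. -/
theorem odn_fix_bot {F : Type*} [Field F] [Fintype F] {p : ℕ} [Fact p.Prime] [CharP F p]
    (h2 : (2 : F) ≠ 0) {V : Type*} [AddCommGroup V] [Module F V] [FiniteDimensional F V]
    {r : ℕ} [Fact r.Prime] (hrp : r ≠ p) (hr2 : r ≠ 2) {B : LinearMap.BilinForm F V}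
    {x : Module.End F V} (h : OCtx r B x) (d : ℕ) (hd : 1 ≤ d) (hV : finrank F V = 2 * d) (i c : ℕ)
    (hi : i = orderOf ((Fintype.card F : ℕ) : ZMod r)) (hc : c = if Even i then i else 2 * i)
    (ε : ℤ) (hε : ε = 1 ∨ ε = -1) (hty : OTy B ⊤ ε) (hfix : fixS x = ⊥) :
    (2 * d) % c = 0 ∧ (ε = 1 ↔ (Odd i ∨ Even (2 * d / i))) := by
  obtain ⟨horth, hcompl, hfnd, hcnd⟩ := o_split hrp h
  have hcyc : cycS r x = ⊤ := by
    have h1 := hcompl.sup_eq_top
    rw [hfix, bot_sup_eq] at h1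
    exact h1
  have htopinv : SInv x (⊤ : Submodule F V) := fun _ _ => trivial
  have htopnd : SND B (⊤ : Submodule F V) := hcyc ▸ hcnd
  have htopc : (⊤ : Submodule F V) ≤ cycS r x := le_of_eq hcyc.symm
  have hdvd : c ∣ finrank F (⊤ : Submodule F V) :=
    o_cyc_nd_dvd hrp hr2 h i c hi hc ⊤ htopinv htopc htopnd
  have htop0 : (⊤ : Submodule F V) ≠ ⊥ := by
    intro h0
    have h1 := finrank_top F V
    rw [h0, finrank_bot] at h1
    omega
  have hfpf := ty_fpf h2 hrp h ⊤ htopinv htopnd htopc htop0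
    (by rw [finrank_top, hV]; exact even_two_mul d) ε hty
  rw [finrank_top, hV] at hdvd hfpf
  exact ⟨Nat.mod_eq_zero_of_dvd hdvd,
    ty_arith r hr2 (Fintype.card F) i c (2 * d) hi hc hdvd (by omega) ε hε hfpf⟩

end Cfsg.Agent.Lib.Helper1.ODN
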