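import Mathlib
import Cfsg.Agent.Lib.Helper1.ODN.Defs
import Cfsg.Agent.Lib.Helper18.ONESPLITW
import Cfsg.Agent.Lib.helper23.ONECYCLADDER

/-!
# ODN row CORNERFIX (helper25): `odn_corner_fix`, for `m < c` an invariant nondegenerate `m`-space lies in `fixS x`.
-/

set_option autoImplicit false
set_option linter.unusedVariables false

namespace Cfsg.Agent.Lib.Helper1.ODN

open Polynomial Module Cfsg.Agent.Lib.Helper13.S5955 Cfsg.Agent.Lib.helper15.S5972 Cfsg.Agent.Lib.Helper18.ONE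

/-- CORNERFIX [S-M]: ONE SPLITW + CYCDVD: `c ∣ dim (W ⊓ cycS) ≤ m < c`, so `W ⊓ cycS = ⊥` and `W = W ⊓ fixS`. -/
theorem odn_corner_fix {F : Type*} [Field F] [Fintype F] {p : ℕ} [Fact p.Prime] [CharP F p]
    {V : Type*} [AddCommGroup V] [Module F V] [FiniteDimensional F V]
    {r : ℕ} [Fact r.Prime] (hrp : r ≠ p) (hr2 : r ≠ 2) {B : LinearMap.BilinForm F V}
    {x : Module.End F V} (h : OCtx r B x) (m i c : ℕ)
    (hi : i = orderOf ((Fintype.card F : ℕ) : ZMod r)) (hc : c = if Even i then i else 2 * i) (hmc : m < c)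
    (W : Submodule F V) (hW : SInv x W) (hWnd : SND B W) (hWm : finrank F W = m) : W ≤ fixS x := by
  obtain ⟨_, hcnd, hcinv, hsup, hdim⟩ := o_split_w hrp h W hW hWnd
  have hdvd : c ∣ finrank F ↥(W ⊓ cycS r x) :=
    o_cyc_nd_dvd hrp hr2 h i c hi hc (W ⊓ cycS r x) hcinv inf_le_right hcnd
  have h0 : finrank F ↥(W ⊓ cycS r x) = 0 := by
    apply Nat.eq_zero_of_dvd_of_lt hdvd
    omega
  have hbot : W ⊓ cycS r x = ⊥ := Submodule.finrank_eq_zero.mp h0
  rw [hbot, sup_bot_eq] at hsup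
  rw [← hsup]
  exact inf_le_right

end Cfsg.Agent.Lib.Helper1.ODN
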