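import Mathlib
import Cfsg.Agent.Lib.Helper1.ODN.Defs
import Cfsg.Agent.Lib.helper6.WittQuad
import Cfsg.Agent.Lib.helper6.HermFrames
import Cfsg.Agent.Lib.helper8.ODNSISO
import Cfsg.Agent.Lib.helper8.ODNSMALLGRP

/-!
# ODN row ORBABS (helper25): `odn_orb_abs`.  `dim V < c`: `r` does not divide the size of an isometry class of nondegenerate subspaces
(Witt's theorem: the isometry group is transitive on the class; orbit-stabilizer; SMALLGRP).
-/

set_option autoImplicit false
set_option linter.unusedVariables false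

namespace Cfsg.Agent.Lib.Helper1.ODN

open Polynomial Module Cfsg.Agent.Lib.Helper13.S5955 Cfsg.Agent.Lib.helper15.S5972 Cfsg.Agent.Lib.Helper18.ONE

section
variable {F : Type*} [Field F] {V : Type*} [AddCommGroup V] [Module F V]

/-- the group of all isometries of `B` -/
def odnorbabs_G (B : LinearMap.BilinForm F V) : Subgroup (V ≃ₗ[F] V) where
  carrier := {g | ∀ u v, B (g u) (g v) = B u v}
  mul_mem' := by
    intro g h hg hh u v
    rw [LinearEquiv.mul_apply, LinearEquiv.mul_apply, hg, hh]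
  one_mem' := by
    intro u v
    rfl
  inv_mem' := by
    intro g hg u v
    have h1 := hg (g⁻¹ u) (g⁻¹ v)
    have e1 : ∀ w, g (g⁻¹ w) = w := fun w => by
      rw [← LinearEquiv.mul_apply, mul_inv_cancel]
      rfl
    rw [e1, e1] at h1
    exact h1.symm

theorem odnorbabs_mem_G (B : LinearMap.BilinForm F V) (g : V ≃ₗ[F] V) :
    g ∈ odnorbabs_G B ↔ ∀ u v, B (g u) (g v) = B u v := Iff.rfl

/-- a subgroup of `GL(V)` acts on the subspaces of `V` -/
@[reducible] def odnorbabs_act (G : Subgroup (V ≃ₗ[F] V)) : MulAction G (Submodule F V) where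
  smul g W := W.map ((g : V ≃ₗ[F] V) : V →ₗ[F] V)
  one_smul W := by
    change W.map (((1 : G) : V ≃ₗ[F] V) : V →ₗ[F] V) = W
    ext v
    simp [Submodule.mem_map]
  mul_smul g h W := by
    change W.map (((g * h : G) : V ≃ₗ[F] V) : V →ₗ[F] V) =
      (W.map ((h : V ≃ₗ[F] V) : V →ₗ[F] V)).map ((g : V ≃ₗ[F] V) : V →ₗ[F] V)
    ext v
    simp only [Submodule.mem_map]
    constructor
    · rintro ⟨w, hw, rfl⟩
      exact ⟨(h : V ≃ₗ[F] V) w, ⟨w, hw, rfl⟩, rfl⟩
    · rintro ⟨_, ⟨w, hw, rfl⟩, rfl⟩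
      exact ⟨w, hw, rfl⟩

/-- the image of a subspace under an isometry is isometric to it -/
theorem odnorbabs_siso_map (B : LinearMap.BilinForm F V) (g : V ≃ₗ[F] V)
    (hg : ∀ u v, B (g u) (g v) = B u v) (W : Submodule F V) :
    SIso B W (W.map (g : V →ₗ[F] V)) := by
  refine ⟨g.submoduleMap W, fun w => ?_⟩
  rw [LinearEquiv.submoduleMap_apply, hg]

end

/-- ORBABS [L] -/
theorem odn_orb_abs {F : Type*} [Field F] [Fintype F] {p : ℕ} [Fact p.Prime] [CharP F p]
    (h2 : (2 : F) ≠ 0) {V : Type*} [AddCommGroup V] [Module F V] [FiniteDimensional F V]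
    {r : ℕ} [Fact r.Prime] (hrp : r ≠ p) (hr2 : r ≠ 2) (B : LinearMap.BilinForm F V)
    (hsymm : ∀ u v, B u v = B v u) (hnd : ∀ u, (∀ v, B u v = 0) → u = 0) (i c : ℕ)
    (hi : i = orderOf ((Fintype.card F : ℕ) : ZMod r)) (hc : c = if Even i then i else 2 * i)
    (hdim : finrank F V < c) (m : ℕ) (W₁ : Submodule F V) (hW₁ : SND B W₁) (hW₁m : finrank F W₁ = m) :
    ¬ r ∣ Nat.card (OmC B m W₁) := by
  classical
  have hG : ¬ r ∣ Nat.card (odnorbabs_G B) :=
    odn_small_grp hrp hr2 B hsymm hnd i c hi hc hdim (odnorbabs_G B) (fun g hg => hg)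
  letI : MulAction (odnorbabs_G B) (Submodule F V) := odnorbabs_act (odnorbabs_G B)
  have hsmul : ∀ (g : odnorbabs_G B) (W : Submodule F V),
      g • W = W.map ((g : V ≃ₗ[F] V) : V →ₗ[F] V) := fun _ _ => rfl
  have hcard := Cfsg.Agent.Lib.helper6.HF.orbit_stab_card (G := odnorbabs_G B)
    (X := Submodule F V) W₁
  -- the quadratic form and Witt's theorem
  set Q : QuadraticForm F V := LinearMap.BilinMap.toQuadraticMap B with hQdef
  have hQ : ∀ v, Q v = B v v := fun v => LinearMap.BilinMap.toQuadraticMap_apply B v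
  have hpol : ∀ u v, QuadraticMap.polar Q u v = 2 * B u v := by
    intro u v
    rw [hQdef, LinearMap.BilinMap.polar_toQuadraticMap, hsymm v u]
    ring
  have hQnd : (QuadraticMap.polarBilin Q).Nondegenerate := by
    constructor
    · intro u hu
      apply hnd u
      intro v
      have h1 := hu v
      rw [QuadraticMap.polarBilin_apply_apply, hpol] at h1
      exact (mul_eq_zero.mp h1).resolve_left h2
    · intro v hv
      apply hnd v
      intro u
      have h1 := hv u
      rw [QuadraticMap.polarBilin_apply_apply, hpol, hsymm] at h1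
      exact (mul_eq_zero.mp h1).resolve_left h2
  have hiso : ∀ g : V ≃ₗ[F] V, (∀ v, Q (g v) = Q v) → g ∈ odnorbabs_G B := by
    intro g hg u v
    have h1 := Cfsg.Agent.Lib.helper6.Witt.polar_of_iso Q (g : V →ₗ[F] V) hg u v
    rw [hpol, hpol] at h1
    exact mul_left_cancel₀ h2 h1
  have horb : Nat.card (OmC B m W₁) = (MulAction.orbit (odnorbabs_G B) W₁).ncard := by
    rw [← Nat.card_coe_set_eq]
    apply Nat.card_congr
    apply Equiv.subtypeEquivRight
    intro W
    constructor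
    · rintro ⟨-, -, hWiso⟩
      obtain ⟨φ, hφ⟩ := siso_symm hWiso
      obtain ⟨g, hgQ, hgφ⟩ := Cfsg.Agent.Lib.helper6.Witt.witt_quad Q hQnd W₁ W φ
        (fun x => by rw [hQ, hQ]; exact hφ x)
      refine ⟨⟨g, hiso g hgQ⟩, ?_⟩
      change (⟨g, hiso g hgQ⟩ : odnorbabs_G B) • W₁ = W
      rw [hsmul]
      ext v
      simp only [Submodule.mem_map]
      constructor
      · rintro ⟨w, hw, rfl⟩
        have := hgφ ⟨w, hw⟩
        change g w ∈ W
        rw [show g w = ((φ ⟨w, hw⟩ : ↥W) : V) from this]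
        exact (φ ⟨w, hw⟩).2
      · intro hv
        refine ⟨((φ.symm ⟨v, hv⟩ : ↥W₁) : V), (φ.symm ⟨v, hv⟩).2, ?_⟩
        have := hgφ (φ.symm ⟨v, hv⟩)
        rw [LinearEquiv.apply_symm_apply] at this
        exact this
    · rintro ⟨g, rfl⟩
      change finrank F ↥(g • W₁) = m ∧ SND B (g • W₁) ∧ SIso B (g • W₁) W₁
      rw [hsmul]
      have hs := odnorbabs_siso_map B (g : V ≃ₗ[F] V) g.2 W₁
      refine ⟨?_, siso_nd h2 B hsymm hs hW₁, siso_symm hs⟩
      rw [← siso_finrank hs, hW₁m]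
  intro hr
  apply hG
  rw [hcard]
  rw [horb] at hr
  exact Dvd.dvd.mul_left hr _

end Cfsg.Agent.Lib.Helper1.ODN
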