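import Cfsg.Agent.Lib.Helper21.SAPTietze

/-!
# Padding a finite presentation with dummy generators

`pad_gens`: a presentation on `m ≥ 1` generators with relator set `R` gives, for every `j`, a
presentation of the same group on `m + j` generators with at most `R.card + j` relators; the first
`m` letters go to the old generators, the last `j` letters to `1`.
A corollary of helper21's `change_gens_keep`.  `pad_to`: the same with target `Fin n`, `m ≤ n`.
-/

namespace Cfsg.Agent.Lib.Helper25.PresPad

open Cfsg.Agent.Lib.Helper21.SAPT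

universe w

theorem pad_gens {m : ℕ} (hm : 0 < m) (R : Finset (FreeGroup (Fin m))) {G : Type w} [Group G]
    (e : PresentedGroup (↑R : Set (FreeGroup (Fin m))) ≃* G) (j : ℕ) :
    ∃ rels : Finset (FreeGroup (Fin (m + j))), rels.card ≤ R.card + j ∧
      ∃ e' : PresentedGroup (↑rels : Set (FreeGroup (Fin (m + j)))) ≃* G,
        (∀ i : Fin m, e' (PresentedGroup.of (Fin.castAdd j i)) = e (PresentedGroup.of i)) ∧
        ∀ i : Fin j, e' (PresentedGroup.of (Fin.natAdd m i)) = 1 := by
  classical
  let d : Fin (m + j) → G := Fin.addCases (fun i => e (PresentedGroup.of i)) (fun _ => 1)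
  have hd : Subgroup.closure (Set.range d) = ⊤ := by
    rw [eq_top_iff]
    have h1 : (⊤ : Subgroup G) =
        (Subgroup.closure (Set.range (PresentedGroup.of :
          Fin m → PresentedGroup (↑R : Set (FreeGroup (Fin m)))))).map e.toMonoidHom := by
      rw [PresentedGroup.closure_range_of, ← MonoidHom.range_eq_map]
      exact (MonoidHom.range_eq_top.mpr e.surjective).symm
    rw [h1, MonoidHom.map_closure, Subgroup.closure_le]
    rintro _ ⟨_, ⟨i, rfl⟩, rfl⟩
    apply Subgroup.subset_closure
    exact ⟨Fin.castAdd j i, by simp [d]⟩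
  let T : Finset (Fin (m + j)) := Finset.univ.map (Fin.castAddEmb j)
  let jm : Fin (m + j) → Fin m := Fin.addCases (fun i => i) (fun _ => ⟨0, hm⟩)
  have hj : ∀ i ∈ T, d i = e (PresentedGroup.of (jm i)) := by
    intro i hi
    simp only [T, Finset.mem_map, Finset.mem_univ, true_and] at hi
    obtain ⟨i0, rfl⟩ := hi
    simp [d, jm]
  have hinj : Set.InjOn jm (↑T : Set (Fin (m + j))) := by
    intro x hx y hy hxy
    simp only [T, Finset.coe_map, Finset.coe_univ, Set.image_univ, Set.mem_range] at hx hy
    obtain ⟨x0, rfl⟩ := hx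
    obtain ⟨y0, rfl⟩ := hy
    simp only [jm, Fin.castAddEmb_apply, Fin.addCases_left] at hxy
    rw [hxy]
  obtain ⟨rels, hcard, e', he'⟩ := change_gens_keep R e d hd T jm hj hinj
  refine ⟨rels, ?_, e', ?_, ?_⟩
  · have hT : T.card = m := by simp [T]
    rw [hT] at hcard
    omega
  · intro i
    rw [he']
    simp [d]
  · intro i
    rw [he']
    simp [d]

/-- Padding to a given number `n ≥ m` of generators: at most `R.card + (n - m)` relators. -/
theorem pad_to {m n : ℕ} (hm : 0 < m) (hmn : m ≤ n) (R : Finset (FreeGroup (Fin m)))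
    {G : Type w} [Group G] (e : PresentedGroup (↑R : Set (FreeGroup (Fin m))) ≃* G) :
    ∃ rels : Finset (FreeGroup (Fin n)), rels.card ≤ R.card + (n - m) ∧
      Nonempty (PresentedGroup (↑rels : Set (FreeGroup (Fin n))) ≃* G) := by
  obtain ⟨j, rfl⟩ := Nat.exists_eq_add_of_le hmn
  obtain ⟨rels, hc, e', -, -⟩ := pad_gens hm R e j
  exact ⟨rels, by omega, ⟨e'⟩⟩

/-- Existential form: `m` generators, `≤ r` relators gives `n ≥ m` generators, `≤ r + (n - m)`
relators. -/
theorem pad_exists {m n r : ℕ} (hm : 0 < m) (hmn : m ≤ n) {G : Type w} [Group G]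
    (h : ∃ rels : Finset (FreeGroup (Fin m)), rels.card ≤ r ∧
      Nonempty (PresentedGroup (↑rels : Set (FreeGroup (Fin m))) ≃* G)) :
    ∃ rels : Finset (FreeGroup (Fin n)), rels.card ≤ r + (n - m) ∧
      Nonempty (PresentedGroup (↑rels : Set (FreeGroup (Fin n))) ≃* G) := by
  obtain ⟨R, hR, ⟨e⟩⟩ := h
  obtain ⟨rels, hc, he⟩ := pad_to hm hmn R e
  exact ⟨rels, by omega, he⟩

end Cfsg.Agent.Lib.Helper25.PresPad
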