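import Mathlib
import Cfsg.Agent.Lib.helper17.SLP.Defs
import Cfsg.Agent.Lib.helper17.SL3.Defs
import Cfsg.Agent.Lib.helper17.SL3.Defs2
import Cfsg.Agent.Lib.Helper18.SL3C11

/-!
# SL3 row C13 (core): `x s` commutes with `x21 t` when `|F| = 4`, with the statement of C5
(`commute_all4`, at the given `F`, `G`, `ζ`) as hypothesis; C11 (`dihedral`) is imported.
-/

set_option autoImplicit false

namespace Cfsg.Agent.Lib.helper17.SL3

open Cfsg.Agent.Lib.helper17.SLP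
open Polynomial

universe u v

section C

variable {F : Type u} [Field F] [Fintype F] {G : Type v} [Group G]

/-- an additive map sends `0` to `1` -/
theorem sl3c13_map_zero (Y : F → G) (hY : ∀ s t, Y (s + t) = Y s * Y t) : Y 0 = 1 := by
  have h := hY 0 0
  rw [add_zero] at h
  calc Y 0 = (Y 0)⁻¹ * (Y 0 * Y 0) := by rw [inv_mul_cancel_left]
    _ = (Y 0)⁻¹ * Y 0 := by rw [← h]
    _ = 1 := inv_mul_cancel _

/-- in characteristic 2 every value of an additive map is an involution -/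
theorem sl3c13_sq [CharP F 2] (Y : F → G) (hY : ∀ s t, Y (s + t) = Y s * Y t) (t : F) :
    Y t ^ 2 = 1 := by
  rw [pow_two, ← hY, CharTwo.add_self_eq_zero, sl3c13_map_zero Y hY]

/-- `x (-t) = (x t)⁻¹` -/
theorem sl3c13_neg (Y : F → G) (hY : ∀ s t, Y (s + t) = Y s * Y t) (t : F) : Y (-t) = (Y t)⁻¹ := by
  apply eq_inv_of_mul_eq_one_left
  rw [← hY, neg_add_cancel, sl3c13_map_zero Y hY]

theorem sl3c13_r21 (x : F → G) (hx : ∀ s t, x (s + t) = x s * x t) (w c : G) :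
    r21 (x 1) w c = x21 x w c 1 := by
  unfold r21 x21 x10
  rw [sl3c13_neg x hx]

theorem sl3c13_r02 (x : F → G) (hx : ∀ s t, x (s + t) = x s * x t) (w c : G) :
    r02 (x 1) w c = x02 x w c 1 := by
  unfold r02 x02 x10
  rw [sl3c13_neg x hx]

/-- `ζ ≠ 1` when `|F| = 4` -/
theorem sl3c13_zeta_ne (hq : Fintype.card F = 4) (ζ : Fˣ) (hζ : ∀ y : Fˣ, y ∈ Subgroup.zpowers ζ) :
    (ζ : F) ≠ 1 := by
  intro h1
  have hζ1 : ζ = 1 := Units.ext h1
  have hall : ∀ y : Fˣ, y = 1 := by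
    intro y
    have hy := hζ y
    rw [hζ1, Subgroup.zpowers_one_eq_bot, Subgroup.mem_bot] at hy
    exact hy
  have hsub : Subsingleton Fˣ := ⟨fun a b => by rw [hall a, hall b]⟩
  have hcard : Nat.card Fˣ ≤ 1 := Finite.card_le_one_iff_subsingleton.mpr hsub
  rw [Nat.card_units, Nat.card_eq_fintype_card, hq] at hcard
  omega

/-- C13 core. -/
theorem sl3c13_core (hq : Fintype.card F = 4) (ζ : Fˣ) (hζ : ∀ y : Fˣ, y ∈ Subgroup.zpowers ζ)
    (x : F → G) (d w c : G) (H : Hyp ζ x d w c) (R : Tor ζ x d w c)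
    (hC5 : ∀ (X Y : F → G), (∀ s t, X (s + t) = X s * X t) → (∀ s t, Y (s + t) = Y s * Y t) →
      ∀ (τ₁ : G) (e : ℤ), Act ζ τ₁ X 1 → Act ζ τ₁ Y e →
      ∀ (s₀ t₀ t₁ : F), s₀ ≠ 0 → t₀ ≠ 0 → t₁ ≠ 0 → t₀ ≠ t₁ →
      Commute (X s₀) (Y t₀) → Commute (X s₀) (Y t₁) → ∀ s t, Commute (X s) (Y t)) :
    ∀ s t, Commute (x s) (x21 x w c t) := by
  have hp2 : Fact (Nat.Prime 2) := ⟨Nat.prime_two⟩
  have hchar : CharP F 2 := charP_of_card_eq_prime_pow (p := 2) (f := 2) (by rw [hq]; norm_num)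
  -- instance `t₀ = ζ` from `R3`
  have h3 : Commute (x 1) (d⁻¹ * x21 x w c 1 * d) := by
    have h := H.R3
    unfold relR3 at h
    rw [cm_eq_one_iff, sl3c13_r21 x H.add] at h
    exact h
  have hact : d * x21 x w c (ζ : F) * d⁻¹ = x21 x w c 1 := by
    have h := R.t21.1 (ζ : F)
    have h1 : ((ζ ^ (-1 : ℤ) : Fˣ) : F) * (ζ : F) = 1 := by
      rw [zpow_neg_one, ← Units.val_mul, inv_mul_cancel, Units.val_one]
    rw [h1] at h
    exact h
  have hz : d⁻¹ * x21 x w c 1 * d = x21 x w c (ζ : F) := by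
    rw [← hact]
    group
  rw [hz] at h3
  -- instance `t₁ = 1` from `Ru` and the dihedral trick
  have hu : cm (x02 x w c 1) (x21 x w c 1) = x 1 := by
    have h := H.Ru
    unfold relRu at h
    rw [sl3c13_r02 x H.add, sl3c13_r21 x H.add] at h
    exact mul_inv_eq_one.mp h
  have h1' : Commute (x 1) (x21 x w c 1) := by
    have hd := dihedral (x02 x w c 1) (x21 x w c 1) (sl3c13_sq _ R.add02 1) (sl3c13_sq _ R.add21 1)
      (by rw [hu]; exact sl3c13_sq _ H.add 1)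
    rw [hu] at hd
    exact hd.2.symm
  exact hC5 x (x21 x w c) H.add R.add21 d (-1) R.t01.1 R.t21.1 1 (ζ : F) 1 one_ne_zero
    ζ.ne_zero one_ne_zero (sl3c13_zeta_ne hq ζ hζ) h3 h1'

end C

end Cfsg.Agent.Lib.helper17.SL3
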