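import Mathlib
import Cfsg.Agent.Lib.helper17.SLP.Defs
import Cfsg.Agent.Lib.helper17.SL3.Defs
import Cfsg.Agent.Lib.helper17.SL3.Defs2
import Cfsg.Agent.Lib.Helper25.SL3C13core
import Cfsg.Agent.Lib.Helper1.SL3C4core

/-!
# SL3 row C13 (`col_four`), verbatim: `sl3c13_core` on helper1's C5 (`commute_all4`).
-/

set_option autoImplicit false

namespace Cfsg.Agent.Lib.helper17.SL3

open Cfsg.Agent.Lib.helper17.SLP
open Polynomial

universe u v

section C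

variable {F : Type u} [Field F] [Fintype F] {G : Type v} [Group G]

/-- C13 [M]  deps C5 C11 T12.  Instances for `s₀ = 1`: `t₀ = ζ` from `R3`; `t₁ = 1` from `Ru` and C11 (`a = x02 1`, `b = x21 1`, `cm a b = x 1`).  `τ₁ = d`. -/
theorem col_four (hq : Fintype.card F = 4) (ζ : Fˣ) (hζ : ∀ y : Fˣ, y ∈ Subgroup.zpowers ζ)
    (x : F → G) (d w c : G) (H : Hyp ζ x d w c) (R : Tor ζ x d w c) :
    ∀ s t, Commute (x s) (x21 x w c t) := by
  exact sl3c13_core hq ζ hζ x d w c H R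
    (fun X Y hX hY τ₁ e h1X h1Y s₀ t₀ t₁ hs ht₀ ht₁ hne h h' =>
      commute_all4 hq ζ hζ X Y hX hY τ₁ e h1X h1Y s₀ t₀ t₁ hs ht₀ ht₁ hne h h')

end C

end Cfsg.Agent.Lib.helper17.SL3
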