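import Mathlib
import Cfsg.Agent.Lib.helper17.SLP.Defs
import Cfsg.Agent.Lib.helper17.SL3.Defs

/-!
# SL3 row T7 (core): `w²` commutes with `d` and every `x t`, with the statements of T3 (`comm_all_of`),
T5 (`tor_w`, first and third clause) and T6 (`braid_of_K1`) as hypotheses.
-/

set_option autoImplicit false

namespace Cfsg.Agent.Lib.helper17.SL3

open Cfsg.Agent.Lib.helper17.SLP
open Polynomial

universe u v

section T

variable {F : Type u} [Field F] {G : Type v} [Group G]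

/-- T7 core. -/
theorem sl3t7_core (ζ : Fˣ) (x : F → G) (d w c : G) (H : Hyp ζ x d w c)
    (hT3 : ∀ g : G, Commute g d → Commute g (x 1) → ∀ t, Commute g (x t))
    (hT5a : w * d * w⁻¹ = (d3 d c)⁻¹) (hT5c : w * d3 d c * w⁻¹ = d⁻¹)
    (hT6 : Commute (w ^ 2) (x 1)) :
    Commute (w ^ 2) d ∧ ∀ t, Commute (w ^ 2) (x t) := by
  have h1 : Commute (w ^ 2) d := by
    have h2 : w ^ 2 * d * (w ^ 2)⁻¹ = d := by
      have e1 : w ^ 2 * d * (w ^ 2)⁻¹ = w * (w * d * w⁻¹) * w⁻¹ := by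
        rw [pow_two, mul_inv_rev]
        simp only [mul_assoc]
      rw [e1, hT5a]
      have e2 : w * (d3 d c)⁻¹ * w⁻¹ = (w * d3 d c * w⁻¹)⁻¹ := by
        rw [mul_inv_rev, mul_inv_rev, inv_inv, mul_assoc]
      rw [e2, hT5c, inv_inv]
    show w ^ 2 * d = d * w ^ 2
    calc w ^ 2 * d = w ^ 2 * d * (w ^ 2)⁻¹ * w ^ 2 := by rw [inv_mul_cancel_right]
      _ = d * w ^ 2 := by rw [h2]
  exact ⟨h1, hT3 (w ^ 2) h1 hT6⟩

end T

end Cfsg.Agent.Lib.helper17.SL3
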