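import Mathlib
import Cfsg.Agent.Lib.helper17.SLP.Defs
import Cfsg.Agent.Lib.helper17.SL3.Defs
import Cfsg.Agent.Lib.Helper25.SL3T7core
import Cfsg.Agent.Lib.helper15.SL3T3
import Cfsg.Agent.Lib.helper2.SL3T5
import Cfsg.Agent.Lib.Helper18.SL3T6

/-!
# SL3 row T7 (`wsq_comm`), verbatim: `sl3t7_core` on T3 (helper15), T5 (helper2), T6 (Helper18).
-/

set_option autoImplicit false

namespace Cfsg.Agent.Lib.helper17.SL3

open Cfsg.Agent.Lib.helper17.SLP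
open Polynomial

universe u v

section T

variable {F : Type u} [Field F] {G : Type v} [Group G]

/-- T7 [S-M]  deps T3 T5 T6.  `w² d w⁻² = w d₃⁻¹ w⁻¹ = d`. -/
theorem wsq_comm (ζ : Fˣ) (hζ : ∀ y : Fˣ, y ∈ Subgroup.zpowers ζ) (x : F → G) (d w c : G)
    (H : Hyp ζ x d w c) : Commute (w ^ 2) d ∧ ∀ t, Commute (w ^ 2) (x t) := by
  exact sl3t7_core ζ x d w c H (fun g hd h1 => comm_all_of ζ hζ x d w c H g hd h1)
    (tor_w ζ x d w c H).1 (tor_w ζ x d w c H).2.2.1 (braid_of_K1 (x 1) w H.K1).2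

end T

end Cfsg.Agent.Lib.helper17.SL3
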