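import Mathlib
import Cfsg.Agent.Lib.helper17.SLP.Defs
import Cfsg.Agent.Lib.helper17.SL3.Defs

/-!
# SL3 row M2 (core): `pw` in `SL₃(F)` is `xM3 (aeval …)`, with the statements of M1
(`xM3_mul`, `xM3_zero`, `xM3_pow`, `cj_M3`) as hypotheses.
-/

set_option autoImplicit false

namespace Cfsg.Agent.Lib.helper17.SL3

open Cfsg.Agent.Lib.helper17.SLP
open Polynomial

universe u v

section M

variable {F : Type u} [Field F]

/-- an ordered product of `xM3`'s is `xM3` of the sum. -/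
theorem sl3m2_prod_xM3
    (hmul : ∀ s t : F, xM3 s * xM3 t = xM3 (s + t)) (hzero : xM3 (0 : F) = 1)
    (g : ℕ → F) (n : ℕ) :
    ((List.range n).map fun j => xM3 (g j)).prod = xM3 (∑ j ∈ Finset.range n, g j) := by
  induction n with
  | zero => simp [hzero]
  | succ n ih =>
    rw [List.range_succ, List.map_append, List.prod_append, ih, Finset.sum_range_succ]
    simp [hmul]

/-- M2 core. -/
theorem sl3m2_core
    (hmul : ∀ s t : F, xM3 s * xM3 t = xM3 (s + t)) (hzero : xM3 (0 : F) = 1)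
    (hpow : ∀ (t : F) (n : ℕ), xM3 t ^ n = xM3 ((n : F) * t))
    (hcj : ∀ (s : Fˣ) (t : F) (i : ℤ), cj (dM3 s) (xM3 t) i = xM3 (((s ^ i : Fˣ) : F) * t))
    (p : ℕ) [Fact p.Prime] [Algebra (ZMod p) F] (s : Fˣ) (f : (ZMod p)[X]) :
    pw p (dM3 s) (xM3 (1 : F)) 1 f = xM3 (aeval (s : F) f) := by
  unfold pw
  have h1 : ∀ j : ℕ, cj (dM3 s) (xM3 (1 : F)) (1 * (j : ℤ)) ^ (f.coeff j).val =
      xM3 (algebraMap (ZMod p) F (f.coeff j) * (s : F) ^ j) := by
    intro j
    rw [hcj, hpow, mul_one, one_mul, zpow_natCast, Units.val_pow_eq_pow_val]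
    congr 2
    rw [← map_natCast (algebraMap (ZMod p) F), ZMod.natCast_zmod_val]
  simp only [h1]
  rw [sl3m2_prod_xM3 hmul hzero, Polynomial.aeval_eq_sum_range]
  congr 1
  apply Finset.sum_congr rfl
  intro j _
  rw [Algebra.smul_def]

end M

end Cfsg.Agent.Lib.helper17.SL3
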