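import Mathlib
import Cfsg.Agent.Lib.helper17.SLP.Defs
import Cfsg.Agent.Lib.helper17.SL3.Defs
import Cfsg.Agent.Lib.Helper25.SL3M2core
import Cfsg.Agent.Lib.Helper9.SL3M1

/-!
# SL3 row M2 (`pw_M3`), verbatim: `sl3m2_core` on helper9's M1.
-/

set_option autoImplicit false

namespace Cfsg.Agent.Lib.helper17.SL3

open Cfsg.Agent.Lib.helper17.SLP
open Polynomial

universe u v

section M

variable {F : Type u} [Field F]

/-- M2 [M]  dep M1; the analogue of SLP `pw_M` (`helper2.SLPM2`) with `l = 1`. -/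
theorem pw_M3 (p : ℕ) [Fact p.Prime] [Algebra (ZMod p) F] (s : Fˣ) (f : (ZMod p)[X]) :
    pw p (dM3 s) (xM3 (1 : F)) 1 f = xM3 (aeval (s : F) f) := by
  exact sl3m2_core xM3_mul xM3_zero xM3_pow cj_M3 p s f

end M

end Cfsg.Agent.Lib.helper17.SL3
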