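import Mathlib
import Cfsg.Prelude.Def_GeometricClasses
import Cfsg.Agent.Lib.Helper19.OU.Defs

set_option autoImplicit false
set_option linter.unusedVariables false
set_option linter.unusedSectionVars false

/-!
# Project OU (leader: helper19) -> S5700 : piece KLI (`kl_li4`, `kl_li5`, `kl_li6`)

`F`-independence of `u, θ u, x, θ x, (y, θ y)` from `K`-independence.  Self-contained: the key step (`oukli_indep`, the statement of
`kl_indep` of row KLIN under an own name) is proved here: `k = a + b θ ≠ 0` is invertible in `F[θ]`.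
-/

namespace Cfsg.Agent.Lib.Helper19.OU

open Matrix Cfsg.Agent.Lib.Helper28.HForm Cfsg.Agent.Lib.Helper28.OGen
  Cfsg.Agent.Lib.Helper28.OMax Cfsg.Agent.Lib.Helper28.OQ Cfsg.Agent.Lib.Helper28.OMax2
  Cfsg.Agent.Lib.Helper28.OIwa Cfsg.Agent.Lib.Helper28.OPair

variable {n : ℕ} {F : Type*} [Field F] {Q : (Fin n → F) → F}
  {f : (Fin n → F) → (Fin n → F) → F} {θ : Matrix (Fin n) (Fin n) F} {t N : F}
  {G M : Subgroup (Matrix.GeneralLinearGroup (Fin n) F)}

/-- `θ (θ x) = t θ x - N x` -/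
theorem oukli_sq_mv (ks : KS Q f θ t N) (x : Fin n → F) :
    θ *ᵥ (θ *ᵥ x) = t • (θ *ᵥ x) - N • x := by
  rw [Matrix.mulVec_mulVec, ks.sq, Matrix.sub_mulVec, Matrix.smul_mulVec, Matrix.smul_mulVec,
    Matrix.one_mulVec]

/-- the norm form `a² + a b t + b² N` of `a + b θ` vanishes only at `(0, 0)` -/
theorem oukli_norm_ne (ks : KS Q f θ t N) (a b : F) (h : ¬ (a = 0 ∧ b = 0)) :
    a * a + a * b * t + b * b * N ≠ 0 := by
  intro h0
  by_cases hb : b = 0
  · subst hb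
    have : a * a = 0 := by simpa using h0
    exact h ⟨mul_self_eq_zero.mp this, rfl⟩
  · apply ks.irr (-(a / b))
    have : (-(a / b)) * (-(a / b)) - t * (-(a / b)) + N = (a * a + a * b * t + b * b * N) / (b * b) := by
      field_simp
      ring
    rw [this, h0, zero_div]

/-- the statement of `kl_indep` (row KLIN) : a `θ`-stable subspace `W`, `x ∉ W`, `a x + b θ x ∈ W` : `a = b = 0`. -/
theorem oukli_indep (ks : KS Q f θ t N) (W : Submodule F (Fin n → F)) (hW : ∀ x ∈ W, θ *ᵥ x ∈ W)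
    {x : Fin n → F} (hx : x ∉ W) (a b : F) (h : a • x + b • (θ *ᵥ x) ∈ W) : a = 0 ∧ b = 0 := by
  by_contra hab
  have hc := oukli_norm_ne ks a b hab
  apply hx
  have h1 : (a + b * t) • (a • x + b • (θ *ᵥ x)) - b • (θ *ᵥ (a • x + b • (θ *ᵥ x))) ∈ W :=
    W.sub_mem (W.smul_mem _ h) (W.smul_mem _ (hW _ h))
  have h2 : (a + b * t) • (a • x + b • (θ *ᵥ x)) - b • (θ *ᵥ (a • x + b • (θ *ᵥ x))) =
      (a * a + a * b * t + b * b * N) • x := by
    rw [Matrix.mulVec_add, Matrix.mulVec_smul, Matrix.mulVec_smul, oukli_sq_mv ks]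
    ext i
    simp only [Pi.add_apply, Pi.sub_apply, Pi.smul_apply, smul_eq_mul]
    ring
  rw [h2] at h1
  have h3 := W.smul_mem (a * a + a * b * t + b * b * N)⁻¹ h1
  rwa [smul_smul, inv_mul_cancel₀ hc, one_smul] at h3

/-- the `K`-line is `θ`-stable -/
theorem oukli_kl_stable (ks : KS Q f θ t N) (u : Fin n → F) : ∀ x ∈ Kl θ u, θ *ᵥ x ∈ Kl θ u := by
  intro x hx
  unfold Kl at hx ⊢
  rw [Submodule.mem_span_pair] at hx
  obtain ⟨a, b, rfl⟩ := hx
  rw [Matrix.mulVec_add, Matrix.mulVec_smul, Matrix.mulVec_smul, oukli_sq_mv ks, Submodule.mem_span_pair]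
  refine ⟨-(b * N), a + b * t, ?_⟩
  ext i
  simp only [Pi.add_apply, Pi.sub_apply, Pi.smul_apply, smul_eq_mul]
  ring

/-- the sum of two `θ`-stable subspaces is `θ`-stable -/
theorem oukli_sup_stable (θ : Matrix (Fin n) (Fin n) F) (W W' : Submodule F (Fin n → F))
    (hW : ∀ x ∈ W, θ *ᵥ x ∈ W) (hW' : ∀ x ∈ W', θ *ᵥ x ∈ W') : ∀ x ∈ W ⊔ W', θ *ᵥ x ∈ W ⊔ W' := by
  intro x hx
  rw [Submodule.mem_sup] at hx ⊢
  obtain ⟨y, hy, z, hz, rfl⟩ := hx
  exact ⟨θ *ᵥ y, hW y hy, θ *ᵥ z, hW' z hz, (Matrix.mulVec_add θ y z).symm⟩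

theorem oukli_mem_kl (θ : Matrix (Fin n) (Fin n) F) (u : Fin n → F) (a b : F) :
    a • u + b • (θ *ᵥ u) ∈ Kl θ u := by
  unfold Kl
  rw [Submodule.mem_span_pair]
  exact ⟨a, b, rfl⟩

/-- `a u + b θ u = 0`, `u ≠ 0` : `a = b = 0` -/
theorem oukli_pair (ks : KS Q f θ t N) {u : Fin n → F} (hu : u ≠ 0) (a b : F)
    (h : a • u + b • (θ *ᵥ u) = 0) : a = 0 ∧ b = 0 := by
  apply oukli_indep ks ⊥ (fun x hx => by rw [Submodule.mem_bot] at hx ⊢; rw [hx, Matrix.mulVec_zero])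
    (x := u) (by rw [Submodule.mem_bot]; exact hu) a b
  rw [h]
  exact Submodule.zero_mem _

/-- KLI [M] (`kl_li4`, `kl_li5`, `kl_li6` = ONE row; from `kl_indep` with `W = K u`, `W = K u ⊔ K x`). -/
theorem kl_li4 (ks : KS Q f θ t N) {u x : Fin n → F} (hu : u ≠ 0) (hx : x ∉ Kl θ u) :
    LinearIndependent F ![u, θ *ᵥ u, x, θ *ᵥ x] := by
  rw [Fintype.linearIndependent_iff]
  intro g hg
  rw [Fin.sum_univ_four] at hg
  simp only [Matrix.cons_val_zero, Matrix.cons_val_one, Matrix.cons_val] at hg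
  have h1 : g 2 • x + g 3 • (θ *ᵥ x) ∈ Kl θ u := by
    have : g 2 • x + g 3 • (θ *ᵥ x) = (-(g 0)) • u + (-(g 1)) • (θ *ᵥ u) := by
      have h := hg
      rw [neg_smul, neg_smul]
      rw [← sub_eq_zero]
      rw [← h]
      abel
    rw [this]
    exact oukli_mem_kl θ u _ _
  obtain ⟨h2, h3⟩ := oukli_indep ks (Kl θ u) (oukli_kl_stable ks u) hx _ _ h1
  rw [h2, h3, zero_smul, zero_smul, add_zero, add_zero] at hg
  obtain ⟨h0, h1'⟩ := oukli_pair ks hu _ _ hg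
  intro i
  fin_cases i
  · exact h0
  · exact h1'
  · exact h2
  · exact h3

theorem kl_li6 (ks : KS Q f θ t N) {u x y : Fin n → F} (hu : u ≠ 0) (hx : x ∉ Kl θ u)
    (hy : y ∉ Kl θ u ⊔ Kl θ x) : LinearIndependent F ![u, θ *ᵥ u, x, θ *ᵥ x, y, θ *ᵥ y] := by
  rw [Fintype.linearIndependent_iff]
  intro g hg
  rw [Fin.sum_univ_six] at hg
  simp only [Matrix.cons_val_zero, Matrix.cons_val_one, Matrix.cons_val] at hg
  have hstab := oukli_sup_stable θ (Kl θ u) (Kl θ x) (oukli_kl_stable ks u) (oukli_kl_stable ks x)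
  have h1 : g 4 • y + g 5 • (θ *ᵥ y) ∈ Kl θ u ⊔ Kl θ x := by
    have : g 4 • y + g 5 • (θ *ᵥ y) =
        ((-(g 0)) • u + (-(g 1)) • (θ *ᵥ u)) + ((-(g 2)) • x + (-(g 3)) • (θ *ᵥ x)) := by
      have h := hg
      rw [neg_smul, neg_smul, neg_smul, neg_smul]
      rw [← sub_eq_zero]
      rw [← h]
      abel
    rw [this]
    exact Submodule.add_mem_sup (oukli_mem_kl θ u _ _) (oukli_mem_kl θ x _ _)
  obtain ⟨h4, h5⟩ := oukli_indep ks _ hstab hy _ _ h1
  rw [h4, h5, zero_smul, zero_smul, add_zero, add_zero] at hg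
  have h4i := Fintype.linearIndependent_iff.mp (kl_li4 ks hu hx) ![g 0, g 1, g 2, g 3] (by
    rw [Fin.sum_univ_four]
    simp only [Matrix.cons_val_zero, Matrix.cons_val_one, Matrix.cons_val]
    exact hg)
  intro i
  fin_cases i
  · exact h4i 0
  · exact h4i 1
  · exact h4i 2
  · exact h4i 3
  · exact h4
  · exact h5

theorem kl_li5 (ks : KS Q f θ t N) {u x y : Fin n → F} (hu : u ≠ 0) (hx : x ∉ Kl θ u)
    (hy : y ∉ Kl θ u ⊔ Kl θ x) : LinearIndependent F ![u, θ *ᵥ u, x, θ *ᵥ x, y] := by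
  rw [Fintype.linearIndependent_iff]
  intro g hg
  rw [Fin.sum_univ_five] at hg
  simp only [Matrix.cons_val_zero, Matrix.cons_val_one, Matrix.cons_val] at hg
  have h6 := Fintype.linearIndependent_iff.mp (kl_li6 ks hu hx hy) ![g 0, g 1, g 2, g 3, g 4, 0] (by
    rw [Fin.sum_univ_six]
    simp only [Matrix.cons_val_zero, Matrix.cons_val_one, Matrix.cons_val]
    rw [zero_smul, add_zero]
    exact hg)
  intro i
  fin_cases i
  · exact h6 0
  · exact h6 1
  · exact h6 2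
  · exact h6 3
  · exact h6 4

end Cfsg.Agent.Lib.Helper19.OU
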