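import Cfsg.Agent.Lib.Helper29.GLK.Defs

set_option autoImplicit false

namespace Cfsg.Agent.Lib.Helper29.GLK

open Polynomial

universe u

/-- monic polynomials of degree `m` with nonzero constant coefficient -/
def glkC_P (F : Type u) [Field F] (m : ℕ) : Set F[X] :=
  {g | g.Monic ∧ g.natDegree = m ∧ g.coeff 0 ≠ 0}

theorem glkC_T_ncard (F : Type u) [Field F] [Fintype F] (k : ℕ) :
    ({x | x.1 ≠ 0} : Set (F × (Fin k → F))).ncard = (Fintype.card F - 1) * Fintype.card F ^ k := by
  have e : ({x | x.1 ≠ 0} : Set (F × (Fin k → F))) = ({0}ᶜ : Set F) ×ˢ (Set.univ : Set (Fin k → F)) := by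
    ext x; simp
  rw [e, Set.ncard_prod, Set.ncard_compl, Set.ncard_singleton, Set.ncard_univ, Nat.card_eq_fintype_card,
    Nat.card_eq_fintype_card, Fintype.card_fun, Fintype.card_fin]

theorem glkC_P_card (F : Type u) [Field F] [Fintype F] (m : ℕ) :
    (glkC_P F m).Finite ∧ (glkC_P F m).ncard ≤ nMon (Fintype.card F) m := by
  rcases Nat.eq_zero_or_pos m with hm | hm
  · subst hm
    have hsub : glkC_P F 0 ⊆ {1} := by
      intro g hg
      exact eq_one_of_monic_natDegree_zero hg.1 hg.2.1
    refine ⟨(Set.finite_singleton _).subset hsub, ?_⟩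
    calc (glkC_P F 0).ncard ≤ ({1} : Set F[X]).ncard :=
          Set.ncard_le_ncard hsub (Set.finite_singleton _)
      _ = 1 := Set.ncard_singleton _
      _ = nMon _ 0 := by simp [nMon]
  · let T : Set (F × (Fin (m - 1) → F)) := {x | x.1 ≠ 0}
    let f : F[X] → F × (Fin (m - 1) → F) := fun g => (g.coeff 0, fun i => g.coeff ((i : ℕ) + 1))
    have hmaps : ∀ g ∈ glkC_P F m, f g ∈ T := fun g hg => hg.2.2
    have hinj : Set.InjOn f (glkC_P F m) := by
      intro g hg g' hg' h
      have h1 : g.coeff 0 = g'.coeff 0 := congrArg Prod.fst h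
      have h2 : ∀ i : Fin (m - 1), g.coeff ((i : ℕ) + 1) = g'.coeff ((i : ℕ) + 1) :=
        fun i => congrFun (congrArg Prod.snd h) i
      ext i
      rcases Nat.lt_trichotomy i m with hi | hi | hi
      · rcases Nat.eq_zero_or_pos i with h0 | h0
        · subst h0; exact h1
        · have := h2 ⟨i - 1, by omega⟩
          have e : i - 1 + 1 = i := by omega
          simpa [e] using this
      · subst hi
        have a1 : g.coeff g.natDegree = 1 := hg.1.coeff_natDegree
        have a2 : g'.coeff g'.natDegree = 1 := hg'.1.coeff_natDegree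
        rw [hg.2.1] at a1
        rw [hg'.2.1] at a2
        rw [a1, a2]
      · rw [coeff_eq_zero_of_natDegree_lt (by rw [hg.2.1]; exact hi),
          coeff_eq_zero_of_natDegree_lt (by rw [hg'.2.1]; exact hi)]
    have hT : T.Finite := Set.toFinite T
    refine ⟨Set.Finite.of_injOn hmaps hinj hT, ?_⟩
    calc (glkC_P F m).ncard ≤ T.ncard := Set.ncard_le_ncard_of_injOn f hmaps hinj hT
      _ = (Fintype.card F - 1) * Fintype.card F ^ (m - 1) := glkC_T_ncard F (m - 1)
      _ = nMon (Fintype.card F) m := by
          have : m ≠ 0 := by omega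
          simp [nMon, this]

/-- piece C (with the necessary hypothesis `1 ≤ r`) -/
theorem tupSet_card_le (F : Type u) [Field F] [Fintype F] (s r j : ℕ) (hr : 1 ≤ r) :
    (tupSet F s r j).Finite ∧ (tupSet F s r j).ncard ≤ cnt (Fintype.card F) s r j := by
  induction s generalizing r j with
  | zero =>
    refine ⟨Set.toFinite _, ?_⟩
    by_cases hj : j = 0
    · subst hj
      simp only [cnt, if_true]
      exact Set.ncard_le_one_of_subsingleton _
    · have he : tupSet F 0 r j = ∅ := by
        ext G
        simp only [tupSet, Set.mem_ofPred_eq, Set.mem_empty_iff_false, iff_false, not_and]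
        intro _ h
        simp at h
        exact hj h.symm
      rw [he, Set.ncard_empty]
      exact Nat.zero_le _
  | succ s ih =>
    set q := Fintype.card F with hq
    let A : ℕ → Set (Fin (s + 1) → F[X]) := fun m =>
      Set.image2 (@Fin.cons s (fun _ => F[X]))
        (glkC_P F m) (tupSet F s (r + 1) (j - r * m))
    let I : Finset ℕ := (Finset.range (j + 1)).filter (fun m => r * m ≤ j)
    have hsub : tupSet F (s + 1) r j ⊆ ⋃ m ∈ I, A m := by
      intro G hG
      obtain ⟨hG1, hG2⟩ := hG
      rw [Fin.sum_univ_succ] at hG2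
      simp only [Fin.val_zero, add_zero, Fin.val_succ] at hG2
      set m := (G 0).natDegree with hm
      have hle : r * m ≤ j := by omega
      have hmj : m ≤ j := by
        have : m ≤ r * m := Nat.le_mul_of_pos_left m hr
        omega
      refine Set.mem_biUnion (x := m) ?_ ?_
      · simp only [I, Finset.coe_filter, Finset.mem_range, Set.mem_ofPred_eq]
        exact ⟨by omega, hle⟩
      · refine ⟨G 0, ⟨(hG1 0).1, hm.symm, (hG1 0).2⟩, Fin.tail G, ⟨fun i => hG1 i.succ, ?_⟩,
          Fin.cons_self_tail G⟩
        have : ∑ i : Fin s, (r + 1 + (i : ℕ)) * (Fin.tail G i).natDegree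
            = ∑ i : Fin s, (r + ((i : ℕ) + 1)) * (G i.succ).natDegree := by
          refine Finset.sum_congr rfl fun i _ => ?_
          simp only [Fin.tail]
          ring
        rw [this]
        omega
    have hAfin : ∀ m, (A m).Finite := fun m =>
      Set.Finite.image2 _ (glkC_P_card F m).1 (ih (r + 1) (j - r * m) (by omega)).1
    have hUfin : (⋃ m ∈ I, A m).Finite :=
      Set.Finite.biUnion (Finset.finite_toSet I) fun m _ => hAfin m
    refine ⟨hUfin.subset hsub, ?_⟩
    have hA : ∀ m, (A m).ncard ≤ nMon q m * cnt q s (r + 1) (j - r * m) := by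
      intro m
      have h1 := glkC_P_card F m
      have h2 := ih (r + 1) (j - r * m) (by omega)
      calc (A m).ncard
          = ((fun x : F[X] × (Fin s → F[X]) =>
              @Fin.cons s (fun _ => F[X]) x.1 x.2) ''
              (glkC_P F m ×ˢ tupSet F s (r + 1) (j - r * m))).ncard := by
            rw [Set.image_prod]
        _ ≤ (glkC_P F m ×ˢ tupSet F s (r + 1) (j - r * m)).ncard :=
            Set.ncard_image_le (h1.1.prod h2.1)
        _ = (glkC_P F m).ncard * (tupSet F s (r + 1) (j - r * m)).ncard := Set.ncard_prod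
        _ ≤ nMon q m * cnt q s (r + 1) (j - r * m) := Nat.mul_le_mul h1.2 h2.2
    calc (tupSet F (s + 1) r j).ncard ≤ (⋃ m ∈ I, A m).ncard := Set.ncard_le_ncard hsub hUfin
      _ ≤ ∑ m ∈ I, (A m).ncard := Finset.set_ncard_biUnion_le I A
      _ ≤ ∑ m ∈ I, nMon q m * cnt q s (r + 1) (j - r * m) := Finset.sum_le_sum fun m _ => hA m
      _ = cnt q (s + 1) r j := by
          simp only [cnt, I]
          rw [Finset.sum_filter]

end Cfsg.Agent.Lib.Helper29.GLK
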