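import Cfsg.Agent.Lib.Helper1.PLK.Defs
import Cfsg.Agent.Lib.Helper5.PLKT0

/-!
# PLK row T4 (`tdet_tctr`), verbatim, with the shared facts on `T ∈ tupTw F n m`:
`deg T_i = m deg (contract m T_i)`, `deg T_i = 0` for `i ≥ n / m`, `∑_{j < n/m} (1 + j) deg H_j = n / m`.
-/

set_option autoImplicit false

namespace Cfsg.Agent.Lib.Helper1.PLK

open Polynomial
open Cfsg.Agent.Lib.Helper29.GLK
open Cfsg.Agent.Lib.Helper1.SLK

universe u

/-- a product over `Fin n` of a function that is `1` from `N` on is the product over `Fin N` -/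
theorem plkt4_prod_castLE {M : Type*} [CommMonoid M] {n N : ℕ} (hN : N ≤ n) (g : Fin n → M)
    (hg : ∀ i : Fin n, N ≤ (i : ℕ) → g i = 1) : ∏ i, g i = ∏ j : Fin N, g (Fin.castLE hN j) := by
  have h1 : ∏ j : Fin N, g (Fin.castLE hN j) = ∏ x ∈ Finset.univ.map (Fin.castLEEmb hN), g x := by
    rw [Finset.prod_map]
    rfl
  rw [h1]
  symm
  apply Finset.prod_subset (Finset.subset_univ _)
  intro i _ hi
  apply hg
  by_contra hlt
  have hlt' : (i : ℕ) < N := Nat.lt_of_not_le hlt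
  apply hi
  rw [Finset.mem_map]
  exact ⟨⟨i, hlt'⟩, Finset.mem_univ _, Fin.ext rfl⟩

/-- a sum over `Fin n` of a function that is `0` from `N` on is the sum over `Fin N` -/
theorem plkt4_sum_castLE {M : Type*} [AddCommMonoid M] {n N : ℕ} (hN : N ≤ n) (g : Fin n → M)
    (hg : ∀ i : Fin n, N ≤ (i : ℕ) → g i = 0) : ∑ i, g i = ∑ j : Fin N, g (Fin.castLE hN j) := by
  have h1 : ∑ j : Fin N, g (Fin.castLE hN j) = ∑ x ∈ Finset.univ.map (Fin.castLEEmb hN), g x := by
    rw [Finset.sum_map]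
    rfl
  rw [h1]
  symm
  apply Finset.sum_subset (Finset.subset_univ _)
  intro i _ hi
  apply hg
  by_contra hlt
  have hlt' : (i : ℕ) < N := Nat.lt_of_not_le hlt
  apply hi
  rw [Finset.mem_map]
  exact ⟨⟨i, hlt'⟩, Finset.mem_univ _, Fin.ext rfl⟩

theorem plkt4_aux (m d : ℕ) (hm : m ≠ 0) : m * d = (m - 1) * d + d := by
  cases m with
  | zero => exact absurd rfl hm
  | succ k => rw [Nat.add_sub_cancel, Nat.succ_mul]

section

variable {F : Type u} [Field F] [Fintype F] {n m : ℕ}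

/-- `deg T_i = m deg (contract m T_i)` -/
theorem plkt4_deg (hm : m ≠ 0) {T : Fin n → F[X]} (hT : T ∈ tupTw F n m) (i : Fin n) :
    (T i).natDegree = m * (contract m (T i)).natDegree :=
  (contract_props m hm (T i) ((mem_tupTw.mp hT).2 i)).2.1

/-- `deg T_i = 0` for `i ≥ n / m` -/
theorem plkt4_deg_zero (hm : m ≠ 0) {T : Fin n → F[X]} (hT : T ∈ tupTw F n m) (i : Fin n)
    (hi : n / m ≤ (i : ℕ)) : (T i).natDegree = 0 := by
  by_contra hne
  have hdeg := plkt4_deg hm hT i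
  have hd : 1 ≤ (contract m (T i)).natDegree := by
    by_contra hlt
    have h0 : (contract m (T i)).natDegree = 0 := by omega
    rw [h0, mul_zero] at hdeg
    exact hne hdeg
  have hsum : ∑ k : Fin n, (1 + (k : ℕ)) * (T k).natDegree = n := (mem_tupTw.mp hT).1.2
  have hle : (1 + (i : ℕ)) * (T i).natDegree ≤ n := by
    calc (1 + (i : ℕ)) * (T i).natDegree
        ≤ ∑ k : Fin n, (1 + (k : ℕ)) * (T k).natDegree :=
          Finset.single_le_sum (f := fun k : Fin n => (1 + (k : ℕ)) * (T k).natDegree)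
            (fun k _ => Nat.zero_le _) (Finset.mem_univ i)
      _ = n := hsum
  have hmpos : 0 < m := Nat.pos_of_ne_zero hm
  have hlt : n < ((i : ℕ) + 1) * m := by
    have h1 : n / m < (i : ℕ) + 1 := Nat.lt_succ_of_le hi
    exact (Nat.div_lt_iff_lt_mul hmpos).mp h1
  have hge : ((i : ℕ) + 1) * m ≤ (1 + (i : ℕ)) * (T i).natDegree := by
    rw [hdeg, add_comm (i : ℕ) 1]
    exact Nat.mul_le_mul_left _ (Nat.le_mul_of_pos_right m hd)
  omega

/-- `T_i = 1` for `i ≥ n / m` -/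
theorem plkt4_eq_one (hm : m ≠ 0) {T : Fin n → F[X]} (hT : T ∈ tupTw F n m) (i : Fin n)
    (hi : n / m ≤ (i : ℕ)) : T i = 1 :=
  Polynomial.eq_one_of_monic_natDegree_zero ((mem_tupTw.mp hT).1.1 i).1 (plkt4_deg_zero hm hT i hi)

/-- the degrees of the contracted tuple: `∑_{j < n/m} (1 + j) deg H_j = n / m` -/
theorem plkt4_sum_deg (hm : m ≠ 0) {T : Fin n → F[X]} (hT : T ∈ tupTw F n m) :
    ∑ j : Fin (n / m), (1 + (j : ℕ)) * (tctr m T j).natDegree = n / m := by
  have hN : n / m ≤ n := Nat.div_le_self n m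
  have hsum : ∑ k : Fin n, (1 + (k : ℕ)) * (T k).natDegree = n := (mem_tupTw.mp hT).1.2
  have h1 : ∑ k : Fin n, (1 + (k : ℕ)) * (T k).natDegree =
      ∑ j : Fin (n / m), (1 + ((Fin.castLE hN j : Fin n) : ℕ)) * (T (Fin.castLE hN j)).natDegree :=
    plkt4_sum_castLE hN (fun k : Fin n => (1 + (k : ℕ)) * (T k).natDegree)
      (fun i hi => by
        show (1 + (i : ℕ)) * (T i).natDegree = 0
        rw [plkt4_deg_zero hm hT i hi, mul_zero])
  have h2 : ∑ j : Fin (n / m), (1 + ((Fin.castLE hN j : Fin n) : ℕ)) * (T (Fin.castLE hN j)).natDegree =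
      m * ∑ j : Fin (n / m), (1 + (j : ℕ)) * (tctr m T j).natDegree := by
    rw [Finset.mul_sum]
    apply Finset.sum_congr rfl
    intro j _
    rw [plkt4_deg hm hT (Fin.castLE hN j)]
    show (1 + (j : ℕ)) * (m * (contract m (T (Fin.castLE hN j))).natDegree) =
      m * ((1 + (j : ℕ)) * (contract m (T (Fin.castLE (Nat.div_le_self n m) j))).natDegree)
    ring
  have h3 : n = m * ∑ j : Fin (n / m), (1 + (j : ℕ)) * (tctr m T j).natDegree := by
    rw [← h2, ← h1, hsum]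
  exact (Nat.div_eq_of_eq_mul_right (Nat.pos_of_ne_zero hm) h3).symm

/-- T4 [M] `(-1)^(deg T_i) T_i(0) = (-1)^(m deg H_i) H_i(0)`; the sign is
`∏ (-1)^((m-1) deg H_i (i+1)) = (-1)^((m-1) (n/m))`. -/
theorem tdet_tctr {F : Type u} [Field F] [Fintype F] (n m : ℕ) (hm : m ≠ 0) (hmn : m ∣ n)
    (T : Fin n → F[X]) (hT : T ∈ tupTw F n m) :
    tdet T = (-1) ^ ((m - 1) * (n / m)) * tdet (tctr m T) := by
  have hN : n / m ≤ n := Nat.div_le_self n m
  unfold tdet
  rw [plkt4_prod_castLE hN (fun i : Fin n => ((-1) ^ (T i).natDegree * (T i).coeff 0) ^ ((i : ℕ) + 1))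
    (fun i hi => by
      show ((-1) ^ (T i).natDegree * (T i).coeff 0) ^ ((i : ℕ) + 1) = 1
      rw [plkt4_eq_one hm hT i hi]
      simp)]
  have hterm : ∀ j : Fin (n / m),
      ((-1 : F) ^ (T (Fin.castLE hN j)).natDegree * (T (Fin.castLE hN j)).coeff 0) ^
          (((Fin.castLE hN j : Fin n) : ℕ) + 1) =
        (-1 : F) ^ ((m - 1) * ((1 + (j : ℕ)) * (tctr m T j).natDegree)) *
          ((-1) ^ (tctr m T j).natDegree * (tctr m T j).coeff 0) ^ ((j : ℕ) + 1) := by
    intro j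
    have hdeg : (T (Fin.castLE hN j)).natDegree = m * (tctr m T j).natDegree :=
      plkt4_deg hm hT (Fin.castLE hN j)
    have hc : (tctr m T j).coeff 0 = (T (Fin.castLE hN j)).coeff 0 :=
      (contract_props m hm (T (Fin.castLE hN j)) ((mem_tupTw.mp hT).2 _)).2.2.1
    rw [hdeg, ← hc]
    show ((-1 : F) ^ (m * (tctr m T j).natDegree) * (tctr m T j).coeff 0) ^ ((j : ℕ) + 1) = _
    have hsplit : (-1 : F) ^ (m * (tctr m T j).natDegree) =
        (-1) ^ ((m - 1) * (tctr m T j).natDegree) * (-1) ^ (tctr m T j).natDegree := by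
      rw [← pow_add, ← plkt4_aux m _ hm]
    rw [hsplit, mul_assoc, mul_pow, ← pow_mul]
    congr 2
    ring
  rw [Finset.prod_congr rfl (fun j _ => hterm j), Finset.prod_mul_distrib,
    Finset.prod_pow_eq_pow_sum, ← Finset.mul_sum, plkt4_sum_deg hm hT]

end

end Cfsg.Agent.Lib.Helper1.PLK
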