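import Cfsg.Agent.Lib.Helper1.PLK.Defs

/-!
# PLK row U2b (`nu_C_mul`), verbatim: a nonzero constant factor does not change the kernel.
-/

set_option autoImplicit false

namespace Cfsg.Agent.Lib.Helper1.PLK

open Polynomial
open Cfsg.Agent.Lib.Helper29.GLK
open Cfsg.Agent.Lib.Helper1.SLK

universe u

/-- the kernels agree on every `F[X]`-module -/
theorem plku2b_ker {F : Type u} [Field F] (M : Type*) [AddCommGroup M] [Module F M]
    [Module F[X] M] [IsScalarTower F F[X] M] (u : F) (hu : u ≠ 0) (a : F[X]) :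
    LinearMap.ker (sm (C u * a) M) = LinearMap.ker (sm a M) := by
  ext m
  rw [LinearMap.mem_ker, LinearMap.mem_ker, sm_apply, sm_apply, mul_smul]
  have hunit : IsUnit (C u : F[X]) := Polynomial.isUnit_C.mpr (IsUnit.mk0 u hu)
  exact hunit.smul_eq_zero

/-- U2b [S-M] a nonzero constant factor does not change the kernel. -/
theorem nu_C_mul {F : Type u} [Field F] {n : ℕ} (x : Matrix.GeneralLinearGroup (Fin n) F)
    (u : F) (hu : u ≠ 0) (a : F[X]) : nu x (C u * a) = nu x a := by
  unfold nu
  rw [plku2b_ker (gMod x) u hu a]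

end Cfsg.Agent.Lib.Helper1.PLK
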