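import Cfsg.Agent.Lib.Helper1.PLK.Defs

/-!
# PLK row U5 (`finrank_ker_quot_coprime`), verbatim: `u a + v g = 1` makes `a •` injective on `F[X]/(g)`.
-/

set_option autoImplicit false

namespace Cfsg.Agent.Lib.Helper1.PLK

open Polynomial
open Cfsg.Agent.Lib.Helper29.GLK
open Cfsg.Agent.Lib.Helper1.SLK

universe u

/-- `g` kills `F[X]/(g)`. -/
theorem plku5_self_smul {F : Type u} [Field F] (g : F[X]) (m : F[X] ⧸ Ideal.span {g}) :
    g • m = 0 := by
  obtain ⟨r, rfl⟩ := Ideal.Quotient.mk_surjective m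
  show Ideal.Quotient.mk (Ideal.span {g}) (g * r) = 0
  exact Ideal.Quotient.eq_zero_iff_mem.mpr
    (Ideal.mul_mem_right r _ (Ideal.mem_span_singleton_self g))

/-- the kernel itself is trivial. -/
theorem plku5_ker_eq_bot {F : Type u} [Field F] (a g : F[X]) (h : IsCoprime a g) :
    LinearMap.ker (sm a (F[X] ⧸ Ideal.span {g})) = ⊥ := by
  rw [LinearMap.ker_eq_bot']
  intro m hm
  rw [sm_apply] at hm
  obtain ⟨u, v, huv⟩ := h
  have hg : g • m = 0 := plku5_self_smul g m
  calc m = (1 : F[X]) • m := (one_smul _ _).symm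
    _ = (u * a + v * g) • m := by rw [huv]
    _ = u • (a • m) + v • (g • m) := by rw [add_smul, mul_smul, mul_smul]
    _ = 0 := by rw [hm, hg, smul_zero, smul_zero, add_zero]

/-- U5 [S-M] `u a + v g = 1` makes `a •` injective on `F[X]/(g)` (`LinearMap.ker_eq_bot`,
`finrank_bot`). -/
theorem finrank_ker_quot_coprime {F : Type u} [Field F] (a g : F[X]) (h : IsCoprime a g) :
    Module.finrank F (LinearMap.ker (sm a (F[X] ⧸ Ideal.span {g}))) = 0 := by
  rw [plku5_ker_eq_bot a g h]
  exact finrank_bot F _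

end Cfsg.Agent.Lib.Helper1.PLK
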