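import Mathlib
import Cfsg.Prelude.Def_Characters
import Cfsg.Agent.Lib.helper7.PM2.Defs

/-!
# Project PM2 (S4705), pieces ROOTS1 (root_sum, root_sum_one, root_pair_inj) and ORBIT (orbit_sq)
-/

set_option autoImplicit false
set_option linter.unusedVariables false
set_option linter.unusedSectionVars false

namespace Cfsg.Agent.Lib.helper7.PM2

open scoped ComplexConjugate

universe u

/-- ORBIT : a sequence with `f (j+1) = f j ^ 2` which returns to its start -/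
theorem orbit_sq (f : ℕ → ℂ) (hf : ∀ j, f (j + 1) = f j ^ 2) (t : ℕ) (ht : 0 < t) (hper : f t = f 0) :
    f 0 = 0 ∨ ‖f 0‖ = 1 := by
  have hpow : ∀ j, f j = f 0 ^ (2 ^ j) := by
    intro j
    induction j with
    | zero => simp
    | succ j ih => rw [hf j, ih, ← pow_mul, pow_succ]
  have h1 : f 0 ^ (2 ^ t) = f 0 := by rw [← hpow t, hper]
  by_cases h0 : f 0 = 0
  · exact Or.inl h0
  · right
    have hr : ‖f 0‖ ^ (2 ^ t) = ‖f 0‖ := by rw [← norm_pow, h1]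
    have hpos : 0 < ‖f 0‖ := norm_pos_iff.mpr h0
    have h2 : 1 ≤ 2 ^ t - 1 := by
      have : 2 ^ 1 ≤ 2 ^ t := Nat.pow_le_pow_right (by norm_num) ht
      omega
    have h3 : ‖f 0‖ ^ (2 ^ t - 1) * ‖f 0‖ = 1 * ‖f 0‖ := by
      rw [← pow_succ, one_mul]
      have : 2 ^ t - 1 + 1 = 2 ^ t := by omega
      rw [this, hr]
    have h4 : ‖f 0‖ ^ (2 ^ t - 1) = 1 := mul_right_cancel₀ hpos.ne' h3
    exact (pow_eq_one_iff_of_nonneg (norm_nonneg _) (by omega)).mp h4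

/-- ROOTS -/
theorem root_sum {p : ℕ} {ω : ℂ} (hp : p.Prime) (hω : IsPrimitiveRoot ω p) (j : ℕ) :
    ∑ m ∈ Finset.Ico 1 p, ω ^ (j * m) = if p ∣ j then (p : ℂ) - 1 else -1 := by
  split_ifs with hj
  · have : ∀ m ∈ Finset.Ico 1 p, ω ^ (j * m) = 1 := by
      intro m _
      rw [pow_mul, (hω.pow_eq_one_iff_dvd j).mpr hj, one_pow]
    rw [Finset.sum_congr rfl this, Finset.sum_const, Nat.card_Ico, nsmul_eq_mul, mul_one,
      Nat.cast_sub hp.one_lt.le, Nat.cast_one]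
  · have hcop : Nat.Coprime j p := (Nat.Coprime.symm ((Nat.Prime.coprime_iff_not_dvd hp).mpr hj))
    have hη : IsPrimitiveRoot (ω ^ j) p := hω.pow_of_coprime j hcop
    have hgeom := hη.geom_sum_eq_zero hp.one_lt
    rw [Finset.range_eq_Ico, Finset.sum_eq_sum_Ico_succ_bot hp.pos, pow_zero] at hgeom
    have : ∀ m ∈ Finset.Ico 1 p, ω ^ (j * m) = (ω ^ j) ^ m := fun m _ => pow_mul ω j m
    rw [Finset.sum_congr rfl this]
    linear_combination hgeom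

/-- ROOTS -/
theorem root_sum_one {p : ℕ} {ω : ℂ} (hp : p.Prime) (hω : IsPrimitiveRoot ω p) (a : ℕ) (ha : ¬ p ∣ a) :
    ∑ m ∈ Finset.Ico 1 p, (ω ^ (a * m) + ω⁻¹ ^ (a * m)) = -2 := by
  rw [Finset.sum_add_distrib, root_sum hp hω a, root_sum hp hω.inv a, if_neg ha]
  norm_num

/-- ROOTS : `ω^j + ω^-j` determines `j` up to sign -/
theorem root_pair_inj {p : ℕ} {ω : ℂ} (hp : p.Prime) (hω : IsPrimitiveRoot ω p) (a b : ℕ)
    (h : ω ^ a + ω⁻¹ ^ a = ω ^ b + ω⁻¹ ^ b) : a ≡ b [MOD p] ∨ a + b ≡ 0 [MOD p] := by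
  have hω0 : ω ≠ 0 := hω.ne_zero hp.ne_zero
  have hfac : (ω ^ a - ω ^ b) * (ω ^ (a + b) - 1) = 0 := by
    have h1 : ω⁻¹ ^ a * ω ^ a = 1 := by rw [← mul_pow, inv_mul_cancel₀ hω0, one_pow]
    have h2 : ω⁻¹ ^ b * ω ^ b = 1 := by rw [← mul_pow, inv_mul_cancel₀ hω0, one_pow]
    have h3 : (ω ^ a + ω⁻¹ ^ a) * (ω ^ a * ω ^ b) = (ω ^ b + ω⁻¹ ^ b) * (ω ^ a * ω ^ b) := by rw [h]
    rw [pow_add]
    linear_combination h3 - ω ^ b * h1 + ω ^ a * h2
  rcases mul_eq_zero.mp hfac with h1 | h1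
  · left
    have : ω ^ a = ω ^ b := sub_eq_zero.mp h1
    have hz : ω ^ ((a : ℤ) - (b : ℤ)) = 1 := by
      rw [zpow_sub₀ hω0, zpow_natCast, zpow_natCast, this, div_self (pow_ne_zero _ hω0)]
    have hd : (p : ℤ) ∣ (a : ℤ) - b := (hω.zpow_eq_one_iff_dvd _).mp hz
    exact Int.natCast_modEq_iff.mp (Int.modEq_iff_dvd.mpr hd).symm
  · right
    have : ω ^ (a + b) = 1 := sub_eq_zero.mp h1
    exact (Nat.modEq_zero_iff_dvd).mpr ((hω.pow_eq_one_iff_dvd _).mp this)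

end Cfsg.Agent.Lib.helper7.PM2
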