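import Mathlib
import Cfsg.Prelude.Def_Characters
import Cfsg.Agent.Lib.helper7.PM2.Defs

/-!
# Project PM2 (S4705), piece NUSUM, core: orthogonality for a faithful multiplicative function on the centre
-/

set_option autoImplicit false
set_option linter.unusedVariables false
set_option linter.unusedSectionVars false

namespace Cfsg.Agent.Lib.helper7.PM2

open scoped ComplexConjugate

universe u

variable {G : Type u} [Group G] [Fintype G]

/-- NUSUM, core -/
theorem pm2nusum_core (ν : G → ℂ) (h1 : ν 1 = 1)
    (hmul : ∀ c c' : G, c ∈ Subgroup.center G → c' ∈ Subgroup.center G → ν (c * c') = ν c * ν c')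
    (hinj : ∀ c : G, c ∈ Subgroup.center G → ν c = 1 → c = 1) (k k' : ℕ) :
    ∑ c ∈ cen G, ν c ^ k * conj (ν c ^ k') =
      if k ≡ k' [MOD Nat.card (Subgroup.center G)] then (Nat.card (Subgroup.center G) : ℂ) else 0 := by
  classical
  -- the homomorphism
  let f : ↥(Subgroup.center G) →* ℂ :=
    { toFun := fun c => ν (c : G)
      map_one' := by simpa using h1
      map_mul' := fun c c' => by
        simpa using hmul (c : G) (c' : G) c.2 c'.2 }
  have hf : ∀ c : ↥(Subgroup.center G), f c = ν (c : G) := fun _ => rfl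
  have hfinj : Function.Injective f := by
    intro c c' hcc
    have h2 : f (c * c'⁻¹) = 1 := by
      have h3 : f (c * c'⁻¹) * f c' = f c := by rw [← map_mul, inv_mul_cancel_right]
      have h4 : f c' ≠ 0 := by
        intro h0
        have : f (c' * c'⁻¹) = 0 := by rw [map_mul, h0, zero_mul]
        rw [mul_inv_cancel, map_one] at this
        exact one_ne_zero this
      have : f (c * c'⁻¹) * f c' = 1 * f c' := by rw [h3, one_mul, hcc]
      exact mul_right_cancel₀ h4 this
    have h5 : ((c * c'⁻¹ : ↥(Subgroup.center G)) : G) = 1 := hinj _ (c * c'⁻¹).2 h2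
    have h6 : c * c'⁻¹ = 1 := Subtype.ext h5
    exact mul_inv_eq_one.mp h6
  haveI : IsCyclic ↥(Subgroup.center G) := isCyclic_of_subgroup_isDomain f hfinj
  set o := Nat.card ↥(Subgroup.center G) with ho
  have hopos : 0 < o := Nat.card_pos
  have hpowo : ∀ c : ↥(Subgroup.center G), f c ^ o = 1 := by
    intro c
    rw [← map_pow, ho, pow_card_eq_one', map_one]
  have hnorm : ∀ c : ↥(Subgroup.center G), f c * conj (f c) = 1 := by
    intro c
    have hn : ‖f c‖ = 1 := Complex.norm_eq_one_of_pow_eq_one (hpowo c) hopos.ne'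
    rw [Complex.mul_conj, Complex.normSq_eq_norm_sq, hn]; norm_num
  -- the character `ψ`
  let ψ : ↥(Subgroup.center G) →* ℂ :=
    ((powMonoidHom k).comp f) * ((powMonoidHom k').comp ((starRingEnd ℂ).toMonoidHom.comp f))
  have hψ : ∀ c : ↥(Subgroup.center G), ψ c = f c ^ k * conj (f c ^ k') := by
    intro c
    simp [ψ, MonoidHom.mul_apply]
  have hsum := sum_hom_units ψ
  have hconv : ∑ c ∈ cen G, ν c ^ k * conj (ν c ^ k') = ∑ c : ↥(Subgroup.center G), ψ c := by
    rw [Finset.sum_subtype (cen G) (fun c => mem_cen c) (fun c => ν c ^ k * conj (ν c ^ k'))]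
    apply Finset.sum_congr rfl
    intro c _
    rw [hψ, hf]
  rw [hconv, hsum]
  have hkey : ψ = 1 ↔ k ≡ k' [MOD o] := by
    constructor
    · intro h
      obtain ⟨g, hg⟩ := IsCyclic.exists_generator (α := ↥(Subgroup.center G))
      have hord : orderOf g = o := by
        rw [ho]; exact orderOf_eq_card_of_forall_mem_zpowers hg
      have h2 : ψ g = 1 := by rw [h]; rfl
      rw [hψ, map_pow] at h2
      have h3 : f g ^ k = f g ^ k' := by
        have h4 : (f g * conj (f g)) ^ k' = 1 := by rw [hnorm, one_pow]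
        rw [mul_pow] at h4
        calc f g ^ k = f g ^ k * (f g ^ k' * conj (f g) ^ k') := by rw [h4, mul_one]
          _ = (f g ^ k * conj (f g) ^ k') * f g ^ k' := by ring
          _ = f g ^ k' := by rw [h2, one_mul]
      rw [← map_pow, ← map_pow] at h3
      have h5 := hfinj h3
      rw [← hord]
      exact pow_eq_pow_iff_modEq.mp h5
    · intro h
      ext c
      rw [hψ, MonoidHom.one_apply]
      have hdvd : orderOf c ∣ o := by rw [ho]; exact orderOf_dvd_natCard c
      have h2 : c ^ k = c ^ k' := pow_eq_pow_iff_modEq.mpr (h.of_dvd hdvd)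
      have h3 : f c ^ k = f c ^ k' := by rw [← map_pow, ← map_pow, h2]
      rw [h3, map_pow, ← mul_pow, hnorm, one_pow]
  by_cases hk : k ≡ k' [MOD o]
  · rw [if_pos (hkey.mpr hk), if_pos hk, ho, Nat.card_eq_fintype_card]
  · rw [if_neg (hkey.not.mpr hk), if_neg hk]
    simp

end Cfsg.Agent.Lib.helper7.PM2
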