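import Mathlib
import Cfsg.Prelude.Def_Characters
import Cfsg.Agent.Lib.helper7.PM2.Defs
import Cfsg.Agent.Lib.helper7.CharCentral
import Cfsg.Agent.Lib.Helper25.PM2NUSUMcore

/-!
# Project PM2 (S4705), piece NUSUM (verbatim); the three BAS facts it needs are proved here directly
-/

set_option autoImplicit false
set_option linter.unusedVariables false
set_option linter.unusedSectionVars false

namespace Cfsg.Agent.Lib.helper7.PM2

open scoped ComplexConjugate

universe u

section setting

variable {G : Type u} [Group G] [Fintype G] {p : ℕ} {ζ : G → ℂ} {x : G} {ω : ℂ}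

theorem pm2nusum_deg_ne (S : Setting p ζ x ω) : ζ 1 ≠ 0 := by
  rw [S.deg]
  have h5 := S.hp5
  have : (2 : ℝ) < (p : ℝ) := by exact_mod_cast (by omega : 2 < p)
  intro h
  have h' : (p : ℂ) = 2 := by linear_combination h
  have h'' : (p : ℝ) = 2 := by exact_mod_cast h'
  linarith

theorem pm2nusum_one (S : Setting p ζ x ω) : nu ζ 1 = 1 := by
  unfold nu
  exact div_self (pm2nusum_deg_ne S)

theorem pm2nusum_mul_left (S : Setting p ζ x ω) {c : G} (hc : c ∈ Subgroup.center G) (g : G) :
    ζ (c * g) = nu ζ c * ζ g := by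
  obtain ⟨κ, hκ⟩ := Cfsg.Agent.Lib.helper7.h7_central_char S.irr c hc
  have h1 : ζ c = κ * ζ 1 := by simpa using hκ 1
  have h2 : nu ζ c = κ := by
    unfold nu
    rw [h1, mul_div_assoc, div_self (pm2nusum_deg_ne S), mul_one]
  rw [h2, hκ g]

theorem pm2nusum_mul (S : Setting p ζ x ω) {c c' : G} (hc : c ∈ Subgroup.center G)
    (hc' : c' ∈ Subgroup.center G) : nu ζ (c * c') = nu ζ c * nu ζ c' := by
  have h1 := pm2nusum_mul_left S hc c'
  unfold nu at h1 ⊢
  rw [h1]
  ring

theorem pm2nusum_inj (S : Setting p ζ x ω) {c : G} (hc : c ∈ Subgroup.center G) (h : nu ζ c = 1) :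
    c = 1 := by
  apply S.faith
  unfold nu at h
  have := (div_eq_one_iff_eq (pm2nusum_deg_ne S)).mp h
  exact this

/-- NUSUM : orthogonality for the (faithful) central character -/
theorem nu_sum (S : Setting p ζ x ω) (k k' : ℕ) :
    ∑ c ∈ cen G, nu ζ c ^ k * conj (nu ζ c ^ k') =
      if k ≡ k' [MOD Nat.card (Subgroup.center G)] then (Nat.card (Subgroup.center G) : ℂ) else 0 :=
  pm2nusum_core (nu ζ) (pm2nusum_one S) (fun c c' hc hc' => pm2nusum_mul S hc hc')
    (fun c hc h => pm2nusum_inj S hc h) k k'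

end setting

end Cfsg.Agent.Lib.helper7.PM2
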