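import Mathlib
import Cfsg.Prelude.Def_Characters
import Cfsg.Agent.Lib.helper7.PM2.Defs
import Cfsg.Agent.Lib.Helper25.PM2ROOTS1

/-!
# Project PM2 (S4705), piece ROOTS2 (root_sum_prod, root_sum_cube)
-/

set_option autoImplicit false
set_option linter.unusedVariables false
set_option linter.unusedSectionVars false

namespace Cfsg.Agent.Lib.helper7.PM2

open scoped ComplexConjugate

universe u

/-- the inverse of a `p`-th root of unity is its `(p-1)`-st power -/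
theorem pm2roots2_inv {p : ℕ} {ω : ℂ} (hp : p.Prime) (hω : IsPrimitiveRoot ω p) (k : ℕ) :
    ω⁻¹ ^ k = ω ^ ((p - 1) * k) := by
  have hω0 : ω ≠ 0 := hω.ne_zero hp.ne_zero
  have h1 : ω ^ (p - 1) * ω = 1 := by
    rw [← pow_succ]
    have : p - 1 + 1 = p := Nat.sub_add_cancel hp.one_lt.le
    rw [this, hω.pow_eq_one]
  have h2 : ω⁻¹ = ω ^ (p - 1) := by
    field_simp
    linear_combination -h1
  rw [h2, ← pow_mul]

/-- the conjugate of a root of unity is its inverse -/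
theorem pm2roots2_conj {p : ℕ} {ω : ℂ} (hp : p.Prime) (hω : IsPrimitiveRoot ω p) :
    conj ω = ω⁻¹ := by
  have hn : ‖ω‖ = 1 := hω.norm'_eq_one hp.ne_zero
  have hω0 : ω ≠ 0 := hω.ne_zero hp.ne_zero
  have h1 : ω * conj ω = 1 := by
    rw [Complex.mul_conj, Complex.normSq_eq_norm_sq, hn]; norm_num
  field_simp
  linear_combination h1

/-- the conjugate of `ω^k + ω^-k` -/
theorem pm2roots2_conj_pair {p : ℕ} {ω : ℂ} (hp : p.Prime) (hω : IsPrimitiveRoot ω p) (k : ℕ) :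
    conj (ω ^ k + ω⁻¹ ^ k) = ω ^ k + ω⁻¹ ^ k := by
  rw [map_add, map_pow, map_pow, map_inv₀, pm2roots2_conj hp hω, inv_inv]
  ring

/-- divisibility bookkeeping -/
theorem pm2roots2_dvd_sub {p : ℕ} (hp : p.Prime) (a b : ℕ) :
    p ∣ a + (p - 1) * b ↔ a ≡ b [MOD p] := by
  have h1 : (p - 1) * b + b = p * b := by
    have : p - 1 + 1 = p := Nat.sub_add_cancel hp.one_lt.le
    calc (p - 1) * b + b = (p - 1 + 1) * b := by ring
      _ = p * b := by rw [this]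
  constructor
  · intro h
    -- a + (p-1) b ≡ 0, add b: a + p b ≡ b
    have h2 : a + (p - 1) * b + b ≡ 0 + b [MOD p] :=
      Nat.ModEq.add_right b ((Nat.modEq_zero_iff_dvd).mpr h)
    have h3 : a + (p - 1) * b + b = a + p * b := by omega
    rw [h3, zero_add] at h2
    have h4 : a + p * b ≡ a [MOD p] := by
      have : a + p * b ≡ a + 0 [MOD p] :=
        Nat.ModEq.add_left a ((Nat.modEq_zero_iff_dvd).mpr (dvd_mul_right p b))
      simpa using this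
    exact h4.symm.trans h2
  · intro h
    have h2 : a + (p - 1) * b ≡ b + (p - 1) * b [MOD p] := Nat.ModEq.add_right _ h
    have h3 : b + (p - 1) * b = p * b := by omega
    rw [h3] at h2
    exact (Nat.modEq_zero_iff_dvd).mp
      (h2.trans ((Nat.modEq_zero_iff_dvd).mpr (dvd_mul_right p b)))

/-- ROOTS -/
theorem root_sum_prod {p : ℕ} {ω : ℂ} (hp : p.Prime) (hp2 : 2 < p) (hω : IsPrimitiveRoot ω p) (a b : ℕ)
    (ha : ¬ p ∣ a) (hb : ¬ p ∣ b) :
    ∑ m ∈ Finset.Ico 1 p, (ω ^ (a * m) + ω⁻¹ ^ (a * m)) * conj (ω ^ (b * m) + ω⁻¹ ^ (b * m)) =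
      2 * (p : ℂ) * (if a ≡ b [MOD p] ∨ a + b ≡ 0 [MOD p] then 1 else 0) - 4 := by
  have hterm : ∀ m ∈ Finset.Ico 1 p,
      (ω ^ (a * m) + ω⁻¹ ^ (a * m)) * conj (ω ^ (b * m) + ω⁻¹ ^ (b * m)) =
      ω ^ ((a + b) * m) + ω ^ ((a + (p - 1) * b) * m) + ω ^ ((b + (p - 1) * a) * m) +
        ω ^ (((p - 1) * (a + b)) * m) := by
    intro m _
    rw [pm2roots2_conj_pair hp hω, pm2roots2_inv hp hω, pm2roots2_inv hp hω, ← sub_eq_zero]
    ring_nf
  rw [Finset.sum_congr rfl hterm, Finset.sum_add_distrib, Finset.sum_add_distrib,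
    Finset.sum_add_distrib, root_sum hp hω, root_sum hp hω, root_sum hp hω, root_sum hp hω]
  have e1 : p ∣ a + b ↔ a + b ≡ 0 [MOD p] := (Nat.modEq_zero_iff_dvd).symm
  have e2 : p ∣ a + (p - 1) * b ↔ a ≡ b [MOD p] := pm2roots2_dvd_sub hp a b
  have e3 : p ∣ b + (p - 1) * a ↔ a ≡ b [MOD p] :=
    (pm2roots2_dvd_sub hp b a).trans ⟨Nat.ModEq.symm, Nat.ModEq.symm⟩
  have e4 : p ∣ (p - 1) * (a + b) ↔ a + b ≡ 0 [MOD p] := by
    rw [Nat.modEq_zero_iff_dvd]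
    constructor
    · intro h
      rcases (Nat.Prime.dvd_mul hp).mp h with h' | h'
      · exfalso
        have := Nat.le_of_dvd (by omega) h'
        omega
      · exact h'
    · intro h; exact dvd_mul_of_dvd_right h _
  have hnot : ¬ (a ≡ b [MOD p] ∧ a + b ≡ 0 [MOD p]) := by
    rintro ⟨h1, h2⟩
    have h3 : a + a ≡ a + b [MOD p] := Nat.ModEq.add_left a h1
    have h4 : p ∣ a + a := (Nat.modEq_zero_iff_dvd).mp (h3.trans h2)
    have h5 : p ∣ 2 * a := by rwa [two_mul]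
    rcases (Nat.Prime.dvd_mul hp).mp h5 with h' | h'
    · have := Nat.le_of_dvd (by norm_num) h'
      omega
    · exact ha h'
  by_cases hc1 : a ≡ b [MOD p] <;> by_cases hc2 : a + b ≡ 0 [MOD p]
  · exact absurd ⟨hc1, hc2⟩ hnot
  · rw [if_neg (e1.not.mpr hc2), if_pos (e2.mpr hc1), if_pos (e3.mpr hc1), if_neg (e4.not.mpr hc2),
      if_pos (Or.inl hc1)]
    ring
  · rw [if_pos (e1.mpr hc2), if_neg (e2.not.mpr hc1), if_neg (e3.not.mpr hc1), if_pos (e4.mpr hc2),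
      if_pos (Or.inr hc2)]
    ring
  · rw [if_neg (e1.not.mpr hc2), if_neg (e2.not.mpr hc1), if_neg (e3.not.mpr hc1),
      if_neg (e4.not.mpr hc2), if_neg (by push Not; exact ⟨hc1, hc2⟩)]
    ring

/-- ROOTS -/
theorem root_sum_cube {p : ℕ} {ω : ℂ} (hp : p.Prime) (hp3 : 3 < p) (hω : IsPrimitiveRoot ω p) :
    ∑ m ∈ Finset.Ico 1 p, (ω ^ m + ω⁻¹ ^ m) ^ 2 * conj (ω ^ m + ω⁻¹ ^ m) = -8 := by
  have hω0 : ω ≠ 0 := hω.ne_zero hp.ne_zero
  have hterm : ∀ m ∈ Finset.Ico 1 p,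
      (ω ^ m + ω⁻¹ ^ m) ^ 2 * conj (ω ^ m + ω⁻¹ ^ m) =
      (ω ^ (3 * m) + ω⁻¹ ^ (3 * m)) + 3 * (ω ^ (1 * m) + ω⁻¹ ^ (1 * m)) := by
    intro m _
    rw [pm2roots2_conj_pair hp hω]
    have h1 : ω⁻¹ ^ m * ω ^ m = 1 := by rw [← mul_pow, inv_mul_cancel₀ hω0, one_pow]
    rw [one_mul, show 3 * m = m * 3 by ring, pow_mul, pow_mul]
    linear_combination (3 * ω ^ m + 3 * ω⁻¹ ^ m) * h1
  have h3 : ¬ p ∣ 3 := by
    intro h
    have := Nat.le_of_dvd (by norm_num) h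
    omega
  have h1 : ¬ p ∣ 1 := by
    intro h
    have := Nat.le_of_dvd (by norm_num) h
    omega
  rw [Finset.sum_congr rfl hterm, Finset.sum_add_distrib, ← Finset.mul_sum,
    root_sum_one hp hω 3 h3, root_sum_one hp hω 1 h1]
  norm_num

end Cfsg.Agent.Lib.helper7.PM2
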