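import Mathlib
import Cfsg.Agent.Lib.Helper18.REELA.Defs

/-!
# REE block LA row LA06 (helper25, second writer; landed verbatim since main had none): `la_cyclic_ker`.
-/

set_option autoImplicit false

namespace Cfsg.Agent.Lib.helper7.REE

open Matrix Polynomial

section general

variable {F : Type*} [Field F]

variable {V : Type*} [AddCommGroup V] [Module F V]

/-- `ker p(f)` is invariant under polynomials in `f` -/
theorem reela06_inv (f : Module.End F V) (p s : F[X]) (x : V) (hx : x ∈ LinearMap.ker (aeval f p)) :
    aeval f s x ∈ LinearMap.ker (aeval f p) := by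
  rw [LinearMap.mem_ker] at hx ⊢
  have h1 : aeval f p (aeval f s x) = aeval f (p * s) x := by
    rw [map_mul, Module.End.mul_apply]
  have h2 : aeval f (s * p) x = aeval f s (aeval f p x) := by
    rw [map_mul, Module.End.mul_apply]
  rw [h1, mul_comm, h2, hx, map_zero]

/-- a polynomial of degree `< deg p` killing a non-zero vector of `ker p(f)` is zero -/
theorem reela06_inj (f : Module.End F V) (p : F[X]) (hp : Irreducible p)
    (v : V) (hv : v ∈ LinearMap.ker (aeval f p)) (hv0 : v ≠ 0) (r : F[X])
    (hr : r ∈ Polynomial.degreeLT F p.natDegree) (hrv : aeval f r v = 0) : r = 0 := by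
  by_contra hr0
  have hdeg : r.natDegree < p.natDegree := by
    rw [Polynomial.mem_degreeLT] at hr
    exact (Polynomial.natDegree_lt_iff_degree_lt hr0).mpr hr
  have hnd : ¬ p ∣ r := by
    intro hd
    have := Polynomial.natDegree_le_of_dvd hd hr0
    omega
  obtain ⟨u, w, huw⟩ := (hp.isCoprime_or_dvd r).resolve_right hnd
  have hpv : aeval f p v = 0 := LinearMap.mem_ker.mp hv
  have h1 : aeval f (u * p + w * r) v = v := by
    rw [huw]; simp
  rw [map_add, map_mul, map_mul] at h1
  simp only [LinearMap.add_apply, Module.End.mul_apply, hpv, hrv, map_zero, add_zero] at h1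
  exact hv0 h1.symm

/-- LA06 [M] (own name). -/
theorem la_cyclic_ker (f : Module.End F V) (p : F[X]) (hp : Irreducible p)
    (hW : Module.finrank F (LinearMap.ker (aeval f p)) = p.natDegree)
    (v : V) (hv : v ∈ LinearMap.ker (aeval f p)) (hv0 : v ≠ 0) :
    ∀ w ∈ LinearMap.ker (aeval f p), ∃ r : F[X], w = aeval f r v := by
  classical
  have hdpos : 0 < p.natDegree := hp.natDegree_pos
  have : Module.Finite F (LinearMap.ker (aeval f p)) :=
    Module.finite_of_finrank_pos (by rw [hW]; exact hdpos)
  have : Module.Finite F (Polynomial.degreeLT F p.natDegree) :=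
    Module.Finite.equiv (Polynomial.degreeLTEquiv F p.natDegree).symm
  have hfr : Module.finrank F (Polynomial.degreeLT F p.natDegree) =
      Module.finrank F (LinearMap.ker (aeval f p)) := by
    rw [hW, LinearEquiv.finrank_eq (Polynomial.degreeLTEquiv F p.natDegree), Module.finrank_fin_fun]
  let ψ : F[X] →ₗ[F] V := (LinearMap.applyₗ v).comp (aeval f).toLinearMap
  have hψ : ∀ r : F[X], ψ r = aeval f r v := fun r => rfl
  let φ : Polynomial.degreeLT F p.natDegree →ₗ[F] LinearMap.ker (aeval f p) :=
    (ψ.domRestrict (Polynomial.degreeLT F p.natDegree)).codRestrict (LinearMap.ker (aeval f p))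
      (fun r => by
        rw [LinearMap.domRestrict_apply, hψ]
        exact reela06_inv f p _ v hv)
  have hφ : ∀ r : Polynomial.degreeLT F p.natDegree, ((φ r : LinearMap.ker (aeval f p)) : V) = aeval f r.1 v :=
    fun r => rfl
  have hinj : Function.Injective φ := by
    rw [← LinearMap.ker_eq_bot, LinearMap.ker_eq_bot']
    intro r hr
    have h0 : aeval f r.1 v = 0 := by
      rw [← hφ r, hr]; rfl
    exact Subtype.ext (reela06_inj f p hp v hv hv0 r.1 r.2 h0)
  have hsurj : Function.Surjective φ :=
    (LinearMap.injective_iff_surjective_of_finrank_eq_finrank hfr).mp hinj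
  intro w hw
  obtain ⟨r, hr⟩ := hsurj ⟨w, hw⟩
  refine ⟨r.1, ?_⟩
  rw [← hφ r, hr]

end general

end Cfsg.Agent.Lib.helper7.REE
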