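import Mathlib
import Cfsg.Agent.Lib.Helper18.REELA.Defs
import Cfsg.Agent.Lib.Helper25.REELA06

/-!
# REE block LA row LA07 (helper25, second writer): `la_commutant_ker` VERBATIM (canonical copy; helper18 copy is `la_commutant_ker_h18` in `Helper18.REELA07`, which imports this file).
-/

set_option autoImplicit false

namespace Cfsg.Agent.Lib.helper7.REE

open Matrix Polynomial

section general

variable {F : Type*} [Field F]

variable {V : Type*} [AddCommGroup V] [Module F V]

/-- an element commuting with `f` commutes with every polynomial in `f` -/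
theorem reela07_commute (f g : Module.End F V) (hg : Commute g f) (s : F[X]) :
    Commute g (aeval f s) := by
  induction s using Polynomial.induction_on' with
  | add p q hp hq => rw [map_add]; exact hp.add_right hq
  | monomial n c =>
    rw [Polynomial.aeval_monomial]
    exact (Algebra.commute_algebraMap_right c g).mul_right (hg.pow_right n)

/-- LA07 [S] (own name). -/
theorem la_commutant_ker (f : Module.End F V) (p : F[X]) (hp : Irreducible p)
    (hW : Module.finrank F (LinearMap.ker (aeval f p)) = p.natDegree)
    (g : Module.End F V) (hg : Commute g f) :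
    ∃ r : F[X], ∀ x ∈ LinearMap.ker (aeval f p), g x = aeval f r x := by
  have hdpos : 0 < Module.finrank F (LinearMap.ker (aeval f p)) := by
    rw [hW]; exact hp.natDegree_pos
  have : Module.Finite F (LinearMap.ker (aeval f p)) := Module.finite_of_finrank_pos hdpos
  obtain ⟨⟨v, hv⟩, hv0'⟩ := Module.finrank_pos_iff_exists_ne_zero.mp hdpos
  have hv0 : v ≠ 0 := fun h => hv0' (Subtype.ext h)
  have hgv : g v ∈ LinearMap.ker (aeval f p) := by
    rw [LinearMap.mem_ker] at hv ⊢
    have hc := reela07_commute f g hg p
    have : aeval f p (g v) = g (aeval f p v) := by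
      rw [← Module.End.mul_apply, ← Module.End.mul_apply, hc.eq]
    rw [this, hv, map_zero]
  obtain ⟨r₀, hr₀⟩ := la_cyclic_ker f p hp hW v hv hv0 (g v) hgv
  refine ⟨r₀, ?_⟩
  intro x hx
  obtain ⟨s, hs⟩ := la_cyclic_ker f p hp hW v hv hv0 x hx
  have hc := reela07_commute f g hg s
  rw [hs]
  calc g (aeval f s v) = aeval f s (g v) := by
        rw [← Module.End.mul_apply, ← Module.End.mul_apply, hc.eq]
    _ = aeval f s (aeval f r₀ v) := by rw [hr₀]
    _ = aeval f (s * r₀) v := by rw [map_mul, Module.End.mul_apply]
    _ = aeval f (r₀ * s) v := by rw [mul_comm]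
    _ = aeval f r₀ (aeval f s v) := by rw [map_mul, Module.End.mul_apply]

end general

end Cfsg.Agent.Lib.helper7.REE
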