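import Mathlib
import Cfsg.Agent.Lib.Helper18.REELA.Defs

/-!
# REE block LA row LA08 (helper25): core of `la_theta` on the statements of LA05 / LA07.
-/

set_option autoImplicit false

namespace Cfsg.Agent.Lib.helper7.REE

open Matrix Polynomial

section general

variable {F : Type*} [Field F]

variable {V : Type*} [AddCommGroup V] [Module F V]

/-- `ker p(f)` is invariant under polynomials in `f` -/
theorem reela08_inv (f : Module.End F V) (p s : F[X]) (x : V) (hx : x ∈ LinearMap.ker (aeval f p)) :
    aeval f s x ∈ LinearMap.ker (aeval f p) := by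
  rw [LinearMap.mem_ker] at hx ⊢
  have h1 : aeval f p (aeval f s x) = aeval f (p * s) x := by
    rw [map_mul, Module.End.mul_apply]
  have h2 : aeval f (s * p) x = aeval f s (aeval f p x) := by
    rw [map_mul, Module.End.mul_apply]
  rw [h1, mul_comm, h2, hx, map_zero]

/-- core of LA08: `h5` = statement of LA05 (`la_ker_dvd`), `h7` = statement of LA07 (`la_commutant_ker`) -/
theorem reela08_core (f : Module.End F V) (p : F[X])
    (h5 : ∀ s : F[X], (∀ x ∈ LinearMap.ker (aeval f p), aeval f s x = 0) ↔ p ∣ s)
    (h7 : ∀ g : Module.End F V, Commute g f →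
      ∃ r : F[X], ∀ x ∈ LinearMap.ker (aeval f p), g x = aeval f r x) :
    ∃ θ : Module.End F V → AdjoinRoot p, θ 1 = 1 ∧
      (∀ g h, Commute g f → Commute h f → θ (g * h) = θ g * θ h) ∧
      (∀ g, Commute g f → ∀ r : F[X],
        (θ g = AdjoinRoot.mk p r ↔ ∀ x ∈ LinearMap.ker (aeval f p), g x = aeval f r x)) := by
  classical
  let θ : Module.End F V → AdjoinRoot p := fun g =>
    if h : Commute g f then AdjoinRoot.mk p (Classical.choose (h7 g h)) else 0
  have hθ : ∀ g (h : Commute g f), θ g = AdjoinRoot.mk p (Classical.choose (h7 g h)) := by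
    intro g h
    simp only [θ, dif_pos h]
  have hspec : ∀ g (h : Commute g f), ∀ x ∈ LinearMap.ker (aeval f p),
      g x = aeval f (Classical.choose (h7 g h)) x := fun g h => Classical.choose_spec (h7 g h)
  have hiff : ∀ g, Commute g f → ∀ r : F[X],
      (θ g = AdjoinRoot.mk p r ↔ ∀ x ∈ LinearMap.ker (aeval f p), g x = aeval f r x) := by
    intro g hg r
    rw [hθ g hg, AdjoinRoot.mk_eq_mk, ← h5]
    constructor
    · intro h x hx
      have := h x hx
      rw [map_sub, LinearMap.sub_apply, sub_eq_zero] at this
      rw [hspec g hg x hx, this]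
    · intro h x hx
      rw [map_sub, LinearMap.sub_apply, sub_eq_zero, ← hspec g hg x hx, h x hx]
  refine ⟨θ, ?_, ?_, hiff⟩
  · have h1 : θ 1 = AdjoinRoot.mk p 1 := by
      rw [hiff 1 (Commute.one_left f) 1]
      intro x _
      simp
    rw [h1, map_one]
  · intro g h hg hh
    have hgh : Commute (g * h) f := Commute.mul_left hg hh
    rw [hθ g hg, hθ h hh, ← map_mul, hiff (g * h) hgh]
    intro x hx
    rw [Module.End.mul_apply, hspec h hh x hx, hspec g hg _ (reela08_inv f p _ x hx), map_mul,
      Module.End.mul_apply]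

end general

end Cfsg.Agent.Lib.helper7.REE
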