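import Mathlib
import Cfsg.Agent.Lib.Helper18.REELA.Defs

/-!
# REE block LA rows LA10 (`la_aeval_frob`), LA16 (`la_agree`), LA17 (`la_aeval_conj`) (helper25).
-/

set_option autoImplicit false

namespace Cfsg.Agent.Lib.helper7.REE

open Matrix Polynomial

universe v

section general

variable {F : Type*} [Field F]

variable {V : Type*} [AddCommGroup V] [Module F V]

/-- LA16 [S]. Two endomorphisms that agree on an invariant submodule: their powers and
polynomials agree there. -/
theorem la_agree (W : Submodule F V) (g h : Module.End F V) (hW : ∀ x ∈ W, h x ∈ W)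
    (hgh : ∀ x ∈ W, g x = h x) :
    (∀ k : ℕ, ∀ x ∈ W, (g ^ k) x = (h ^ k) x) ∧
    (∀ r : F[X], ∀ x ∈ W, aeval g r x = aeval h r x) := by
  have hpow : ∀ k : ℕ, ∀ x ∈ W, (g ^ k) x = (h ^ k) x := by
    intro k
    induction k with
    | zero => intro x _; simp
    | succ k ih =>
      intro x hx
      rw [pow_succ, pow_succ, Module.End.mul_apply, Module.End.mul_apply, hgh x hx]
      exact ih (h x) (hW x hx)
  refine ⟨hpow, ?_⟩
  intro r x hx
  induction r using Polynomial.induction_on' with
  | add p q hp hq => rw [map_add, map_add, LinearMap.add_apply, LinearMap.add_apply, hp, hq]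
  | monomial n c =>
    rw [Polynomial.aeval_monomial, Polynomial.aeval_monomial, Module.End.mul_apply, Module.End.mul_apply,
      Module.algebraMap_end_apply, Module.algebraMap_end_apply, hpow n x hx]

/-- conjugation by an invertible element as an algebra hom -/
def reela17_conj {A : Type*} [Ring A] [Algebra F A] (N N' : A) (hNN' : N * N' = 1)
    (hN'N : N' * N = 1) : A →ₐ[F] A where
  toFun := fun x => N * x * N'
  map_one' := by rw [mul_one, hNN']
  map_mul' := fun x y => by
    calc N * (x * y) * N' = N * x * (N' * N) * y * N' := by rw [hN'N, mul_one]; simp only [mul_assoc]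
      _ = N * x * N' * (N * y * N') := by simp only [mul_assoc]
  map_zero' := by rw [mul_zero, zero_mul]
  map_add' := fun x y => by rw [mul_add, add_mul]
  commutes' := fun c => by
    rw [← Algebra.commutes, mul_assoc, hNN', mul_one]

/-- LA17 [S]. Polynomials and conjugation. -/
theorem la_aeval_conj {A : Type*} [Ring A] [Algebra F A] (N N' a : A) (hNN' : N * N' = 1)
    (hN'N : N' * N = 1) (r : F[X]) : aeval (N * a * N') r = N * aeval a r * N' :=
  Polynomial.aeval_algHom_apply (reela17_conj N N' hNN' hN'N) a r

end general

section finite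

variable {K : Type v} [Field K] [Fintype K]

/-- LA10 [S]. `r(x^(q^i)) = r(x)^(q^i)` for `r ∈ K[X]`, `q = |K|`, in any `K`-algebra.
(`FiniteField.expand_card`, `Polynomial.expand_aeval`, induction on `i`.) -/
theorem la_aeval_frob {A : Type*} [Ring A] [Algebra K A] (x : A) (r : K[X]) (i : ℕ) :
    aeval (x ^ (Fintype.card K ^ i)) r = (aeval x r) ^ (Fintype.card K ^ i) := by
  have h1 : ∀ y : A, aeval (y ^ Fintype.card K) r = (aeval y r) ^ Fintype.card K := by
    intro y
    rw [← Polynomial.expand_aeval, FiniteField.expand_card, map_pow]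
  induction i with
  | zero => simp
  | succ i ih => rw [pow_succ, pow_mul, h1, ih, ← pow_mul]

end finite

end Cfsg.Agent.Lib.helper7.REE
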