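import Mathlib
import Cfsg.Agent.Lib.Helper10.RES.Defs

/-! RES-GA1, RES-GA2: generators lie in `S`, `A ≤ S`, `A` abelian. -/

set_option autoImplicit false
set_option linter.unusedVariables false
set_option linter.unusedSectionVars false

namespace Cfsg.Agent.Lib.Helper10.RES

variable {Ω : Type*} [Group Ω]

section G
variable {p n s : ℕ} [Fact p.Prime] {S : Subgroup Ω} {x y z : Ω}

/-- **GA1**. generators lie in `S`; `A ≤ S`. -/
theorem F2Set.mems (hF : F2Set p n s S x y z) : x ∈ S ∧ y ∈ S ∧ z ∈ S ∧ AA y z ≤ S := by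
  have hx : x ∈ S := by
    rw [← hF.gen]
    exact Subgroup.subset_closure (by simp)
  have hy : y ∈ S := by
    rw [← hF.gen]
    exact Subgroup.subset_closure (by simp)
  have hz : z ∈ S := by
    rw [← hF.gen]
    exact Subgroup.subset_closure (by simp)
  refine ⟨hx, hy, hz, ?_⟩
  unfold AA
  rw [Subgroup.closure_le]
  intro a ha
  rcases ha with rfl | rfl
  · exact hy
  · exact hz

/-- **GA2**. `A` is abelian. -/
theorem F2Set.A_comm (hF : F2Set p n s S x y z) : ∀ a ∈ AA y z, ∀ b ∈ AA y z, a * b = b * a := by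
  have hcomm : ∀ a ∈ ({y, z} : Set Ω), ∀ b ∈ ({y, z} : Set Ω), a * b = b * a := by
    intro a ha b hb
    rcases ha with rfl | rfl <;> rcases hb with rfl | rfl
    · rfl
    · exact hF.yz
    · exact hF.yz.symm
    · rfl
  intro a ha b hb
  have hc := Subgroup.isMulCommutative_closure hcomm
  have h := hc.is_comm.comm (⟨a, ha⟩ : Subgroup.closure ({y, z} : Set Ω)) ⟨b, hb⟩
  exact congrArg Subtype.val h

end G

end Cfsg.Agent.Lib.Helper10.RES
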