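import Mathlib
import Cfsg.Agent.Lib.Helper10.RES.Defs
import Cfsg.Agent.Lib.Helper25.RESGA1

/-! RES-GA3, RES-GA4: `A` is normalized by `S`; `S = ⟨x⟩ A`, `A = ⟨y⟩⟨z⟩`. -/

set_option autoImplicit false
set_option linter.unusedVariables false
set_option linter.unusedSectionVars false

namespace Cfsg.Agent.Lib.Helper10.RES

variable {Ω : Type*} [Group Ω]

section G
variable {p n s : ℕ} [Fact p.Prime] {S : Subgroup Ω} {x y z : Ω}

theorem resga3_y_mem (y z : Ω) : y ∈ AA y z := Subgroup.subset_closure (by simp)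

theorem resga3_z_mem (y z : Ω) : z ∈ AA y z := Subgroup.subset_closure (by simp)

/-- conjugation by `x⁻¹` maps `A` into `A` -/
theorem resga3_conj_inv (hF : F2Set p n s S x y z) : ∀ a ∈ AA y z, x⁻¹ * a * x ∈ AA y z := by
  have h : AA y z ≤ (AA y z).comap (MulAut.conj x⁻¹).toMonoidHom := by
    unfold AA
    rw [Subgroup.closure_le]
    intro a ha
    show (MulAut.conj x⁻¹) a ∈ Subgroup.closure ({y, z} : Set Ω)
    rw [MulAut.conj_apply, inv_inv]
    rcases ha with rfl | rfl
    · rw [hF.xy]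
      exact Subgroup.mul_mem _ (resga3_y_mem a z) (Subgroup.pow_mem _ (resga3_z_mem a z) _)
    · rw [hF.xz]
      exact Subgroup.mul_mem _ (resga3_y_mem y a) (resga3_z_mem y a)
  intro a ha
  have := h ha
  rw [Subgroup.mem_comap] at this
  change (MulAut.conj x⁻¹) a ∈ AA y z at this
  rwa [MulAut.conj_apply, inv_inv] at this

theorem resga3_conj_inv_pow (hF : F2Set p n s S x y z) (m : ℕ) :
    ∀ a ∈ AA y z, (x⁻¹) ^ m * a * x ^ m ∈ AA y z := by
  induction m with
  | zero => intro a ha; simpa using ha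
  | succ m ih =>
    intro a ha
    have h1 := resga3_conj_inv hF _ (ih a ha)
    have e : x⁻¹ ^ (m + 1) * a * x ^ (m + 1) = x⁻¹ * (x⁻¹ ^ m * a * x ^ m) * x := by
      rw [pow_succ', pow_succ]
      group
    rw [e]
    exact h1

theorem resga3_x_pow_pred (hF : F2Set p n s S x y z) : x ^ (p - 1) = x⁻¹ := by
  have hp : 0 < p := (Fact.out : p.Prime).pos
  have h1 : x ^ (p - 1) * x = 1 := by
    rw [← pow_succ, Nat.sub_add_cancel hp, hF.xp]
  exact eq_inv_of_mul_eq_one_left h1

/-- conjugation by `x` maps `A` into `A` -/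
theorem resga3_conj (hF : F2Set p n s S x y z) : ∀ a ∈ AA y z, x * a * x⁻¹ ∈ AA y z := by
  intro a ha
  have h1 := resga3_conj_inv_pow hF (p - 1) a ha
  rw [inv_pow, resga3_x_pow_pred hF, inv_inv] at h1
  exact h1

/-- `S` normalizes `A`, in the form of the normalizer -/
theorem resga3_le_normalizer (hF : F2Set p n s S x y z) :
    S ≤ Subgroup.normalizer ((AA y z : Subgroup Ω) : Set Ω) := by
  rw [← hF.gen, Subgroup.closure_le]
  intro g hg
  rcases hg with rfl | rfl | rfl
  · rw [SetLike.mem_coe, Subgroup.mem_normalizer_iff]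
    intro a
    constructor
    · exact resga3_conj hF a
    · intro h
      have := resga3_conj_inv hF _ h
      have e : g⁻¹ * (g * a * g⁻¹) * g = a := by group
      rwa [e] at this
  · exact Subgroup.le_normalizer (resga3_y_mem g z)
  · exact Subgroup.le_normalizer (resga3_z_mem y g)

/-- **GA3**. `A` is normalized by `S`. -/
theorem F2Set.A_normal (hF : F2Set p n s S x y z) :
    ∀ g ∈ S, ∀ a ∈ AA y z, g * a * g⁻¹ ∈ AA y z := by
  intro g hg a ha
  exact (Subgroup.mem_normalizer_iff.mp (resga3_le_normalizer hF hg) a).mp ha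

end G

end Cfsg.Agent.Lib.Helper10.RES
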