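import Mathlib
import Cfsg.Agent.Lib.Helper10.RES.Defs
import Cfsg.Agent.Lib.Helper25.RESGA3

/-! RES-GA4: `S = ⟨x⟩ A`, `A = ⟨y⟩⟨z⟩`. -/

set_option autoImplicit false
set_option linter.unusedVariables false
set_option linter.unusedSectionVars false

namespace Cfsg.Agent.Lib.Helper10.RES

variable {Ω : Type*} [Group Ω]

section G
variable {p n s : ℕ} [Fact p.Prime] {S : Subgroup Ω} {x y z : Ω}

/-- an element of finite order `m`: its inverse is a power -/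
theorem resga4_inv_eq_pow {g : Ω} {m : ℕ} (hm : 0 < m) (h : g ^ m = 1) : g⁻¹ = g ^ (m - 1) := by
  have h1 : g ^ (m - 1) * g = 1 := by
    rw [← pow_succ, Nat.sub_add_cancel hm, h]
  exact (eq_inv_of_mul_eq_one_left h1).symm

/-- the elements of `A` are the `y^j z^k` -/
theorem resga4_A_repr (hF : F2Set p n s S x y z) :
    ∀ a ∈ AA y z, ∃ j k : ℕ, a = y ^ j * z ^ k := by
  have hp : 0 < p := (Fact.out : p.Prime).pos
  have hcomm : Commute y z := hF.yz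
  intro a ha
  unfold AA at ha
  induction ha using Subgroup.closure_induction with
  | mem a ha =>
    rcases ha with rfl | rfl
    · exact ⟨1, 0, by simp⟩
    · exact ⟨0, 1, by simp⟩
  | one => exact ⟨0, 0, by simp⟩
  | mul a b _ _ iha ihb =>
    obtain ⟨j, k, rfl⟩ := iha
    obtain ⟨j', k', rfl⟩ := ihb
    refine ⟨j + j', k + k', ?_⟩
    have h1 : z ^ k * y ^ j' = y ^ j' * z ^ k := ((hcomm.pow_pow j' k).eq).symm
    calc y ^ j * z ^ k * (y ^ j' * z ^ k') = y ^ j * (z ^ k * y ^ j') * z ^ k' := by group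
      _ = y ^ j * (y ^ j' * z ^ k) * z ^ k' := by rw [h1]
      _ = y ^ (j + j') * z ^ (k + k') := by rw [pow_add, pow_add]; group
  | inv a _ iha =>
    obtain ⟨j, k, rfl⟩ := iha
    refine ⟨(p - 1) * j, (p ^ (n - 2) - 1) * k, ?_⟩
    have hy : y⁻¹ = y ^ (p - 1) := resga4_inv_eq_pow hp hF.yp
    have hz : z⁻¹ = z ^ (p ^ (n - 2) - 1) := resga4_inv_eq_pow (pow_pos hp _) hF.zp
    have h1 : (z ^ k)⁻¹ * (y ^ j)⁻¹ = (y ^ j)⁻¹ * (z ^ k)⁻¹ :=
      (((hcomm.pow_pow j k).inv_inv).eq).symm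
    rw [mul_inv_rev, h1, ← inv_pow, ← inv_pow, hy, hz, ← pow_mul, ← pow_mul]

/-- **GA4**. `S = ⟨x⟩ A`, `A = ⟨y⟩⟨z⟩`. -/
theorem F2Set.repr (hF : F2Set p n s S x y z) :
    (∀ g ∈ S, ∃ i : ℕ, ∃ a ∈ AA y z, g = x ^ i * a) ∧
      ∀ a ∈ AA y z, ∃ j k : ℕ, a = y ^ j * z ^ k := by
  refine ⟨?_, resga4_A_repr hF⟩
  have hp : 0 < p := (Fact.out : p.Prime).pos
  obtain ⟨hxS, hyS, hzS, hAS⟩ := hF.mems
  have hnorm := hF.A_normal
  intro g hg
  rw [← hF.gen] at hg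
  induction hg using Subgroup.closure_induction with
  | mem g hg =>
    rcases hg with rfl | rfl | rfl
    · exact ⟨1, 1, Subgroup.one_mem _, by simp⟩
    · exact ⟨0, g, resga3_y_mem g z, by simp⟩
    · exact ⟨0, g, resga3_z_mem y g, by simp⟩
  | one => exact ⟨0, 1, Subgroup.one_mem _, by simp⟩
  | mul g h _ _ ihg ihh =>
    obtain ⟨i, a, ha, rfl⟩ := ihg
    obtain ⟨i', a', ha', rfl⟩ := ihh
    have h1 : (x ^ i')⁻¹ * a * (x ^ i')⁻¹⁻¹ ∈ AA y z :=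
      hnorm _ (Subgroup.inv_mem _ (Subgroup.pow_mem _ hxS i')) a ha
    refine ⟨i + i', (x ^ i')⁻¹ * a * (x ^ i')⁻¹⁻¹ * a', Subgroup.mul_mem _ h1 ha', ?_⟩
    rw [pow_add]
    group
  | inv g _ ihg =>
    obtain ⟨i, a, ha, rfl⟩ := ihg
    have hx : x⁻¹ = x ^ (p - 1) := resga4_inv_eq_pow hp hF.xp
    have h1 : x ^ i * a⁻¹ * (x ^ i)⁻¹ ∈ AA y z :=
      hnorm _ (Subgroup.pow_mem _ hxS i) _ (Subgroup.inv_mem _ ha)
    refine ⟨(p - 1) * i, x ^ i * a⁻¹ * (x ^ i)⁻¹, h1, ?_⟩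
    rw [pow_mul, ← hx, inv_pow]
    group

end G

end Cfsg.Agent.Lib.Helper10.RES
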