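import Mathlib
import Cfsg.Agent.Lib.Helper10.RES.Defs
import Cfsg.Agent.Lib.Helper25.RESGA4

/-! RES-GA5: uniqueness of the normal form `x^i y^j z^k`. -/

set_option autoImplicit false
set_option linter.unusedVariables false
set_option linter.unusedSectionVars false
set_option linter.style.haveILetI false

namespace Cfsg.Agent.Lib.Helper10.RES

variable {Ω : Type*} [Group Ω]

section G
variable {p n s : ℕ} [Fact p.Prime] {S : Subgroup Ω} {x y z : Ω}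

/-- the normal form map `(i, j, k) ↦ x^i y^j z^k` is a bijection onto `S` -/
theorem resga5_bijective (hF : F2Set p n s S x y z) :
    ∃ f : Fin p × Fin p × Fin (p ^ (n - 2)) → ↥S,
      (∀ t, (f t : Ω) = x ^ (t.1 : ℕ) * (y ^ (t.2.1 : ℕ) * z ^ (t.2.2 : ℕ))) ∧
        Function.Bijective f := by
  classical
  have hp : 0 < p := (Fact.out : p.Prime).pos
  have hq : 0 < p ^ (n - 2) := pow_pos hp _
  obtain ⟨hxS, hyS, hzS, hAS⟩ := hF.mems
  haveI : Finite ↥S := Nat.finite_of_card_ne_zero (by rw [hF.card]; exact (pow_pos hp n).ne')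
  haveI : Fintype ↥S := Fintype.ofFinite _
  let f : Fin p × Fin p × Fin (p ^ (n - 2)) → ↥S := fun t =>
    ⟨x ^ (t.1 : ℕ) * (y ^ (t.2.1 : ℕ) * z ^ (t.2.2 : ℕ)),
      S.mul_mem (S.pow_mem hxS _) (S.mul_mem (S.pow_mem hyS _) (S.pow_mem hzS _))⟩
  refine ⟨f, fun t => rfl, ?_⟩
  rw [Fintype.bijective_iff_surjective_and_card]
  constructor
  · rintro ⟨g, hg⟩
    obtain ⟨i, a, ha, rfl⟩ := hF.repr.1 g hg
    obtain ⟨j, k, rfl⟩ := hF.repr.2 a ha
    refine ⟨(⟨i % p, Nat.mod_lt _ hp⟩, ⟨j % p, Nat.mod_lt _ hp⟩, ⟨k % p ^ (n - 2), Nat.mod_lt _ hq⟩), ?_⟩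
    apply Subtype.ext
    show x ^ (i % p) * (y ^ (j % p) * z ^ (k % p ^ (n - 2))) = x ^ i * (y ^ j * z ^ k)
    rw [← pow_eq_pow_mod i hF.xp, ← pow_eq_pow_mod j hF.yp, ← pow_eq_pow_mod k hF.zp]
  · rw [← Nat.card_eq_fintype_card (α := ↥S), hF.card]
    simp only [Fintype.card_prod, Fintype.card_fin]
    have hn : n = (n - 2) + 2 := by have := hF.hn4; omega
    conv_rhs => rw [hn, pow_add]
    ring

/-- **GA5**. uniqueness of the normal form `x^i y^j z^k` (counting: `|S| = p^n`). -/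
theorem F2Set.normal_form (hF : F2Set p n s S x y z) (i j k : ℕ)
    (h : x ^ i * (y ^ j * z ^ k) = 1) : p ∣ i ∧ p ∣ j ∧ p ^ (n - 2) ∣ k := by
  have hp : 0 < p := (Fact.out : p.Prime).pos
  have hq : 0 < p ^ (n - 2) := pow_pos hp _
  obtain ⟨f, hf, hbij⟩ := resga5_bijective hF
  have h1 : f (⟨i % p, Nat.mod_lt _ hp⟩, ⟨j % p, Nat.mod_lt _ hp⟩,
      ⟨k % p ^ (n - 2), Nat.mod_lt _ hq⟩) = f (⟨0, hp⟩, ⟨0, hp⟩, ⟨0, hq⟩) := by
    apply Subtype.ext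
    rw [hf, hf]
    show x ^ (i % p) * (y ^ (j % p) * z ^ (k % p ^ (n - 2))) = x ^ 0 * (y ^ 0 * z ^ 0)
    rw [← pow_eq_pow_mod i hF.xp, ← pow_eq_pow_mod j hF.yp, ← pow_eq_pow_mod k hF.zp, h]
    simp
  have h2 := hbij.1 h1
  simp only [Prod.mk.injEq, Fin.mk.injEq] at h2
  exact ⟨Nat.dvd_of_mod_eq_zero h2.1, Nat.dvd_of_mod_eq_zero h2.2.1, Nat.dvd_of_mod_eq_zero h2.2.2⟩

end G

end Cfsg.Agent.Lib.Helper10.RES
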