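import Mathlib
import Cfsg.Agent.Lib.helper2.S91Defs
import Cfsg.Agent.Lib.Helper18.S91IND
import Cfsg.Agent.Lib.Helper1.Nilp
import Cfsg.Agent.S0055

set_option autoImplicit false

/-! Project S91 (S4091, planner helper2), piece S91-AB: the product inequality `PIneq` for an abelian
`p'`-group `K` normalised by a `p`-group `R`. -/

namespace Cfsg.Agent.Lib.helper2.S91
open Subgroup
open scoped commutatorElement

section general

variable {G : Type*} [Group G]

/-- cardinalities of fixed points multiply over an internal direct decomposition. -/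
theorem ab_card_mul (K K1 K2 C : Subgroup G)
    (h1 : K1 ≤ K) (h2 : K2 ≤ K) (hinf : K1 ⊓ K2 = ⊥)
    (hsup : ∀ k ∈ K, ∃ a ∈ K1, ∃ b ∈ K2, k = a * b)
    (hC : ∀ a ∈ K1, ∀ b ∈ K2, a * b ∈ C → a ∈ C ∧ b ∈ C) :
    Nat.card ↥(K ⊓ C) = Nat.card ↥(K1 ⊓ C) * Nat.card ↥(K2 ⊓ C) := by
  rw [← Nat.card_prod]
  symm
  let f : ↥(K1 ⊓ C) × ↥(K2 ⊓ C) → ↥(K ⊓ C) := fun ab =>
    ⟨(ab.1 : G) * (ab.2 : G), Subgroup.mem_inf.mpr
      ⟨K.mul_mem (h1 (Subgroup.mem_inf.mp ab.1.2).1) (h2 (Subgroup.mem_inf.mp ab.2.2).1),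
        C.mul_mem (Subgroup.mem_inf.mp ab.1.2).2 (Subgroup.mem_inf.mp ab.2.2).2⟩⟩
  apply Nat.card_congr
  refine Equiv.ofBijective f ⟨?_, ?_⟩
  · rintro ⟨⟨a, ha⟩, ⟨b, hb⟩⟩ ⟨⟨a', ha'⟩, ⟨b', hb'⟩⟩ hf
    have hf' : a * b = a' * b' := congrArg Subtype.val hf
    have ha1 := (Subgroup.mem_inf.mp ha).1
    have ha1' := (Subgroup.mem_inf.mp ha').1
    have hb1 := (Subgroup.mem_inf.mp hb).1
    have hb1' := (Subgroup.mem_inf.mp hb').1
    have he : a'⁻¹ * a = b' * b⁻¹ := by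
      calc a'⁻¹ * a = a'⁻¹ * (a * b) * b⁻¹ := by group
        _ = a'⁻¹ * (a' * b') * b⁻¹ := by rw [hf']
        _ = b' * b⁻¹ := by group
    have hmem : a'⁻¹ * a ∈ K1 ⊓ K2 := by
      refine Subgroup.mem_inf.mpr ⟨K1.mul_mem (K1.inv_mem ha1') ha1, ?_⟩
      rw [he]
      exact K2.mul_mem hb1' (K2.inv_mem hb1)
    rw [hinf, Subgroup.mem_bot] at hmem
    have haa : a = a' := (inv_mul_eq_one.mp hmem).symm
    have hbb : b = b' := by
      rw [haa] at hf'
      exact mul_left_cancel hf'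
    subst haa
    subst hbb
    rfl
  · rintro ⟨k, hk⟩
    obtain ⟨hkK, hkC⟩ := Subgroup.mem_inf.mp hk
    obtain ⟨a, ha, b, hb, rfl⟩ := hsup k hkK
    obtain ⟨haC, hbC⟩ := hC a ha b hb hkC
    exact ⟨(⟨a, Subgroup.mem_inf.mpr ⟨ha, haC⟩⟩, ⟨b, Subgroup.mem_inf.mpr ⟨hb, hbC⟩⟩), rfl⟩

/-- a product `a b` (`a ∈ K1`, `b ∈ K2`, `K1 ∩ K2 = 1`, both invariant under `A`) is centralised by
`A` iff both factors are. -/
theorem ab_split_centralizer (K1 K2 : Subgroup G) (hinf : K1 ⊓ K2 = ⊥) (A : Set G)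
    (hA1 : ∀ r ∈ A, ∀ k ∈ K1, r * k * r⁻¹ ∈ K1) (hA2 : ∀ r ∈ A, ∀ k ∈ K2, r * k * r⁻¹ ∈ K2) :
    ∀ a ∈ K1, ∀ b ∈ K2, a * b ∈ centralizer A → a ∈ centralizer A ∧ b ∈ centralizer A := by
  intro a ha b hb hab
  rw [mem_centralizer_iff] at hab
  have key : ∀ r ∈ A, r * a * r⁻¹ = a ∧ r * b * r⁻¹ = b := by
    intro r hr
    have h := hab r hr
    have h' : (r * a * r⁻¹) * (r * b * r⁻¹) = a * b := by
      calc (r * a * r⁻¹) * (r * b * r⁻¹) = r * (a * b) * r⁻¹ := by group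
        _ = (a * b) * r * r⁻¹ := by rw [h]
        _ = a * b := by group
    have he : a⁻¹ * (r * a * r⁻¹) = b * (r * b * r⁻¹)⁻¹ := by
      calc a⁻¹ * (r * a * r⁻¹) = a⁻¹ * ((r * a * r⁻¹) * (r * b * r⁻¹)) * (r * b * r⁻¹)⁻¹ := by group
        _ = a⁻¹ * (a * b) * (r * b * r⁻¹)⁻¹ := by rw [h']
        _ = b * (r * b * r⁻¹)⁻¹ := by group
    have hmem : a⁻¹ * (r * a * r⁻¹) ∈ K1 ⊓ K2 := by
      refine Subgroup.mem_inf.mpr ⟨K1.mul_mem (K1.inv_mem ha) (hA1 r hr a ha), ?_⟩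
      rw [he]
      exact K2.mul_mem hb (K2.inv_mem (hA2 r hr b hb))
    rw [hinf, Subgroup.mem_bot] at hmem
    have h1 : r * a * r⁻¹ = a := (inv_mul_eq_one.mp hmem).symm
    refine ⟨h1, ?_⟩
    rw [h1] at h'
    exact mul_left_cancel h'
  refine ⟨?_, ?_⟩
  · rw [mem_centralizer_iff]
    intro r hr
    have := (key r hr).1
    calc r * a = (r * a * r⁻¹) * r := by group
      _ = a * r := by rw [this]
  · rw [mem_centralizer_iff]
    intro r hr
    have := (key r hr).2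
    calc r * b = (r * b * r⁻¹) * r := by group
      _ = b * r := by rw [this]

/-- the conjugation action of a normalising subgroup, as a permutation representation. -/
def abConj (K R : Subgroup G) (hRK : R ≤ normalizer (K : Set G)) : ↥R →* Equiv.Perm ↥K where
  toFun r :=
    { toFun := fun k => ⟨(r : G) * k * (r : G)⁻¹, (mem_normalizer_iff.mp (hRK r.2) k).mp k.2⟩
      invFun := fun k => ⟨(r : G)⁻¹ * k * (r : G), by
        have := (mem_normalizer_iff.mp (hRK (R.inv_mem r.2)) k).mp k.2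
        rwa [inv_inv] at this⟩
      left_inv := fun k => by
        apply Subtype.ext
        show (r : G)⁻¹ * ((r : G) * k * (r : G)⁻¹) * (r : G) = k
        group
      right_inv := fun k => by
        apply Subtype.ext
        show (r : G) * ((r : G)⁻¹ * k * (r : G)) * (r : G)⁻¹ = k
        group }
  map_one' := by
    ext k
    show ((1 : ↥R) : G) * k * ((1 : ↥R) : G)⁻¹ = k
    simp
  map_mul' := fun r r' => by
    ext k
    show ((r * r' : ↥R) : G) * k * ((r * r' : ↥R) : G)⁻¹ = (r : G) * ((r' : G) * k * (r' : G)⁻¹) * (r : G)⁻¹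
    rw [Subgroup.coe_mul]
    group

theorem abConj_apply (K R : Subgroup G) (hRK : R ≤ normalizer (K : Set G)) (r : ↥R) (k : ↥K) :
    ((abConj K R hRK r k : ↥K) : G) = (r : G) * k * (r : G)⁻¹ := rfl

/-- an element `z ∈ P0` acting non-trivially on `K`, centrally modulo the kernel of the action of `R`,
with `z ^ p` acting trivially. -/
theorem ab_exists_z [Finite G] (p : ℕ) [Fact p.Prime] (K R P0 : Subgroup G)
    (hR : IsPGroup p R) (hRK : R ≤ normalizer (K : Set G)) (hP0R : P0 ≤ R)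
    (hRP0 : R ≤ normalizer (P0 : Set G))
    (hnc : ∃ u ∈ P0, ∃ k ∈ K, u * k ≠ k * u) :
    ∃ z ∈ P0, (∃ k ∈ K, z * k ≠ k * z) ∧ (∀ k ∈ K, z ^ p * k = k * z ^ p) ∧
      (∀ a ∈ zpowers z, ∀ r ∈ R, ∀ k ∈ K,
        r * (a * k * a⁻¹) * r⁻¹ = a * (r * k * r⁻¹) * a⁻¹) := by
  classical
  set φ := abConj K R hRK with hφ
  set ψ : ↥R →* ↥φ.range := φ.rangeRestrict with hψ
  have hψs : Function.Surjective ψ := φ.rangeRestrict_surjective
  have hQp : IsPGroup p ↥φ.range := hR.of_surjective ψ hψs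
  have hQn : Group.IsNilpotent ↥φ.range := hQp.isNilpotent
  have hP0n : (P0.subgroupOf R).Normal := (normal_subgroupOf_iff_le_normalizer hP0R).mpr hRP0
  set N : Subgroup ↥φ.range := (P0.subgroupOf R).map ψ with hN
  have hNn : N.Normal := hP0n.map ψ hψs
  have hNne : N ≠ ⊥ := by
    obtain ⟨u, hu, k, hk, huk⟩ := hnc
    intro hbot
    have hmem : ψ ⟨u, hP0R hu⟩ ∈ N := Subgroup.mem_map_of_mem ψ (by
      rw [mem_subgroupOf]
      exact hu)
    rw [hbot, Subgroup.mem_bot] at hmem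
    have h1 : φ ⟨u, hP0R hu⟩ = 1 := by
      have := congrArg Subtype.val hmem
      exact this
    have h2 := congrArg (fun f : Equiv.Perm ↥K => ((f ⟨k, hk⟩ : ↥K) : G)) h1
    simp only [hφ, abConj_apply, Equiv.Perm.coe_one, id_eq] at h2
    apply huk
    calc u * k = (u * k * u⁻¹) * u := by group
      _ = k * u := by rw [h2]
  have hne := Cfsg.Agent.Lib.Helper1.normal_inf_center_ne_bot N hNne
  -- an element of order `p`
  have hIp : IsPGroup p ↥(N ⊓ center ↥φ.range) := hQp.to_subgroup _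
  obtain ⟨n, hn⟩ := IsPGroup.iff_card.mp hIp
  have hn0 : n ≠ 0 := by
    intro h0
    rw [h0, pow_zero] at hn
    exact hne ((Subgroup.card_eq_one).mp hn)
  have hdvd : p ∣ Nat.card ↥(N ⊓ center ↥φ.range) := by
    rw [hn]
    exact dvd_pow_self p hn0
  obtain ⟨w, hw⟩ := exists_prime_orderOf_dvd_card' p hdvd
  obtain ⟨hwN, hwZ⟩ := Subgroup.mem_inf.mp w.2
  obtain ⟨z', hz'P, hz'w⟩ := Subgroup.mem_map.mp hwN
  rw [mem_subgroupOf] at hz'P
  have hw1 : (w : ↥φ.range) ≠ 1 := by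
    intro h1
    have : w = 1 := Subtype.ext h1
    rw [this, orderOf_one] at hw
    exact (Fact.out : p.Prime).one_lt.ne hw
  have hwp : (w : ↥φ.range) ^ p = 1 := by
    have := pow_orderOf_eq_one w
    rw [hw] at this
    have h2 := congrArg Subtype.val this
    exact h2
  refine ⟨(z' : G), hz'P, ?_, ?_, ?_⟩
  · -- non-trivial action
    by_contra hcon
    push Not at hcon
    apply hw1
    rw [← hz'w]
    apply Subtype.ext
    show φ z' = 1
    ext k
    show ((φ z' k : ↥K) : G) = k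
    rw [hφ, abConj_apply]
    rw [hcon k k.2]
    group
  · intro k hk
    have h1 : ψ (z' ^ p) = 1 := by rw [map_pow, hz'w, hwp]
    have h2 : φ (z' ^ p) = 1 := congrArg Subtype.val h1
    have h3 := congrArg (fun f : Equiv.Perm ↥K => ((f ⟨k, hk⟩ : ↥K) : G)) h2
    simp only [hφ, abConj_apply, Equiv.Perm.coe_one, id_eq, Subgroup.coe_pow] at h3
    calc (z' : G) ^ p * k = ((z' : G) ^ p * k * ((z' : G) ^ p)⁻¹) * (z' : G) ^ p := by group
      _ = k * (z' : G) ^ p := by rw [h3]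
  · intro a ha r hr k hk
    obtain ⟨i, hi⟩ := Subgroup.mem_zpowers_iff.mp ha
    have hwiZ : (w : ↥φ.range) ^ i ∈ center ↥φ.range := Subgroup.zpow_mem _ hwZ i
    have hc := Subgroup.mem_center_iff.mp hwiZ (ψ ⟨r, hr⟩)
    rw [← hz'w, ← map_zpow, ← map_mul, ← map_mul] at hc
    have h2 : φ (⟨r, hr⟩ * z' ^ i) = φ (z' ^ i * ⟨r, hr⟩) := congrArg Subtype.val hc
    have h3 := congrArg (fun f : Equiv.Perm ↥K => ((f ⟨k, hk⟩ : ↥K) : G)) h2
    simp only [hφ, abConj_apply, Subgroup.coe_mul, Subgroup.coe_zpow] at h3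
    rw [hi] at h3
    calc r * (a * k * a⁻¹) * r⁻¹ = r * a * k * (r * a)⁻¹ := by group
      _ = a * r * k * (a * r)⁻¹ := h3
      _ = a * (r * k * r⁻¹) * a⁻¹ := by group

/-- elements of the join of two elementwise commuting subgroups are products. -/
theorem ab_mem_sup (K1 K2 : Subgroup G) (hc : ∀ a ∈ K1, ∀ b ∈ K2, a * b = b * a) {k : G}
    (hk : k ∈ K1 ⊔ K2) : ∃ a ∈ K1, ∃ b ∈ K2, k = a * b := by
  let P : Subgroup G :=
    { carrier := {g | ∃ a ∈ K1, ∃ b ∈ K2, g = a * b}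
      one_mem' := ⟨1, K1.one_mem, 1, K2.one_mem, (mul_one 1).symm⟩
      mul_mem' := by
        rintro _ _ ⟨a, ha, b, hb, rfl⟩ ⟨a', ha', b', hb', rfl⟩
        refine ⟨a * a', K1.mul_mem ha ha', b * b', K2.mul_mem hb hb', ?_⟩
        calc a * b * (a' * b') = a * (b * a') * b' := by group
          _ = a * (a' * b) * b' := by rw [hc a' ha' b hb]
          _ = a * a' * (b * b') := by group
      inv_mem' := by
        rintro _ ⟨a, ha, b, hb, rfl⟩
        refine ⟨a⁻¹, K1.inv_mem ha, b⁻¹, K2.inv_mem hb, ?_⟩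
        rw [mul_inv_rev, hc a⁻¹ (K1.inv_mem ha) b⁻¹ (K2.inv_mem hb)] }
  have hle : K1 ⊔ K2 ≤ P := sup_le (fun a ha => ⟨a, ha, 1, K2.one_mem, (mul_one a).symm⟩)
    (fun b hb => ⟨1, K1.one_mem, b, hb, (one_mul b).symm⟩)
  exact hle hk

/-- base case: `P0` centralises `K`. -/
theorem ab_base (p : ℕ) (K P0 : Subgroup G) [Fintype ↥P0] (x : G)
    (hc : ∀ u ∈ P0, ∀ k ∈ K, u * k = k * u) : PIneq p K P0 x := by
  have hKP : K ≤ centralizer (P0 : Set G) := by
    intro k hk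
    rw [mem_centralizer_iff]
    intro u hu
    exact hc u hu k hk
  have h1 : ∀ u : ↥P0, K ⊓ centralizer {x * (u : G)} = K ⊓ centralizer {x} := by
    intro u
    ext k
    simp only [Subgroup.mem_inf, mem_centralizer_iff, Set.mem_singleton_iff, forall_eq]
    constructor
    · rintro ⟨hk, h⟩
      refine ⟨hk, ?_⟩
      have huk := hc u u.2 k hk
      have : x * k * (u : G) = k * x * (u : G) := by
        calc x * k * (u : G) = x * ((u : G) * k) := by rw [huk]; group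
          _ = x * (u : G) * k := by group
          _ = k * (x * (u : G)) := h
          _ = k * x * (u : G) := by group
      exact mul_right_cancel this
    · rintro ⟨hk, h⟩
      refine ⟨hk, ?_⟩
      have huk := hc u u.2 k hk
      calc x * (u : G) * k = x * ((u : G) * k) := by group
        _ = x * (k * (u : G)) := by rw [huk]
        _ = (x * k) * (u : G) := by group
        _ = (k * x) * (u : G) := by rw [h]
        _ = k * (x * (u : G)) := by group
  have h2 : K ⊓ centralizer (P0 : Set G) = K := inf_eq_left.mpr hKP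
  have h3 : K ⊓ centralizer {x} ⊓ centralizer (P0 : Set G) = K ⊓ centralizer {x} :=
    inf_eq_left.mpr (le_trans inf_le_left hKP)
  unfold PIneq
  simp_rw [h1]
  rw [h2, h3, Finset.prod_const, Finset.card_univ, ← Nat.card_eq_fintype_card]
  apply le_of_eq
  ring

/-- the inequality is multiplicative over an invariant internal direct decomposition. -/
theorem ab_mul_step (p : ℕ) (K K1 K2 P0 : Subgroup G) [Fintype ↥P0] (x : G)
    (h1 : K1 ≤ K) (h2 : K2 ≤ K) (hinf : K1 ⊓ K2 = ⊥)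
    (hsup : ∀ k ∈ K, ∃ a ∈ K1, ∃ b ∈ K2, k = a * b)
    (hx1 : ∀ k ∈ K1, x * k * x⁻¹ ∈ K1) (hx2 : ∀ k ∈ K2, x * k * x⁻¹ ∈ K2)
    (hP1 : ∀ u ∈ P0, ∀ k ∈ K1, u * k * u⁻¹ ∈ K1) (hP2 : ∀ u ∈ P0, ∀ k ∈ K2, u * k * u⁻¹ ∈ K2)
    (I1 : PIneq p K1 P0 x) (I2 : PIneq p K2 P0 x) : PIneq p K P0 x := by
  have e_u : ∀ u : ↥P0, Nat.card ↥(K ⊓ centralizer {x * (u : G)}) =
      Nat.card ↥(K1 ⊓ centralizer {x * (u : G)}) * Nat.card ↥(K2 ⊓ centralizer {x * (u : G)}) := by
    intro u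
    apply ab_card_mul K K1 K2 _ h1 h2 hinf hsup
    apply ab_split_centralizer K1 K2 hinf
    · intro r hr k hk
      rw [Set.mem_singleton_iff] at hr
      rw [hr]
      have := hx1 _ (hP1 u u.2 k hk)
      have e : x * (u : G) * k * (x * (u : G))⁻¹ = x * ((u : G) * k * (u : G)⁻¹) * x⁻¹ := by group
      rw [e]
      exact this
    · intro r hr k hk
      rw [Set.mem_singleton_iff] at hr
      rw [hr]
      have := hx2 _ (hP2 u u.2 k hk)
      have e : x * (u : G) * k * (x * (u : G))⁻¹ = x * ((u : G) * k * (u : G)⁻¹) * x⁻¹ := by group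
      rw [e]
      exact this
  have hsplitP := ab_split_centralizer K1 K2 hinf (P0 : Set G)
    (fun r hr k hk => hP1 r hr k hk) (fun r hr k hk => hP2 r hr k hk)
  have hsplitx := ab_split_centralizer K1 K2 hinf ({x} : Set G)
    (fun r hr k hk => by rw [Set.mem_singleton_iff] at hr; rw [hr]; exact hx1 k hk)
    (fun r hr k hk => by rw [Set.mem_singleton_iff] at hr; rw [hr]; exact hx2 k hk)
  have e_P : Nat.card ↥(K ⊓ centralizer (P0 : Set G)) =
      Nat.card ↥(K1 ⊓ centralizer (P0 : Set G)) * Nat.card ↥(K2 ⊓ centralizer (P0 : Set G)) :=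
    ab_card_mul K K1 K2 _ h1 h2 hinf hsup hsplitP
  have e_D : Nat.card ↥(K ⊓ centralizer {x} ⊓ centralizer (P0 : Set G)) =
      Nat.card ↥(K1 ⊓ centralizer {x} ⊓ centralizer (P0 : Set G)) *
        Nat.card ↥(K2 ⊓ centralizer {x} ⊓ centralizer (P0 : Set G)) := by
    rw [inf_assoc, inf_assoc, inf_assoc]
    apply ab_card_mul K K1 K2 _ h1 h2 hinf hsup
    intro a ha b hb hab
    obtain ⟨habx, habP⟩ := Subgroup.mem_inf.mp hab
    obtain ⟨hax, hbx⟩ := hsplitx a ha b hb habx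
    obtain ⟨haP, hbP⟩ := hsplitP a ha b hb habP
    exact ⟨Subgroup.mem_inf.mpr ⟨hax, haP⟩, Subgroup.mem_inf.mpr ⟨hbx, hbP⟩⟩
  have e_K : Nat.card ↥K = Nat.card ↥K1 * Nat.card ↥K2 := by
    have := ab_card_mul K K1 K2 ⊤ h1 h2 hinf hsup (fun a _ b _ _ => ⟨Subgroup.mem_top a, Subgroup.mem_top b⟩)
    rw [inf_top_eq, inf_top_eq, inf_top_eq] at this
    exact this
  unfold PIneq at I1 I2 ⊢
  simp_rw [e_u]
  rw [e_P, e_D, e_K, Finset.prod_mul_distrib]
  set A1 := ∏ u : ↥P0, Nat.card ↥(K1 ⊓ centralizer {x * (u : G)})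
  set A2 := ∏ u : ↥P0, Nat.card ↥(K2 ⊓ centralizer {x * (u : G)})
  calc (A1 * A2) ^ p * (Nat.card ↥(K1 ⊓ centralizer (P0 : Set G)) *
        Nat.card ↥(K2 ⊓ centralizer (P0 : Set G))) ^ Nat.card ↥P0
      = (A1 ^ p * Nat.card ↥(K1 ⊓ centralizer (P0 : Set G)) ^ Nat.card ↥P0) *
        (A2 ^ p * Nat.card ↥(K2 ⊓ centralizer (P0 : Set G)) ^ Nat.card ↥P0) := by ring
    _ ≤ _ := Nat.mul_le_mul I1 I2
    _ = _ := by ring

/-- the fixed-point-free case: `C_K(z) = 1`. -/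
theorem ab_fpf [Finite G] (p : ℕ) [Fact p.Prime] (K R P0 : Subgroup G) [Fintype ↥P0]
    (hab : ∀ a ∈ K, ∀ b ∈ K, a * b = b * a) (hK : (Nat.card K).Coprime p)
    (hRK : R ≤ normalizer (K : Set G)) (hP0R : P0 ≤ R) (x : G) (hx : x ∈ R)
    (z : G) (hz : z ∈ P0) (hzp : ∀ k ∈ K, z ^ p * k = k * z ^ p)
    (hzc : ∀ r ∈ R, ∀ k ∈ K, r * (z * k * z⁻¹) * r⁻¹ = z * (r * k * r⁻¹) * z⁻¹)
    (hfix : K ⊓ centralizer {z} = ⊥) : PIneq p K P0 x := by
  classical
  have hle : centralizer (P0 : Set G) ≤ centralizer ({z} : Set G) :=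
    centralizer_le (Set.singleton_subset_iff.mpr hz)
  have hCP : K ⊓ centralizer (P0 : Set G) = ⊥ := by
    rw [eq_bot_iff, ← hfix]
    exact inf_le_inf_left K hle
  have hD : K ⊓ centralizer {x} ⊓ centralizer (P0 : Set G) = ⊥ := by
    rw [eq_bot_iff, ← hCP]
    exact inf_le_inf_right _ inf_le_left
  unfold PIneq
  rw [hCP, hD, Subgroup.card_bot, one_pow, one_pow, mul_one, mul_one]
  set f : ↥P0 → ℕ := fun u => Nat.card ↥(K ⊓ centralizer {x * (u : G)}) with hf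
  have hreindex : ∀ j : ℕ, ∏ u : ↥P0, f (u * ⟨z, hz⟩ ^ j) = ∏ u : ↥P0, f u := by
    intro j
    exact Equiv.prod_comp (Equiv.mulRight ((⟨z, hz⟩ : ↥P0) ^ j)) f
  have h1 : (∏ u : ↥P0, f u) ^ p = ∏ j ∈ Finset.range p, ∏ u : ↥P0, f (u * ⟨z, hz⟩ ^ j) := by
    rw [Finset.prod_congr rfl (fun j _ => hreindex j), Finset.prod_const, Finset.card_range]
  rw [h1, Finset.prod_comm]
  have h2 : ∀ u : ↥P0, ∏ j ∈ Finset.range p, f (u * ⟨z, hz⟩ ^ j) ≤ Nat.card ↥K := by
    intro u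
    have hy : x * (u : G) ∈ R := R.mul_mem hx (hP0R u.2)
    have hI := indep p K hab hK (x * (u : G)) z (hRK hy) (hRK (hP0R hz))
      (by
        intro k hk
        have := hzc (x * (u : G)) hy k hk
        calc x * (u : G) * z * k * (x * (u : G) * z)⁻¹
            = x * (u : G) * (z * k * z⁻¹) * (x * (u : G))⁻¹ := by group
          _ = z * (x * (u : G) * k * (x * (u : G))⁻¹) * z⁻¹ := this
          _ = z * (x * (u : G)) * k * (z * (x * (u : G)))⁻¹ := by group) hzp hfix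
    refine le_trans (le_of_eq ?_) hI
    apply Finset.prod_congr rfl
    intro j _
    show Nat.card ↥(K ⊓ centralizer {x * ((u * ⟨z, hz⟩ ^ j : ↥P0) : G)}) = _
    rw [Subgroup.coe_mul, Subgroup.coe_pow, mul_assoc]
  calc ∏ u : ↥P0, ∏ j ∈ Finset.range p, f (u * ⟨z, hz⟩ ^ j)
      ≤ ∏ _u : ↥P0, Nat.card ↥K := Finset.prod_le_prod' (fun u _ => h2 u)
    _ = Nat.card ↥K ^ Nat.card ↥P0 := by
      rw [Finset.prod_const, Finset.card_univ, ← Nat.card_eq_fintype_card]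

end general

theorem pineq_abelian_aux {G : Type*} [Group G] [Finite G] (p : ℕ) [Fact p.Prime] (R P0 : Subgroup G)
    [Fintype ↥P0] (hR : IsPGroup p R) (hP0R : P0 ≤ R) (hRP0 : R ≤ normalizer (P0 : Set G))
    (x : G) (hx : x ∈ R) (n : ℕ) :
    ∀ K : Subgroup G, Nat.card K = n → (∀ a ∈ K, ∀ b ∈ K, a * b = b * a) →
      (Nat.card K).Coprime p → R ≤ normalizer (K : Set G) → PIneq p K P0 x := by
  classical
  induction n using Nat.strong_induction_on with
  | _ n ih =>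
  intro K hn hab hK hRK
  by_cases hc : ∀ u ∈ P0, ∀ k ∈ K, u * k = k * u
  · exact ab_base p K P0 x hc
  push Not at hc
  obtain ⟨z, hzP, ⟨k0, hk0, hzk0⟩, hzp, hzA⟩ := ab_exists_z p K R P0 hR hRK hP0R hRP0 hc
  have hzR : z ∈ R := hP0R hzP
  have hzc : ∀ r ∈ R, ∀ k ∈ K, r * (z * k * z⁻¹) * r⁻¹ = z * (r * k * r⁻¹) * z⁻¹ :=
    hzA z (Subgroup.mem_zpowers z)
  -- conjugation by elements of `R` preserves `K`
  have hconjK : ∀ r ∈ R, ∀ k ∈ K, r * k * r⁻¹ ∈ K := fun r hr k hk =>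
    (mem_normalizer_iff.mp (hRK hr) k).mp hk
  -- the decomposition
  have hAK : zpowers z ≤ normalizer (K : Set G) := (zpowers_le).mpr (hRK hzR)
  have hcop : (Nat.card (zpowers z)).Coprime (Nat.card K) := by
    rw [Nat.card_zpowers]
    obtain ⟨j, hj⟩ := (IsPGroup.iff_orderOf.mp hR) ⟨z, hzR⟩
    rw [Subgroup.orderOf_mk] at hj
    rw [hj]
    exact (hK.symm).pow_left j
  have hKc : IsMulCommutative ↥K := ⟨⟨fun a b => Subtype.ext (hab a a.2 b b.2)⟩⟩
  obtain ⟨hinf, hsup⟩ := Cfsg.Agent.S0055.result (zpowers z) K hAK hcop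
  have hcz : centralizer ((zpowers z : Subgroup G) : Set G) = centralizer ({z} : Set G) := by
    rw [zpowers_eq_closure, centralizer_closure]
  rw [hcz] at hinf hsup
  set K1 : Subgroup G := K ⊓ centralizer ({z} : Set G) with hK1
  set K2 : Subgroup G := ⁅K, zpowers z⁆ with hK2
  have h1 : K1 ≤ K := inf_le_left
  have h2 : K2 ≤ K := by
    rw [← hsup]
    exact le_sup_right
  have hsup' : ∀ k ∈ K, ∃ a ∈ K1, ∃ b ∈ K2, k = a * b := by
    intro k hk
    rw [← hsup] at hk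
    exact ab_mem_sup K1 K2 (fun a ha b hb => hab a (h1 ha) b (h2 hb)) hk
  -- invariance under `R`
  have hR1 : ∀ r ∈ R, ∀ k ∈ K1, r * k * r⁻¹ ∈ K1 := by
    intro r hr k hk
    obtain ⟨hkK, hkz⟩ := Subgroup.mem_inf.mp hk
    refine Subgroup.mem_inf.mpr ⟨hconjK r hr k hkK, ?_⟩
    rw [mem_centralizer_iff] at hkz ⊢
    intro y hy
    rw [Set.mem_singleton_iff] at hy
    rw [hy]
    have hzk : z * k * z⁻¹ = k := by
      rw [hkz z rfl]
      group
    have := hzc r hr k hkK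
    rw [hzk] at this
    calc z * (r * k * r⁻¹) = (z * (r * k * r⁻¹) * z⁻¹) * z := by group
      _ = (r * k * r⁻¹) * z := by rw [← this]
  have hR2 : ∀ r ∈ R, ∀ k ∈ K2, r * k * r⁻¹ ∈ K2 := by
    intro r hr
    have hle : K2 ≤ K2.comap (MulAut.conj r).toMonoidHom := by
      rw [hK2, commutator_le]
      intro k hk a ha
      rw [Subgroup.mem_comap]
      show MulAut.conj r ⁅k, a⁆ ∈ ⁅K, zpowers z⁆
      rw [MulAut.conj_apply]
      have hkinv : k⁻¹ ∈ K := K.inv_mem hk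
      have hA := hzA a ha r hr k⁻¹ hkinv
      have e : r * ⁅k, a⁆ * r⁻¹ = ⁅r * k * r⁻¹, a⁆ := by
        rw [commutatorElement_def, commutatorElement_def]
        calc r * (k * a * k⁻¹ * a⁻¹) * r⁻¹ = (r * k * r⁻¹) * (r * (a * k⁻¹ * a⁻¹) * r⁻¹) := by group
          _ = (r * k * r⁻¹) * (a * (r * k⁻¹ * r⁻¹) * a⁻¹) := by rw [hA]
          _ = r * k * r⁻¹ * a * (r * k * r⁻¹)⁻¹ * a⁻¹ := by group
      rw [e]
      exact commutator_mem_commutator (hconjK r hr k hk) ha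
    intro k hk
    have := hle hk
    rw [Subgroup.mem_comap] at this
    have e : (MulAut.conj r).toMonoidHom k = r * k * r⁻¹ := MulAut.conj_apply r k
    rw [e] at this
    exact this
  -- the inequality
  by_cases hK1bot : K1 = ⊥
  · exact ab_fpf p K R P0 hab hK hRK hP0R x hx z hzP hzp hzc hK1bot
  · have hK2bot : K2 ≠ ⊥ := by
      intro h
      apply hzk0
      have hk0' : k0 ∈ K1 := by
        have : k0 ∈ K1 ⊔ K2 := by rw [hsup]; exact hk0
        rw [h, sup_bot_eq] at this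
        exact this
      exact (mem_centralizer_iff.mp (Subgroup.mem_inf.mp hk0').2) z rfl
    have e_K : Nat.card ↥K = Nat.card ↥K1 * Nat.card ↥K2 := by
      have := ab_card_mul K K1 K2 ⊤ h1 h2 hinf hsup'
        (fun a _ b _ _ => ⟨Subgroup.mem_top a, Subgroup.mem_top b⟩)
      rw [inf_top_eq, inf_top_eq, inf_top_eq] at this
      exact this
    have hc1 : 1 < Nat.card ↥K1 := (Subgroup.one_lt_card_iff_ne_bot K1).mpr hK1bot
    have hc2 : 1 < Nat.card ↥K2 := (Subgroup.one_lt_card_iff_ne_bot K2).mpr hK2bot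
    have hlt1 : Nat.card ↥K1 < n := by
      rw [← hn, e_K]
      nlinarith
    have hlt2 : Nat.card ↥K2 < n := by
      rw [← hn, e_K]
      nlinarith
    have hnorm : ∀ M : Subgroup G, (∀ r ∈ R, ∀ k ∈ M, r * k * r⁻¹ ∈ M) →
        R ≤ normalizer (M : Set G) := by
      intro M hM r hr
      rw [mem_normalizer_iff]
      intro k
      constructor
      · exact hM r hr k
      · intro h
        have := hM r⁻¹ (R.inv_mem hr) _ h
        rw [inv_inv] at this
        have e : r⁻¹ * (r * k * r⁻¹) * r = k := by group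
        rw [e] at this
        exact this
    have hcopM : ∀ M : Subgroup G, M ≤ K → (Nat.card ↥M).Coprime p := fun M hM =>
      Nat.Coprime.coprime_dvd_left (Subgroup.card_dvd_of_le hM) hK
    have I1 := ih _ hlt1 K1 rfl (fun a ha b hb => hab a (h1 ha) b (h1 hb)) (hcopM K1 h1)
      (hnorm K1 hR1)
    have I2 := ih _ hlt2 K2 rfl (fun a ha b hb => hab a (h2 ha) b (h2 hb)) (hcopM K2 h2)
      (hnorm K2 hR2)
    exact ab_mul_step p K K1 K2 P0 x h1 h2 hinf hsup' (hR1 x hx) (hR2 x hx)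
      (fun u hu => hR1 u (hP0R hu)) (fun u hu => hR2 u (hP0R hu)) I1 I2

/-- S91-AB -/
theorem pineq_abelian {G : Type*} [Group G] [Finite G] (p : ℕ) [Fact p.Prime] (K R P0 : Subgroup G)
    [Fintype ↥P0] (hab : ∀ a ∈ K, ∀ b ∈ K, a * b = b * a)
    (hK : (Nat.card K).Coprime p) (hR : IsPGroup p R)
    (hRK : R ≤ normalizer (K : Set G)) (hP0R : P0 ≤ R) (hRP0 : R ≤ normalizer (P0 : Set G))
    (x : G) (hx : x ∈ R) : PIneq p K P0 x :=
  pineq_abelian_aux p R P0 hR hP0R hRP0 x hx (Nat.card K) K rfl hab hK hRK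

end Cfsg.Agent.Lib.helper2.S91
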