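import Mathlib
import Cfsg.Prelude.Def_LieExceptional
import Cfsg.Agent.Lib.helper23.OrdGen2
import Cfsg.Agent.Lib.helper8.Burnside
import Cfsg.Agent.Lib.helper8.SylowBasic

/-!
# Project S496 (S0496), piece K1 : `np_succ`

`|P| = p`, `n_p = p + 1`  ⇒  `C(P) = P` and `|G|` divides `p (p-1) (p+1)`.

On the `p + 1` cosets of `N(P)` an element `c ≠ 1` of `C(P)` has `≡ 1 mod p` fixed points and not
all of them, so exactly one (the base coset).  Hence `C(P)` acts freely on the other `p` points, so
`|C(P)| ≤ p`; as `P ≤ C(P)`, `|C(P)| = p`.  Then `|N(P)| = p r` with `r ∣ p - 1`.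
-/

set_option autoImplicit false

namespace Cfsg.Agent.Lib.helper3.S496

open Cfsg.Agent.Lib.helper8 Cfsg.Agent.Lib.helper23

/-- K1: `|P| = p`, `n_p = p + 1`  ⇒  `C(P) = P` and `|G|` divides `p (p-1) (p+1)`. -/
theorem np_succ {G : Type*} [Group G] [Finite G] [IsSimpleGroup G] (p : ℕ) [Fact p.Prime]
    (P : Sylow p G) (hP : Nat.card (P : Subgroup G) = p) (hn : Nat.card (Sylow p G) = p + 1) :
    Nat.card (Subgroup.centralizer ((P : Subgroup G) : Set G)) = p ∧
      Nat.card G ∣ p * (p - 1) * (p + 1) := by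
  have hp : p.Prime := Fact.out
  have hp2 : 2 ≤ p := hp.two_le
  obtain ⟨N, hN⟩ : ∃ N : Subgroup G, N = Subgroup.normalizer ((P : Subgroup G) : Set G) :=
    ⟨_, rfl⟩
  obtain ⟨C, hC⟩ : ∃ C : Subgroup G, C = Subgroup.centralizer ((P : Subgroup G) : Set G) :=
    ⟨_, rfl⟩
  rw [← hC]
  have hidx : N.index = p + 1 := by
    rw [← hn, P.card_eq_index_normalizer, hN]
    rfl
  have hX : Nat.card (G ⧸ N) = p + 1 := hidx
  have hNtop : N ≠ ⊤ := by
    intro h
    rw [h, Subgroup.index_top] at hidx
    omega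
  have hCN : C ≤ N := by
    rw [hC, hN]
    exact Subgroup.centralizer_le_normalizer _
  have hPC : (P : Subgroup G) ≤ C := by
    have hcyc : IsCyclic (P : Subgroup G) := isCyclic_of_prime_card hP
    intro x hx
    rw [hC, Subgroup.mem_centralizer_iff]
    intro y hy
    have := IsMulCommutative.is_comm.comm (⟨y, hy⟩ : (P : Subgroup G)) ⟨x, hx⟩
    exact congrArg Subtype.val this
  -- a non-identity element of `C` has exactly one fixed point
  have hfix : ∀ c ∈ C, c ≠ 1 → Nat.card (MulAction.fixedBy (G ⧸ N) c) = 1 := by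
    intro c hc hc1
    have h1 : Nat.card (MulAction.fixedBy (G ⧸ N) c) ≡ 1 [MOD p] := by
      rw [hN]
      exact og2_card_fixedBy_modEq_one p P hP c (hC ▸ hc)
    have h2 : Nat.card (MulAction.fixedBy (G ⧸ N) c) ≤ p + 1 := by
      rw [← hX]
      exact Nat.card_le_card_of_injective _ Subtype.val_injective
    have h3 : Nat.card (MulAction.fixedBy (G ⧸ N) c) ≠ p + 1 := by
      intro h
      exact hc1 (og2_eq_one_of_card_fixedBy N hNtop c (h.trans hX.symm))
    have h4 : Nat.card (MulAction.fixedBy (G ⧸ N) c) % p = 1 := by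
      have : 1 % p = 1 := Nat.mod_eq_of_lt (by omega)
      rw [← this]
      exact h1
    rcases Nat.lt_or_ge (Nat.card (MulAction.fixedBy (G ⧸ N) c)) p with h5 | h5
    · rw [Nat.mod_eq_of_lt h5] at h4
      exact h4
    · have h6 : Nat.card (MulAction.fixedBy (G ⧸ N) c) = p := by omega
      rw [h6, Nat.mod_self] at h4
      omega
  -- a point different from the base point
  have hnt : Nontrivial (G ⧸ N) := by
    rw [← Finite.one_lt_card_iff_nontrivial, hX]
    omega
  obtain ⟨x₀, hx₀⟩ := exists_ne (((1 : G) : G ⧸ N))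
  have hbase : ∀ c ∈ C, c • (((1 : G) : G ⧸ N)) = ((1 : G) : G ⧸ N) := fun c hc =>
    og2_base_fixed N c (hCN hc)
  have hfree : ∀ c ∈ C, c • x₀ = x₀ → c = 1 := by
    intro c hc hcx
    by_contra hc1
    have h1 := hfix c hc hc1
    rw [Nat.card_eq_one_iff_unique] at h1
    obtain ⟨hs, -⟩ := h1
    have := hs.elim (⟨x₀, hcx⟩ : MulAction.fixedBy (G ⧸ N) c) ⟨((1 : G) : G ⧸ N), hbase c hc⟩
    exact hx₀ (congrArg Subtype.val this)
  have hinj : Function.Injective (fun o : Option C =>
      (match o with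
        | none => ((1 : G) : G ⧸ N)
        | some c => (c : G) • x₀ : G ⧸ N)) := by
    intro o o' h
    rcases o with _ | c <;> rcases o' with _ | c'
    · rfl
    · exfalso
      have h' : ((1 : G) : G ⧸ N) = (c' : G) • x₀ := h
      apply hx₀
      have h2 := congrArg (fun z => ((c' : G)⁻¹) • z) h'
      simp only [inv_smul_smul] at h2
      rw [← h2]
      exact hbase _ (C.inv_mem c'.2)
    · exfalso
      have h' : (c : G) • x₀ = ((1 : G) : G ⧸ N) := h
      apply hx₀
      have h2 := congrArg (fun z => ((c : G)⁻¹) • z) h'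
      simp only [inv_smul_smul] at h2
      rw [h2]
      exact hbase _ (C.inv_mem c.2)
    · have h' : (c : G) • x₀ = (c' : G) • x₀ := h
      have h2 := congrArg (fun z => ((c' : G)⁻¹) • z) h'
      rw [inv_smul_smul, ← mul_smul] at h2
      have h3 := hfree _ (C.mul_mem (C.inv_mem c'.2) c.2) h2
      have h4 : (c : G) = c' := by
        rw [inv_mul_eq_one] at h3
        exact h3.symm
      rw [Subtype.ext h4]
  have hle : Nat.card C + 1 ≤ p + 1 := by
    rw [← Finite.card_option, ← hX]
    exact Nat.card_le_card_of_injective _ hinj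
  have hdvd : p ∣ Nat.card C := by
    have := Subgroup.card_dvd_of_le hPC
    rwa [hP] at this
  have hCpos : 0 < Nat.card C := Nat.card_pos
  have hCp : Nat.card C = p := by
    have := Nat.le_of_dvd hCpos hdvd
    omega
  refine ⟨hCp, ?_⟩
  have hG : Nat.card N * (p + 1) = Nat.card G := by
    rw [← hn, hN]
    exact h8_card_normalizer_sylow p P
  have hr : C.relIndex N ∣ p - 1 := by
    rw [hC, hN]
    exact h8_relIndex_centralizer_normalizer_dvd_prime p hp (P : Subgroup G) hP
  have hNc : Nat.card C * C.relIndex N = Nat.card N := by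
    rw [hC, hN]
    exact h8_card_centralizer_mul_relIndex (P : Subgroup G)
  rw [← hG, ← hNc, hCp]
  exact Nat.mul_dvd_mul (Nat.mul_dvd_mul_left p hr) dvd_rfl

end Cfsg.Agent.Lib.helper3.S496
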