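import Mathlib
import Cfsg.Agent.Lib.Helper24.SCH.Defs

/-! # SCH rows C1 (`center_le_sA`), C2 (`comm_le_center`), C12 (`sD_le_sZ`). (helper25) -/

set_option autoImplicit false

namespace Cfsg.Agent.Lib.Helper24.SCH

open scoped commutatorElement

universe u v

section C

variable {G : Type u} [Group G] [Finite G] {p : ℕ} [Fact p.Prime]

/-- C1 [S]. `F ≤ Q` (`Helper1.pCore_le_sylow`). -/
theorem center_le_sA (Q : Sylow p G) :
    (Q : Subgroup G) ⊓ Subgroup.centralizer ((Q : Subgroup G) : Set G) ≤ sA p G := by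
  intro g hg
  have hF : Cfsg.pCore p G ≤ (Q : Subgroup G) := Cfsg.Agent.Lib.Helper1.pCore_le_sylow p Q
  exact Subgroup.centralizer_le (by exact_mod_cast hF) hg.2

/-- C2 [S]. `Q' ≤ Z(Q)` by `class2`, then C1. -/
theorem comm_le_center (Q : Sylow p G) (hS : SchP p ↥(Q : Subgroup G)) :
    ⁅(Q : Subgroup G), (Q : Subgroup G)⁆ ≤
      (Q : Subgroup G) ⊓ Subgroup.centralizer ((Q : Subgroup G) : Set G) := by
  rw [Subgroup.commutator_le]
  intro x hx y hy
  refine Subgroup.mem_inf.mpr ⟨?_, ?_⟩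
  · rw [commutatorElement_def]
    exact (Q : Subgroup G).mul_mem ((Q : Subgroup G).mul_mem ((Q : Subgroup G).mul_mem hx hy)
      ((Q : Subgroup G).inv_mem hx)) ((Q : Subgroup G).inv_mem hy)
  · rw [Subgroup.mem_centralizer_iff]
    intro z hz
    have h := hS.class2 ⟨x, hx⟩ ⟨y, hy⟩ ⟨z, hz⟩
    have h' := congrArg Subtype.val h
    simp only [commutatorElement_def, Subgroup.coe_mul, Subgroup.coe_inv] at h' ⊢
    exact h'.symm

/-- C12 [S]. C2. -/
theorem sD_le_sZ (Q : Sylow p G) (hS : SchP p ↥(Q : Subgroup G)) :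
    sD (p := p) (Q : Subgroup G) ≤ sZ (p := p) (Q : Subgroup G) := by
  intro a ha
  rw [sD, Subgroup.mem_subgroupOf] at ha
  rw [sZ, Subgroup.mem_subgroupOf]
  exact comm_le_center Q hS ha

end C

end Cfsg.Agent.Lib.Helper24.SCH
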