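import Mathlib
import Cfsg.Agent.Lib.Helper24.SCH.Defs
import Cfsg.Agent.Lib.Helper25.SCHC1

/-! # SCH rows C3 (`sylow_le_sN`), C4 (`sN_inf_cent`). (helper25) -/

set_option autoImplicit false

namespace Cfsg.Agent.Lib.Helper24.SCH

open scoped commutatorElement

universe u v

section C

variable {G : Type u} [Group G] [Finite G] {p : ℕ} [Fact p.Prime]

/-- C3 [S]. `⁅x, f⁆ ∈ Q' ≤ A` for `x ∈ Q`, `f ∈ F ≤ Q`. -/
theorem sylow_le_sN (Q : Sylow p G) (hS : SchP p ↥(Q : Subgroup G)) :
    (Q : Subgroup G) ≤ sN p G := by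
  intro x hx
  rw [mem_sN]
  intro f hf
  have hfQ : f ∈ (Q : Subgroup G) := Cfsg.Agent.Lib.Helper1.pCore_le_sylow p Q hf
  exact center_le_sA Q (comm_le_center Q hS (Subgroup.commutator_mem_commutator hx hfQ))

/-- a `p'`-element of `N ⊓ C(A)` is trivial -/
theorem schc4_core (hC : sA p G ≤ Cfsg.pCore p G) (g : G) (hgN : g ∈ sN p G)
    (hgC : g ∈ Subgroup.centralizer (sA p G : Set G)) (hcop : (orderOf g).Coprime p) :
    g = 1 := by
  have hFp : IsPGroup p (Cfsg.pCore p G) := Cfsg.Agent.Lib.Helper1.pCore_isPGroup p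
  have h1 : ∀ f ∈ Cfsg.pCore p G, g * f = f * g := by
    intro f hf
    have haA : ⁅g, f⁆ ∈ sA p G := hgN f hf
    generalize ha : ⁅g, f⁆ = a at haA
    have hga : g * a = a * g := ((Subgroup.mem_centralizer_iff.mp hgC) a haA).symm
    have hconj : g * f * g⁻¹ = a * f := by rw [← ha, commutatorElement_def]; group
    have hpow : ∀ k : ℕ, g ^ k * f * (g ^ k)⁻¹ = a ^ k * f := by
      intro k
      induction k with
      | zero => simp
      | succ k ih =>
        have e : g ^ (k + 1) * f * (g ^ (k + 1))⁻¹ = g * (g ^ k * f * (g ^ k)⁻¹) * g⁻¹ := by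
          rw [pow_succ']; group
        rw [e, ih]
        have hgak : g * a ^ k = a ^ k * g := (Commute.pow_right (show Commute g a from hga) k).eq
        calc g * (a ^ k * f) * g⁻¹ = (g * a ^ k) * f * g⁻¹ := by group
          _ = a ^ k * (g * f * g⁻¹) := by rw [hgak]; group
          _ = a ^ (k + 1) * f := by rw [hconj, pow_succ]; group
    have hn := hpow (orderOf g)
    rw [pow_orderOf_eq_one] at hn
    simp only [one_mul, inv_one, mul_one] at hn
    have han : a ^ orderOf g = 1 := mul_eq_right.mp hn.symm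
    have haF : a ∈ Cfsg.pCore p G := hC haA
    obtain ⟨k, hk⟩ := hFp ⟨a, haF⟩
    have hak : a ^ p ^ k = 1 := by simpa using congrArg Subtype.val hk
    have ha1 : a = 1 := by
      have hd1 : orderOf a ∣ orderOf g := orderOf_dvd_of_pow_eq_one han
      have hd2 : orderOf a ∣ p ^ k := orderOf_dvd_of_pow_eq_one hak
      have h3 : orderOf a ∣ Nat.gcd (orderOf g) (p ^ k) := Nat.dvd_gcd hd1 hd2
      rw [show Nat.gcd (orderOf g) (p ^ k) = 1 from Nat.Coprime.pow_right k hcop] at h3
      exact orderOf_eq_one_iff.mp (Nat.dvd_one.mp h3)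
    rw [← ha] at ha1
    exact commutatorElement_eq_one_iff_mul_comm.mp ha1
  have hgA : g ∈ sA p G := by
    rw [sA, Subgroup.mem_centralizer_iff]
    intro f hf
    exact (h1 f hf).symm
  have hgF : g ∈ Cfsg.pCore p G := hC hgA
  obtain ⟨k, hk⟩ := hFp ⟨g, hgF⟩
  have hgk : g ^ p ^ k = 1 := by simpa using congrArg Subtype.val hk
  have hd2 : orderOf g ∣ p ^ k := orderOf_dvd_of_pow_eq_one hgk
  have h3 : orderOf g ∣ Nat.gcd (orderOf g) (p ^ k) := Nat.dvd_gcd dvd_rfl hd2
  rw [show Nat.gcd (orderOf g) (p ^ k) = 1 from Nat.Coprime.pow_right k hcop] at h3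
  exact orderOf_eq_one_iff.mp (Nat.dvd_one.mp h3)

/-- C4 [M]. -/
theorem sN_inf_cent (hC : sA p G ≤ Cfsg.pCore p G) :
    sN p G ⊓ Subgroup.centralizer (sA p G : Set G) ≤ Cfsg.pCore p G := by
  haveI hcn : (Subgroup.centralizer (sA p G : Set G)).Normal := Subgroup.normal_centralizer
  have hUn : (sN p G ⊓ Subgroup.centralizer (sA p G : Set G)).Normal := inferInstance
  refine Cfsg.Agent.Lib.Helper1.le_pCore hUn ?_
  have hprime : ∀ q : ℕ, q.Prime →
      q ∣ Nat.card ↥(sN p G ⊓ Subgroup.centralizer (sA p G : Set G)) → q = p := by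
    intro q hq hdvd
    by_contra hne
    haveI := Fact.mk hq
    obtain ⟨g, hg⟩ := exists_prime_orderOf_dvd_card' q hdvd
    have hgo : orderOf (g : G) = q := by rw [Subgroup.orderOf_coe, hg]
    have hcop : (orderOf (g : G)).Coprime p := by
      rw [hgo]
      exact (Nat.coprime_primes hq (Fact.out : p.Prime)).mpr hne
    have h1 := schc4_core hC (g : G) g.2.1 g.2.2 hcop
    rw [h1, orderOf_one] at hgo
    exact hq.one_lt.ne hgo
  have hpos : Nat.card ↥(sN p G ⊓ Subgroup.centralizer (sA p G : Set G)) ≠ 0 :=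
    Nat.card_pos.ne'
  exact IsPGroup.of_card (Nat.eq_prime_pow_of_unique_prime_dvd hpos (fun {d} hd hdv => hprime d hd hdv))

end C

end Cfsg.Agent.Lib.Helper24.SCH
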