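import Mathlib
import Cfsg.Agent.Lib.Helper24.SCH.Defs
import Cfsg.Agent.Lib.Helper25.SCHC1
import Cfsg.Agent.Lib.Helper25.SCHC3

/-! # SCH rows C7 (`sE_elem`), C8 (`sE_card`). (helper25) -/

set_option autoImplicit false

namespace Cfsg.Agent.Lib.Helper24.SCH

open scoped commutatorElement

universe u v

section C

variable {G : Type u} [Group G] [Finite G] {p : ℕ} [Fact p.Prime]

/-- an element of `G` centralising `A` acts trivially -/
theorem schc7_rho_eq_one_iff (z : G) :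
    sRho p G z = 1 ↔ z ∈ Subgroup.centralizer (sA p G : Set G) := by
  constructor
  · intro h
    rw [Subgroup.mem_centralizer_iff]
    intro a ha
    have h1 := congrArg (fun φ : MulAut ↥(sA p G) => ((φ ⟨a, ha⟩ : ↥(sA p G)) : G)) h
    simp only [sRho_apply, MulAut.one_apply] at h1
    -- z * a * z⁻¹ = a
    calc a * z = (z * a * z⁻¹) * z := by rw [h1]
      _ = z * a := by group
  · intro h
    ext a
    rw [sRho_apply, MulAut.one_apply]
    have := (Subgroup.mem_centralizer_iff.mp h) (a : G) a.2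
    rw [← this, mul_inv_cancel_right]

/-- `Z(Q)` acts trivially on `A` -/
theorem schc7_rho_center (hC : sA p G ≤ Cfsg.pCore p G) (Q : Sylow p G) (z : G)
    (hz : z ∈ (Q : Subgroup G) ⊓ Subgroup.centralizer ((Q : Subgroup G) : Set G)) :
    sRho p G z = 1 := by
  rw [schc7_rho_eq_one_iff, Subgroup.mem_centralizer_iff]
  intro a ha
  have haQ : a ∈ (Q : Subgroup G) := Cfsg.Agent.Lib.Helper1.pCore_le_sylow p Q (hC ha)
  exact (Subgroup.mem_centralizer_iff.mp hz.2) a haQ

theorem schc7_mem_sE (Q : Subgroup G) (e : ↥(sGam p G)) :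
    e ∈ sE (p := p) Q ↔ ∃ x ∈ Q, sRho p G x = (e : MulAut ↥(sA p G)) := by
  rw [sE, Subgroup.mem_subgroupOf, Subgroup.mem_map]

/-- C7 [S-M]. -/
theorem sE_elem (hC : sA p G ≤ Cfsg.pCore p G) (Q : Sylow p G) (hS : SchP p ↥(Q : Subgroup G)) :
    Cfsg.IsElementaryAbelian p (sE (p := p) (Q : Subgroup G)) := by
  refine ⟨⟨⟨fun a b => ?_⟩⟩, fun e he => ?_⟩
  · obtain ⟨x, hx, hxa⟩ := (schc7_mem_sE (Q : Subgroup G) a.1).mp a.2
    obtain ⟨y, hy, hyb⟩ := (schc7_mem_sE (Q : Subgroup G) b.1).mp b.2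
    apply Subtype.ext
    apply Subtype.ext
    simp only [Subgroup.coe_mul]
    rw [← hxa, ← hyb, ← map_mul, ← map_mul]
    have hc := schc7_rho_center hC Q ⁅x, y⁆
      (comm_le_center Q hS (Subgroup.commutator_mem_commutator hx hy))
    have e1 : x * y = ⁅x, y⁆ * (y * x) := by rw [commutatorElement_def]; group
    rw [e1, map_mul, hc, one_mul]
  · obtain ⟨x, hx, hxe⟩ := (schc7_mem_sE (Q : Subgroup G) e).mp he
    apply Subtype.ext
    rw [Subgroup.coe_pow, Subgroup.coe_one, ← hxe, ← map_pow]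
    apply schc7_rho_center hC Q
    refine Subgroup.mem_inf.mpr ⟨(Q : Subgroup G).pow_mem hx p, ?_⟩
    rw [Subgroup.mem_centralizer_iff]
    intro y hy
    have h := hS.powp ⟨x, hx⟩ ⟨y, hy⟩
    have h' := congrArg Subtype.val h
    simpa using h'.symm

/-- `Q ⊓ C(A) = F` -/
theorem schc8_inf (hC : sA p G ≤ Cfsg.pCore p G) (Q : Sylow p G)
    (hS : SchP p ↥(Q : Subgroup G)) :
    (sRho p G).ker ⊓ (Q : Subgroup G) = Cfsg.pCore p G ⊓ (Q : Subgroup G) := by
  apply le_antisymm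
  · intro z hz
    have hz1 : z ∈ Subgroup.centralizer (sA p G : Set G) :=
      (schc7_rho_eq_one_iff z).mp (MonoidHom.mem_ker.mp hz.1)
    exact Subgroup.mem_inf.mpr
      ⟨sN_inf_cent hC (Subgroup.mem_inf.mpr ⟨sylow_le_sN Q hS hz.2, hz1⟩), hz.2⟩
  · intro z hz
    refine Subgroup.mem_inf.mpr ⟨?_, hz.2⟩
    rw [MonoidHom.mem_ker, schc7_rho_eq_one_iff, Subgroup.mem_centralizer_iff]
    intro a ha
    -- a ∈ A = C(F), z ∈ F
    have := (Subgroup.mem_centralizer_iff.mp (show a ∈ Subgroup.centralizer (Cfsg.pCore p G : Set G) from ha)) z hz.1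
    exact this.symm

/-- C8 [M]. -/
theorem sE_card (hC : sA p G ≤ Cfsg.pCore p G) (Q : Sylow p G) (hS : SchP p ↥(Q : Subgroup G)) :
    Nat.card (sE (p := p) (Q : Subgroup G)) = (Cfsg.pCore p G).relIndex (Q : Subgroup G) := by
  have hle : (Q : Subgroup G).map (sRho p G) ≤ sGam p G := by
    rw [sGam]
    exact Subgroup.map_mono (sylow_le_sN Q hS)
  have h1 : Nat.card (sE (p := p) (Q : Subgroup G)) = Nat.card ((Q : Subgroup G).map (sRho p G)) := by
    rw [sE]
    exact Nat.card_congr (Subgroup.subgroupOfEquivOfLe hle).toEquiv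
  rw [h1, ← Subgroup.relIndex_ker, ← Subgroup.inf_relIndex_right, schc8_inf hC Q hS,
    Subgroup.inf_relIndex_right]

end C

end Cfsg.Agent.Lib.Helper24.SCH
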