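import Mathlib
import Cfsg.Agent.Lib.Helper24.SCH.Defs
import Cfsg.Agent.Lib.Helper25.SCHC1
import Cfsg.Agent.Lib.Helper25.SCHC3
import Cfsg.Agent.Lib.Helper25.SCHC7

/-! # SCH row C15 (`card_sA`): core on the statement of C14 (`card_comm`). (helper25) -/

set_option autoImplicit false

namespace Cfsg.Agent.Lib.Helper24.SCH

open scoped commutatorElement

universe u v

section C

variable {G : Type u} [Group G] [Finite G] {p : ℕ} [Fact p.Prime]

/-- `Z(Q) = Q'` as subgroups of `G` -/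
theorem schc15_center_eq (Q : Sylow p G) (hS : SchP p ↥(Q : Subgroup G)) :
    (Q : Subgroup G) ⊓ Subgroup.centralizer ((Q : Subgroup G) : Set G) =
      ⁅(Q : Subgroup G), (Q : Subgroup G)⁆ := by
  apply le_antisymm
  · intro z hz
    have hzc : (⟨z, hz.1⟩ : ↥(Q : Subgroup G)) ∈ Subgroup.center ↥(Q : Subgroup G) := by
      rw [Subgroup.mem_center_iff]
      intro g
      apply Subtype.ext
      simp only [Subgroup.coe_mul]
      exact (Subgroup.mem_centralizer_iff.mp hz.2) (g : G) g.2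
    have h1 := hS.cen hzc
    rw [commutator_def] at h1
    have h2 : z ∈ Subgroup.map (Q : Subgroup G).subtype
        ⁅(⊤ : Subgroup ↥(Q : Subgroup G)), (⊤ : Subgroup ↥(Q : Subgroup G))⁆ :=
      ⟨⟨z, hz.1⟩, h1, rfl⟩
    rw [Subgroup.map_commutator, ← MonoidHom.range_eq_map, Subgroup.range_subtype] at h2
    exact h2
  · exact comm_le_center Q hS

/-- if `[Q : F] = p` and `x ∈ Q \ F` then `Q = F ⟨x⟩` -/
theorem schc15_gen (Q : Sylow p G)
    (hidx : (Cfsg.pCore p G).relIndex (Q : Subgroup G) = p) (x : G) (hxQ : x ∈ (Q : Subgroup G))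
    (hxF : x ∉ Cfsg.pCore p G) :
    (Q : Subgroup G) ≤ Cfsg.pCore p G ⊔ Subgroup.zpowers x := by
  have hp : p.Prime := Fact.out
  have hFQ : Cfsg.pCore p G ≤ (Q : Subgroup G) := Cfsg.Agent.Lib.Helper1.pCore_le_sylow p Q
  have hFH : Cfsg.pCore p G ≤ Cfsg.pCore p G ⊔ Subgroup.zpowers x := le_sup_left
  have hHQ : Cfsg.pCore p G ⊔ Subgroup.zpowers x ≤ (Q : Subgroup G) :=
    sup_le hFQ ((Subgroup.zpowers_le).mpr hxQ)
  have hmul := Subgroup.relIndex_mul_relIndex _ _ _ hFH hHQ
  rw [hidx] at hmul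
  rcases (Nat.dvd_prime hp).mp (Dvd.intro _ hmul) with h1 | h1
  · exfalso
    have hle : Cfsg.pCore p G ⊔ Subgroup.zpowers x ≤ Cfsg.pCore p G :=
      Subgroup.relIndex_eq_one.mp h1
    exact hxF (hle (le_sup_right (a := Cfsg.pCore p G) (Subgroup.mem_zpowers x)))
  · rw [h1] at hmul
    have h2 : (Cfsg.pCore p G ⊔ Subgroup.zpowers x).relIndex (Q : Subgroup G) = 1 :=
      Nat.eq_of_mul_eq_mul_left hp.pos (by rw [hmul, mul_one])
    exact Subgroup.relIndex_eq_one.mp h2

/-- C15 core: `|A| = p ^ 2` from `|Q'| = p`. -/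
theorem schc15_core (hC : sA p G ≤ Cfsg.pCore p G) (Q : Sylow p G) (hS : SchP p ↥(Q : Subgroup G))
    (hidx : (Cfsg.pCore p G).relIndex (Q : Subgroup G) = p)
    (h14 : Nat.card ↥(⁅(Q : Subgroup G), (Q : Subgroup G)⁆) = p) :
    Nat.card ↥(sA p G) = p ^ 2 := by
  have hp : p.Prime := Fact.out
  have hFQ : Cfsg.pCore p G ≤ (Q : Subgroup G) := Cfsg.Agent.Lib.Helper1.pCore_le_sylow p Q
  have hAQ : sA p G ≤ (Q : Subgroup G) := hC.trans hFQ
  obtain ⟨x, hxQ, hxF⟩ : ∃ x ∈ (Q : Subgroup G), x ∉ Cfsg.pCore p G := by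
    by_contra hcon
    push Not at hcon
    have hle : (Q : Subgroup G) ≤ Cfsg.pCore p G := hcon
    have h1 := Subgroup.relIndex_eq_one.mpr hle
    rw [hidx] at h1
    exact hp.one_lt.ne' h1
  have hgen := schc15_gen Q hidx x hxQ hxF
  have hcomQ : ∀ a ∈ (Q : Subgroup G), ⁅a, x⁆ ∈ (Q : Subgroup G) := fun a ha =>
    (comm_le_center Q hS (Subgroup.commutator_mem_commutator ha hxQ)).1
  have hcen : ∀ a ∈ (Q : Subgroup G), ∀ z ∈ (Q : Subgroup G), ⁅a, x⁆ * z = z * ⁅a, x⁆ := by
    intro a ha z hz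
    have := comm_le_center Q hS (Subgroup.commutator_mem_commutator ha hxQ)
    exact ((Subgroup.mem_centralizer_iff.mp this.2) z hz).symm
  let φ : ↥(sA p G) →* G :=
    { toFun := fun a => ⁅(a : G), x⁆
      map_one' := by simp
      map_mul' := by
        intro a b
        have ha := hAQ a.2
        have hb := hAQ b.2
        have h1 := hcen (b : G) hb (a : G) ha
        have h2 := hcen (b : G) hb ⁅(a : G), x⁆ (hcomQ _ ha)
        show ⁅((a * b : ↥(sA p G)) : G), x⁆ = ⁅(a : G), x⁆ * ⁅(b : G), x⁆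
        rw [Subgroup.coe_mul]
        have e : ⁅(a : G) * (b : G), x⁆ = (a : G) * ⁅(b : G), x⁆ * (a : G)⁻¹ * ⁅(a : G), x⁆ := by
          simp only [commutatorElement_def]; group
        rw [e, ← h1, mul_inv_cancel_right]
        exact h2 }
  have hφ : ∀ a : ↥(sA p G), φ a = ⁅(a : G), x⁆ := fun a => rfl
  -- the kernel is `sZ Q`
  have hker : φ.ker = sZ (p := p) (Q : Subgroup G) := by
    ext a
    rw [MonoidHom.mem_ker, hφ, commutatorElement_eq_one_iff_mul_comm, sZ, Subgroup.mem_subgroupOf]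
    constructor
    · intro hax
      refine Subgroup.mem_inf.mpr ⟨hAQ a.2, ?_⟩
      have hK : (Q : Subgroup G) ≤ Subgroup.centralizer ({(a : G)} : Set G) := by
        refine hgen.trans (sup_le ?_ ((Subgroup.zpowers_le).mpr ?_))
        · intro f hf
          rw [Subgroup.mem_centralizer_iff]
          intro h hh
          rw [Set.mem_singleton_iff] at hh
          rw [hh]
          have ha : (a : G) ∈ Subgroup.centralizer (Cfsg.pCore p G : Set G) := a.2
          exact ((Subgroup.mem_centralizer_iff.mp ha) f hf).symm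
        · rw [Subgroup.mem_centralizer_iff]
          intro h hh
          rw [Set.mem_singleton_iff] at hh
          rw [hh]
          exact hax
      rw [Subgroup.mem_centralizer_iff]
      intro z hz
      have := (Subgroup.mem_centralizer_iff.mp (hK hz)) (a : G) (Set.mem_singleton _)
      exact this.symm
    · intro hz
      exact ((Subgroup.mem_centralizer_iff.mp hz.2) x hxQ).symm
  -- its cardinality
  have hZ : Nat.card ↥(sZ (p := p) (Q : Subgroup G)) = p := by
    rw [sZ, Nat.card_congr (Subgroup.subgroupOfEquivOfLe (center_le_sA Q)).toEquiv,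
      schc15_center_eq Q hS, h14]
  -- the range
  have hrange_le : φ.range ≤ ⁅(Q : Subgroup G), (Q : Subgroup G)⁆ := by
    rintro _ ⟨a, rfl⟩
    rw [hφ]
    exact Subgroup.commutator_mem_commutator (hAQ a.2) hxQ
  have hrange_ne : φ.range ≠ ⊥ := by
    intro hbot
    apply hxF
    have hxc : x ∈ Subgroup.centralizer (sA p G : Set G) := by
      rw [Subgroup.mem_centralizer_iff]
      intro a ha
      have h1 : φ ⟨a, ha⟩ ∈ φ.range := ⟨⟨a, ha⟩, rfl⟩
      rw [hbot, Subgroup.mem_bot, hφ, commutatorElement_eq_one_iff_mul_comm] at h1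
      exact h1
    have hx2 : x ∈ (sRho p G).ker ⊓ (Q : Subgroup G) :=
      Subgroup.mem_inf.mpr ⟨MonoidHom.mem_ker.mpr ((schc7_rho_eq_one_iff x).mpr hxc), hxQ⟩
    rw [schc8_inf hC Q hS] at hx2
    exact hx2.1
  have hrange : Nat.card ↥φ.range = p := by
    have hdvd : Nat.card ↥φ.range ∣ p := by
      have h0 := Subgroup.card_dvd_of_le hrange_le
      rwa [h14] at h0
    rcases (Nat.dvd_prime hp).mp hdvd with h1 | h1
    · exact absurd (Subgroup.card_eq_one.mp h1) hrange_ne
    · exact h1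
  have hfin := Subgroup.card_mul_index φ.ker
  rw [Subgroup.index_ker, hker, hZ, hrange] at hfin
  rw [← hfin, sq]

end C

end Cfsg.Agent.Lib.Helper24.SCH
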