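import Mathlib
import Cfsg.Agent.Lib.Helper24.SCH.Defs
import Cfsg.Agent.Lib.Helper25.SCHC15core
import Cfsg.Agent.Lib.helper15.SCHC14

/-! # SCH row C15 (`card_sA`): verbatim wrapper of `schc15_core` on C14. (helper25) -/

set_option autoImplicit false

namespace Cfsg.Agent.Lib.Helper24.SCH

open scoped commutatorElement

universe u v

section C

variable {G : Type u} [Group G] [Finite G] {p : ℕ} [Fact p.Prime]

/-- C15 [M]. -/
theorem card_sA (hC : sA p G ≤ Cfsg.pCore p G) (Q : Sylow p G) (hS : SchP p ↥(Q : Subgroup G))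
    (hidx : (Cfsg.pCore p G).relIndex (Q : Subgroup G) = p) : Nat.card ↥(sA p G) = p ^ 2 :=
  schc15_core hC Q hS hidx (card_comm hC Q hS hidx)

end C

end Cfsg.Agent.Lib.Helper24.SCH
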