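import Mathlib
import Cfsg.Agent.Lib.Lead.STB.Defs

/-!
# STB (designer lead), row W2 `cj_w_xs_b`: the long Weyl element `w a b u` on `xs b t` (helper25), verbatim.
Self-contained on `Defs.lean` (own-name copies `stbw2_*` of the conjugation forms needed).
-/

set_option autoImplicit false

namespace Cfsg.Agent.Lib.Lead.STB

open Cfsg.Agent.Lib.helper15.St2 Cfsg.Agent.Lib.helper3.STC Cfsg.Agent.Lib.Lead.STD

universe v w

namespace SysB

variable {K : Type*} [Field K] {ι : Type*} {G : Type*} [Group G] (S : SysB K ι G)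

theorem stbw2_ng_ng (a : ι ⊕ ι) : ng (ng a) = a := by cases a <;> rfl

theorem stbw2_ne_ng (a : ι ⊕ ι) : a ≠ ng a := by cases a <;> simp [ng]

theorem stbw2_xs_zero (a : ι ⊕ ι) : S.xs a 0 = 1 := by
  have h := S.adds a 0 0
  rw [add_zero] at h
  exact mul_eq_left.mp h

theorem stbw2_xs_neg (a : ι ⊕ ι) (t : K) : S.xs a (-t) = (S.xs a t)⁻¹ := by
  apply eq_inv_of_mul_eq_one_left
  rw [S.adds, neg_add_cancel, S.stbw2_xs_zero]

/-- `cj (x a b t) (xs b u) = xs a (t u) * x a (ng b) (t u²) * xs b u` -/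
theorem stbw2_cj_x_xs {a b : ι ⊕ ι} (hab : a ≠ b) (hab' : a ≠ ng b) (t u : K) :
    cj (S.x a b t) (S.xs b u) = S.xs a (t * u) * S.x a (ng b) (t * u ^ 2) * S.xs b u := by
  have h := S.ls a b hab hab' t u
  unfold cj
  rw [← h]
  group

/-- `xs a` commutes with `x c d` (`d ≠ a`, `c ≠ ng a`, a genuine long root) -/
theorem stbw2_cj_x_xs_comm {a c d : ι ⊕ ι} (hcd : c ≠ d) (hcd' : c ≠ ng d) (hda : d ≠ a) (hca : c ≠ ng a) (t u : K) :
    cj (S.x c d u) (S.xs a t) = S.xs a t := by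
  have h := S.comm_ls a c d hcd hcd' hda hca t u
  unfold cj
  rw [← h]
  group

theorem stbw2_comm_xs_x {a c d : ι ⊕ ι} (hcd : c ≠ d) (hcd' : c ≠ ng d) (hda : d ≠ a) (hca : c ≠ ng a) (t u : K) :
    Commute (S.xs a t) (S.x c d u) := S.comm_ls a c d hcd hcd' hda hca t u

/-- `x b a` commutes with `x a (ng b)` (`sso`) -/
theorem stbw2_cj_sso {a b : ι ⊕ ι} (hab : a ≠ b) (hab' : a ≠ ng b) (t u : K) :
    cj (S.x a b t) (S.x b (ng a) u) = S.x b (ng a) u := by
  have h := S.sso a b hab hab' t u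
  unfold cj
  rw [h]
  group

/-- normal form `xs a p * x a (ng b) n * xs b q` in the Heisenberg-like group generated by `xs a`, `xs b`, `x a (ng b)` -/
def stbw2_nf (a b : ι ⊕ ι) (p n q : K) : G := S.xs a p * S.x a (ng b) n * S.xs b q

theorem stbw2_nf_mul {a b : ι ⊕ ι} (hab : a ≠ b) (hab' : a ≠ ng b) (p n q p' n' q' : K) :
    S.stbw2_nf a b p n q * S.stbw2_nf a b p' n' q' =
      S.stbw2_nf a b (p + p') (n + n' + 2 * p' * q) (q + q') := by
  have hanb : a ≠ ng (ng b) := by rw [stbw2_ng_ng]; exact hab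
  have hAN : ∀ s s', Commute (S.xs a s) (S.x a (ng b) s') := fun s s' =>
    S.stbw2_comm_xs_x hab' hanb (Ne.symm hab') (stbw2_ne_ng a) s s'
  have hBN : ∀ s s', Commute (S.xs b s) (S.x a (ng b) s') := fun s s' =>
    S.stbw2_comm_xs_x hab' hanb (Ne.symm (stbw2_ne_ng b)) hab' s s'
  have hss : ∀ t u, S.xs b u * S.xs a t = S.xs a t * S.x a (ng b) (2 * t * u) * S.xs b u := by
    intro t u
    have h := S.ss a b hab hab' t u
    have hN : S.x a (ng b) (-(2 * t * u)) * S.x a (ng b) (2 * t * u) = 1 := by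
      rw [S.add a (ng b) hab' hanb, neg_add_cancel]
      have h0 := S.add a (ng b) hab' hanb 0 0
      rw [add_zero] at h0
      exact mul_eq_left.mp h0
    have e1 : S.xs a t * S.xs b u = S.x a (ng b) (-(2 * t * u)) * (S.xs b u * S.xs a t) := by
      rw [← h]; group
    have e2 : S.xs b u * S.xs a t = S.x a (ng b) (2 * t * u) * (S.xs a t * S.xs b u) := by
      rw [e1, ← mul_assoc, ← mul_assoc]
      have hN' : S.x a (ng b) (2 * t * u) * S.x a (ng b) (-(2 * t * u)) = 1 := by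
        rw [S.add a (ng b) hab' hanb, add_neg_cancel]
        have h0 := S.add a (ng b) hab' hanb 0 0
        rw [add_zero] at h0
        exact mul_eq_left.mp h0
      rw [hN', one_mul]
    rw [e2, ← mul_assoc, (hAN t (2 * t * u)).eq]
  unfold stbw2_nf
  calc S.xs a p * S.x a (ng b) n * S.xs b q * (S.xs a p' * S.x a (ng b) n' * S.xs b q')
      = S.xs a p * S.x a (ng b) n * (S.xs b q * S.xs a p') * S.x a (ng b) n' * S.xs b q' := by group
    _ = S.xs a p * S.x a (ng b) n * (S.xs a p' * S.x a (ng b) (2 * p' * q) * S.xs b q) * S.x a (ng b) n' * S.xs b q' := by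
        rw [hss]
    _ = S.xs a p * (S.x a (ng b) n * S.xs a p') * S.x a (ng b) (2 * p' * q) * (S.xs b q * S.x a (ng b) n') * S.xs b q' := by
        group
    _ = S.xs a p * (S.xs a p' * S.x a (ng b) n) * S.x a (ng b) (2 * p' * q) * (S.x a (ng b) n' * S.xs b q) * S.xs b q' := by
        rw [(hAN p' n).eq, (hBN q n').eq]
    _ = (S.xs a p * S.xs a p') * (S.x a (ng b) n * S.x a (ng b) (2 * p' * q) * S.x a (ng b) n') * (S.xs b q * S.xs b q') := by
        group
    _ = S.xs a (p + p') * S.x a (ng b) (n + n' + 2 * p' * q) * S.xs b (q + q') := by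
        rw [S.adds, S.adds, S.add a (ng b) hab' hanb, S.add a (ng b) hab' hanb]
        congr 2
        ring_nf

/-- W2 [M]  the long Weyl element on `xs b`. -/
theorem cj_w_xs_b {a b : ι ⊕ ι} (hab : a ≠ b) (hab' : a ≠ ng b) (u t : K) (hu : u ≠ 0) :
    cj (S.w a b u) (S.xs b t) = S.xs a (u * t) := by
  have hba : b ≠ a := hab.symm
  have hba' : b ≠ ng a := fun e => hab' (by rw [e, stbw2_ng_ng])
  have hanb : a ≠ ng (ng b) := by rw [stbw2_ng_ng]; exact hab
  have hN0 : S.x a (ng b) 0 = 1 := by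
    have h0 := S.add a (ng b) hab' hanb 0 0
    rw [add_zero] at h0
    exact mul_eq_left.mp h0
  have hA : ∀ s, S.xs a s = S.stbw2_nf a b s 0 0 := by
    intro s; unfold stbw2_nf; rw [hN0, S.stbw2_xs_zero, mul_one, mul_one]
  have hN : ∀ s, S.x a (ng b) s = S.stbw2_nf a b 0 s 0 := by
    intro s; unfold stbw2_nf; rw [S.stbw2_xs_zero, S.stbw2_xs_zero, mul_one, one_mul]
  have hB : ∀ s, S.xs b s = S.stbw2_nf a b 0 0 s := by
    intro s; unfold stbw2_nf; rw [hN0, S.stbw2_xs_zero, mul_one, one_mul]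
  -- `x b (ng a) s = x a (ng b) (-s)`
  have hsym : ∀ s, S.x b (ng a) s = S.x a (ng b) (-s) := by
    intro s
    have h := S.sym b (ng a) hba' (by rw [stbw2_ng_ng]; exact hba) s
    rw [stbw2_ng_ng] at h
    exact h
  -- conjugation by `x a b u`
  have hXB : ∀ s, cj (S.x a b u) (S.xs b s) = S.stbw2_nf a b (u * s) (u * s ^ 2) s := fun s =>
    S.stbw2_cj_x_xs hab hab' u s
  have hXA : ∀ s, cj (S.x a b u) (S.xs a s) = S.xs a s := fun s =>
    S.stbw2_cj_x_xs_comm hab hab' hba (stbw2_ne_ng a) s u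
  have hXN : ∀ s, cj (S.x a b u) (S.x a (ng b) s) = S.x a (ng b) s := by
    intro s
    have h := S.stbw2_cj_sso hab hab' u (-s)
    rw [hsym, neg_neg] at h
    exact h
  have hXnf : ∀ p n q, cj (S.x a b u) (S.stbw2_nf a b p n q) =
      S.stbw2_nf a b (p + u * q) (n + u * q ^ 2) q := by
    intro p n q
    have e : S.stbw2_nf a b p n q = S.xs a p * S.x a (ng b) n * S.xs b q := rfl
    rw [e, cj_mul, cj_mul, hXA, hXN, hXB, hA p, hN n, S.stbw2_nf_mul hab hab', S.stbw2_nf_mul hab hab']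
    congr 1 <;> ring
  -- conjugation by `x b a v`
  have hYA : ∀ v s, cj (S.x b a v) (S.xs a s) = S.stbw2_nf a b s (-(v * s ^ 2) + 2 * s * (v * s)) (v * s) := by
    intro v s
    rw [S.stbw2_cj_x_xs hba hba' v s, hsym, hB (v * s), hN, hA s, S.stbw2_nf_mul hab hab', S.stbw2_nf_mul hab hab']
    congr 1 <;> ring
  have hYN : ∀ v s, cj (S.x b a v) (S.x a (ng b) s) = S.x a (ng b) s := fun v s =>
    S.stbw2_cj_sso hba hba' v s
  have hYB : ∀ v s, cj (S.x b a v) (S.xs b s) = S.xs b s := fun v s =>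
    S.stbw2_cj_x_xs_comm hba hba' hab (stbw2_ne_ng b) s v
  have hYnf : ∀ v p n q, cj (S.x b a v) (S.stbw2_nf a b p n q) =
      S.stbw2_nf a b p (n + v * p ^ 2) (q + v * p) := by
    intro v p n q
    have e : S.stbw2_nf a b p n q = S.xs a p * S.x a (ng b) n * S.xs b q := rfl
    rw [e, cj_mul, cj_mul, hYA, hYN, hYB, hN n, hB q, S.stbw2_nf_mul hab hab', S.stbw2_nf_mul hab hab']
    congr 1 <;> ring
  show cj (S.x a b u * S.x b a (-u⁻¹) * S.x a b u) (S.xs b t) = _
  rw [← cj_cj, ← cj_cj, hXB, hYnf, hXnf, hA (u * t)]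
  congr 1 <;> field_simp <;> ring

end SysB

end Cfsg.Agent.Lib.Lead.STB
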