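import Mathlib
import Cfsg.Agent.Lib.Lead.STB.Defs
import Cfsg.Agent.Lib.Lead.STB.Defs3
import Cfsg.Agent.Lib.helper7.StC
import Cfsg.Agent.Lib.Helper24.STDN2
import Cfsg.Agent.Lib.helper2.STBX2

/-!
# STB (designer lead), part 2, row N2 `x_cj_mem_Yg` (helper25), verbatim: a long root element of the Levi factor normalises `Yg o`.
On STD N2 (`Helper24.STDN2`) at `S.toSysD`, X2 `toSysD_XQ_le` (`helper2.STBX2`), and `comm_ls` for the short generator.
-/

set_option autoImplicit false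

namespace Cfsg.Agent.Lib.Lead.STB

open Cfsg.Agent.Lib.helper15.St2 Cfsg.Agent.Lib.helper3.STC Cfsg.Agent.Lib.Lead.STD

universe v w

namespace SysB

variable {K : Type*} [Field K] {ι : Type*} [DecidableEq ι] {G : Type*} [Group G] (S : SysB K ι G)

section N
variable (o : ι ⊕ ι)

omit [DecidableEq ι] in
/-- N2 [M]  a LONG root element of the Levi factor normalises `Yg o`. -/
theorem x_cj_mem_Yg {a b : ι ⊕ ι} (ha : a ≠ o) (ha' : a ≠ ng o) (hb : b ≠ o) (hb' : b ≠ ng o) (t : K) :
    ∀ y ∈ S.Yg o, cj (S.x a b t) y ∈ S.Yg o := by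
  have hle : S.toSysD.Yg o ≤ S.Yg o := S.toSysD_XQ_le (fun _ b => b = o) (fun a => a = ng o)
  apply Cfsg.Agent.Lib.helper7.St.cj_mem_of_gens
  rintro _ (⟨c, d, u, hcd, hcd', hdo, rfl⟩ | ⟨c, u, hc, rfl⟩)
  · apply hle
    apply S.toSysD.x_cj_mem_Yg o ha ha' hb hb' t
    exact Subgroup.subset_closure ⟨c, d, u, hcd, hcd', hdo, rfl⟩
  · rw [hc]
    have hmem : S.xs (ng o) u ∈ S.Yg o := Subgroup.subset_closure (Or.inr ⟨ng o, u, rfl, rfl⟩)
    by_cases h1 : a = b
    · subst h1
      rw [S.diag, cj_one_left]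
      exact hmem
    by_cases h2 : a = ng b
    · have hb2 : b = ng a := by rw [h2]; cases b <;> rfl
      rw [hb2, S.opp, cj_one_left]
      exact hmem
    have hao : a ≠ ng (ng o) := by
      intro e
      apply ha
      rw [e]; cases o <;> rfl
    have hc := S.comm_ls (ng o) a b h1 h2 hb' hao u t
    have e : cj (S.x a b t) (S.xs (ng o) u) = S.xs (ng o) u := by
      unfold cj
      rw [← hc]
      group
    rw [e]
    exact hmem

end N

end SysB

end Cfsg.Agent.Lib.Lead.STB
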