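import Mathlib
import Cfsg.Agent.Lib.Lead.STB.Defs
import Cfsg.Agent.Lib.Lead.STB.Defs3
import Cfsg.Agent.Lib.Helper22.STBN1
import Cfsg.Agent.Lib.Helper25.STBN4

/-!
# STB (designer lead), part 2, row N6 `Yj_Pg` (helper25): CORE on the statement of N5 `Yj_cj_mem_Yg`
(port of `helper8.STDN6core`; N4 `Yg_decomp` = `Helper25.STBN4`, N1 / N1b = `Helper22.STBN1`).
-/

set_option autoImplicit false

namespace Cfsg.Agent.Lib.Lead.STB

open Cfsg.Agent.Lib.helper15.St2 Cfsg.Agent.Lib.helper3.STC Cfsg.Agent.Lib.Lead.STD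

universe v w

namespace SysB

variable {K : Type*} [Field K] {ι : Type*} [DecidableEq ι] {G : Type*} [Group G] (S : SysB K ι G)

section N
variable (o : ι ⊕ ι)

omit [DecidableEq ι] in
/-- N6 core: `hnorm` is the statement of N5 `Yj_cj_mem_Yg` at `o j`. -/
theorem stbn6_core {j : ι ⊕ ι} (hj : j ≠ o) (hj' : j ≠ ng o)
    (hnorm : ∀ y' ∈ S.Yj o j, ∀ z ∈ S.Yg j, cj y' z ∈ S.Yg j) :
    ∀ y' ∈ S.Yj o j, ∀ s : K, ∃ y₂ ∈ S.Yg o, ∃ p ∈ S.Pg o, S.x o j s * y' = y' * y₂ * p := by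
  intro y' hy' s
  have hoj : ng o ≠ j := fun e => hj' e.symm
  have hoj' : ng o ≠ ng j := by
    intro e
    apply hj
    have : ng (ng o) = ng (ng j) := by rw [e]
    have e1 : ng (ng o) = o := by cases o <;> rfl
    have e2 : ng (ng j) = j := by cases j <;> rfl
    rw [e1, e2] at this
    exact this.symm
  have h0 : S.x o j s ∈ S.Yg j := S.x_mem_Yg j o s
  have h1 : cj y'⁻¹ (S.x o j s) ∈ S.Yg j := hnorm _ (inv_mem hy') _ h0
  obtain ⟨v, z'', hz'', e⟩ := S.Yg_decomp j hoj hoj' _ h1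
  refine ⟨S.x (ng o) j v, S.x_mem_Yg' o j v, z'', S.Yj_le_Pg o hj hj' hz'', ?_⟩
  have h2 : S.x o j s * y' = y' * cj y'⁻¹ (S.x o j s) := by
    unfold cj
    group
  rw [h2, e, mul_assoc]

end N

end SysB

end Cfsg.Agent.Lib.Lead.STB
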