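import Mathlib
import Cfsg.Agent.Lib.Lead.STB.Defs
import Cfsg.Agent.Lib.Lead.STB.Defs3
import Cfsg.Agent.Lib.Helper25.STBN6core
import Cfsg.Agent.Lib.helper15.STBN5

/-!
# STB (designer lead), part 2, row N6 `Yj_Pg` (helper25), verbatim: `stbn6_core` on the landed row N5 (`helper15.STBN5`).
-/

set_option autoImplicit false

namespace Cfsg.Agent.Lib.Lead.STB

open Cfsg.Agent.Lib.helper15.St2 Cfsg.Agent.Lib.helper3.STC Cfsg.Agent.Lib.Lead.STD

universe v w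

namespace SysB

variable {K : Type*} [Field K] {ι : Type*} [DecidableEq ι] {G : Type*} [Group G] (S : SysB K ι G)

section N
variable (o : ι ⊕ ι)

omit [DecidableEq ι] in
/-- N6 [S-M]  moving `x o j s` across `y' ∈ Yj o j` (model STD N6). -/
theorem Yj_Pg {j : ι ⊕ ι} (hj : j ≠ o) (hj' : j ≠ ng o) :
    ∀ y' ∈ S.Yj o j, ∀ s : K, ∃ y₂ ∈ S.Yg o, ∃ p ∈ S.Pg o, S.x o j s * y' = y' * y₂ * p :=
  S.stbn6_core o hj hj' (S.Yj_cj_mem_Yg o hj hj')

end N

end SysB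

end Cfsg.Agent.Lib.Lead.STB
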