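import Mathlib
import Cfsg.Agent.Lib.Lead.STB.Defs
import Cfsg.Agent.Lib.Lead.STB.Defs3
import Cfsg.Agent.Lib.Helper22.STBN1
import Cfsg.Agent.Lib.Helper9.STBN1c
import Cfsg.Agent.Lib.Helper20.STBH1
import Cfsg.Agent.Lib.Helper25.STBW2

/-!
# STB (designer lead), part 2, row F7 `lemA_s` (helper25): CORE.  The short root element `xs o t` on the big cell.
Hypotheses: `hLg` = the statement of F3 `lemA_Lg`, `hrecell` = the statement of F5 `recell`, `hdich` = the statement of F6 `Yg_dich`.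
Cited from main: W2 `cj_w_xs_b` (`Helper25.STBW2`; it replaces `IsMon_move_s` + `isMon_w`), H1 `lus lus0 ws_eq_ws_one_mul_hs` (`Helper20.STBH1`),
N1 / N1b (`Helper22.STBN1`), N1d `hs_mem_Phat` (`Helper9.STBN1c`).
-/

set_option autoImplicit false

namespace Cfsg.Agent.Lib.Lead.STB

open Cfsg.Agent.Lib.helper15.St2 Cfsg.Agent.Lib.helper3.STC Cfsg.Agent.Lib.Lead.STD

universe v w

namespace SysB

variable {K : Type*} [Field K] {ι : Type*} [DecidableEq ι] {G : Type*} [Group G] (S : SysB K ι G)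

section F
variable (o : ι ⊕ ι)

omit [DecidableEq ι] in
theorem stbf7_core [Finite K] (t : K) {y p : G} (hy : y ∈ S.Yg o) (hp : p ∈ S.Phat o)
    (hLg : ∀ {z : G}, z ∈ S.Lg o → ∀ {y p : G}, y ∈ S.Yg o → p ∈ S.Phat o → z * (y * p) ∈ S.cell0 o)
    (hrecell : ∀ {j : ι ⊕ ι}, j ≠ o → j ≠ ng o → ∀ {u : K}, u ≠ 0 → ∀ {y' p : G}, y' ∈ S.Yj o j → p ∈ S.Phat o →
      S.x j o u * y' * p ∈ S.cell o j)
    (hdich : ∀ y ∈ S.Yg o,
      (∃ j, j ≠ o ∧ j ≠ ng o ∧ ∃ u : K, u ≠ 0 ∧ ∃ y' ∈ S.Yj o j, y = S.x j o u * y') ∨ ∃ u : K, y = S.xs (ng o) u) :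
    S.InD o (S.xs o t * (y * p)) := by
  have hoo : o ≠ ng o := by cases o <;> simp [ng]
  have hngng : ∀ a : ι ⊕ ι, ng (ng a) = a := fun a => by cases a <;> rfl
  rcases hdich y hy with ⟨j, hj, hj', u, hu, y', hy', rfl⟩ | ⟨u, rfl⟩
  · -- first case: re-celling
    obtain ⟨y₁, hy₁, p₁, hp₁, e⟩ := hrecell hj hj' hu hy' hp
    have hoj' : o ≠ ng j := by
      intro h
      apply hj'
      rw [h, hngng]
    have hmove : S.xs o t * S.w o j 1 = S.w o j 1 * S.xs j t := by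
      have h := S.cj_w_xs_b (Ne.symm hj) hoj' 1 t one_ne_zero
      rw [one_mul] at h
      unfold cj at h
      rw [← h]
      group
    obtain ⟨y₂, hy₂, p₂, hp₂, e₂⟩ := hLg (S.xs_mem_Lg o hj hj' t) hy₁ hp₁
    right; left
    refine ⟨j, hj, hj', y₂, hy₂, p₂, hp₂, ?_⟩
    calc S.xs o t * (S.x j o u * y' * p) = S.xs o t * (S.w o j 1 * y₁ * p₁) := by rw [e]
      _ = (S.xs o t * S.w o j 1) * (y₁ * p₁) := by group
      _ = S.w o j 1 * (S.xs j t * (y₁ * p₁)) := by rw [hmove]; group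
      _ = S.w o j 1 * (y₂ * p₂) := by rw [e₂]
      _ = S.w o j 1 * y₂ * p₂ := by group
  · -- second case: rank one
    by_cases hd : 1 - t * u = 0
    · have htu : t * u = 1 := (sub_eq_zero.1 hd).symm
      have ht : t ≠ 0 := by
        intro h0
        rw [h0, zero_mul] at htu
        exact zero_ne_one htu
      have hu' : u = t⁻¹ := eq_inv_of_mul_eq_one_right htu
      right; right
      refine ⟨1, one_mem _, S.hs o t⁻¹ * S.xs o (-t) * p, ?_, ?_⟩
      · exact mul_mem (mul_mem (S.hs_mem_Phat o (inv_ne_zero ht)) (S.Pg_le_Phat o (S.xs_mem_Pg o hoo (-t)))) hp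
      · rw [hu']
        calc S.xs o t * (S.xs (ng o) t⁻¹ * p) = (S.xs o t * S.xs (ng o) t⁻¹) * p := by group
          _ = (S.ws o t * S.xs o (-t)) * p := by rw [S.lus0 o t]
          _ = (S.ws o 1 * S.hs o t⁻¹ * S.xs o (-t)) * p := by rw [S.ws_eq_ws_one_mul_hs o t ht]
          _ = S.ws o 1 * 1 * (S.hs o t⁻¹ * S.xs o (-t) * p) := by group
    · left
      refine ⟨S.xs (ng o) (u / (1 - t * u)), S.xs_mem_Yg o _, S.hs o (1 - t * u) * S.xs o (t / (1 - t * u)) * p, ?_, ?_⟩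
      · exact mul_mem (mul_mem (S.hs_mem_Phat o hd) (S.Pg_le_Phat o (S.xs_mem_Pg o hoo _))) hp
      · calc S.xs o t * (S.xs (ng o) u * p) = (S.xs o t * S.xs (ng o) u) * p := by group
          _ = (S.xs (ng o) (u / (1 - t * u)) * S.hs o (1 - t * u) * S.xs o (t / (1 - t * u))) * p := by rw [S.lus o t u hd]
          _ = S.xs (ng o) (u / (1 - t * u)) * (S.hs o (1 - t * u) * S.xs o (t / (1 - t * u)) * p) := by group

end F

end SysB

end Cfsg.Agent.Lib.Lead.STB
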