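import Mathlib
import Cfsg.Agent.Lib.Lead.STB.Defs
import Cfsg.Agent.Lib.Lead.STB.Defs3
import Cfsg.Agent.Lib.Helper25.STBF7core
import Cfsg.Agent.Lib.Helper16.STBF3
import Cfsg.Agent.Lib.Helper13.STBF5
import Cfsg.Agent.Lib.Helper13.STBF6

/-!
# STB (designer lead), part 2, row F7 `lemA_s` (helper25), verbatim: `stbf7_core` on the landed rows F3 `lemA_Lg`, F5 `recell`, F6 `Yg_dich`.
-/

set_option autoImplicit false

namespace Cfsg.Agent.Lib.Lead.STB

open Cfsg.Agent.Lib.helper15.St2 Cfsg.Agent.Lib.helper3.STC Cfsg.Agent.Lib.Lead.STD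

universe v w

namespace SysB

variable {K : Type*} [Field K] {ι : Type*} [DecidableEq ι] {G : Type*} [Group G] (S : SysB K ι G)

section F
variable (o : ι ⊕ ι)

/-- F7 [M]  **the short root element `xs o t` on the big cell.** -/
theorem lemA_s [Finite K] [Finite ι] (t : K) {y p : G} (hy : y ∈ S.Yg o) (hp : p ∈ S.Phat o) : S.InD o (S.xs o t * (y * p)) :=
  S.stbf7_core o t hy hp (fun hz _ _ hy hp => S.lemA_Lg o hz hy hp)
    (fun hj hj' _ hu _ _ hy' hp => S.recell o hj hj' hu hy' hp) (S.Yg_dich o)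

end F

end SysB

end Cfsg.Agent.Lib.Lead.STB
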