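import Mathlib
import Cfsg.Agent.Lib.Lead.STB.Defs
import Cfsg.Agent.Lib.Lead.STB.Defs4
import Cfsg.Agent.Lib.Helper20.STBR0
import Cfsg.Agent.Lib.Helper20.STCR1

/-!
# STB (designer lead), part 3, row R4 (helper25), verbatim: `SysB.Rep.XQ_colStab`, `SysB.Rep.XQ_rowStab` (stabilisers of basis vectors).
Model `helper2.STDR4`.  On R0 (`Helper20.STBR0`); own-name copies `stbr4_M_*` of the R3 facts that are needed.
-/

set_option autoImplicit false

namespace Cfsg.Agent.Lib.Lead.STB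

open Matrix Cfsg.Agent.Lib.helper15.St2 Cfsg.Agent.Lib.helper3.STC Cfsg.Agent.Lib.Lead.STD

universe v w

namespace SysB

namespace Rep

variable {K : Type*} [Field K] {ι : Type*} {G : Type*} [Group G] {S : SysB K ι G} {l : Type*} [Fintype l] [DecidableEq l] (R : S.Rep l)

theorem stbr4_M_one : R.M 1 = 1 := by
  unfold Rep.M
  rw [map_one]
  rfl

theorem stbr4_M_mul (g g' : G) : R.M (g * g') = R.M g * R.M g' := by
  unfold Rep.M
  rw [map_mul]
  rfl

theorem stbr4_M_inv_mul (g : G) : R.M g⁻¹ * R.M g = 1 := by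
  rw [← stbr4_M_mul, inv_mul_cancel, stbr4_M_one]

theorem stbr4_M_x {a b : ι ⊕ ι} (hab : a ≠ b) (hab' : a ≠ ng b) (t : K) : R.M (S.x a b t) = TbL (Em R.e a) (Em R.e b) t :=
  R.hφ a b hab hab' t

theorem stbr4_M_xs (a : ι ⊕ ι) (t : K) : R.M (S.xs a t) = TbS (Em R.e a) t :=
  R.hφs a t

omit [Fintype l] in
theorem stbr4_evb_ne {c d : Ix l} (h : d ≠ c) : (evb c : Ix l → K) d = 0 := by
  unfold evb
  rw [Pi.single_apply, if_neg h]

/-- R4 [S-M]  stabilisers of basis vectors (model STD R4). -/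
theorem XQ_colStab {Q : ι ⊕ ι → ι ⊕ ι → Prop} {Qs : ι ⊕ ι → Prop} {c : Ix l}
    (h : ∀ a b, a ≠ b → a ≠ ng b → Q a b → Eb R.e b ≠ c ∧ Eb R.e (ng a) ≠ c) (hs : ∀ a, Qs a → i0 ≠ c ∧ Eb R.e (ng a) ≠ c) :
    ∀ z ∈ S.XQ Q Qs, R.M z *ᵥ evb c = evb c := by
  intro z hz
  unfold XQ at hz
  induction hz using Subgroup.closure_induction with
  | mem g hg =>
    rcases hg with ⟨a, b, t, hab, hab', hQ, rfl⟩ | ⟨a, t, hQ, rfl⟩
    · obtain ⟨h1, h2⟩ := h a b hab hab' hQ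
      rw [stbr4_M_x R hab hab', TbL_mulVec]
      have e1 : (evb c : Ix l → K) (Sum.inr (Em R.e b)) = 0 := stbr4_evb_ne h1
      have e2 : (evb c : Ix l → K) (Sum.inr (ng (Em R.e a))) = 0 := by
        rw [← Em_ng]
        exact stbr4_evb_ne h2
      rw [e1, e2]
      simp
    · obtain ⟨h1, h2⟩ := hs a hQ
      rw [stbr4_M_xs R, TbS_mulVec]
      have e1 : (evb c : Ix l → K) i0 = 0 := stbr4_evb_ne h1
      have e2 : (evb c : Ix l → K) (Sum.inr (ng (Em R.e a))) = 0 := by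
        rw [← Em_ng]
        exact stbr4_evb_ne h2
      rw [e1, e2]
      simp
  | one => rw [stbr4_M_one, Matrix.one_mulVec]
  | mul y y' _ _ ihy ihy' => rw [stbr4_M_mul, ← Matrix.mulVec_mulVec, ihy', ihy]
  | inv y _ ihy =>
    have h1 : R.M y⁻¹ * R.M y = 1 := stbr4_M_inv_mul R y
    have := congrArg (fun v => R.M y⁻¹ *ᵥ v) ihy
    simp only [Matrix.mulVec_mulVec, h1, Matrix.one_mulVec] at this
    exact this.symm

theorem XQ_rowStab {Q : ι ⊕ ι → ι ⊕ ι → Prop} {Qs : ι ⊕ ι → Prop} {c : Ix l}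
    (h : ∀ a b, a ≠ b → a ≠ ng b → Q a b → Eb R.e a ≠ c ∧ Eb R.e (ng b) ≠ c) (hs : ∀ a, Qs a → i0 ≠ c ∧ Eb R.e a ≠ c) :
    ∀ z ∈ S.XQ Q Qs, evb c ᵥ* R.M z = evb c := by
  intro z hz
  unfold XQ at hz
  induction hz using Subgroup.closure_induction with
  | mem g hg =>
    rcases hg with ⟨a, b, t, hab, hab', hQ, rfl⟩ | ⟨a, t, hQ, rfl⟩
    · obtain ⟨h1, h2⟩ := h a b hab hab' hQ
      rw [stbr4_M_x R hab hab', vecMul_TbL]
      have e1 : (evb c : Ix l → K) (Sum.inr (Em R.e a)) = 0 := stbr4_evb_ne h1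
      have e2 : (evb c : Ix l → K) (Sum.inr (ng (Em R.e b))) = 0 := by
        rw [← Em_ng]
        exact stbr4_evb_ne h2
      rw [e1, e2]
      simp
    · obtain ⟨h1, h2⟩ := hs a hQ
      rw [stbr4_M_xs R, vecMul_TbS]
      have e1 : (evb c : Ix l → K) i0 = 0 := stbr4_evb_ne h1
      have e2 : (evb c : Ix l → K) (Sum.inr (Em R.e a)) = 0 := stbr4_evb_ne h2
      rw [e1, e2]
      simp
  | one => rw [stbr4_M_one, Matrix.vecMul_one]
  | mul y y' _ _ ihy ihy' => rw [stbr4_M_mul, ← Matrix.vecMul_vecMul, ihy, ihy']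
  | inv y _ ihy =>
    have h1 : R.M y * R.M y⁻¹ = 1 := by
      have := stbr4_M_inv_mul R y⁻¹
      rwa [inv_inv] at this
    have := congrArg (fun v => v ᵥ* R.M y⁻¹) ihy
    simp only [Matrix.vecMul_vecMul, h1, Matrix.vecMul_one] at this
    exact this.symm

end Rep

end SysB

end Cfsg.Agent.Lib.Lead.STB
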