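import Mathlib
import Cfsg.Agent.Lib.Lead.STB.Defs
import Cfsg.Agent.Lib.Lead.STB.Defs3
import Cfsg.Agent.Lib.Helper24.STDF3
import Cfsg.Agent.Lib.Helper1.STBW12

/-!
# STB (designer lead), part 2, row F17 `lemB` (helper25): CORE.  A long root element on `cell o k`.
Hypotheses: `hA` = the statement of F10 `lemA_all`, `hW` = the statement of F15 `InD_w` (at `k`).
Cited from main: W12 `isMon_w` (`Helper1.STBW12`), STD F8 `SysD.IsMon_move` (`Helper24.STDF3`) at `S.toSysD` (it replaces F8).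
-/

set_option autoImplicit false

namespace Cfsg.Agent.Lib.Lead.STB

open Cfsg.Agent.Lib.helper15.St2 Cfsg.Agent.Lib.helper3.STC Cfsg.Agent.Lib.Lead.STD

universe v w

namespace SysB

variable {K : Type*} [Field K] {ι : Type*} [DecidableEq ι] {G : Type*} [Group G] (S : SysB K ι G)

section F
variable (o : ι ⊕ ι)

theorem stbf17_core {k : ι ⊕ ι} (hk : k ≠ o) (hk' : k ≠ ng o) (a b : ι ⊕ ι) (t : K) {y p : G} (hy : y ∈ S.Yg o) (hp : p ∈ S.Phat o)
    (hA : ∀ (a b : ι ⊕ ι) (t : K) {y p : G}, y ∈ S.Yg o → p ∈ S.Phat o → S.InD o (S.x a b t * (y * p)))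
    (hW : ∀ {g : G}, S.InD o g → S.InD o (S.w o k 1 * g)) :
    S.InD o (S.x a b t * (S.w o k 1 * y * p)) := by
  have hoo : o ≠ ng o := by cases o <;> simp [ng]
  have hngng : ∀ a : ι ⊕ ι, ng (ng a) = a := fun a => by cases a <;> rfl
  by_cases hab : a = b
  · subst hab
    rw [S.diag, one_mul, mul_assoc]
    apply hW
    have h1 := hA a a 0 hy hp
    rw [S.diag, one_mul] at h1
    exact h1
  · have hok' : o ≠ ng k := by
      intro h
      apply hk'
      rw [h, hngng]
    have hmon := S.isMon_w (Ne.symm hk) hok' 1 one_ne_zero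
    obtain ⟨s, hs⟩ := S.toSysD.IsMon_move hmon.1 hab t
    have e : S.x a b t * (S.w o k 1 * y * p) =
        S.w o k 1 * (S.x ((sws o k)⁻¹ a) ((sws o k)⁻¹ b) s * (y * p)) := by
      calc S.x a b t * (S.w o k 1 * y * p) = (S.x a b t * S.w o k 1) * (y * p) := by group
        _ = (S.w o k 1 * S.x ((sws o k)⁻¹ a) ((sws o k)⁻¹ b) s) * (y * p) := by rw [hs]
        _ = S.w o k 1 * (S.x ((sws o k)⁻¹ a) ((sws o k)⁻¹ b) s * (y * p)) := by group
    rw [e]
    exact hW (hA _ _ s hy hp)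

end F

end SysB

end Cfsg.Agent.Lib.Lead.STB
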