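import Mathlib
import Cfsg.Agent.Lib.Lead.STB.Defs
import Cfsg.Agent.Lib.Lead.STB.Defs3
import Cfsg.Agent.Lib.Helper25.STBF17core
import Cfsg.Agent.Lib.Helper16.STBF10
import Cfsg.Agent.Lib.helper15.STBF15

/-!
# STB (designer lead), part 2, row F17 `lemB` (helper25), verbatim: `stbf17_core` on the landed rows F10 `lemA_all`, F15 `InD_w`.
-/

set_option autoImplicit false

namespace Cfsg.Agent.Lib.Lead.STB

open Cfsg.Agent.Lib.helper15.St2 Cfsg.Agent.Lib.helper3.STC Cfsg.Agent.Lib.Lead.STD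

universe v w

namespace SysB

variable {K : Type*} [Field K] {ι : Type*} [DecidableEq ι] {G : Type*} [Group G] (S : SysB K ι G)

section F
variable (o : ι ⊕ ι)

/-- F17 [M]  a long root element on `cell o k` (model STD F17 `lemB`). -/
theorem lemB [Finite K] {k : ι ⊕ ι} (hk : k ≠ o) (hk' : k ≠ ng o) (a b : ι ⊕ ι) (t : K) {y p : G} (hy : y ∈ S.Yg o) (hp : p ∈ S.Phat o) :
    S.InD o (S.x a b t * (S.w o k 1 * y * p)) :=
  S.stbf17_core o hk hk' a b t hy hp (fun a b t _ _ hy hp => S.lemA_all o a b t hy hp) (fun hg => S.InD_w o hk hk' hg)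

end F

end SysB

end Cfsg.Agent.Lib.Lead.STB
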