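import Mathlib
import Cfsg.Agent.Lib.Lead.STB.Defs
import Cfsg.Agent.Lib.Lead.STB.Defs3
import Cfsg.Agent.Lib.Lead.STB.Defs4
import Cfsg.Agent.Lib.Helper25.STBR4
import Cfsg.Agent.Lib.Helper22.STBN1
import Cfsg.Agent.Lib.Lead.STDB1

/-!
# STB (designer lead), part 3, row J7 `Phat_ker` (helper25): CORE.  Rank at least two: the parabolic subgroup meets the kernel trivially.
Hypotheses: `hMh` = the statement of R5 `M_h_fst` at `(o, j)`, `hJ6` = the conclusion of J6 `A_fix_eq_one` (given `hYfix`).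
The two instances `Pg_col`, `Lg_col'` of R6 are proved here from R4 (`Helper25.STBR4`): `stbj7_Pg_col`, `stbj7_Lg_col'`.
-/

set_option autoImplicit false

namespace Cfsg.Agent.Lib.Lead.STB

open Matrix Cfsg.Agent.Lib.helper15.St2 Cfsg.Agent.Lib.helper3.STC Cfsg.Agent.Lib.Lead.STD

universe v w

namespace SysB

namespace Rep

variable {K : Type*} [Field K] {ι : Type*} {G : Type*} [Group G] {S : SysB K ι G} {l : Type*} [Fintype l] [DecidableEq l] (R : S.Rep l)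

theorem stbj7_Eb_ne {a b : ι ⊕ ι} (h : a ≠ b) : Eb R.e a ≠ Eb R.e b := by
  intro e
  apply h
  exact Em_injective R.e (Sum.inr_injective e)

theorem stbj7_M_eq_one_of_phi {g : G} (h : R.φ g = 1) : R.M g = 1 := by
  unfold Rep.M
  rw [h]
  rfl

variable (o : ι ⊕ ι)

theorem stbj7_Pg_col : ∀ p ∈ S.Pg o, R.M p *ᵥ evb (Eb R.e o) = evb (Eb R.e o) := by
  have hngng : ∀ a : ι ⊕ ι, ng (ng a) = a := fun a => by cases a <;> rfl
  apply R.XQ_colStab
  · rintro a b - - ⟨hb, ha⟩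
    refine ⟨stbj7_Eb_ne R hb, stbj7_Eb_ne R ?_⟩
    intro e
    apply ha
    rw [← e, hngng]
  · intro a ha
    refine ⟨by simp [i0], stbj7_Eb_ne R ?_⟩
    intro e
    apply ha
    rw [← e, hngng]

theorem stbj7_Lg_col' : ∀ x ∈ S.Lg o, R.M x *ᵥ evb (Eb R.e (ng o)) = evb (Eb R.e (ng o)) := by
  have hngng : ∀ a : ι ⊕ ι, ng (ng a) = a := fun a => by cases a <;> rfl
  apply R.XQ_colStab
  · rintro a b - - ⟨⟨ha, ha'⟩, ⟨hb, hb'⟩⟩
    refine ⟨stbj7_Eb_ne R hb', stbj7_Eb_ne R ?_⟩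
    intro e
    apply ha
    have := congrArg ng e
    rwa [hngng, hngng] at this
  · rintro a ⟨ha, ha'⟩
    refine ⟨by simp [i0], stbj7_Eb_ne R ?_⟩
    intro e
    apply ha
    have := congrArg ng e
    rwa [hngng, hngng] at this

theorem stbj7_core {j : ι ⊕ ι} (hdec : ∀ p ∈ S.Phat o, p ∈ S.ALTj o j)
    (IHo : ∀ x ∈ S.Lg o, R.φ x = 1 → x = 1)
    (hMh : ∀ u : K, u ≠ 0 → R.M (S.h o j u) *ᵥ evb (Eb R.e o) = u • evb (Eb R.e o))
    (hJ6 : ∀ {a : G}, a ∈ S.Ag o → R.M a *ᵥ evb (Eb R.e (ng o)) = evb (Eb R.e (ng o)) → a = 1)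
    {p : G} (hp : p ∈ S.Phat o) (h : R.φ p = 1) : p = 1 := by
  obtain ⟨a, ha, x, hx, c, hc, rfl⟩ := hdec p hp
  have hM : R.M (a * x * S.h o j c) = 1 := stbj7_M_eq_one_of_phi R h
  -- the column `e_o`
  have h1 : R.M (a * x * S.h o j c) *ᵥ evb (Eb R.e o) = c • evb (Eb R.e o) := by
    rw [stbr4_M_mul, stbr4_M_mul, ← Matrix.mulVec_mulVec, ← Matrix.mulVec_mulVec, hMh c hc, Matrix.mulVec_smul,
      Matrix.mulVec_smul, stbj7_Pg_col R o x (S.Lg_le_Pg o hx), stbj7_Pg_col R o a (S.Ag_le_Pg o ha)]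
  rw [hM, Matrix.one_mulVec] at h1
  have hc1 : c = 1 := by
    have := congrFun h1 (Eb R.e o)
    simp only [evb, Pi.smul_apply, Pi.single_eq_same, smul_eq_mul, mul_one] at this
    exact this.symm
  subst hc1
  have eh1 : S.h o j 1 = 1 := S.toSysD.h_one o j
  rw [eh1, mul_one] at hM h ⊢
  -- `a` fixes `e_{-o}`
  have h2 : R.M a *ᵥ evb (Eb R.e (ng o)) = evb (Eb R.e (ng o)) := by
    have := congrArg (fun M => M *ᵥ (evb (Eb R.e (ng o)) : Ix l → K)) hM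
    simp only [Matrix.one_mulVec] at this
    rw [stbr4_M_mul, ← Matrix.mulVec_mulVec, stbj7_Lg_col' R o x hx] at this
    exact this
  have ha1 : a = 1 := hJ6 ha h2
  subst ha1
  rw [one_mul] at h ⊢
  exact IHo x hx h

end Rep

end SysB

end Cfsg.Agent.Lib.Lead.STB
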