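import Mathlib
import Cfsg.Agent.Lib.Lead.STB.Defs
import Cfsg.Agent.Lib.Lead.STB.Defs3
import Cfsg.Agent.Lib.Lead.STB.Defs4
import Cfsg.Agent.Lib.Helper25.STBJ7core
import Cfsg.Agent.Lib.Helper9.STBR5
import Cfsg.Agent.Lib.Helper5.STBJ6

/-!
# STB (designer lead), part 3, row J7 `Phat_ker` (helper25), verbatim: `stbj7_core` on the landed rows R5 `M_h_fst`, J6 `A_fix_eq_one`.
-/

set_option autoImplicit false

namespace Cfsg.Agent.Lib.Lead.STB

open Matrix Cfsg.Agent.Lib.helper15.St2 Cfsg.Agent.Lib.helper3.STC Cfsg.Agent.Lib.Lead.STD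

universe v w

namespace SysB

namespace Rep

variable {K : Type*} [Field K] {ι : Type*} {G : Type*} [Group G] {S : SysB K ι G} {l : Type*} [Fintype l] [DecidableEq l] (R : S.Rep l)

variable (o : ι ⊕ ι)

/-- J7 [M]  rank at least two: the parabolic subgroup meets the kernel trivially (model STD J7, simpler). -/
theorem Phat_ker [DecidableEq ι] {j : ι ⊕ ι} (hj : j ≠ o) (hj' : j ≠ ng o) (hdec : ∀ p ∈ S.Phat o, p ∈ S.ALTj o j)
    (hYfix : ∀ y ∈ S.Yg o, R.M y *ᵥ evb (Eb R.e o) = evb (Eb R.e o) → y = 1) (IHo : ∀ x ∈ S.Lg o, R.φ x = 1 → x = 1)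
    {p : G} (hp : p ∈ S.Phat o) (h : R.φ p = 1) : p = 1 := by
  have hoj' : o ≠ ng j := by
    intro e
    apply hj'
    rw [e]
    cases j <;> rfl
  exact R.stbj7_core o hdec IHo (fun u hu => R.M_h_fst (Ne.symm hj) hoj' u hu)
    (fun ha h => R.A_fix_eq_one o hYfix ha h) hp h

end Rep

end SysB

end Cfsg.Agent.Lib.Lead.STB
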