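import Mathlib
import Cfsg.Agent.Lib.Lead.STB.Defs
import Cfsg.Agent.Lib.Lead.STB.Defs3
import Cfsg.Agent.Lib.Lead.STB.Defs4
import Cfsg.Agent.Lib.Helper25.STBJ7core
import Cfsg.Agent.Lib.Helper20.STBR5s
import Cfsg.Agent.Lib.Helper11.STBA3
import Cfsg.Agent.Lib.Helper21.STBB3

/-!
# STB (designer lead), part 3, row J7b `Phat_ker_one` (helper25): CORE.  Rank one: the parabolic subgroup meets the kernel trivially.
Hypothesis: `hJ6` = the conclusion of J6 `A_fix_eq_one` (given `hYfix`).  Cited from main: A3 `Lg_eq_bot` (`Helper11.STBA3`),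
R5t `M_hs_fst` (`Helper20.STBR5s`), B3 `hs_one` (`Helper21.STBB3`), `stbj7_Pg_col` (`Helper25.STBJ7core`).
-/

set_option autoImplicit false

namespace Cfsg.Agent.Lib.Lead.STB

open Matrix Cfsg.Agent.Lib.helper15.St2 Cfsg.Agent.Lib.helper3.STC Cfsg.Agent.Lib.Lead.STD

universe v w

namespace SysB

namespace Rep

variable {K : Type*} [Field K] {ι : Type*} {G : Type*} [Group G] {S : SysB K ι G} {l : Type*} [Fintype l] [DecidableEq l] (R : S.Rep l)

variable (o : ι ⊕ ι)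

theorem stbj7b_core (hS : S.Spin) (hι : ∀ i : ι, i = ab o) (hdec : ∀ p ∈ S.Phat o, p ∈ S.ALT o)
    (hJ6 : ∀ {a : G}, a ∈ S.Ag o → R.M a *ᵥ evb (Eb R.e (ng o)) = evb (Eb R.e (ng o)) → a = 1)
    {p : G} (hp : p ∈ S.Phat o) (h : R.φ p = 1) : p = 1 := by
  obtain ⟨a, ha, x, hx, c, hc, rfl⟩ := hdec p hp
  have hx1 : x = 1 := by
    have hbot := S.Lg_eq_bot o hι
    rw [hbot, Subgroup.mem_bot] at hx
    exact hx
  subst hx1
  rw [mul_one] at h hp ⊢
  have hM : R.M (a * S.hs o c) = 1 := stbj7_M_eq_one_of_phi R h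
  have h1 : R.M (a * S.hs o c) *ᵥ evb (Eb R.e o) = (c ^ 2) • evb (Eb R.e o) := by
    rw [stbr4_M_mul, ← Matrix.mulVec_mulVec, R.M_hs_fst o c hc, Matrix.mulVec_smul,
      stbj7_Pg_col R o a (S.Ag_le_Pg o ha)]
  rw [hM, Matrix.one_mulVec] at h1
  have hc2 : c ^ 2 = 1 := by
    have := congrFun h1 (Eb R.e o)
    simp only [evb, Pi.smul_apply, Pi.single_eq_same, smul_eq_mul, mul_one] at this
    exact this.symm
  have hhs : S.hs o c = 1 := by
    rcases sq_eq_one_iff.mp hc2 with rfl | rfl <;> first | exact S.hs_one o | exact hS o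
  rw [hhs, mul_one] at hM h ⊢
  have h2 : R.M a *ᵥ evb (Eb R.e (ng o)) = evb (Eb R.e (ng o)) := by
    rw [hM, Matrix.one_mulVec]
  exact hJ6 ha h2

end Rep

end SysB

end Cfsg.Agent.Lib.Lead.STB
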