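import Mathlib
import Cfsg.Agent.Lib.Lead.STB.Defs
import Cfsg.Agent.Lib.Lead.STB.Defs3
import Cfsg.Agent.Lib.Lead.STB.Defs4
import Cfsg.Agent.Lib.Helper25.STBJ7bcore
import Cfsg.Agent.Lib.Helper5.STBJ6

/-!
# STB (designer lead), part 3, row J7b `Phat_ker_one` (helper25), verbatim: `stbj7b_core` on the landed row J6 `A_fix_eq_one`.
-/

set_option autoImplicit false

namespace Cfsg.Agent.Lib.Lead.STB

open Matrix Cfsg.Agent.Lib.helper15.St2 Cfsg.Agent.Lib.helper3.STC Cfsg.Agent.Lib.Lead.STD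

universe v w

namespace SysB

namespace Rep

variable {K : Type*} [Field K] {ι : Type*} {G : Type*} [Group G] {S : SysB K ι G} {l : Type*} [Fintype l] [DecidableEq l] (R : S.Rep l)

variable (o : ι ⊕ ι)

/-- J7b [M]  rank one: the parabolic subgroup meets the kernel trivially. -/
theorem Phat_ker_one [DecidableEq ι] (hS : S.Spin) (hι : ∀ i : ι, i = ab o) (hdec : ∀ p ∈ S.Phat o, p ∈ S.ALT o)
    (hYfix : ∀ y ∈ S.Yg o, R.M y *ᵥ evb (Eb R.e o) = evb (Eb R.e o) → y = 1) {p : G} (hp : p ∈ S.Phat o) (h : R.φ p = 1) : p = 1 :=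
  R.stbj7b_core o hS hι hdec (fun ha h => R.A_fix_eq_one o hYfix ha h) hp h

end Rep

end SysB

end Cfsg.Agent.Lib.Lead.STB
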