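import Mathlib
import Cfsg.Agent.Lib.helper17.STM.Defs
import Cfsg.Agent.Lib.helper17.STM.Defs2
import Cfsg.Agent.Lib.Helper25.STMN6core
import Cfsg.Agent.Lib.helper15.STMN5

/-!
# STM (designer helper17), part 2, row N6 `Yj_Pg` (helper25), verbatim: `stmn6_core` on the landed row N5 (`helper15.STMN5`).
-/

set_option autoImplicit false

namespace Cfsg.Agent.Lib.helper17.STM

open Cfsg.Agent.Lib.helper15.St2 Cfsg.Agent.Lib.helper3.STC Cfsg.Agent.Lib.Lead.STD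

universe v w

namespace SysM

variable {F : Type*} [Field F] {A B : F} [Fact (∀ r : F, r ^ 2 ≠ -B + A * r)] {ι : Type*} [DecidableEq ι] {G : Type*} [Group G] (S : SysM F A B ι G)

section N
variable (o : ι ⊕ ι)

omit [DecidableEq ι] in
/-- N6 [S-M]  moving `x o j s` across `y' ∈ Yj o j` (model STD N6). -/
theorem Yj_Pg {j : ι ⊕ ι} (hj : j ≠ o) (hj' : j ≠ ng o) :
    ∀ y' ∈ S.Yj o j, ∀ s : F, ∃ y₂ ∈ S.Yg o, ∃ p ∈ S.Pg o, S.x o j s * y' = y' * y₂ * p :=
  S.stmn6_core o hj hj' (S.Yj_cj_mem_Yg o hj hj')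

end N

end SysM

end Cfsg.Agent.Lib.helper17.STM
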