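import Mathlib
import Cfsg.Agent.Lib.Helper10.TEM.Defs
import Cfsg.Agent.Lib.helper8.ChevTwQ6

/-!
# Project TEM = S2191 (designer helper10), row G2 core (helper25): `V_fix` with the STATEMENT of G1 `nO_mem_G1` (at `l0`) as hypothesis.
-/

set_option autoImplicit false

namespace Cfsg.Agent.Lib.Helper10.TEM

open Cfsg.Lie Cfsg.Lie.ChevalleyDatum Matrix
open Cfsg.Agent.Lib.helper8

universe u

variable {K : Type u} [Field K] {q : ℕ} {f : K ≃+* K} {M H : Subgroup (GG K)}

set_option synthInstance.maxSize 1024 in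
/-- the longest element maps the negative roots to positive roots -/
theorem temg2_w0 : ∀ r < chevE6.nroots, chevE6.IsNegRoot r → chevE6.IsPosRoot (h8sW chevE6 (flatO l0) r) := by
  decide +kernel

theorem temg2_word : ∀ i ∈ flatO l0, i < chevE6.rank := by decide

/-- conjugation by `n₀ = nO l0` maps `V` into `U` -/
theorem temg2_conj (g : GG K) (hg : g ∈ chevE6.negUnipotent K) :
    (nO l0 : GG K) * g * (nO l0 : GG K)⁻¹ ∈ chevE6.posUnipotent K := by
  have key : chevE6.negUnipotent K ≤ (chevE6.posUnipotent K).comap (MulAut.conj (nO l0 : GG K)).toMonoidHom := by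
    unfold ChevalleyDatum.negUnipotent
    rw [Subgroup.closure_le]
    rintro g ⟨r, t, hr, hgx⟩
    have hgX : g = h8xU chevE6 hB r t := Units.ext (hgx.trans (h8xU_val chevE6 hB r t).symm)
    obtain ⟨c, -, h1⟩ := h8actS_word (K := K) chevE6 hB hA (flatO l0) temg2_word r hr.1
    show (nO l0 : GG K) * g * (nO l0 : GG K)⁻¹ ∈ chevE6.posUnipotent K
    have h2 : (nO l0 : GG K) * g * (nO l0 : GG K)⁻¹ = h8xU chevE6 hB (h8sW chevE6 (flatO l0) r) (c * t) := by
      rw [hgX]
      exact h1 t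
    rw [h2]
    apply Subgroup.subset_closure
    exact ⟨h8sW chevE6 (flatO l0) r, c * t, temg2_w0 r hr.1 hr, h8xU_val chevE6 hB _ _⟩
  exact key hg

/-- G2 core: hypothesis = the statement of G1 `nO_mem_G1` at `l0`. -/
theorem temg2_core (hF : Frob q f) (hG1 : (nO l0 : GG K) ∈ twistedE6 K q) :
    ∀ g ∈ chevE6.negUnipotent K, Sg f g = g → g ∈ twistedE6 K q := by
  intro g hg hfix
  have hn : Sg f (nO l0 : GG K) = nO l0 := sig_fix hF _ hG1
  have hU := temg2_conj g hg
  have hfix' : Sg f ((nO l0 : GG K) * g * (nO l0 : GG K)⁻¹) = (nO l0 : GG K) * g * (nO l0 : GG K)⁻¹ := by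
    rw [map_mul, map_mul, map_inv, hn, hfix]
  have h1 := U_fix hF _ hU hfix'
  have h2 : g = (nO l0 : GG K)⁻¹ * ((nO l0 : GG K) * g * (nO l0 : GG K)⁻¹) * (nO l0 : GG K) := by group
  rw [h2]
  exact mul_mem (mul_mem (inv_mem hG1) h1) hG1

end Cfsg.Agent.Lib.Helper10.TEM
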