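import Mathlib
import Cfsg.Agent.Lib.Helper10.TEM.Defs
import Cfsg.Agent.Lib.Helper25.TEMG2core
import Cfsg.Agent.Lib.Helper12.TEMG1

/-!
# Project TEM = S2191 (designer helper10), row G2 `V_fix`, VERBATIM (helper25), on `Helper25.TEMG2core` and G1 `nO_mem_G1` (`Helper12.TEMG1`).
-/

set_option autoImplicit false

namespace Cfsg.Agent.Lib.Helper10.TEM

open Cfsg.Lie Cfsg.Lie.ChevalleyDatum Matrix
open Cfsg.Agent.Lib.helper8

universe u

variable {K : Type u} [Field K] {q : ℕ} {f : K ≃+* K} {M H : Subgroup (GG K)}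

-- ROW G2  [M]  conjugate by `n₀ = nO l0` (`∈ G¹`, fixed by `Sg f`): `n₀ g n₀⁻¹ ∈ U`, fixed, so in `G¹` by `U_fix`.
theorem V_fix (hF : Frob q f) :
    ∀ g ∈ chevE6.negUnipotent K, Sg f g = g → g ∈ twistedE6 K q :=
  temg2_core hF (nO_mem_G1 hF l0)

end Cfsg.Agent.Lib.Helper10.TEM
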