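import Mathlib
import Cfsg.Prelude.Def_ChevStructure
import Cfsg.Prelude.Def_LieTwisted
import Cfsg.Agent.Lib.helper8.TD4.Defs
import Cfsg.Agent.Lib.helper8.ChevBr4
import Cfsg.Agent.Lib.helper8.ChevBNAll
import Cfsg.Agent.Lib.helper8.ChevBNAll2
import Cfsg.Agent.Lib.helper8.ChevBaseAll
import Cfsg.Agent.Lib.helper8.ChevCommAll
import Cfsg.Agent.Lib.helper8.ChevOrdAll
import Cfsg.Agent.Lib.helper8.ChevReflAll
import Cfsg.Agent.Lib.helper8.ChevCnt2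
import Cfsg.Agent.Lib.helper8.ChevSLP3
import Cfsg.Agent.Lib.helper8.ChevReeC1
import Cfsg.Agent.Lib.helper8.ChevTits2
import Cfsg.Agent.Lib.helper8.ChevTw8
import Cfsg.Agent.Lib.helper8.ChevPair
import Cfsg.Agent.Lib.helper8.ChevTwE6c

/-!
# Project TD4 (S2376, designer helper8), row B6: `chi_refl` (helper25).
-/

set_option autoImplicit false

namespace Cfsg.Agent.Lib.helper8.TD4

open Cfsg.Lie Cfsg.Lie.ChevalleyDatum Cfsg.Agent.Lib.helper8 Matrix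

universe u v

section B

variable {F : Type u} [Field F] (hB : H8Base.{u} chevD4)

/-- B6 [M]. Conjugation by `h' * n_β` acts on the characters of `H` via `reflectRoot 1`. -/
theorem chi_refl (h h' : GL chevD4.Idx F) (hh : h ∈ chevD4.diagonalSubgroup F)
    (hh' : h' ∈ chevD4.diagonalSubgroup F) :
    (h' * h8nU chevD4 hB 14 1) * h * (h' * h8nU chevD4 hB 14 1)⁻¹ ∈ chevD4.diagonalSubgroup F ∧
    ∀ r < 24, h8chi chevD4 hB ((h' * h8nU chevD4 hB 14 1) * h * (h' * h8nU chevD4 hB 14 1)⁻¹) r =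
      h8chi chevD4 hB h (chevD4.reflectRoot 1 r) := by
  have hD : chevD4 ∈ [chevG2, chevB2, chevD4, chevF4, chevE6, chevE7, chevE8] := by simp
  have hA := h8reflAll chevD4 hD
  have hW := h8bn2_all chevD4 hD
  have hrank : (1 : ℕ) < chevD4.rank := by decide
  have hn1 : (h8nU chevD4 hB 14 1 : GL chevD4.Idx F) = h8nU chevD4 hB (chevD4.simple 1) 1 := rfl
  have hnorm : (h8nU chevD4 hB 14 1 : GL chevD4.Idx F) ∈
      Subgroup.normalizer (chevD4.diagonalSubgroup F : Set (GL chevD4.Idx F)) := by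
    rw [hn1]
    exact h8nU_mem_normalizer_H chevD4 hB hA 1 hrank
  have hk : h8nU chevD4 hB 14 1 * h * (h8nU chevD4 hB 14 1)⁻¹ ∈ chevD4.diagonalSubgroup F :=
    (Subgroup.mem_normalizer_iff.mp hnorm h).mp hh
  have e : (h' * h8nU chevD4 hB 14 1) * h * (h' * h8nU chevD4 hB 14 1)⁻¹ =
      h' * (h8nU chevD4 hB 14 1 * h * (h8nU chevD4 hB 14 1)⁻¹) * h'⁻¹ := by group
  rw [e]
  refine ⟨Subgroup.mul_mem _ (Subgroup.mul_mem _ hh' hk) (Subgroup.inv_mem _ hh'), ?_⟩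
  intro r hr
  have hr' : r < chevD4.nroots := hr
  rw [h8chi_mul chevD4 hB hA hW _ _ (Subgroup.mul_mem _ hh' hk) (Subgroup.inv_mem _ hh') r hr',
    h8chi_mul chevD4 hB hA hW _ _ hh' hk r hr', h8chi_inv chevD4 hB hA hW _ hh' r hr']
  have hne := (h8chi_spec chevD4 hB h' hh' r hr').1
  rw [mul_comm (h8chi chevD4 hB h' r), mul_assoc, mul_inv_cancel₀ hne, mul_one]
  have ha_lt : chevD4.reflectRoot 1 r < chevD4.nroots := h8refl_lt chevD4 hA 1 hrank r hr'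
  have hsa : chevD4.reflectRoot 1 (chevD4.reflectRoot 1 r) = r :=
    h8refl_invol chevD4 hA 1 hrank r hr'
  obtain ⟨c, hc, hact⟩ := h8nWU_act (F := F) chevD4 hB hA [1]
    (by intro i hi; rw [List.mem_singleton] at hi; rw [hi]; exact hrank)
    (chevD4.reflectRoot 1 r) ha_lt
  rw [h8nWU_single] at hact
  have hs : h8sW chevD4 [1] (chevD4.reflectRoot 1 r) = r := hsa
  rw [hs] at hact
  have hact' : ∀ t : F, h8nU chevD4 hB 14 1 * h8xU chevD4 hB (chevD4.reflectRoot 1 r) t *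
      (h8nU chevD4 hB 14 1)⁻¹ = h8xU chevD4 hB r (c * t) := hact
  apply h8chi_unique chevD4 hB hA hW _ hk r hr'
  have h1 : h8xU chevD4 hB r (1 : F) = h8nU chevD4 hB 14 1 *
      h8xU chevD4 hB (chevD4.reflectRoot 1 r) c⁻¹ * (h8nU chevD4 hB 14 1)⁻¹ := by
    rw [hact' c⁻¹, mul_inv_cancel₀ hc]
  rw [h1]
  have e2 : h8nU chevD4 hB 14 1 * h * (h8nU chevD4 hB 14 1)⁻¹ *
      (h8nU chevD4 hB 14 1 * h8xU chevD4 hB (chevD4.reflectRoot 1 r) c⁻¹ *
        (h8nU chevD4 hB 14 1)⁻¹) * (h8nU chevD4 hB 14 1 * h * (h8nU chevD4 hB 14 1)⁻¹)⁻¹ =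
      h8nU chevD4 hB 14 1 * (h * h8xU chevD4 hB (chevD4.reflectRoot 1 r) c⁻¹ * h⁻¹) *
        (h8nU chevD4 hB 14 1)⁻¹ := by group
  rw [e2, (h8chi_spec chevD4 hB h hh _ ha_lt).2, hact']
  congr 1
  field_simp

end B

end Cfsg.Agent.Lib.helper8.TD4
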