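import Mathlib
import Cfsg.Prelude.Def_ChevStructure
import Cfsg.Prelude.Def_LieTwisted
import Cfsg.Agent.Lib.helper8.TD4.Defs

/-!
# Project TD4 (S2376, designer helper8), row A1: `exists_preimage` (helper25).
-/

set_option autoImplicit false

namespace Cfsg.Agent.Lib.helper8.TD4

open Cfsg.Lie Cfsg.Lie.ChevalleyDatum Cfsg.Agent.Lib.helper8 Matrix

universe u v

/-- A1 [S-M]. A root of `X ^ q³ - X` in `E` lies in the image of the field `K` with `q³` elements. -/
theorem exists_preimage {K : Type u} {E : Type v} [Field K] [Fintype K] [Field E] (ι : K →+* E) (q : ℕ)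
    (hq : 2 ≤ q) (hK : Fintype.card K = q ^ 3) (x : E) (hx : x ^ (q ^ 3) = x) : ∃ k : K, ι k = x := by
  classical
  have hq3 : 1 < q ^ 3 := by
    calc 1 < 2 ^ 3 := by norm_num
      _ ≤ q ^ 3 := Nat.pow_le_pow_left hq 3
  have hP0 : (Polynomial.X ^ (q ^ 3) - Polynomial.X : Polynomial E) ≠ 0 :=
    FiniteField.X_pow_card_sub_X_ne_zero E hq3
  have hroot : ∀ y : E, y ^ (q ^ 3) = y →
      y ∈ (Polynomial.X ^ (q ^ 3) - Polynomial.X : Polynomial E).roots.toFinset := by
    intro y hy
    rw [Multiset.mem_toFinset, Polynomial.mem_roots hP0, Polynomial.IsRoot.def]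
    simp only [Polynomial.eval_sub, Polynomial.eval_pow, Polynomial.eval_X]
    rw [hy, sub_self]
  have hsub : Finset.univ.image ι ⊆
      (Polynomial.X ^ (q ^ 3) - Polynomial.X : Polynomial E).roots.toFinset := by
    intro y hy
    obtain ⟨k, _, rfl⟩ := Finset.mem_image.mp hy
    apply hroot
    rw [← map_pow, ← hK, FiniteField.pow_card]
  have hcard : (Polynomial.X ^ (q ^ 3) - Polynomial.X : Polynomial E).roots.toFinset.card ≤
      (Finset.univ.image ι).card := by
    rw [Finset.card_image_of_injective _ ι.injective, Finset.card_univ, hK]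
    calc (Polynomial.X ^ (q ^ 3) - Polynomial.X : Polynomial E).roots.toFinset.card
        ≤ Multiset.card (Polynomial.X ^ (q ^ 3) - Polynomial.X : Polynomial E).roots :=
          Multiset.toFinset_card_le _
      _ ≤ (Polynomial.X ^ (q ^ 3) - Polynomial.X : Polynomial E).natDegree :=
          Polynomial.card_roots' _
      _ = q ^ 3 := FiniteField.X_pow_card_sub_X_natDegree_eq E hq3
  have heq := Finset.eq_of_subset_of_card_le hsub hcard
  have hxr := hroot x hx
  rw [← heq] at hxr
  obtain ⟨k, _, hk⟩ := Finset.mem_image.mp hxr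
  exact ⟨k, hk⟩

end Cfsg.Agent.Lib.helper8.TD4
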