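import Mathlib
import Cfsg.Agent.Lib.helper23.TD4V.Defs
import Cfsg.Agent.Lib.helper8.ChevTwD4O
import Cfsg.Agent.Lib.helper8.ChevTits1
import Cfsg.Agent.Lib.helper8.ChevTwE6c

/-!
# TD4V row E5 (core): the double coset form `g ∈ Pp` or `g = p v p'`, with the statements of
E1 (`bruhat12`, at `g`), E2 (`B1_le_Pp`), E3 (`nb_mem_Pp`), E4a-c, M1 (`Xa_mem` at `1`), M2 (`Xlong_mem_Q`), N1 (`frob_neg` at `1`)
as hypotheses.
-/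

set_option autoImplicit false

namespace Cfsg.Agent.Lib.helper23.TD4V

open Cfsg.Lie Cfsg.Lie.ChevalleyDatum Matrix
open Cfsg.Agent.Lib.helper8 Cfsg.Agent.Lib.helper8.TD4
open Cfsg.Agent.Lib.helper23.P4V

universe u v

section E

variable {F K : Type u} [Field F] [Field K] [Fintype F] [Fintype K] (j : F →+* K) (q : ℕ)

/-- the conclusion of E5 -/
def td4ve5_Good (g : GG K) : Prop :=
  g ∈ Pp j q ∨ ∃ p ∈ Pp j q, ∃ p' ∈ Pp j q,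
    (∃ r : K, r ≠ 0 ∧ g = p * Xma q r * p') ∨
    (∃ r : F, r ≠ 0 ∧ g = p * X 1 (j r) * p') ∨
    (∃ r1 : K, r1 ≠ 0 ∧ ∃ r2 : F, r2 ≠ 0 ∧ g = p * (Xma q r1 * X 0 (j r2)) * p')

theorem td4ve5_good_mul (a b g : GG K) (ha : a ∈ Pp j q) (hb : b ∈ Pp j q)
    (hg : td4ve5_Good j q g) : td4ve5_Good j q (a * g * b) := by
  rcases hg with hg | ⟨p, hp, p', hp', hshape⟩
  · exact Or.inl (mul_mem (mul_mem ha hg) hb)
  · refine Or.inr ⟨a * p, mul_mem ha hp, p' * b, mul_mem hp' hb, ?_⟩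
    rcases hshape with ⟨r, hr, rfl⟩ | ⟨r, hr, rfl⟩ | ⟨r1, hr1, r2, hr2, rfl⟩
    · exact Or.inl ⟨r, hr, by simp only [mul_assoc]⟩
    · exact Or.inr (Or.inl ⟨r, hr, by simp only [mul_assoc]⟩)
    · exact Or.inr (Or.inr ⟨r1, hr1, r2, hr2, by simp only [mul_assoc]⟩)

theorem td4ve5_good_left (a g : GG K) (ha : a ∈ Pp j q) (hg : td4ve5_Good j q g) :
    td4ve5_Good j q (a * g) := by
  have h := td4ve5_good_mul j q a 1 g ha (one_mem _) hg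
  rwa [mul_one] at h

theorem td4ve5_good_right (b g : GG K) (hb : b ∈ Pp j q) (hg : td4ve5_Good j q g) :
    td4ve5_Good j q (g * b) := by
  have h := td4ve5_good_mul j q 1 b g (one_mem _) hb hg
  rwa [one_mul] at h

theorem td4ve5_nb : h8nWU chevD4 hB [1] = (nb : GG K) := by
  rw [h8nWU_single]
  rfl

theorem td4ve5_nJ : h8nWU chevD4 hB [0, 2, 3] = (nJ : GG K) := rfl

theorem td4ve5_nil : h8nWU chevD4 hB [] = (1 : GG K) := by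
  unfold h8nWU
  simp

/-- E5 core. -/
theorem td4ve5_core (g : GG K)
    (hE1 : ∃ k < 12, ∃ b1 ∈ chevD4.borelSubgroup K ⊓ twistedD4 K q,
      ∃ b2 ∈ chevD4.borelSubgroup K ⊓ twistedD4 K q, g = b1 * h8nWU chevD4 hB (h8odW k) * b2)
    (hE2 : chevD4.borelSubgroup K ⊓ twistedD4 K q ≤ Pp j q)
    (hE3 : (nb : GG K) ∈ Pp j q)
    (hE4a : (nJ : GG K) = XA 1 1 1 * XmA (-1) (-1) (-1) * XA 1 1 1)
    (hE4b : ∃ ε : K, (ε = 1 ∨ ε = -1) ∧ ∃ h ∈ chevD4.diagonalSubgroup K ⊓ twistedD4 K q,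
      (nJ * nb * nJ : GG K) = X 22 ε * X 1 (-ε) * X 22 ε * h)
    (hE4c : ∃ ε : K, (ε = 1 ∨ ε = -1) ∧ ∃ h ∈ chevD4.diagonalSubgroup K ⊓ twistedD4 K q,
      (nJ * nb * nJ * nb * nJ : GG K) =
        (XA 1 1 1 * X 23 ε) * (XmA (-1) (-1) (-1) * X 0 (-ε)) * (XA 1 1 1 * X 23 ε) * h * nb⁻¹)
    (hM1 : Xa q (1 : K) ∈ Q K q)
    (hM2 : ∀ r ∈ [22, 23], ∀ c : K, c ^ q = c → X r c ∈ Q K q)
    (hN1 : (-(1 : K)) ^ q = -1) :
    g ∈ Pp j q ∨ ∃ p ∈ Pp j q, ∃ p' ∈ Pp j q,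
      (∃ r : K, r ≠ 0 ∧ g = p * Xma q r * p') ∨
      (∃ r : F, r ≠ 0 ∧ g = p * X 1 (j r) * p') ∨
      (∃ r1 : K, r1 ≠ 0 ∧ ∃ r2 : F, r2 ≠ 0 ∧ g = p * (Xma q r1 * X 0 (j r2)) * p') := by
  -- basic memberships
  have hQP : Q K q ≤ Pp j q := by
    intro x hx
    exact Subgroup.subset_closure (Or.inr hx)
  have hHP : chevD4.diagonalSubgroup K ⊓ twistedD4 K q ≤ Pp j q := by
    intro x hx
    apply hE2
    exact ⟨(le_sup_right : chevD4.diagonalSubgroup K ≤ chevD4.borelSubgroup K) hx.1, hx.2⟩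
  have hA : XA (1 : K) 1 1 = Xa q 1 := by
    unfold Xa
    rw [one_pow, one_pow]
  have hM : XmA (-(1 : K)) (-1) (-1) = Xma q (-1) := by
    unfold Xma
    have h2 : (-(1 : K)) ^ (q ^ 2) = -1 := by
      rw [pow_two, pow_mul, hN1, hN1]
    rw [hN1, h2]
  have hAP : Xa q (1 : K) ∈ Pp j q := hQP hM1
  have hm1 : (-(1 : K)) ≠ 0 := neg_ne_zero.mpr one_ne_zero
  have heps : ∀ ε : K, (ε = 1 ∨ ε = -1) → ε ^ q = ε ∧ ∃ r : F, r ≠ 0 ∧ -ε = j r := by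
    intro ε hε
    rcases hε with rfl | rfl
    · exact ⟨one_pow q, -1, neg_ne_zero.mpr one_ne_zero, by rw [map_neg, map_one]⟩
    · exact ⟨hN1, 1, one_ne_zero, by rw [map_one, neg_neg]⟩
  -- the three basic double cosets
  have GJ : td4ve5_Good j q (nJ : GG K) := by
    refine Or.inr ⟨Xa q 1, hAP, Xa q 1, hAP, Or.inl ⟨-1, hm1, ?_⟩⟩
    rw [hE4a, hA, hM]
  have GJbJ : td4ve5_Good j q (nJ * nb * nJ : GG K) := by
    obtain ⟨ε, hε, h, hh, heq⟩ := hE4b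
    obtain ⟨hεq, r, hr, hrj⟩ := heps ε hε
    have hY : X 22 ε ∈ Pp j q := hQP (hM2 22 (by simp) ε hεq)
    refine Or.inr ⟨X 22 ε, hY, X 22 ε * h, mul_mem hY (hHP hh), Or.inr (Or.inl ⟨r, hr, ?_⟩)⟩
    rw [heq, hrj]
    simp only [mul_assoc]
  have GJbJbJ : td4ve5_Good j q (nJ * nb * nJ * nb * nJ : GG K) := by
    obtain ⟨ε, hε, h, hh, heq⟩ := hE4c
    obtain ⟨hεq, r, hr, hrj⟩ := heps ε hε
    have hZ : X 23 ε ∈ Pp j q := hQP (hM2 23 (by simp) ε hεq)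
    have hAZ : Xa q (1 : K) * X 23 ε ∈ Pp j q := mul_mem hAP hZ
    refine Or.inr ⟨Xa q 1 * X 23 ε, hAZ, Xa q 1 * X 23 ε * h * nb⁻¹,
      mul_mem (mul_mem hAZ (hHP hh)) (inv_mem hE3), Or.inr (Or.inr ⟨-1, hm1, r, hr, ?_⟩)⟩
    rw [heq, hA, hM, hrj]
    simp only [mul_assoc]
  -- the twelve words
  obtain ⟨k, hk, b1, hb1, b2, hb2, rfl⟩ := hE1
  apply td4ve5_good_mul j q b1 b2 _ (hE2 hb1) (hE2 hb2)
  have e3 : ([1, 0, 2, 3] : List ℕ) = [1] ++ [0, 2, 3] := rfl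
  have e4 : ([0, 2, 3, 1] : List ℕ) = [0, 2, 3] ++ [1] := rfl
  have e5 : ([1, 0, 2, 3, 1] : List ℕ) = [1] ++ [0, 2, 3] ++ [1] := rfl
  have e6 : ([0, 2, 3, 1, 0, 2, 3] : List ℕ) = [0, 2, 3] ++ [1] ++ [0, 2, 3] := rfl
  have e7 : ([1, 0, 2, 3, 1, 0, 2, 3] : List ℕ) = [1] ++ ([0, 2, 3] ++ [1] ++ [0, 2, 3]) := rfl
  have e8 : ([0, 2, 3, 1, 0, 2, 3, 1] : List ℕ) = [0, 2, 3] ++ [1] ++ [0, 2, 3] ++ [1] := rfl
  have e9 : ([1, 0, 2, 3, 1, 0, 2, 3, 1] : List ℕ) =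
      [1] ++ ([0, 2, 3] ++ [1] ++ [0, 2, 3]) ++ [1] := rfl
  have e10 : ([0, 2, 3, 1, 0, 2, 3, 1, 0, 2, 3] : List ℕ) =
      [0, 2, 3] ++ [1] ++ [0, 2, 3] ++ [1] ++ [0, 2, 3] := rfl
  have e11 : ([1, 0, 2, 3, 1, 0, 2, 3, 1, 0, 2, 3] : List ℕ) =
      [1] ++ ([0, 2, 3] ++ [1] ++ [0, 2, 3] ++ [1] ++ [0, 2, 3]) := rfl
  interval_cases k
  · show td4ve5_Good j q (h8nWU chevD4 hB [])
    rw [td4ve5_nil]
    exact Or.inl (one_mem _)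
  · show td4ve5_Good j q (h8nWU chevD4 hB [1])
    rw [td4ve5_nb]
    exact Or.inl hE3
  · show td4ve5_Good j q (h8nWU chevD4 hB [0, 2, 3])
    rw [td4ve5_nJ]
    exact GJ
  · show td4ve5_Good j q (h8nWU chevD4 hB [1, 0, 2, 3])
    rw [e3, h8nWU_append, td4ve5_nb, td4ve5_nJ]
    exact td4ve5_good_left j q _ _ hE3 GJ
  · show td4ve5_Good j q (h8nWU chevD4 hB [0, 2, 3, 1])
    rw [e4, h8nWU_append, td4ve5_nb, td4ve5_nJ]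
    exact td4ve5_good_right j q _ _ hE3 GJ
  · show td4ve5_Good j q (h8nWU chevD4 hB [1, 0, 2, 3, 1])
    rw [e5, h8nWU_append, h8nWU_append, td4ve5_nb, td4ve5_nJ]
    exact td4ve5_good_mul j q _ _ _ hE3 hE3 GJ
  · show td4ve5_Good j q (h8nWU chevD4 hB [0, 2, 3, 1, 0, 2, 3])
    rw [e6, h8nWU_append, h8nWU_append, td4ve5_nb, td4ve5_nJ]
    exact GJbJ
  · show td4ve5_Good j q (h8nWU chevD4 hB [1, 0, 2, 3, 1, 0, 2, 3])
    rw [e7, h8nWU_append, h8nWU_append, h8nWU_append, td4ve5_nb, td4ve5_nJ]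
    exact td4ve5_good_left j q _ _ hE3 GJbJ
  · show td4ve5_Good j q (h8nWU chevD4 hB [0, 2, 3, 1, 0, 2, 3, 1])
    rw [e8, h8nWU_append, h8nWU_append, h8nWU_append, td4ve5_nb, td4ve5_nJ]
    exact td4ve5_good_right j q _ _ hE3 GJbJ
  · show td4ve5_Good j q (h8nWU chevD4 hB [1, 0, 2, 3, 1, 0, 2, 3, 1])
    rw [e9, h8nWU_append, h8nWU_append, h8nWU_append, h8nWU_append, td4ve5_nb, td4ve5_nJ]
    exact td4ve5_good_mul j q _ _ _ hE3 hE3 GJbJ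
  · show td4ve5_Good j q (h8nWU chevD4 hB [0, 2, 3, 1, 0, 2, 3, 1, 0, 2, 3])
    rw [e10, h8nWU_append, h8nWU_append, h8nWU_append, h8nWU_append, td4ve5_nb, td4ve5_nJ]
    exact GJbJbJ
  · show td4ve5_Good j q (h8nWU chevD4 hB [1, 0, 2, 3, 1, 0, 2, 3, 1, 0, 2, 3])
    rw [e11, h8nWU_append, h8nWU_append, h8nWU_append, h8nWU_append, h8nWU_append, td4ve5_nb,
      td4ve5_nJ]
    exact td4ve5_good_left j q _ _ hE3 GJbJbJ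

end E

end Cfsg.Agent.Lib.helper23.TD4V
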