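import Mathlib
import Cfsg.Agent.Lib.helper23.TD4V.Defs
import Cfsg.Agent.Lib.Helper25.TD4VE5core
import Cfsg.Agent.Lib.Helper21.TD4VE2core
import Cfsg.Agent.Lib.Helper20.TD4VE2c
import Cfsg.Agent.Lib.helper8.TD4VE1
import Cfsg.Agent.Lib.Helper16.TD4VE3
import Cfsg.Agent.Lib.Helper20.TD4VE4a
import Cfsg.Agent.Lib.Helper10.TD4VE4b
import Cfsg.Agent.Lib.Helper10.TD4VE4c
import Cfsg.Agent.Lib.helper15.TD4VM1
import Cfsg.Agent.Lib.Helper9.TD4VM2a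
import Cfsg.Agent.Lib.Helper26.TD4VN1

/-!
# TD4V row E5 (`dc_form`), verbatim: the core `td4ve5_core` with E1, E2 (core + E2c), E3, E4a-c, M1, M2, N1 plugged in.
-/

set_option autoImplicit false

namespace Cfsg.Agent.Lib.helper23.TD4V

open Cfsg.Lie Cfsg.Lie.ChevalleyDatum Matrix
open Cfsg.Agent.Lib.helper8 Cfsg.Agent.Lib.helper8.TD4
open Cfsg.Agent.Lib.helper23.P4V

universe u v

section E

variable {F K : Type u} [Field F] [Field K] [Fintype F] [Fintype K] (j : F →+* K) (q : ℕ)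

theorem dc_form (hq : IsPrimePow q) (hF : Fintype.card F = q) (hK : Fintype.card K = q ^ 3)
    (g : GG K) (hg : g ∈ twistedD4 K q) :
    g ∈ Pp j q ∨ ∃ p ∈ Pp j q, ∃ p' ∈ Pp j q,
      (∃ r : K, r ≠ 0 ∧ g = p * Xma q r * p') ∨
      (∃ r : F, r ≠ 0 ∧ g = p * X 1 (j r) * p') ∨
      (∃ r1 : K, r1 ≠ 0 ∧ ∃ r2 : F, r2 ≠ 0 ∧ g = p * (Xma q r1 * X 0 (j r2)) * p') :=
  td4ve5_core j q g (bruhat12 q hq hK g hg)
    (td4ve2_core j q hq hF hK (fun u hu => U1_form q hq hK u hu))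
    (nb_mem_Pp j q) nJ_form (nJbJ_form q hq hK) (nJbJbJ_form q hq hK)
    (Xa_mem q hq hK 1) (fun r hr c hc => Xlong_mem_Q q hq hK r hr c hc)
    (by have := frob_neg q hq hK 1; rwa [one_pow] at this)

end E

end Cfsg.Agent.Lib.helper23.TD4V
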