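import Mathlib
import Cfsg.Agent.Lib.Helper9.A2S.Defs

set_option autoImplicit false

namespace Cfsg.Agent.Lib.Helper9.A2S

open Equiv

theorem a2sW1_s_sq (β : Type*) :
    (Equiv.sumComm β β : Perm (β ⊕ β)) * (Equiv.sumComm β β : Perm (β ⊕ β)) = 1 := by
  ext x
  rcases x with b | b <;> simp

theorem a2sW1_s_inv (β : Type*) :
    (Equiv.sumComm β β : Perm (β ⊕ β))⁻¹ = (Equiv.sumComm β β : Perm (β ⊕ β)) :=
  inv_eq_of_mul_eq_one_left (a2sW1_s_sq β)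

theorem a2sW1_s_mul {β : Type*} (a b : Perm β) :
    (Equiv.sumComm β β : Perm (β ⊕ β)) * Perm.sumCongr a b =
      Perm.sumCongr b a * (Equiv.sumComm β β : Perm (β ⊕ β)) := by
  ext x
  rcases x with x | x <;> simp

theorem a2sW1_sumCongr_mem {β : Type*} (T' : Subgroup (Perm β)) {a b : Perm β}
    (ha : a ∈ T') (hb : b ∈ T') : Perm.sumCongr a b ∈ sumSub T' T' := by
  refine ⟨(a, b), ⟨ha, hb⟩, ?_⟩
  simp

theorem a2sW1_s_mem {β : Type*} (T' : Subgroup (Perm β)) :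
    (Equiv.sumComm β β : Perm (β ⊕ β)) ∈ wrSub T' :=
  (le_sup_right : Subgroup.zpowers _ ≤ wrSub T') (Subgroup.mem_zpowers _)

theorem a2sW1_sumCongr_mem_wr {β : Type*} (T' : Subgroup (Perm β)) {a b : Perm β}
    (ha : a ∈ T') (hb : b ∈ T') : Perm.sumCongr a b ∈ wrSub T' :=
  (le_sup_left : sumSub T' T' ≤ wrSub T') (a2sW1_sumCongr_mem T' ha hb)

/-- the two-coset description as a subgroup -/
def a2sW1_S {β : Type*} (T' : Subgroup (Perm β)) : Subgroup (Perm (β ⊕ β)) where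
  carrier := {w | ∃ a ∈ T', ∃ b ∈ T',
    w = Perm.sumCongr a b ∨ w = Perm.sumCongr a b * (Equiv.sumComm β β : Perm (β ⊕ β))}
  one_mem' := ⟨1, T'.one_mem, 1, T'.one_mem, Or.inl (by simp)⟩
  mul_mem' := by
    rintro w w' ⟨a, ha, b, hb, h⟩ ⟨a', ha', b', hb', h'⟩
    rcases h with h | h <;> rcases h' with h' | h'
    · refine ⟨a * a', T'.mul_mem ha ha', b * b', T'.mul_mem hb hb', Or.inl ?_⟩
      rw [h, h', Perm.sumCongr_mul]
    · refine ⟨a * a', T'.mul_mem ha ha', b * b', T'.mul_mem hb hb', Or.inr ?_⟩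
      rw [h, h', ← mul_assoc, Perm.sumCongr_mul]
    · refine ⟨a * b', T'.mul_mem ha hb', b * a', T'.mul_mem hb ha', Or.inr ?_⟩
      rw [h, h', mul_assoc, a2sW1_s_mul, ← mul_assoc, Perm.sumCongr_mul]
    · refine ⟨a * b', T'.mul_mem ha hb', b * a', T'.mul_mem hb ha', Or.inl ?_⟩
      rw [h, h', mul_assoc, ← mul_assoc (Equiv.sumComm β β : Perm (β ⊕ β)), a2sW1_s_mul,
        mul_assoc, a2sW1_s_sq, mul_one, Perm.sumCongr_mul]
  inv_mem' := by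
    rintro w ⟨a, ha, b, hb, h⟩
    rcases h with h | h
    · refine ⟨a⁻¹, T'.inv_mem ha, b⁻¹, T'.inv_mem hb, Or.inl ?_⟩
      rw [h, Perm.sumCongr_inv]
    · refine ⟨b⁻¹, T'.inv_mem hb, a⁻¹, T'.inv_mem ha, Or.inr ?_⟩
      rw [h, mul_inv_rev, a2sW1_s_inv, Perm.sumCongr_inv, a2sW1_s_mul]

/-- A2S-W1 -/
theorem mem_wrSub_iff {β : Type*} [Fintype β] [DecidableEq β] (T' : Subgroup (Perm β))
    (w : Perm (β ⊕ β)) :
    w ∈ wrSub T' ↔ ∃ a ∈ T', ∃ b ∈ T',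
      w = Perm.sumCongr a b ∨ w = Perm.sumCongr a b * (Equiv.sumComm β β : Perm (β ⊕ β)) := by
  constructor
  · intro hw
    have hle : wrSub T' ≤ a2sW1_S T' := by
      refine sup_le ?_ ?_
      · rintro _ ⟨⟨a, b⟩, ⟨ha, hb⟩, rfl⟩
        exact ⟨a, ha, b, hb, Or.inl (by simp)⟩
      · rw [Subgroup.zpowers_le]
        exact ⟨1, T'.one_mem, 1, T'.one_mem, Or.inr (by simp)⟩
    exact hle hw
  · rintro ⟨a, ha, b, hb, h | h⟩
    · rw [h]; exact a2sW1_sumCongr_mem_wr T' ha hb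
    · rw [h]; exact (wrSub T').mul_mem (a2sW1_sumCongr_mem_wr T' ha hb) (a2sW1_s_mem T')

end Cfsg.Agent.Lib.Helper9.A2S
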