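import Mathlib
import Cfsg.Prelude.Def_GeometricClasses
import Cfsg.Agent.Lib.Helper27.ASC.Defs
import Cfsg.Agent.Lib.Helper19.ASG.Defs
import Cfsg.Agent.Lib.Helper27.MatAlg2

set_option autoImplicit false
set_option linter.unusedVariables false

/-!
# Project ASG, block C, piece C-CENT : the centraliser of `M_k ⊗ 1` in `M_(k×d)(F)` is `1 ⊗ M_d`

Direct from `Helper27.MatAlg.matalg_centralizer_kron`.
-/

namespace Cfsg.Agent.Lib.Helper19.ASG

open Cfsg Cfsg.Geo Cfsg.Agent.Lib.Helper27.ASC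
open scoped MatrixGroups Matrix Kronecker

variable {n : ℕ} {F : Type*} [Field F]

/-- C-CENT : the centraliser of `M_k ⊗ 1` in `M_(k×d)(F)` is `1 ⊗ M_d`. -/
theorem cent_kronecker {k d : ℕ} (hk : 0 < k) (X : Matrix (Fin k × Fin d) (Fin k × Fin d) F)
    (hX : ∀ a : Matrix (Fin k) (Fin k) F,
      X * (a ⊗ₖ (1 : Matrix (Fin d) (Fin d) F)) = (a ⊗ₖ (1 : Matrix (Fin d) (Fin d) F)) * X) :
    ∃ b : Matrix (Fin d) (Fin d) F, X = (1 : Matrix (Fin k) (Fin k) F) ⊗ₖ b :=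
  Cfsg.Agent.Lib.Helper27.MatAlg.matalg_centralizer_kron hk X hX

end Cfsg.Agent.Lib.Helper19.ASG
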