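import Mathlib
import Cfsg.Prelude.Def_GeometricClasses
import Cfsg.Agent.Lib.Helper27.ASC.Defs

/-!
# Project ASC, piece CENT : an element of `H` centralising the perfect absolutely irreducible `P` modulo scalars
is a scalar
-/

set_option autoImplicit false
set_option linter.unusedVariables false

namespace Cfsg.Agent.Lib.Helper27.ASC

open Cfsg Cfsg.Geo
open scoped MatrixGroups Matrix

/-- conjugating by a central element does nothing -/
theorem asccent_central_cancel {G : Type*} [Group G] (a w : G) (ha : ∀ g : G, a * g = g * a) :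
    a * w * a⁻¹ = w := by
  rw [ha w, mul_inv_cancel_right]

/-- the inverse of a central element is central -/
theorem asccent_central_inv {G : Type*} [Group G] (a : G) (ha : ∀ g : G, a * g = g * a) :
    ∀ g : G, a⁻¹ * g = g * a⁻¹ := by
  intro g
  have h := ha g
  calc a⁻¹ * g = a⁻¹ * (g * a) * a⁻¹ := by group
    _ = a⁻¹ * (a * g) * a⁻¹ := by rw [h]
    _ = g * a⁻¹ := by group

/-- if `h` conjugates `x`, `y` to central multiples of themselves, it centralises their commutator -/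
theorem asccent_conj_comm {G : Type*} [Group G] (h x y a b : G) (ha : ∀ g : G, a * g = g * a)
    (hb : ∀ g : G, b * g = g * b) (hx : h * x * h⁻¹ = a * x) (hy : h * y * h⁻¹ = b * y) :
    h * (x * y * x⁻¹ * y⁻¹) * h⁻¹ = x * y * x⁻¹ * y⁻¹ := by
  have ha' := asccent_central_inv a ha
  have hb' := asccent_central_inv b hb
  have e0 : h * (x * y * x⁻¹ * y⁻¹) * h⁻¹ =
      (h * x * h⁻¹) * (h * y * h⁻¹) * (h * x * h⁻¹)⁻¹ * (h * y * h⁻¹)⁻¹ := by group
  rw [e0, hx, hy]
  have e1 : a * x * (b * y) * (a * x)⁻¹ * (b * y)⁻¹ =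
      a * (x * (b * y) * x⁻¹ * (b * y)⁻¹) * a⁻¹ := by
    have key := ha' (b * y)⁻¹
    calc a * x * (b * y) * (a * x)⁻¹ * (b * y)⁻¹
        = a * x * (b * y) * x⁻¹ * (a⁻¹ * (b * y)⁻¹) := by group
      _ = a * x * (b * y) * x⁻¹ * ((b * y)⁻¹ * a⁻¹) := by rw [key]
      _ = a * (x * (b * y) * x⁻¹ * (b * y)⁻¹) * a⁻¹ := by group
  rw [e1, asccent_central_cancel a _ ha]
  have e2 : x * (b * y) * x⁻¹ * (b * y)⁻¹ = b * (x * y * x⁻¹ * y⁻¹) * b⁻¹ := by
    have key := hb x
    calc x * (b * y) * x⁻¹ * (b * y)⁻¹ = (x * b) * y * x⁻¹ * y⁻¹ * b⁻¹ := by group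
      _ = (b * x) * y * x⁻¹ * y⁻¹ * b⁻¹ := by rw [key]
      _ = b * (x * y * x⁻¹ * y⁻¹) * b⁻¹ := by group
  rw [e2, asccent_central_cancel b _ hb]

variable {n : ℕ} {F : Type*} [Field F] [Fintype F]

/-- scalars are central -/
theorem asccent_scalar_central (a : GL (Fin n) F) (ha : a ∈ scalars (Fin n) F) :
    ∀ g : GL (Fin n) F, a * g = g * a := by
  intro g
  obtain ⟨c, hc⟩ := (mem_scalars_iff a).mp ha
  apply Units.ext
  rw [Units.val_mul, Units.val_mul, hc, Matrix.smul_mul, Matrix.one_mul, Matrix.mul_smul, Matrix.mul_one]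

/-- CENT -/
theorem centralizer_scalar_of {H P : Subgroup (GL (Fin n) F)} (hP : NormalIn P H) (hperf : ⁅P, P⁆ = P)
    (hA : AbsIrr P) : ∀ h ∈ H, (∀ x ∈ P, h * x * h⁻¹ * x⁻¹ ∈ scalars (Fin n) F) → h ∈ scalars (Fin n) F := by
  intro h hh hcomm
  -- `h` commutes with every element of `P`
  have hle : ⁅P, P⁆ ≤ Subgroup.centralizer ({h} : Set (GL (Fin n) F)) := by
    rw [Subgroup.commutator_le]
    intro x hx y hy
    rw [Subgroup.mem_centralizer_singleton_iff, commutatorElement_def]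
    have hxa := hcomm x hx
    have hyb := hcomm y hy
    have h1 := asccent_conj_comm h x y (h * x * h⁻¹ * x⁻¹) (h * y * h⁻¹ * y⁻¹)
      (asccent_scalar_central _ hxa) (asccent_scalar_central _ hyb) (by group) (by group)
    calc x * y * x⁻¹ * y⁻¹ * h = (h * (x * y * x⁻¹ * y⁻¹) * h⁻¹) * h := by rw [h1]
      _ = h * (x * y * x⁻¹ * y⁻¹) := by group
  have hcent : ∀ x ∈ P, x * h = h * x := by
    intro x hx
    have hx' : x ∈ ⁅P, P⁆ := by rw [hperf]; exact hx
    exact Subgroup.mem_centralizer_singleton_iff.mp (hle hx')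
  -- so its matrix commutes with `matrixSet P`
  obtain ⟨c, hc⟩ := hA.2 (h : Matrix (Fin n) (Fin n) F) (by
    rintro s ⟨g, hg, rfl⟩
    have h2 := hcent g hg
    have h3 := congrArg (fun u : GL (Fin n) F => (u : Matrix (Fin n) (Fin n) F)) h2
    simp only [Units.val_mul] at h3
    exact h3.symm)
  rw [mem_scalars_iff]
  by_cases hc0 : c = 0
  · -- then the matrix ring is trivial
    have h0 : (h : Matrix (Fin n) (Fin n) F) = 0 := by rw [hc, hc0, zero_smul]
    have h1 : (1 : Matrix (Fin n) (Fin n) F) = 0 := by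
      have h2 : (h : Matrix (Fin n) (Fin n) F) * ((h⁻¹ : GL (Fin n) F) : Matrix (Fin n) (Fin n) F) = 1 := by
        rw [← Units.val_mul, mul_inv_cancel, Units.val_one]
      rw [← h2, h0, zero_mul]
    refine ⟨1, ?_⟩
    rw [h0, h1, smul_zero]
  · exact ⟨Units.mk0 c hc0, hc⟩

end Cfsg.Agent.Lib.Helper27.ASC
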