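import Mathlib
import Cfsg.Agent.Lib.Helper27.AltFus.Defs
import Cfsg.Agent.Lib.helper3.AltFusE0

set_option autoImplicit false

/-! Project AltFus (S5165), piece E3 : `W2` is self-centralizing in the alternating group
(helper25). -/

namespace Cfsg.Agent.Lib.Helper25.AltFus

open Cfsg.Agent.Lib.Helper27.AltFus Cfsg.Agent.Lib.helper3.AltFus Equiv

variable (k s1 r : ℕ)

/-- the element of the Klein four-group of the `4`-block `j` : `(u, x) ↦ (u + u₀, x + x₀)` there -/
def vv (j : Fin k) (u₀ x₀ : ZMod 2) : Perm (Mdl2 k s1 r) :=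
  dd k s1 r (fun j' => if j' = j then u₀ else 0) (fun j' _ => if j' = j then x₀ else 0) 0

theorem vv_mem_W2 (j : Fin k) (u₀ x₀ : ZMod 2) : vv k s1 r j u₀ x₀ ∈ W2 k s1 r := by
  refine Subgroup.mem_inf.mpr ⟨dd_mem_DD k s1 r _ _ _, (sign_dd k s1 r _ _ _).mpr ?_⟩
  have h1 : ∀ j' : Fin k, ((if j' = j then x₀ else 0) + (if j' = j then x₀ else 0) : ZMod 2) = 0 :=
    fun j' => zmod2_add_self _
  simp [h1]

theorem vv_apply_same (j : Fin k) (u₀ x₀ u x : ZMod 2) :
    vv k s1 r j u₀ x₀ (Sum.inl (j, (u, x))) = Sum.inl (j, (u + u₀, x + x₀)) := by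
  unfold vv
  rw [dd_apply_inl]
  simp

theorem vv_apply_other (j j' : Fin k) (h : j' ≠ j) (u₀ x₀ u x : ZMod 2) :
    vv k s1 r j u₀ x₀ (Sum.inl (j', (u, x))) = Sum.inl (j', (u, x)) := by
  unfold vv
  rw [dd_apply_inl]
  simp [h]

theorem vv_apply_inr (j : Fin k) (u₀ x₀ : ZMod 2) (z : (Fin s1 × ZMod 2) ⊕ Fin r) :
    vv k s1 r j u₀ x₀ (Sum.inr z) = Sum.inr z := by
  unfold vv
  rcases z with ⟨i, x⟩ | t
  · rw [dd_apply_inr_inl]; simp
  · rfl

/-- the product of the transposition of the `2`-block `i` and a transposition of the `4`-block `j` -/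
def ee (j : Fin k) (i : Fin s1) : Perm (Mdl2 k s1 r) :=
  dd k s1 r 0 (fun j' u => if j' = j ∧ u = 0 then 1 else 0) (fun i' => if i' = i then 1 else 0)

theorem ee_mem_W2 (j : Fin k) (i : Fin s1) : ee k s1 r j i ∈ W2 k s1 r := by
  refine Subgroup.mem_inf.mpr ⟨dd_mem_DD k s1 r _ _ _, (sign_dd k s1 r _ _ _).mpr ?_⟩
  have h1 : ∀ j' : Fin k, ((if j' = j ∧ (0 : ZMod 2) = 0 then (1 : ZMod 2) else 0) +
      (if j' = j ∧ (1 : ZMod 2) = 0 then 1 else 0)) = if j' = j then 1 else 0 := by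
    intro j'
    have h10 : ¬ ((1 : ZMod 2) = 0) := by decide
    by_cases h : j' = j <;> simp [h, h10]
  rw [Finset.sum_congr rfl (fun j' _ => h1 j'), Finset.sum_ite_eq' Finset.univ j,
    Finset.sum_ite_eq' Finset.univ i]
  simp only [Finset.mem_univ, if_true]
  decide

theorem ee_apply_two (j : Fin k) (i : Fin s1) (x : ZMod 2) :
    ee k s1 r j i (Sum.inr (Sum.inl (i, x))) = Sum.inr (Sum.inl (i, x + 1)) := by
  unfold ee
  rw [dd_apply_inr_inl]
  simp

theorem ee_apply_pt (j : Fin k) (i : Fin s1) (t : Fin r) :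
    ee k s1 r j i (Sum.inr (Sum.inr t)) = Sum.inr (Sum.inr t) := rfl

theorem zmod2_add_one_ne (x : ZMod 2) : x + 1 ≠ x := by
  revert x; decide

theorem centralizer_W2 (hk : 1 ≤ k) (_h6 : 2 ≤ k ∨ s1 = 1) (hs1 : s1 ≤ 1) (hr : r ≤ 1)
    (g : Perm (Mdl2 k s1 r)) (hgA : g ∈ alternatingGroup (Mdl2 k s1 r))
    (hg : ∀ b ∈ W2 k s1 r, g * b = b * g) : g ∈ W2 k s1 r := by
  have hcomm : ∀ b ∈ W2 k s1 r, ∀ q, g (b q) = b (g q) := by
    intro b hb q
    have := congrArg (fun f : Perm (Mdl2 k s1 r) => f q) (hg b hb)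
    simpa [Perm.mul_apply] using this
  -- Step A : the 4-blocks
  have hA0 : ∀ j : Fin k, ∃ u₀ x₀ : ZMod 2,
      g (Sum.inl (j, ((0 : ZMod 2), (0 : ZMod 2)))) = Sum.inl (j, (u₀, x₀)) := by
    intro j
    have h1 := hcomm _ (vv_mem_W2 k s1 r j 1 0) (Sum.inl (j, ((0 : ZMod 2), (0 : ZMod 2))))
    rw [vv_apply_same] at h1
    have hne : g (Sum.inl (j, ((0 : ZMod 2) + 1, (0 : ZMod 2) + 0))) ≠
        g (Sum.inl (j, ((0 : ZMod 2), (0 : ZMod 2)))) := by
      intro h
      have := g.injective h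
      simp at this
    rw [h1] at hne
    -- the image is moved by `vv j 1 0`
    rcases hy : g (Sum.inl (j, ((0 : ZMod 2), (0 : ZMod 2)))) with ⟨j', u', x'⟩ | z
    · by_cases hj : j' = j
      · subst hj
        exact ⟨u', x', rfl⟩
      · exfalso
        rw [hy, vv_apply_other k s1 r j j' hj] at hne
        exact hne rfl
    · exfalso
      rw [hy, vv_apply_inr] at hne
      exact hne rfl
  choose ε d hεd using hA0
  have hA : ∀ (j : Fin k) (u x : ZMod 2),
      g (Sum.inl (j, (u, x))) = Sum.inl (j, (u + ε j, x + d j)) := by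
    intro j u x
    have h1 := hcomm _ (vv_mem_W2 k s1 r j u x) (Sum.inl (j, ((0 : ZMod 2), (0 : ZMod 2))))
    rw [vv_apply_same, hεd, vv_apply_same, zero_add, zero_add] at h1
    rw [h1, add_comm (ε j), add_comm (d j)]
  -- `g` preserves the complement of the 4-blocks
  have hinr : ∀ z : (Fin s1 × ZMod 2) ⊕ Fin r, ∃ z', g (Sum.inr z) = Sum.inr z' := by
    intro z
    rcases hy : g (Sum.inr z) with ⟨j, u, x⟩ | z'
    · exfalso
      have h2 := hA j (u + ε j) (x + d j)
      have h3 : ∀ a b : ZMod 2, a + b + b = a := by decide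
      rw [h3, h3, ← hy] at h2
      have := g.injective h2
      simp at this
    · exact ⟨z', rfl⟩
  -- Step B : the 2-blocks
  obtain ⟨j₀⟩ : Nonempty (Fin k) := ⟨⟨0, hk⟩⟩
  have hsub1 : Subsingleton (Fin s1) := by
    constructor
    intro a b
    apply Fin.ext
    have := a.2; have := b.2
    omega
  have hsubr : Subsingleton (Fin r) := by
    constructor
    intro a b
    apply Fin.ext
    have := a.2; have := b.2
    omega
  have hB0 : ∀ i : Fin s1, ∃ x₁ : ZMod 2,
      g (Sum.inr (Sum.inl (i, (0 : ZMod 2)))) = Sum.inr (Sum.inl (i, x₁)) := by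
    intro i
    have h1 := hcomm _ (ee_mem_W2 k s1 r j₀ i) (Sum.inr (Sum.inl (i, (0 : ZMod 2))))
    rw [ee_apply_two] at h1
    have hne : g (Sum.inr (Sum.inl (i, (0 : ZMod 2) + 1))) ≠
        g (Sum.inr (Sum.inl (i, (0 : ZMod 2)))) := by
      intro h
      have := g.injective h
      simp at this
    rw [h1] at hne
    obtain ⟨z', hz'⟩ := hinr (Sum.inl (i, (0 : ZMod 2)))
    rcases z' with ⟨i', x'⟩ | t
    · have : i' = i := Subsingleton.elim _ _
      subst this
      exact ⟨x', hz'⟩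
    · exfalso
      rw [hz', ee_apply_pt] at hne
      exact hne rfl
  choose η hη using hB0
  have hB : ∀ (i : Fin s1) (x : ZMod 2),
      g (Sum.inr (Sum.inl (i, x))) = Sum.inr (Sum.inl (i, x + η i)) := by
    intro i x
    rcases zmod2_cases x with rfl | rfl
    · rw [hη, zero_add]
    · have h1 := hcomm _ (ee_mem_W2 k s1 r j₀ i) (Sum.inr (Sum.inl (i, (0 : ZMod 2))))
      rw [ee_apply_two, hη, ee_apply_two, zero_add] at h1
      rw [h1, add_comm]
  -- Step C : the points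
  have hC : ∀ t : Fin r, g (Sum.inr (Sum.inr t)) = Sum.inr (Sum.inr t) := by
    intro t
    obtain ⟨z', hz'⟩ := hinr (Sum.inr t)
    rcases z' with ⟨i, x⟩ | t'
    · exfalso
      have h2 := hB i (x + η i)
      have h3 : ∀ a b : ZMod 2, a + b + b = a := by decide
      rw [h3, ← hz'] at h2
      have := g.injective h2
      simp at this
    · rw [hz', Subsingleton.elim t' t]
  -- conclusion
  have hgdd : g = dd k s1 r ε (fun j _ => d j) η := by
    ext q
    rcases q with ⟨j, u, x⟩ | ⟨i, x⟩ | t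
    · rw [hA, dd_apply_inl]
    · rw [hB, dd_apply_inr_inl]
    · rw [hC, dd_apply_inr_inr]
  refine Subgroup.mem_inf.mpr ⟨?_, hgA⟩
  rw [hgdd]
  exact dd_mem_DD k s1 r _ _ _

end Cfsg.Agent.Lib.Helper25.AltFus
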