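import Cfsg.Agent.Lib.helper8.BTT.Defs

/-!
# BTT GEN5: the inverse of a graded isomorphism is graded.
-/

set_option autoImplicit false

namespace Cfsg.Agent.Lib.helper8.BTT

open Cfsg.Lie Cfsg.Lie.ChevalleyDatum

universe u

section gen
variable {ι : Type*} [Fintype ι] [DecidableEq ι] {F : Type*} [Field F]

/-- GEN5 [M]: the inverse of a graded isomorphism is graded (`g D_c = D'_c g` for the diagonal
projections `D_c`, `D'_c` onto the level-`c` parts; hence `D_c g⁻¹ = g⁻¹ D'_c`). -/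
theorem lev_inv (ℓ ℓ' : ι → ℝ) (g : GL ι F)
    (h : Lev ℓ ℓ' (g : Matrix ι ι F)) : Lev ℓ' ℓ ((g⁻¹ : GL ι F) : Matrix ι ι F) := by
  classical
  intro i j hij
  let Dc : Matrix ι ι F := Matrix.diagonal (fun k => if ℓ k = ℓ i then 1 else 0)
  let Dc' : Matrix ι ι F := Matrix.diagonal (fun k => if ℓ' k = ℓ i then 1 else 0)
  have h1 : (g : Matrix ι ι F) * Dc = Dc' * (g : Matrix ι ι F) := by
    ext a b
    rw [Matrix.mul_diagonal, Matrix.diagonal_mul]
    by_cases hab : (g : Matrix ι ι F) a b = 0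
    · rw [hab]; simp
    · rw [h a b hab, mul_comm]
  have hginv : ((g⁻¹ : GL ι F) : Matrix ι ι F) * (g : Matrix ι ι F) = 1 := by
    rw [← Units.val_mul, inv_mul_cancel]; rfl
  have hginv' : (g : Matrix ι ι F) * ((g⁻¹ : GL ι F) : Matrix ι ι F) = 1 := by
    rw [← Units.val_mul, mul_inv_cancel]; rfl
  have h2 : Dc * ((g⁻¹ : GL ι F) : Matrix ι ι F) = ((g⁻¹ : GL ι F) : Matrix ι ι F) * Dc' := by
    calc Dc * ((g⁻¹ : GL ι F) : Matrix ι ι F)
        = (((g⁻¹ : GL ι F) : Matrix ι ι F) * (g : Matrix ι ι F)) * Dc *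
            ((g⁻¹ : GL ι F) : Matrix ι ι F) := by rw [hginv, one_mul]
      _ = ((g⁻¹ : GL ι F) : Matrix ι ι F) * ((g : Matrix ι ι F) * Dc) *
            ((g⁻¹ : GL ι F) : Matrix ι ι F) := by simp only [mul_assoc]
      _ = ((g⁻¹ : GL ι F) : Matrix ι ι F) * (Dc' * (g : Matrix ι ι F)) *
            ((g⁻¹ : GL ι F) : Matrix ι ι F) := by rw [h1]
      _ = ((g⁻¹ : GL ι F) : Matrix ι ι F) * Dc' *
            ((g : Matrix ι ι F) * ((g⁻¹ : GL ι F) : Matrix ι ι F)) := by simp only [mul_assoc]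
      _ = ((g⁻¹ : GL ι F) : Matrix ι ι F) * Dc' := by rw [hginv', mul_one]
  have h3 := congrFun (congrFun h2 i) j
  rw [Matrix.diagonal_mul, Matrix.mul_diagonal] at h3
  simp only [if_true, one_mul] at h3
  by_contra hne
  rw [if_neg (fun h' => hne h'.symm), mul_zero] at h3
  exact hij h3

end gen

end Cfsg.Agent.Lib.helper8.BTT
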