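import Cfsg.Agent.Lib.Helper25.BGLPA06
import Cfsg.Agent.Lib.Helper10.BGL.Bridge

/-!
# Project BGL, row PA07: `pa_exc_contra` (the exceptional case of the pair lemma is impossible)
-/

set_option autoImplicit false

namespace Cfsg.Agent.Lib.Helper10.BGL

open Cfsg.Lie Cfsg.Lie.ChevalleyDatum Cfsg.Agent.Lib.helper8

universe u

variable {K : Type u} [Field K]

theorem bglpa07_hg_mem (D : ChevalleyDatum) (hD : Seven D) (r : ℕ) (hr : r < D.nroots) (μ : K) (hμ : μ ≠ 0) :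
    hg D hD r μ ∈ D.diagonalSubgroup K :=
  Subgroup.subset_closure ⟨r, μ, hr, hμ, hg_val D hD r μ⟩

theorem bglpa07_diag_comm (D : ChevalleyDatum) (hD : Seven D) (t t' : GL D.Idx K)
    (ht : t ∈ D.diagonalSubgroup K) (ht' : t' ∈ D.diagonalSubgroup K) : t * t' = t' * t := by
  have hB := h8base_all.{u} D hD
  obtain ⟨d, hd⟩ := h8_diag_of_mem_H D hB t ht
  obtain ⟨d', hd'⟩ := h8_diag_of_mem_H D hB t' ht'
  apply Units.ext
  rw [Units.val_mul, Units.val_mul, hd, hd', Matrix.diagonal_mul_diagonal, Matrix.diagonal_mul_diagonal]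
  congr 1
  funext i
  exact mul_comm _ _

theorem bglpa07_intCast_pow [Finite K] (p : ℕ) [Fact p.Prime] [CharP K p] (a : ℕ) (n : ℤ) :
    ((n : ℤ) : K) ^ (p ^ a) = ((n : ℤ) : K) := by
  have h := map_intCast (iterateFrobenius K p a) n
  rw [iterateFrobenius_def] at h
  exact h

/-- PA07: the exceptional case is impossible. -/
theorem pa_exc_contra [Finite K] (p : ℕ) [Fact p.Prime] [CharP K p] (hp : p ≠ 2) (D : ChevalleyDatum) (hD : Seven D)
    (a : ℕ) (H : Subgroup (GL D.Idx K)) (hL : Lq D K (p ^ a) ≤ H) (hR : RootRat D (p ^ a) H)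
    (u : GL D.Idx K) (hu : u ∈ D.posUnipotent K) (t : GL D.Idx K) (ht : t ∈ D.diagonalSubgroup K)
    (μ : K) (hμ : μ ^ 2 = -1) (hk : ∀ s : K, s ^ (p ^ a) = s → s = 0 ∨ s ^ 2 = 1)
    (he : (u * t) * hg D hD (D.nroots - 1) μ * (u * t)⁻¹ ∈ H) : False := by
  have hB := h8base_all.{u} D hD
  obtain ⟨h2n, -⟩ := bglpc05_tab D hD
  have hρ : D.nroots - 1 < D.nroots := by omega
  obtain ⟨hβ, hb0, hβpos, hb0pos, hne, hnn, hct, hN, hK1, hrest⟩ := pa_beta_tab D hD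
  have h2K : (2 : K) ≠ 0 := by
    intro h
    have h' : ((2 : ℕ) : K) = 0 := by exact_mod_cast h
    rw [CharP.cast_eq_zero_iff K p] at h'
    exact hp ((Nat.prime_dvd_prime_iff_eq Fact.out Nat.prime_two).1 h')
  have hm1 : (-1 : K) ≠ 0 := neg_ne_zero.2 one_ne_zero
  have hμ0 : μ ≠ 0 := by
    intro h
    rw [h] at hμ
    apply hm1
    rw [← hμ]; ring
  -- the torus element
  have hhg := bglpa07_hg_mem D hD (D.nroots - 1) hρ μ hμ0
  have he' : u * hg D hD (D.nroots - 1) μ * u⁻¹ ∈ H := by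
    have : (u * t) * hg D hD (D.nroots - 1) μ * (u * t)⁻¹ = u * hg D hD (D.nroots - 1) μ * u⁻¹ := by
      have hc := bglpa07_diag_comm D hD t _ ht hhg
      calc (u * t) * hg D hD (D.nroots - 1) μ * (u * t)⁻¹
          = u * (t * hg D hD (D.nroots - 1) μ) * t⁻¹ * u⁻¹ := by group
        _ = u * (hg D hD (D.nroots - 1) μ * t) * t⁻¹ * u⁻¹ := by rw [hc]
        _ = u * hg D hD (D.nroots - 1) μ * u⁻¹ := by group
    rw [← this]; exact he
  set e := u * hg D hD (D.nroots - 1) μ * u⁻¹ with hedef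
  -- the action of the torus element on `X_β`, `X_ρ`
  obtain ⟨-, hact, -⟩ := pc_H_act D hD _ hhg
  have hdβ : ((hg D hD (D.nroots - 1) μ : GL D.Idx K) : Matrix D.Idx D.Idx K) (Sum.inr ⟨bglBeta D, hβ⟩)
      (Sum.inr ⟨bglBeta D, hβ⟩) = μ := by
    rw [hg_val, hB.hdiag K (D.nroots - 1) hρ μ hμ0, Matrix.diagonal_apply_eq]
    show μ ^ (h8K D (D.nroots - 1) (bglBeta D)) = μ
    rw [hK1, zpow_one]
  have hactβ := hact (bglBeta D) hβ 1
  rw [hdβ, mul_one] at hactβ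
  -- `y := e * xg β 1 * e⁻¹ = xg β μ * xg ρ f`
  obtain ⟨f₁, hf₁⟩ := pa_U_beta D hD u⁻¹ (Subgroup.inv_mem _ hu) 1
  rw [inv_inv] at hf₁
  have hactρ := hact (D.nroots - 1) hρ f₁
  obtain ⟨f₃, hf₃⟩ := pa_U_beta D hD u hu μ
  have hcu := fun f => pc_U_comm D hD u hu f
  have hy : ∃ f : K, e * xg D hD (bglBeta D) 1 * e⁻¹ =
      xg D hD (bglBeta D) μ * xg D hD (D.nroots - 1) f := by
    refine ⟨f₃ + ((hg D hD (D.nroots - 1) μ : GL D.Idx K) : Matrix D.Idx D.Idx K)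
      (Sum.inr ⟨D.nroots - 1, hρ⟩) (Sum.inr ⟨D.nroots - 1, hρ⟩) * f₁, ?_⟩
    set dρ := ((hg D hD (D.nroots - 1) μ : GL D.Idx K) : Matrix D.Idx D.Idx K)
      (Sum.inr ⟨D.nroots - 1, hρ⟩) (Sum.inr ⟨D.nroots - 1, hρ⟩) with hdρ
    calc e * xg D hD (bglBeta D) 1 * e⁻¹
        = u * (hg D hD (D.nroots - 1) μ * (u⁻¹ * xg D hD (bglBeta D) 1 * u) *
            (hg D hD (D.nroots - 1) μ)⁻¹) * u⁻¹ := by rw [hedef]; group
      _ = u * (hg D hD (D.nroots - 1) μ * (xg D hD (bglBeta D) 1 * xg D hD (D.nroots - 1) f₁) *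
            (hg D hD (D.nroots - 1) μ)⁻¹) * u⁻¹ := by rw [hf₁]
      _ = u * ((hg D hD (D.nroots - 1) μ * xg D hD (bglBeta D) 1 * (hg D hD (D.nroots - 1) μ)⁻¹) *
            (hg D hD (D.nroots - 1) μ * xg D hD (D.nroots - 1) f₁ * (hg D hD (D.nroots - 1) μ)⁻¹)) *
            u⁻¹ := by group
      _ = u * (xg D hD (bglBeta D) μ * xg D hD (D.nroots - 1) (dρ * f₁)) * u⁻¹ := by
          rw [hactβ, hactρ]
      _ = (u * xg D hD (bglBeta D) μ * u⁻¹) * (u * xg D hD (D.nroots - 1) (dρ * f₁) * u⁻¹) := by group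
      _ = (xg D hD (bglBeta D) μ * xg D hD (D.nroots - 1) f₃) * xg D hD (D.nroots - 1) (dρ * f₁) := by
          rw [hf₃, hcu, mul_assoc (xg D hD (D.nroots - 1) (dρ * f₁)), mul_inv_cancel, mul_one]
      _ = xg D hD (bglBeta D) μ * xg D hD (D.nroots - 1) (f₃ + dρ * f₁) := by
          rw [mul_assoc, bglpa06_xg_add D hD _ hρ]
  obtain ⟨f, hyf⟩ := hy
  have h1q : (1 : K) ^ (p ^ a) = 1 := one_pow _
  have hβH : xg D hD (bglBeta D) (1 : K) ∈ H :=
    hL (x_mem_Lq D (p ^ a) (bglBeta D) 1 h1q _ (xg_val D hD _ _))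
  have hb0H : xg D hD (bglB0 D) (1 : K) ∈ H :=
    hL (x_mem_Lq D (p ^ a) (bglB0 D) 1 h1q _ (xg_val D hD _ _))
  have hyH : xg D hD (bglBeta D) μ * xg D hD (D.nroots - 1) f ∈ H := by
    rw [← hyf]
    exact H.mul_mem (H.mul_mem he' hβH) (H.inv_mem he')
  set y := xg D hD (bglBeta D) μ * xg D hD (D.nroots - 1) f with hydef
  -- the commutator with `xg b₀ 1`
  set e₀ : K := (bglN D : K) * (-μ) * 1 with he₀
  have hcb := pc_U_comm D hD (xg D hD (bglB0 D) (1 : K)) (bglpa06_xg_mem_U D hD _ hb0pos 1)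
  have hcomm : xg D hD (bglB0 D) (1 : K) * y = y * (xg D hD (bglB0 D) 1 * xg D hD (D.nroots - 1) e₀) := by
    rw [hydef, ← mul_assoc, bglpa06_comm_b0 D hD μ 1]
    -- x_β(μ) * x_{b₀}(1) * x_ρ(e₀) * x_ρ(f) = x_β(μ) * x_ρ(f) * (x_{b₀}(1) * x_ρ(e₀))
    have e1 : xg D hD (D.nroots - 1) e₀ * xg D hD (D.nroots - 1) f =
        xg D hD (D.nroots - 1) f * xg D hD (D.nroots - 1) e₀ := by
      rw [bglpa06_xg_add D hD _ hρ, bglpa06_xg_add D hD _ hρ, add_comm]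
    calc xg D hD (bglBeta D) μ * xg D hD (bglB0 D) 1 * xg D hD (D.nroots - 1) e₀ * xg D hD (D.nroots - 1) f
        = xg D hD (bglBeta D) μ * xg D hD (bglB0 D) 1 *
            (xg D hD (D.nroots - 1) e₀ * xg D hD (D.nroots - 1) f) := by group
      _ = xg D hD (bglBeta D) μ * (xg D hD (bglB0 D) 1 * xg D hD (D.nroots - 1) f) *
            xg D hD (D.nroots - 1) e₀ := by rw [e1]; group
      _ = xg D hD (bglBeta D) μ * (xg D hD (D.nroots - 1) f * xg D hD (bglB0 D) 1) *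
            xg D hD (D.nroots - 1) e₀ := by rw [hcb f]
      _ = xg D hD (bglBeta D) μ * xg D hD (D.nroots - 1) f *
            (xg D hD (bglB0 D) 1 * xg D hD (D.nroots - 1) e₀) := by group
  have hwH : xg D hD (D.nroots - 1) e₀ ∈ H := by
    have : xg D hD (D.nroots - 1) e₀ = (xg D hD (bglB0 D) (1 : K))⁻¹ * y⁻¹ * xg D hD (bglB0 D) 1 * y := by
      rw [mul_assoc _ _ y, hcomm]; group
    rw [this]
    exact H.mul_mem (H.mul_mem (H.mul_mem (H.inv_mem hb0H) (H.inv_mem hyH)) hb0H) hyH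
  have hrat := hR (D.nroots - 1) hρ e₀ _ (xg_val D hD _ _) hwH
  -- `e₀ = c * μ` with `c = -N` in the prime field
  have hc : e₀ = ((-(bglN D) : ℤ) : K) * μ := by
    rw [he₀]; push_cast; ring
  have hcq := bglpa07_intCast_pow (K := K) p a (-(bglN D))
  have hc0 : ((-(bglN D) : ℤ) : K) ≠ 0 := by
    rcases hN with h | h | h | h <;> rw [h] <;> push_cast <;> norm_num <;> exact h2K
  rw [hc, mul_pow, hcq] at hrat
  have hμq : μ ^ (p ^ a) = μ := mul_left_cancel₀ hc0 hrat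
  rcases hk μ hμq with h | h
  · exact hμ0 h
  · rw [h] at hμ
    apply h2K
    linear_combination hμ

end Cfsg.Agent.Lib.Helper10.BGL
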