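import Cfsg.Agent.Lib.Helper25.BGLPC07
import Cfsg.Agent.Lib.Helper25.BGLPA07
import Cfsg.Agent.Lib.Helper29.BGLPA02
import Cfsg.Agent.Lib.helper15.BGLPA03
import Cfsg.Agent.Lib.Helper13.BGLPA04core

/-!
# Project BGL, row PA08: `pair_main` (assembly of block PA)
-/

set_option autoImplicit false

namespace Cfsg.Agent.Lib.Helper10.BGL

open Cfsg.Lie Cfsg.Lie.ChevalleyDatum Cfsg.Agent.Lib.helper8

universe u

variable {K : Type u} [Field K]

/-- PA08: for odd `p` the entry `(-ρ, ρ)` of every element of `H` is rational. -/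
theorem pair_main [Finite K] (p : ℕ) [Fact p.Prime] [CharP K p] (hp : p ≠ 2) (D : ChevalleyDatum)
    (hD : D ∈ [chevG2, chevB2, chevD4, chevF4, chevE6, chevE7, chevE8]) (a : ℕ) (ha : 1 ≤ a)
    (H : Subgroup (GL D.Idx K)) (hH : H ≤ D.group K) (hL : Lq D K (p ^ a) ≤ H)
    (hR : RootRat D (p ^ a) H) :
    ∀ h ∈ H, Rt (p ^ a) (topEntry D ((h : GL D.Idx K) : Matrix D.Idx D.Idx K)) := by
  intro h hh
  obtain ⟨u, hu, t, ht, r', hr', c₁, c₂, hc₁, hc₂, -, e1, e2, etop⟩ :=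
    pc_bruhat_top D hD h (hH hh)
  rw [etop]
  by_cases hr0 : r' = 0
  · rw [if_pos hr0]
    rw [hr0] at e2
    rcases pa_generic p hp D hD a ha H hL hR h hh (u * t) c₁ c₂ hc₁ hc₂ e1 e2 with hrt | ⟨hsq, hk⟩
    · exact hrt
    · exfalso
      have hq : Odd (p ^ a) := (Nat.Prime.odd_of_ne_two Fact.out hp).pow
      have he := bglpa04_core D hD (pa_phi D hD) (p ^ a) hq H hL h hh (u * t) c₁ c₂ hc₁ hc₂ e1 e2 hsq
      exact pa_exc_contra p hp D hD a H hL hR u hu t ht (-(c₁ * c₂))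
        (by rw [neg_sq]; exact hsq) hk he
  · rw [if_neg hr0]
    show (0 : K) ^ (p ^ a) = 0
    exact zero_pow (pow_ne_zero a (Nat.Prime.ne_zero Fact.out))

end Cfsg.Agent.Lib.Helper10.BGL
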