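import Cfsg.Agent.Lib.Helper25.BGLSE03
import Cfsg.Agent.Lib.Helper12.BGLSE05core
import Cfsg.Agent.Lib.Helper11.BGLSE06
import Cfsg.Agent.Lib.Helper26.BGLSE04
import Cfsg.Agent.Lib.Helper29.BGLPA02
import Cfsg.Agent.Lib.helper2.BGLPC01
import Cfsg.Agent.Lib.Helper10.BGL.Bridge

/-!
# Project BGL, row SE07: `se_main` (assembly of block SE, characteristic 2)
-/

set_option autoImplicit false

namespace Cfsg.Agent.Lib.Helper10.BGL

open Cfsg.Lie Cfsg.Lie.ChevalleyDatum Cfsg.Agent.Lib.helper8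

universe u

variable {K : Type u} [Field K]

/-- SE07: the strongly embedded ending. -/
theorem se_main [Finite K] [CharP K 2] (D : ChevalleyDatum)
    (hD : D ∈ [chevG2, chevB2, chevD4, chevF4, chevE6, chevE7, chevE8]) (a : ℕ) (ha : 1 ≤ a)
    (H : Subgroup (GL D.Idx K)) (hH : H ≤ D.group K) (hL : Lq D K (2 ^ a) ≤ H)
    (hN : ∀ R : Subgroup (GL D.Idx K), R ≤ H →
      (∀ g ∈ R, RatM D (2 ^ a) ((g : GL D.Idx K) : Matrix D.Idx D.Idx K)) →
      IsPGroup 2 R → R ≠ ⊥ → ∀ g ∈ H, g ∈ Subgroup.normalizer (R : Set (GL D.Idx K)) →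
      RatM D (2 ^ a) ((g : GL D.Idx K) : Matrix D.Idx D.Idx K)) :
    ∀ h ∈ H, RatM D (2 ^ a) ((h : GL D.Idx K) : Matrix D.Idx D.Idx K) := by
  classical
  have : Fact (Nat.Prime 2) := ⟨Nat.prime_two⟩
  by_contra hcon
  push Not at hcon
  obtain ⟨h, hh, hnr⟩ := hcon
  set M : Subgroup (GL D.Idx K) := ratS (K := K) 2 D a with hMdef
  set M₀ : Subgroup ↥H := M.subgroupOf H with hM₀def
  have hmemM₀ : ∀ x : ↥H, x ∈ M₀ ↔ RatM D (2 ^ a) ((x : GL D.Idx K) : Matrix D.Idx D.Idx K) := by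
    intro x
    rw [hM₀def, Subgroup.mem_subgroupOf, hMdef, mem_ratS]
  have hne : M₀ ≠ ⊤ := by
    intro htop
    apply hnr
    have : (⟨h, hh⟩ : ↥H) ∈ M₀ := by rw [htop]; exact Subgroup.mem_top _
    exact (hmemM₀ _).1 this
  have h1q : (1 : K) ^ (2 ^ a) = 1 := one_pow _
  have hxL : ∀ r : ℕ, xg D hD r (1 : K) ∈ Lq D K (2 ^ a) := fun r =>
    x_mem_Lq D (2 ^ a) r 1 h1q _ (xg_val D hD _ _)
  obtain ⟨ho1, ho2, ho3, hw4, hwodd⟩ :=
    bglse05_core (K := K) D hD (pc_tab D hD) (se_orth_tab D hD) (pa_phi D hD)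
  -- the three involutions as elements of `H`
  set z : ↥H := ⟨xg D hD (D.nroots - 1) (1 : K), hL (hxL _)⟩ with hzdef
  set t₁ : ↥H := ⟨xg D hD (D.nroots - 1) (1 : K) * xg D hD (bglOrth D) 1,
    hL ((Lq D K (2 ^ a)).mul_mem (hxL _) (hxL _))⟩ with ht₁def
  set t₂ : ↥H := ⟨xg D hD 0 (1 : K), hL (hxL _)⟩ with ht₂def
  have hz2 : orderOf z = 2 := by rw [← Subgroup.orderOf_coe]; exact ho1
  have ht₁2 : orderOf t₁ = 2 := by rw [← Subgroup.orderOf_coe]; exact ho2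
  have ht₂2 : orderOf t₂ = 2 := by rw [← Subgroup.orderOf_coe]; exact ho3
  have hzM : z ∈ M₀ := by
    rw [hmemM₀]
    exact Lq_rat 2 D a _ (hxL _)
  -- the normaliser hypothesis
  have hN' : ∀ R : Subgroup ↥H, R ≤ M₀ → IsPGroup 2 R → R ≠ ⊥ →
      Subgroup.normalizer (R : Set ↥H) ≤ M₀ := by
    intro R hRM hR2 hRne g hg
    rw [hmemM₀]
    refine hN (R.map H.subtype) ?_ ?_ ?_ ?_ g.1 g.2 ?_
    · rintro x ⟨y, _, rfl⟩
      exact y.2
    · rintro x ⟨y, hy, rfl⟩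
      exact (hmemM₀ y).1 (hRM hy)
    · exact hR2.map H.subtype
    · intro hbot
      apply hRne
      rw [eq_bot_iff]
      intro y hy
      have : H.subtype y ∈ R.map H.subtype := Subgroup.mem_map_of_mem _ hy
      rw [hbot, Subgroup.mem_bot] at this
      rw [Subgroup.mem_bot]
      exact Subtype.ext this
    · rw [Subgroup.mem_normalizer_iff]
      rw [Subgroup.mem_normalizer_iff] at hg
      intro x
      constructor
      · rintro ⟨y, hy, rfl⟩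
        exact ⟨g * y * g⁻¹, (hg y).1 hy, rfl⟩
      · rintro ⟨y', hy', hyx⟩
        have hxH : x ∈ H := by
          have : x = (g : GL D.Idx K)⁻¹ * (y' : GL D.Idx K) * (g : GL D.Idx K) := by
            have h3 : ((y' : ↥H) : GL D.Idx K) = (g : GL D.Idx K) * x * (g : GL D.Idx K)⁻¹ := hyx
            rw [h3]; group
          rw [this]
          exact H.mul_mem (H.mul_mem (H.inv_mem g.2) y'.2) g.2
        refine ⟨⟨x, hxH⟩, ?_, rfl⟩
        have : g * ⟨x, hxH⟩ * g⁻¹ = y' := Subtype.ext hyx.symm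
        apply (hg ⟨x, hxH⟩).2
        rw [this]
        exact hy'
  have hconj := se_abs M₀ hne z hzM hz2 hN'
  obtain ⟨g₁, hg₁⟩ := isConj_iff.1 (hconj z t₁ hz2 ht₁2)
  obtain ⟨g₂, hg₂⟩ := isConj_iff.1 (hconj z t₂ hz2 ht₂2)
  -- back to `GL`
  have e₁ : (g₁ : GL D.Idx K) * xg D hD (D.nroots - 1) (1 : K) * (g₁ : GL D.Idx K)⁻¹ =
      xg D hD (D.nroots - 1) (1 : K) * xg D hD (bglOrth D) 1 := congrArg Subtype.val hg₁
  have e₂ : (g₂ : GL D.Idx K) * xg D hD (D.nroots - 1) (1 : K) * (g₂ : GL D.Idx K)⁻¹ =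
      xg D hD 0 (1 : K) := congrArg Subtype.val hg₂
  set g : GL D.Idx K := (g₁ : GL D.Idx K)⁻¹ * (g₂ : GL D.Idx K) with hgdef
  have hgG : g ∈ D.group K := hH (H.mul_mem (H.inv_mem g₁.2) g₂.2)
  set w' := xg D hD (D.nroots - 1) (1 : K) * (g * xg D hD (D.nroots - 1) (1 : K) * g⁻¹) with hw'def
  have hw : xg D hD (D.nroots - 1) (1 : K) * xg D hD (bglOrth D) 1 * xg D hD 0 1 =
      MulAut.conj (g₁ : GL D.Idx K) w' := by
    rw [← e₁, ← e₂, hw'def, hgdef, MulAut.conj_apply]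
    group
  rcases se_pair_order D hD g hgG with h4 | hodd
  · apply hw4
    rw [hw, ← map_pow, h4, map_one]
  · apply hwodd
    rw [hw]
    have : orderOf (MulAut.conj (g₁ : GL D.Idx K) w') = orderOf w' :=
      orderOf_injective (MulAut.conj (g₁ : GL D.Idx K)).toMonoidHom (MulEquiv.injective _) w'
    rw [this]
    exact hodd

end Cfsg.Agent.Lib.Helper10.BGL
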