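import Cfsg.Agent.Lib.Helper25.BGL.PCDefs
import Cfsg.Agent.Lib.helper8.ChevGroup
import Cfsg.Agent.Lib.helper8.ChevK

/-!
# Project BGL, row PC05: `pc_H_act` (the torus acts on root elements through its diagonal entries)
-/

set_option autoImplicit false

namespace Cfsg.Agent.Lib.Helper10.BGL

open Cfsg.Lie Cfsg.Lie.ChevalleyDatum Cfsg.Agent.Lib.helper8

universe u

variable {K : Type u} [Field K]

/-- the table facts on `ρ` needed here (own copy of a part of PC01) -/
theorem bglpc05_tab (D : ChevalleyDatum) (hD : Seven D) :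
    2 ≤ D.nroots ∧ D.negIdx.getD (D.nroots - 1) 0 = 0 := by
  simp only [Seven, List.mem_cons, List.not_mem_nil, or_false] at hD
  rcases hD with rfl | rfl | rfl | rfl | rfl | rfl | rfl <;> decide +kernel

/-- the invariant of the induction -/
def bglpc05_Inv (D : ChevalleyDatum) (h0 : 0 < D.nroots) (t : GL D.Idx K) : Prop :=
  (∀ (r : ℕ) (hr : r < D.nroots) (s : K), (t : Matrix D.Idx D.Idx K) * D.x K r s =
    D.x K r ((t : Matrix D.Idx D.Idx K) (Sum.inr ⟨r, hr⟩) (Sum.inr ⟨r, hr⟩) * s) *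
      (t : Matrix D.Idx D.Idx K)) ∧
  (t : Matrix D.Idx D.Idx K) (iBot D h0) (iBot D h0) *
    (t : Matrix D.Idx D.Idx K) (iTop D h0) (iTop D h0) = 1

theorem bglpc05_diag_mul {ι : Type*} [Fintype ι] [DecidableEq ι] (a b : GL ι K) (da db : ι → K)
    (ha : (a : Matrix ι ι K) = Matrix.diagonal da) (hb : (b : Matrix ι ι K) = Matrix.diagonal db) (i : ι) :
    ((a * b : GL ι K) : Matrix ι ι K) i i = (a : Matrix ι ι K) i i * (b : Matrix ι ι K) i i := by
  rw [Units.val_mul, ha, hb, Matrix.diagonal_mul_diagonal, Matrix.diagonal_apply_eq,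
    Matrix.diagonal_apply_eq, Matrix.diagonal_apply_eq]

theorem bglpc05_inv_entry {ι : Type*} [Fintype ι] [DecidableEq ι] (a : GL ι K) (da da' : ι → K)
    (ha : (a : Matrix ι ι K) = Matrix.diagonal da)
    (ha' : ((a⁻¹ : GL ι K) : Matrix ι ι K) = Matrix.diagonal da') (i : ι) :
    (a : Matrix ι ι K) i i * ((a⁻¹ : GL ι K) : Matrix ι ι K) i i = 1 := by
  have h := bglpc05_diag_mul a a⁻¹ da da' ha ha' i
  rw [mul_inv_cancel, Units.val_one, Matrix.one_apply_eq] at h
  exact h.symm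

theorem bglpc05_inv (D : ChevalleyDatum) (hD : Seven D) (h0 : 0 < D.nroots) (t : GL D.Idx K)
    (ht : t ∈ D.diagonalSubgroup K) : bglpc05_Inv D h0 t := by
  have hB := h8base_all.{u} D hD
  obtain ⟨h2, hneg⟩ := bglpc05_tab D hD
  have hρ : D.nroots - 1 < D.nroots := by omega
  have hdiag : ∀ g ∈ D.diagonalSubgroup K, ∃ d : D.Idx → K,
      (g : Matrix D.Idx D.Idx K) = Matrix.diagonal d := fun g hg => h8_diag_of_mem_H D hB g hg
  unfold ChevalleyDatum.diagonalSubgroup at ht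
  induction ht using Subgroup.closure_induction with
  | mem g hg =>
    obtain ⟨r', c, hr', hc, hg⟩ := hg
    have hd := hB.hdiag K r' hr' c hc
    refine ⟨?_, ?_⟩
    · intro r hr s
      rw [hg, hd, Matrix.diagonal_apply_eq, ← hd]
      exact h8hMat_conj_x D hB.ca r' r hr c hc s hd
    · rw [hg, hd]
      unfold iBot iTop
      rw [Matrix.diagonal_apply_eq, Matrix.diagonal_apply_eq]
      show c ^ (h8K D r' 0) * c ^ (h8K D r' (D.nroots - 1)) = 1
      have e := h8K_neg D hB.ca r' (D.nroots - 1) hρ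
      rw [hneg] at e
      rw [e, zpow_neg, inv_mul_cancel₀ (zpow_ne_zero _ hc)]
  | one =>
    refine ⟨?_, ?_⟩
    · intro r hr s
      rw [Units.val_one, Matrix.one_apply_eq, one_mul, one_mul, mul_one]
    · rw [Units.val_one, Matrix.one_apply_eq, Matrix.one_apply_eq, one_mul]
  | mul a b ha hb iha ihb =>
    obtain ⟨da, hda⟩ := hdiag a ha
    obtain ⟨db, hdb⟩ := hdiag b hb
    refine ⟨?_, ?_⟩
    · intro r hr s
      rw [bglpc05_diag_mul a b da db hda hdb, Units.val_mul, mul_assoc, ihb.1 r hr s, ← mul_assoc,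
        iha.1 r hr _, mul_assoc, mul_assoc]
    · rw [bglpc05_diag_mul a b da db hda hdb, bglpc05_diag_mul a b da db hda hdb]
      have e1 := iha.2
      have e2 := ihb.2
      calc (a : Matrix D.Idx D.Idx K) (iBot D h0) (iBot D h0) * (b : Matrix D.Idx D.Idx K) (iBot D h0) (iBot D h0) *
          ((a : Matrix D.Idx D.Idx K) (iTop D h0) (iTop D h0) * (b : Matrix D.Idx D.Idx K) (iTop D h0) (iTop D h0))
          = ((a : Matrix D.Idx D.Idx K) (iBot D h0) (iBot D h0) * (a : Matrix D.Idx D.Idx K) (iTop D h0) (iTop D h0)) *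
            ((b : Matrix D.Idx D.Idx K) (iBot D h0) (iBot D h0) * (b : Matrix D.Idx D.Idx K) (iTop D h0) (iTop D h0)) := by ring
        _ = 1 := by rw [e1, e2, one_mul]
  | inv a ha iha =>
    obtain ⟨da, hda⟩ := hdiag a ha
    obtain ⟨da', hda'⟩ := hdiag a⁻¹ (Subgroup.inv_mem _ ha)
    have hinv := bglpc05_inv_entry a da da' hda hda'
    refine ⟨?_, ?_⟩
    · intro r hr s
      have e := iha.1 r hr (((a⁻¹ : GL D.Idx K) : Matrix D.Idx D.Idx K) (Sum.inr ⟨r, hr⟩) (Sum.inr ⟨r, hr⟩) * s)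
      rw [← mul_assoc, hinv, one_mul] at e
      -- e : a * x(a'_rr s) = x(s) * a
      have e' : ((a⁻¹ : GL D.Idx K) : Matrix D.Idx D.Idx K) * ((a : Matrix D.Idx D.Idx K) *
          D.x K r (((a⁻¹ : GL D.Idx K) : Matrix D.Idx D.Idx K) (Sum.inr ⟨r, hr⟩) (Sum.inr ⟨r, hr⟩) * s)) *
          ((a⁻¹ : GL D.Idx K) : Matrix D.Idx D.Idx K) =
          ((a⁻¹ : GL D.Idx K) : Matrix D.Idx D.Idx K) * (D.x K r s * (a : Matrix D.Idx D.Idx K)) *
          ((a⁻¹ : GL D.Idx K) : Matrix D.Idx D.Idx K) := by rw [e]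
      have i1 : ((a⁻¹ : GL D.Idx K) : Matrix D.Idx D.Idx K) * (a : Matrix D.Idx D.Idx K) = 1 := by
        rw [← Units.val_mul, inv_mul_cancel, Units.val_one]
      have i2 : (a : Matrix D.Idx D.Idx K) * ((a⁻¹ : GL D.Idx K) : Matrix D.Idx D.Idx K) = 1 := by
        rw [← Units.val_mul, mul_inv_cancel, Units.val_one]
      rw [← mul_assoc, i1, one_mul, mul_assoc, mul_assoc, i2, mul_one] at e'
      exact e'.symm
    · have hb := hinv (iBot D h0)
      have ht := hinv (iTop D h0)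
      have e1 := iha.2
      have hb0 : (a : Matrix D.Idx D.Idx K) (iBot D h0) (iBot D h0) ≠ 0 := by
        intro h; rw [h, zero_mul] at hb; exact zero_ne_one hb
      have ht0 : (a : Matrix D.Idx D.Idx K) (iTop D h0) (iTop D h0) ≠ 0 := by
        intro h; rw [h, zero_mul] at ht; exact zero_ne_one ht
      have : (a : Matrix D.Idx D.Idx K) (iBot D h0) (iBot D h0) * (a : Matrix D.Idx D.Idx K) (iTop D h0) (iTop D h0) *
          (((a⁻¹ : GL D.Idx K) : Matrix D.Idx D.Idx K) (iBot D h0) (iBot D h0) *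
            ((a⁻¹ : GL D.Idx K) : Matrix D.Idx D.Idx K) (iTop D h0) (iTop D h0)) = 1 := by
        calc _ = ((a : Matrix D.Idx D.Idx K) (iBot D h0) (iBot D h0) * ((a⁻¹ : GL D.Idx K) : Matrix D.Idx D.Idx K) (iBot D h0) (iBot D h0)) *
              ((a : Matrix D.Idx D.Idx K) (iTop D h0) (iTop D h0) * ((a⁻¹ : GL D.Idx K) : Matrix D.Idx D.Idx K) (iTop D h0) (iTop D h0)) := by ring
          _ = 1 := by rw [hb, ht, one_mul]
      rw [e1, one_mul] at this
      exact this

/-- PC05: the torus is diagonal, acts on `X_r` through its diagonal entry at `e_r`, and the entries at `e_{-ρ}`, `e_ρ` are inverse. -/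
theorem pc_H_act (D : ChevalleyDatum) (hD : Seven D) (t : GL D.Idx K) (ht : t ∈ D.diagonalSubgroup K) :
    (∀ i j : D.Idx, i ≠ j → (t : Matrix D.Idx D.Idx K) i j = 0) ∧
    (∀ (r : ℕ) (hr : r < D.nroots) (s : K), t * xg D hD r s * t⁻¹ =
      xg D hD r ((t : Matrix D.Idx D.Idx K) (Sum.inr ⟨r, hr⟩) (Sum.inr ⟨r, hr⟩) * s)) ∧
    (∀ h0 : 0 < D.nroots, (t : Matrix D.Idx D.Idx K) (iBot D h0) (iBot D h0) *
      (t : Matrix D.Idx D.Idx K) (iTop D h0) (iTop D h0) = 1) := by
  have hB := h8base_all.{u} D hD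
  obtain ⟨h2, -⟩ := bglpc05_tab D hD
  have h0 : 0 < D.nroots := by omega
  obtain ⟨d, hd⟩ := h8_diag_of_mem_H D hB t ht
  have hI := bglpc05_inv D hD h0 t ht
  refine ⟨?_, ?_, fun _ => hI.2⟩
  · intro i j hij
    rw [hd, Matrix.diagonal_apply_ne _ hij]
  · intro r hr s
    rw [mul_inv_eq_iff_eq_mul]
    apply Units.ext
    rw [Units.val_mul, Units.val_mul, xg_val, xg_val]
    exact hI.1 r hr s

end Cfsg.Agent.Lib.Helper10.BGL
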