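import Mathlib
import Cfsg.Agent.Lib.Helper10.BGL.UkzRel
import Cfsg.Agent.Lib.Helper25.BGLPC05
import Cfsg.Agent.Lib.helper8.ChevCommAll

/-!
# Project BGL (helper10), sub-block UKZ, row UKZ6 (helper25), VERBATIM: `ukz_top_gen`

C2 ending, generic: `x_ρ(t) h ∈ H`, `h` a rational torus element, `D ≠ B₂`  ⇒  `t ∈ k`.
Table `bglukz6_tab` (`decide +kernel`), `ukz_comm`, `pc_H_act` for `h⁻¹`, `ukz_rat`.
-/

set_option autoImplicit false

namespace Cfsg.Agent.Lib.Helper10.BGL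

open Cfsg.Lie Cfsg.Lie.ChevalleyDatum Cfsg.Agent.Lib.helper8

universe u

/-- the table: `[x_{-β}, x_ρ]` has the single term `x_k`, coefficient `±1`, exponents `(1, 1)` -/
theorem bglukz6_tab (D : ChevalleyDatum)
    (hD : D ∈ [chevG2, chevD4, chevF4, chevE6, chevE7, chevE8]) :
    ∃ (k : ℕ) (c : ℤ), D.commTerms (D.nroots - 1) 1 = [(k, c, 1, 1)] ∧ (c = 1 ∨ c = -1) ∧
      k < D.nroots ∧ 1 < D.nroots ∧ (1 : ℕ) ≠ D.nroots - 1 ∧
      (1 : ℕ) ≠ D.negIdx.getD (D.nroots - 1) 0 := by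
  simp only [List.mem_cons, List.not_mem_nil, or_false] at hD
  rcases hD with rfl | rfl | rfl | rfl | rfl | rfl
  · exact ⟨6, 1, by decide +kernel⟩
  · exact ⟨14, 1, by decide +kernel⟩
  · exact ⟨24, 1, by decide +kernel⟩
  · exact ⟨46, 1, by decide +kernel⟩
  · exact ⟨93, 1, by decide +kernel⟩
  · exact ⟨120, 1, by decide +kernel⟩

variable {K : Type u} [Field K] [Finite K]

omit [Finite K] in
/-- a diagonal unit has nonzero diagonal entries -/
theorem bglukz6_diag_ne (D : ChevalleyDatum) (g : GL D.Idx K)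
    (hg : ∀ i j : D.Idx, i ≠ j → (g : Matrix D.Idx D.Idx K) i j = 0) (i : D.Idx) :
    (g : Matrix D.Idx D.Idx K) i i ≠ 0 := by
  intro h0
  have h1 : ((g * g⁻¹ : GL D.Idx K) : Matrix D.Idx D.Idx K) i i = 1 := by
    rw [mul_inv_cancel]
    simp
  rw [Units.val_mul, Matrix.mul_apply, Finset.sum_eq_single i] at h1
  · rw [h0, zero_mul] at h1
    exact zero_ne_one h1
  · intro j _ hj
    rw [hg i j (Ne.symm hj), zero_mul]
  · intro hi
    exact absurd (Finset.mem_univ i) hi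

/-- UKZ6 [M]  C2 ending, generic: `x_ρ(t) h ∈ H`, `h` a rational torus element, `D ≠ B₂`. -/
theorem ukz_top_gen (p : ℕ) [Fact p.Prime] [CharP K p] (D : ChevalleyDatum)
    (hD : D ∈ [chevG2, chevD4, chevF4, chevE6, chevE7, chevE8])
    (hB : H8Base.{u} D) (a : ℕ) (H : Subgroup (GL D.Idx K)) (hL : Lq D K (p ^ a) ≤ H)
    (hR : RootRat D (p ^ a) H) (h : GL D.Idx K) (hh : h ∈ D.diagonalSubgroup K)
    (hrat : RatM D (p ^ a) (h : Matrix D.Idx D.Idx K)) (t : K)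
    (hz : h8xU D hB (D.nroots - 1) t * h ∈ H) : Rt (p ^ a) t := by
  have hD7 : Seven D := by
    simp only [List.mem_cons, List.not_mem_nil, or_false] at hD
    rcases hD with rfl | rfl | rfl | rfl | rfl | rfl <;> simp [Seven]
  obtain ⟨k, c, htab, hc, hk, h1n, h1ne, h1neg⟩ := bglukz6_tab D hD
  have hC := h8commAll.{u} D hD7
  have hcomm := ukz_comm D hB hC (D.nroots - 1) 1 (by omega) h1n h1ne h1neg t (1 : K)
  have hword : h8wordU D hB (D.commWord K (D.nroots - 1) 1 t 1) = h8xU D hB k (-((c : ℤ) : K) * t) := by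
    unfold ChevalleyDatum.commWord
    rw [htab, List.map_cons, List.map_nil]
    unfold h8wordU
    rw [List.map_cons, List.map_nil, List.prod_cons, List.prod_nil, mul_one]
    congr 1
    show ((c : ℤ) : K) * (-t) ^ 1 * 1 ^ 1 = -((c : ℤ) : K) * t
    ring
  rw [hword] at hcomm
  -- the torus element `h⁻¹`
  have hhi : h⁻¹ ∈ D.diagonalSubgroup K := Subgroup.inv_mem _ hh
  obtain ⟨hdiag, hact, -⟩ := pc_H_act D hD7 h⁻¹ hhi
  have hrati : RatM D (p ^ a) ((h⁻¹ : GL D.Idx K) : Matrix D.Idx D.Idx K) := by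
    rw [← mem_ratS] at hrat ⊢
    exact Subgroup.inv_mem _ hrat
  have hx1 : h8xU D hB 1 (1 : K) ∈ H := ukz_mem D hB (p ^ a) H hL 1 1 (one_pow _)
  have hconj : (h8xU D hB (D.nroots - 1) t * h)⁻¹ * h8xU D hB 1 (1 : K) *
      (h8xU D hB (D.nroots - 1) t * h) ∈ H := H.mul_mem (H.mul_mem (H.inv_mem hz) hx1) hz
  have e1 : (h8xU D hB (D.nroots - 1) t * h)⁻¹ * h8xU D hB 1 (1 : K) *
      (h8xU D hB (D.nroots - 1) t * h) =
      (h⁻¹ * h8xU D hB 1 (1 : K) * h⁻¹⁻¹) * (h⁻¹ * h8xU D hB k (-((c : ℤ) : K) * t) * h⁻¹⁻¹) := by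
    have : (h8xU D hB (D.nroots - 1) t * h)⁻¹ * h8xU D hB 1 (1 : K) *
        (h8xU D hB (D.nroots - 1) t * h) =
        h⁻¹ * (h8xU D hB (D.nroots - 1) t)⁻¹ * (h8xU D hB 1 (1 : K) * h8xU D hB (D.nroots - 1) t) * h := by
      group
    rw [this, hcomm]
    group
  have a1 := hact 1 h1n (1 : K)
  have a2 := hact k hk (-((c : ℤ) : K) * t)
  change h⁻¹ * h8xU D hB 1 (1 : K) * h⁻¹⁻¹ = h8xU D hB 1 _ at a1
  change h⁻¹ * h8xU D hB k (-((c : ℤ) : K) * t) * h⁻¹⁻¹ = h8xU D hB k _ at a2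
  rw [e1, a1, a2] at hconj
  set d1 : K := ((h⁻¹ : GL D.Idx K) : Matrix D.Idx D.Idx K) (Sum.inr ⟨1, h1n⟩) (Sum.inr ⟨1, h1n⟩) with hd1
  set dk : K := ((h⁻¹ : GL D.Idx K) : Matrix D.Idx D.Idx K) (Sum.inr ⟨k, hk⟩) (Sum.inr ⟨k, hk⟩) with hdk
  have hd1r : d1 ^ p ^ a = d1 := hrati _ _
  have hdkr : dk ^ p ^ a = dk := hrati _ _
  have hdk0 : dk ≠ 0 := bglukz6_diag_ne D h⁻¹ hdiag _
  have hm1 : h8xU D hB 1 (d1 * 1) ∈ H := ukz_mem D hB (p ^ a) H hL 1 _ (by rw [mul_one]; exact hd1r)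
  have hmk : h8xU D hB k (dk * (-((c : ℤ) : K) * t)) ∈ H := by
    have := H.mul_mem (H.inv_mem hm1) hconj
    rwa [inv_mul_cancel_left] at this
  have hr := ukz_rat D hB (p ^ a) H hR k hk _ hmk
  -- field arithmetic
  have hcr : (((c : ℤ) : K)) ^ p ^ a = ((c : ℤ) : K) := by
    have : ExpChar K p := ExpChar.prime (Fact.out : p.Prime)
    have := map_intCast (iterateFrobenius K p a) c
    rwa [iterateFrobenius_def] at this
  have hc0 : ((c : ℤ) : K) ≠ 0 := by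
    rcases hc with rfl | rfl <;> simp
  unfold Rt
  have hneg : (-((c : ℤ) : K)) ^ p ^ a = -((c : ℤ) : K) := by
    have : ExpChar K p := ExpChar.prime (Fact.out : p.Prime)
    have h2 := map_neg (iterateFrobenius K p a) ((c : ℤ) : K)
    rw [iterateFrobenius_def, iterateFrobenius_def, hcr] at h2
    exact h2
  rw [mul_pow, mul_pow, hdkr, hneg] at hr
  have h3 := mul_left_cancel₀ hdk0 hr
  exact mul_left_cancel₀ (neg_ne_zero.mpr hc0) h3

end Cfsg.Agent.Lib.Helper10.BGL
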