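import Mathlib
import Cfsg.Agent.Lib.Helper10.BGL.UkzRel
import Cfsg.Agent.Lib.Helper25.BGLPC05
import Cfsg.Agent.Lib.Helper25.BGLUKZ6

/-!
# Project BGL (helper10), sub-block UKZ, row UKZ5 (helper25), CORE: `bglukz5_core`

C2 ending in the bad cases `(B₂, 2)`, `(F₄, 2)`: `C(t1) E(t2) h ∈ H`, `h` a rational torus element ⇒ `t1, t2 ∈ k`.
`hsplit` is the statement of row UKZ4 (`ukz_split`) for the given `D hB a H`.
-/

set_option autoImplicit false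

namespace Cfsg.Agent.Lib.Helper10.BGL

open Cfsg.Lie Cfsg.Lie.ChevalleyDatum Cfsg.Agent.Lib.helper8

universe u

section grp
variable {G : Type*} [Group G]

/-- `(C E₂)⁻¹ B' (C E₂) = B' (A E₁)` from `B' C = C B' (A E₁)` when `E₂` commutes with `B'`, `A`, `E₁`. -/
theorem bglukz5_g1 {C E2 Bp A E1 : G} (hbc : Bp * C = C * Bp * (A * E1))
    (h1 : Commute E2 Bp) (h2 : Commute E2 A) (h3 : Commute E2 E1) :
    (C * E2)⁻¹ * Bp * (C * E2) = Bp * (A * E1) := by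
  have e1 : C⁻¹ * Bp * C = Bp * (A * E1) := by
    rw [mul_assoc, hbc]
    group
  have e2 : Commute E2 (Bp * (A * E1)) := h1.mul_right (h2.mul_right h3)
  calc (C * E2)⁻¹ * Bp * (C * E2) = E2⁻¹ * (C⁻¹ * Bp * C) * E2 := by group
    _ = E2⁻¹ * (Bp * (A * E1)) * E2 := by rw [e1]
    _ = Bp * (A * E1) := by rw [mul_assoc, ← e2.eq, inv_mul_cancel_left]

/-- `B⁻¹ (A E')⁻¹ B (A E') = C E` from `B A = A B (C E)` when `E'` commutes with `A`, `B`. -/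
theorem bglukz5_g2 {A B C E E' : G} (hba : B * A = A * B * (C * E))
    (h1 : Commute E' A) (h2 : Commute E' B) :
    B⁻¹ * (A * E')⁻¹ * B * (A * E') = C * E := by
  have e1 : B⁻¹ * A⁻¹ * B * A = C * E := by
    rw [mul_assoc (B⁻¹ * A⁻¹), hba]
    group
  have e2 : Commute E' (B⁻¹ * A⁻¹ * B * A) := ((h2.inv_right.mul_right h1.inv_right).mul_right h2).mul_right h1
  calc B⁻¹ * (A * E')⁻¹ * B * (A * E')
      = (B⁻¹ * E'⁻¹ * B) * (B⁻¹ * A⁻¹ * B * A) * E' := by group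
    _ = E'⁻¹ * (B⁻¹ * A⁻¹ * B * A) * E' := by
        have : B⁻¹ * E'⁻¹ * B = E'⁻¹ := by
          rw [mul_assoc, h2.inv_left.eq, inv_mul_cancel_left]
        rw [this]
    _ = C * E := by rw [mul_assoc, ← e2.eq, inv_mul_cancel_left, e1]

/-- `E⁻¹ A' E = A' (C B)` from `A' E = E A' (C B)`. -/
theorem bglukz5_g3 {Ap E C B : G} (hae : Ap * E = E * Ap * (C * B)) :
    E⁻¹ * Ap * E = Ap * (C * B) := by
  rw [mul_assoc, hae]
  group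

/-- `(C' B)⁻¹ A⁻¹ (C' B) A = C E` from `B A = A B (C E)` when `C'` commutes with `A`. -/
theorem bglukz5_g4 {A B C E C' : G} (hba : B * A = A * B * (C * E)) (h1 : Commute C' A) :
    (C' * B)⁻¹ * A⁻¹ * (C' * B) * A = C * E := by
  have e1 : B⁻¹ * A⁻¹ * B * A = C * E := by
    rw [mul_assoc (B⁻¹ * A⁻¹), hba]
    group
  have e2 : C'⁻¹ * A⁻¹ * C' = A⁻¹ := by
    rw [mul_assoc, ← h1.inv_right.eq, inv_mul_cancel_left]
  calc (C' * B)⁻¹ * A⁻¹ * (C' * B) * A = B⁻¹ * (C'⁻¹ * A⁻¹ * C') * B * A := by group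
    _ = C * E := by rw [e2, e1]

end grp

variable {K : Type u} [Field K] [Finite K]

/-- UKZ5 core -/
theorem bglukz5_core [CharP K 2] (D : ChevalleyDatum) (hD : D ∈ [chevB2, chevF4])
    (hB : H8Base.{u} D) (a : ℕ) (H : Subgroup (GL D.Idx K)) (hL : Lq D K (2 ^ a) ≤ H)
    (hsplit : ∀ t1 t2 : K, h8xU D hB (ukzC D) t1 * h8xU D hB (ukzE D) t2 ∈ H →
      Rt (2 ^ a) t1 ∧ Rt (2 ^ a) t2)
    (h : GL D.Idx K) (hh : h ∈ D.diagonalSubgroup K)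
    (hrat : RatM D (2 ^ a) (h : Matrix D.Idx D.Idx K)) (t1 t2 : K)
    (hz : h8xU D hB (ukzC D) t1 * h8xU D hB (ukzE D) t2 * h ∈ H) :
    Rt (2 ^ a) t1 ∧ Rt (2 ^ a) t2 := by
  have hD7 : Seven D := by
    simp only [List.mem_cons, List.not_mem_nil, or_false] at hD
    rcases hD with rfl | rfl <;> simp [Seven]
  have hrel : UkzRel D hB K := by
    simp only [List.mem_cons, List.not_mem_nil, or_false] at hD
    rcases hD with rfl | rfl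
    · exact ukz_rel_B2 hB
    · exact ukz_rel_F4 hB
  obtain ⟨iA, iB, iC, iE, iA', iB'⟩ : UkzIdx D := by
    simp only [List.mem_cons, List.not_mem_nil, or_false] at hD
    rcases hD with rfl | rfl <;>
      (unfold UkzIdx ukzA ukzB ukzC ukzE ukzA' ukzB'; decide)
  -- the torus element `h⁻¹`
  have hhi : h⁻¹ ∈ D.diagonalSubgroup K := Subgroup.inv_mem _ hh
  obtain ⟨hdiag, hact, -⟩ := pc_H_act D hD7 h⁻¹ hhi
  have hrati : RatM D (2 ^ a) ((h⁻¹ : GL D.Idx K) : Matrix D.Idx D.Idx K) := by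
    rw [← mem_ratS] at hrat ⊢
    exact Subgroup.inv_mem _ hrat
  have conj : ∀ (r : ℕ) (hr : r < D.nroots) (s : K), h⁻¹ * h8xU D hB r s * h =
      h8xU D hB r (((h⁻¹ : GL D.Idx K) : Matrix D.Idx D.Idx K) (Sum.inr ⟨r, hr⟩) (Sum.inr ⟨r, hr⟩) * s) := by
    intro r hr s
    have := hact r hr s
    rw [inv_inv] at this
    exact this
  have drat : ∀ (r : ℕ) (hr : r < D.nroots),
      (((h⁻¹ : GL D.Idx K) : Matrix D.Idx D.Idx K) (Sum.inr ⟨r, hr⟩) (Sum.inr ⟨r, hr⟩)) ^ 2 ^ a =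
        ((h⁻¹ : GL D.Idx K) : Matrix D.Idx D.Idx K) (Sum.inr ⟨r, hr⟩) (Sum.inr ⟨r, hr⟩) :=
    fun r hr => hrati _ _
  have dne : ∀ (r : ℕ) (hr : r < D.nroots),
      (((h⁻¹ : GL D.Idx K) : Matrix D.Idx D.Idx K) (Sum.inr ⟨r, hr⟩) (Sum.inr ⟨r, hr⟩)) ≠ 0 :=
    fun r hr => bglukz6_diag_ne D h⁻¹ hdiag _
  have one_mem : ∀ r : ℕ, h8xU D hB r (1 : K) ∈ H := fun r => ukz_mem D hB (2 ^ a) H hL r 1 (one_pow _)
  have conj3 : ∀ X Y Z : GL D.Idx K, h⁻¹ * (X * (Y * Z)) * h = (h⁻¹ * X * h) * ((h⁻¹ * Y * h) * (h⁻¹ * Z * h)) := by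
    intro X Y Z
    group
  -- a rational multiple: `d * t ∈ k`, `d ∈ k^×` gives `t ∈ k`
  have div : ∀ d t : K, d ^ 2 ^ a = d → d ≠ 0 → (d * t) ^ 2 ^ a = d * t → t ^ 2 ^ a = t := by
    intro d t hd hd0 hdt
    rw [mul_pow, hd] at hdt
    exact mul_left_cancel₀ hd0 hdt
  -- (i)
  have ht1 : Rt (2 ^ a) t1 := by
    have cEE : Commute (h8xU D hB (ukzE D) t2) (h8xU D hB (ukzE D) (t1 ^ 2 * 1)) := by
      unfold Commute SemiconjBy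
      rw [h8xU_add D hB _ iE, h8xU_add D hB _ iE, add_comm]
    have s1 := bglukz5_g1 (hrel.b'c t1 1) (hrel.eB' t2 1) (hrel.eA t2 (t1 * 1)) cEE
    have m1 : (h8xU D hB (ukzC D) t1 * h8xU D hB (ukzE D) t2 * h)⁻¹ * h8xU D hB (ukzB' D) (1 : K) *
        (h8xU D hB (ukzC D) t1 * h8xU D hB (ukzE D) t2 * h) ∈ H :=
      H.mul_mem (H.mul_mem (H.inv_mem hz) (one_mem _)) hz
    have e1 : (h8xU D hB (ukzC D) t1 * h8xU D hB (ukzE D) t2 * h)⁻¹ * h8xU D hB (ukzB' D) (1 : K) *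
        (h8xU D hB (ukzC D) t1 * h8xU D hB (ukzE D) t2 * h) =
        h⁻¹ * ((h8xU D hB (ukzC D) t1 * h8xU D hB (ukzE D) t2)⁻¹ * h8xU D hB (ukzB' D) (1 : K) *
          (h8xU D hB (ukzC D) t1 * h8xU D hB (ukzE D) t2)) * h := by
      group
    rw [e1, s1, conj3, conj _ iB', conj _ iA, conj _ iE] at m1
    have m2 := H.mul_mem (H.inv_mem (ukz_mem D hB (2 ^ a) H hL (ukzB' D)
      (((h⁻¹ : GL D.Idx K) : Matrix D.Idx D.Idx K) (Sum.inr ⟨ukzB' D, iB'⟩) (Sum.inr ⟨ukzB' D, iB'⟩) * 1)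
      (by rw [mul_one]; exact drat _ iB'))) m1
    rw [inv_mul_cancel_left] at m2
    -- `A(s) E(s') ∈ H`
    have s2 := bglukz5_g2 (hrel.ba
        (((h⁻¹ : GL D.Idx K) : Matrix D.Idx D.Idx K) (Sum.inr ⟨ukzA D, iA⟩) (Sum.inr ⟨ukzA D, iA⟩) * (t1 * 1)) 1)
      (hrel.eA (((h⁻¹ : GL D.Idx K) : Matrix D.Idx D.Idx K) (Sum.inr ⟨ukzE D, iE⟩) (Sum.inr ⟨ukzE D, iE⟩) * (t1 ^ 2 * 1)) _)
      (hrel.eB (((h⁻¹ : GL D.Idx K) : Matrix D.Idx D.Idx K) (Sum.inr ⟨ukzE D, iE⟩) (Sum.inr ⟨ukzE D, iE⟩) * (t1 ^ 2 * 1)) 1)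
    have m3 := H.mul_mem (H.mul_mem (H.mul_mem (H.inv_mem (one_mem (ukzB D))) (H.inv_mem m2)) (one_mem (ukzB D))) m2
    rw [s2] at m3
    have r1 := (hsplit _ _ m3).1
    unfold Rt at r1 ⊢
    rw [mul_one, mul_one] at r1
    exact div _ _ (drat _ iA) (dne _ iA) r1
  refine ⟨ht1, ?_⟩
  -- (ii)
  have hC : h8xU D hB (ukzC D) t1 ∈ H := ukz_mem D hB (2 ^ a) H hL _ _ ht1
  have hz2 : h8xU D hB (ukzE D) t2 * h ∈ H := by
    have := H.mul_mem (H.inv_mem hC) hz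
    rwa [mul_assoc, inv_mul_cancel_left] at this
  have s3 := bglukz5_g3 (hrel.a'e t2 1)
  have m1 : (h8xU D hB (ukzE D) t2 * h)⁻¹ * h8xU D hB (ukzA' D) (1 : K) * (h8xU D hB (ukzE D) t2 * h) ∈ H :=
    H.mul_mem (H.mul_mem (H.inv_mem hz2) (one_mem _)) hz2
  have e1 : (h8xU D hB (ukzE D) t2 * h)⁻¹ * h8xU D hB (ukzA' D) (1 : K) * (h8xU D hB (ukzE D) t2 * h) =
      h⁻¹ * ((h8xU D hB (ukzE D) t2)⁻¹ * h8xU D hB (ukzA' D) (1 : K) * h8xU D hB (ukzE D) t2) * h := by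
    group
  rw [e1, s3, conj3, conj _ iA', conj _ iC, conj _ iB] at m1
  have m2 := H.mul_mem (H.inv_mem (ukz_mem D hB (2 ^ a) H hL (ukzA' D)
    (((h⁻¹ : GL D.Idx K) : Matrix D.Idx D.Idx K) (Sum.inr ⟨ukzA' D, iA'⟩) (Sum.inr ⟨ukzA' D, iA'⟩) * 1)
    (by rw [mul_one]; exact drat _ iA'))) m1
  rw [inv_mul_cancel_left] at m2
  -- `C(s) B(v) ∈ H`
  have s4 := bglukz5_g4 (hrel.ba 1
      (((h⁻¹ : GL D.Idx K) : Matrix D.Idx D.Idx K) (Sum.inr ⟨ukzB D, iB⟩) (Sum.inr ⟨ukzB D, iB⟩) * (t2 * 1 ^ 2)))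
    (hrel.cA (((h⁻¹ : GL D.Idx K) : Matrix D.Idx D.Idx K) (Sum.inr ⟨ukzC D, iC⟩) (Sum.inr ⟨ukzC D, iC⟩) * (t2 * 1)) 1)
  have m3 := H.mul_mem (H.mul_mem (H.mul_mem (H.inv_mem m2) (H.inv_mem (one_mem (ukzA D)))) m2) (one_mem (ukzA D))
  rw [s4] at m3
  have r1 := (hsplit _ _ m3).1
  unfold Rt at r1 ⊢
  rw [one_mul, one_pow, mul_one] at r1
  exact div _ _ (drat _ iB) (dne _ iB) r1

end Cfsg.Agent.Lib.Helper10.BGL
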