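import Mathlib
import Cfsg.Agent.Lib.Helper25.SubsectionMatrix
import Cfsg.Agent.Lib.Helper25.BrauerFeit3
import Cfsg.Agent.Lib.Helper24.GaloisNorm

/-!
k(B)^2 ≤ p^{2d} l(b) for a major subsection (y,b) of a block B with all heights zero (su_main), via Galois-norm averaging of the p-adic unit entries p^d W^{y^j}(χ,ψ) over j prime to |y|.
-/

set_option autoImplicit false
set_option linter.style.haveILetI false
set_option linter.unusedVariables false
set_option warn.classDefReducibility false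
set_option maxHeartbeats 3200000

namespace Cfsg.Agent.Lib.Helper25
open scoped ComplexConjugate
open Polynomial
open Cfsg.Agent.Lib.helper2
open Cfsg.Agent.Lib.helper7
open Cfsg.Agent.Lib.Helper24
section

/-- the conjugate of an `n`-th root of unity is its `(n-1)`-st power -/
theorem su_conj_root (ζ : ℂ) (n : ℕ) (hn : n ≠ 0) (h : ζ ^ n = 1) : conj ζ = ζ ^ (n - 1) := by
  have h1 : ‖ζ‖ = 1 := Complex.norm_eq_one_of_pow_eq_one h hn
  rw [← Complex.inv_eq_conj h1]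
  have h2 : ζ * ζ ^ (n - 1) = 1 := by
    rw [← pow_succ', Nat.sub_add_cancel (Nat.one_le_iff_ne_zero.mpr hn), h]
  exact (eq_inv_of_mul_eq_one_right h2).symm ▸ rfl

open Classical in
/-- the entries of the subsection matrices for `y^j` are the values at `ζ^j` of one integer
polynomial -/
theorem su_poly {ι : Type*} [Fintype ι] (b : Set ι) (n : ℕ) (hn : n ≠ 0) (ζ : ℂ) (hζ : ζ ^ n = 1)
    (m m' : ι → ℕ) (z : ι → ι → ℤ) (e : ι → ℕ) :
    ∃ f : ℤ[X], ∀ j : ℕ, aeval (ζ ^ j) f =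
      ∑ i : ι, ∑ i' : ι, if i ∈ b ∧ i' ∈ b then
        (m i : ℂ) * (ζ ^ e i) ^ j * conj ((m' i' : ℂ) * (ζ ^ e i') ^ j) * (z i i' : ℂ) else 0 := by
  refine ⟨∑ i : ι, ∑ i' : ι, if i ∈ b ∧ i' ∈ b then
    C ((m i : ℤ) * (m' i' : ℤ) * z i i') * X ^ (e i + (n - 1) * e i') else 0, ?_⟩
  intro j
  rw [map_sum]
  refine Finset.sum_congr rfl fun i _ => ?_
  rw [map_sum]
  refine Finset.sum_congr rfl fun i' _ => ?_
  split_ifs with h
  · rw [map_mul, aeval_C, map_pow, aeval_X]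
    have e0 : conj ((m' i' : ℂ) * (ζ ^ e i') ^ j) = (m' i' : ℂ) * ((ζ ^ (n - 1)) ^ e i') ^ j := by
      rw [map_mul, map_pow, map_pow, Complex.conj_natCast, su_conj_root ζ n hn hζ]
    rw [e0]
    simp only [eq_intCast, Int.cast_mul, Int.cast_natCast]
    rw [pow_add]
    have e1 : (ζ ^ j) ^ e i = (ζ ^ e i) ^ j := by rw [← pow_mul, ← pow_mul, mul_comm]
    have e2 : (ζ ^ j) ^ ((n - 1) * e i') = ((ζ ^ (n - 1)) ^ e i') ^ j := by
      rw [← pow_mul, ← pow_mul, ← pow_mul]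
      congr 1
      ring
    rw [e1, e2]
    ring
  · rw [map_zero]

end

section

/-- hypotheses of the subsection lemmas for `u = y^j`, `j` prime to the order of `y` -/
theorem su_pow_hyp {G : Type*} [Group G] [Finite G] (p : ℕ) (y : G) (k : ℕ)
    (hk : orderOf y = p ^ k) (j : ℕ) (hj : (orderOf y).Coprime j) :
    y ^ j ∈ Subgroup.centralizer ({y} : Set G) ∧
    (∀ h ∈ Subgroup.centralizer ({y} : Set G), h * y ^ j = y ^ j * h) ∧
    (∀ g : G, g * y ^ j = y ^ j * g → g ∈ Subgroup.centralizer ({y} : Set G)) ∧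
    (∃ k' : ℕ, orderOf (y ^ j) = p ^ k') := by
  have hyH : y ∈ Subgroup.centralizer ({y} : Set G) :=
    Subgroup.mem_centralizer_singleton_iff.mpr rfl
  refine ⟨Subgroup.pow_mem _ hyH j, ?_, ?_, ⟨k, by rw [hj.orderOf_pow, hk]⟩⟩
  · intro h hh
    have h1 : Commute h y := Subgroup.mem_centralizer_singleton_iff.mp hh
    exact (h1.pow_right j).eq
  · intro g hg
    obtain ⟨m, hm⟩ := exists_pow_eq_self_of_coprime hj.symm
    have h1 : Commute g (y ^ j) := hg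
    have h2 : Commute g ((y ^ j) ^ m) := h1.pow_right m
    rw [hm] at h2
    exact Subgroup.mem_centralizer_singleton_iff.mpr h2.eq

open Classical in
/-- for a subsection `(y^j, b)` with `b^G = B` and height zero characters `χ, ψ ∈ B`, the scaled
matrix entry `p^{d(b)} [F_χ°, F_ψ]` is a `p`-adic unit -/
theorem su_unit {G : Type*} [Group G] [Fintype G] (p : ℕ) [hp : Fact p.Prime]
    (M : Ideal Cfsg.AlgInt) (hM : Cfsg.IsPModular p M) (H : Subgroup G) [Fintype H]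
    [Fintype (Cfsg.IrrCharacter H)] (y : G) (hyH : y ∈ H)
    (hcent : ∀ h ∈ H, h * y = y * h) (k : ℕ) (hyk : y ^ (p ^ k) = 1)
    (b : Set (Cfsg.IrrCharacter H)) (B : Set (Cfsg.IrrCharacter G))
    (hind : Cfsg.IsInducedBlock M H b B) (χ ψ : Cfsg.IrrCharacter G) (hχ : χ ∈ B) (hψ : ψ ∈ B)
    (hχ0 : Cfsg.blockHeight p B (χ : G → ℂ) = 0) (hψ0 : Cfsg.blockHeight p B (ψ : G → ℂ) = 0)
    (j : ℕ) :
    ¬ Cfsg.MemLocalIdeal M ((p : ℂ) ^ Cfsg.blockDefect p b * Cfsg.classInner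
      (Cfsg.pRegularPart p (Cfsg.blockPart b (fun c : H => (χ : G → ℂ) (y ^ j * (c : G)))))
      (Cfsg.blockPart b (fun c : H => (ψ : G → ℂ) (y ^ j * (c : G))))) := by
  have hMp := hM.2.1.isPrime
  obtain ⟨ψ₀, hb⟩ := hind.1
  -- the central element
  have hyc : (⟨y, hyH⟩ : H) ∈ Subgroup.center H := by
    rw [Subgroup.mem_center_iff]
    intro h
    apply Subtype.ext
    show (h : G) * y = y * (h : G)
    exact hcent h h.2
  have hyn : (⟨y, hyH⟩ : H) ^ (p ^ k) = 1 := by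
    apply Subtype.ext
    show y ^ (p ^ k) = 1
    exact hyk
  have hlamex : ∀ ψ' : Cfsg.IrrCharacter H, ∃ lam : ℂ,
      (∀ c : H, (ψ' : H → ℂ) ((⟨y, hyH⟩ : H) * c) = lam * (ψ' : H → ℂ) c) ∧ lam ^ (p ^ k) = 1 :=
    fun ψ' => bp_central_shift ψ' _ hyc _ hyn
  choose lam hlam1 hlam2 using hlamex
  rw [su_W_formula p H y hyH hcent b χ ψ lam hlam1 j]
  -- multiplicities
  set a : Cfsg.IrrCharacter H → ℂ :=
    fun ψ' => Cfsg.classInner (fun h : H => (χ : G → ℂ) (h : G)) (ψ' : H → ℂ) with ha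
  set a' : Cfsg.IrrCharacter H → ℂ :=
    fun ψ' => Cfsg.classInner (fun h : H => (ψ : G → ℂ) (h : G)) (ψ' : H → ℂ) with ha'
  have hnat : ∀ ψ' : Cfsg.IrrCharacter H, ∃ m : ℕ, a ψ' = (m : ℂ) := fun ψ' =>
    classInner_character_nat (isCharacter_restrict (isCharacter_of_irr χ) H) (isCharacter_of_irr ψ')
  have hnat' : ∀ ψ' : Cfsg.IrrCharacter H, ∃ m : ℕ, a' ψ' = (m : ℂ) := fun ψ' =>
    classInner_character_nat (isCharacter_restrict (isCharacter_of_irr ψ) H) (isCharacter_of_irr ψ')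
  have hM0 := su_M0 p M hM H b B hind χ ψ hχ hψ hχ0 hψ0
  intro hmem
  apply hM0
  set d := Cfsg.blockDefect p b with hd
  -- M⁰ = (p^d W) - difference
  have e : (∑ ψ' : Cfsg.IrrCharacter H, ∑ ψ'' : Cfsg.IrrCharacter H,
      if ψ' ∈ b ∧ ψ'' ∈ b then a ψ' * a' ψ'' * ((p : ℂ) ^ d *
          Cfsg.classInner (Cfsg.pRegularPart p (ψ' : H → ℂ)) (ψ'' : H → ℂ)) else 0) =
      (p : ℂ) ^ d * (∑ ψ' : Cfsg.IrrCharacter H, ∑ ψ'' : Cfsg.IrrCharacter H,
        if ψ' ∈ b ∧ ψ'' ∈ b then a ψ' * lam ψ' ^ j * conj (a' ψ'' * lam ψ'' ^ j) *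
          Cfsg.classInner (Cfsg.pRegularPart p (ψ' : H → ℂ)) (ψ'' : H → ℂ) else 0) -
      ∑ ψ' : Cfsg.IrrCharacter H, ∑ ψ'' : Cfsg.IrrCharacter H,
        if ψ' ∈ b ∧ ψ'' ∈ b then a ψ' * a' ψ'' * ((p : ℂ) ^ d *
          Cfsg.classInner (Cfsg.pRegularPart p (ψ' : H → ℂ)) (ψ'' : H → ℂ)) *
          (lam ψ' ^ j * conj (lam ψ'' ^ j) - 1) else 0 := by
    rw [Finset.mul_sum, ← Finset.sum_sub_distrib]
    refine Finset.sum_congr rfl fun ψ' _ => ?_
    rw [Finset.mul_sum, ← Finset.sum_sub_distrib]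
    refine Finset.sum_congr rfl fun ψ'' _ => ?_
    split_ifs with h
    · obtain ⟨m', hm'⟩ := hnat' ψ''
      rw [map_mul, hm', Complex.conj_natCast]
      ring
    · ring
  show Cfsg.MemLocalIdeal M (∑ ψ' : Cfsg.IrrCharacter H, ∑ ψ'' : Cfsg.IrrCharacter H,
      if ψ' ∈ b ∧ ψ'' ∈ b then a ψ' * a' ψ'' * ((p : ℂ) ^ d *
          Cfsg.classInner (Cfsg.pRegularPart p (ψ' : H → ℂ)) (ψ'' : H → ℂ)) else 0)
  rw [e]
  apply h7_memLocalIdeal_sub hMp hmem
  apply h7_memLocalIdeal_sum hMp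
  intro ψ' _
  apply h7_memLocalIdeal_sum hMp
  intro ψ'' _
  split_ifs with h
  · apply h7_memLocalIdeal_mul_left hMp
    · obtain ⟨m, hm⟩ := hnat ψ'
      obtain ⟨m', hm'⟩ := hnat' ψ''
      rw [hm, hm']
      apply h7_memLocalRing_mul hMp
        (h7_memLocalRing_mul hMp (h7_memLocalRing_natCast hMp m) (h7_memLocalRing_natCast hMp m'))
      have hspec := bf_z_spec p M hM ψ₀ ψ' ψ'' (hb ▸ h.1) (hb ▸ h.2)
      rw [← hb] at hspec
      rw [hd, hspec]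
      apply h7_memLocalRing_of_isIntegral hMp
      exact isIntegral_algebraMap (R := ℤ) (A := ℂ)
        (x := bf_z p b ψ' ψ'')
    · apply bp_root_sub_one hM _ k
      rw [mul_pow, ← map_pow, ← pow_mul, ← pow_mul, mul_comm j, pow_mul, pow_mul, hlam2, hlam2]
      simp
  · exact h7_memLocalIdeal_zero hMp

end

section

/-- `k(B)^2 ≤ p^{2d} l(b)` for a major subsection `(y, b)` of a block `B` all of whose characters
have height zero -/
theorem su_main {G : Type*} [Group G] [Fintype G] (p : ℕ) [hp : Fact p.Prime]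
    (M : Ideal Cfsg.AlgInt) (hM : Cfsg.IsPModular p M) (B : Set (Cfsg.IrrCharacter G))
    (d : ℕ)
    (hh : ∀ χ ∈ B, Cfsg.blockHeight p B (χ : G → ℂ) = 0) (y : G)
    (hy : ∃ k : ℕ, orderOf y = p ^ k)
    (H : Subgroup G) (hH : H = Subgroup.centralizer ({y} : Set G))
    (b : Set (Cfsg.IrrCharacter H))
    (hind : Cfsg.IsInducedBlock M H b B)
    (hbd : Cfsg.blockDefect p b = d) :
    Nat.card B ^ 2 ≤ p ^ (2 * d) * Cfsg.blockRank p b := by
  classical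
  have hMp := hM.2.1.isPrime
  haveI : Fintype H := Fintype.ofFinite _
  haveI : Fintype (Cfsg.IrrCharacter H) := Fintype.ofFinite _
  haveI : Fintype (Cfsg.IrrCharacter G) := Fintype.ofFinite _
  obtain ⟨k, hk⟩ := hy
  have hyH : y ∈ H := by
    rw [hH]
    exact Subgroup.mem_centralizer_singleton_iff.mpr rfl
  have hcent : ∀ h ∈ H, h * y = y * h := fun h hh =>
    Subgroup.mem_centralizer_singleton_iff.mp (hH ▸ hh)
  have hyk : y ^ (p ^ k) = 1 := by rw [← hk]; exact pow_orderOf_eq_one y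
  set n := p ^ k with hn
  have hn0 : n ≠ 0 := pow_ne_zero _ hp.out.ne_zero
  haveI : NeZero n := ⟨hn0⟩
  obtain ⟨ψ₀, hb⟩ := hind.1
  -- the central element
  have hyc : (⟨y, hyH⟩ : H) ∈ Subgroup.center H := by
    rw [Subgroup.mem_center_iff]
    intro h
    apply Subtype.ext
    show (h : G) * y = y * (h : G)
    exact hcent h h.2
  have hyn : (⟨y, hyH⟩ : H) ^ n = 1 := by
    apply Subtype.ext
    show y ^ n = 1
    exact hyk
  have hlamex : ∀ ψ' : Cfsg.IrrCharacter H, ∃ lam : ℂ,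
      (∀ c : H, (ψ' : H → ℂ) ((⟨y, hyH⟩ : H) * c) = lam * (ψ' : H → ℂ) c) ∧ lam ^ n = 1 :=
    fun ψ' => bp_central_shift ψ' _ hyc _ hyn
  choose lam hlam1 hlam2 using hlamex
  set ζ : ℂ := Complex.exp (2 * Real.pi * Complex.I / n) with hζdef
  have hζ : IsPrimitiveRoot ζ n := Complex.isPrimitiveRoot_exp n hn0
  have hex : ∀ ψ' : Cfsg.IrrCharacter H, ∃ i < n, ζ ^ i = lam ψ' :=
    fun ψ' => hζ.eq_pow_of_pow_eq_one (hlam2 ψ')
  choose ex hex1 hex2 using hex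
  -- multiplicities
  have hnat : ∀ (χ : Cfsg.IrrCharacter G) (ψ' : Cfsg.IrrCharacter H), ∃ m : ℕ,
      Cfsg.classInner (fun h : H => (χ : G → ℂ) (h : G)) (ψ' : H → ℂ) = (m : ℂ) := fun χ ψ' =>
    classInner_character_nat (isCharacter_restrict (isCharacter_of_irr χ) H) (isCharacter_of_irr ψ')
  choose mult hmult using hnat
  -- the matrices
  set W : ℕ → Cfsg.IrrCharacter G → Cfsg.IrrCharacter G → ℂ := fun j χ ψ =>
    Cfsg.classInner
      (Cfsg.pRegularPart p (Cfsg.blockPart b (fun c : H => (χ : G → ℂ) (y ^ j * (c : G)))))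
      (Cfsg.blockPart b (fun c : H => (ψ : G → ℂ) (y ^ j * (c : G)))) with hW
  -- polynomials
  have hpoly : ∀ χ ψ : Cfsg.IrrCharacter G, ∃ f : ℤ[X], ∀ j : ℕ,
      aeval (ζ ^ j) f = (p : ℂ) ^ d * W j χ ψ := by
    intro χ ψ
    obtain ⟨f, hf⟩ := su_poly b n hn0 ζ hζ.pow_eq_one (mult χ) (mult ψ)
      (fun ψ' ψ'' => bf_z p b ψ' ψ'') ex
    refine ⟨f, fun j => ?_⟩
    rw [hf j]
    show _ = (p : ℂ) ^ d * Cfsg.classInner
      (Cfsg.pRegularPart p (Cfsg.blockPart b (fun c : H => (χ : G → ℂ) (y ^ j * (c : G)))))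
      (Cfsg.blockPart b (fun c : H => (ψ : G → ℂ) (y ^ j * (c : G))))
    rw [su_W_formula p H y hyH hcent b χ ψ lam hlam1 j, Finset.mul_sum]
    refine Finset.sum_congr rfl fun ψ' _ => ?_
    rw [Finset.mul_sum]
    refine Finset.sum_congr rfl fun ψ'' _ => ?_
    split_ifs with h
    · have hspec := bf_z_spec p M hM ψ₀ ψ' ψ'' (hb ▸ h.1) (hb ▸ h.2)
      rw [← hb, hbd] at hspec
      rw [hex2 ψ', hex2 ψ'', ← hmult χ ψ', ← hmult ψ ψ'', ← hspec]
      ring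
    · rw [mul_zero]
  choose f hf using hpoly
  have hne : ∀ χ ∈ B, ∀ ψ ∈ B, aeval ζ (f χ ψ) ≠ 0 := by
    intro χ hχ ψ hψ h0
    have h1 := su_unit p M hM H y hyH hcent k hyk b B hind χ ψ hχ hψ (hh χ hχ) (hh ψ hψ) 1
    apply h1
    have h2 := hf χ ψ 1
    rw [pow_one, h0] at h2
    rw [hbd]
    show Cfsg.MemLocalIdeal M ((p : ℂ) ^ d * W 1 χ ψ)
    rw [← h2]
    exact h7_memLocalIdeal_zero hMp
  set J := (Finset.range n).filter (Nat.Coprime n) with hJ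
  have hJpos : 0 < J.card := by
    have : J.card = Nat.totient n := (Nat.totient_eq_card_coprime n).symm
    rw [this]
    exact Nat.totient_pos.mpr (Nat.pos_of_ne_zero hn0)
  set Bf : Finset (Cfsg.IrrCharacter G) := Finset.univ.filter (· ∈ B) with hBf
  have hmemBf : ∀ χ, χ ∈ Bf ↔ χ ∈ B := fun χ => by simp [hBf]
  have hfs : ∀ g : Cfsg.IrrCharacter G → ℂ, ∑ᶠ χ ∈ B, g χ = ∑ χ ∈ Bf, g χ := by
    intro g
    rw [h7_finsum_mem_fintype B, hBf, Finset.sum_filter]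
  -- the trace identity
  have htr : ∀ j ∈ J, ∑ χ ∈ Bf, ∑ ψ ∈ Bf, W j χ ψ * conj (W j χ ψ) =
      (Cfsg.blockRank p b : ℂ) := by
    intro j hj
    have hj' : (orderOf y).Coprime j := by
      rw [hk]
      exact (Finset.mem_filter.mp hj).2
    have h0 := su_pow_hyp p y k hk j hj'
    rw [← hH] at h0
    obtain ⟨h1, h2, h3, h4⟩ := h0
    have h5 := st_trace p M hM H (y ^ j) h1 h2 h3 h4 b B hind
    rw [← h5, hfs]
    refine Finset.sum_congr rfl fun χ _ => ?_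
    have h6 := su_idem p M hM H (y ^ j) h1 h2 h3 h4 b B hind χ χ
    rw [← h6, hfs]
  have hreal : ∀ j ∈ J, ∑ χ ∈ Bf, ∑ ψ ∈ Bf, ‖W j χ ψ‖ ^ 2 = (Cfsg.blockRank p b : ℝ) := by
    intro j hj
    have h1 := htr j hj
    have h2 : ((∑ χ ∈ Bf, ∑ ψ ∈ Bf, ‖W j χ ψ‖ ^ 2 : ℝ) : ℂ) = ((Cfsg.blockRank p b : ℝ) : ℂ) := by
      rw [Complex.ofReal_natCast, ← h1, Complex.ofReal_sum]
      refine Finset.sum_congr rfl fun χ _ => ?_
      rw [Complex.ofReal_sum]
      refine Finset.sum_congr rfl fun ψ _ => ?_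
      rw [Complex.mul_conj, Complex.normSq_eq_norm_sq]
    exact_mod_cast h2
  have key : (Bf.card : ℝ) ^ 2 * J.card ≤ ((p : ℝ) ^ (2 * d) * Cfsg.blockRank p b) * J.card := by
    calc (Bf.card : ℝ) ^ 2 * J.card = ∑ χ ∈ Bf, ∑ ψ ∈ Bf, (J.card : ℝ) := by
          rw [Finset.sum_const, Finset.sum_const, nsmul_eq_mul, nsmul_eq_mul]
          ring
      _ ≤ ∑ χ ∈ Bf, ∑ ψ ∈ Bf, ∑ j ∈ J, ‖aeval (ζ ^ j) (f χ ψ)‖ ^ 2 :=
          Finset.sum_le_sum fun χ hχ => Finset.sum_le_sum fun ψ hψ =>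
            gn_sum_sq n (Nat.pos_of_ne_zero hn0) (f χ ψ) ζ hζ
              (hne χ ((hmemBf χ).mp hχ) ψ ((hmemBf ψ).mp hψ))
      _ = ∑ j ∈ J, ∑ χ ∈ Bf, ∑ ψ ∈ Bf, (p : ℝ) ^ (2 * d) * ‖W j χ ψ‖ ^ 2 := by
          have e1 : ∀ χ ∈ Bf, ∑ ψ ∈ Bf, ∑ j ∈ J, ‖aeval (ζ ^ j) (f χ ψ)‖ ^ 2 =
              ∑ j ∈ J, ∑ ψ ∈ Bf, ‖aeval (ζ ^ j) (f χ ψ)‖ ^ 2 := fun χ _ => Finset.sum_comm
          rw [Finset.sum_congr rfl e1, Finset.sum_comm]
          refine Finset.sum_congr rfl fun j _ => ?_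
          refine Finset.sum_congr rfl fun χ _ => ?_
          refine Finset.sum_congr rfl fun ψ _ => ?_
          rw [hf χ ψ j, norm_mul, mul_pow, norm_pow, Complex.norm_natCast, ← pow_mul, mul_comm d 2]
      _ = ∑ j ∈ J, (p : ℝ) ^ (2 * d) * Cfsg.blockRank p b := by
          refine Finset.sum_congr rfl fun j hj => ?_
          rw [← hreal j hj, Finset.mul_sum]
          refine Finset.sum_congr rfl fun χ _ => ?_
          rw [Finset.mul_sum]
      _ = ((p : ℝ) ^ (2 * d) * Cfsg.blockRank p b) * J.card := by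
          rw [Finset.sum_const, nsmul_eq_mul, mul_comm]
  have hJpos' : (0 : ℝ) < J.card := by exact_mod_cast hJpos
  have key2 := le_of_mul_le_mul_right key hJpos'
  have hcard : Nat.card B = Bf.card := by
    rw [Nat.card_eq_fintype_card, Fintype.card_subtype]
  rw [hcard]
  exact_mod_cast key2

end

end Cfsg.Agent.Lib.Helper25
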