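import Mathlib
import Cfsg.Agent.Lib.Helper25.DefectOneTwo
import Cfsg.Agent.Lib.Helper25.PrincipalDefect
import Cfsg.Agent.S4710
import Cfsg.Agent.S4571
import Cfsg.Agent.S4716
import Cfsg.Agent.S0936

/-!
Klein four Sylow 2-subgroups with one class of involutions: l(B0) = 3 (sk_main). Principal block defect (sk_pb_defect), odd degrees (sk_odd_degree), p-integrality (sk_dvd_of_local), 4 | k(B0) (sk_card_mod_four), local rank one via central involution quotient (sk_local_rank), k = l + sum over involution subsections (sk_count).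
-/

set_option autoImplicit false
set_option linter.style.haveILetI false
set_option linter.unusedVariables false
set_option warn.classDefReducibility false
set_option maxHeartbeats 1600000

namespace Cfsg.Agent.Lib.Helper25
open Cfsg.Agent.Lib.helper2
open Cfsg.Agent.Lib.helper7
open scoped ComplexConjugate
section

theorem sk_pb_isBlock {G : Type*} [Group G] (M : Ideal Cfsg.AlgInt) :
    Cfsg.IsPBlock M (Cfsg.principalBlock M G) := ⟨trivIrr G, rfl⟩

theorem sk_triv_mem {G : Type*} [Group G] {M : Ideal Cfsg.AlgInt} (hMp : M.IsPrime) :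
    trivIrr G ∈ Cfsg.principalBlock M G := by
  rw [pb_principal_eq]
  intro g
  rw [sub_self]
  exact h7_memLocalIdeal_zero hMp

theorem sk_triv_degree {G : Type*} [Group G] :
    Cfsg.charDegree ((trivIrr G : Cfsg.IrrCharacter G) : G → ℂ) = 1 := by
  unfold Cfsg.charDegree
  rw [trivIrr_apply]
  simp

/-- the least `p`-exponent of a degree in the principal block is zero -/
theorem sk_pb_sInf {G : Type*} [Group G] (p : ℕ) {M : Ideal Cfsg.AlgInt} (hMp : M.IsPrime) :
    sInf ((fun χ : Cfsg.IrrCharacter G => (Cfsg.charDegree (χ : G → ℂ)).factorization p) ''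
      Cfsg.principalBlock M G) = 0 := by
  rw [Nat.sInf_eq_zero]
  left
  refine ⟨trivIrr G, sk_triv_mem hMp, ?_⟩
  show (Cfsg.charDegree ((trivIrr G : Cfsg.IrrCharacter G) : G → ℂ)).factorization p = 0
  rw [sk_triv_degree]
  simp

/-- the defect of the principal block is the full `p`-exponent of the group order -/
theorem sk_pb_defect {G : Type*} [Group G] (p : ℕ) {M : Ideal Cfsg.AlgInt} (hMp : M.IsPrime) :
    Cfsg.blockDefect p (Cfsg.principalBlock M G) = (Nat.card G).factorization p := by
  unfold Cfsg.blockDefect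
  rw [sk_pb_sInf p hMp, Nat.sub_zero]

/-- if the defect is at most two, the degrees in the principal block are prime to `p` and all
heights are zero -/
theorem sk_odd_degree {G : Type*} [Group G] [Finite G] (p : ℕ) [hp : Fact p.Prime]
    (M : Ideal Cfsg.AlgInt) (hM : Cfsg.IsPModular p M)
    (hd : (Nat.card G).factorization p ≤ 2) (χ : Cfsg.IrrCharacter G)
    (hχ : χ ∈ Cfsg.principalBlock M G) :
    Cfsg.blockHeight p (Cfsg.principalBlock M G) (χ : G → ℂ) = 0 ∧
      ¬ p ∣ Cfsg.charDegree (χ : G → ℂ) := by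
  have hMp := hM.2.1.isPrime
  have h1 := (Cfsg.Agent.S4710.result p M hM _ (sk_pb_isBlock M) _ rfl).2 χ hχ
  rw [sk_pb_defect p hMp] at h1
  have h0 : Cfsg.blockHeight p (Cfsg.principalBlock M G) (χ : G → ℂ) = 0 := by
    by_cases h : (Nat.card G).factorization p ≤ 1
    · exact h1.1 h
    · have h2 := h1.2 (by omega)
      omega
  refine ⟨h0, ?_⟩
  unfold Cfsg.blockHeight at h0
  rw [sk_pb_sInf p hMp, Nat.sub_zero] at h0
  have hpos := (h7_charDegree_props χ).2.1
  rcases (Nat.factorization_eq_zero_iff _ _).mp h0 with h | h | h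
  · exact absurd hp.out h
  · exact h
  · omega

/-- a rational local integer has no `p` in the denominator -/
theorem sk_dvd_of_local {p : ℕ} [hp : Fact p.Prime] {M : Ideal Cfsg.AlgInt}
    (hM : Cfsg.IsPModular p M) (r : ℂ) (hr : Cfsg.MemLocalRing M r) (N S : ℕ)
    (h : (N : ℂ) * r = (S : ℂ)) (j : ℕ) (hj : p ^ j ∣ N) : p ^ j ∣ S := by
  have hMp := hM.2.1.isPrime
  induction j with
  | zero => simp
  | succ j ih =>
    obtain ⟨S', hS'⟩ := ih (dvd_trans (pow_dvd_pow p (Nat.le_succ j)) hj)
    obtain ⟨N', hN'⟩ := hj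
    have hpj : ((p : ℂ) ^ j) ≠ 0 := pow_ne_zero _ (by exact_mod_cast hp.out.ne_zero)
    have h2 : (p : ℂ) * ((N' : ℂ) * r) = (S' : ℂ) := by
      have : (p : ℂ) ^ j * ((p : ℂ) * ((N' : ℂ) * r)) = (p : ℂ) ^ j * (S' : ℂ) := by
        rw [hN', hS'] at h
        push_cast at h
        rw [← h]
        ring
      exact mul_left_cancel₀ hpj this
    have h3 : Cfsg.MemLocalIdeal M (S' : ℂ) := by
      rw [← h2]
      exact h7_memLocalIdeal_mul_right hMp (h7_memLocalIdeal_p hM)
        (h7_memLocalRing_mul hMp (h7_memLocalRing_natCast hMp _) hr)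
    obtain ⟨S'', hS''⟩ := (h7_memLocalIdeal_natCast_iff hM S').mp h3
    rw [hS', hS'']
    exact ⟨S'', by ring⟩

open Classical in
/-- for a group whose Sylow `2`-subgroups have order four, the number of characters in the
principal `2`-block is divisible by four -/
theorem sk_card_mod_four {G : Type*} [Group G] [Fintype G] (M : Ideal Cfsg.AlgInt)
    (hM : Cfsg.IsPModular 2 M) (hG : (Nat.card G).factorization 2 = 2) :
    4 ∣ Nat.card (Cfsg.principalBlock M G) := by
  haveI : Fact (Nat.Prime 2) := ⟨Nat.prime_two⟩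
  haveI : Fintype (Cfsg.IrrCharacter G) := Fintype.ofFinite _
  have hMp := hM.2.1.isPrime
  set Bf : Finset (Cfsg.IrrCharacter G) :=
    Finset.univ.filter (· ∈ Cfsg.principalBlock M G) with hBf
  set S : ℕ := ∑ χ ∈ Bf, Cfsg.charDegree (χ : G → ℂ) ^ 2 with hS
  have hcoef : (Nat.card G : ℂ) * Cfsg.blockCoeff (Cfsg.principalBlock M G) 1 = (S : ℂ) := by
    have hGne : (Nat.card G : ℂ) ≠ 0 := by exact_mod_cast Nat.card_pos.ne'
    unfold Cfsg.blockCoeff
    rw [← mul_assoc, mul_inv_cancel₀ hGne, one_mul, h7_finsum_mem_fintype, hS, Nat.cast_sum,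
      hBf, Finset.sum_filter]
    refine Finset.sum_congr rfl fun χ _ => ?_
    split_ifs
    · rw [h7_irr_conj_one, ← (h7_charDegree_props χ).2.2]
      push_cast
      ring
    · rfl
  have hr : Cfsg.MemLocalRing M (Cfsg.blockCoeff (Cfsg.principalBlock M G) 1) := by
    rw [pb_principal_eq]
    exact h7_osima hMp _ 1
  have h4 : 2 ^ 2 ∣ Nat.card G := by
    have := Nat.ordProj_dvd (Nat.card G) 2
    rwa [hG] at this
  have h5 := sk_dvd_of_local hM _ hr _ _ hcoef 2 h4
  -- `S ≡ k mod 4`
  have hodd : ∀ χ ∈ Bf, Cfsg.charDegree (χ : G → ℂ) ^ 2 % 4 = 1 := by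
    intro χ hχ
    have hχ' : χ ∈ Cfsg.principalBlock M G := (Finset.mem_filter.mp hχ).2
    have h6 := (sk_odd_degree 2 M hM (by omega) χ hχ').2
    have h7 : Cfsg.charDegree (χ : G → ℂ) % 2 = 1 := Nat.two_dvd_ne_zero.mp h6
    obtain ⟨t, ht⟩ : ∃ t, Cfsg.charDegree (χ : G → ℂ) = 2 * t + 1 :=
      ⟨Cfsg.charDegree (χ : G → ℂ) / 2, by omega⟩
    rw [ht]
    have : (2 * t + 1) ^ 2 = 4 * (t * (t + 1)) + 1 := by ring
    rw [this]
    omega
  have h8 : S % 4 = Bf.card % 4 := by
    rw [hS, Finset.sum_nat_mod, Finset.sum_congr rfl hodd, Finset.sum_const, smul_eq_mul, mul_one]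
  have hcard : Nat.card (Cfsg.principalBlock M G) = Bf.card := by
    rw [Nat.card_eq_fintype_card, Fintype.card_subtype]
  rw [hcard]
  have : (2 : ℕ) ^ 2 = 4 := by norm_num
  rw [this] at h5
  omega

end

section

/-- a group with a central involution whose Sylow `2`-subgroups have order four has a principal
`2`-block of rank one -/
theorem sk_local_rank {H : Type*} [Group H] [Finite H] (M : Ideal Cfsg.AlgInt)
    (hM : Cfsg.IsPModular 2 M) (z : H) (hz : orderOf z = 2) (hzc : z ∈ Subgroup.center H)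
    (hcard : (Nat.card H).factorization 2 = 2) :
    Cfsg.blockRank 2 (Cfsg.principalBlock M H) = 1 := by
  haveI : Fact (Nat.Prime 2) := ⟨Nat.prime_two⟩
  have hMp := hM.2.1.isPrime
  set Q : Subgroup H := Subgroup.zpowers z with hQ
  have hQc : Q ≤ Subgroup.center H := Subgroup.zpowers_le.mpr hzc
  haveI hQn : Q.Normal := by
    constructor
    intro n hn g
    have h1 : g * n = n * g := (Subgroup.mem_center_iff.mp (hQc hn) g)
    rw [h1, mul_inv_cancel_right]
    exact hn
  have hQcard : Nat.card Q = 2 := by rw [hQ, Nat.card_zpowers, hz]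
  have hQp : IsPGroup 2 Q := by
    apply IsPGroup.of_card (n := 1)
    rw [hQcard, pow_one]
  have hsup : Q ⊔ Subgroup.centralizer (Q : Set H) = ⊤ := by
    have : Subgroup.centralizer (Q : Set H) = ⊤ :=
      Subgroup.centralizer_eq_top_iff_subset.mpr hQc
    rw [this, sup_top_eq]
  rw [Cfsg.Agent.S4571.result 2 M hM Q hQp hsup]
  have hquot : (Nat.card (H ⧸ Q)).factorization 2 = 1 := by
    have h1 := Subgroup.card_eq_card_quotient_mul_card_subgroup Q
    rw [hQcard] at h1
    have h2 : (Nat.card H).factorization 2 = (Nat.card (H ⧸ Q)).factorization 2 + 1 := by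
      rw [h1, Nat.factorization_mul (Nat.card_pos.ne') (by norm_num)]
      simp [Nat.Prime.factorization_self Nat.prime_two]
    omega
  haveI : Fintype (H ⧸ Q) := Fintype.ofFinite _
  have hdef : Cfsg.blockDefect 2 (Cfsg.principalBlock M (H ⧸ Q)) = 1 := by
    rw [sk_pb_defect 2 hMp, hquot]
  exact (sd_defect_one M hM _ (sk_pb_isBlock M) hdef).2.1

end

section

open Classical in
/-- if every `2`-singular element has `2`-part conjugate to the involution `z`, then
`k(B) = l(B) + Σ l(b)` over the blocks `b` of `C_G(z)` inducing `B` -/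
theorem sk_count {G : Type*} [Group G] [Fintype G] (M : Ideal Cfsg.AlgInt)
    (hM : Cfsg.IsPModular 2 M) (z : G) (hz : orderOf z = 2)
    (hall : ∀ g : G, ¬ 2 ∣ orderOf g ∨ IsConj (sc_pp 2 g) z)
    (B : Set (Cfsg.IrrCharacter G)) (hB : Cfsg.IsPBlock M B) :
    Nat.card B = Cfsg.blockRank 2 B +
      ∑ᶠ b ∈ {b : Set (Cfsg.IrrCharacter ↥(Subgroup.centralizer ({z} : Set G))) |
        Cfsg.IsInducedBlock M (Subgroup.centralizer ({z} : Set G)) b B},
        Cfsg.blockRank 2 b := by
  haveI : Fact (Nat.Prime 2) := ⟨Nat.prime_two⟩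
  haveI : Fintype (Cfsg.IrrCharacter G) := Fintype.ofFinite _
  have hMp := hM.2.1.isPrime
  have hper := sc_per_x 2 M hM B hB z ⟨1, by rw [hz, pow_one]⟩
  obtain ⟨χ₀, rfl⟩ := hB
  have hrank := br_rank_eq hM χ₀
  have hcard : ((Nat.card (Cfsg.blockOf M (χ₀ : G → ℂ)) : ℕ) : ℂ) = ∑ χ : Cfsg.IrrCharacter G,
      (if χ ∈ Cfsg.blockOf M (χ₀ : G → ℂ) then (Nat.card G : ℂ)⁻¹ *
        ∑ g : G, (χ : G → ℂ) g * conj ((χ : G → ℂ) g) else 0) := by
    have e1 : ∀ χ : Cfsg.IrrCharacter G, (Nat.card G : ℂ)⁻¹ *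
        ∑ g : G, (χ : G → ℂ) g * conj ((χ : G → ℂ) g) = 1 := by
      intro χ
      have := irr_classInner χ χ
      rw [if_pos rfl] at this
      exact this
    simp only [e1]
    rw [Finset.sum_boole, Nat.card_eq_fintype_card, Fintype.card_subtype]
  have key : ((Nat.card (Cfsg.blockOf M (χ₀ : G → ℂ)) : ℕ) : ℂ) =
      ((Cfsg.blockRank 2 (Cfsg.blockOf M (χ₀ : G → ℂ)) +
      ∑ᶠ b ∈ {b : Set (Cfsg.IrrCharacter ↥(Subgroup.centralizer ({z} : Set G))) |
        Cfsg.IsInducedBlock M (Subgroup.centralizer ({z} : Set G)) b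
          (Cfsg.blockOf M (χ₀ : G → ℂ))},
        Cfsg.blockRank 2 b : ℕ) : ℂ) := by
    rw [Nat.cast_add, hper, hrank, hcard, ← Finset.sum_add_distrib]
    refine Finset.sum_congr rfl fun χ _ => ?_
    split_ifs with h
    · unfold Cfsg.classInner
      rw [← mul_add, ← Finset.sum_add_distrib]
      congr 1
      refine Finset.sum_congr rfl fun g _ => ?_
      unfold Cfsg.pRegularPart Cfsg.IsPRegular
      by_cases hg : 2 ∣ orderOf g
      · rw [if_neg (not_not.mpr hg), zero_mul, zero_add, if_pos]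
        rcases hall g with h1 | h1
        · exact absurd hg h1
        · exact h1
      · rw [if_pos hg, if_neg, add_zero]
        intro hc
        have hpp : sc_pp 2 g = 1 := by
          apply sc_pp_eq 2
          exact ⟨g, one_mul g, Commute.one_left g, ⟨0, by rw [orderOf_one, pow_zero]⟩, hg⟩
        rw [hpp] at hc
        have : z = 1 := isConj_one_right.mp hc
        rw [this, orderOf_one] at hz
        omega
    · rw [add_zero]
  exact_mod_cast key

/-- in a group whose Sylow `2`-subgroups have exponent two and with a single class of involutions,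
every `2`-singular element has `2`-part conjugate to a given involution -/
theorem sk_two_elements {G : Type*} [Group G] [Finite G] (P : Sylow 2 G)
    (hexp : ∀ x : P, x * x = 1)
    (hone : ∀ s t : G, orderOf s = 2 → orderOf t = 2 → IsConj s t) (z : G) (hz : orderOf z = 2)
    (g : G) : ¬ 2 ∣ orderOf g ∨ IsConj (sc_pp 2 g) z := by
  haveI : Fact (Nat.Prime 2) := ⟨Nat.prime_two⟩
  set u := sc_pp 2 g with hu
  obtain ⟨y, huy, hcomm, ⟨k, hk⟩, hy⟩ := sc_pp_spec 2 g
  -- `u` lies in a conjugate of `P`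
  have hup : IsPGroup 2 (Subgroup.zpowers u) := by
    apply IsPGroup.of_card (n := k)
    rw [Nat.card_zpowers, hk]
  obtain ⟨Q, hQ⟩ := hup.exists_le_sylow
  obtain ⟨a, ha⟩ := MulAction.exists_smul_eq G P Q
  have huQ : u ∈ (Q : Subgroup G) := hQ (Subgroup.mem_zpowers u)
  rw [← ha, Sylow.coe_subgroup_smul, Subgroup.mem_smul_pointwise_iff_exists] at huQ
  obtain ⟨v, hvP, hvu⟩ := huQ
  have hv2 : v * v = 1 := by
    have := hexp ⟨v, hvP⟩
    exact congrArg Subtype.val this
  have hu2 : u * u = 1 := by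
    rw [← hvu]
    show (MulAut.conj a) v * (MulAut.conj a) v = 1
    rw [← map_mul, hv2, map_one]
  have hord : orderOf u ∣ 2 := by
    apply orderOf_dvd_of_pow_eq_one
    rw [pow_two]
    exact hu2
  rcases (Nat.dvd_prime Nat.prime_two).mp hord with h1 | h2
  · left
    have hu1 : u = 1 := orderOf_eq_one_iff.mp h1
    rw [← hu, hu1, one_mul] at huy
    rw [← huy]
    exact hy
  · right
    exact hone u z h2 hz

end

section

/-- Klein four Sylow `2`-subgroups and one class of involutions: `l(B₀) = 3` -/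
theorem sk_main {G : Type*} [Group G] [Fintype G] (M : Ideal Cfsg.AlgInt)
    (hM : Cfsg.IsPModular 2 M) (P : Sylow 2 G)
    (hP : Nat.card P = 4) (hexp : ∀ x : P, x * x = 1)
    (hone : ∀ s t : G, orderOf s = 2 → orderOf t = 2 → IsConj s t) :
    Cfsg.blockRank 2 (Cfsg.principalBlock M G) = 3 := by
  classical
  haveI : Fact (Nat.Prime 2) := ⟨Nat.prime_two⟩
  have hMp := hM.2.1.isPrime
  -- the `2`-part of the order
  have hG2 : (Nat.card G).factorization 2 = 2 := by
    have h1 := Sylow.card_eq_multiplicity P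
    rw [hP] at h1
    have : 2 ^ 2 = 2 ^ (Nat.card G).factorization 2 := by rw [← h1]; norm_num
    exact (Nat.pow_right_injective (le_refl 2) this).symm
  -- an involution of `P`
  haveI : Nontrivial P := Finite.one_lt_card_iff_nontrivial.mp (by rw [hP]; norm_num)
  obtain ⟨zP, hzP⟩ := exists_ne (1 : P)
  set z : G := (zP : G) with hz_def
  have hzz : z * z = 1 := congrArg Subtype.val (hexp zP)
  have hz1 : z ≠ 1 := fun h => hzP (Subtype.ext h)
  have hz : orderOf z = 2 := orderOf_eq_prime (by rw [pow_two]; exact hzz) hz1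
  have hzp : ∃ k : ℕ, orderOf z = 2 ^ k := ⟨1, by rw [hz, pow_one]⟩
  -- `P` is abelian, so lies in the centralizer
  have hPH : (P : Subgroup G) ≤ Subgroup.centralizer ({z} : Set G) := by
    intro v hv
    rw [Subgroup.mem_centralizer_singleton_iff]
    have hvv : v * v = 1 := congrArg Subtype.val (hexp ⟨v, hv⟩)
    have hvz : (v * z) * (v * z) = 1 :=
      congrArg Subtype.val (hexp (⟨v, hv⟩ * zP))
    have hvi : v⁻¹ = v := inv_eq_of_mul_eq_one_right hvv
    have hzi : z⁻¹ = z := inv_eq_of_mul_eq_one_right hzz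
    have h1 : (v * z)⁻¹ = v * z := inv_eq_of_mul_eq_one_right hvz
    rw [mul_inv_rev, hvi, hzi] at h1
    exact h1.symm
  have hH2 : (Nat.card ↥(Subgroup.centralizer ({z} : Set G))).factorization 2 = 2 := by
    have h1 : Nat.card (P : Subgroup G) ∣ Nat.card ↥(Subgroup.centralizer ({z} : Set G)) :=
      Subgroup.card_dvd_of_le hPH
    have h2 : Nat.card ↥(Subgroup.centralizer ({z} : Set G)) ∣ Nat.card G :=
      Subgroup.card_subgroup_dvd_card _
    have h3 : 2 ≤ (Nat.card ↥(Subgroup.centralizer ({z} : Set G))).factorization 2 := by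
      have h4 : 2 ^ 2 ∣ Nat.card ↥(Subgroup.centralizer ({z} : Set G)) := by
        have : Nat.card (P : Subgroup G) = 2 ^ 2 := by rw [hP]; norm_num
        rw [← this]; exact h1
      exact (Nat.Prime.pow_dvd_iff_le_factorization Nat.prime_two Nat.card_pos.ne').mp h4
    have h5 : (Nat.card ↥(Subgroup.centralizer ({z} : Set G))).factorization 2 ≤
        (Nat.card G).factorization 2 :=
      (Nat.factorization_le_iff_dvd Nat.card_pos.ne' Nat.card_pos.ne').mpr h2 2
    omega
  -- the local rank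
  have hzH : z ∈ Subgroup.centralizer ({z} : Set G) :=
    Subgroup.mem_centralizer_singleton_iff.mpr rfl
  have hzc : (⟨z, hzH⟩ : ↥(Subgroup.centralizer ({z} : Set G))) ∈
      Subgroup.center ↥(Subgroup.centralizer ({z} : Set G)) := by
    rw [Subgroup.mem_center_iff]
    intro h
    apply Subtype.ext
    show (h : G) * z = z * (h : G)
    exact Subgroup.mem_centralizer_singleton_iff.mp h.2
  have hzo : orderOf (⟨z, hzH⟩ : ↥(Subgroup.centralizer ({z} : Set G))) = 2 := by
    rw [← hz]
    exact Subgroup.orderOf_mk z hzH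
  have hlb := sk_local_rank M hM (⟨z, hzH⟩ : ↥(Subgroup.centralizer ({z} : Set G))) hzo hzc hH2
  -- the induced block
  obtain ⟨hPz, hPzH, hCH, hHN⟩ := h7_centralizer_brauer_hyps 2 z hzp
  have hdef : Cfsg.InducedBlockDefined M (Subgroup.centralizer ({z} : Set G))
      (Cfsg.principalBlock M ↥(Subgroup.centralizer ({z} : Set G))) :=
    Cfsg.Agent.S0919.result 2 M hM (Subgroup.zpowers z) _ hPz hPzH hCH hHN _ (sk_pb_isBlock M)
  have hind : Cfsg.IsInducedBlock M (Subgroup.centralizer ({z} : Set G))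
      (Cfsg.principalBlock M ↥(Subgroup.centralizer ({z} : Set G))) (Cfsg.principalBlock M G) :=
    (Cfsg.Agent.S0936.result 2 M hM _ _ hdef).mpr rfl
  -- the upper bound
  have hdB : Cfsg.blockDefect 2 (Cfsg.principalBlock M G) = 2 := by
    rw [sk_pb_defect 2 hMp, hG2]
  have hdb : Cfsg.blockDefect 2 (Cfsg.principalBlock M ↥(Subgroup.centralizer ({z} : Set G))) = 2 := by
    rw [sk_pb_defect 2 hMp, hH2]
  have hub := Cfsg.Agent.S4716.result 2 M hM (Cfsg.principalBlock M G) (sk_pb_isBlock M) 2 hdB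
    (fun χ hχ => (sk_odd_degree 2 M hM (by omega) χ hχ).1) z hzp _ hind hdb
  rw [hlb, mul_one] at hub
  have h4 := sk_card_mod_four M hM hG2
  have hpos : 0 < Nat.card (Cfsg.principalBlock M G) := by
    haveI : Nonempty (Cfsg.principalBlock M G) := ⟨⟨trivIrr G, sk_triv_mem hMp⟩⟩
    exact Nat.card_pos
  have hk : Nat.card (Cfsg.principalBlock M G) = 4 := by
    obtain ⟨t, ht⟩ := h4
    have ht1 : t ≤ 1 := by
      by_contra h
      push Not at h
      have h8 : 8 ≤ Nat.card (Cfsg.principalBlock M G) := by omega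
      have h64 : 8 * 8 ≤ Nat.card (Cfsg.principalBlock M G) ^ 2 := by
        rw [pow_two]
        exact Nat.mul_le_mul h8 h8
      have h16 : 2 ^ (2 * 2) = 16 := by norm_num
      rw [h16] at hub
      omega
    have ht0 : 0 < t := by omega
    omega
  -- the count
  have hcount := sk_count M hM z hz (sk_two_elements P hexp hone z hz) _
    (sk_pb_isBlock (G := G) M)
  have hInd : {b : Set (Cfsg.IrrCharacter ↥(Subgroup.centralizer ({z} : Set G))) |
      Cfsg.IsInducedBlock M (Subgroup.centralizer ({z} : Set G)) b (Cfsg.principalBlock M G)} =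
      {Cfsg.principalBlock M ↥(Subgroup.centralizer ({z} : Set G))} := by
    ext b
    simp only [Set.mem_ofPred_eq, Set.mem_singleton_iff]
    constructor
    · intro hb
      exact (Cfsg.Agent.S0936.result 2 M hM _ b ⟨_, hb⟩).mp hb
    · intro hb
      rw [hb]
      exact hind
  rw [hInd, finsum_mem_singleton, hlb, hk] at hcount
  omega

end

end Cfsg.Agent.Lib.Helper25
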