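import Mathlib
import Cfsg.Agent.Lib.Helper25.BrauerPairAbelian2

/-!
Extended first main theorem (S4670): for N_G(P) ≤ H, blocks of G and of H with defect group P correspond via equality of Brauer-map images of their idempotents at P. Pieces: bq_idem_radical, bq_idem_congr (an idempotent-mod-M class function is determined coefficientwise by its central character values), bq_blockCoeff_conv, bq_pair_dichotomy, bq_pair_of_omega, bq_defect_unit, bq_pair_at_defect (a block has a Brauer pair on each defect group), bq_block_eq_of_coeff, bq_brauer_coeff (Br_P(e_B) = e_b on C_G(P) mod M for the Brauer correspondent b), bq_normEquiv (N_H(P) ≃ N_G(P)), bq_ext_coeff, bq_ext_first_main.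
-/

set_option autoImplicit false
set_option linter.style.haveILetI false
set_option linter.unusedVariables false
set_option warn.classDefReducibility false
set_option maxHeartbeats 1600000

namespace Cfsg.Agent.Lib.Helper25
open Cfsg.Agent.Lib.Helper24
open Cfsg.Agent.Lib.helper2
open Cfsg.Agent.Lib.helper7
open scoped ComplexConjugate
section

/-- a class function with local-integer coefficients that is idempotent modulo the local ideal
and all of whose central character values lie in the local ideal has all coefficients in the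
local ideal -/
theorem bq_idem_radical {K : Type*} [Group K] [Fintype K] [Fintype (Cfsg.IrrCharacter K)]
    (p : ℕ) [hp : Fact p.Prime]
    (M : Ideal Cfsg.AlgInt) (hM : Cfsg.IsPModular p M) (z : K → ℂ)
    (hzcl : ∀ g h : K, z (h * g * h⁻¹) = z g) (hzR : ∀ k, Cfsg.MemLocalRing M (z k))
    (hzz : ∀ k, Cfsg.MemLocalIdeal M (h7_conv z z k - z k))
    (hν : ∀ ψ : Cfsg.IrrCharacter K, Cfsg.MemLocalIdeal M (h7_fourier z ψ)) (k : K) :
    Cfsg.MemLocalIdeal M (z k) := by
  classical
  have hPr := hM.2.1.isPrime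
  obtain ⟨N₀, hN₀⟩ := h7_radical_pow hM (h7_fourier z) hν
  let w : ℕ → K → ℂ := fun n => Nat.rec z (fun _ v => h7_conv v z) n
  have hw0 : w 0 = z := rfl
  have hw : ∀ n, w (n + 1) = h7_conv (w n) z := fun n => rfl
  have hwc := bq_conv_pow_coef z hzcl w hw0 hw
  have hwz : ∀ n, ∀ k, Cfsg.MemLocalIdeal M (w n k - z k) := by
    intro n
    induction n with
    | zero =>
      intro k
      rw [hw0, sub_self]
      exact h7_memLocalIdeal_zero hPr
    | succ n ih =>
      intro k
      rw [hw]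
      have h1 : h7_conv (w n) z k - z k =
          (h7_conv (w n) z k - h7_conv z z k) + (h7_conv z z k - z k) := by ring
      rw [h1]
      apply h7_memLocalIdeal_add hPr _ (hzz k)
      rw [h7_conv_apply, h7_conv_apply, ← Finset.sum_sub_distrib]
      apply h7_memLocalIdeal_sum hPr
      intro h _
      rw [← sub_mul]
      exact h7_memLocalIdeal_mul_right hPr (ih h) (hzR _)
  have h1 := hwz N₀ k
  have h2 := hN₀ k
  rw [← hwc N₀] at h2
  have h3 := h7_memLocalIdeal_sub hPr h2 h1
  rwa [sub_sub_cancel] at h3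

open Classical in
/-- a class function with local-integer coefficients that is idempotent modulo the local ideal is
congruent, coefficient by coefficient, to the idempotent of the set of characters at which its
central character value is congruent to one -/
theorem bq_idem_congr {K : Type*} [Group K] [Fintype K] [Fintype (Cfsg.IrrCharacter K)]
    (p : ℕ) [hp : Fact p.Prime]
    (M : Ideal Cfsg.AlgInt) (hM : Cfsg.IsPModular p M) (z : K → ℂ)
    (hzcl : ∀ g h : K, z (h * g * h⁻¹) = z g) (hzR : ∀ k, Cfsg.MemLocalRing M (z k))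
    (hzz : ∀ k, Cfsg.MemLocalIdeal M (h7_conv z z k - z k))
    (S : Set (Cfsg.IrrCharacter K)) (hSR : ∀ k : K, Cfsg.MemLocalRing M (Cfsg.blockCoeff S k))
    (h1 : ∀ ψ ∈ S, Cfsg.MemLocalIdeal M (h7_fourier z ψ - 1))
    (h0 : ∀ ψ ∉ S, Cfsg.MemLocalIdeal M (h7_fourier z ψ)) (k : K) :
    Cfsg.MemLocalIdeal M (z k - Cfsg.blockCoeff S k) := by
  have hPr := hM.2.1.isPrime
  set ν := h7_fourier z with hν
  set σ : Cfsg.IrrCharacter K → ℂ := fun χ => if χ ∈ S then (1 : ℂ) else 0 with hσ
  have hz : z = h7_coef ν := (h7_coef_fourier z hzcl).symm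
  have hw : ∀ k, Cfsg.blockCoeff S k = h7_coef σ k := fun k => (h7_coef_indicator S k).symm
  -- d = z*z - z
  have hd : ∀ k, h7_coef (ν * ν - ν) k = h7_conv z z k - z k := by
    intro k
    have e1 : h7_conv z z = h7_coef (ν * ν) := by
      conv_lhs => rw [hz, h7_conv_coef]
    rw [e1, sub_eq_add_neg, h7_coef_add, h7_coef_neg, ← sub_eq_add_neg]
    conv_rhs => rw [hz]
  have hdI : ∀ k, Cfsg.MemLocalIdeal M (h7_coef (ν * ν - ν) k) := fun k => by
    rw [hd]; exact hzz k
  -- d * w
  have hdw : ∀ k, Cfsg.MemLocalIdeal M (h7_coef ((ν * ν - ν) * σ) k) := by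
    intro k
    rw [← h7_conv_coef, h7_conv_apply]
    apply h7_memLocalIdeal_sum hPr
    intro h _
    apply h7_memLocalIdeal_mul_right hPr (hdI h)
    rw [← hw]
    exact hSR _
  have hzwR : ∀ k, Cfsg.MemLocalRing M (h7_coef (ν * σ) k) := by
    intro k
    rw [← h7_conv_coef, h7_conv_apply]
    apply h7_memLocalRing_sum hPr
    intro h _
    apply h7_memLocalRing_mul hPr
    · rw [← hz]; exact hzR _
    · rw [← hw]; exact hSR _
  have hsub : ∀ (a b : Cfsg.IrrCharacter K → ℂ) (k : K),
      h7_coef (a - b) k = h7_coef a k - h7_coef b k := by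
    intro a b k
    rw [sub_eq_add_neg, h7_coef_add, h7_coef_neg, ← sub_eq_add_neg]
  -- u₁ = z - z*w
  have hu1 : ∀ k, Cfsg.MemLocalIdeal M (h7_coef (ν - ν * σ) k) := by
    apply bq_idem_radical p M hM _ (fun g h => h7_coef_conj _ g h)
    · intro k
      rw [hsub]
      apply h7_memLocalRing_sub hPr _ (hzwR k)
      rw [← hz]; exact hzR _
    · intro k
      rw [h7_conv_coef, ← hsub]
      have e1 : (ν - ν * σ) * (ν - ν * σ) - (ν - ν * σ) = (ν * ν - ν) - (ν * ν - ν) * σ := by
        funext χ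
        simp only [Pi.sub_apply, Pi.mul_apply, hσ]
        split_ifs <;> ring
      rw [e1, hsub]
      exact h7_memLocalIdeal_sub hPr (hdI k) (hdw k)
    · intro ψ
      rw [h7_fourier_coef]
      simp only [Pi.sub_apply, Pi.mul_apply, hσ]
      by_cases hψ : ψ ∈ S
      · rw [if_pos hψ, mul_one, sub_self]
        exact h7_memLocalIdeal_zero hPr
      · rw [if_neg hψ, mul_zero, sub_zero]
        exact h0 ψ hψ
  -- u₂ = w - z*w
  have hu2 : ∀ k, Cfsg.MemLocalIdeal M (h7_coef (σ - ν * σ) k) := by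
    apply bq_idem_radical p M hM _ (fun g h => h7_coef_conj _ g h)
    · intro k
      rw [hsub]
      apply h7_memLocalRing_sub hPr _ (hzwR k)
      rw [← hw]; exact hSR _
    · intro k
      rw [h7_conv_coef, ← hsub]
      have e1 : (σ - ν * σ) * (σ - ν * σ) - (σ - ν * σ) = (ν * ν - ν) * σ := by
        funext χ
        simp only [Pi.sub_apply, Pi.mul_apply, hσ]
        split_ifs <;> ring
      rw [e1]
      exact hdw k
    · intro ψ
      rw [h7_fourier_coef]
      simp only [Pi.sub_apply, Pi.mul_apply, hσ]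
      by_cases hψ : ψ ∈ S
      · rw [if_pos hψ, mul_one]
        have := h7_memLocalIdeal_neg (h1 ψ hψ)
        rwa [neg_sub] at this
      · rw [if_neg hψ, mul_zero, sub_zero]
        exact h7_memLocalIdeal_zero hPr
  have e2 : z k - Cfsg.blockCoeff S k = h7_coef (ν - ν * σ) k - h7_coef (σ - ν * σ) k := by
    rw [hsub, hsub, hw]
    conv_lhs => rw [hz]
    ring
  rw [e2]
  exact h7_memLocalIdeal_sub hPr (hu1 k) (hu2 k)

end

section

/-- the product of the idempotents of two sets of characters -/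
theorem bq_blockCoeff_conv {G : Type*} [Group G] [Fintype G] (S S' : Set (Cfsg.IrrCharacter G)) :
    h7_conv (Cfsg.blockCoeff S) (Cfsg.blockCoeff S') = Cfsg.blockCoeff (S ∩ S') := by
  classical
  haveI : Fintype (Cfsg.IrrCharacter G) := Fintype.ofFinite _
  have e1 : ∀ T : Set (Cfsg.IrrCharacter G), Cfsg.blockCoeff T =
      h7_coef (fun χ : Cfsg.IrrCharacter G => if χ ∈ T then (1 : ℂ) else 0) := by
    intro T
    funext k
    rw [h7_coef_indicator]
  rw [e1, e1, e1, h7_conv_coef]
  congr 1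
  funext χ
  simp only [Pi.mul_apply, Set.mem_inter_iff]
  by_cases h1 : χ ∈ S <;> by_cases h2 : χ ∈ S' <;> simp [h1, h2]

/-- the Brauer-map value of a block idempotent is congruent to one or to zero -/
theorem bq_pair_dichotomy {G : Type*} [Group G] [Fintype G] (p : ℕ) [hp : Fact p.Prime]
    (M : Ideal Cfsg.AlgInt) (hM : Cfsg.IsPModular p M) (P : Subgroup G) (hP : IsPGroup p P)
    (B : Set (Cfsg.IrrCharacter G)) (hB : Cfsg.IsPBlock M B)
    (ξ : Cfsg.IrrCharacter (Subgroup.centralizer (P : Set G))) :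
    Cfsg.MemLocalIdeal M (Cfsg.brauerOmega P (Cfsg.blockCoeff B)
        (ξ : Subgroup.centralizer (P : Set G) → ℂ) - 1) ∨
    Cfsg.MemLocalIdeal M (Cfsg.brauerOmega P (Cfsg.blockCoeff B)
        (ξ : Subgroup.centralizer (P : Set G) → ℂ)) := by
  classical
  haveI : Fintype (Cfsg.IrrCharacter G) := Fintype.ofFinite _
  haveI : Fintype (Subgroup.centralizer (P : Set G)) := Fintype.ofFinite _
  haveI : Fintype (Cfsg.IrrCharacter (Subgroup.centralizer (P : Set G))) := Fintype.ofFinite _
  have hMp := hM.2.1.isPrime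
  have hCN : Subgroup.centralizer (P : Set G) ≤ Subgroup.normalizer (P : Set G) :=
    Subgroup.centralizer_le_normalizer (P : Set G)
  obtain ⟨χ', rfl⟩ := hB
  obtain ⟨χ₀, hχ₀⟩ := h7_brauer_hom_block P (Subgroup.centralizer (P : Set G)) hM hP le_rfl hCN ξ
  have h1 := hχ₀ _ (h7_block_indicator_mem hMp χ')
  rw [br_omega_eq_eval]
  by_cases h : χ₀ ∈ Cfsg.blockOf M (χ' : G → ℂ)
  · left
    rw [if_pos h] at h1
    exact h1
  · right
    rw [if_neg h, sub_zero] at h1
    exact h1

/-- a character of `C_G(P)` at which the Brauer-map value of the idempotent of `B` is congruent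
to one gives a Brauer pair of `B` -/
theorem bq_pair_of_omega {G : Type*} [Group G] [Fintype G] (p : ℕ) [hp : Fact p.Prime]
    (M : Ideal Cfsg.AlgInt) (hM : Cfsg.IsPModular p M) (P : Subgroup G) (hP : IsPGroup p P)
    (B : Set (Cfsg.IrrCharacter G)) (hB : Cfsg.IsPBlock M B)
    (ξ : Cfsg.IrrCharacter (Subgroup.centralizer (P : Set G)))
    (h : Cfsg.MemLocalIdeal M (Cfsg.brauerOmega P (Cfsg.blockCoeff B)
        (ξ : Subgroup.centralizer (P : Set G) → ℂ) - 1)) :
    Cfsg.IsBrauerPairOf p M B P (Cfsg.blockOf M (ξ : Subgroup.centralizer (P : Set G) → ℂ)) := by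
  classical
  haveI : Fintype (Cfsg.IrrCharacter G) := Fintype.ofFinite _
  haveI : Fintype (Subgroup.centralizer (P : Set G)) := Fintype.ofFinite _
  haveI : Fintype (Cfsg.IrrCharacter (Subgroup.centralizer (P : Set G))) := Fintype.ofFinite _
  have hMp := hM.2.1.isPrime
  refine ⟨⟨hP, ξ, rfl⟩, hB, ?_⟩
  intro ξ' hξ'
  obtain ⟨χ', rfl⟩ := hB
  have h1 := br_omega_congr p M hM P χ' ξ' ξ (h7_sameBlock_symm hξ')
  have h2 := h7_memLocalIdeal_add hMp h1 h
  rwa [sub_add_sub_cancel] at h2

/-- a defect group centralizes a defect class representative with unit idempotent coefficient -/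
theorem bq_defect_unit {G : Type*} [Group G] (p : ℕ) (M : Ideal Cfsg.AlgInt)
    (B : Set (Cfsg.IrrCharacter G)) (P : Subgroup G) (hdef : Cfsg.IsDefectGroup p M B P) :
    ∃ g ∈ Subgroup.centralizer (P : Set G), ¬ Cfsg.MemLocalIdeal M (Cfsg.blockCoeff B g) := by
  obtain ⟨g, hcl, S, hS⟩ := hdef
  refine ⟨g, ?_, hcl.2.1⟩
  rw [Subgroup.mem_centralizer_iff]
  intro u hu
  rw [SetLike.mem_coe, hS] at hu
  obtain ⟨c, hc, rfl⟩ := hu
  have := Subgroup.mem_centralizer_iff.mp c.2 g (Set.mem_singleton g)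
  exact this.symm

/-- a block has a Brauer pair on each of its defect groups -/
theorem bq_pair_at_defect {G : Type*} [Group G] [Fintype G] (p : ℕ) [hp : Fact p.Prime]
    (M : Ideal Cfsg.AlgInt) (hM : Cfsg.IsPModular p M) (P : Subgroup G) (hP : IsPGroup p P)
    (B : Set (Cfsg.IrrCharacter G)) (hB : Cfsg.IsPBlock M B)
    (hdef : Cfsg.IsDefectGroup p M B P) :
    ∃ e : Set (Cfsg.IrrCharacter (Subgroup.centralizer (P : Set G))),
      Cfsg.IsBrauerPairOf p M B P e := by
  classical
  haveI : Fintype (Cfsg.IrrCharacter G) := Fintype.ofFinite _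
  haveI : Fintype (Subgroup.centralizer (P : Set G)) := Fintype.ofFinite _
  have hMp := hM.2.1.isPrime
  obtain ⟨g, hg, hunit⟩ := bq_defect_unit p M B P hdef
  have hBR : ∀ x, Cfsg.MemLocalRing M (Cfsg.blockCoeff B x) := by
    obtain ⟨χ', rfl⟩ := hB
    exact fun x => h7_osima hMp χ' x
  obtain ⟨ξ, hξ⟩ := bq_nonvanishing p M hM P hP (Cfsg.blockCoeff B) hBR
    (fun u _ x => br_blockCoeff_conj B x u) (fun d _ x => br_blockCoeff_conj B x d)
    (by rw [bq_blockCoeff_conv, Set.inter_self]) g hg hunit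
  rcases bq_pair_dichotomy p M hM P hP B hB ξ with h | h
  · exact ⟨_, bq_pair_of_omega p M hM P hP B hB ξ h⟩
  · exact absurd h hξ

/-- two blocks with a common defect group `P` whose idempotents agree on `C_G(P)` modulo the local
ideal are equal -/
theorem bq_block_eq_of_coeff {G : Type*} [Group G] [Fintype G] (p : ℕ) [hp : Fact p.Prime]
    (M : Ideal Cfsg.AlgInt) (hM : Cfsg.IsPModular p M) (P : Subgroup G) (hP : IsPGroup p P)
    (B B' : Set (Cfsg.IrrCharacter G)) (hB : Cfsg.IsPBlock M B) (hB' : Cfsg.IsPBlock M B')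
    (hdef : Cfsg.IsDefectGroup p M B P)
    (h : ∀ x ∈ Subgroup.centralizer (P : Set G),
      Cfsg.MemLocalIdeal M (Cfsg.blockCoeff B x - Cfsg.blockCoeff B' x)) : B = B' := by
  classical
  haveI : Fintype (Cfsg.IrrCharacter G) := Fintype.ofFinite _
  haveI : Fintype (Subgroup.centralizer (P : Set G)) := Fintype.ofFinite _
  have hMp := hM.2.1.isPrime
  by_contra hne
  have hBR : ∀ x, Cfsg.MemLocalRing M (Cfsg.blockCoeff B x) := by
    obtain ⟨χ', rfl⟩ := hB
    exact fun x => h7_osima hMp χ' x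
  have hB'R : ∀ x, Cfsg.MemLocalRing M (Cfsg.blockCoeff B' x) := by
    obtain ⟨χ', rfl⟩ := hB'
    exact fun x => h7_osima hMp χ' x
  have hdisj : B ∩ B' = ∅ := by
    by_contra hne'
    obtain ⟨χ, hχ, hχ'⟩ := Set.nonempty_iff_ne_empty.mpr hne'
    obtain ⟨χ₁, rfl⟩ := hB
    obtain ⟨χ₂, rfl⟩ := hB'
    apply hne
    rw [h7_blockOf_eq_of_mem hMp χ₁ χ hχ, h7_blockOf_eq_of_mem hMp χ₂ χ hχ']
  obtain ⟨g, hg, hunit⟩ := bq_defect_unit p M B P hdef
  apply hunit
  have h1 := bq_conv_restrict p M hM P hP (Cfsg.blockCoeff B) (Cfsg.blockCoeff B) hBR hBR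
    (fun u _ x => br_blockCoeff_conj B x u) (fun u _ x => br_blockCoeff_conj B x u) ⟨g, hg⟩
  have h2 := bq_conv_restrict p M hM P hP (Cfsg.blockCoeff B) (Cfsg.blockCoeff B') hBR hB'R
    (fun u _ x => br_blockCoeff_conj B x u) (fun u _ x => br_blockCoeff_conj B' x u) ⟨g, hg⟩
  rw [bq_blockCoeff_conv, Set.inter_self] at h1
  rw [bq_blockCoeff_conv, hdisj] at h2
  have h0 : Cfsg.blockCoeff (∅ : Set (Cfsg.IrrCharacter G)) g = 0 := by
    unfold Cfsg.blockCoeff
    simp
  rw [h0, zero_sub] at h2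
  have h3 : Cfsg.MemLocalIdeal M
      (h7_conv (fun y : Subgroup.centralizer (P : Set G) => Cfsg.blockCoeff B y)
        (fun y : Subgroup.centralizer (P : Set G) => Cfsg.blockCoeff B y) ⟨g, hg⟩ -
      h7_conv (fun y : Subgroup.centralizer (P : Set G) => Cfsg.blockCoeff B y)
        (fun y : Subgroup.centralizer (P : Set G) => Cfsg.blockCoeff B' y) ⟨g, hg⟩) := by
    rw [h7_conv_apply, h7_conv_apply, ← Finset.sum_sub_distrib]
    apply h7_memLocalIdeal_sum hMp
    intro y _
    rw [← mul_sub]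
    exact h7_memLocalIdeal_mul_left hMp (hBR _) (h _ (Subgroup.mul_mem _ (Subgroup.inv_mem _ y.2) hg))
  -- blockCoeff B g ≡ conv z z ≡ conv z z' ≡ 0
  have h4 := h7_memLocalIdeal_add hMp h1 h3
  rw [sub_add_sub_cancel] at h4
  have h5 := h7_memLocalIdeal_neg h2
  rw [neg_neg] at h5
  have h6 := h7_memLocalIdeal_add hMp h4 h5
  rwa [sub_add_cancel] at h6

end

section

/-- being a Brauer pair of `B` transports along equality of pairs -/
theorem bq_pairOf_congr {G : Type*} [Group G] (p : ℕ) (M : Ideal Cfsg.AlgInt)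
    (B : Set (Cfsg.IrrCharacter G)) (a b : Cfsg.BrauerPairIdx G) (h : a = b)
    (ha : Cfsg.IsBrauerPairOf p M B a.1 a.2) : Cfsg.IsBrauerPairOf p M B b.1 b.2 := by
  subst h
  exact ha

/-- **the Brauer map on a block idempotent**: if `B` has defect group `P` and `b` is its Brauer
correspondent in `N_G(P)`, then the idempotents of `B` and `b` agree on `C_G(P)` modulo the local
ideal -/
theorem bq_brauer_coeff {G : Type*} [Group G] [Fintype G] (p : ℕ) [hp : Fact p.Prime]
    (M : Ideal Cfsg.AlgInt) (hM : Cfsg.IsPModular p M) (P : Subgroup G) (hP : IsPGroup p P)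
    (B : Set (Cfsg.IrrCharacter G)) (hB : Cfsg.IsPBlock M B)
    (hdef : Cfsg.IsDefectGroup p M B P)
    (b : Set (Cfsg.IrrCharacter (Subgroup.normalizer (P : Set G)))) (hb : Cfsg.IsPBlock M b)
    (hbdef : Cfsg.IsDefectGroup p M b (P.subgroupOf (Subgroup.normalizer (P : Set G))))
    (hind : Cfsg.IsInducedBlock M (Subgroup.normalizer (P : Set G)) b B)
    (x : G) (hx : x ∈ Subgroup.centralizer (P : Set G)) :
    Cfsg.MemLocalIdeal M (Cfsg.blockCoeff B x -
      Cfsg.subgroupBlockCoeff (Subgroup.normalizer (P : Set G)) b x) := by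
  classical
  haveI : Fintype (Cfsg.IrrCharacter G) := Fintype.ofFinite _
  haveI : Fintype (Subgroup.centralizer (P : Set G)) := Fintype.ofFinite _
  haveI : Fintype (Cfsg.IrrCharacter (Subgroup.centralizer (P : Set G))) := Fintype.ofFinite _
  have hMp := hM.2.1.isPrime
  have hCN : Subgroup.centralizer (P : Set G) ≤ Subgroup.normalizer (P : Set G) :=
    Subgroup.centralizer_le_normalizer _
  have hNK : Subgroup.normalizer (P : Set G) ≤ Subgroup.normalizer
      ((Subgroup.centralizer (P : Set G) : Subgroup G) : Set G) :=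
    fun x hx => bm_normalizer_centralizer P x hx
  obtain ⟨e, hpair⟩ := bq_pair_at_defect p M hM P hP B hB hdef
  have he : Cfsg.IsPBlock M e := hpair.1.2
  have hmax := bq_max_of_defect p M hM B P e hpair hdef
  obtain ⟨b', hb', hdef', hbc', hind'⟩ := bq_max_induced p M hM B P e hmax hNK
  have hbb : b' = b := ((Cfsg.Agent.S0920.result p M hM P hP).2 B hB hdef).unique
    ⟨hb', hdef', hind'⟩ ⟨hb, hbdef, hind⟩
  subst hbb
  rw [bq_sbc_mem _ b' x (hCN hx), hbc' ⟨x, hCN hx⟩, bq_sbc_mem _ _ x hx]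
  have hBR : ∀ x, Cfsg.MemLocalRing M (Cfsg.blockCoeff B x) := by
    obtain ⟨χ', rfl⟩ := hB
    exact fun x => h7_osima hMp χ' x
  have hF : ∀ ψ : Cfsg.IrrCharacter (Subgroup.centralizer (P : Set G)),
      h7_fourier (fun c : Subgroup.centralizer (P : Set G) => Cfsg.blockCoeff B c) ψ =
        Cfsg.brauerOmega P (Cfsg.blockCoeff B) (ψ : Subgroup.centralizer (P : Set G) → ℂ) := by
    intro ψ
    rw [bq_omega_eq]
    unfold bm_omega
    rw [h7_fourier_apply, Finset.sum_div]
  refine bq_idem_congr p M hM (fun c : Subgroup.centralizer (P : Set G) => Cfsg.blockCoeff B c)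
    ?_ (fun k => hBR _) ?_ _ ?_ ?_ ?_ ⟨x, hx⟩
  · intro g h
    show Cfsg.blockCoeff B ((h * g * h⁻¹ : Subgroup.centralizer (P : Set G)) : G) = _
    rw [Subgroup.coe_mul, Subgroup.coe_mul, Subgroup.coe_inv]
    exact br_blockCoeff_conj _ _ _
  · intro k
    have h1 := bq_conv_restrict p M hM P hP (Cfsg.blockCoeff B) (Cfsg.blockCoeff B) hBR hBR
      (fun u _ x => br_blockCoeff_conj B x u) (fun u _ x => br_blockCoeff_conj B x u) k
    rw [bq_blockCoeff_conv, Set.inter_self] at h1
    have h2 := h7_memLocalIdeal_neg h1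
    rwa [neg_sub] at h2
  · intro k
    have := bq_sbc_union_blocks hMp (Subgroup.centralizer (P : Set G)) _
      (bq_orbitUnion_blocks hMp (Subgroup.centralizer (P : Set G))
        (Subgroup.normalizer (P : Set G)) hNK e he) (k : G)
    rwa [bq_sbc_mem _ _ _ k.2] at this
  · rintro ψ ⟨n, hn, hψ⟩
    rw [hF]
    have h1 := bq_pairOf_congr p M B _ _ (bq_conjIdx_normalizer P n hn (hNK hn) e)
      (bq_conj_isBrauerPairOf p M B P n e hpair)
    exact h1.2.2 ψ hψ
  · intro ψ hψ
    rw [hF]
    rcases bq_pair_dichotomy p M hM P hP B hB ψ with h | h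
    · exfalso
      apply hψ
      have hpair' := bq_pair_of_omega p M hM P hP B hB ψ h
      have hmax' := bq_max_of_defect p M hM B P _ hpair' hdef
      obtain ⟨n, hn, hen⟩ := bq_max_same p M hM B P _ e hmax' hmax hNK
      refine ⟨n, hn, ?_⟩
      rw [← hen]
      exact h7_sameBlock_refl hMp _
    · exact h

end

section

/-- the normalizer of `P` inside a subgroup `H ≥ P` -/
theorem bq_mem_normalizer_subgroupOf {G : Type*} [Group G] (P H : Subgroup G) (hPH : P ≤ H)
    (h : H) : h ∈ Subgroup.normalizer ((P.subgroupOf H : Subgroup H) : Set H) ↔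
      (h : G) ∈ Subgroup.normalizer (P : Set G) := by
  rw [← Subgroup.subgroupOf_normalizer_eq hPH, Subgroup.mem_subgroupOf]

/-- the centralizer of `P` inside a subgroup `H ≥ P` -/
theorem bq_mem_centralizer_subgroupOf {G : Type*} [Group G] (P H : Subgroup G) (hPH : P ≤ H)
    (h : H) : h ∈ Subgroup.centralizer ((P.subgroupOf H : Subgroup H) : Set H) ↔
      (h : G) ∈ Subgroup.centralizer (P : Set G) := by
  rw [Subgroup.mem_centralizer_iff, Subgroup.mem_centralizer_iff]
  constructor
  · intro hc u hu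
    have := hc ⟨u, hPH hu⟩ (Subgroup.mem_subgroupOf.mpr hu)
    exact congrArg Subtype.val this
  · intro hc u hu
    apply Subtype.ext
    exact hc (u : G) (Subgroup.mem_subgroupOf.mp hu)

/-- the isomorphism between `N_H(P)` and `N_G(P)` for `N_G(P) ≤ H` -/
def bq_normEquiv {G : Type*} [Group G] (P H : Subgroup G)
    (hH : Subgroup.normalizer (P : Set G) ≤ H) :
    Subgroup.normalizer ((P.subgroupOf H : Subgroup H) : Set H) ≃*
      Subgroup.normalizer (P : Set G) where
  toFun y := ⟨((y : H) : G),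
    (bq_mem_normalizer_subgroupOf P H (Subgroup.le_normalizer.trans hH) (y : H)).mp y.2⟩
  invFun n := ⟨⟨(n : G), hH n.2⟩,
    (bq_mem_normalizer_subgroupOf P H (Subgroup.le_normalizer.trans hH) ⟨(n : G), hH n.2⟩).mpr n.2⟩
  left_inv y := rfl
  right_inv n := rfl
  map_mul' y y' := rfl

theorem bq_normEquiv_coe {G : Type*} [Group G] (P H : Subgroup G)
    (hH : Subgroup.normalizer (P : Set G) ≤ H)
    (y : Subgroup.normalizer ((P.subgroupOf H : Subgroup H) : Set H)) :
    ((bq_normEquiv P H hH y : Subgroup.normalizer (P : Set G)) : G) = ((y : H) : G) := rfl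

theorem bq_normEquiv_symm_coe {G : Type*} [Group G] (P H : Subgroup G)
    (hH : Subgroup.normalizer (P : Set G) ≤ H) (n : Subgroup.normalizer (P : Set G)) :
    ((((bq_normEquiv P H hH).symm n : Subgroup.normalizer ((P.subgroupOf H : Subgroup H) : Set H))
      : H) : G) = (n : G) := rfl

theorem bq_normEquiv_comap {G : Type*} [Group G] (P H : Subgroup G)
    (hH : Subgroup.normalizer (P : Set G) ≤ H) :
    (P.subgroupOf (Subgroup.normalizer (P : Set G))).comap (bq_normEquiv P H hH).toMonoidHom =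
      (P.subgroupOf H).subgroupOf (Subgroup.normalizer ((P.subgroupOf H : Subgroup H) : Set H)) := by
  ext y
  rw [Subgroup.mem_comap, Subgroup.mem_subgroupOf, Subgroup.mem_subgroupOf, Subgroup.mem_subgroupOf]
  rfl

theorem bq_normEquiv_symm_comap {G : Type*} [Group G] (P H : Subgroup G)
    (hH : Subgroup.normalizer (P : Set G) ≤ H) :
    ((P.subgroupOf H).subgroupOf
      (Subgroup.normalizer ((P.subgroupOf H : Subgroup H) : Set H))).comap
        (bq_normEquiv P H hH).symm.toMonoidHom =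
      P.subgroupOf (Subgroup.normalizer (P : Set G)) := by
  ext y
  rw [Subgroup.mem_comap, Subgroup.mem_subgroupOf, Subgroup.mem_subgroupOf, Subgroup.mem_subgroupOf]
  rfl

theorem bq_trSet_symm {A B : Type*} [Group A] [Group B] (σ : A ≃* B)
    (b : Set (Cfsg.IrrCharacter A)) : bq_trSet σ (bq_trSet σ.symm b) = b := by
  ext θ
  show bq_trIrr σ (bq_trIrr σ.symm θ) ∈ b ↔ θ ∈ b
  rw [bq_trIrr_symm']

end

section

/-- the coefficient criterion for blocks of `G` and `H ≥ N_G(P)` whose Brauer correspondents in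
`N_G(P)` match -/
theorem bq_ext_coeff {G : Type*} [Group G] [Fintype G] (p : ℕ) [hp : Fact p.Prime]
    (M : Ideal Cfsg.AlgInt) (hM : Cfsg.IsPModular p M) (P H : Subgroup G) (hP : IsPGroup p P)
    (hH : Subgroup.normalizer (P : Set G) ≤ H)
    (B : Set (Cfsg.IrrCharacter G)) (hB : Cfsg.IsPBlock M B)
    (hdef : Cfsg.IsDefectGroup p M B P)
    (c : Set (Cfsg.IrrCharacter H)) (hc : Cfsg.IsPBlock M c)
    (hcdef : Cfsg.IsDefectGroup p M c (P.subgroupOf H))
    (b : Set (Cfsg.IrrCharacter (Subgroup.normalizer (P : Set G)))) (hb : Cfsg.IsPBlock M b)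
    (hbdef : Cfsg.IsDefectGroup p M b (P.subgroupOf (Subgroup.normalizer (P : Set G))))
    (hind : Cfsg.IsInducedBlock M (Subgroup.normalizer (P : Set G)) b B)
    (bH : Set (Cfsg.IrrCharacter (Subgroup.normalizer ((P.subgroupOf H : Subgroup H) : Set H))))
    (hbH : Cfsg.IsPBlock M bH)
    (hbHdef : Cfsg.IsDefectGroup p M bH ((P.subgroupOf H).subgroupOf
      (Subgroup.normalizer ((P.subgroupOf H : Subgroup H) : Set H))))
    (hindH : Cfsg.IsInducedBlock M (Subgroup.normalizer ((P.subgroupOf H : Subgroup H) : Set H))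
      bH c)
    (hcoef : ∀ y : Subgroup.normalizer ((P.subgroupOf H : Subgroup H) : Set H),
      Cfsg.blockCoeff bH y = Cfsg.blockCoeff b (bq_normEquiv P H hH y))
    (x : G) (hx : x ∈ Subgroup.centralizer (P : Set G)) :
    Cfsg.MemLocalIdeal M (Cfsg.blockCoeff B x - Cfsg.subgroupBlockCoeff H c x) := by
  classical
  haveI : Fintype H := Fintype.ofFinite _
  have hMp := hM.2.1.isPrime
  have hPH : P ≤ H := Subgroup.le_normalizer.trans hH
  have hCN : Subgroup.centralizer (P : Set G) ≤ Subgroup.normalizer (P : Set G) :=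
    Subgroup.centralizer_le_normalizer _
  have hxH : x ∈ H := hH (hCN hx)
  have hPHp : IsPGroup p (P.subgroupOf H) := hP.comap_subtype
  have hy : (⟨x, hxH⟩ : H) ∈ Subgroup.centralizer ((P.subgroupOf H : Subgroup H) : Set H) :=
    (bq_mem_centralizer_subgroupOf P H hPH ⟨x, hxH⟩).mpr hx
  have hyN : (⟨x, hxH⟩ : H) ∈ Subgroup.normalizer ((P.subgroupOf H : Subgroup H) : Set H) :=
    Subgroup.centralizer_le_normalizer _ hy
  have h1 := bq_brauer_coeff p M hM P hP B hB hdef b hb hbdef hind x hx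
  have h2 := bq_brauer_coeff p M hM (P.subgroupOf H) hPHp c hc hcdef bH hbH hbHdef hindH
    ⟨x, hxH⟩ hy
  have e1 : Cfsg.subgroupBlockCoeff (Subgroup.normalizer ((P.subgroupOf H : Subgroup H) : Set H))
      bH ⟨x, hxH⟩ = Cfsg.subgroupBlockCoeff (Subgroup.normalizer (P : Set G)) b x := by
    rw [bq_sbc_mem _ bH _ hyN, bq_sbc_mem _ b x (hCN hx), hcoef]
    rfl
  rw [e1] at h2
  rw [bq_sbc_mem H c x hxH]
  have h3 := h7_memLocalIdeal_sub hMp h1 h2
  rwa [sub_sub_sub_cancel_right] at h3

end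

section

/-- **extended first main theorem**: the Brauer correspondence between blocks of `G` and of
`H ≥ N_G(P)` with defect group `P`, characterized by the Brauer map at `P` -/
theorem bq_ext_first_main {G : Type*} [Group G] [Fintype G] (p : ℕ) [hp : Fact p.Prime]
    (M : Ideal Cfsg.AlgInt) (hM : Cfsg.IsPModular p M) (P H : Subgroup G) (hP : IsPGroup p P)
    (hH : Subgroup.normalizer (P : Set G) ≤ H) :
    (∀ B : Set (Cfsg.IrrCharacter G), Cfsg.IsPBlock M B → Cfsg.IsDefectGroup p M B P →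
      ∃! c : Set (Cfsg.IrrCharacter H), Cfsg.IsPBlock M c ∧
        Cfsg.IsDefectGroup p M c (P.subgroupOf H) ∧
        ∀ x : G, x ∈ Subgroup.centralizer (P : Set G) →
          Cfsg.MemLocalIdeal M (Cfsg.blockCoeff B x - Cfsg.subgroupBlockCoeff H c x)) ∧
    (∀ c : Set (Cfsg.IrrCharacter H), Cfsg.IsPBlock M c →
      Cfsg.IsDefectGroup p M c (P.subgroupOf H) →
      ∃! B : Set (Cfsg.IrrCharacter G), Cfsg.IsPBlock M B ∧ Cfsg.IsDefectGroup p M B P ∧
        ∀ x : G, x ∈ Subgroup.centralizer (P : Set G) →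
          Cfsg.MemLocalIdeal M (Cfsg.blockCoeff B x - Cfsg.subgroupBlockCoeff H c x)) := by
  classical
  haveI : Fintype H := Fintype.ofFinite _
  have hMp := hM.2.1.isPrime
  have hPH : P ≤ H := Subgroup.le_normalizer.trans hH
  have hCN : Subgroup.centralizer (P : Set G) ≤ Subgroup.normalizer (P : Set G) :=
    Subgroup.centralizer_le_normalizer _
  have hPHp : IsPGroup p (P.subgroupOf H) := hP.comap_subtype
  have hG := Cfsg.Agent.S0920.result p M hM P hP
  have hHH := Cfsg.Agent.S0920.result p M hM (P.subgroupOf H) hPHp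
  set σ := bq_normEquiv P H hH with hσ
  constructor
  · intro B hB hdef
    obtain ⟨b, ⟨hb, hbdef, hind⟩, -⟩ := hG.2 B hB hdef
    have hbH : Cfsg.IsPBlock M (bq_trSet σ b) := bq_trSet_isBlock M σ b hb
    have hbHdef := bq_defect_trSet p M σ b _ hbdef
    rw [hσ, bq_normEquiv_comap] at hbHdef
    obtain ⟨c, hc, hcdef, hindH⟩ := hHH.1 (bq_trSet σ b) hbH hbHdef
    refine ⟨c, ⟨hc, hcdef, ?_⟩, ?_⟩
    · intro x hx
      exact bq_ext_coeff p M hM P H hP hH B hB hdef c hc hcdef b hb hbdef hind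
        (bq_trSet σ b) hbH hbHdef hindH (fun y => bq_blockCoeff_trSet σ b y) x hx
    · rintro c' ⟨hc', hcdef', hcrit'⟩
      have hcrit := fun x hx => bq_ext_coeff p M hM P H hP hH B hB hdef c hc hcdef b hb hbdef hind
        (bq_trSet σ b) hbH hbHdef hindH (fun y => bq_blockCoeff_trSet σ b y) x hx
      apply bq_block_eq_of_coeff p M hM (P.subgroupOf H) hPHp c' c hc' hc hcdef'
      intro y hy
      have hyG := (bq_mem_centralizer_subgroupOf P H hPH y).mp hy
      have h1 := hcrit' (y : G) hyG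
      have h2 := hcrit (y : G) hyG
      rw [bq_sbc_mem H _ _ y.2] at h1 h2
      have h3 := h7_memLocalIdeal_sub hMp h2 h1
      rwa [sub_sub_sub_cancel_left] at h3
  · intro c hc hcdef
    obtain ⟨bH, ⟨hbH, hbHdef, hindH⟩, -⟩ := hHH.2 c hc hcdef
    have hb : Cfsg.IsPBlock M (bq_trSet σ.symm bH) := bq_trSet_isBlock M σ.symm bH hbH
    have hbdef := bq_defect_trSet p M σ.symm bH _ hbHdef
    rw [hσ, bq_normEquiv_symm_comap] at hbdef
    obtain ⟨B, hB, hdef, hind⟩ := hG.1 (bq_trSet σ.symm bH) hb hbdef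
    have hcoef : ∀ y : Subgroup.normalizer ((P.subgroupOf H : Subgroup H) : Set H),
        Cfsg.blockCoeff bH y = Cfsg.blockCoeff (bq_trSet σ.symm bH) (bq_normEquiv P H hH y) := by
      intro y
      rw [bq_blockCoeff_trSet, ← hσ, MulEquiv.symm_apply_apply]
    refine ⟨B, ⟨hB, hdef, ?_⟩, ?_⟩
    · intro x hx
      exact bq_ext_coeff p M hM P H hP hH B hB hdef c hc hcdef _ hb hbdef hind
        bH hbH hbHdef hindH hcoef x hx
    · rintro B' ⟨hB', hdef', hcrit'⟩
      have hcrit := fun x hx => bq_ext_coeff p M hM P H hP hH B hB hdef c hc hcdef _ hb hbdef hind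
        bH hbH hbHdef hindH hcoef x hx
      apply bq_block_eq_of_coeff p M hM P hP B' B hB' hB hdef'
      intro x hx
      have h1 := hcrit' x hx
      have h2 := hcrit x hx
      have h3 := h7_memLocalIdeal_sub hMp h1 h2
      rwa [sub_sub_sub_cancel_right] at h3

end

end Cfsg.Agent.Lib.Helper25
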