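import Mathlib
import Cfsg.Agent.Lib.Helper25.BrauerPairExtMain
import Cfsg.Agent.Lib.Helper24.FongPIndex

/-!
Nilpotent blocks and fusion (S4686): a block is nilpotent iff its fusion system on a maximal Brauer pair is inner. Pieces: bq_rel_mem / bq_rel_normalizer / bq_rel_stabilizes / bq_rel_sbc (transport along a coercion-compatible isomorphism between a subgroup of T and a subgroup of G), bq_omega_relCent_fun, bq_liftT (pairs of the stabilizer T above Q as pairs of G) with bq_liftT_step, bq_liftT_chain, bq_liftT_of, bq_liftT_conj, bq_over_conj_stab (pairs normally above (Q,f) are T-conjugate into (P,e) when N_P(Q) is a defect group of the stabilizer block), bq_pow_regular, bq_stab_factor (T = D C_G(Q) when T/C_G(Q) is a p-group, via Fong fp_main), bq_le_isBrauerPair, bq_stab_exists, bq_factor_conj, bq_nilpotent_control (control of fusion), bq_regular_centralizes, bq_nilpotent_iff_inner.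
-/

set_option autoImplicit false
set_option linter.style.haveILetI false
set_option linter.unusedVariables false
set_option warn.classDefReducibility false
set_option maxHeartbeats 1600000

namespace Cfsg.Agent.Lib.Helper25
open Cfsg.Agent.Lib.Helper24
open Cfsg.Agent.Lib.helper2
open Cfsg.Agent.Lib.helper7
open scoped ComplexConjugate
section

/-- membership in a subgroup of `T` read in `G` through a coercion-compatible isomorphism -/
theorem bq_rel_mem {G : Type*} [Group G] (T : Subgroup G) (KT : Subgroup T) (KG : Subgroup G)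
    (ρ : KT ≃* KG) (hρ : ∀ k : KT, ((ρ k : KG) : G) = ((k : T) : G)) (t : T) :
    t ∈ KT ↔ (t : G) ∈ KG := by
  constructor
  · intro ht
    have := (ρ ⟨t, ht⟩).2
    rwa [hρ] at this
  · intro ht
    have h1 : ((ρ.symm ⟨(t : G), ht⟩ : KT) : T) = t := by
      apply Subtype.ext
      rw [← hρ, MulEquiv.apply_symm_apply]
    rw [← h1]
    exact (ρ.symm ⟨(t : G), ht⟩).2

theorem bq_rel_le {G : Type*} [Group G] (T : Subgroup G) (KT : Subgroup T) (KG : Subgroup G)
    (ρ : KT ≃* KG) (hρ : ∀ k : KT, ((ρ k : KG) : G) = ((k : T) : G)) : KG ≤ T := by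
  intro g hg
  have h1 : (((ρ.symm ⟨g, hg⟩ : KT) : T) : G) = g := by
    rw [← hρ, MulEquiv.apply_symm_apply]
  rw [← h1]
  exact ((ρ.symm ⟨g, hg⟩ : KT) : T).2

theorem bq_rel_symm_coe {G : Type*} [Group G] (T : Subgroup G) (KT : Subgroup T) (KG : Subgroup G)
    (ρ : KT ≃* KG) (hρ : ∀ k : KT, ((ρ k : KG) : G) = ((k : T) : G)) (k : KG) :
    (((ρ.symm k : KT) : T) : G) = (k : G) := by
  rw [← hρ, MulEquiv.apply_symm_apply]

/-- normalizers through a coercion-compatible isomorphism -/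
theorem bq_rel_normalizer {G : Type*} [Group G] (T : Subgroup G) (KT : Subgroup T)
    (KG : Subgroup G)
    (ρ : KT ≃* KG) (hρ : ∀ k : KT, ((ρ k : KG) : G) = ((k : T) : G)) (s : T) :
    s ∈ Subgroup.normalizer (KT : Set T) ↔ (s : G) ∈ Subgroup.normalizer (KG : Set G) := by
  have hm := bq_rel_mem T KT KG ρ hρ
  have hle := bq_rel_le T KT KG ρ hρ
  rw [Subgroup.mem_normalizer_iff, Subgroup.mem_normalizer_iff]
  constructor
  · intro h g
    by_cases hg : g ∈ T
    · have := h ⟨g, hg⟩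
      rw [hm, hm] at this
      exact this
    · constructor
      · intro h1
        exact absurd (hle h1) hg
      · intro h1
        exfalso
        apply hg
        have h2 := hle h1
        have h3 := T.mul_mem (T.mul_mem (T.inv_mem s.2) h2) s.2
        have h4 : (s : G)⁻¹ * ((s : G) * g * (s : G)⁻¹) * (s : G) = g := by group
        rwa [h4] at h3
  · intro h t
    rw [hm, hm]
    exact h (t : G)

/-- **stability of a set of characters through a coercion-compatible isomorphism** -/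
theorem bq_rel_stabilizes {G : Type*} [Group G] (T : Subgroup G) (KT : Subgroup T)
    (KG : Subgroup G)
    (ρ : KT ≃* KG) (hρ : ∀ k : KT, ((ρ k : KG) : G) = ((k : T) : G))
    (h : Set (Cfsg.IrrCharacter KT)) (s : T) :
    Cfsg.StabilizesBlock KT h s ↔ Cfsg.StabilizesBlock KG (bq_trSet ρ.symm h) (s : G) := by
  constructor
  · rintro ⟨hn, hst⟩
    refine ⟨(bq_rel_normalizer T KT KG ρ hρ s).mp hn, ?_⟩
    intro χ hχ
    have hχ' : bq_trIrr ρ χ ∈ h := hχ
    obtain ⟨χT, hχT, hconj⟩ := hst _ hχ'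
    refine ⟨bq_trIrr ρ.symm χT, ?_, ?_⟩
    · show bq_trIrr ρ.symm.symm (bq_trIrr ρ.symm χT) ∈ h
      rw [bq_trIrr_symm]
      exact hχT
    · intro k k' hkk'
      rw [bq_trIrr_apply]
      have h1 : ((ρ.symm k' : KT) : T) = s * ((ρ.symm k : KT) : T) * s⁻¹ := by
        apply Subtype.ext
        rw [Subgroup.coe_mul, Subgroup.coe_mul, Subgroup.coe_inv,
          bq_rel_symm_coe T KT KG ρ hρ, bq_rel_symm_coe T KT KG ρ hρ]
        exact hkk'
      rw [hconj (ρ.symm k) (ρ.symm k') h1, bq_trIrr_apply, MulEquiv.apply_symm_apply]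
  · rintro ⟨hn, hst⟩
    refine ⟨(bq_rel_normalizer T KT KG ρ hρ s).mpr hn, ?_⟩
    intro χT hχT
    have hχ : bq_trIrr ρ.symm χT ∈ bq_trSet ρ.symm h := by
      show bq_trIrr ρ.symm.symm (bq_trIrr ρ.symm χT) ∈ h
      rw [bq_trIrr_symm]
      exact hχT
    obtain ⟨χ', hχ', hconj⟩ := hst _ hχ
    refine ⟨bq_trIrr ρ χ', hχ', ?_⟩
    intro k k' hkk'
    rw [bq_trIrr_apply]
    have h1 : ((ρ k' : KG) : G) = (s : G) * ((ρ k : KG) : G) * (s : G)⁻¹ := by
      rw [hρ, hρ, hkk', Subgroup.coe_mul, Subgroup.coe_mul, Subgroup.coe_inv]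
    rw [hconj (ρ k) (ρ k') h1, bq_trIrr_apply, MulEquiv.symm_apply_apply]

/-- the idempotent of a transported set of characters, extended by zero -/
theorem bq_rel_sbc {G : Type*} [Group G] [Finite G] (T : Subgroup G) (KT : Subgroup T)
    (KG : Subgroup G)
    (ρ : KT ≃* KG) (hρ : ∀ k : KT, ((ρ k : KG) : G) = ((k : T) : G))
    (h : Set (Cfsg.IrrCharacter KT)) (g : G) :
    Cfsg.subgroupBlockCoeff KG (bq_trSet ρ.symm h) g =
      Cfsg.extendByZero T (Cfsg.subgroupBlockCoeff KT h) g := by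
  classical
  haveI : Fintype KT := Fintype.ofFinite _
  haveI : Fintype KG := Fintype.ofFinite _
  have hm := bq_rel_mem T KT KG ρ hρ
  have hle := bq_rel_le T KT KG ρ hρ
  by_cases hg : g ∈ KG
  · have hgT : g ∈ T := hle hg
    have hgK : (⟨g, hgT⟩ : T) ∈ KT := (hm _).mpr hg
    rw [bq_sbc_mem KG _ g hg, h7_extendByZero_mem T _ g hgT, bq_sbc_mem KT h _ hgK,
      bq_blockCoeff_trSet]
    congr 1
    apply Subtype.ext
    apply Subtype.ext
    exact bq_rel_symm_coe T KT KG ρ hρ ⟨g, hg⟩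
  · rw [bq_sbc_not_mem KG _ g hg]
    by_cases hgT : g ∈ T
    · rw [h7_extendByZero_mem T _ g hgT, bq_sbc_not_mem KT h _ (fun hk => hg ((hm _).mp hk))]
    · rw [h7_extendByZero_not_mem T _ g hgT]

end

section

/-- the Brauer-map value of a function on `K` inside `K` as a Brauer-map value in `G` -/
theorem bq_omega_relCent_fun {G : Type*} [Group G] [Finite G] (K : Subgroup G) (S : Subgroup K)
    (R : Subgroup G)
    (hR : ∀ g : G, g ∈ Subgroup.centralizer (R : Set G) ↔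
      ∃ h : g ∈ K, (⟨g, h⟩ : K) ∈ Subgroup.centralizer (S : Set K))
    (a : K → ℂ)
    (ξ : Cfsg.IrrCharacter (Subgroup.centralizer (S : Set K))) :
    Cfsg.brauerOmega S a (ξ : _ → ℂ) =
      Cfsg.brauerOmega R (Cfsg.extendByZero K a)
        (bq_trIrr (bq_relCent K S R hR).symm ξ : _ → ℂ) := by
  classical
  haveI : Fintype (Subgroup.centralizer (S : Set K)) := Fintype.ofFinite _
  haveI : Fintype (Subgroup.centralizer (R : Set G)) := Fintype.ofFinite _
  rw [bq_omega_eq, bq_omega_eq]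
  unfold bm_omega
  refine Fintype.sum_equiv (bq_relCent K S R hR).toEquiv _ _ fun x => ?_
  rw [bq_trIrr_apply, bq_trIrr_apply, map_one]
  have h1 : (bq_relCent K S R hR).symm ((bq_relCent K S R hR).toEquiv x) = x :=
    (bq_relCent K S R hR).symm_apply_apply x
  rw [h1]
  have h2 : Cfsg.extendByZero K a (((bq_relCent K S R hR).toEquiv x : _) : G) = a (x : K) := by
    have : (((bq_relCent K S R hR).toEquiv x : _) : G) = ((x : K) : G) := rfl
    rw [this, h7_extendByZero_mem K a _ (x : K).2]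
  beta_reduce
  rw [h2]

/-- the pair of `G` attached to a pair of `T ≥ C_G(Q)` whose subgroup contains `Q` -/
noncomputable abbrev bq_liftT {G : Type*} [Group G] (Q T : Subgroup G)
    (hCT : Subgroup.centralizer (Q : Set G) ≤ T) (a : Cfsg.BrauerPairIdx T)
    (ha : Q ≤ a.1.map T.subtype) : Cfsg.BrauerPairIdx G :=
  ⟨a.1.map T.subtype,
    bq_trSet (bq_relCent T a.1 _ (bq_cent_in_stab' Q T hCT a.1 ha)).symm a.2⟩

/-- a normal inclusion of pairs of `T` (above `Q`) gives a normal inclusion of pairs of `G` -/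
theorem bq_liftT_step {G : Type*} [Group G] [Finite G] (p : ℕ) (M : Ideal Cfsg.AlgInt)
    (Q T : Subgroup G) (hCT : Subgroup.centralizer (Q : Set G) ≤ T)
    (a b : Cfsg.BrauerPairIdx T) (ha : Q ≤ a.1.map T.subtype) (hb : Q ≤ b.1.map T.subtype)
    (hn : Cfsg.NormalSubpairRel p M a b) :
    Cfsg.NormalSubpairRel p M (bq_liftT Q T hCT a ha) (bq_liftT Q T hCT b hb) := by
  obtain ⟨⟨hap, hab⟩, ⟨hbp, hbb⟩, hle, hN, hst, hom⟩ := hn
  refine ⟨⟨hap.map _, bq_trSet_isBlock M _ _ hab⟩, ⟨hbp.map _, bq_trSet_isBlock M _ _ hbb⟩,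
    Subgroup.map_mono hle, ?_, ?_, ?_⟩
  · rintro _ ⟨s, hs, rfl⟩
    exact Subgroup.le_normalizer_map T.subtype ⟨s, hN hs, rfl⟩
  · rintro _ ⟨s, hs, rfl⟩
    exact (bq_rel_stabilizes T _ _ (bq_relCent T a.1 _ (bq_cent_in_stab' Q T hCT a.1 ha))
      (fun k => rfl) a.2 s).mp (hst s hs)
  · intro ξ hξ
    have hξ' : bq_trIrr (bq_relCent T b.1 _ (bq_cent_in_stab' Q T hCT b.1 hb)).symm.symm ξ ∈ b.2 :=
      hξ
    have h1 := hom _ hξ'
    rw [bq_omega_relCent_fun T b.1 _ (bq_cent_in_stab' Q T hCT b.1 hb), bq_trIrr_symm'] at h1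
    have h2 : Cfsg.extendByZero T
        (Cfsg.subgroupBlockCoeff (Subgroup.centralizer (a.1 : Set T)) a.2) =
        Cfsg.subgroupBlockCoeff (Subgroup.centralizer ((a.1.map T.subtype : Subgroup G) : Set G))
          (bq_trSet (bq_relCent T a.1 _ (bq_cent_in_stab' Q T hCT a.1 ha)).symm a.2) := by
      funext g
      exact (bq_rel_sbc T _ _ (bq_relCent T a.1 _ (bq_cent_in_stab' Q T hCT a.1 ha))
        (fun k => rfl) a.2 g).symm
    rw [h2] at h1
    exact h1

/-- a chain of pairs of `T` starting above `Q` gives a chain of pairs of `G` -/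
theorem bq_liftT_chain {G : Type*} [Group G] [Finite G] (p : ℕ) (M : Ideal Cfsg.AlgInt)
    (Q T : Subgroup G) (hCT : Subgroup.centralizer (Q : Set G) ≤ T)
    (a b : Cfsg.BrauerPairIdx T)
    (h : Relation.ReflTransGen (Cfsg.NormalSubpairRel p M) a b)
    (ha : Q ≤ a.1.map T.subtype) :
    ∃ hb : Q ≤ b.1.map T.subtype, Relation.ReflTransGen (Cfsg.NormalSubpairRel p M)
      (bq_liftT Q T hCT a ha) (bq_liftT Q T hCT b hb) := by
  induction h with
  | refl => exact ⟨ha, Relation.ReflTransGen.refl⟩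
  | tail h1 h2 ih =>
    rename_i b' c
    obtain ⟨hb', hch⟩ := ih
    have hc : Q ≤ c.1.map T.subtype := hb'.trans (Subgroup.map_mono h2.2.2.1)
    exact ⟨hc, hch.tail (bq_liftT_step p M Q T hCT b' c hb' hc h2)⟩

end

section

/-- the lift of the pair of `T` attached to a pair `(R, e)` of `G` with `Q ≤ R ≤ T` -/
theorem bq_liftT_of {G : Type*} [Group G] (Q T : Subgroup G)
    (hCT : Subgroup.centralizer (Q : Set G) ≤ T) (R : Subgroup G) (hQR : Q ≤ R) (hRT : R ≤ T)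
    (e : Set (Cfsg.IrrCharacter (Subgroup.centralizer (R : Set G))))
    (ha : Q ≤ (R.subgroupOf T).map T.subtype) :
    bq_liftT Q T hCT ⟨R.subgroupOf T,
      bq_trSet (bq_relCent T (R.subgroupOf T) R (bq_cent_in_stab Q R T hCT hQR hRT)) e⟩ ha =
      ⟨R, e⟩ := by
  apply bq_idx_ext
  · show (R.subgroupOf T).map T.subtype = R
    exact Subgroup.map_subgroupOf_eq_of_le hRT
  · intro ξ ξ' hval
    show bq_trIrr (bq_relCent T (R.subgroupOf T) _ (bq_cent_in_stab' Q T hCT _ ha)).symm.symm ξ ∈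
      bq_trSet (bq_relCent T (R.subgroupOf T) R (bq_cent_in_stab Q R T hCT hQR hRT)) e ↔ ξ' ∈ e
    show bq_trIrr (bq_relCent T (R.subgroupOf T) R (bq_cent_in_stab Q R T hCT hQR hRT)).symm
      (bq_trIrr (bq_relCent T (R.subgroupOf T) _ (bq_cent_in_stab' Q T hCT _ ha)).symm.symm ξ) ∈ e
      ↔ ξ' ∈ e
    have : bq_trIrr (bq_relCent T (R.subgroupOf T) R (bq_cent_in_stab Q R T hCT hQR hRT)).symm
      (bq_trIrr (bq_relCent T (R.subgroupOf T) _ (bq_cent_in_stab' Q T hCT _ ha)).symm.symm ξ)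
        = ξ' := by
      apply Subtype.ext
      funext y
      rw [bq_trIrr_apply, bq_trIrr_apply]
      apply hval
      rfl
    rw [this]

/-- conjugation by an element of `T ≤ N_G(Q)` preserves containment of `Q` -/
theorem bq_liftT_conj_le {G : Type*} [Group G] (Q T : Subgroup G)
    (hTN : T ≤ Subgroup.normalizer (Q : Set G)) (t : T) (a : Cfsg.BrauerPairIdx T)
    (ha : Q ≤ a.1.map T.subtype) :
    Q ≤ (bq_conjIdx t a).1.map T.subtype := by
  intro q hq
  have hq' : (t : G)⁻¹ * q * (t : G) ∈ Q := by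
    have := (Subgroup.mem_normalizer_iff.mp (Subgroup.inv_mem _ (hTN t.2)) q).mp hq
    simpa using this
  obtain ⟨s, hs, hsq⟩ := ha hq'
  refine ⟨t * s * t⁻¹, ⟨s, hs, rfl⟩, ?_⟩
  show ((t * s * t⁻¹ : T) : G) = q
  rw [Subgroup.coe_mul, Subgroup.coe_mul, Subgroup.coe_inv]
  have : (s : G) = (t : G)⁻¹ * q * (t : G) := hsq
  rw [this]
  group

/-- lifting pairs from `T` to `G` commutes with conjugation by elements of `T` -/
theorem bq_liftT_conj {G : Type*} [Group G] (Q T : Subgroup G)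
    (hCT : Subgroup.centralizer (Q : Set G) ≤ T)
    (t : T) (a : Cfsg.BrauerPairIdx T) (ha : Q ≤ a.1.map T.subtype)
    (ha' : Q ≤ (bq_conjIdx t a).1.map T.subtype) :
    bq_liftT Q T hCT (bq_conjIdx t a) ha' = bq_conjIdx (t : G) (bq_liftT Q T hCT a ha) := by
  apply bq_idx_ext
  · show (a.1.map (MulAut.conj t).toMonoidHom).map T.subtype =
      (a.1.map T.subtype).map (MulAut.conj (t : G)).toMonoidHom
    rw [Subgroup.map_map, Subgroup.map_map]
    congr 1
  · intro ξ ξ' hval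
    show bq_trIrr (bq_relCent T _ _ (bq_cent_in_stab' Q T hCT _ ha')).symm.symm ξ ∈
        Cfsg.conjBlock a.1 t a.2 ↔
      ξ' ∈ Cfsg.conjBlock (a.1.map T.subtype) (t : G)
        (bq_trSet (bq_relCent T a.1 _ (bq_cent_in_stab' Q T hCT a.1 ha)).symm a.2)
    rw [bq_mem_conjBlock, bq_mem_conjBlock]
    show _ ↔ bq_trIrr (bq_relCent T a.1 _ (bq_cent_in_stab' Q T hCT a.1 ha)).symm.symm
      (bq_pull _ (t : G) ξ') ∈ a.2
    have : bq_pull a.1 t (bq_trIrr (bq_relCent T _ _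
        (bq_cent_in_stab' Q T hCT _ ha')).symm.symm ξ) =
      bq_trIrr (bq_relCent T a.1 _ (bq_cent_in_stab' Q T hCT a.1 ha)).symm.symm
        (bq_pull _ (t : G) ξ') := by
      apply Subtype.ext
      funext y
      rw [bq_pull_apply, bq_trIrr_apply, bq_trIrr_apply, bq_pull_apply]
      apply hval
      rfl
    rw [this]

end

section

/-- **pairs normally above `(Q, f)` are conjugate under the stabilizer into `(P, e)`** when
`N_P(Q)` is a defect group of the stabilizer block -/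
theorem bq_over_conj_stab {G : Type*} [Group G] [Fintype G] (p : ℕ) [hp : Fact p.Prime]
    (M : Ideal Cfsg.AlgInt) (hM : Cfsg.IsPModular p M) (P Q : Subgroup G)
    (e : Set (Cfsg.IrrCharacter (Subgroup.centralizer (P : Set G))))
    (f : Set (Cfsg.IrrCharacter (Subgroup.centralizer (Q : Set G))))
    (hPe : Cfsg.IsBrauerPair p M P e) (hQP : Q ≤ P)
    (hle : Cfsg.SubpairLE p M Q f P e)
    (T : Subgroup G) (hT : ∀ y : G, y ∈ T ↔ y ∈ Subgroup.normalizer (Q : Set G) ∧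
      Cfsg.StabilizesBlock (Subgroup.centralizer (Q : Set G)) f y)
    (F : Set (Cfsg.IrrCharacter T)) (hFb : Cfsg.IsPBlock M F)
    (hF : ∀ t : T, Cfsg.blockCoeff F t =
        Cfsg.subgroupBlockCoeff (Subgroup.centralizer (Q : Set G)) f (t : G))
    (hdef : Cfsg.IsDefectGroup p M F ((P ⊓ Subgroup.normalizer (Q : Set G)).subgroupOf T))
    (R₂ : Subgroup G) (e₂ : Set (Cfsg.IrrCharacter (Subgroup.centralizer (R₂ : Set G))))
    (hn₂ : Cfsg.IsNormalSubpair p M Q f R₂ e₂) :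
    ∃ t ∈ T, Cfsg.SubpairLE p M (R₂.map (MulAut.conj t).toMonoidHom)
      (Cfsg.conjBlock R₂ t e₂) P e := by
  classical
  haveI : Fintype T := Fintype.ofFinite _
  have hPr := hM.2.1.isPrime
  have hP : IsPGroup p P := hPe.1
  obtain ⟨hTN, hQT, hCT, hTst⟩ := bq_stab_basic Q f T hT
  obtain ⟨g, hleR, hn⟩ := bq_normalizer_stab p M hM P Q e f hPe hQP hle
  have hQR : Q ≤ P ⊓ Subgroup.normalizer (Q : Set G) := le_inf hQP Subgroup.le_normalizer
  have hRT : P ⊓ Subgroup.normalizer (Q : Set G) ≤ T := by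
    intro r hr
    exact (hT r).mpr ⟨hr.2, hn.2.2.2.2.1 r hr⟩
  have hRp : IsPGroup p (P ⊓ Subgroup.normalizer (Q : Set G) : Subgroup G) := hP.to_le inf_le_left
  have hSp : IsPGroup p ((P ⊓ Subgroup.normalizer (Q : Set G)).subgroupOf T) :=
    hRp.of_equiv (Subgroup.subgroupOfEquivOfLe hRT).symm
  have hpair := bq_pairT_of_normalSubpair p M Q _ T hCT _
    (bq_cent_in_stab Q _ T hCT hQR hRT) hSp f F hFb hF g hn
  have hmaxS := bq_max_of_defect p M hM F _ _ hpair hdef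
  have hQR₂ : Q ≤ R₂ := hn₂.2.2.1
  have hR₂N : R₂ ≤ Subgroup.normalizer (Q : Set G) := hn₂.2.2.2.1
  have hR₂T : R₂ ≤ T := fun r hr => (hT r).mpr ⟨hR₂N hr, hn₂.2.2.2.2.1 r hr⟩
  have hS₂p : IsPGroup p (R₂.subgroupOf T) :=
    hn₂.2.1.1.of_equiv (Subgroup.subgroupOfEquivOfLe hR₂T).symm
  have hpair₂ := bq_pairT_of_normalSubpair p M Q R₂ T hCT _
    (bq_cent_in_stab Q R₂ T hCT hQR₂ hR₂T) hS₂p f F hFb hF e₂ hn₂
  obtain ⟨t, ht⟩ := bq_conj_into_max p M hM F _ _ _ _ hmaxS hpair₂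
  have ha₂ : Q ≤ (R₂.subgroupOf T).map T.subtype := by
    rw [Subgroup.map_subgroupOf_eq_of_le hR₂T]
    exact hQR₂
  have ha₂' := bq_liftT_conj_le Q T hTN t
    (⟨R₂.subgroupOf T, bq_trSet (bq_relCent T (R₂.subgroupOf T) R₂
      (bq_cent_in_stab Q R₂ T hCT hQR₂ hR₂T)) e₂⟩ : Cfsg.BrauerPairIdx T) ha₂
  obtain ⟨hb, hch⟩ := bq_liftT_chain p M Q T hCT _ _ ht ha₂'
  rw [bq_liftT_conj Q T hCT t _ ha₂ ha₂', bq_liftT_of Q T hCT R₂ hQR₂ hR₂T e₂ ha₂,
    bq_liftT_of Q T hCT _ hQR hRT g hb] at hch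
  exact ⟨t, t.2, hch.trans hleR⟩

end

section

/-- a power of an element with `p`-regular order -/
theorem bq_pow_regular {H : Type*} [Group H] [Finite H] (p : ℕ) [hp : Fact p.Prime] (t : H) :
    ∃ a : ℕ, Cfsg.IsPRegular p (t ^ (p ^ a)) := by
  have hn : orderOf t ≠ 0 := (orderOf_pos t).ne'
  obtain ⟨a, m, hm, hnm⟩ := Nat.exists_eq_pow_mul_and_not_dvd hn p hp.out.ne_one
  refine ⟨a, ?_⟩
  intro hdvd
  apply hm
  have h1 : (t ^ (p ^ a)) ^ m = 1 := by
    rw [← pow_mul, ← hnm, pow_orderOf_eq_one]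
  exact hdvd.trans (orderOf_dvd_of_pow_eq_one h1)

/-- **factorization of the stabilizer**: if every `p`-regular element of the stabilizer `T` of
`(Q, f)` centralizes `Q`, then `T = D · C_G(Q)` for each defect group `D` of the stabilizer
block -/
theorem bq_stab_factor {G : Type*} [Group G] [Fintype G] (p : ℕ) [hp : Fact p.Prime]
    (M : Ideal Cfsg.AlgInt) (hM : Cfsg.IsPModular p M) (Q : Subgroup G)
    (f : Set (Cfsg.IrrCharacter (Subgroup.centralizer (Q : Set G)))) (hf : Cfsg.IsPBlock M f)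
    (T : Subgroup G) (hT : ∀ y : G, y ∈ T ↔ y ∈ Subgroup.normalizer (Q : Set G) ∧
      Cfsg.StabilizesBlock (Subgroup.centralizer (Q : Set G)) f y)
    (F : Set (Cfsg.IrrCharacter T)) (hFb : Cfsg.IsPBlock M F)
    (hF : ∀ t : T, Cfsg.blockCoeff F t =
        Cfsg.subgroupBlockCoeff (Subgroup.centralizer (Q : Set G)) f (t : G))
    (D : Subgroup T) (hdef : Cfsg.IsDefectGroup p M F D)
    (hreg : ∀ t ∈ T, Cfsg.IsPRegular p t → t ∈ Subgroup.centralizer (Q : Set G)) (t : T) :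
    ∃ d ∈ D, ∃ c : T, (c : G) ∈ Subgroup.centralizer (Q : Set G) ∧ t = d * c := by
  classical
  haveI : Fintype T := Fintype.ofFinite _
  haveI : Fintype (Subgroup.centralizer (Q : Set G)) := Fintype.ofFinite _
  have hPr := hM.2.1.isPrime
  obtain ⟨hTN, hQT, hCT, hTst⟩ := bq_stab_basic Q f T hT
  set N : Subgroup T := (Subgroup.centralizer (Q : Set G)).subgroupOf T with hNdef
  haveI hNn : N.Normal := by
    rw [hNdef, Subgroup.normal_subgroupOf_iff_le_normalizer hCT]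
    exact fun x hx => bm_normalizer_centralizer Q x (hTN hx)
  haveI : Fintype N := Fintype.ofFinite _
  have hpq : IsPGroup p (T ⧸ N) := by
    intro x
    induction x using QuotientGroup.induction_on with
    | H t =>
      obtain ⟨a, ha⟩ := bq_pow_regular p t
      refine ⟨a, ?_⟩
      rw [← QuotientGroup.mk_pow, QuotientGroup.eq_one_iff, hNdef, Subgroup.mem_subgroupOf]
      apply hreg _ (t ^ p ^ a).2
      intro hdvd
      apply ha
      rwa [Subgroup.orderOf_coe] at hdvd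
  have hN : ∃ k : ℕ, N.index = p ^ k := by
    obtain ⟨k, hk⟩ := (IsPGroup.iff_card (p := p) (G := T ⧸ N)).mp hpq
    exact ⟨k, by rw [Subgroup.index_eq_card, hk]⟩
  set σ : N ≃* Subgroup.centralizer (Q : Set G) := Subgroup.subgroupOfEquivOfLe hCT with hσ
  have hσc : ∀ k : N, ((σ k : Subgroup.centralizer (Q : Set G)) : G) = ((k : T) : G) :=
    fun k => rfl
  have hc : Cfsg.IsPBlock M (bq_trSet σ f) := bq_trSet_isBlock M σ f hf
  have hback : bq_trSet σ.symm (bq_trSet σ f) = f := by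
    have := bq_trSet_symm σ.symm f
    rwa [MulEquiv.symm_symm] at this
  have hst : ∀ x : T, Cfsg.StabilizesBlock N (bq_trSet σ f) x := by
    intro x
    rw [bq_rel_stabilizes T N _ σ hσc, hback]
    exact hTst x x.2
  have hBc : ∀ g : T, Cfsg.blockCoeff F g = Cfsg.subgroupBlockCoeff N (bq_trSet σ f) g := by
    intro g
    rw [hF]
    by_cases hg : g ∈ N
    · have hgC : (g : G) ∈ Subgroup.centralizer (Q : Set G) := Subgroup.mem_subgroupOf.mp hg
      rw [bq_sbc_mem N _ g hg, bq_blockCoeff_trSet, bq_sbc_mem _ f _ hgC]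
      rfl
    · have hgC : (g : G) ∉ Subgroup.centralizer (Q : Set G) :=
        fun h => hg (Subgroup.mem_subgroupOf.mpr h)
      rw [bq_sbc_not_mem N _ g hg, bq_sbc_not_mem _ f _ hgC]
  obtain ⟨htop, -⟩ := (fp_main p M hM N hN (bq_trSet σ f) hc hst).2 F hFb hBc D hdef
  have ht : t ∈ ((D ⊔ N : Subgroup T) : Set T) := by
    rw [sup_comm, htop]
    exact Subgroup.mem_top t
  rw [Subgroup.mul_normal D N] at ht
  obtain ⟨d, hd, n, hn, hdn⟩ := Set.mem_mul.mp ht
  exact ⟨d, hd, n, Subgroup.mem_subgroupOf.mp hn, hdn.symm⟩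

end

section

/-- the lower end of a chain of pairs is a Brauer pair -/
theorem bq_le_isBrauerPair {G : Type*} [Group G] (p : ℕ) (M : Ideal Cfsg.AlgInt)
    (a b : Cfsg.BrauerPairIdx G)
    (h : Relation.ReflTransGen (Cfsg.NormalSubpairRel p M) a b)
    (hb : Cfsg.IsBrauerPair p M b.1 b.2) : Cfsg.IsBrauerPair p M a.1 a.2 := by
  rcases Relation.ReflTransGen.cases_head h with h1 | ⟨c, hc, _⟩
  · rw [h1]; exact hb
  · exact hc.1

/-- normal inclusion transports along equality of the lower pair -/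
theorem bq_normalSubpair_congr {G : Type*} [Group G] (p : ℕ) (M : Ideal Cfsg.AlgInt)
    (a a' : Cfsg.BrauerPairIdx G) (h : a = a') (R : Subgroup G)
    (g : Set (Cfsg.IrrCharacter (Subgroup.centralizer (R : Set G))))
    (hn : Cfsg.IsNormalSubpair p M a.1 a.2 R g) : Cfsg.IsNormalSubpair p M a'.1 a'.2 R g := by
  subst h
  exact hn

/-- the stabilizer of a pair as a subgroup -/
theorem bq_stab_exists {G : Type*} [Group G] [Finite G] {M : Ideal Cfsg.AlgInt} (hM : M.IsPrime)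
    (Q : Subgroup G) (f : Set (Cfsg.IrrCharacter (Subgroup.centralizer (Q : Set G))))
    (hf : Cfsg.IsPBlock M f) :
    ∃ T : Subgroup G, ∀ y : G, y ∈ T ↔ y ∈ Subgroup.normalizer (Q : Set G) ∧
      Cfsg.StabilizesBlock (Subgroup.centralizer (Q : Set G)) f y := by
  refine ⟨Subgroup.normalizer (Q : Set G) ⊓ bq_stabSubgroup (Subgroup.centralizer (Q : Set G)) f,
    fun y => ?_⟩
  rw [Subgroup.mem_inf, bq_mem_stabSubgroup hM _ f hf]

/-- conjugation by an element of a factorized stabilizer agrees on `Q` with conjugation by an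
element of `P` -/
theorem bq_factor_conj {G : Type*} [Group G] (P Q T : Subgroup G)
    (hfac : ∀ t : T, ∃ d ∈ (P ⊓ Subgroup.normalizer (Q : Set G)).subgroupOf T, ∃ c : T,
      (c : G) ∈ Subgroup.centralizer (Q : Set G) ∧ t = d * c)
    (t : G) (ht : t ∈ T) : ∃ d ∈ P, ∀ y ∈ Q, t * y * t⁻¹ = d * y * d⁻¹ := by
  obtain ⟨d, hd, c, hc, htdc⟩ := hfac ⟨t, ht⟩
  refine ⟨(d : G), (Subgroup.mem_subgroupOf.mp hd).1, ?_⟩
  intro y hy
  have h1 : t = (d : G) * (c : G) := congrArg Subtype.val htdc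
  have h2 : y * (c : G) = (c : G) * y := Subgroup.mem_centralizer_iff.mp hc y hy
  rw [h1]
  calc (d : G) * (c : G) * y * ((d : G) * (c : G))⁻¹
      = (d : G) * ((c : G) * y) * (c : G)⁻¹ * (d : G)⁻¹ := by group
    _ = (d : G) * (y * (c : G)) * (c : G)⁻¹ * (d : G)⁻¹ := by rw [h2]
    _ = (d : G) * y * (d : G)⁻¹ := by group

end

section

/-- **control of fusion in nilpotent blocks**: an element carrying a pair below `(P, e)` to a pair
below `(P, e)` acts on the subgroup like an element of `P` -/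
theorem bq_nilpotent_control {G : Type*} [Group G] [Fintype G] (p : ℕ) [hp : Fact p.Prime]
    (M : Ideal Cfsg.AlgInt) (hM : Cfsg.IsPModular p M) (B : Set (Cfsg.IrrCharacter G))
    (P : Subgroup G) (e : Set (Cfsg.IrrCharacter (Subgroup.centralizer (P : Set G))))
    (hmax : Cfsg.IsMaximalBrauerPair p M B P e) (hnil : Cfsg.IsNilpotentBlock p M B) :
    ∀ (n : ℕ) (a : Cfsg.BrauerPairIdx G) (g : G), Nat.card P - Nat.card a.1 = n →
      Relation.ReflTransGen (Cfsg.NormalSubpairRel p M) a ⟨P, e⟩ →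
      Relation.ReflTransGen (Cfsg.NormalSubpairRel p M) (bq_conjIdx g a) ⟨P, e⟩ →
      ∃ u ∈ P, ∀ q ∈ a.1, g * q * g⁻¹ = u * q * u⁻¹ := by
  classical
  have hPr := hM.2.1.isPrime
  have hPe : Cfsg.IsBrauerPair p M P e := hmax.1.1
  have hP : IsPGroup p P := hPe.1
  intro n
  induction n using Nat.strong_induction_on with
  | _ n ih =>
  intro a g hn hle hle'
  obtain ⟨Q, f⟩ := a
  have hQf : Cfsg.IsBrauerPair p M Q f := bq_le_isBrauerPair p M ⟨Q, f⟩ ⟨P, e⟩ hle hPe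
  have hf : Cfsg.IsPBlock M f := hQf.2
  have hQP : Q ≤ P := bq_chain_le p M _ _ hle
  obtain ⟨T, hT⟩ := bq_stab_exists hPr Q f hf
  obtain ⟨x, hlex, hx⟩ := bq_norm_defect_conj p M hM B P Q e f hmax hQP hf hle T hT
  have hTs := bq_stab_conj Q f x T hT
  obtain ⟨Fs, hFsb, hFs, hdefs⟩ := hx (T.map (MulAut.conj x).toMonoidHom) hTs
  have hQsP : Q.map (MulAut.conj x).toMonoidHom ≤ P := bq_chain_le p M _ _ hlex
  have hfs : Cfsg.IsPBlock M (Cfsg.conjBlock Q x f) := bq_conjBlock_isBlock M Q x f hf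
  have hBQs : Cfsg.IsBrauerPairOf p M B (Q.map (MulAut.conj x).toMonoidHom)
      (Cfsg.conjBlock Q x f) := (bq_pairOf_le p M hM P _ e _ hlex B).mp hmax.1
  have hregs : ∀ t ∈ T.map (MulAut.conj x).toMonoidHom, Cfsg.IsPRegular p t →
      t ∈ Subgroup.centralizer ((Q.map (MulAut.conj x).toMonoidHom : Subgroup G) : Set G) :=
    fun t ht hr => hnil.2 _ _ hBQs t ((hTs t).mp ht).1 ((hTs t).mp ht).2 hr
  have hfac := bq_stab_factor p M hM _ _ hfs _ hTs Fs hFsb hFs _ hdefs hregs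
  have hH1 := bq_factor_conj P (Q.map (MulAut.conj x).toMonoidHom)
    (T.map (MulAut.conj x).toMonoidHom) hfac
  -- the key claim
  have key : ∀ (a₁ : Cfsg.BrauerPairIdx G) (g₁ : G), Nat.card a₁.1 = Nat.card Q →
      Relation.ReflTransGen (Cfsg.NormalSubpairRel p M) a₁ ⟨P, e⟩ →
      bq_conjIdx g₁ a₁ = bq_conjIdx x ⟨Q, f⟩ →
      ∃ u ∈ P, ∀ q ∈ a₁.1, g₁ * q * g₁⁻¹ = u * q * u⁻¹ := by
    intro a₁ g₁ hcard hle₁ hconj
    obtain ⟨Q₁, f₁⟩ := a₁
    have hQ₁P : Q₁ ≤ P := bq_chain_le p M _ _ hle₁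
    have hQ₁s : Q₁.map (MulAut.conj g₁).toMonoidHom = Q.map (MulAut.conj x).toMonoidHom :=
      congrArg Sigma.fst hconj
    by_cases hQ₁ : Q₁ = P
    · -- the top case
      have h1 : (⟨Q₁, f₁⟩ : Cfsg.BrauerPairIdx G) = ⟨P, e⟩ := by
        apply bq_le_eq_of_card p M hM _ _ hle₁
        show Nat.card P ≤ Nat.card Q₁
        rw [hQ₁]
      have h2 : bq_conjIdx x ⟨Q, f⟩ = (⟨P, e⟩ : Cfsg.BrauerPairIdx G) := by
        apply bq_le_eq_of_card p M hM _ _ hlex
        show Nat.card P ≤ Nat.card (Q.map (MulAut.conj x).toMonoidHom)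
        rw [Subgroup.card_map_of_injective (MulAut.conj x).injective, ← hcard]
        show Nat.card P ≤ Nat.card Q₁
        rw [hQ₁]
      have h3 : bq_conjIdx g₁ (bq_conjIdx x ⟨Q, f⟩) = bq_conjIdx x ⟨Q, f⟩ := by
        rw [h2, ← h1, hconj, h2, h1]
      have h4 := bq_stab_of_conjIdx hPr _ _ hfs g₁ h3
      obtain ⟨d, hd, hdq⟩ := hH1 g₁ ((hTs g₁).mpr h4)
      refine ⟨d, hd, fun q hq => hdq q ?_⟩
      have : Q.map (MulAut.conj x).toMonoidHom = Q₁ := by
        have e1 : Q.map (MulAut.conj x).toMonoidHom = P := congrArg Sigma.fst h2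
        rw [e1, hQ₁]
      rw [this]
      exact hq
    · -- the proper case
      have hlt : Q₁ < P := lt_of_le_of_ne hQ₁P hQ₁
      obtain ⟨e₁, hleR₁, hn₁⟩ := bq_normalizer_stab p M hM P Q₁ e f₁ hPe hQ₁P hle₁
      have hgrow := bq_normalizer_grows p P Q₁ hP hlt
      have hn₁' := bq_conj_normalSubpair p M Q₁ _ g₁ f₁ e₁ hn₁
      have hn₁'' := bq_normalSubpair_congr p M (bq_conjIdx g₁ ⟨Q₁, f₁⟩) _ hconj _ _ hn₁'
      obtain ⟨t, htT, hlet⟩ := bq_over_conj_stab p M hM P _ e _ hPe hQsP hlex _ hTs Fs hFsb hFs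
        hdefs _ _ hn₁''
      have hlet' : Relation.ReflTransGen (Cfsg.NormalSubpairRel p M)
          (bq_conjIdx (t * g₁) ⟨P ⊓ Subgroup.normalizer (Q₁ : Set G), e₁⟩) ⟨P, e⟩ := by
        rw [← bq_conjIdx_mul g₁ t]
        exact hlet
      have hcardR : Nat.card Q₁ < Nat.card (P ⊓ Subgroup.normalizer (Q₁ : Set G) : Subgroup G) := by
        have h1 : Q₁ < P ⊓ Subgroup.normalizer (Q₁ : Set G) := by
          rw [inf_comm]; exact hgrow
        have hfin : ((P ⊓ Subgroup.normalizer (Q₁ : Set G) : Subgroup G) : Set G).Finite :=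
          Set.toFinite _
        exact Set.ncard_lt_ncard (SetLike.coe_ssubset_coe.mpr h1) hfin
      have hcardP : Nat.card (P ⊓ Subgroup.normalizer (Q₁ : Set G) : Subgroup G) ≤ Nat.card P :=
        Subgroup.card_le_of_le inf_le_left
      have hm : Nat.card P - Nat.card (P ⊓ Subgroup.normalizer (Q₁ : Set G) : Subgroup G) < n := by
        have h5 : Nat.card P - Nat.card Q = n := hn
        have h6 : Nat.card Q₁ = Nat.card Q := hcard
        omega
      obtain ⟨u₁, hu₁, hu₁q⟩ := ih _ hm ⟨P ⊓ Subgroup.normalizer (Q₁ : Set G), e₁⟩ (t * g₁) rfl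
        hleR₁ hlet'
      obtain ⟨d, hd, hdq⟩ := hH1 t htT
      refine ⟨d⁻¹ * u₁, P.mul_mem (P.inv_mem hd) hu₁, ?_⟩
      intro q hq
      have hy : g₁ * q * g₁⁻¹ ∈ Q.map (MulAut.conj x).toMonoidHom := by
        rw [← hQ₁s]
        exact ⟨q, hq, rfl⟩
      have h1 := hdq _ hy
      have h2 := hu₁q q ⟨hQ₁P hq, Subgroup.le_normalizer hq⟩
      have h3 : t * (g₁ * q * g₁⁻¹) * t⁻¹ = t * g₁ * q * (t * g₁)⁻¹ := by group
      rw [h3, h2] at h1
      calc g₁ * q * g₁⁻¹ = d⁻¹ * (d * (g₁ * q * g₁⁻¹) * d⁻¹) * d := by group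
        _ = d⁻¹ * (u₁ * q * u₁⁻¹) * d := by rw [← h1]
        _ = d⁻¹ * u₁ * q * (d⁻¹ * u₁)⁻¹ := by group
  -- combine
  obtain ⟨u₁, hu₁, hu₁q⟩ := key ⟨Q, f⟩ x rfl hle rfl
  have hc2 : bq_conjIdx (x * g⁻¹) (bq_conjIdx g ⟨Q, f⟩) = bq_conjIdx x ⟨Q, f⟩ := by
    rw [bq_conjIdx_mul, inv_mul_cancel_right]
  obtain ⟨u₂, hu₂, hu₂q⟩ := key (bq_conjIdx g ⟨Q, f⟩) (x * g⁻¹)
    (Subgroup.card_map_of_injective (MulAut.conj g).injective) hle' hc2
  refine ⟨u₂⁻¹ * u₁, P.mul_mem (P.inv_mem hu₂) hu₁, ?_⟩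
  intro q hq
  have h1 := hu₁q q hq
  have h2 := hu₂q (g * q * g⁻¹) ⟨q, hq, rfl⟩
  have h3 : x * g⁻¹ * (g * q * g⁻¹) * (x * g⁻¹)⁻¹ = x * q * x⁻¹ := by group
  rw [h3, h1] at h2
  calc g * q * g⁻¹ = u₂⁻¹ * (u₂ * (g * q * g⁻¹) * u₂⁻¹) * u₂ := by group
    _ = u₂⁻¹ * (u₁ * q * u₁⁻¹) * u₂ := by rw [← h2]
    _ = u₂⁻¹ * u₁ * q * (u₂⁻¹ * u₁)⁻¹ := by group

end

section

/-- an element acting on `Q` like an element `u` of `p`-power order, and of order prime to `p`,
centralizes `Q` -/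
theorem bq_regular_centralizes {G : Type*} [Group G] (p : ℕ) [hp : Fact p.Prime]
    (Q : Subgroup G) (x u : G) (hxN : x ∈ Subgroup.normalizer (Q : Set G))
    (hreg : Cfsg.IsPRegular p x) (k : ℕ) (hu : u ^ (p ^ k) = 1)
    (h : ∀ q ∈ Q, x * q * x⁻¹ = u * q * u⁻¹) :
    x ∈ Subgroup.centralizer (Q : Set G) := by
  have hpow : ∀ j : ℕ, ∀ q ∈ Q, u ^ j * q * (u ^ j)⁻¹ ∈ Q ∧
      x ^ j * q * (x ^ j)⁻¹ = u ^ j * q * (u ^ j)⁻¹ := by
    intro j
    induction j with
    | zero =>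
      intro q hq
      simp [hq]
    | succ j ih =>
      intro q hq
      obtain ⟨h1, h2⟩ := ih q hq
      have h3 := h _ h1
      have h4 : x * (u ^ j * q * (u ^ j)⁻¹) * x⁻¹ ∈ Q :=
        (Subgroup.mem_normalizer_iff.mp hxN _).mp h1
      have e1 : u ^ (j + 1) * q * (u ^ (j + 1))⁻¹ = u * (u ^ j * q * (u ^ j)⁻¹) * u⁻¹ := by
        rw [pow_succ']; group
      have e2 : x ^ (j + 1) * q * (x ^ (j + 1))⁻¹ = x * (x ^ j * q * (x ^ j)⁻¹) * x⁻¹ := by
        rw [pow_succ']; group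
      rw [e1, e2, h2, ← h3]
      exact ⟨h4, rfl⟩
  apply bq_mem_of_pow_coprime _ x (p ^ k) (orderOf x)
  · exact Nat.Coprime.pow_left k ((Nat.Prime.coprime_iff_not_dvd hp.out).mpr hreg)
  · rw [Subgroup.mem_centralizer_iff]
    intro q hq
    have := (hpow (p ^ k) q hq).2
    rw [hu, one_mul, inv_one, mul_one] at this
    calc q * x ^ p ^ k = (x ^ p ^ k * q * (x ^ p ^ k)⁻¹) * x ^ p ^ k := by rw [this]
      _ = x ^ p ^ k * q := by group
  · rw [pow_orderOf_eq_one]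
    exact Subgroup.one_mem _

/-- **S4686**: a block is nilpotent iff its fusion system is the inner fusion system -/
theorem bq_nilpotent_iff_inner {G : Type*} [Group G] [Fintype G] (p : ℕ) [hp : Fact p.Prime]
    (M : Ideal Cfsg.AlgInt) (hM : Cfsg.IsPModular p M) (B : Set (Cfsg.IrrCharacter G))
    (P : Subgroup G) (e : Set (Cfsg.IrrCharacter (Subgroup.centralizer (P : Set G))))
    (hmax : Cfsg.IsMaximalBrauerPair p M B P e) (F : Cfsg.FusionSystem P)
    (hF : Cfsg.IsBlockFusionSystemOn p M B P e F) :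
    Cfsg.IsNilpotentBlock p M B ↔
      ∀ Q : Subgroup G, F.Hom Q = (Cfsg.innerFusionSystem P).Hom Q := by
  classical
  have hPr := hM.2.1.isPrime
  have hPe : Cfsg.IsBrauerPair p M P e := hmax.1.1
  have hP : IsPGroup p P := hPe.1
  have hB : Cfsg.IsPBlock M B := hmax.1.2.1
  constructor
  · intro hnil Q
    ext φ
    rw [hF.2 Q φ]
    show _ ↔ Q ≤ P ∧ ∃ g ∈ P, ∀ x : Q, φ x = g * (x : G) * g⁻¹
    constructor
    · rintro ⟨hQP, g, hφ, _, f, hle, hle'⟩
      obtain ⟨u, hu, huq⟩ := bq_nilpotent_control p M hM B P e hmax hnil _ ⟨Q, f⟩ g rfl hle hle'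
      exact ⟨hQP, u, hu, fun x => by rw [hφ x, huq x x.2]⟩
    · rintro ⟨hQP, g, hg, hφ⟩
      obtain ⟨f, hf, hle⟩ := bq_subpair_exists p M hM P e hPe Q hQP
      have h1 := bq_conj_subpairLE p M g ⟨Q, f⟩ ⟨P, e⟩ hle
      rw [bq_conjIdx_of_stab hPr P e hPe.2 g (Subgroup.le_normalizer hg)
        (bq_self_stabilizes P e g hg)] at h1
      exact ⟨hQP, g, hφ, bq_chain_le p M _ _ h1, f, hle, h1⟩
  · intro hall
    refine ⟨hB, ?_⟩
    intro Q f hQf x hxN hxst hreg
    obtain ⟨y, hy⟩ := bq_conj_into_max p M hM B P Q e f hmax hQf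
    have hf₂ : Cfsg.IsPBlock M (Cfsg.conjBlock Q y f) := bq_conjBlock_isBlock M Q y f hQf.1.2
    have hx₂N : y * x * y⁻¹ ∈ Subgroup.normalizer
        ((Q.map (MulAut.conj y).toMonoidHom : Subgroup G) : Set G) := by
      have := Subgroup.le_normalizer_map (MulAut.conj y).toMonoidHom (H := Q) ⟨x, hxN, rfl⟩
      simpa only [MulEquiv.coe_toMonoidHom, MulAut.conj_apply] using this
    have hx₂st := bq_conj_stabilizes Q y x f hxst
    have he₂ := bq_conjIdx_of_stab hPr _ _ hf₂ (y * x * y⁻¹) hx₂N hx₂st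
    have hQ₂P : Q.map (MulAut.conj y).toMonoidHom ≤ P := bq_chain_le p M _ _ hy
    have hle₂ : Relation.ReflTransGen (Cfsg.NormalSubpairRel p M)
        (bq_conjIdx (y * x * y⁻¹) ⟨Q.map (MulAut.conj y).toMonoidHom, Cfsg.conjBlock Q y f⟩)
        ⟨P, e⟩ := by
      rw [he₂]
      exact hy
    have hφ : Cfsg.conjHom (Q.map (MulAut.conj y).toMonoidHom) (y * x * y⁻¹) ∈
        F.Hom (Q.map (MulAut.conj y).toMonoidHom) := by
      rw [hF.2]
      exact ⟨hQ₂P, y * x * y⁻¹, fun u => rfl, bq_chain_le p M _ _ hle₂, _, hy, hle₂⟩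
    rw [hall] at hφ
    obtain ⟨_, u, hu, hφu⟩ := hφ
    obtain ⟨k, hk⟩ := hP ⟨u, hu⟩
    have hk' : u ^ (p ^ k) = 1 := by
      have := congrArg Subtype.val hk
      simpa using this
    have hreg₂ : Cfsg.IsPRegular p (y * x * y⁻¹) := by
      have h1 : orderOf (y * x * y⁻¹) = orderOf x := MulEquiv.orderOf_eq (MulAut.conj y) x
      unfold Cfsg.IsPRegular
      rw [h1]
      exact hreg
    have h2 := bq_regular_centralizes p _ (y * x * y⁻¹) u hx₂N hreg₂ k hk'
      (fun q hq => hφu ⟨q, hq⟩)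
    have h3 := (bq_mem_centConj Q y _).mp h2
    have h4 : y⁻¹ * (y * x * y⁻¹) * y = x := by group
    rwa [h4] at h3

end

end Cfsg.Agent.Lib.Helper25
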