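import Mathlib
import Cfsg.Agent.Lib.Helper25.BrauerPairNilpotent

/-!
Local structure of nilpotent blocks (S4688): for a nilpotent block B with maximal pair (P,e), every block f of a B-pair (Q,f) is nilpotent in C_G(Q) (bq_nilpotent_local), and C_P(Q) is a defect group of f when (Q,f) ≤ (P,e) (bq_nilpotent_cent_defect, via control of fusion).
-/

set_option autoImplicit false
set_option linter.style.haveILetI false
set_option linter.unusedVariables false
set_option warn.classDefReducibility false
set_option maxHeartbeats 1600000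

namespace Cfsg.Agent.Lib.Helper25
open Cfsg.Agent.Lib.Helper24
open Cfsg.Agent.Lib.helper2
open Cfsg.Agent.Lib.helper7
open scoped ComplexConjugate
section

theorem bq_mem_normalizer_of_map_conj {G : Type*} [Group G] (P : Subgroup G) (n : G)
    (h1 : P.map (MulAut.conj n).toMonoidHom = P) : n ∈ Subgroup.normalizer (P : Set G) := by
  rw [Subgroup.mem_normalizer_iff]
  intro u
  constructor
  · intro hu
    rw [← h1]
    exact ⟨u, hu, rfl⟩
  · intro hu
    rw [← h1] at hu
    obtain ⟨q, hq, hqe⟩ := hu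
    simp only [MulEquiv.coe_toMonoidHom, MulAut.conj_apply] at hqe
    have : q = u := mul_left_cancel (mul_right_cancel hqe)
    rw [← this]
    exact hq

/-- **local blocks of a nilpotent block are nilpotent** -/
theorem bq_nilpotent_local {G : Type*} [Group G] [Fintype G] (p : ℕ) [hp : Fact p.Prime]
    (M : Ideal Cfsg.AlgInt) (hM : Cfsg.IsPModular p M) (B : Set (Cfsg.IrrCharacter G))
    (hnil : Cfsg.IsNilpotentBlock p M B) (Q : Subgroup G)
    (f : Set (Cfsg.IrrCharacter (Subgroup.centralizer (Q : Set G))))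
    (hQf : Cfsg.IsBrauerPairOf p M B Q f) : Cfsg.IsNilpotentBlock p M f := by
  classical
  have hPr := hM.2.1.isPrime
  have hQ : IsPGroup p Q := hQf.1.1
  have hf : Cfsg.IsPBlock M f := hQf.1.2
  refine ⟨hf, ?_⟩
  intro S s hSs x hxN hxst hreg
  have hSp : IsPGroup p S := hSs.1.1
  have hR := bq_cent_sup Q S
  have hn := bq_normalSubpair_of_pair p M Q _ S hR hQ (bq_sup_isPGroup p Q S hQ hSp) le_sup_left
    (bq_sup_le_normalizer Q S) f (fun y hy => bq_sup_stabilizes hPr Q S f hf y hy) s hSs
  have hBR := bq_pairOf_step_up p M hM _ Q _ f hn B hQf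
  have hxR : (x : G) ∈ Subgroup.normalizer
      ((Q ⊔ S.map (Subgroup.centralizer (Q : Set G)).subtype : Subgroup G) : Set G) := by
    apply bq_mem_normalizer_of_map_conj
    rw [Subgroup.map_sup, bq_map_conj_normalizer Q (x : G)
      (Subgroup.centralizer_le_normalizer _ x.2), Subgroup.map_map]
    congr 1
    have h1 : S.map (MulAut.conj x).toMonoidHom = S := bq_map_conj_normalizer S x hxN
    conv_rhs => rw [← h1]
    rw [Subgroup.map_map]
    congr 1
  have hxst' := (bq_rel_stabilizes (Subgroup.centralizer (Q : Set G)) _ _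
    (bq_relCent (Subgroup.centralizer (Q : Set G)) S _ hR) (fun k => rfl) s x).mp hxst
  have hreg' : Cfsg.IsPRegular p (x : G) := by
    unfold Cfsg.IsPRegular at hreg ⊢
    rwa [Subgroup.orderOf_coe]
  have h1 := hnil.2 _ _ hBR (x : G) hxR hxst' hreg'
  obtain ⟨_, h2⟩ := (hR (x : G)).mp h1
  exact h2

/-- **the centralizer in `P` of `Q` is a defect group of `f`** for a nilpotent block -/
theorem bq_nilpotent_cent_defect {G : Type*} [Group G] [Fintype G] (p : ℕ) [hp : Fact p.Prime]
    (M : Ideal Cfsg.AlgInt) (hM : Cfsg.IsPModular p M) (B : Set (Cfsg.IrrCharacter G))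
    (P : Subgroup G) (e : Set (Cfsg.IrrCharacter (Subgroup.centralizer (P : Set G))))
    (hmax : Cfsg.IsMaximalBrauerPair p M B P e) (hnil : Cfsg.IsNilpotentBlock p M B)
    (Q : Subgroup G) (f : Set (Cfsg.IrrCharacter (Subgroup.centralizer (Q : Set G))))
    (hle : Cfsg.SubpairLE p M Q f P e) :
    Cfsg.IsDefectGroup p M f ((P ⊓ Subgroup.centralizer (Q : Set G)).subgroupOf
      (Subgroup.centralizer (Q : Set G))) := by
  classical
  have hPr := hM.2.1.isPrime
  have hPe : Cfsg.IsBrauerPair p M P e := hmax.1.1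
  have hQP : Q ≤ P := bq_chain_le p M _ _ hle
  have hf : Cfsg.IsPBlock M f := (bq_le_isBrauerPair p M ⟨Q, f⟩ ⟨P, e⟩ hle hPe).2
  obtain ⟨D, _, _, hdefD, hSD⟩ := bq_cent_le_defect p M hM P Q e f hPe hQP hle
  obtain ⟨x, hlex, hdefx⟩ := bq_cent_defect_conj p M hM B P Q e f hmax hQP hf hle
  have hc1 := bq_defect_card_conj p M hM Q x f hf D _ hdefD hdefx
  obtain ⟨u, hu, huq⟩ := bq_nilpotent_control p M hM B P e hmax hnil _ ⟨Q, f⟩ x rfl hle hlex
  have hQx : Q.map (MulAut.conj x).toMonoidHom = Q.map (MulAut.conj u).toMonoidHom := by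
    ext y
    constructor
    · rintro ⟨q, hq, rfl⟩
      exact ⟨q, hq, by
        simp only [MulEquiv.coe_toMonoidHom, MulAut.conj_apply]
        exact (huq q hq).symm⟩
    · rintro ⟨q, hq, rfl⟩
      exact ⟨q, hq, by
        simp only [MulEquiv.coe_toMonoidHom, MulAut.conj_apply]
        exact huq q hq⟩
  have hmap : (P ⊓ Subgroup.centralizer (Q : Set G)).map (MulAut.conj u).toMonoidHom =
      P ⊓ Subgroup.centralizer ((Q.map (MulAut.conj u).toMonoidHom : Subgroup G) : Set G) := by
    ext y
    constructor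
    · rintro ⟨z, hz, rfl⟩
      have hzP : z ∈ P := hz.1
      have hzC : z ∈ Subgroup.centralizer (Q : Set G) := hz.2
      simp only [MulEquiv.coe_toMonoidHom, MulAut.conj_apply]
      refine ⟨P.mul_mem (P.mul_mem hu hzP) (P.inv_mem hu), (bq_mem_centConj Q u _).mpr ?_⟩
      have : u⁻¹ * (u * z * u⁻¹) * u = z := by group
      rw [this]
      exact hzC
    · rintro ⟨hyP, hyC⟩
      refine ⟨u⁻¹ * y * u, ⟨P.mul_mem (P.mul_mem (P.inv_mem hu) hyP) hu,
        (bq_mem_centConj Q u y).mp hyC⟩, ?_⟩
      simp only [MulEquiv.coe_toMonoidHom, MulAut.conj_apply]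
      group
  have hc2 : Nat.card ((P ⊓ Subgroup.centralizer
      ((Q.map (MulAut.conj x).toMonoidHom) : Set G)).subgroupOf
      (Subgroup.centralizer ((Q.map (MulAut.conj x).toMonoidHom) : Set G))) =
      Nat.card ((P ⊓ Subgroup.centralizer (Q : Set G)).subgroupOf
        (Subgroup.centralizer (Q : Set G))) := by
    rw [bq_card_subgroupOf_of_le _ _ inf_le_right, bq_card_subgroupOf_of_le _ _ inf_le_right,
      hQx, ← hmap, Subgroup.card_map_of_injective (MulAut.conj u).injective]
  have heq : (P ⊓ Subgroup.centralizer (Q : Set G)).subgroupOf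
      (Subgroup.centralizer (Q : Set G)) = D := by
    apply Subgroup.eq_of_le_of_card_ge hSD
    rw [hc1, hc2]
  rw [heq]
  exact hdefD

end

end Cfsg.Agent.Lib.Helper25
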