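import Mathlib
import Cfsg.Agent.Lib.Helper25.BrauerPairNilpotent2
import Cfsg.Prelude.Def_BlockFusion

/-!
The fusion system of a block exists and is saturated (S4677). Pieces: bq_over_conj_sub, bq_sub_factor, bq_defect_descend (generalizations to subgroups L between C_G(Q) and the stabilizer), bq_idx_unique, bq_idx_le_of_le, bq_fusHom, bq_blockFusion (the explicit fusion system) with bq_blockFusion_is, bq_autHom (conjugation action T -> Aut(Q)), bq_automizer_sylow, bq_autGroup_eq, bq_autInduced_eq, bq_fully_automized, bq_mem_normalizer_of_conj_le, bq_receptive_core, bq_receptive, bq_blockFusion_saturated, bq_blockFusion_exists.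
-/

set_option autoImplicit false
set_option linter.style.haveILetI false
set_option linter.unusedVariables false
set_option warn.classDefReducibility false
set_option maxHeartbeats 1600000

namespace Cfsg.Agent.Lib.Helper25
open Cfsg.Agent.Lib.Helper24
open Cfsg.Agent.Lib.helper2
open Cfsg.Agent.Lib.helper7
open scoped ComplexConjugate
section

/-- pairs normally above `(Q, f)` inside `L` are `L`-conjugate below a pair `(S, g)` on a defect
group of the block of `L` with the idempotent of `f` -/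
theorem bq_over_conj_sub {G : Type*} [Group G] [Fintype G] (p : ℕ) [hp : Fact p.Prime]
    (M : Ideal Cfsg.AlgInt) (hM : Cfsg.IsPModular p M) (Q : Subgroup G)
    (f : Set (Cfsg.IrrCharacter (Subgroup.centralizer (Q : Set G))))
    (L : Subgroup G) (hLN : L ≤ Subgroup.normalizer (Q : Set G))
    (hCL : Subgroup.centralizer (Q : Set G) ≤ L)
    (FL : Set (Cfsg.IrrCharacter L)) (hFLb : Cfsg.IsPBlock M FL)
    (hFL : ∀ t : L, Cfsg.blockCoeff FL t =
        Cfsg.subgroupBlockCoeff (Subgroup.centralizer (Q : Set G)) f (t : G))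
    (S : Subgroup G) (g : Set (Cfsg.IrrCharacter (Subgroup.centralizer (S : Set G))))
    (hn : Cfsg.IsNormalSubpair p M Q f S g) (hSL : S ≤ L)
    (hdef : Cfsg.IsDefectGroup p M FL (S.subgroupOf L))
    (R₂ : Subgroup G) (e₂ : Set (Cfsg.IrrCharacter (Subgroup.centralizer (R₂ : Set G))))
    (hn₂ : Cfsg.IsNormalSubpair p M Q f R₂ e₂) (hR₂L : R₂ ≤ L) :
    ∃ t ∈ L, Cfsg.SubpairLE p M (R₂.map (MulAut.conj t).toMonoidHom)
      (Cfsg.conjBlock R₂ t e₂) S g := by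
  classical
  haveI : Fintype L := Fintype.ofFinite _
  have hPr := hM.2.1.isPrime
  have hQS : Q ≤ S := hn.2.2.1
  have hSp : IsPGroup p (S.subgroupOf L) :=
    hn.2.1.1.of_equiv (Subgroup.subgroupOfEquivOfLe hSL).symm
  have hpair := bq_pairT_of_normalSubpair p M Q _ L hCL _
    (bq_cent_in_stab Q _ L hCL hQS hSL) hSp f FL hFLb hFL g hn
  have hmaxS := bq_max_of_defect p M hM FL _ _ hpair hdef
  have hQR₂ : Q ≤ R₂ := hn₂.2.2.1
  have hS₂p : IsPGroup p (R₂.subgroupOf L) :=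
    hn₂.2.1.1.of_equiv (Subgroup.subgroupOfEquivOfLe hR₂L).symm
  have hpair₂ := bq_pairT_of_normalSubpair p M Q R₂ L hCL _
    (bq_cent_in_stab Q R₂ L hCL hQR₂ hR₂L) hS₂p f FL hFLb hFL e₂ hn₂
  obtain ⟨t, ht⟩ := bq_conj_into_max p M hM FL _ _ _ _ hmaxS hpair₂
  have ha₂ : Q ≤ (R₂.subgroupOf L).map L.subtype := by
    rw [Subgroup.map_subgroupOf_eq_of_le hR₂L]
    exact hQR₂
  have ha₂' := bq_liftT_conj_le Q L hLN t
    (⟨R₂.subgroupOf L, bq_trSet (bq_relCent L (R₂.subgroupOf L) R₂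
      (bq_cent_in_stab Q R₂ L hCL hQR₂ hR₂L)) e₂⟩ : Cfsg.BrauerPairIdx L) ha₂
  obtain ⟨hb, hch⟩ := bq_liftT_chain p M Q L hCL _ _ ht ha₂'
  rw [bq_liftT_conj Q L hCL t _ ha₂ ha₂', bq_liftT_of Q L hCL R₂ hQR₂ hR₂L e₂ ha₂,
    bq_liftT_of Q L hCL _ hQS hSL g hb] at hch
  exact ⟨t, t.2, hch⟩

/-- factorization `L = D · C_G(Q)` when the `p`-regular elements of `L` centralize `Q` -/
theorem bq_sub_factor {G : Type*} [Group G] [Fintype G] (p : ℕ) [hp : Fact p.Prime]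
    (M : Ideal Cfsg.AlgInt) (hM : Cfsg.IsPModular p M) (Q : Subgroup G)
    (f : Set (Cfsg.IrrCharacter (Subgroup.centralizer (Q : Set G)))) (hf : Cfsg.IsPBlock M f)
    (T : Subgroup G) (hTN : T ≤ Subgroup.normalizer (Q : Set G))
    (hCT : Subgroup.centralizer (Q : Set G) ≤ T)
    (hTst : ∀ x ∈ T, Cfsg.StabilizesBlock (Subgroup.centralizer (Q : Set G)) f x)
    (F : Set (Cfsg.IrrCharacter T)) (hFb : Cfsg.IsPBlock M F)
    (hF : ∀ t : T, Cfsg.blockCoeff F t =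
        Cfsg.subgroupBlockCoeff (Subgroup.centralizer (Q : Set G)) f (t : G))
    (D : Subgroup T) (hdef : Cfsg.IsDefectGroup p M F D)
    (hreg : ∀ t ∈ T, Cfsg.IsPRegular p t → t ∈ Subgroup.centralizer (Q : Set G)) (t : T) :
    ∃ d ∈ D, ∃ c : T, (c : G) ∈ Subgroup.centralizer (Q : Set G) ∧ t = d * c := by
  classical
  haveI : Fintype T := Fintype.ofFinite _
  haveI : Fintype (Subgroup.centralizer (Q : Set G)) := Fintype.ofFinite _
  have hPr := hM.2.1.isPrime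
  set N : Subgroup T := (Subgroup.centralizer (Q : Set G)).subgroupOf T with hNdef
  haveI hNn : N.Normal := by
    rw [hNdef, Subgroup.normal_subgroupOf_iff_le_normalizer hCT]
    exact fun x hx => bm_normalizer_centralizer Q x (hTN hx)
  haveI : Fintype N := Fintype.ofFinite _
  have hpq : IsPGroup p (T ⧸ N) := by
    intro x
    induction x using QuotientGroup.induction_on with
    | H t =>
      obtain ⟨a, ha⟩ := bq_pow_regular p t
      refine ⟨a, ?_⟩
      rw [← QuotientGroup.mk_pow, QuotientGroup.eq_one_iff, hNdef, Subgroup.mem_subgroupOf]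
      apply hreg _ (t ^ p ^ a).2
      intro hdvd
      apply ha
      rwa [Subgroup.orderOf_coe] at hdvd
  have hN : ∃ k : ℕ, N.index = p ^ k := by
    obtain ⟨k, hk⟩ := (IsPGroup.iff_card (p := p) (G := T ⧸ N)).mp hpq
    exact ⟨k, by rw [Subgroup.index_eq_card, hk]⟩
  set σ : N ≃* Subgroup.centralizer (Q : Set G) := Subgroup.subgroupOfEquivOfLe hCT with hσ
  have hσc : ∀ k : N, ((σ k : Subgroup.centralizer (Q : Set G)) : G) = ((k : T) : G) :=
    fun k => rfl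
  have hc : Cfsg.IsPBlock M (bq_trSet σ f) := bq_trSet_isBlock M σ f hf
  have hback : bq_trSet σ.symm (bq_trSet σ f) = f := by
    have := bq_trSet_symm σ.symm f
    rwa [MulEquiv.symm_symm] at this
  have hst : ∀ x : T, Cfsg.StabilizesBlock N (bq_trSet σ f) x := by
    intro x
    rw [bq_rel_stabilizes T N _ σ hσc, hback]
    exact hTst x x.2
  have hBc : ∀ g : T, Cfsg.blockCoeff F g = Cfsg.subgroupBlockCoeff N (bq_trSet σ f) g := by
    intro g
    rw [hF]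
    by_cases hg : g ∈ N
    · have hgC : (g : G) ∈ Subgroup.centralizer (Q : Set G) := Subgroup.mem_subgroupOf.mp hg
      rw [bq_sbc_mem N _ g hg, bq_blockCoeff_trSet, bq_sbc_mem _ f _ hgC]
      rfl
    · have hgC : (g : G) ∉ Subgroup.centralizer (Q : Set G) :=
        fun h => hg (Subgroup.mem_subgroupOf.mpr h)
      rw [bq_sbc_not_mem N _ g hg, bq_sbc_not_mem _ f _ hgC]
  obtain ⟨htop, -⟩ := (fp_main p M hM N hN (bq_trSet σ f) hc hst).2 F hFb hBc D hdef
  have ht : t ∈ ((D ⊔ N : Subgroup T) : Set T) := by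
    rw [sup_comm, htop]
    exact Subgroup.mem_top t
  rw [Subgroup.mul_normal D N] at ht
  obtain ⟨d, hd, n, hn, hdn⟩ := Set.mem_mul.mp ht
  exact ⟨d, hd, n, Subgroup.mem_subgroupOf.mp hn, hdn.symm⟩

/-- a subgroup `S` of `L ≤ T` giving a defect group of the stabilizer block of `T` gives a defect
group of the block of `L` with the same idempotent -/
theorem bq_defect_descend {G : Type*} [Group G] [Fintype G] (p : ℕ) [hp : Fact p.Prime]
    (M : Ideal Cfsg.AlgInt) (hM : Cfsg.IsPModular p M) (Q : Subgroup G) (hQ : IsPGroup p Q)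
    (f : Set (Cfsg.IrrCharacter (Subgroup.centralizer (Q : Set G)))) (hf : Cfsg.IsPBlock M f)
    (T : Subgroup G) (hTN : T ≤ Subgroup.normalizer (Q : Set G))
    (hCT : Subgroup.centralizer (Q : Set G) ≤ T)
    (hTst : ∀ x ∈ T, Cfsg.StabilizesBlock (Subgroup.centralizer (Q : Set G)) f x)
    (F : Set (Cfsg.IrrCharacter T)) (hFb : Cfsg.IsPBlock M F)
    (hF : ∀ t : T, Cfsg.blockCoeff F t =
        Cfsg.subgroupBlockCoeff (Subgroup.centralizer (Q : Set G)) f (t : G))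
    (S : Subgroup G) (g : Set (Cfsg.IrrCharacter (Subgroup.centralizer (S : Set G))))
    (hn : Cfsg.IsNormalSubpair p M Q f S g) (hST : S ≤ T)
    (hdef : Cfsg.IsDefectGroup p M F (S.subgroupOf T))
    (L : Subgroup G) (hLT : L ≤ T) (hCL : Subgroup.centralizer (Q : Set G) ≤ L) (hSL : S ≤ L)
    (FL : Set (Cfsg.IrrCharacter L)) (hFLb : Cfsg.IsPBlock M FL)
    (hFL : ∀ t : L, Cfsg.blockCoeff FL t =
        Cfsg.subgroupBlockCoeff (Subgroup.centralizer (Q : Set G)) f (t : G)) :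
    Cfsg.IsDefectGroup p M FL (S.subgroupOf L) := by
  classical
  haveI : Fintype T := Fintype.ofFinite _
  haveI : Fintype L := Fintype.ofFinite _
  have hPr := hM.2.1.isPrime
  have hQS : Q ≤ S := hn.2.2.1
  have hSp : IsPGroup p (S.subgroupOf L) :=
    hn.2.1.1.of_equiv (Subgroup.subgroupOfEquivOfLe hSL).symm
  have hpairL := bq_pairT_of_normalSubpair p M Q _ L hCL _
    (bq_cent_in_stab Q _ L hCL hQS hSL) hSp f FL hFLb hFL g hn
  obtain ⟨D, h, hmaxD, hleD⟩ := bq_exists_max_above p M FL _ _ hpairL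
  have hdefD := bq_max_defect p M hM FL D h hmaxD
  have hSD : S.subgroupOf L ≤ D := bq_chain_le p M _ _ hleD
  have hDp : IsPGroup p D := hmaxD.1.1.1
  have hQD' : Q ≤ D.map L.subtype := by
    intro q hq
    exact ⟨⟨q, hSL (hQS hq)⟩, hSD (Subgroup.mem_subgroupOf.mpr (hQS hq)), rfl⟩
  have hD'L : D.map L.subtype ≤ L := by
    rintro _ ⟨d, _, rfl⟩
    exact d.2
  have hnD := bq_normalSubpair_of_pairT p M Q (D.map L.subtype) L hCL D
    (bq_cent_in_stab' Q L hCL D hQD') hQ (hDp.map _) hQD' ((hD'L.trans hLT).trans hTN) f hf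
    (fun x hx => hTst x (hLT (hD'L hx))) FL hFL h hmaxD.1
  have hD'T : D.map L.subtype ≤ T := hD'L.trans hLT
  have hD'p : IsPGroup p ((D.map L.subtype).subgroupOf T) :=
    (hDp.map _).of_equiv (Subgroup.subgroupOfEquivOfLe hD'T).symm
  have hpairT := bq_pairT_of_normalSubpair p M Q _ T hCT _
    (bq_cent_in_stab Q _ T hCT hQD' hD'T) hD'p f F hFb hF _ hnD
  obtain ⟨D₂, h₂, hmaxD₂, hleD₂⟩ := bq_exists_max_above p M F _ _ hpairT
  have hdefD₂ := bq_max_defect p M hM F D₂ h₂ hmaxD₂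
  have hc1 := bq_defect_card p M hM F hFb _ _ hdefD₂ hdef
  have hc2 : Nat.card ((D.map L.subtype).subgroupOf T) ≤ Nat.card D₂ :=
    Subgroup.card_le_of_le (bq_chain_le p M _ _ hleD₂)
  have hc3 : Nat.card D ≤ Nat.card (S.subgroupOf L) := by
    rw [bq_card_subgroupOf_of_le _ _ hSL, ← bq_card_subgroupOf_of_le _ _ hST, ← hc1]
    rw [bq_card_subgroupOf_of_le _ _ hD'T,
      Subgroup.card_map_of_injective L.subtype_injective] at hc2
    exact hc2
  have heq : S.subgroupOf L = D := Subgroup.eq_of_le_of_card_ge hSD hc3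
  rw [heq]
  exact hdefD

end

section

/-- two pairs below `(P, e)` on the same subgroup are equal -/
theorem bq_idx_unique {G : Type*} [Group G] [Fintype G] (p : ℕ) [hp : Fact p.Prime]
    (M : Ideal Cfsg.AlgInt) (hM : Cfsg.IsPModular p M) (P : Subgroup G)
    (e : Set (Cfsg.IrrCharacter (Subgroup.centralizer (P : Set G))))
    (hPe : Cfsg.IsBrauerPair p M P e) (a b : Cfsg.BrauerPairIdx G)
    (ha : Relation.ReflTransGen (Cfsg.NormalSubpairRel p M) a ⟨P, e⟩)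
    (hb : Relation.ReflTransGen (Cfsg.NormalSubpairRel p M) b ⟨P, e⟩) (h : a.1 = b.1) :
    a = b := by
  obtain ⟨Q, f⟩ := a
  obtain ⟨Q', f'⟩ := b
  simp only at h
  subst h
  rw [bq_subpair_unique p M hM P e hPe Q f f' ha hb]

/-- two pairs below `(P, e)` with nested subgroups are nested -/
theorem bq_idx_le_of_le {G : Type*} [Group G] [Fintype G] (p : ℕ) [hp : Fact p.Prime]
    (M : Ideal Cfsg.AlgInt) (hM : Cfsg.IsPModular p M) (P : Subgroup G)
    (e : Set (Cfsg.IrrCharacter (Subgroup.centralizer (P : Set G))))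
    (hPe : Cfsg.IsBrauerPair p M P e) (a b : Cfsg.BrauerPairIdx G)
    (ha : Relation.ReflTransGen (Cfsg.NormalSubpairRel p M) a ⟨P, e⟩)
    (hb : Relation.ReflTransGen (Cfsg.NormalSubpairRel p M) b ⟨P, e⟩) (h : a.1 ≤ b.1) :
    Relation.ReflTransGen (Cfsg.NormalSubpairRel p M) a b := by
  have hbp := bq_le_isBrauerPair p M b ⟨P, e⟩ hb hPe
  obtain ⟨f', hf', hle'⟩ := bq_subpair_exists p M hM b.1 b.2 hbp a.1 h
  have h1 : (⟨a.1, f'⟩ : Cfsg.BrauerPairIdx G) = a :=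
    bq_idx_unique p M hM P e hPe ⟨a.1, f'⟩ a (Relation.ReflTransGen.trans hle' hb) ha rfl
  rw [← h1]
  exact hle'

/-- the maps of the block fusion system on `(P, e)` with source `Q` -/
def bq_fusHom {G : Type*} [Group G] (p : ℕ) (M : Ideal Cfsg.AlgInt) (P : Subgroup G)
    (e : Set (Cfsg.IrrCharacter (Subgroup.centralizer (P : Set G)))) (Q : Subgroup G) :
    Set (Q →* G) :=
  {φ | Q ≤ P ∧ ∃ g : G, (∀ u : Q, φ u = g * (u : G) * g⁻¹) ∧
        Q.map (MulAut.conj g).toMonoidHom ≤ P ∧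
        ∃ f : Set (Cfsg.IrrCharacter (Subgroup.centralizer (Q : Set G))),
          Cfsg.SubpairLE p M Q f P e ∧
            Cfsg.SubpairLE p M (Q.map (MulAut.conj g).toMonoidHom) (Cfsg.conjBlock Q g f) P e}

theorem bq_fusHom_conj {G : Type*} [Group G] [Fintype G] (p : ℕ) [hp : Fact p.Prime]
    (M : Ideal Cfsg.AlgInt) (hM : Cfsg.IsPModular p M) (P : Subgroup G)
    (e : Set (Cfsg.IrrCharacter (Subgroup.centralizer (P : Set G))))
    (hPe : Cfsg.IsBrauerPair p M P e) (Q : Subgroup G) (g : G) (hQP : Q ≤ P) (hg : g ∈ P) :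
    Cfsg.conjHom Q g ∈ bq_fusHom p M P e Q := by
  have hPr := hM.2.1.isPrime
  obtain ⟨f, hf, hle⟩ := bq_subpair_exists p M hM P e hPe Q hQP
  have h1 := bq_conj_subpairLE p M g ⟨Q, f⟩ ⟨P, e⟩ hle
  rw [bq_conjIdx_of_stab hPr P e hPe.2 g (Subgroup.le_normalizer hg)
    (bq_self_stabilizes P e g hg)] at h1
  exact ⟨hQP, g, fun u => rfl, bq_chain_le p M _ _ h1, f, hle, h1⟩

theorem bq_fusHom_comp {G : Type*} [Group G] [Fintype G] (p : ℕ) [hp : Fact p.Prime]
    (M : Ideal Cfsg.AlgInt) (hM : Cfsg.IsPModular p M) (P : Subgroup G)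
    (e : Set (Cfsg.IrrCharacter (Subgroup.centralizer (P : Set G))))
    (hPe : Cfsg.IsBrauerPair p M P e) (Q R : Subgroup G) (φ : Q →* G) (ψ : R →* G)
    (hφ : φ ∈ bq_fusHom p M P e Q) (hψ : ψ ∈ bq_fusHom p M P e R) (h : ∀ x : Q, φ x ∈ R) :
    ψ.comp (φ.codRestrict R h) ∈ bq_fusHom p M P e Q := by
  obtain ⟨hQP, g, hφg, hQg, f, hle, hle'⟩ := hφ
  obtain ⟨hRP, k, hψk, hRk, r, hleR, hleR'⟩ := hψ
  have hQgR : Q.map (MulAut.conj g).toMonoidHom ≤ R := by
    rintro _ ⟨q, hq, rfl⟩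
    have := h ⟨q, hq⟩
    rw [hφg] at this
    exact this
  have h1 := bq_idx_le_of_le p M hM P e hPe (bq_conjIdx g ⟨Q, f⟩) ⟨R, r⟩ hle' hleR hQgR
  have h2 := bq_conj_subpairLE p M k _ _ h1
  rw [bq_conjIdx_mul] at h2
  have h3 : Relation.ReflTransGen (Cfsg.NormalSubpairRel p M) (bq_conjIdx (k * g) ⟨Q, f⟩) ⟨P, e⟩ :=
    h2.trans hleR'
  refine ⟨hQP, k * g, ?_, bq_chain_le p M _ _ h3, f, hle, h3⟩
  intro u
  show ψ (φ.codRestrict R h u) = _
  rw [hψk]
  show k * φ u * k⁻¹ = _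
  rw [hφg]
  group

theorem bq_fusHom_range {G : Type*} [Group G] (Q : Subgroup G) (φ : Q →* G) (g : G)
    (hφg : ∀ u : Q, φ u = g * (u : G) * g⁻¹) :
    φ.range = Q.map (MulAut.conj g).toMonoidHom := by
  ext y
  constructor
  · rintro ⟨x, rfl⟩
    exact ⟨x, x.2, (hφg x).symm⟩
  · rintro ⟨q, hq, rfl⟩
    exact ⟨⟨q, hq⟩, hφg _⟩

theorem bq_fusHom_inv {G : Type*} [Group G] [Fintype G] (p : ℕ) [hp : Fact p.Prime]
    (M : Ideal Cfsg.AlgInt) (hM : Cfsg.IsPModular p M) (P : Subgroup G)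
    (e : Set (Cfsg.IrrCharacter (Subgroup.centralizer (P : Set G))))
    (hPe : Cfsg.IsBrauerPair p M P e) (Q : Subgroup G) (φ : Q →* G)
    (hφ : φ ∈ bq_fusHom p M P e Q) :
    ∃ ψ ∈ bq_fusHom p M P e φ.range, ∀ x : Q, ψ ⟨φ x, ⟨x, rfl⟩⟩ = (x : G) := by
  obtain ⟨hQP, g, hφg, hQg, f, hle, hle'⟩ := hφ
  have hrange := bq_fusHom_range Q φ g hφg
  have key : ∀ R : Subgroup G, R = Q.map (MulAut.conj g).toMonoidHom →
      Cfsg.conjHom R g⁻¹ ∈ bq_fusHom p M P e R := by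
    intro R hR
    subst hR
    have h1 : bq_conjIdx g⁻¹ (bq_conjIdx g ⟨Q, f⟩) = (⟨Q, f⟩ : Cfsg.BrauerPairIdx G) := by
      rw [bq_conjIdx_mul, inv_mul_cancel, bq_conjIdx_one]
    have h2 : Relation.ReflTransGen (Cfsg.NormalSubpairRel p M)
        (bq_conjIdx g⁻¹ (bq_conjIdx g ⟨Q, f⟩)) ⟨P, e⟩ := by
      rw [h1]
      exact hle
    exact ⟨hQg, g⁻¹, fun u => rfl, bq_chain_le p M _ _ h2, Cfsg.conjBlock Q g f, hle', h2⟩
  refine ⟨Cfsg.conjHom φ.range g⁻¹, key _ hrange, ?_⟩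
  intro x
  show g⁻¹ * φ x * g⁻¹⁻¹ = x
  rw [hφg]
  group

/-- **the fusion system of a block on a Brauer pair** -/
def bq_blockFusion {G : Type*} [Group G] [Fintype G] (p : ℕ) [hp : Fact p.Prime]
    (M : Ideal Cfsg.AlgInt) (hM : Cfsg.IsPModular p M) (P : Subgroup G)
    (e : Set (Cfsg.IrrCharacter (Subgroup.centralizer (P : Set G))))
    (hPe : Cfsg.IsBrauerPair p M P e) : Cfsg.FusionSystem P where
  Hom Q := bq_fusHom p M P e Q
  le_of_mem := by
    rintro Q φ ⟨hQP, g, hφg, hQg, -⟩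
    exact ⟨hQP, fun x => by rw [hφg]; exact hQg ⟨x, x.2, rfl⟩⟩
  injective_of_mem := by
    rintro Q φ ⟨-, g, hg, -⟩ a b hab
    have h : g * (a : G) * g⁻¹ = g * (b : G) * g⁻¹ := ((hg a).symm.trans hab).trans (hg b)
    exact Subtype.ext (mul_left_cancel (mul_right_cancel h))
  conj_mem := by
    intro Q g hQP hg
    exact bq_fusHom_conj p M hM P e hPe Q g hQP hg
  comp_mem := by
    intro Q R φ ψ hφ hψ h
    exact bq_fusHom_comp p M hM P e hPe Q R φ ψ hφ hψ h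
  inv_mem := by
    intro Q φ hφ
    exact bq_fusHom_inv p M hM P e hPe Q φ hφ

theorem bq_blockFusion_is {G : Type*} [Group G] [Fintype G] (p : ℕ) [hp : Fact p.Prime]
    (M : Ideal Cfsg.AlgInt) (hM : Cfsg.IsPModular p M) (B : Set (Cfsg.IrrCharacter G))
    (P : Subgroup G)
    (e : Set (Cfsg.IrrCharacter (Subgroup.centralizer (P : Set G))))
    (hmax : Cfsg.IsMaximalBrauerPair p M B P e) :
    Cfsg.IsBlockFusionSystemOn p M B P e (bq_blockFusion p M hM P e hmax.1.1) :=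
  ⟨hmax, fun Q φ => Iff.rfl⟩

end

section

/-- the conjugation action of a subgroup of `N_G(Q)` on `Q` -/
def bq_autHom {G : Type*} [Group G] (Q T : Subgroup G)
    (hTN : T ≤ Subgroup.normalizer (Q : Set G)) : T →* MulAut Q :=
  Q.normalizerMonoidHom.comp (Subgroup.inclusion hTN)

theorem bq_autHom_coe {G : Type*} [Group G] (Q T : Subgroup G)
    (hTN : T ≤ Subgroup.normalizer (Q : Set G)) (t : T) (x : Q) :
    ((bq_autHom Q T hTN t x : Q) : G) = (t : G) * (x : G) * (t : G)⁻¹ := rfl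

theorem bq_autHom_eq_one {G : Type*} [Group G] (Q T : Subgroup G)
    (hTN : T ≤ Subgroup.normalizer (Q : Set G)) (t : T) :
    bq_autHom Q T hTN t = 1 ↔ (t : G) ∈ Subgroup.centralizer (Q : Set G) := by
  rw [Subgroup.mem_centralizer_iff]
  constructor
  · intro h q hq
    have h1 := bq_autHom_coe Q T hTN t ⟨q, hq⟩
    rw [h] at h1
    have h2 : q = (t : G) * q * (t : G)⁻¹ := h1
    calc q * (t : G) = (t : G) * q * (t : G)⁻¹ * (t : G) := by rw [← h2]
      _ = (t : G) * q := by group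
  · intro h
    apply MulEquiv.ext
    intro x
    apply Subtype.ext
    rw [bq_autHom_coe]
    have := h (x : G) x.2
    show (t : G) * (x : G) * (t : G)⁻¹ = (x : G)
    rw [← this]
    group

end

section

/-- **Sylow property of the automizer**: a `p`-subgroup of the image of the stabilizer `T` in
`Aut(Q)` containing the image of `S` is the image of `S`, when `S` is a defect group of the
stabilizer block -/
theorem bq_automizer_sylow {G : Type*} [Group G] [Fintype G] (p : ℕ) [hp : Fact p.Prime]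
    (M : Ideal Cfsg.AlgInt) (hM : Cfsg.IsPModular p M) (Q : Subgroup G) (hQ : IsPGroup p Q)
    (f : Set (Cfsg.IrrCharacter (Subgroup.centralizer (Q : Set G)))) (hf : Cfsg.IsPBlock M f)
    (T : Subgroup G) (hTN : T ≤ Subgroup.normalizer (Q : Set G))
    (hCT : Subgroup.centralizer (Q : Set G) ≤ T)
    (hTst : ∀ x ∈ T, Cfsg.StabilizesBlock (Subgroup.centralizer (Q : Set G)) f x)
    (F : Set (Cfsg.IrrCharacter T)) (hFb : Cfsg.IsPBlock M F)
    (hF : ∀ t : T, Cfsg.blockCoeff F t =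
        Cfsg.subgroupBlockCoeff (Subgroup.centralizer (Q : Set G)) f (t : G))
    (S : Subgroup G) (g : Set (Cfsg.IrrCharacter (Subgroup.centralizer (S : Set G))))
    (hn : Cfsg.IsNormalSubpair p M Q f S g) (hST : S ≤ T)
    (hdef : Cfsg.IsDefectGroup p M F (S.subgroupOf T))
    (A' : Subgroup (MulAut Q)) (hAp : IsPGroup p A')
    (hSA : (S.subgroupOf T).map (bq_autHom Q T hTN) ≤ A')
    (hAr : A' ≤ (bq_autHom Q T hTN).range) :
    A' ≤ (S.subgroupOf T).map (bq_autHom Q T hTN) := by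
  classical
  have hPr := hM.2.1.isPrime
  have hQS : Q ≤ S := hn.2.2.1
  set c := bq_autHom Q T hTN with hc
  set LT : Subgroup T := A'.comap c with hLT
  set L : Subgroup G := LT.map T.subtype with hL
  have hLleT : L ≤ T := by
    rintro _ ⟨t, _, rfl⟩
    exact t.2
  have hmemL : ∀ t : T, (t : G) ∈ L ↔ c t ∈ A' := by
    intro t
    constructor
    · rintro ⟨t', ht', htt⟩
      have : t' = t := Subtype.ext htt
      rw [← this]
      exact ht'
    · intro h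
      exact ⟨t, h, rfl⟩
  have hCL : Subgroup.centralizer (Q : Set G) ≤ L := by
    intro x hx
    have h1 : c ⟨x, hCT hx⟩ = 1 := (bq_autHom_eq_one Q T hTN ⟨x, hCT hx⟩).mpr hx
    have h2 := (hmemL ⟨x, hCT hx⟩).mpr (by rw [h1]; exact Subgroup.one_mem _)
    exact h2
  have hSL : S ≤ L := by
    intro s hs
    have h1 : c ⟨s, hST hs⟩ ∈ A' := hSA ⟨⟨s, hST hs⟩, Subgroup.mem_subgroupOf.mpr hs, rfl⟩
    exact (hmemL ⟨s, hST hs⟩).mpr h1
  have hLN : L ≤ Subgroup.normalizer (Q : Set G) := hLleT.trans hTN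
  have hLst : ∀ x ∈ L, Cfsg.StabilizesBlock (Subgroup.centralizer (Q : Set G)) f x :=
    fun x hx => hTst x (hLleT hx)
  obtain ⟨FL, hFLb, hFL⟩ := bq_stab_block p M hM Q hQ f hf L hLN (hQS.trans hSL) hCL hLst
  have hdefL := bq_defect_descend p M hM Q hQ f hf T hTN hCT hTst F hFb hF S g hn hST hdef
    L hLleT hCL hSL FL hFLb hFL
  have hreg : ∀ l ∈ L, Cfsg.IsPRegular p l → l ∈ Subgroup.centralizer (Q : Set G) := by
    intro l hl hr
    have hlT : l ∈ T := hLleT hl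
    have h1 : c ⟨l, hlT⟩ ∈ A' := (hmemL ⟨l, hlT⟩).mp hl
    obtain ⟨k, hk⟩ := hAp ⟨_, h1⟩
    have hk' : (c ⟨l, hlT⟩) ^ (p ^ k) = 1 := by
      have := congrArg Subtype.val hk
      simpa using this
    have h2 : (c ⟨l, hlT⟩) ^ (orderOf l) = 1 := by
      rw [← map_pow]
      have : (⟨l, hlT⟩ : T) ^ orderOf l = 1 := by
        apply Subtype.ext
        rw [Subgroup.coe_pow]
        exact pow_orderOf_eq_one l
      rw [this, map_one]
    have h3 : orderOf (c ⟨l, hlT⟩) ∣ Nat.gcd (p ^ k) (orderOf l) :=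
      Nat.dvd_gcd (orderOf_dvd_of_pow_eq_one hk') (orderOf_dvd_of_pow_eq_one h2)
    have h4 : Nat.Coprime (p ^ k) (orderOf l) :=
      Nat.Coprime.pow_left k ((Nat.Prime.coprime_iff_not_dvd hp.out).mpr hr)
    rw [h4.gcd_eq_one, Nat.dvd_one, orderOf_eq_one_iff] at h3
    exact (bq_autHom_eq_one Q T hTN ⟨l, hlT⟩).mp h3
  have hfac := bq_sub_factor p M hM Q f hf L hLN hCL hLst FL hFLb hFL _ hdefL hreg
  intro σ hσ
  obtain ⟨t, rfl⟩ := hAr hσ
  have htL : (t : G) ∈ L := (hmemL t).mpr hσ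
  obtain ⟨d, hd, c', hc', htdc⟩ := hfac ⟨(t : G), htL⟩
  have hdS : (d : G) ∈ S := Subgroup.mem_subgroupOf.mp hd
  refine ⟨⟨(d : G), hST hdS⟩, Subgroup.mem_subgroupOf.mpr hdS, ?_⟩
  have h1 : t = ⟨(d : G), hST hdS⟩ * ⟨(c' : G), hCT hc'⟩ := by
    apply Subtype.ext
    have := congrArg Subtype.val htdc
    exact this
  rw [h1, map_mul, (bq_autHom_eq_one Q T hTN ⟨(c' : G), hCT hc'⟩).mpr hc', mul_one]

end

section

/-- an element inducing an automorphism of `Q` maps `Q` onto `Q` -/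
theorem bq_map_conj_of_aut {G : Type*} [Group G] (Q : Subgroup G) (α : MulAut Q) (g : G)
    (h : ∀ u : Q, ((α u : Q) : G) = g * (u : G) * g⁻¹) :
    Q.map (MulAut.conj g).toMonoidHom = Q := by
  ext y
  constructor
  · rintro ⟨q, hq, rfl⟩
    have := h ⟨q, hq⟩
    simp only [MulEquiv.coe_toMonoidHom, MulAut.conj_apply]
    rw [← this]
    exact (α ⟨q, hq⟩).2
  · intro hy
    refine ⟨(α.symm ⟨y, hy⟩ : Q), (α.symm ⟨y, hy⟩).2, ?_⟩
    simp only [MulEquiv.coe_toMonoidHom, MulAut.conj_apply]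
    rw [← h, MulEquiv.apply_symm_apply]

/-- the automorphisms of `Q` in the block fusion system are those induced by the stabilizer -/
theorem bq_autGroup_eq {G : Type*} [Group G] [Fintype G] (p : ℕ) [hp : Fact p.Prime]
    (M : Ideal Cfsg.AlgInt) (hM : Cfsg.IsPModular p M) (B : Set (Cfsg.IrrCharacter G))
    (P : Subgroup G) (e : Set (Cfsg.IrrCharacter (Subgroup.centralizer (P : Set G))))
    (F : Cfsg.FusionSystem P) (hF' : Cfsg.IsBlockFusionSystemOn p M B P e F)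
    (Q : Subgroup G) (f : Set (Cfsg.IrrCharacter (Subgroup.centralizer (Q : Set G))))
    (hle : Cfsg.SubpairLE p M Q f P e)
    (T : Subgroup G) (hT : ∀ y : G, y ∈ T ↔ y ∈ Subgroup.normalizer (Q : Set G) ∧
      Cfsg.StabilizesBlock (Subgroup.centralizer (Q : Set G)) f y)
    (hTN : T ≤ Subgroup.normalizer (Q : Set G)) :
    F.autGroup Q = (bq_autHom Q T hTN).range := by
  classical
  have hPr := hM.2.1.isPrime
  have hPe : Cfsg.IsBrauerPair p M P e := hF'.1.1.1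
  have hQP : Q ≤ P := bq_chain_le p M _ _ hle
  have hf : Cfsg.IsPBlock M f := (bq_le_isBrauerPair p M ⟨Q, f⟩ ⟨P, e⟩ hle hPe).2
  have hset : {α : MulAut Q | Q.subtype.comp α.toMonoidHom ∈ F.Hom Q} =
      ((bq_autHom Q T hTN).range : Set (MulAut Q)) := by
    ext α
    rw [Set.mem_setOf_eq, hF'.2]
    constructor
    · rintro ⟨_, g, hφg, hQg, f', hle1, hle2⟩
      have hφg' : ∀ u : Q, ((α u : Q) : G) = g * (u : G) * g⁻¹ := hφg
      have hQQ := bq_map_conj_of_aut Q α g hφg'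
      have hff : f' = f := bq_subpair_unique p M hM P e hPe Q f' f hle1 hle
      subst hff
      have hidx : bq_conjIdx g ⟨Q, f'⟩ = (⟨Q, f'⟩ : Cfsg.BrauerPairIdx G) :=
        bq_idx_unique p M hM P e hPe _ _ hle2 hle1 hQQ
      have hgT : g ∈ T := (hT g).mpr (bq_stab_of_conjIdx hPr Q f' hf g hidx)
      refine ⟨⟨g, hgT⟩, ?_⟩
      apply MulEquiv.ext
      intro u
      apply Subtype.ext
      rw [bq_autHom_coe, hφg']
    · rintro ⟨t, rfl⟩
      have ht := (hT t).mp t.2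
      have hidx := bq_conjIdx_of_stab hPr Q f hf (t : G) ht.1 ht.2
      have hle2 : Relation.ReflTransGen (Cfsg.NormalSubpairRel p M)
          (bq_conjIdx (t : G) ⟨Q, f⟩) ⟨P, e⟩ := by
        rw [hidx]
        exact hle
      exact ⟨hQP, (t : G), fun u => rfl, bq_chain_le p M _ _ hle2, f, hle, hle2⟩
  unfold Cfsg.FusionSystem.autGroup
  rw [hset, Subgroup.closure_eq]

/-- the automorphisms of `Q` induced by `P` are those induced by `N_P(Q)` -/
theorem bq_autInduced_eq {G : Type*} [Group G] (P Q T : Subgroup G)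
    (hTN : T ≤ Subgroup.normalizer (Q : Set G))
    (hST : P ⊓ Subgroup.normalizer (Q : Set G) ≤ T) :
    Cfsg.autInducedBy P Q =
      ((P ⊓ Subgroup.normalizer (Q : Set G)).subgroupOf T).map (bq_autHom Q T hTN) := by
  have hset : {α : MulAut Q | ∃ g ∈ P, ∀ x : Q, ((α x : Q) : G) = g * (x : G) * g⁻¹} =
      ((((P ⊓ Subgroup.normalizer (Q : Set G)).subgroupOf T).map (bq_autHom Q T hTN) :
        Subgroup (MulAut Q)) : Set (MulAut Q)) := by
    ext α
    rw [Set.mem_setOf_eq]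
    constructor
    · rintro ⟨g, hg, hα⟩
      have hQQ := bq_map_conj_of_aut Q α g hα
      have hgN := bq_mem_normalizer_of_map_conj Q g hQQ
      have hgS : g ∈ P ⊓ Subgroup.normalizer (Q : Set G) := ⟨hg, hgN⟩
      refine ⟨⟨g, hST hgS⟩, Subgroup.mem_subgroupOf.mpr hgS, ?_⟩
      apply MulEquiv.ext
      intro u
      apply Subtype.ext
      rw [bq_autHom_coe, hα]
    · rintro ⟨t, ht, rfl⟩
      exact ⟨(t : G), (Subgroup.mem_subgroupOf.mp ht).1, fun x => rfl⟩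
  unfold Cfsg.autInducedBy
  rw [hset, Subgroup.closure_eq]

/-- **fully automized**: if `N_P(Q)` is a defect group of the stabilizer block then `Aut_P(Q)` is
a Sylow `p`-subgroup of `Aut_F(Q)` -/
theorem bq_fully_automized {G : Type*} [Group G] [Fintype G] (p : ℕ) [hp : Fact p.Prime]
    (M : Ideal Cfsg.AlgInt) (hM : Cfsg.IsPModular p M) (B : Set (Cfsg.IrrCharacter G))
    (P : Subgroup G) (e : Set (Cfsg.IrrCharacter (Subgroup.centralizer (P : Set G))))
    (F : Cfsg.FusionSystem P) (hF' : Cfsg.IsBlockFusionSystemOn p M B P e F)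
    (Q : Subgroup G) (f : Set (Cfsg.IrrCharacter (Subgroup.centralizer (Q : Set G))))
    (hle : Cfsg.SubpairLE p M Q f P e)
    (T : Subgroup G) (hT : ∀ y : G, y ∈ T ↔ y ∈ Subgroup.normalizer (Q : Set G) ∧
      Cfsg.StabilizesBlock (Subgroup.centralizer (Q : Set G)) f y)
    (Fb : Set (Cfsg.IrrCharacter T)) (hFb : Cfsg.IsPBlock M Fb)
    (hFc : ∀ t : T, Cfsg.blockCoeff Fb t =
        Cfsg.subgroupBlockCoeff (Subgroup.centralizer (Q : Set G)) f (t : G))
    (hdef : Cfsg.IsDefectGroup p M Fb ((P ⊓ Subgroup.normalizer (Q : Set G)).subgroupOf T)) :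
    F.IsFullyAutomized p Q := by
  classical
  have hPr := hM.2.1.isPrime
  have hPe : Cfsg.IsBrauerPair p M P e := hF'.1.1.1
  have hP : IsPGroup p P := hPe.1
  have hQP : Q ≤ P := bq_chain_le p M _ _ hle
  have hQ : IsPGroup p Q := hP.to_le hQP
  have hf : Cfsg.IsPBlock M f := (bq_le_isBrauerPair p M ⟨Q, f⟩ ⟨P, e⟩ hle hPe).2
  obtain ⟨hTN, hQT, hCT, hTst⟩ := bq_stab_basic Q f T hT
  obtain ⟨g, hleR, hn⟩ := bq_normalizer_stab p M hM P Q e f hPe hQP hle
  have hST : P ⊓ Subgroup.normalizer (Q : Set G) ≤ T := by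
    intro r hr
    exact (hT r).mpr ⟨hr.2, hn.2.2.2.2.1 r hr⟩
  have hAF := bq_autGroup_eq p M hM B P e F hF' Q f hle T hT hTN
  have hAP := bq_autInduced_eq P Q T hTN hST
  have hSp : IsPGroup p ((P ⊓ Subgroup.normalizer (Q : Set G)).subgroupOf T) :=
    (hP.to_le inf_le_left).of_equiv (Subgroup.subgroupOfEquivOfLe hST).symm
  have hP1 : IsPGroup p ((Cfsg.autInducedBy P Q).subgroupOf (F.autGroup Q)) := by
    rw [hAP]
    exact (hSp.map _).comap_subtype
  obtain ⟨A, hA⟩ := hP1.exists_le_sylow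
  refine ⟨hQP, A, le_antisymm ?_ hA⟩
  have h1 := bq_automizer_sylow p M hM Q hQ f hf T hTN hCT hTst Fb hFb hFc _ g hn hST hdef
    ((A : Subgroup (F.autGroup Q)).map (F.autGroup Q).subtype) (A.2.map _) ?_ ?_
  · intro σ hσ
    rw [Subgroup.mem_subgroupOf, hAP]
    exact h1 ⟨σ, hσ, rfl⟩
  · rintro _ ⟨t, ht, rfl⟩
    have h2 : bq_autHom Q T hTN t ∈ Cfsg.autInducedBy P Q := by
      rw [hAP]
      exact ⟨t, ht, rfl⟩
    have h3 : bq_autHom Q T hTN t ∈ F.autGroup Q := by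
      rw [hAF]
      exact ⟨t, rfl⟩
    exact ⟨⟨_, h3⟩, hA (Subgroup.mem_subgroupOf.mpr h2), rfl⟩
  · rintro _ ⟨σ, _, rfl⟩
    have h4 : ((F.autGroup Q).subtype σ) ∈ F.autGroup Q := σ.2
    exact (SetLike.ext_iff.mp hAF _).mp h4

end

section

/-- in a finite group, an element conjugating `Q` into `Q` normalizes `Q` -/
theorem bq_mem_normalizer_of_conj_le {G : Type*} [Group G] [Finite G] (Q : Subgroup G) (h : G)
    (hh : ∀ q ∈ Q, h * q * h⁻¹ ∈ Q) : h ∈ Subgroup.normalizer (Q : Set G) := by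
  apply bq_mem_normalizer_of_map_conj
  apply Subgroup.eq_of_le_of_card_ge
  · rintro _ ⟨q, hq, rfl⟩
    exact hh q hq
  · rw [Subgroup.card_map_of_injective (MulAut.conj h).injective]

/-- the subgroup `N_P(Q) C_G(Q)` of the stabilizer, as the preimage of `Aut_P(Q)` -/
theorem bq_receptive_core {G : Type*} [Group G] [Fintype G] (p : ℕ) [hp : Fact p.Prime]
    (M : Ideal Cfsg.AlgInt) (hM : Cfsg.IsPModular p M) (Q : Subgroup G) (hQ : IsPGroup p Q)
    (f : Set (Cfsg.IrrCharacter (Subgroup.centralizer (Q : Set G)))) (hf : Cfsg.IsPBlock M f)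
    (T : Subgroup G) (hTN : T ≤ Subgroup.normalizer (Q : Set G))
    (hCT : Subgroup.centralizer (Q : Set G) ≤ T)
    (hTst : ∀ x ∈ T, Cfsg.StabilizesBlock (Subgroup.centralizer (Q : Set G)) f x)
    (F : Set (Cfsg.IrrCharacter T)) (hFb : Cfsg.IsPBlock M F)
    (hF : ∀ t : T, Cfsg.blockCoeff F t =
        Cfsg.subgroupBlockCoeff (Subgroup.centralizer (Q : Set G)) f (t : G))
    (S : Subgroup G) (g : Set (Cfsg.IrrCharacter (Subgroup.centralizer (S : Set G))))
    (hn : Cfsg.IsNormalSubpair p M Q f S g) (hST : S ≤ T)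
    (hdef : Cfsg.IsDefectGroup p M F (S.subgroupOf T)) :
    ∃ L : Subgroup G, S ≤ L ∧
      (∀ s ∈ S, ∀ c ∈ Subgroup.centralizer (Q : Set G), s * c ∈ L) ∧
      ∀ (R₂ : Subgroup G) (e₂ : Set (Cfsg.IrrCharacter (Subgroup.centralizer (R₂ : Set G)))),
        Cfsg.IsNormalSubpair p M Q f R₂ e₂ → R₂ ≤ L →
        ∃ c ∈ Subgroup.centralizer (Q : Set G),
          Cfsg.SubpairLE p M (R₂.map (MulAut.conj c).toMonoidHom) (Cfsg.conjBlock R₂ c e₂) S g := by
  classical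
  have hPr := hM.2.1.isPrime
  have hQS : Q ≤ S := hn.2.2.1
  have hgS : Cfsg.IsPBlock M g := hn.2.1.2
  set c := bq_autHom Q T hTN with hc
  set LT : Subgroup T := ((S.subgroupOf T).map c).comap c with hLT
  set L : Subgroup G := LT.map T.subtype with hL
  have hLleT : L ≤ T := by
    rintro _ ⟨t, _, rfl⟩
    exact t.2
  have hmemL : ∀ t : T, (t : G) ∈ L ↔ c t ∈ (S.subgroupOf T).map c := by
    intro t
    constructor
    · rintro ⟨t', ht', htt⟩
      have : t' = t := Subtype.ext htt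
      rw [← this]
      exact ht'
    · intro h
      exact ⟨t, h, rfl⟩
  have hCL : Subgroup.centralizer (Q : Set G) ≤ L := by
    intro x hx
    have h1 : c ⟨x, hCT hx⟩ = 1 := (bq_autHom_eq_one Q T hTN ⟨x, hCT hx⟩).mpr hx
    exact (hmemL ⟨x, hCT hx⟩).mpr (by rw [h1]; exact Subgroup.one_mem _)
  have hSL : S ≤ L := by
    intro s hs
    exact (hmemL ⟨s, hST hs⟩).mpr ⟨⟨s, hST hs⟩, Subgroup.mem_subgroupOf.mpr hs, rfl⟩
  have hLN : L ≤ Subgroup.normalizer (Q : Set G) := hLleT.trans hTN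
  have hLst : ∀ x ∈ L, Cfsg.StabilizesBlock (Subgroup.centralizer (Q : Set G)) f x :=
    fun x hx => hTst x (hLleT hx)
  obtain ⟨FL, hFLb, hFL⟩ := bq_stab_block p M hM Q hQ f hf L hLN (hQS.trans hSL) hCL hLst
  have hdefL := bq_defect_descend p M hM Q hQ f hf T hTN hCT hTst F hFb hF S g hn hST hdef
    L hLleT hCL hSL FL hFLb hFL
  have hfacL : ∀ l ∈ L, ∃ s ∈ S, ∃ c' ∈ Subgroup.centralizer (Q : Set G), l = s * c' := by
    intro l hl
    have hlT : l ∈ T := hLleT hl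
    obtain ⟨s, hs, hsc⟩ := (hmemL ⟨l, hlT⟩).mp hl
    have hsS : (s : G) ∈ S := Subgroup.mem_subgroupOf.mp hs
    refine ⟨(s : G), hsS, (s : G)⁻¹ * l, ?_, by group⟩
    have h1 : c (s⁻¹ * ⟨l, hlT⟩) = 1 := by
      rw [map_mul, map_inv, hsc, inv_mul_cancel]
    exact (bq_autHom_eq_one Q T hTN (s⁻¹ * ⟨l, hlT⟩)).mp h1
  refine ⟨L, hSL, ?_, ?_⟩
  · intro s hs c' hc'
    exact L.mul_mem (hSL hs) (hCL hc')
  · intro R₂ e₂ hn₂ hR₂L
    obtain ⟨l, hlL, hlle⟩ := bq_over_conj_sub p M hM Q f L hLN hCL FL hFLb hFL S g hn hSL hdefL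
      R₂ e₂ hn₂ hR₂L
    obtain ⟨s, hs, c', hc', hlsc⟩ := hfacL l hlL
    refine ⟨c', hc', ?_⟩
    have h1 : Relation.ReflTransGen (Cfsg.NormalSubpairRel p M)
        (bq_conjIdx s⁻¹ (bq_conjIdx l ⟨R₂, e₂⟩)) (bq_conjIdx s⁻¹ ⟨S, g⟩) :=
      bq_conj_subpairLE p M s⁻¹ (bq_conjIdx l ⟨R₂, e₂⟩) ⟨S, g⟩ hlle
    rw [bq_conjIdx_mul, bq_conjIdx_of_stab hPr S g hgS s⁻¹
      (Subgroup.le_normalizer (S.inv_mem hs)) (bq_self_stabilizes S g s⁻¹ (S.inv_mem hs))] at h1
    have h2 : s⁻¹ * l = c' := by rw [hlsc]; group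
    rw [h2] at h1
    exact h1

end

section

/-- **receptive**: if `N_P(Q)` is a defect group of the stabilizer block then `Q` is receptive in
the block fusion system -/
theorem bq_receptive {G : Type*} [Group G] [Fintype G] (p : ℕ) [hp : Fact p.Prime]
    (M : Ideal Cfsg.AlgInt) (hM : Cfsg.IsPModular p M) (B : Set (Cfsg.IrrCharacter G))
    (P : Subgroup G) (e : Set (Cfsg.IrrCharacter (Subgroup.centralizer (P : Set G))))
    (F : Cfsg.FusionSystem P) (hF' : Cfsg.IsBlockFusionSystemOn p M B P e F)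
    (Q : Subgroup G) (f : Set (Cfsg.IrrCharacter (Subgroup.centralizer (Q : Set G))))
    (hle : Cfsg.SubpairLE p M Q f P e)
    (T : Subgroup G) (hT : ∀ y : G, y ∈ T ↔ y ∈ Subgroup.normalizer (Q : Set G) ∧
      Cfsg.StabilizesBlock (Subgroup.centralizer (Q : Set G)) f y)
    (Fb : Set (Cfsg.IrrCharacter T)) (hFb : Cfsg.IsPBlock M Fb)
    (hFc : ∀ t : T, Cfsg.blockCoeff Fb t =
        Cfsg.subgroupBlockCoeff (Subgroup.centralizer (Q : Set G)) f (t : G))
    (hdef : Cfsg.IsDefectGroup p M Fb ((P ⊓ Subgroup.normalizer (Q : Set G)).subgroupOf T)) :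
    F.IsReceptive Q := by
  classical
  have hPr := hM.2.1.isPrime
  have hPe : Cfsg.IsBrauerPair p M P e := hF'.1.1.1
  have hP : IsPGroup p P := hPe.1
  have hQP : Q ≤ P := bq_chain_le p M _ _ hle
  have hQ : IsPGroup p Q := hP.to_le hQP
  have hf : Cfsg.IsPBlock M f := (bq_le_isBrauerPair p M ⟨Q, f⟩ ⟨P, e⟩ hle hPe).2
  obtain ⟨hTN, hQT, hCT, hTst⟩ := bq_stab_basic Q f T hT
  obtain ⟨gS, hleS, hnS⟩ := bq_normalizer_stab p M hM P Q e f hPe hQP hle
  have hST : P ⊓ Subgroup.normalizer (Q : Set G) ≤ T := by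
    intro r hr
    exact (hT r).mpr ⟨hr.2, hnS.2.2.2.2.1 r hr⟩
  obtain ⟨L, hSL, hmulL, hconjL⟩ := bq_receptive_core p M hM Q hQ f hf T hTN hCT hTst Fb hFb hFc
    _ gS hnS hST hdef
  refine ⟨hQP, ?_⟩
  intro R φ hφ hrange
  rw [hF'.2] at hφ
  obtain ⟨hRP, g₀, hφg, hRg, fR, hleR1, hleR2⟩ := hφ
  have hRQ : R.map (MulAut.conj g₀).toMonoidHom = Q :=
    (bq_fusHom_range R φ g₀ hφg).symm.trans hrange
  have hidx : bq_conjIdx g₀ ⟨R, fR⟩ = (⟨Q, f⟩ : Cfsg.BrauerPairIdx G) :=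
    bq_idx_unique p M hM P e hPe _ _ hleR2 hle hRQ
  -- the subgroup `Y`
  set Y : Subgroup G := (P ⊓ Subgroup.normalizer (R : Set G)) ⊓
    L.comap (MulAut.conj g₀).toMonoidHom with hY
  have hmemQ : ∀ r ∈ R, g₀ * r * g₀⁻¹ ∈ Q := by
    intro r hr
    rw [← hRQ]
    exact ⟨r, hr, rfl⟩
  have hXY : Cfsg.FusionSystem.extender P R φ ≤ Y := by
    unfold Cfsg.FusionSystem.extender
    rw [Subgroup.closure_le]
    rintro y ⟨hyP, hyN, h, hh, hyh⟩
    refine ⟨⟨hyP, hyN⟩, ?_⟩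
    show g₀ * y * g₀⁻¹ ∈ L
    -- `h` acts on `Q` like `g₀ y g₀⁻¹`
    have hact : ∀ q ∈ Q, (g₀ * y * g₀⁻¹) * q * (g₀ * y * g₀⁻¹)⁻¹ = h * q * h⁻¹ := by
      intro q hq
      rw [← hRQ] at hq
      obtain ⟨r, hr, rfl⟩ := hq
      have hx : y * r * y⁻¹ ∈ R := (Subgroup.mem_normalizer_iff.mp hyN r).mp hr
      have h1 := hyh ⟨r, hr⟩ hx
      rw [hφg, hφg] at h1
      simp only [MulEquiv.coe_toMonoidHom, MulAut.conj_apply]
      rw [← h1]
      group
    have hhN : h ∈ Subgroup.normalizer (Q : Set G) := by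
      apply bq_mem_normalizer_of_conj_le
      intro q hq
      rw [← hact q hq]
      have hq' := hq
      rw [← hRQ] at hq'
      obtain ⟨r, hr, rfl⟩ := hq'
      have hx : y * r * y⁻¹ ∈ R := (Subgroup.mem_normalizer_iff.mp hyN r).mp hr
      have := hmemQ _ hx
      simp only [MulEquiv.coe_toMonoidHom, MulAut.conj_apply]
      have e1 : g₀ * y * g₀⁻¹ * (g₀ * r * g₀⁻¹) * (g₀ * y * g₀⁻¹)⁻¹ = g₀ * (y * r * y⁻¹) * g₀⁻¹ := by
        group
      rw [e1]
      exact this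
    have hcC : h⁻¹ * (g₀ * y * g₀⁻¹) ∈ Subgroup.centralizer (Q : Set G) := by
      rw [Subgroup.mem_centralizer_iff]
      intro q hq
      have h1 := hact q hq
      calc q * (h⁻¹ * (g₀ * y * g₀⁻¹))
          = h⁻¹ * (h * q * h⁻¹) * (g₀ * y * g₀⁻¹) := by group
        _ = h⁻¹ * ((g₀ * y * g₀⁻¹) * q * (g₀ * y * g₀⁻¹)⁻¹) * (g₀ * y * g₀⁻¹) := by rw [h1]
        _ = h⁻¹ * (g₀ * y * g₀⁻¹) * q := by group
    have := hmulL h ⟨hh, hhN⟩ _ hcC
    rwa [mul_inv_cancel_left] at this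
  have hYP : Y ≤ P := fun y hy => hy.1.1
  have hYN : Y ≤ Subgroup.normalizer (R : Set G) := fun y hy => hy.1.2
  have hRY : R ≤ Y := by
    intro r hr
    exact ⟨⟨hRP hr, Subgroup.le_normalizer hr⟩,
      hSL ⟨hQP (hmemQ r hr), Subgroup.le_normalizer (hmemQ r hr)⟩⟩
  have hYp : IsPGroup p Y := hP.to_le hYP
  obtain ⟨eY, heY, hleY⟩ := bq_subpair_exists p M hM P e hPe Y hYP
  have hRYle := bq_idx_le_of_le p M hM P e hPe ⟨R, fR⟩ ⟨Y, eY⟩ hleR1 hleY hRY
  have hnY := bq_le_normal p M hM R Y fR eY ⟨hYp, heY⟩ hRY hYN hRYle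
  have hnY' := bq_conj_normalSubpair p M R Y g₀ fR eY hnY
  have hnY'' := bq_normalSubpair_congr p M (bq_conjIdx g₀ ⟨R, fR⟩) _ hidx _ _ hnY'
  have hY₂L : Y.map (MulAut.conj g₀).toMonoidHom ≤ L := by
    rintro _ ⟨y, hy, rfl⟩
    exact hy.2
  obtain ⟨c', hc', hlec⟩ := hconjL _ _ hnY'' hY₂L
  have hleYc : Relation.ReflTransGen (Cfsg.NormalSubpairRel p M)
      (bq_conjIdx (c' * g₀) ⟨Y, eY⟩) ⟨P, e⟩ := by
    rw [← bq_conjIdx_mul g₀ c']
    exact Relation.ReflTransGen.trans hlec hleS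
  -- the extension
  have hNY := hXY
  obtain ⟨fN, hfN, hleN⟩ := bq_subpair_exists p M hM Y eY ⟨hYp, heY⟩ _ hNY
  have hleN' : Relation.ReflTransGen (Cfsg.NormalSubpairRel p M)
      (bq_conjIdx (c' * g₀) ⟨Cfsg.FusionSystem.extender P R φ, fN⟩) ⟨P, e⟩ :=
    Relation.ReflTransGen.trans (bq_conj_subpairLE p M (c' * g₀) _ _ hleN) hleYc
  refine ⟨Cfsg.conjHom (Cfsg.FusionSystem.extender P R φ) (c' * g₀), ?_, ?_⟩
  · rw [hF'.2]
    exact ⟨hNY.trans hYP, c' * g₀, fun u => rfl, bq_chain_le p M _ _ hleN', fN,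
      Relation.ReflTransGen.trans hleN hleY, hleN'⟩
  · intro x hxR hxN
    show c' * g₀ * x * (c' * g₀)⁻¹ = φ ⟨x, hxR⟩
    rw [hφg]
    have hq := hmemQ x hxR
    have h1 : (g₀ * x * g₀⁻¹) * c' = c' * (g₀ * x * g₀⁻¹) :=
      Subgroup.mem_centralizer_iff.mp hc' _ hq
    calc c' * g₀ * x * (c' * g₀)⁻¹ = c' * (g₀ * x * g₀⁻¹) * c'⁻¹ := by group
      _ = (g₀ * x * g₀⁻¹) * c' * c'⁻¹ := by rw [h1]
      _ = g₀ * x * g₀⁻¹ := by group

end

section

/-- **the fusion system of a block is saturated** -/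
theorem bq_blockFusion_saturated {G : Type*} [Group G] [Fintype G] (p : ℕ) [hp : Fact p.Prime]
    (M : Ideal Cfsg.AlgInt) (hM : Cfsg.IsPModular p M) (B : Set (Cfsg.IrrCharacter G))
    (P : Subgroup G) (e : Set (Cfsg.IrrCharacter (Subgroup.centralizer (P : Set G))))
    (F : Cfsg.FusionSystem P) (hF' : Cfsg.IsBlockFusionSystemOn p M B P e F) :
    F.IsSaturated p := by
  classical
  have hPr := hM.2.1.isPrime
  have hmax := hF'.1
  have hPe : Cfsg.IsBrauerPair p M P e := hmax.1.1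
  intro Q hQP
  obtain ⟨f, hf, hle⟩ := bq_subpair_exists p M hM P e hPe Q hQP
  obtain ⟨T, hT⟩ := bq_stab_exists hPr Q f hf
  obtain ⟨x, hlex, hx⟩ := bq_norm_defect_conj p M hM B P Q e f hmax hQP hf hle T hT
  have hTs := bq_stab_conj Q f x T hT
  obtain ⟨Fs, hFsb, hFs, hdefs⟩ := hx _ hTs
  refine ⟨Q.map (MulAut.conj x).toMonoidHom, ?_,
    bq_fully_automized p M hM B P e F hF' _ _ hlex _ hTs Fs hFsb hFs hdefs,
    bq_receptive p M hM B P e F hF' _ _ hlex _ hTs Fs hFsb hFs hdefs⟩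
  refine ⟨Cfsg.conjHom Q x, ?_, bq_fusHom_range Q _ x (fun u => rfl)⟩
  rw [hF'.2]
  exact ⟨hQP, x, fun u => rfl, bq_chain_le p M _ _ hlex, f, hle, hlex⟩

/-- S4677 -/
theorem bq_blockFusion_exists {G : Type*} [Group G] [Fintype G] (p : ℕ) [hp : Fact p.Prime]
    (M : Ideal Cfsg.AlgInt) (hM : Cfsg.IsPModular p M) (B : Set (Cfsg.IrrCharacter G))
    (P : Subgroup G) (e : Set (Cfsg.IrrCharacter (Subgroup.centralizer (P : Set G))))
    (hmax : Cfsg.IsMaximalBrauerPair p M B P e) :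
    ∃ F : Cfsg.FusionSystem P, Cfsg.IsBlockFusionSystemOn p M B P e F ∧ F.IsSaturated p :=
  ⟨bq_blockFusion p M hM P e hmax.1.1, bq_blockFusion_is p M hM B P e hmax,
    bq_blockFusion_saturated p M hM B P e _ (bq_blockFusion_is p M hM B P e hmax)⟩

end

end Cfsg.Agent.Lib.Helper25
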