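import Mathlib
import Cfsg.Agent.Lib.Helper25.BrauerPairSaturated
import Cfsg.Agent.S4654

/-!
# Stable centric subpairs: the local block of Q C_G(Q) is nilpotent with defect group Q (S4693)
-/

set_option autoImplicit false
set_option linter.style.haveILetI false
set_option linter.unusedVariables false
set_option warn.classDefReducibility false
set_option maxHeartbeats 1600000

namespace Cfsg.Agent.Lib.Helper25
open Cfsg.Agent.Lib.Helper24
open Cfsg.Agent.Lib.helper2
open Cfsg.Agent.Lib.helper7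
open scoped ComplexConjugate
section

/-- the trivial normal inclusion -/
theorem bq_normalSubpair_refl {G : Type*} [Group G] [Fintype G] (p : ℕ) [hp : Fact p.Prime]
    (M : Ideal Cfsg.AlgInt) (hM : Cfsg.IsPModular p M) (Q : Subgroup G)
    (f : Set (Cfsg.IrrCharacter (Subgroup.centralizer (Q : Set G))))
    (hQf : Cfsg.IsBrauerPair p M Q f) : Cfsg.IsNormalSubpair p M Q f Q f := by
  classical
  have hPr := hM.2.1.isPrime
  refine ⟨hQf, hQf, le_rfl, Subgroup.le_normalizer, fun x hx => bq_self_stabilizes Q f x hx, ?_⟩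
  intro ξ hξ
  rw [bq_omega_self, if_pos hξ, sub_self]
  exact h7_memLocalIdeal_zero hPr

/-- the defect-group property of the stabilizer block, as a predicate on pairs -/
def bq_normDefectProp {G : Type*} [Group G] (p : ℕ) (M : Ideal Cfsg.AlgInt) (P : Subgroup G)
    (a : Cfsg.BrauerPairIdx G) : Prop :=
  ∀ (T' : Subgroup G), (∀ y : G, y ∈ T' ↔
        y ∈ Subgroup.normalizer (a.1 : Set G) ∧
        Cfsg.StabilizesBlock (Subgroup.centralizer (a.1 : Set G)) a.2 y) →
      ∃ F' : Set (Cfsg.IrrCharacter T'), Cfsg.IsPBlock M F' ∧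
        (∀ t : T', Cfsg.blockCoeff F' t = Cfsg.subgroupBlockCoeff
          (Subgroup.centralizer (a.1 : Set G)) a.2 (t : G)) ∧
        Cfsg.IsDefectGroup p M F' ((P ⊓ Subgroup.normalizer (a.1 : Set G)).subgroupOf T')

/-- for a pair `(Q, f) ≤ (P, e)` stabilized by all of `G`, the group `P` is a defect group of
the stabilizer block -/
theorem bq_normDefect_of_stable {G : Type*} [Group G] [Fintype G] (p : ℕ) [hp : Fact p.Prime]
    (M : Ideal Cfsg.AlgInt) (hM : Cfsg.IsPModular p M) (B : Set (Cfsg.IrrCharacter G))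
    (P : Subgroup G) (e : Set (Cfsg.IrrCharacter (Subgroup.centralizer (P : Set G))))
    (hmax : Cfsg.IsMaximalBrauerPair p M B P e)
    (Q : Subgroup G) (f : Set (Cfsg.IrrCharacter (Subgroup.centralizer (Q : Set G))))
    (hQP : Q ≤ P) (hf : Cfsg.IsPBlock M f) (hle : Cfsg.SubpairLE p M Q f P e)
    (hG : ∀ x : G, x ∈ Subgroup.normalizer (Q : Set G) ∧
      Cfsg.StabilizesBlock (Subgroup.centralizer (Q : Set G)) f x) :
    bq_normDefectProp p M P ⟨Q, f⟩ := by
  have hPr := hM.2.1.isPrime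
  obtain ⟨T, hT⟩ := bq_stab_exists hPr Q f hf
  obtain ⟨x, hlex, hx⟩ := bq_norm_defect_conj p M hM B P Q e f hmax hQP hf hle T hT
  have hidx : bq_conjIdx x ⟨Q, f⟩ = (⟨Q, f⟩ : Cfsg.BrauerPairIdx G) :=
    bq_conjIdx_of_stab hPr Q f hf x (hG x).1 (hG x).2
  have h1 : bq_normDefectProp p M P (bq_conjIdx x ⟨Q, f⟩) := hx
  rw [hidx] at h1
  exact h1

end

section

/-- the idempotent of a block agrees exactly with that of a `G`-stable pair of it -/
theorem bq_stable_coeff_eq {G : Type*} [Group G] [Fintype G] (p : ℕ) [hp : Fact p.Prime]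
    (M : Ideal Cfsg.AlgInt) (hM : Cfsg.IsPModular p M) (B : Set (Cfsg.IrrCharacter G))
    (Q : Subgroup G) (f : Set (Cfsg.IrrCharacter (Subgroup.centralizer (Q : Set G))))
    (hQf : Cfsg.IsBrauerPairOf p M B Q f)
    (hG : ∀ x : G, x ∈ Subgroup.normalizer (Q : Set G) ∧
      Cfsg.StabilizesBlock (Subgroup.centralizer (Q : Set G)) f x) (g : G) :
    Cfsg.blockCoeff B g = Cfsg.subgroupBlockCoeff (Subgroup.centralizer (Q : Set G)) f g := by
  classical
  have hPr := hM.2.1.isPrime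
  haveI : Q.Normal :=
    Subgroup.normalizer_eq_top_iff.mp (eq_top_iff.mpr fun x _ => (hG x).1)
  have h := (Cfsg.Agent.S4654.result p M hM Q hQf.1.1 B f hQf ⊤
    (fun x => ⟨fun _ => (hG x).2, fun _ => Subgroup.mem_top x⟩)).2 g
  rw [h]
  have h1 : ∀ x : G, Cfsg.subgroupBlockCoeff (Subgroup.centralizer (Q : Set G)) f (x⁻¹ * g * x) =
      Cfsg.subgroupBlockCoeff (Subgroup.centralizer (Q : Set G)) f g := by
    intro x
    have := bq_sbc_stable hPr _ f hQf.1.2 x⁻¹ (hG x⁻¹).2 g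
    rwa [inv_inv] at this
  rw [Finset.sum_congr rfl (fun x _ => h1 x), Finset.sum_const, Finset.card_univ, nsmul_eq_mul,
    Subgroup.card_top, Nat.card_eq_fintype_card, ← mul_assoc, inv_mul_cancel₀, one_mul]
  exact Nat.cast_ne_zero.mpr Fintype.card_ne_zero

/-- a centric subgroup contains its centralizer in `P` -/
theorem bq_centric_inf_le {G : Type*} [Group G] (P : Subgroup G) (F : Cfsg.FusionSystem P)
    (Q : Subgroup G) (hcen : F.IsCentric Q) :
    P ⊓ Subgroup.centralizer (Q : Set G) ≤ Q := by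
  have hr : (Cfsg.conjHom Q 1).range = Q := by
    ext x
    constructor
    · rintro ⟨q, rfl⟩
      simp [Cfsg.conjHom]
    · intro hx
      exact ⟨⟨x, hx⟩, by simp [Cfsg.conjHom]⟩
  exact hcen.2 Q ⟨Cfsg.conjHom Q 1, F.conj_mem hcen.1 (one_mem P), hr⟩

/-- for a normal centric `Q ≤ P`, `P ∩ Q C_G(Q) ≤ Q` -/
theorem bq_centric_inf_sup_le {G : Type*} [Group G] (P : Subgroup G) (F : Cfsg.FusionSystem P)
    (Q : Subgroup G) (hcen : F.IsCentric Q) [hQn : Q.Normal] :
    P ⊓ (Q ⊔ Subgroup.centralizer (Q : Set G)) ≤ Q := by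
  intro y hy
  obtain ⟨hyP, hyH⟩ := Subgroup.mem_inf.mp hy
  have hyH' : y ∈ ((Q ⊔ Subgroup.centralizer (Q : Set G) : Subgroup G) : Set G) := hyH
  rw [Subgroup.normal_mul] at hyH'
  obtain ⟨q, hq, c, hc, hqc⟩ := Set.mem_mul.mp hyH'
  have hcP : c ∈ P := by
    have : c = q⁻¹ * y := by rw [← hqc]; group
    rw [this]
    exact P.mul_mem (P.inv_mem (hcen.1 hq)) hyP
  have hcQ : c ∈ Q := bq_centric_inf_le P F Q hcen (Subgroup.mem_inf.mpr ⟨hcP, hc⟩)
  rw [← hqc]
  exact Q.mul_mem hq hcQ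

end

section

/-- **defect group of the local block at a stable centric pair**: for a `G`-stable pair
`(Q, f) ≤ (P, e)` with `P ∩ Q C_G(Q) ≤ Q`, the block of `H = Q C_G(Q)` with the idempotent of `f`
has defect group `Q` -/
theorem bq_centric_defect {G : Type*} [Group G] [Fintype G] (p : ℕ) [hp : Fact p.Prime]
    (M : Ideal Cfsg.AlgInt) (hM : Cfsg.IsPModular p M) (B : Set (Cfsg.IrrCharacter G))
    (P : Subgroup G) (e : Set (Cfsg.IrrCharacter (Subgroup.centralizer (P : Set G))))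
    (hmax : Cfsg.IsMaximalBrauerPair p M B P e)
    (Q : Subgroup G) (f : Set (Cfsg.IrrCharacter (Subgroup.centralizer (Q : Set G))))
    (hQP : Q ≤ P) (hf : Cfsg.IsPBlock M f) (hle : Cfsg.SubpairLE p M Q f P e)
    (hG : ∀ x : G, x ∈ Subgroup.normalizer (Q : Set G) ∧
      Cfsg.StabilizesBlock (Subgroup.centralizer (Q : Set G)) f x)
    (H : Subgroup G) (hHn : H.Normal) (hQH : Q ≤ H) (hCH : Subgroup.centralizer (Q : Set G) ≤ H)
    (hPH : P ⊓ H ≤ Q)
    (F' : Set (Cfsg.IrrCharacter H)) (hF'b : Cfsg.IsPBlock M F')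
    (hF' : ∀ t : H, Cfsg.blockCoeff F' t =
      Cfsg.subgroupBlockCoeff (Subgroup.centralizer (Q : Set G)) f (t : G)) :
    Cfsg.IsDefectGroup p M F' (Q.subgroupOf H) := by
  classical
  have hPr := hM.2.1.isPrime
  have hPe : Cfsg.IsBrauerPair p M P e := hmax.1.1
  have hQp : IsPGroup p Q := hPe.1.to_le hQP
  have hQf : Cfsg.IsBrauerPair p M Q f := ⟨hQp, hf⟩
  -- the pair of `F'` at `Q`
  have hR := bq_cent_in_stab Q Q H hCH le_rfl hQH
  have hS : IsPGroup p (Q.subgroupOf H) :=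
    hQp.comap_of_injective H.subtype H.subtype_injective
  have h1 := bq_pairT_of_normalSubpair p M Q Q H hCH (Q.subgroupOf H) hR hS f F' hF'b hF' f
    (bq_normalSubpair_refl p M hM Q f hQf)
  obtain ⟨D₀, h₀, hmax₀, hle₀⟩ := bq_exists_max_above p M F' _ _ h1
  have hdef₀ := bq_max_defect p M hM F' D₀ h₀ hmax₀
  have hQD : Q.subgroupOf H ≤ D₀ := bq_chain_le p M _ _ hle₀
  have ha : Q ≤ D₀.map H.subtype := by
    intro q hq
    exact ⟨⟨q, hQH hq⟩, hQD (Subgroup.mem_subgroupOf.mpr hq), rfl⟩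
  have hD₀p : IsPGroup p D₀ := hmax₀.1.1.1
  have hn : Cfsg.IsNormalSubpair p M Q f (D₀.map H.subtype)
      (bq_trSet (bq_relCent H D₀ _ (bq_cent_in_stab' Q H hCH D₀ ha)).symm h₀) :=
    bq_normalSubpair_of_pairT p M Q (D₀.map H.subtype) H hCH D₀
      (bq_cent_in_stab' Q H hCH D₀ ha) hQp (hD₀p.map _) ha (fun x _ => (hG x).1) f hf
      (fun x _ => (hG x).2) F' hF' h₀ hmax₀.1
  obtain ⟨T, hT⟩ := bq_stab_exists hPr Q f hf
  obtain ⟨F'', hF''b, hF'', hdef''⟩ :=
    bq_normDefect_of_stable p M hM B P e hmax Q f hQP hf hle hG T hT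
  obtain ⟨t, htT, hle_t⟩ := bq_over_conj_stab p M hM P Q e f hPe hQP hle T hT F'' hF''b hF''
    hdef'' _ _ hn
  have h2 : (D₀.map H.subtype).map (MulAut.conj t).toMonoidHom ≤ P :=
    bq_chain_le p M _ _ hle_t
  have h3 : (D₀.map H.subtype).map (MulAut.conj t).toMonoidHom ≤ H := by
    rintro _ ⟨_, ⟨d, hd, rfl⟩, rfl⟩
    exact hHn.conj_mem _ d.2 t
  have h4 : (D₀.map H.subtype).map (MulAut.conj t).toMonoidHom ≤ Q :=
    fun y hy => hPH (Subgroup.mem_inf.mpr ⟨h2 hy, h3 hy⟩)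
  have h5 : Nat.card (D₀.map H.subtype : Subgroup G) ≤ Nat.card Q := by
    have h6 : Nat.card ((D₀.map H.subtype).map (MulAut.conj t).toMonoidHom : Subgroup G) =
        Nat.card (D₀.map H.subtype : Subgroup G) :=
      Subgroup.card_map_of_injective (MulAut.conj t).injective
    rw [← h6]
    exact Subgroup.card_le_of_le h4
  have h7 : Q = D₀.map H.subtype := Subgroup.eq_of_le_of_card_ge ha h5
  have h8 : D₀ = Q.subgroupOf H := by
    rw [h7, Subgroup.subgroupOf, Subgroup.comap_map_eq_self_of_injective H.subtype_injective]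
  rw [← h8]
  exact hdef₀

end

section

/-- the subgroups of the Brauer pairs of a block with a normal defect group lie in it -/
theorem bq_pair_le_normal_defect {H : Type*} [Group H] [Fintype H] (p : ℕ) [hp : Fact p.Prime]
    (M : Ideal Cfsg.AlgInt) (hM : Cfsg.IsPModular p M) (F' : Set (Cfsg.IrrCharacter H))
    (D : Subgroup H) [hDn : D.Normal] (hdef : Cfsg.IsDefectGroup p M F' D)
    (R : Subgroup H) (r : Set (Cfsg.IrrCharacter (Subgroup.centralizer (R : Set H))))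
    (hRr : Cfsg.IsBrauerPairOf p M F' R r) : R ≤ D := by
  obtain ⟨D₁, h₁, hmax₁, hle₁⟩ := bq_exists_max_above p M F' R r hRr
  have hdef₁ := bq_max_defect p M hM F' D₁ h₁ hmax₁
  obtain ⟨x, hx⟩ := qh_defect_conj p M hM F' hRr.2.1 D D₁ hdef hdef₁
  have h1 : D.map (MulAut.conj x).toMonoidHom = D :=
    bq_map_conj_normalizer D x (by rw [Subgroup.normalizer_eq_top]; exact Subgroup.mem_top x)
  rw [h1] at hx
  rw [← hx]
  exact bq_chain_le p M _ _ hle₁

/-- a block of `H = Q C_G(Q)` with defect group `Q` is nilpotent -/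
theorem bq_nilpotent_of_central_ext {G : Type*} [Group G] [Fintype G] (p : ℕ)
    [hp : Fact p.Prime] (M : Ideal Cfsg.AlgInt) (hM : Cfsg.IsPModular p M)
    (Q : Subgroup G) [hQn : Q.Normal] (hQp : IsPGroup p Q)
    (F' : Set (Cfsg.IrrCharacter ↥(Q ⊔ Subgroup.centralizer (Q : Set G))))
    (hF'b : Cfsg.IsPBlock M F')
    (hdef : Cfsg.IsDefectGroup p M F'
      (Q.subgroupOf (Q ⊔ Subgroup.centralizer (Q : Set G)))) :
    Cfsg.IsNilpotentBlock p M F' := by
  classical
  refine ⟨hF'b, ?_⟩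
  intro R r hRr x hxN hxst hreg
  haveI : (Q.subgroupOf (Q ⊔ Subgroup.centralizer (Q : Set G))).Normal := hQn.subgroupOf _
  have hRQ := bq_pair_le_normal_defect p M hM F' _ hdef R r hRr
  have hxH : (x : G) ∈ ((Q ⊔ Subgroup.centralizer (Q : Set G) : Subgroup G) : Set G) := x.2
  rw [Subgroup.normal_mul] at hxH
  obtain ⟨q, hq, c, hc, hqc⟩ := Set.mem_mul.mp hxH
  obtain ⟨k, hk⟩ := hQp ⟨q, hq⟩
  have hqk : q ^ (p ^ k) = 1 := by
    have := congrArg Subtype.val hk
    simpa using this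
  set u : ↥(Q ⊔ Subgroup.centralizer (Q : Set G)) := ⟨q, (le_sup_left : Q ≤ _) hq⟩ with hu
  have huk : u ^ (p ^ k) = 1 := by
    apply Subtype.ext
    rw [Subgroup.coe_pow]
    exact hqk
  apply bq_regular_centralizes p R x u hxN hreg k huk
  intro y hy
  have hyQ : ((y : ↥(Q ⊔ Subgroup.centralizer (Q : Set G))) : G) ∈ Q :=
    Subgroup.mem_subgroupOf.mp (hRQ hy)
  apply Subtype.ext
  rw [Subgroup.coe_mul, Subgroup.coe_mul, Subgroup.coe_inv, Subgroup.coe_mul, Subgroup.coe_mul,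
    Subgroup.coe_inv]
  show (x : G) * (y : G) * (x : G)⁻¹ = q * (y : G) * q⁻¹
  have h2 : (y : G) * c = c * (y : G) := Subgroup.mem_centralizer_iff.mp hc _ hyQ
  rw [← hqc]
  calc q * c * (y : G) * (q * c)⁻¹ = q * (c * (y : G)) * c⁻¹ * q⁻¹ := by group
    _ = q * ((y : G) * c) * c⁻¹ * q⁻¹ := by rw [h2]
    _ = q * (y : G) * q⁻¹ := by group

/-- **S4693** -/
theorem bq_centric_stable_main {G : Type*} [Group G] [Fintype G] (p : ℕ) [Fact p.Prime]
    (M : Ideal Cfsg.AlgInt) (hM : Cfsg.IsPModular p M) (B : Set (Cfsg.IrrCharacter G))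
    (P : Subgroup G) (e : Set (Cfsg.IrrCharacter (Subgroup.centralizer (P : Set G))))
    (hmax : Cfsg.IsMaximalBrauerPair p M B P e) (F : Cfsg.FusionSystem P)
    (hF : Cfsg.IsBlockFusionSystemOn p M B P e F) (Q : Subgroup G)
    (f : Set (Cfsg.IrrCharacter (Subgroup.centralizer (Q : Set G)))) (hQP : Q ≤ P)
    (hf : Cfsg.IsPBlock M f) (hle : Cfsg.SubpairLE p M Q f P e) (hcen : F.IsCentric Q)
    (hG : ∀ x : G, x ∈ Subgroup.normalizer (Q : Set G) ∧
      Cfsg.StabilizesBlock (Subgroup.centralizer (Q : Set G)) f x) :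
    (∀ g : G, Cfsg.MemLocalIdeal M (Cfsg.blockCoeff B g -
      Cfsg.subgroupBlockCoeff (Subgroup.centralizer (Q : Set G)) f g)) ∧
    ∃ F' : Set (Cfsg.IrrCharacter ↥(Q ⊔ Subgroup.centralizer (Q : Set G))),
      Cfsg.IsPBlock M F' ∧
      (∀ t : ↥(Q ⊔ Subgroup.centralizer (Q : Set G)), Cfsg.blockCoeff F' t =
        Cfsg.subgroupBlockCoeff (Subgroup.centralizer (Q : Set G)) f (t : G)) ∧
      Cfsg.IsNilpotentBlock p M F' := by
  classical
  have hPr := hM.2.1.isPrime
  have hPe : Cfsg.IsBrauerPair p M P e := hmax.1.1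
  have hQp : IsPGroup p Q := hPe.1.to_le hQP
  have hQf : Cfsg.IsBrauerPairOf p M B Q f := (bq_pairOf_le p M hM P Q e f hle B).mp hmax.1
  haveI hQn : Q.Normal :=
    Subgroup.normalizer_eq_top_iff.mp (eq_top_iff.mpr fun x _ => (hG x).1)
  haveI hCn : (Subgroup.centralizer (Q : Set G)).Normal := inferInstance
  refine ⟨fun g => ?_, ?_⟩
  · rw [bq_stable_coeff_eq p M hM B Q f hQf hG g, sub_self]
    exact h7_memLocalIdeal_zero hPr
  · obtain ⟨F', hF'b, hF'⟩ := bq_stab_block p M hM Q hQp f hf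
      (Q ⊔ Subgroup.centralizer (Q : Set G)) (fun x _ => (hG x).1) le_sup_left le_sup_right
      (fun x _ => (hG x).2)
    have hHn : (Q ⊔ Subgroup.centralizer (Q : Set G)).Normal := inferInstance
    have hdef := bq_centric_defect p M hM B P e hmax Q f hQP hf hle hG
      (Q ⊔ Subgroup.centralizer (Q : Set G)) hHn le_sup_left le_sup_right
      (bq_centric_inf_sup_le P F Q hcen) F' hF'b hF'
    exact ⟨F', hF'b, hF', bq_nilpotent_of_central_ext p M hM Q hQp F' hF'b hdef⟩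

end

end Cfsg.Agent.Lib.Helper25
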