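import Mathlib
import Cfsg.Agent.Lib.Helper25.BrauerPairCentric
import Cfsg.Agent.Lib.Helper24.QuotRank2
import Cfsg.Agent.Lib.Helper24.QuotDefect2
import Cfsg.Agent.S0914
import Cfsg.Agent.S0908
import Cfsg.Agent.S0912
import Cfsg.Agent.S0906
import Cfsg.Agent.S0968

/-!
# Maximal Brauer pairs via the canonical character (S4828): bq_deflate_sameBlock, bq_defect_of_relative_zero (converse to S0968), bq_fong_stable, bq_stab_fong, bq_max_stab_defect, bq_max_pair_theta, bq_over_pair_le, bq_max_pair_of_theta, bq_max_pair_iff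
-/

set_option autoImplicit false
set_option linter.style.haveILetI false
set_option linter.unusedVariables false
set_option warn.classDefReducibility false
set_option maxHeartbeats 1600000

namespace Cfsg.Agent.Lib.Helper25
open Cfsg.Agent.Lib.Helper24
open Cfsg.Agent.Lib.helper2
open Cfsg.Agent.Lib.helper7
open scoped ComplexConjugate
section

/-- characters of `G ⧸ Q` whose inflations lie in one block of `G` lie in one block of `G ⧸ Q`,
for a normal `p`-subgroup `Q` with `G = Q C_G(Q)` -/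
theorem bq_deflate_sameBlock {G : Type*} [Group G] [Fintype G] (p : ℕ) [hp : Fact p.Prime]
    (M : Ideal Cfsg.AlgInt) (hM : Cfsg.IsPModular p M)
    (Q : Subgroup G) [Q.Normal]
    (hQ : IsPGroup p Q) (hsup : Q ⊔ Subgroup.centralizer (Q : Set G) = ⊤)
    (ψ₁ ψ₂ : Cfsg.IrrCharacter (G ⧸ Q))
    (h : Cfsg.SameBlock M (qh_infl Q ψ₁ : G → ℂ) (qh_infl Q ψ₂ : G → ℂ)) :
    ψ₂ ∈ Cfsg.blockOf M (ψ₁ : G ⧸ Q → ℂ) := by
  classical
  haveI : Fintype (G ⧸ Q) := Fintype.ofFinite _
  apply qr_sameBlock_of_pregular p M hM ψ₁ ψ₂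
  intro y hy
  obtain ⟨x, hx, rfl⟩ := qr_lift_reg p Q hQ y hy
  have h2 := h x
  have h3 := qr_centralChar_infl p Q hQ hsup (ψ₁ : G ⧸ Q → ℂ) x hx
  have h4 := qr_centralChar_infl p Q hQ hsup (ψ₂ : G ⧸ Q → ℂ) x hx
  have e1 : (qh_infl Q ψ₁ : G → ℂ) = fun g : G => (ψ₁ : G ⧸ Q → ℂ) (QuotientGroup.mk g) := rfl
  have e2 : (qh_infl Q ψ₂ : G → ℂ) = fun g : G => (ψ₂ : G ⧸ Q → ℂ) (QuotientGroup.mk g) := rfl
  rw [e1, e2, h3, h4] at h2
  exact h2

end

section

/-- **a converse to the structure of blocks with a centrally-acting defect group**: if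
`G = Q C_G(Q)` for a normal `p`-subgroup `Q` and `θ` is trivial on `Q` of defect zero modulo `Q`,
then `Q` is a defect group of the block of `θ` -/
theorem bq_defect_of_relative_zero {G : Type*} [Group G] [Fintype G] (p : ℕ) [hp : Fact p.Prime]
    (M : Ideal Cfsg.AlgInt) (hM : Cfsg.IsPModular p M)
    (Q : Subgroup G) [hQn : Q.Normal]
    (hQ : IsPGroup p Q) (hsup : Q ⊔ Subgroup.centralizer (Q : Set G) = ⊤)
    (θ : Cfsg.IrrCharacter G) (hker : ∀ x ∈ Q, (θ : G → ℂ) x = (θ : G → ℂ) 1)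
    (hdeg : (Cfsg.charDegree (θ : G → ℂ)).factorization p = Q.index.factorization p) :
    Cfsg.IsDefectGroup p M (Cfsg.blockOf M (θ : G → ℂ)) Q := by
  classical
  haveI : Fintype (G ⧸ Q) := Fintype.ofFinite _
  haveI : Fintype (Cfsg.IrrCharacter (G ⧸ Q)) := Fintype.ofFinite _
  have hPr := hM.2.1.isPrime
  obtain ⟨ψ, hψ⟩ := (qh_mem_range_iff Q θ).mpr hker
  have hdψ : Cfsg.charDegree (ψ : G ⧸ Q → ℂ) = Cfsg.charDegree (θ : G → ℂ) := by
    rw [← hψ]
    rfl
  obtain ⟨hd1, hd2, hd3⟩ := h7_charDegree_props ψ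
  have hidx : Nat.card (G ⧸ Q) = Q.index := (Subgroup.index_eq_card Q).symm
  have hnd : ¬ p ∣ Nat.card (G ⧸ Q) / Cfsg.charDegree (ψ : G ⧸ Q → ℂ) := by
    intro hdvd
    have h1 : (Nat.card (G ⧸ Q) / Cfsg.charDegree (ψ : G ⧸ Q → ℂ)).factorization p = 0 := by
      rw [Nat.factorization_div hd1, Finsupp.tsub_apply, hdψ, hdeg, hidx, Nat.sub_self]
    have h2 : 0 < Nat.card (G ⧸ Q) / Cfsg.charDegree (ψ : G ⧸ Q → ℂ) :=
      Nat.div_pos (Nat.le_of_dvd Nat.card_pos hd1) hd2
    have h3 := hp.out.factorization_pos_of_dvd h2.ne' hdvd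
    omega
  have hblk : Cfsg.blockOf M (ψ : G ⧸ Q → ℂ) = {ψ} :=
    (Cfsg.Agent.S0914.result p M hM ψ).mp hnd
  have hB : Cfsg.IsPBlock M (Cfsg.blockOf M (θ : G → ℂ)) := ⟨θ, rfl⟩
  obtain ⟨Bbar, hBb, hinfl, hdefs⟩ := qh_main p M hM Q hQ (Cfsg.blockOf M (θ : G → ℂ)) hB
  have hBb' := hBb
  obtain ⟨χ₀, hχ₀⟩ := hBb
  have hχ₀mem : χ₀ ∈ Bbar := by
    rw [hχ₀]
    exact h7_sameBlock_refl hPr _
  have h1 : qh_infl Q χ₀ ∈ Cfsg.blockOf M (θ : G → ℂ) := hinfl χ₀ hχ₀mem (qh_infl Q χ₀) rfl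
  have h2 : Cfsg.SameBlock M (qh_infl Q ψ : G → ℂ) (qh_infl Q χ₀ : G → ℂ) := by
    rw [hψ]
    exact h1
  have h3 := bq_deflate_sameBlock p M hM Q hQ hsup ψ χ₀ h2
  rw [hblk] at h3
  have hχψ : χ₀ = ψ := h3
  obtain ⟨x, hx⟩ := Cfsg.Agent.S0906.result p M hM _ hB
  obtain ⟨S⟩ : Nonempty (Sylow p (Subgroup.centralizer ({x} : Set G))) := inferInstance
  set P₀ := (S : Subgroup (Subgroup.centralizer ({x} : Set G))).map
    (Subgroup.centralizer ({x} : Set G)).subtype with hP₀def
  have hP₀ : Cfsg.IsDefectGroup p M (Cfsg.blockOf M (θ : G → ℂ)) P₀ := ⟨x, hx, S, rfl⟩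
  have hQP₀ : Q ≤ P₀ :=
    (le_sSup (show Q ∈ {N : Subgroup G | N.Normal ∧ IsPGroup p N} from ⟨hQn, hQ⟩)).trans
      (Cfsg.Agent.S0912.result p M hM _ hB P₀ hP₀)
  have h4 : Cfsg.IsDefectGroup p M Bbar (P₀.map (QuotientGroup.mk' Q)) :=
    (hdefs _).mpr ⟨P₀, hP₀, rfl⟩
  have h5 := Cfsg.Agent.S0908.result p M hM Bbar hBb' _ h4
  have h6 : Cfsg.blockDefect p Bbar = 0 := by
    rw [hχ₀, hχψ, hblk]
    unfold Cfsg.blockDefect
    rw [Set.image_singleton, csInf_singleton, hdψ, hdeg, hidx, Nat.sub_self]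
  rw [h6, pow_zero] at h5
  have h7 : P₀.map (QuotientGroup.mk' Q) = ⊥ := Subgroup.card_eq_one.mp h5
  have h8 : P₀ ≤ Q := by
    intro y hy
    have hmem : (QuotientGroup.mk' Q y) ∈ P₀.map (QuotientGroup.mk' Q) := ⟨y, hy, rfl⟩
    rw [h7, Subgroup.mem_bot] at hmem
    exact (QuotientGroup.eq_one_iff y).mp hmem
  rw [le_antisymm hQP₀ h8]
  exact hP₀

end

section

/-- **Fong's theorem for a stable block whose idempotent is a block idempotent of `G`** -/
theorem bq_fong_stable {G : Type*} [Group G] [Fintype G] (p : ℕ) [hp : Fact p.Prime]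
    (M : Ideal Cfsg.AlgInt) (hM : Cfsg.IsPModular p M)
    (N : Subgroup G) [hNn : N.Normal] (c : Set (Cfsg.IrrCharacter N)) (hc : Cfsg.IsPBlock M c)
    (hst : ∀ x : G, Cfsg.StabilizesBlock N c x)
    (B : Set (Cfsg.IrrCharacter G)) (hB : Cfsg.IsPBlock M B)
    (hBc : ∀ g : G, Cfsg.blockCoeff B g = Cfsg.subgroupBlockCoeff N c g)
    (P : Subgroup G) (hP : Cfsg.IsDefectGroup p M B P) :
    ¬ p ∣ (P ⊔ N).index ∧ Cfsg.IsDefectGroup p M c ((P ⊓ N).subgroupOf N) := by
  classical
  haveI : Fintype N := Fintype.ofFinite _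
  haveI : Fintype (Cfsg.IrrCharacter G) := Fintype.ofFinite _
  haveI : Fintype (Cfsg.IrrCharacter N) := Fintype.ofFinite _
  have hPr := hM.2.1.isPrime
  have hinv := fp_inv_of_stab N c hst
  have hcoef : ∀ g : G, Cfsg.blockCoeff (h7_over N c) g = Cfsg.subgroupBlockCoeff N c g := by
    intro g
    rw [fp_subgroupBlockCoeff_eq, h7_cover_coef N c (fc_gstable N c hinv)]
  have hBeq : B = h7_over N c := fp_eq_of_blockCoeff_eq B _ (fun g => by rw [hBc, hcoef])
  have hB' := hB
  obtain ⟨χ₀, hχ₀⟩ := hB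
  have hχ₀B : χ₀ ∈ B := by
    rw [hχ₀]
    exact h7_sameBlock_refl hPr _
  have hmem : χ₀ ∈ h7_over N c := by
    rw [← hBeq]
    exact hχ₀B
  have hcov : ∃ χ ∈ B, ∃ θ ∈ c,
      Cfsg.classInner (fun n : N => (χ : G → ℂ) n) (θ : N → ℂ) ≠ 0 := ⟨χ₀, hχ₀B, hmem⟩
  have hmax : ∀ B' : Set (Cfsg.IrrCharacter G), Cfsg.IsPBlock M B' →
      (∃ χ ∈ B', ∃ θ ∈ c, Cfsg.classInner (fun n : N => (χ : G → ℂ) n) (θ : N → ℂ) ≠ 0) →
      Cfsg.blockDefect p B' ≤ Cfsg.blockDefect p B := by
    intro B' hB'' hcov'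
    have hsub := fc_block_sub_over hM N c hc hinv B' hB'' hcov'
    obtain ⟨χ', hχ'⟩ := hB''
    have h1 : χ' ∈ B := by
      rw [hBeq]
      apply hsub
      rw [hχ']
      exact h7_sameBlock_refl hPr _
    have h2 : B' = B := by
      rw [hχ', hχ₀]
      rw [hχ₀] at h1
      exact (h7_blockOf_eq_of_mem hPr χ₀ χ' h1).symm
    rw [h2]
  obtain ⟨h1, h2, -⟩ := fc_fong hM N c hc hinv B hB' hcov hmax P hP
  exact ⟨h1, h2⟩

end

section

/-- **Fong's theorem for the stabilizer block of a Brauer pair**: for a subgroup `T` of the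
stabilizer of `(Q, f)` containing `C_G(Q)` and the block `F` of `T` with the idempotent of `f`,
each defect group `D` of `F` has `D C_G(Q)` of index prime to `p` in `T`, and `D ∩ C_G(Q)` is a
defect group of `f` -/
theorem bq_stab_fong {G : Type*} [Group G] [Fintype G] (p : ℕ) [hp : Fact p.Prime]
    (M : Ideal Cfsg.AlgInt) (hM : Cfsg.IsPModular p M) (Q : Subgroup G)
    (f : Set (Cfsg.IrrCharacter (Subgroup.centralizer (Q : Set G)))) (hf : Cfsg.IsPBlock M f)
    (T : Subgroup G) (hTN : T ≤ Subgroup.normalizer (Q : Set G))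
    (hCT : Subgroup.centralizer (Q : Set G) ≤ T)
    (hTst : ∀ x ∈ T, Cfsg.StabilizesBlock (Subgroup.centralizer (Q : Set G)) f x)
    (F : Set (Cfsg.IrrCharacter T)) (hFb : Cfsg.IsPBlock M F)
    (hF : ∀ t : T, Cfsg.blockCoeff F t =
        Cfsg.subgroupBlockCoeff (Subgroup.centralizer (Q : Set G)) f (t : G))
    (D : Subgroup T) (hdef : Cfsg.IsDefectGroup p M F D) :
    ¬ p ∣ (D ⊔ (Subgroup.centralizer (Q : Set G)).subgroupOf T).index ∧
    Cfsg.IsDefectGroup p M f
      ((D.map T.subtype ⊓ Subgroup.centralizer (Q : Set G)).subgroupOf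
        (Subgroup.centralizer (Q : Set G))) := by
  classical
  haveI : Fintype T := Fintype.ofFinite _
  haveI : Fintype (Subgroup.centralizer (Q : Set G)) := Fintype.ofFinite _
  have hPr := hM.2.1.isPrime
  set N : Subgroup T := (Subgroup.centralizer (Q : Set G)).subgroupOf T with hNdef
  haveI hNn : N.Normal := by
    rw [hNdef, Subgroup.normal_subgroupOf_iff_le_normalizer hCT]
    exact fun x hx => bm_normalizer_centralizer Q x (hTN hx)
  haveI : Fintype N := Fintype.ofFinite _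
  set σ : N ≃* Subgroup.centralizer (Q : Set G) := Subgroup.subgroupOfEquivOfLe hCT with hσ
  have hσc : ∀ k : N, ((σ k : Subgroup.centralizer (Q : Set G)) : G) = ((k : T) : G) :=
    fun k => rfl
  have hc : Cfsg.IsPBlock M (bq_trSet σ f) := bq_trSet_isBlock M σ f hf
  have hback : bq_trSet σ.symm (bq_trSet σ f) = f := by
    have := bq_trSet_symm σ.symm f
    rwa [MulEquiv.symm_symm] at this
  have hst : ∀ x : T, Cfsg.StabilizesBlock N (bq_trSet σ f) x := by
    intro x
    rw [bq_rel_stabilizes T N _ σ hσc, hback]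
    exact hTst x x.2
  have hBc : ∀ g : T, Cfsg.blockCoeff F g = Cfsg.subgroupBlockCoeff N (bq_trSet σ f) g := by
    intro g
    rw [hF]
    by_cases hg : g ∈ N
    · have hgC : (g : G) ∈ Subgroup.centralizer (Q : Set G) := Subgroup.mem_subgroupOf.mp hg
      rw [bq_sbc_mem N _ g hg, bq_blockCoeff_trSet, bq_sbc_mem _ f _ hgC]
      rfl
    · have hgC : (g : G) ∉ Subgroup.centralizer (Q : Set G) :=
        fun h => hg (Subgroup.mem_subgroupOf.mpr h)
      rw [bq_sbc_not_mem N _ g hg, bq_sbc_not_mem _ f _ hgC]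
  obtain ⟨h1, h2⟩ := bq_fong_stable p M hM N (bq_trSet σ f) hc hst F hFb hBc D hdef
  refine ⟨h1, ?_⟩
  have h3 := bq_defect_trSet p M σ.symm (bq_trSet σ f) _ h2
  rw [hback] at h3
  have heq : ((D ⊓ N).subgroupOf N).comap σ.symm.toMonoidHom =
      (D.map T.subtype ⊓ Subgroup.centralizer (Q : Set G)).subgroupOf
        (Subgroup.centralizer (Q : Set G)) := by
    ext x
    rw [Subgroup.mem_comap, Subgroup.mem_subgroupOf, Subgroup.mem_subgroupOf, Subgroup.mem_inf,
      Subgroup.mem_inf]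
    have hx1 : (((σ.symm x : N) : T) : G) = (x : G) := by
      have := hσc (σ.symm x)
      rw [σ.apply_symm_apply] at this
      exact this.symm
    constructor
    · rintro ⟨hd, _⟩
      exact ⟨⟨((σ.symm x : N) : T), hd, hx1⟩, x.2⟩
    · rintro ⟨⟨d, hd, hdx⟩, _⟩
      have hd' : d = ((σ.symm x : N) : T) := by
        apply Subtype.ext
        rw [hx1]
        exact hdx
      exact ⟨hd' ▸ hd, (σ.symm x).2⟩
  rw [heq] at h3
  exact h3

end

section

/-- the center of `Q` as a subgroup of `C_G(Q)` is central -/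
theorem bq_center_sub_central {G : Type*} [Group G] (Q : Subgroup G) :
    ((Q ⊓ Subgroup.centralizer (Q : Set G)).subgroupOf (Subgroup.centralizer (Q : Set G))) ≤
      Subgroup.center (Subgroup.centralizer (Q : Set G)) := by
  intro z hz
  rw [Subgroup.mem_center_iff]
  intro c
  apply Subtype.ext
  rw [Subgroup.coe_mul, Subgroup.coe_mul]
  have hzQ : (z : G) ∈ Q := (Subgroup.mem_inf.mp (Subgroup.mem_subgroupOf.mp hz)).1
  exact (Subgroup.mem_centralizer_iff.mp c.2 _ hzQ).symm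

/-- the stabilizer block of a maximal pair `(Q, e)` has defect group `Q` -/
theorem bq_max_stab_defect {G : Type*} [Group G] [Fintype G] (p : ℕ) [hp : Fact p.Prime]
    (M : Ideal Cfsg.AlgInt) (hM : Cfsg.IsPModular p M) (B : Set (Cfsg.IrrCharacter G))
    (Q : Subgroup G) (e : Set (Cfsg.IrrCharacter (Subgroup.centralizer (Q : Set G))))
    (hmax : Cfsg.IsMaximalBrauerPair p M B Q e) :
    bq_normDefectProp p M Q ⟨Q, e⟩ := by
  have hPr := hM.2.1.isPrime
  have he : Cfsg.IsPBlock M e := hmax.1.1.2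
  obtain ⟨T, hT⟩ := bq_stab_exists hPr Q e he
  obtain ⟨x, hlex, hx⟩ := bq_norm_defect_conj p M hM B Q Q e e hmax le_rfl he
    Relation.ReflTransGen.refl T hT
  have hidx : bq_conjIdx x ⟨Q, e⟩ = (⟨Q, e⟩ : Cfsg.BrauerPairIdx G) := by
    apply bq_le_eq_of_card p M hM _ _ hlex
    show Nat.card Q ≤ Nat.card (Q.map (MulAut.conj x).toMonoidHom)
    rw [Subgroup.card_map_of_injective (MulAut.conj x).injective]
  have h1 : bq_normDefectProp p M Q (bq_conjIdx x ⟨Q, e⟩) := hx
  rw [hidx] at h1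
  exact h1

end

section

/-- a `p`-element lies in every normal subgroup of index prime to `p` -/
theorem bq_pelement_mem_of_index {T : Type*} [Group T] [Finite T] (p : ℕ) [hp : Fact p.Prime]
    (L : Subgroup T) [hL : L.Normal] (hidx : ¬ p ∣ L.index) (t : T) (k : ℕ)
    (hk : orderOf t = p ^ k) : t ∈ L := by
  rw [← QuotientGroup.eq_one_iff]
  have ho1 : orderOf (QuotientGroup.mk t : T ⧸ L) ∣ p ^ k := by
    rw [← hk]
    apply orderOf_dvd_of_pow_eq_one
    rw [← QuotientGroup.mk_pow, pow_orderOf_eq_one, QuotientGroup.mk_one]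
  have ho2 : orderOf (QuotientGroup.mk t : T ⧸ L) ∣ L.index := by
    rw [Subgroup.index_eq_card]
    exact orderOf_dvd_natCard _
  have hcop : Nat.Coprime (p ^ k) L.index :=
    Nat.Coprime.pow_left k ((Nat.Prime.coprime_iff_not_dvd hp.out).mpr hidx)
  exact orderOf_eq_one_iff.mp (Nat.eq_one_of_dvd_coprimes hcop ho1 ho2)

/-- **the canonical character of a maximal Brauer pair** -/
theorem bq_max_pair_theta {G : Type*} [Group G] [Fintype G] (p : ℕ) [hp : Fact p.Prime]
    (M : Ideal Cfsg.AlgInt) (hM : Cfsg.IsPModular p M) (B : Set (Cfsg.IrrCharacter G))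
    (Q : Subgroup G) (e : Set (Cfsg.IrrCharacter (Subgroup.centralizer (Q : Set G))))
    (hmax : Cfsg.IsMaximalBrauerPair p M B Q e) :
    ∃ θ ∈ e, (∀ z : Subgroup.centralizer (Q : Set G), (z : G) ∈ Q →
        (θ : Subgroup.centralizer (Q : Set G) → ℂ) z =
          (θ : Subgroup.centralizer (Q : Set G) → ℂ) 1) ∧
      (Cfsg.charDegree (θ : Subgroup.centralizer (Q : Set G) → ℂ)).factorization p +
        (Nat.card ↥(Q ⊓ Subgroup.centralizer (Q : Set G))).factorization p =
          (Nat.card (Subgroup.centralizer (Q : Set G))).factorization p ∧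
      (∀ g : G, g ∈ Subgroup.normalizer (Q : Set G) →
        Cfsg.StabilizesBlock (Subgroup.centralizer (Q : Set G)) e g →
        (∃ k : ℕ, orderOf g = p ^ k) → g ∈ Q ⊔ Subgroup.centralizer (Q : Set G)) := by
  classical
  haveI : Fintype (Subgroup.centralizer (Q : Set G)) := Fintype.ofFinite _
  have hPr := hM.2.1.isPrime
  have hQp : IsPGroup p Q := hmax.1.1.1
  have he : Cfsg.IsPBlock M e := hmax.1.1.2
  obtain ⟨T, hT⟩ := bq_stab_exists hPr Q e he
  obtain ⟨hTN, hQT, hCT, hTst⟩ := bq_stab_basic Q e T hT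
  obtain ⟨F', hF'b, hF', hdef⟩ := bq_max_stab_defect p M hM B Q e hmax T hT
  have hQN : Q ⊓ Subgroup.normalizer (Q : Set G) = Q := inf_of_le_left Subgroup.le_normalizer
  have hdef' : Cfsg.IsDefectGroup p M F' (Q.subgroupOf T) := by
    have := hdef
    simp only [hQN] at this
    exact this
  obtain ⟨h1, h2⟩ := bq_stab_fong p M hM Q e he T hTN hCT hTst F' hF'b hF' (Q.subgroupOf T) hdef'
  have hmapQ : (Q.subgroupOf T).map T.subtype = Q := Subgroup.map_subgroupOf_eq_of_le hQT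
  rw [hmapQ] at h2
  set Z : Subgroup (Subgroup.centralizer (Q : Set G)) :=
    (Q ⊓ Subgroup.centralizer (Q : Set G)).subgroupOf (Subgroup.centralizer (Q : Set G)) with hZ
  have hZp : IsPGroup p Z :=
    (hQp.to_le inf_le_left).comap_of_injective _ (Subgroup.subtype_injective _)
  have hZc : Z ≤ Subgroup.center (Subgroup.centralizer (Q : Set G)) := bq_center_sub_central Q
  have hsup : Z ⊔ Subgroup.centralizer (Z : Set (Subgroup.centralizer (Q : Set G))) = ⊤ := by
    rw [eq_top_iff]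
    intro c _
    apply Subgroup.mem_sup_right
    rw [Subgroup.mem_centralizer_iff]
    intro z hz
    exact (Subgroup.mem_center_iff.mp (hZc hz) c).symm
  obtain ⟨⟨θ, ⟨hθe, hθker⟩, _⟩, hdegs, _⟩ :=
    Cfsg.Agent.S0968.result p M hM Z hZp hsup e he h2
  refine ⟨θ, hθe, ?_, ?_, ?_⟩
  · intro z hz
    exact hθker z (Subgroup.mem_subgroupOf.mpr (Subgroup.mem_inf.mpr ⟨hz, z.2⟩))
  · have hd := hdegs θ hθe hθker
    have hcard : Z.index * Nat.card Z = Nat.card (Subgroup.centralizer (Q : Set G)) :=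
      Subgroup.index_mul_card Z
    have hZcard : Nat.card Z = Nat.card ↥(Q ⊓ Subgroup.centralizer (Q : Set G)) :=
      Nat.card_congr (Subgroup.subgroupOfEquivOfLe inf_le_right).toEquiv
    rw [hd, ← hZcard, ← hcard, Nat.factorization_mul Z.index_ne_zero_of_finite
      Nat.card_pos.ne', Finsupp.add_apply]
  · rintro g hgN hgst ⟨k, hk⟩
    have hgT : g ∈ T := (hT g).mpr ⟨hgN, hgst⟩
    haveI hn1 : (Q.subgroupOf T).Normal :=
      (Subgroup.normal_subgroupOf_iff_le_normalizer hQT).mpr hTN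
    haveI hn2 : ((Subgroup.centralizer (Q : Set G)).subgroupOf T).Normal := by
      rw [Subgroup.normal_subgroupOf_iff_le_normalizer hCT]
      exact fun x hx => bm_normalizer_centralizer Q x (hTN hx)
    have hgL : (⟨g, hgT⟩ : T) ∈
        Q.subgroupOf T ⊔ (Subgroup.centralizer (Q : Set G)).subgroupOf T := by
      apply bq_pelement_mem_of_index p _ h1 _ k
      rw [Subgroup.orderOf_mk]
      exact hk
    have hmem : g ∈ (Q.subgroupOf T ⊔ (Subgroup.centralizer (Q : Set G)).subgroupOf T).map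
        T.subtype := ⟨⟨g, hgT⟩, hgL, rfl⟩
    rw [Subgroup.map_sup, Subgroup.map_subgroupOf_eq_of_le hQT,
      Subgroup.map_subgroupOf_eq_of_le hCT] at hmem
    exact hmem

end

section

/-- a subgroup of the center is normal -/
theorem bq_normal_of_le_center {H : Type*} [Group H] (Z : Subgroup H)
    (hZ : Z ≤ Subgroup.center H) : Z.Normal := by
  refine ⟨fun n hn g => ?_⟩
  have h1 : g * n = n * g := Subgroup.mem_center_iff.mp (hZ hn) g
  have h2 : g * n * g⁻¹ = n := by rw [h1]; group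
  rw [h2]
  exact hn

/-- if `Z(Q)` is a defect group of `e` and the `p`-elements of the stabilizer lie in `Q C_G(Q)`,
no pair lies properly and normally above `(Q, e)` -/
theorem bq_over_pair_le {G : Type*} [Group G] [Fintype G] (p : ℕ) [hp : Fact p.Prime]
    (M : Ideal Cfsg.AlgInt) (hM : Cfsg.IsPModular p M)
    (Q : Subgroup G) (e : Set (Cfsg.IrrCharacter (Subgroup.centralizer (Q : Set G))))
    (he : Cfsg.IsBrauerPair p M Q e)
    (hdefZ : Cfsg.IsDefectGroup p M e
      ((Q ⊓ Subgroup.centralizer (Q : Set G)).subgroupOf (Subgroup.centralizer (Q : Set G))))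
    (h3 : ∀ g : G, g ∈ Subgroup.normalizer (Q : Set G) →
        Cfsg.StabilizesBlock (Subgroup.centralizer (Q : Set G)) e g →
        (∃ k : ℕ, orderOf g = p ^ k) → g ∈ Q ⊔ Subgroup.centralizer (Q : Set G))
    (R : Subgroup G) (eR : Set (Cfsg.IrrCharacter (Subgroup.centralizer (R : Set G))))
    (hn : Cfsg.IsNormalSubpair p M Q e R eR) : R ≤ Q := by
  classical
  haveI : Fintype (Subgroup.centralizer (Q : Set G)) := Fintype.ofFinite _
  have hn' := hn
  obtain ⟨_, ⟨hRp, heR⟩, hQR, hRN, hRst, hom⟩ := hn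
  have hRQC : ∀ r ∈ R, ∃ q ∈ Q, ∃ c ∈ Subgroup.centralizer (Q : Set G), q * c = r := by
    intro r hr
    obtain ⟨k, hk⟩ := (IsPGroup.iff_orderOf.mp hRp) ⟨r, hr⟩
    rw [Subgroup.orderOf_mk] at hk
    have h' : r ∈ ((Q ⊔ Subgroup.centralizer (Q : Set G) : Subgroup G) : Set G) :=
      h3 r (hRN hr) (hRst r hr) ⟨k, hk⟩
    rw [Subgroup.coe_mul_of_right_le_normalizer_left Q _
      (Subgroup.centralizer_le_normalizer _)] at h'
    obtain ⟨q, hq, c, hc, hqc⟩ := Set.mem_mul.mp h'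
    exact ⟨q, hq, c, hc, hqc⟩
  have hcR : ∀ q ∈ Q, ∀ c : G, q * c ∈ R → c ∈ R := by
    intro q hq c hqc
    have : c = q⁻¹ * (q * c) := by group
    rw [this]
    exact R.mul_mem (R.inv_mem (hQR hq)) hqc
  set S : Subgroup (Subgroup.centralizer (Q : Set G)) :=
    (R ⊓ Subgroup.centralizer (Q : Set G)).subgroupOf (Subgroup.centralizer (Q : Set G)) with hS
  have hSp : IsPGroup p S :=
    (hRp.to_le inf_le_left).comap_of_injective _ (Subgroup.subtype_injective _)
  have hR' : ∀ g : G, g ∈ Subgroup.centralizer (R : Set G) ↔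
      ∃ h : g ∈ Subgroup.centralizer (Q : Set G),
        (⟨g, h⟩ : Subgroup.centralizer (Q : Set G)) ∈
          Subgroup.centralizer (S : Set (Subgroup.centralizer (Q : Set G))) := by
    intro g
    constructor
    · intro hg
      have hgC : g ∈ Subgroup.centralizer (Q : Set G) :=
        Subgroup.centralizer_le (show (Q : Set G) ⊆ R from hQR) hg
      refine ⟨hgC, ?_⟩
      rw [Subgroup.mem_centralizer_iff]
      intro s hs
      apply Subtype.ext
      have hsR : (s : G) ∈ R := (Subgroup.mem_inf.mp (Subgroup.mem_subgroupOf.mp hs)).1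
      exact Subgroup.mem_centralizer_iff.mp hg _ hsR
    · rintro ⟨hgC, hgS⟩
      rw [Subgroup.mem_centralizer_iff]
      intro r hr
      obtain ⟨q, hq, c, hc, rfl⟩ := hRQC r hr
      have hcR' : c ∈ R := hcR q hq c hr
      have h1 : q * g = g * q := Subgroup.mem_centralizer_iff.mp hgC q hq
      have h2 : c * g = g * c := by
        have := Subgroup.mem_centralizer_iff.mp hgS ⟨c, hc⟩
          (Subgroup.mem_subgroupOf.mpr (Subgroup.mem_inf.mpr ⟨hcR', hc⟩))
        exact congrArg Subtype.val this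
      calc q * c * g = q * (c * g) := by group
        _ = q * (g * c) := by rw [h2]
        _ = (q * g) * c := by group
        _ = g * q * c := by rw [h1]
        _ = g * (q * c) := by group
  have hF : ∀ t : Subgroup.centralizer (Q : Set G), Cfsg.blockCoeff e t =
      Cfsg.subgroupBlockCoeff (Subgroup.centralizer (Q : Set G)) e (t : G) :=
    fun t => (bq_sbc_mem _ e (t : G) t.2).symm
  have hpair := bq_pairT_of_normalSubpair p M Q R (Subgroup.centralizer (Q : Set G)) le_rfl S hR'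
    hSp e e he.2 hF eR hn'
  haveI : ((Q ⊓ Subgroup.centralizer (Q : Set G)).subgroupOf
      (Subgroup.centralizer (Q : Set G))).Normal :=
    bq_normal_of_le_center _ (bq_center_sub_central Q)
  have hSZ := bq_pair_le_normal_defect p M hM e _ hdefZ S _ hpair
  intro r hr
  obtain ⟨q, hq, c, hc, rfl⟩ := hRQC r hr
  have hcR' : c ∈ R := hcR q hq c hr
  have hcS : (⟨c, hc⟩ : Subgroup.centralizer (Q : Set G)) ∈ S :=
    Subgroup.mem_subgroupOf.mpr (Subgroup.mem_inf.mpr ⟨hcR', hc⟩)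
  have hcQ : c ∈ Q := (Subgroup.mem_inf.mp (Subgroup.mem_subgroupOf.mp (hSZ hcS))).1
  exact Q.mul_mem hq hcQ

end

section

/-- **a pair with a canonical character and `p'`-index stabilizer is maximal** -/
theorem bq_max_pair_of_theta {G : Type*} [Group G] [Fintype G] (p : ℕ) [hp : Fact p.Prime]
    (M : Ideal Cfsg.AlgInt) (hM : Cfsg.IsPModular p M)
    (Q : Subgroup G) (e : Set (Cfsg.IrrCharacter (Subgroup.centralizer (Q : Set G))))
    (he : Cfsg.IsBrauerPair p M Q e)
    (θ : Cfsg.IrrCharacter (Subgroup.centralizer (Q : Set G))) (hθ : θ ∈ e)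
    (hker : ∀ z : Subgroup.centralizer (Q : Set G), (z : G) ∈ Q →
        (θ : Subgroup.centralizer (Q : Set G) → ℂ) z =
          (θ : Subgroup.centralizer (Q : Set G) → ℂ) 1)
    (hdeg : (Cfsg.charDegree (θ : Subgroup.centralizer (Q : Set G) → ℂ)).factorization p +
        (Nat.card ↥(Q ⊓ Subgroup.centralizer (Q : Set G))).factorization p =
          (Nat.card (Subgroup.centralizer (Q : Set G))).factorization p)
    (h3 : ∀ g : G, g ∈ Subgroup.normalizer (Q : Set G) →
        Cfsg.StabilizesBlock (Subgroup.centralizer (Q : Set G)) e g →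
        (∃ k : ℕ, orderOf g = p ^ k) → g ∈ Q ⊔ Subgroup.centralizer (Q : Set G)) :
    ∃ B : Set (Cfsg.IrrCharacter G), Cfsg.IsMaximalBrauerPair p M B Q e := by
  classical
  haveI : Fintype (Subgroup.centralizer (Q : Set G)) := Fintype.ofFinite _
  haveI : Fintype (Cfsg.IrrCharacter (Subgroup.centralizer (Q : Set G))) := Fintype.ofFinite _
  have hPr := hM.2.1.isPrime
  have hQp : IsPGroup p Q := he.1
  set Z : Subgroup (Subgroup.centralizer (Q : Set G)) :=
    (Q ⊓ Subgroup.centralizer (Q : Set G)).subgroupOf (Subgroup.centralizer (Q : Set G)) with hZ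
  have hZp : IsPGroup p Z :=
    (hQp.to_le inf_le_left).comap_of_injective _ (Subgroup.subtype_injective _)
  have hZc : Z ≤ Subgroup.center (Subgroup.centralizer (Q : Set G)) := bq_center_sub_central Q
  haveI hZn : Z.Normal := bq_normal_of_le_center Z hZc
  have hsup : Z ⊔ Subgroup.centralizer (Z : Set (Subgroup.centralizer (Q : Set G))) = ⊤ := by
    rw [eq_top_iff]
    intro c _
    apply Subgroup.mem_sup_right
    rw [Subgroup.mem_centralizer_iff]
    intro z hz
    exact (Subgroup.mem_center_iff.mp (hZc hz) c).symm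
  have hcard : Z.index * Nat.card Z = Nat.card (Subgroup.centralizer (Q : Set G)) :=
    Subgroup.index_mul_card Z
  have hZcard : Nat.card Z = Nat.card ↥(Q ⊓ Subgroup.centralizer (Q : Set G)) :=
    Nat.card_congr (Subgroup.subgroupOfEquivOfLe inf_le_right).toEquiv
  have hdegZ : (Cfsg.charDegree (θ : Subgroup.centralizer (Q : Set G) → ℂ)).factorization p =
      Z.index.factorization p := by
    have h1 : (Nat.card (Subgroup.centralizer (Q : Set G))).factorization p =
        Z.index.factorization p +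
          (Nat.card ↥(Q ⊓ Subgroup.centralizer (Q : Set G))).factorization p := by
      rw [← hcard, Nat.factorization_mul Z.index_ne_zero_of_finite Nat.card_pos.ne',
        Finsupp.add_apply, hZcard]
    omega
  have hdefθ := bq_defect_of_relative_zero p M hM Z hZp hsup θ
    (fun x hx => hker x (Subgroup.mem_inf.mp (Subgroup.mem_subgroupOf.mp hx)).1) hdegZ
  have heθ : e = Cfsg.blockOf M (θ : Subgroup.centralizer (Q : Set G) → ℂ) := by
    obtain ⟨χ, hχ⟩ := he.2
    rw [hχ] at hθ ⊢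
    exact h7_blockOf_eq_of_mem hPr χ θ hθ
  have hdefZ : Cfsg.IsDefectGroup p M e Z := by
    rw [heθ]
    exact hdefθ
  obtain ⟨B, hB, _⟩ := br_unique_block p M hM Q e he
  obtain ⟨P, eP, hmaxP, hleP⟩ := bq_exists_max_above p M B Q e hB
  have key : ∀ b : Cfsg.BrauerPairIdx G,
      Relation.ReflTransGen (Cfsg.NormalSubpairRel p M) ⟨Q, e⟩ b → b = ⟨Q, e⟩ := by
    intro b hb
    induction hb with
    | refl => rfl
    | tail hab hbc ih =>
      rename_i b' c
      rw [ih] at hbc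
      have hbc' : Cfsg.IsNormalSubpair p M Q e c.1 c.2 := hbc
      have hle := bq_over_pair_le p M hM Q e he hdefZ h3 c.1 c.2 hbc'
      exact (bq_le_eq_of_card p M hM ⟨Q, e⟩ c (Relation.ReflTransGen.single hbc)
        (Subgroup.card_le_of_le hle)).symm
  have hPQ : (⟨P, eP⟩ : Cfsg.BrauerPairIdx G) = ⟨Q, e⟩ := key _ hleP
  refine ⟨B, ?_⟩
  have h4 : Cfsg.IsMaximalBrauerPair p M B (⟨P, eP⟩ : Cfsg.BrauerPairIdx G).1
      (⟨P, eP⟩ : Cfsg.BrauerPairIdx G).2 := hmaxP
  rw [hPQ] at h4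
  exact h4

/-- **S4828** -/
theorem bq_max_pair_iff {G : Type*} [Group G] [Fintype G] (p : ℕ) [Fact p.Prime]
    (M : Ideal Cfsg.AlgInt) (hM : Cfsg.IsPModular p M) (Q : Subgroup G)
    (e : Set (Cfsg.IrrCharacter (Subgroup.centralizer (Q : Set G))))
    (he : Cfsg.IsBrauerPair p M Q e) :
    (∃ B : Set (Cfsg.IrrCharacter G), Cfsg.IsMaximalBrauerPair p M B Q e) ↔
      ∃ θ ∈ e, (∀ z : Subgroup.centralizer (Q : Set G), (z : G) ∈ Q →
          (θ : Subgroup.centralizer (Q : Set G) → ℂ) z =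
            (θ : Subgroup.centralizer (Q : Set G) → ℂ) 1) ∧
        (Cfsg.charDegree (θ : Subgroup.centralizer (Q : Set G) → ℂ)).factorization p +
          (Nat.card ↥(Q ⊓ Subgroup.centralizer (Q : Set G))).factorization p =
            (Nat.card (Subgroup.centralizer (Q : Set G))).factorization p ∧
        (∀ g : G, g ∈ Subgroup.normalizer (Q : Set G) →
          Cfsg.StabilizesBlock (Subgroup.centralizer (Q : Set G)) e g →
          (∃ k : ℕ, orderOf g = p ^ k) → g ∈ Q ⊔ Subgroup.centralizer (Q : Set G)) := by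
  constructor
  · rintro ⟨B, hmax⟩
    exact bq_max_pair_theta p M hM B Q e hmax
  · rintro ⟨θ, hθ, hker, hdeg, h3⟩
    exact bq_max_pair_of_theta p M hM Q e he θ hθ hker hdeg h3

end

end Cfsg.Agent.Lib.Helper25
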