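import Mathlib
import Cfsg.Agent.Lib.Helper25.BrauerPairCanonical
import Cfsg.Agent.Lib.Helper25.PrincipalDefect
import Cfsg.Agent.Lib.Helper11.AbelianQuot
import Cfsg.Agent.Lib.Helper1.Tate
import Cfsg.Agent.Lib.Helper1.Frat
import Cfsg.Agent.Lib.Helper13.BurnsideRes
import Cfsg.Agent.S0967
import Cfsg.Agent.Lib.Helper1.NPC

/-!
# Principal block: equal height-zero degrees iff normal p-complement (S4888). pq_sameBlock_twist (twisting by linear characters), pq_linSub (linear characters of the principal block as a subgroup of the dual), pq_sum_sylow / pq_key_identity (weak block orthogonality on a Sylow subgroup), pq_count_congr, pq_count_eq, pq_not_dvd_card_triv, pq_extend (linear characters of a Sylow subgroup extend), pq_npc_of_linear (Isaacs-Smith via Tate), pq_principal_npc_iff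
-/

set_option autoImplicit false
set_option linter.style.haveILetI false
set_option linter.unusedVariables false
set_option warn.classDefReducibility false
set_option maxHeartbeats 1600000

namespace Cfsg.Agent.Lib.Helper25
open Cfsg.Agent.Lib.Helper24
open Cfsg.Agent.Lib.Helper11
open Cfsg.Agent.Lib.helper2
open Cfsg.Agent.Lib.helper7
open scoped ComplexConjugate
section

/-- values of a linear character of a finite group are integral -/
theorem pq_lin_isIntegral {G : Type*} [Group G] [Finite G] (φ : G →* ℂˣ) (g : G) :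
    IsIntegral ℤ ((φ g : ℂˣ) : ℂ) := by
  have h1 : ((φ g : ℂˣ) : ℂ) ^ orderOf g = 1 := by
    rw [← Units.val_pow_eq_pow_val, ← map_pow, pow_orderOf_eq_one, map_one, Units.val_one]
  exact IsIntegral.of_pow (orderOf_pos g) (by rw [h1]; exact isIntegral_one)

/-- twisting by a linear character preserves the block relation -/
theorem pq_sameBlock_twist {G : Type*} [Group G] [Finite G] {M : Ideal Cfsg.AlgInt}
    (hPr : M.IsPrime) (φ : G →* ℂˣ) (χ ψ : G → ℂ) (h : Cfsg.SameBlock M χ ψ) :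
    Cfsg.SameBlock M (fun g => ((φ g : ℂˣ) : ℂ) * χ g) (fun g => ((φ g : ℂˣ) : ℂ) * ψ g) := by
  intro g
  have h1 : ∀ θ : G → ℂ, Cfsg.centralChar (fun g => ((φ g : ℂˣ) : ℂ) * θ g) g =
      ((φ g : ℂˣ) : ℂ) * Cfsg.centralChar θ g := by
    intro θ
    unfold Cfsg.centralChar
    simp only [map_one, Units.val_one, one_mul]
    ring
  rw [h1, h1, ← mul_sub]
  exact h7_memLocalIdeal_mul_left hPr (h7_memLocalRing_of_isIntegral hPr (pq_lin_isIntegral φ g))
    (h g)

/-- the linear characters in the principal block, as a subgroup of the dual group -/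
def pq_linSub {G : Type*} [Group G] [Finite G] (M : Ideal Cfsg.AlgInt) (hPr : M.IsPrime) :
    Subgroup (G →* ℂˣ) where
  carrier := {φ | Cfsg.SameBlock M (fun _ : G => (1 : ℂ)) (fun g => ((φ g : ℂˣ) : ℂ))}
  one_mem' := by
    intro g
    simp only [MonoidHom.one_apply, Units.val_one, sub_self]
    exact h7_memLocalIdeal_zero hPr
  mul_mem' := by
    intro φ ψ hφ hψ
    have h1 := pq_sameBlock_twist hPr φ _ _ hψ
    intro g
    have h2 := h1 g
    have h3 := hφ g
    have e1 : (fun g : G => ((φ g : ℂˣ) : ℂ) * (1 : ℂ)) = fun g => ((φ g : ℂˣ) : ℂ) := by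
      funext x
      rw [mul_one]
    have e2 : (fun g : G => ((φ g : ℂˣ) : ℂ) * ((ψ g : ℂˣ) : ℂ)) =
        fun g => (((φ * ψ) g : ℂˣ) : ℂ) := by
      funext x
      rw [MonoidHom.mul_apply, Units.val_mul]
    rw [e1, e2] at h2
    have h4 := h7_memLocalIdeal_add hPr h3 h2
    rwa [sub_add_sub_cancel] at h4
  inv_mem' := by
    intro φ hφ
    have h1 := pq_sameBlock_twist hPr φ⁻¹ _ _ hφ
    intro g
    have h2 := h1 g
    have e1 : (fun g : G => (((φ⁻¹) g : ℂˣ) : ℂ) * (1 : ℂ)) = fun g => (((φ⁻¹) g : ℂˣ) : ℂ) := by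
      funext x
      rw [mul_one]
    have e2 : (fun g : G => (((φ⁻¹) g : ℂˣ) : ℂ) * ((φ g : ℂˣ) : ℂ)) = fun _ => (1 : ℂ) := by
      funext x
      rw [MonoidHom.inv_apply, ← Units.val_mul, inv_mul_cancel, Units.val_one]
    rw [e1, e2] at h2
    have h3 := h7_memLocalIdeal_neg h2
    rwa [neg_sub] at h3

theorem pq_mem_linSub {G : Type*} [Group G] [Finite G] (M : Ideal Cfsg.AlgInt) (hPr : M.IsPrime)
    (φ : G →* ℂˣ) : φ ∈ pq_linSub M hPr ↔ linIrr φ ∈ Cfsg.principalBlock M G := Iff.rfl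

end

section

/-- the block idempotent, weighted by a linear character of a `p`-subgroup, sums to its value at
the identity -/
theorem pq_sum_sylow {G : Type*} [Group G] [Fintype G] {p : ℕ} [hp : Fact p.Prime]
    {M : Ideal Cfsg.AlgInt} (hM : Cfsg.IsPModular p M) (χ₀ : Cfsg.IrrCharacter G)
    (P : Subgroup G) (hP : IsPGroup p P) [Fintype P] (μ : P →* ℂˣ) :
    ∑ x : P, ((μ x : ℂˣ) : ℂ) * Cfsg.blockCoeff (Cfsg.blockOf M (χ₀ : G → ℂ)) (x : G) =
      Cfsg.blockCoeff (Cfsg.blockOf M (χ₀ : G → ℂ)) 1 := by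
  classical
  haveI : Fintype (Cfsg.IrrCharacter G) := Fintype.ofFinite _
  rw [Finset.sum_eq_single (1 : P)]
  · rw [map_one, Units.val_one, one_mul, Subgroup.coe_one]
  · intro x _ hx
    obtain ⟨k, hk⟩ := (IsPGroup.iff_orderOf.mp hP) x
    have hk0 : k ≠ 0 := by
      rintro rfl
      rw [pow_zero] at hk
      exact hx (orderOf_eq_one_iff.mp hk)
    have hdvd : p ∣ orderOf (x : G) := by
      rw [Subgroup.orderOf_coe, hk]
      exact dvd_pow_self p hk0
    rw [h7_blockCoeff_psingular hM χ₀ (x : G) hdvd, mul_zero]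
  · intro h
    exact absurd (Finset.mem_univ _) h

/-- the degree of an irreducible character as a natural number -/
theorem pq_degree_cast {G : Type*} [Group G] [Finite G] (χ : Cfsg.IrrCharacter G) :
    (χ : G → ℂ) 1 = (Cfsg.charDegree (χ : G → ℂ) : ℂ) := by
  obtain ⟨n, _, hn, _⟩ := irr_degree_dvd_card χ
  unfold Cfsg.charDegree
  rw [hn]
  simp

/-- the multiplicity of a linear character `μ` of `P` in the restriction of `χ` -/
noncomputable def pq_mult {G : Type*} [Group G] (P : Subgroup G) [Fintype P] (μ : P →* ℂˣ)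
    (χ : Cfsg.IrrCharacter G) : ℕ :=
  ⌊(Cfsg.classInner (linFun μ) (fun x : P => (χ : G → ℂ) x)).re⌋₊

theorem pq_mult_cast {G : Type*} [Group G] (P : Subgroup G) [Fintype P] (μ : P →* ℂˣ)
    (χ : Cfsg.IrrCharacter G) :
    Cfsg.classInner (linFun μ) (fun x : P => (χ : G → ℂ) x) = (pq_mult P μ χ : ℂ) := by
  have h1 : Cfsg.IsCharacter P (linFun μ) := isCharacter_of_irr (linIrr μ)
  have h2 : Cfsg.IsCharacter P (fun x : P => (χ : G → ℂ) x) :=
    isCharacter_restrict (isCharacter_of_irr χ) P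
  obtain ⟨m, hm⟩ := classInner_character_nat h1 h2
  unfold pq_mult
  rw [hm]
  simp

/-- the key counting identity -/
theorem pq_key_identity {G : Type*} [Group G] [Fintype G] [Fintype (Cfsg.IrrCharacter G)]
    {p : ℕ} [hp : Fact p.Prime]
    {M : Ideal Cfsg.AlgInt} (hM : Cfsg.IsPModular p M) (χ₀ : Cfsg.IrrCharacter G)
    (P : Subgroup G) (hP : IsPGroup p P) [Fintype P] (μ : P →* ℂˣ)
    [DecidablePred (· ∈ Cfsg.blockOf M (χ₀ : G → ℂ))] :
    Nat.card P * ∑ χ : Cfsg.IrrCharacter G, (if χ ∈ Cfsg.blockOf M (χ₀ : G → ℂ) then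
        Cfsg.charDegree (χ : G → ℂ) * pq_mult P μ χ else 0) =
      ∑ χ : Cfsg.IrrCharacter G, (if χ ∈ Cfsg.blockOf M (χ₀ : G → ℂ) then
        Cfsg.charDegree (χ : G → ℂ) ^ 2 else 0) := by
  classical
  have hG : (Nat.card G : ℂ) ≠ 0 := by exact_mod_cast (Nat.card_pos (α := G)).ne'
  have hPc : (Nat.card P : ℂ) ≠ 0 := by exact_mod_cast (Nat.card_pos (α := P)).ne'
  have hexp : ∀ g : G, (Nat.card G : ℂ) * Cfsg.blockCoeff (Cfsg.blockOf M (χ₀ : G → ℂ)) g =
      ∑ χ : Cfsg.IrrCharacter G, (if χ ∈ Cfsg.blockOf M (χ₀ : G → ℂ) then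
        (χ : G → ℂ) 1 * conj ((χ : G → ℂ) g) else 0) := by
    intro g
    unfold Cfsg.blockCoeff
    rw [← mul_assoc, mul_inv_cancel₀ hG, one_mul, finsum_mem_def, finsum_eq_sum_of_fintype]
    refine Finset.sum_congr rfl fun χ _ => ?_
    rw [Set.indicator_apply]
  have h1 := pq_sum_sylow hM χ₀ P hP μ
  have h2 : ∑ x : P, ((μ x : ℂˣ) : ℂ) * ((Nat.card G : ℂ) *
      Cfsg.blockCoeff (Cfsg.blockOf M (χ₀ : G → ℂ)) (x : G)) =
      (Nat.card G : ℂ) * Cfsg.blockCoeff (Cfsg.blockOf M (χ₀ : G → ℂ)) 1 := by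
    rw [← h1, Finset.mul_sum]
    refine Finset.sum_congr rfl fun x _ => ?_
    ring
  simp only [hexp] at h2
  simp only [Finset.mul_sum] at h2
  rw [Finset.sum_comm] at h2
  apply Nat.cast_injective (R := ℂ)
  have hL : ((Nat.card P * ∑ χ : Cfsg.IrrCharacter G, (if χ ∈ Cfsg.blockOf M (χ₀ : G → ℂ) then
        Cfsg.charDegree (χ : G → ℂ) * pq_mult P μ χ else 0) : ℕ) : ℂ) =
      ∑ y : Cfsg.IrrCharacter G, ∑ x : P, ((μ x : ℂˣ) : ℂ) *
        (if y ∈ Cfsg.blockOf M (χ₀ : G → ℂ) then (y : G → ℂ) 1 * conj ((y : G → ℂ) x) else 0) := by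
    rw [Nat.cast_mul, Nat.cast_sum, Finset.mul_sum]
    refine Finset.sum_congr rfl fun χ _ => ?_
    by_cases hχ : χ ∈ Cfsg.blockOf M (χ₀ : G → ℂ)
    · simp only [if_pos hχ]
      rw [Nat.cast_mul, ← pq_mult_cast, ← pq_degree_cast]
      unfold Cfsg.classInner
      rw [← mul_assoc, ← mul_assoc, mul_comm (Nat.card P : ℂ), mul_assoc ((χ : G → ℂ) 1),
        mul_inv_cancel₀ hPc, mul_one, Finset.mul_sum]
      refine Finset.sum_congr rfl fun x _ => ?_
      rw [linFun_apply]
      ring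
    · simp only [if_neg hχ, mul_zero, Finset.sum_const_zero, Nat.cast_zero]
  have hR : ((∑ χ : Cfsg.IrrCharacter G, (if χ ∈ Cfsg.blockOf M (χ₀ : G → ℂ) then
        Cfsg.charDegree (χ : G → ℂ) ^ 2 else 0) : ℕ) : ℂ) =
      ∑ χ : Cfsg.IrrCharacter G, (if χ ∈ Cfsg.blockOf M (χ₀ : G → ℂ) then
        (χ : G → ℂ) 1 * conj ((χ : G → ℂ) 1) else 0) := by
    rw [Nat.cast_sum]
    refine Finset.sum_congr rfl fun χ _ => ?_
    by_cases hχ : χ ∈ Cfsg.blockOf M (χ₀ : G → ℂ)
    · simp only [if_pos hχ]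
      rw [pq_degree_cast, Nat.cast_pow, Complex.conj_natCast, sq]
    · simp only [if_neg hχ, Nat.cast_zero]
  rw [hL, hR]
  exact h2

end

section

/-- the multiplicity of `μ` in the restriction of a linear character -/
theorem pq_mult_linear {G : Type*} [Group G] (P : Subgroup G) [Fintype P] (μ : P →* ℂˣ)
    (φ : G →* ℂˣ) [Decidable (μ = φ.comp P.subtype)] :
    pq_mult P μ (linIrr φ) = if μ = φ.comp P.subtype then 1 else 0 := by
  apply Nat.cast_injective (R := ℂ)
  rw [← pq_mult_cast]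
  have h1 : (fun x : P => (linIrr φ : G → ℂ) x) = linFun (φ.comp P.subtype) := by
    funext x
    rfl
  rw [h1, classInner_linFun]
  split_ifs <;> simp

/-- an irreducible character of degree one is `linIrr` of a homomorphism -/
theorem pq_linear_eq {G : Type*} [Group G] [Finite G] (χ : Cfsg.IrrCharacter G)
    (h1 : Cfsg.charDegree (χ : G → ℂ) = 1) :
    ∃ φ : G →* ℂˣ, χ = linIrr φ := by
  have h2 : (χ : G → ℂ) 1 = 1 := by
    rw [pq_degree_cast, h1, Nat.cast_one]
  refine ⟨irrLinearHom χ h2, ?_⟩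
  apply Subtype.ext
  funext g
  rfl

theorem pq_linIrr_degree {G : Type*} [Group G] (φ : G →* ℂˣ) :
    Cfsg.charDegree (linIrr φ : G → ℂ) = 1 := by
  unfold Cfsg.charDegree
  rw [linIrr_apply, map_one, Units.val_one]
  simp

theorem pq_linIrr_injective {G : Type*} [Group G] : Function.Injective (linIrr (G := G)) := by
  intro φ ψ h
  ext g
  have := congrFun (congrArg Subtype.val h) g
  exact this

/-- the congruence between the counts of linear characters of the principal block with given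
restriction to `P` -/
theorem pq_count_congr {G : Type*} [Group G] [Fintype G] [Fintype (Cfsg.IrrCharacter G)]
    {p : ℕ} [hp : Fact p.Prime]
    {M : Ideal Cfsg.AlgInt} (hM : Cfsg.IsPModular p M) (χ₀ : Cfsg.IrrCharacter G)
    (P : Subgroup G) (hP : IsPGroup p P) [Fintype P]
    [DecidablePred (· ∈ Cfsg.blockOf M (χ₀ : G → ℂ))]
    (hyp : ∀ χ ∈ Cfsg.blockOf M (χ₀ : G → ℂ), Cfsg.charDegree (χ : G → ℂ) = 1 ∨
      p ∣ Cfsg.charDegree (χ : G → ℂ)) (μ ν : P →* ℂˣ) :
    (∑ χ : Cfsg.IrrCharacter G, (if χ ∈ Cfsg.blockOf M (χ₀ : G → ℂ) ∧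
        Cfsg.charDegree (χ : G → ℂ) = 1 then pq_mult P μ χ else 0)) ≡
    (∑ χ : Cfsg.IrrCharacter G, (if χ ∈ Cfsg.blockOf M (χ₀ : G → ℂ) ∧
        Cfsg.charDegree (χ : G → ℂ) = 1 then pq_mult P ν χ else 0)) [MOD p] := by
  classical
  have hcard : 0 < Nat.card P := Nat.card_pos
  have h1 := pq_key_identity hM χ₀ P hP μ
  have h2 := pq_key_identity hM χ₀ P hP ν
  have h3 : ∑ χ : Cfsg.IrrCharacter G, (if χ ∈ Cfsg.blockOf M (χ₀ : G → ℂ) then
        Cfsg.charDegree (χ : G → ℂ) * pq_mult P μ χ else 0) =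
      ∑ χ : Cfsg.IrrCharacter G, (if χ ∈ Cfsg.blockOf M (χ₀ : G → ℂ) then
        Cfsg.charDegree (χ : G → ℂ) * pq_mult P ν χ else 0) := by
    apply Nat.eq_of_mul_eq_mul_left hcard
    rw [h1, h2]
  have hred : ∀ κ : P →* ℂˣ, (∑ χ : Cfsg.IrrCharacter G,
      (if χ ∈ Cfsg.blockOf M (χ₀ : G → ℂ) then
        Cfsg.charDegree (χ : G → ℂ) * pq_mult P κ χ else 0)) ≡
      (∑ χ : Cfsg.IrrCharacter G, (if χ ∈ Cfsg.blockOf M (χ₀ : G → ℂ) ∧
        Cfsg.charDegree (χ : G → ℂ) = 1 then pq_mult P κ χ else 0)) [MOD p] := by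
    intro κ
    unfold Nat.ModEq
    conv_lhs => rw [Finset.sum_nat_mod]
    conv_rhs => rw [Finset.sum_nat_mod]
    congr 1
    refine Finset.sum_congr rfl fun χ _ => ?_
    by_cases hχ : χ ∈ Cfsg.blockOf M (χ₀ : G → ℂ)
    · rcases hyp χ hχ with hd | hd
      · rw [if_pos hχ, if_pos ⟨hχ, hd⟩, hd, one_mul]
      · have hne : ¬ Cfsg.charDegree (χ : G → ℂ) = 1 := by
          intro h
          rw [h] at hd
          exact hp.out.one_lt.ne' (Nat.dvd_one.mp hd)
        rw [if_pos hχ, if_neg (fun h => hne h.2)]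
        rw [Nat.zero_mod]
        exact Nat.mod_eq_zero_of_dvd (Dvd.dvd.mul_right hd _)
    · rw [if_neg hχ, if_neg (fun h => hχ h.1)]
  exact ((hred μ).symm.trans (h3 ▸ Nat.ModEq.refl _)).trans (hred ν)

end

section

/-- restriction of linear characters to a subgroup, as a homomorphism of dual groups -/
def pq_res {G : Type*} [Group G] (P : Subgroup G) : (G →* ℂˣ) →* (P →* ℂˣ) where
  toFun φ := φ.comp P.subtype
  map_one' := rfl
  map_mul' φ ψ := rfl

theorem pq_res_apply {G : Type*} [Group G] (P : Subgroup G) (φ : G →* ℂˣ) (x : P) :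
    pq_res P φ x = φ (x : G) := rfl

/-- the count of linear characters of the principal block with restriction `μ`, as a cardinality -/
theorem pq_count_eq {G : Type*} [Group G] [Fintype G] [Fintype (Cfsg.IrrCharacter G)]
    (M : Ideal Cfsg.AlgInt) (hPr : M.IsPrime) (P : Subgroup G) [Fintype P] (μ : P →* ℂˣ)
    [DecidablePred (· ∈ Cfsg.blockOf M ((trivIrr G : Cfsg.IrrCharacter G) : G → ℂ))] :
    (∑ χ : Cfsg.IrrCharacter G,
      (if χ ∈ Cfsg.blockOf M ((trivIrr G : Cfsg.IrrCharacter G) : G → ℂ) ∧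
        Cfsg.charDegree (χ : G → ℂ) = 1 then pq_mult P μ χ else 0)) =
      Nat.card {φ : G →* ℂˣ // φ ∈ pq_linSub M hPr ∧ pq_res P φ = μ} := by
  classical
  haveI : Fintype (G →* ℂˣ) := Fintype.ofFinite _
  set F : Cfsg.IrrCharacter G → ℕ := fun χ =>
    if χ ∈ Cfsg.blockOf M ((trivIrr G : Cfsg.IrrCharacter G) : G → ℂ) ∧
      Cfsg.charDegree (χ : G → ℂ) = 1 then pq_mult P μ χ else 0 with hF
  have h1 : ∑ χ : Cfsg.IrrCharacter G, F χ =
      ∑ χ ∈ (Finset.univ : Finset (G →* ℂˣ)).image linIrr, F χ := by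
    symm
    apply Finset.sum_subset (Finset.subset_univ _)
    intro χ _ hχ
    rw [hF]
    beta_reduce
    rw [if_neg]
    rintro ⟨_, hd⟩
    obtain ⟨φ, hφ⟩ := pq_linear_eq χ hd
    exact hχ (Finset.mem_image.mpr ⟨φ, Finset.mem_univ _, hφ.symm⟩)
  rw [h1, Finset.sum_image (fun φ _ ψ _ h => pq_linIrr_injective h)]
  rw [Nat.card_eq_fintype_card, Fintype.card_subtype, Finset.card_filter]
  refine Finset.sum_congr rfl fun φ _ => ?_
  rw [hF]
  beta_reduce
  rw [pq_mult_linear]
  by_cases h : φ ∈ pq_linSub M hPr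
  · have h' : linIrr φ ∈ Cfsg.blockOf M ((trivIrr G : Cfsg.IrrCharacter G) : G → ℂ) := h
    rw [if_pos ⟨h', pq_linIrr_degree φ⟩]
    by_cases h2 : μ = φ.comp P.subtype
    · rw [if_pos h2, if_pos ⟨h, h2.symm⟩]
    · rw [if_neg h2, if_neg (fun hh => h2 hh.2.symm)]
  · have h' : ¬ linIrr φ ∈ Cfsg.blockOf M ((trivIrr G : Cfsg.IrrCharacter G) : G → ℂ) := h
    rw [if_neg (fun hh => h' hh.1), if_neg (fun hh => h hh.1)]

end

section

/-- a `p`-element is conjugate into a given Sylow `p`-subgroup -/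
theorem pq_pelement_conj {G : Type*} [Group G] [Finite G] {p : ℕ} [hp : Fact p.Prime]
    (P : Sylow p G) (y : G) (k : ℕ) (hy : orderOf y = p ^ k) :
    ∃ g : G, g * y * g⁻¹ ∈ (P : Subgroup G) := by
  have hxp : IsPGroup p (Subgroup.zpowers y) := by
    rw [IsPGroup.iff_card]
    exact ⟨k, by rw [Nat.card_zpowers, hy]⟩
  obtain ⟨P', hP'⟩ := hxp.exists_le_sylow
  obtain ⟨g, hg⟩ := MulAction.exists_smul_eq G P' P
  refine ⟨g, ?_⟩
  rw [← hg, Sylow.coe_subgroup_smul, Subgroup.mem_pointwise_smul_iff_inv_smul_mem,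
    MulAut.smul_def, MulAut.conj_inv_apply]
  have : g⁻¹ * (g * y * g⁻¹) * g = y := by group
  rw [this]
  exact hP' (Subgroup.mem_zpowers _)

/-- a linear character trivial on a Sylow `p`-subgroup and of order dividing `p` is trivial -/
theorem pq_lin_trivial {G : Type*} [Group G] [Finite G] {p : ℕ} [hp : Fact p.Prime]
    (P : Sylow p G) (φ : G →* ℂˣ) (hP : ∀ x ∈ (P : Subgroup G), φ x = 1) (hpow : φ ^ p = 1) :
    φ = 1 := by
  refine MonoidHom.ext fun g => ?_
  rw [MonoidHom.one_apply]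
  have ho : orderOf g ≠ 0 := (orderOf_pos g).ne'
  obtain ⟨k, m, hm, hkm⟩ := Nat.exists_eq_pow_mul_and_not_dvd ho p hp.out.ne_one
  have hy : orderOf (g ^ m) = p ^ k := by
    rw [orderOf_pow' g (by
      rintro rfl
      rw [mul_zero] at hkm
      exact ho hkm), hkm, Nat.gcd_mul_left_left, Nat.mul_div_cancel _ (Nat.pos_of_ne_zero (by
      rintro rfl
      rw [mul_zero] at hkm
      exact ho hkm))]
  obtain ⟨h, hh⟩ := pq_pelement_conj P (g ^ m) k hy
  have h1 : φ (g ^ m) = 1 := by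
    have := hP _ hh
    rw [map_mul, map_mul, map_inv, mul_comm (φ h), mul_assoc, mul_inv_cancel, mul_one] at this
    exact this
  have h2 : φ g ^ m = 1 := by rw [← map_pow]; exact h1
  have h3 : φ g ^ p = 1 := by
    have := congrArg (fun ψ : G →* ℂˣ => ψ g) hpow
    simpa using this
  have hcop : Nat.Coprime m p := (Nat.Prime.coprime_iff_not_dvd hp.out).mpr hm |>.symm
  have h4 : orderOf (φ g) ∣ Nat.gcd m p :=
    Nat.dvd_gcd (orderOf_dvd_of_pow_eq_one h2) (orderOf_dvd_of_pow_eq_one h3)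
  rw [hcop, Nat.dvd_one] at h4
  exact orderOf_eq_one_iff.mp h4

/-- the number of linear characters of the principal block trivial on a Sylow `p`-subgroup is
prime to `p` -/
theorem pq_not_dvd_card_triv {G : Type*} [Group G] [Finite G] {p : ℕ} [hp : Fact p.Prime]
    (M : Ideal Cfsg.AlgInt) (hPr : M.IsPrime) (P : Sylow p G) :
    ¬ p ∣ Nat.card {φ : G →* ℂˣ // φ ∈ pq_linSub M hPr ∧ pq_res (P : Subgroup G) φ = 1} := by
  intro hdvd
  have hcard : Nat.card {φ : G →* ℂˣ // φ ∈ pq_linSub M hPr ∧ pq_res (P : Subgroup G) φ = 1} =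
      Nat.card ↥(pq_linSub M hPr ⊓ (pq_res (P : Subgroup G)).ker) := by
    apply Nat.card_congr
    exact Equiv.subtypeEquivRight (fun φ => by
      rw [Subgroup.mem_inf, MonoidHom.mem_ker])
  rw [hcard] at hdvd
  obtain ⟨x, hx⟩ := exists_prime_orderOf_dvd_card' p hdvd
  have hxL := x.2
  rw [Subgroup.mem_inf, MonoidHom.mem_ker] at hxL
  have hpow : (x : G →* ℂˣ) ^ p = 1 := by
    have := pow_orderOf_eq_one x
    rw [hx] at this
    exact congrArg Subtype.val this
  have htriv : ∀ y ∈ (P : Subgroup G), (x : G →* ℂˣ) y = 1 := by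
    intro y hy
    have := congrArg (fun ψ : (P : Subgroup G) →* ℂˣ => ψ ⟨y, hy⟩) hxL.2
    exact this
  have h1 := pq_lin_trivial P (x : G →* ℂˣ) htriv hpow
  have h2 : x = 1 := Subtype.ext h1
  rw [h2, orderOf_one] at hx
  exact hp.out.one_lt.ne hx

end

section

/-- an element of a finite group killed by all linear characters lies in the commutator
subgroup -/
theorem pq_mem_commutator {P : Type*} [Group P] [Finite P] (x : P)
    (h : ∀ μ : P →* ℂˣ, μ x = 1) : x ∈ commutator P := by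
  by_contra hx
  have hne : (Abelianization.of x : Abelianization P) ≠ 1 := by
    intro h1
    apply hx
    rw [← QuotientGroup.eq_one_iff]
    exact h1
  haveI : NeZero (Monoid.exponent (Abelianization P)) := ⟨Monoid.exponent_ne_zero_of_finite⟩
  obtain ⟨φ, hφ⟩ := CommGroup.exists_apply_ne_one_of_hasEnoughRootsOfUnity (Abelianization P) ℂ hne
  exact hφ (h (φ.comp Abelianization.of))

/-- if every character in the principal block has degree one or divisible by `p`, then every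
linear character of a Sylow `p`-subgroup extends to a linear character of the principal block -/
theorem pq_extend {G : Type*} [Group G] [Finite G] (p : ℕ) [hp : Fact p.Prime]
    (M : Ideal Cfsg.AlgInt) (hM : Cfsg.IsPModular p M)
    (hyp : ∀ χ ∈ Cfsg.principalBlock M G, Cfsg.charDegree (χ : G → ℂ) = 1 ∨
      p ∣ Cfsg.charDegree (χ : G → ℂ)) (P : Sylow p G) (μ : (P : Subgroup G) →* ℂˣ) :
    ∃ φ : G →* ℂˣ, pq_res (P : Subgroup G) φ = μ := by
  classical
  haveI : Fintype G := Fintype.ofFinite _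
  haveI : Fintype (Cfsg.IrrCharacter G) := Fintype.ofFinite _
  haveI : Fintype (P : Subgroup G) := Fintype.ofFinite _
  have hPr := hM.2.1.isPrime
  have hc := pq_count_congr hM (trivIrr G) (P : Subgroup G) P.isPGroup' hyp μ 1
  rw [pq_count_eq M hPr (P : Subgroup G) μ, pq_count_eq M hPr (P : Subgroup G) 1] at hc
  have hnd := pq_not_dvd_card_triv M hPr P
  have hne : Nat.card {φ : G →* ℂˣ // φ ∈ pq_linSub M hPr ∧ pq_res (P : Subgroup G) φ = μ} ≠ 0 := by
    intro h0
    rw [h0] at hc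
    apply hnd
    exact (Nat.modEq_zero_iff_dvd.mp hc.symm)
  have hnonempty : Nonempty {φ : G →* ℂˣ // φ ∈ pq_linSub M hPr ∧
      pq_res (P : Subgroup G) φ = μ} := by
    by_contra hemp
    rw [not_nonempty_iff] at hemp
    exact hne Nat.card_of_isEmpty
  obtain ⟨φ, _, hφ⟩ := hnonempty
  exact ⟨φ, hφ⟩

/-- **Isaacs–Smith**: if every character in the principal block has degree one or divisible by
`p`, then the group has a normal `p`-complement -/
theorem pq_npc_of_linear {G : Type*} [Group G] [Finite G] (p : ℕ) [hp : Fact p.Prime]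
    (M : Ideal Cfsg.AlgInt) (hM : Cfsg.IsPModular p M)
    (hyp : ∀ χ ∈ Cfsg.principalBlock M G, Cfsg.charDegree (χ : G → ℂ) = 1 ∨
      p ∣ Cfsg.charDegree (χ : G → ℂ)) : Cfsg.HasNormalPComplement p G := by
  classical
  obtain ⟨P⟩ : Nonempty (Sylow p G) := inferInstance
  haveI hRn : (Cfsg.pResidual p G).Normal := Cfsg.Agent.Lib.Helper1.pResidual_normal p
  have hidx : ¬ p ∣ (P : Subgroup G).index := P.not_dvd_index
  have hcop : Nat.Coprime (P : Subgroup G).index (Nat.card (P : Subgroup G)) := by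
    obtain ⟨n, hn⟩ := IsPGroup.iff_card.mp P.isPGroup'
    rw [hn]
    exact Nat.Coprime.pow_right n ((Nat.Prime.coprime_iff_not_dvd hp.out).mpr hidx).symm
  -- every linear character kills `R ⊓ P`
  have hkill : ∀ x : G, x ∈ Cfsg.pResidual p G → ∀ hx : x ∈ (P : Subgroup G),
      ∀ μ : (P : Subgroup G) →* ℂˣ, μ ⟨x, hx⟩ = 1 := by
    intro x hxR hxP μ
    obtain ⟨φ, hφ⟩ := pq_extend p M hM hyp P μ
    have h1 : μ ⟨x, hxP⟩ = φ x := by
      rw [← hφ]
      rfl
    rw [h1]
    -- `φ ^ index` kills all `p'`-elements, hence `R`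
    have hR : Cfsg.pResidual p G ≤ (φ ^ (P : Subgroup G).index).ker := by
      unfold Cfsg.pResidual
      rw [Subgroup.closure_le]
      intro y hy
      have hy' : Nat.Coprime (orderOf y) p := hy
      rw [SetLike.mem_coe, MonoidHom.mem_ker, MonoidHom.pow_apply, ← map_pow]
      have hdvd : orderOf y ∣ (P : Subgroup G).index := by
        have h2 : orderOf y ∣ Nat.card G := orderOf_dvd_natCard y
        rw [← Subgroup.index_mul_card (P : Subgroup G)] at h2
        obtain ⟨n, hn⟩ := IsPGroup.iff_card.mp P.isPGroup'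
        rw [hn] at h2
        exact (Nat.Coprime.pow_right n hy').dvd_of_dvd_mul_right h2
      obtain ⟨c, hc⟩ := hdvd
      rw [hc, pow_mul, pow_orderOf_eq_one, one_pow, map_one]
    have h2 : φ x ^ (P : Subgroup G).index = 1 := by
      have := hR hxR
      rwa [MonoidHom.mem_ker, MonoidHom.pow_apply] at this
    have h3 : φ x ^ Nat.card (P : Subgroup G) = 1 := by
      rw [← map_pow]
      have : x ^ Nat.card (P : Subgroup G) = 1 := by
        have := pow_card_eq_one' (G := (P : Subgroup G)) (x := ⟨x, hxP⟩)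
        exact congrArg Subtype.val this
      rw [this, map_one]
    have h4 : orderOf (φ x) ∣ Nat.gcd (P : Subgroup G).index (Nat.card (P : Subgroup G)) :=
      Nat.dvd_gcd (orderOf_dvd_of_pow_eq_one h2) (orderOf_dvd_of_pow_eq_one h3)
    rw [hcop, Nat.dvd_one] at h4
    exact orderOf_eq_one_iff.mp h4
  have hle : Cfsg.pResidual p G ⊓ (P : Subgroup G) ≤
      (frattini ↥(P : Subgroup G)).map (P : Subgroup G).subtype := by
    intro x hx
    obtain ⟨hxR, hxP⟩ := Subgroup.mem_inf.mp hx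
    have h1 : (⟨x, hxP⟩ : (P : Subgroup G)) ∈ commutator (P : Subgroup G) :=
      pq_mem_commutator _ (hkill x hxR hxP)
    exact ⟨⟨x, hxP⟩, Cfsg.Agent.Lib.Helper1.pgroup_commutator_le_frattini P.isPGroup' h1, rfl⟩
  have h1 := Cfsg.Agent.Lib.Helper1.Tate.tate P (Cfsg.pResidual p G) hle
  rw [Cfsg.Agent.Lib.Helper1.pResidual_pResidual, Subgroup.card_top] at h1
  exact ⟨P, Cfsg.pResidual p G, hRn,
    Cfsg.Agent.Lib.Helper13.hasNormalPComplement_of_not_dvd_card_pResidual P h1⟩

end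

section

/-- the minimal `p`-exponent of the degrees in the principal block is zero -/
theorem pq_sInf_principal {G : Type*} [Group G] [Finite G] (p : ℕ) (M : Ideal Cfsg.AlgInt)
    (hPr : M.IsPrime) :
    sInf ((fun ψ : Cfsg.IrrCharacter G => (Cfsg.charDegree (ψ : G → ℂ)).factorization p) ''
      (Cfsg.principalBlock M G)) = 0 := by
  rw [Nat.sInf_eq_zero]
  left
  refine ⟨trivIrr G, ?_, ?_⟩
  · haveI : Fintype G := Fintype.ofFinite _
    haveI : Fintype (Cfsg.IrrCharacter G) := Fintype.ofFinite _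
    exact h7_sameBlock_refl hPr _
  · have : Cfsg.charDegree ((trivIrr G : Cfsg.IrrCharacter G) : G → ℂ) = 1 := by
      unfold Cfsg.charDegree
      simp
    beta_reduce
    rw [this]
    simp

theorem pq_height_principal {G : Type*} [Group G] [Finite G] (p : ℕ) (M : Ideal Cfsg.AlgInt)
    (hPr : M.IsPrime) (χ : G → ℂ) :
    Cfsg.blockHeight p (Cfsg.principalBlock M G) χ = (Cfsg.charDegree χ).factorization p := by
  unfold Cfsg.blockHeight
  rw [pq_sInf_principal p M hPr, Nat.sub_zero]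

/-- **S4888** -/
theorem pq_principal_npc_iff {G : Type*} [Group G] [Finite G] (p : ℕ) [hp : Fact p.Prime]
    (M : Ideal Cfsg.AlgInt) (hM : Cfsg.IsPModular p M) :
    (∃ d : ℕ, ∀ χ : Cfsg.IrrCharacter G, χ ∈ (Cfsg.principalBlock M G) →
      Cfsg.blockHeight p (Cfsg.principalBlock M G) (χ : G → ℂ) = 0 →
      Cfsg.charDegree (χ : G → ℂ) = d) ↔ Cfsg.HasNormalPComplement p G := by
  classical
  haveI : Fintype G := Fintype.ofFinite _
  haveI : Fintype (Cfsg.IrrCharacter G) := Fintype.ofFinite _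
  have hPr := hM.2.1.isPrime
  have htriv : trivIrr G ∈ Cfsg.principalBlock M G := h7_sameBlock_refl hPr _
  have htd : Cfsg.charDegree ((trivIrr G : Cfsg.IrrCharacter G) : G → ℂ) = 1 := by
    unfold Cfsg.charDegree
    simp
  constructor
  · rintro ⟨d, hd⟩
    have hd1 : d = 1 := by
      rw [← htd]
      symm
      apply hd _ htriv
      rw [pq_height_principal p M hPr, htd]
      simp
    subst hd1
    apply pq_npc_of_linear p M hM
    intro χ hχ
    by_cases hdvd : p ∣ Cfsg.charDegree (χ : G → ℂ)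
    · exact Or.inr hdvd
    · left
      apply hd χ hχ
      rw [pq_height_principal p M hPr]
      exact Nat.factorization_eq_zero_of_not_dvd hdvd
  · rintro ⟨P, N, hNn, hc⟩
    haveI := hNn
    refine ⟨1, ?_⟩
    intro χ hχ h0
    rw [pq_height_principal p M hPr] at h0
    have hNp : ¬ p ∣ Nat.card N := by
      have := Cfsg.Agent.Lib.Helper1.card_coprime_of_isComplement'_sylow P hc
      intro hdvd
      have h2 : p ∣ Nat.gcd (Nat.card N) p := Nat.dvd_gcd hdvd dvd_rfl
      rw [this] at h2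
      exact hp.out.one_lt.ne' (Nat.dvd_one.mp h2)
    have hχ' : χ ∈ Cfsg.blockOf M (((trivIrr (G ⧸ N) : Cfsg.IrrCharacter (G ⧸ N)) : G ⧸ N → ℂ) ∘
        QuotientGroup.mk) := hχ
    obtain ⟨ψ', hψ', -⟩ := Cfsg.Agent.S0967.result p M hM N hNp (trivIrr (G ⧸ N)) χ hχ'
    have hdeg : Cfsg.charDegree (χ : G → ℂ) = Cfsg.charDegree (ψ' : G ⧸ N → ℂ) := by
      unfold Cfsg.charDegree
      rw [hψ']
      rfl
    obtain ⟨n, hn0, hn1, hn2⟩ := irr_degree_dvd_card ψ'
    have hn : Cfsg.charDegree (ψ' : G ⧸ N → ℂ) = n := by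
      unfold Cfsg.charDegree
      rw [hn1]
      simp
    have hcardQ : Nat.card (G ⧸ N) = Nat.card (P : Subgroup G) := by
      have h1 := hc.card_mul_card
      have h2 := Subgroup.card_eq_card_quotient_mul_card_subgroup N
      have hpos : 0 < Nat.card N := Nat.card_pos
      nlinarith
    obtain ⟨a, ha⟩ := IsPGroup.iff_card.mp P.isPGroup'
    rw [hcardQ, ha] at hn2
    obtain ⟨j, _, hj⟩ := (Nat.dvd_prime_pow hp.out).mp hn2
    rw [hdeg, hn, hj]
    rw [hdeg, hn, hj, Nat.Prime.factorization_pow hp.out, Finsupp.single_eq_same] at h0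
    rw [h0, pow_zero]

end

end Cfsg.Agent.Lib.Helper25
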