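import Mathlib
import Cfsg.Agent.Lib.Helper29.S5981.DefsD
import Cfsg.Agent.S2618
import Cfsg.Agent.Lib.Helper16.OClass1

set_option autoImplicit false
set_option linter.unusedVariables false
set_option linter.unusedSectionVars false

/-! # Project S5981, row D2 (`classify_odd`) -/

namespace Cfsg.Agent.Lib.Helper29.S5981

open scoped MatrixGroups Matrix
open Module Cfsg.Agent.Lib.Helper16

/-- a quadratic space with a parabolic (Witt) basis is `Q x •` the standard odd form -/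
theorem s5981d2_classify {F : Type*} [Field F] {V : Type*} [AddCommGroup V] [Module F V] {m : ℕ}
    (Q : QuadraticForm F V) (b : Basis (Unit ⊕ (Fin m ⊕ Fin m)) F V)
    (hc : Q (b (Sum.inl ())) ≠ 0)
    (hb1 : ∀ i, QuadraticMap.polar ⇑Q (b (Sum.inl ())) (b (Sum.inr (Sum.inl i))) = 0 ∧
      QuadraticMap.polar ⇑Q (b (Sum.inl ())) (b (Sum.inr (Sum.inr i))) = 0)
    (hb2 : ∀ i, Q (b (Sum.inr (Sum.inl i))) = 0 ∧ Q (b (Sum.inr (Sum.inr i))) = 0)
    (hb3 : ∀ i j, QuadraticMap.polar ⇑Q (b (Sum.inr (Sum.inl i))) (b (Sum.inr (Sum.inr j))) =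
      if i = j then 1 else 0)
    (hb4 : ∀ i j, QuadraticMap.polar ⇑Q (b (Sum.inr (Sum.inl i))) (b (Sum.inr (Sum.inl j))) = 0 ∧
      QuadraticMap.polar ⇑Q (b (Sum.inr (Sum.inr i))) (b (Sum.inr (Sum.inr j))) = 0) :
    ∃ Φ : (Unit ⊕ (Fin m ⊕ Fin m) → F) ≃ₗ[F] V,
      ∀ v, Q (Φ v) = Q (b (Sum.inl ())) * Cfsg.quadFormOdd m F v := by
  classical
  set c : F := Q (b (Sum.inl ())) with hcdef
  let w : Unit ⊕ (Fin m ⊕ Fin m) → Fˣ := Sum.elim (fun _ => 1) (Sum.elim (fun _ => Units.mk0 c hc) (fun _ => 1))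
  let b' : Basis (Unit ⊕ (Fin m ⊕ Fin m)) F V := b.unitsSMul w
  have hb'0 : b' (Sum.inl ()) = b (Sum.inl ()) := by
    change (b.unitsSMul w) (Sum.inl ()) = _
    rw [Basis.unitsSMul_apply]
    exact one_smul _ _
  have hb'1 : ∀ i, b' (Sum.inr (Sum.inl i)) = c • b (Sum.inr (Sum.inl i)) := by
    intro i
    change (b.unitsSMul w) (Sum.inr (Sum.inl i)) = _
    rw [Basis.unitsSMul_apply]
    rfl
  have hb'2 : ∀ i, b' (Sum.inr (Sum.inr i)) = b (Sum.inr (Sum.inr i)) := by
    intro i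
    change (b.unitsSMul w) (Sum.inr (Sum.inr i)) = _
    rw [Basis.unitsSMul_apply]
    exact one_smul _ _
  refine ⟨b'.equivFun.symm, ?_⟩
  intro v
  have key := OSemi.qf_ext_basis (Pi.basisFun F (Unit ⊕ (Fin m ⊕ Fin m)))
    (Q.comp b'.equivFun.symm.toLinearMap) (c • qfOdd m F) ?_ ?_ v
  · exact key
  · intro k l
    have hL : QuadraticMap.polar ⇑(Q.comp b'.equivFun.symm.toLinearMap)
        (Pi.basisFun F (Unit ⊕ (Fin m ⊕ Fin m)) k) (Pi.basisFun F (Unit ⊕ (Fin m ⊕ Fin m)) l)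
        = QuadraticMap.polar ⇑Q (b' k) (b' l) := by
      unfold QuadraticMap.polar
      simp only [QuadraticMap.comp_apply, LinearEquiv.coe_coe, Pi.basisFun_apply, map_add,
        OSemi.equivFun_symm_single]
    have hR : QuadraticMap.polar ⇑(c • qfOdd m F) (Pi.basisFun F (Unit ⊕ (Fin m ⊕ Fin m)) k)
        (Pi.basisFun F (Unit ⊕ (Fin m ⊕ Fin m)) l) =
        c * QuadraticMap.polar (Cfsg.quadFormOdd m F) (Pi.single k 1) (Pi.single l 1) := by
      rw [FunLike.coe_smul, QuadraticMap.polar_smul, qfOdd_coe, smul_eq_mul, Pi.basisFun_apply,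
        Pi.basisFun_apply]
    rw [hL, hR, polar_odd]
    rcases k with u | i | i <;> rcases l with u' | j | j
    · rw [hb'0, QuadraticMap.polar_self]
      simp [Pi.single_apply, two_smul, ← hcdef]
      ring
    · rw [hb'0, hb'1, QuadraticMap.polar_smul_right, (hb1 j).1]
      simp [Pi.single_apply]
    · rw [hb'0, hb'2, (hb1 j).2]
      simp [Pi.single_apply]
    · rw [hb'0, hb'1, QuadraticMap.polar_comm, QuadraticMap.polar_smul_right, (hb1 i).1]
      simp [Pi.single_apply]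
    · rw [hb'1, hb'1, QuadraticMap.polar_smul_right, QuadraticMap.polar_smul_left, (hb4 i j).1]
      simp [Pi.single_apply]
    · rw [hb'1, hb'2, QuadraticMap.polar_smul_left, hb3 i j]
      simp [Pi.single_apply, eq_comm]
    · rw [hb'0, hb'2, QuadraticMap.polar_comm, (hb1 i).2]
      simp [Pi.single_apply]
    · rw [hb'1, hb'2, QuadraticMap.polar_comm, QuadraticMap.polar_smul_left, hb3 j i]
      simp [Pi.single_apply, eq_comm]
    · rw [hb'2, hb'2, (hb4 i j).2]
      simp [Pi.single_apply]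
  · intro k
    show Q (b'.equivFun.symm (Pi.basisFun F (Unit ⊕ (Fin m ⊕ Fin m)) k)) = (c • qfOdd m F) _
    rw [Pi.basisFun_apply, OSemi.equivFun_symm_single, smul_apply, qfOdd_coe, smul_eq_mul]
    unfold Cfsg.quadFormOdd
    rcases k with u | i | i
    · rw [hb'0]
      simp [Pi.single_apply, ← hcdef]
    · rw [hb'1, QuadraticMap.map_smul, (hb2 i).1]
      simp [Pi.single_apply]
    · rw [hb'2, (hb2 i).2]
      simp [Pi.single_apply]

variable {F : Type*} [Field F] [Fintype F]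

theorem classify_odd {q : ℕ} (hq : Fintype.card F = q) (hodd : Odd q) (n m : ℕ) (hnm : n = 2 * m + 1)
    (Q : (Fin n → F) → F) (hQ : Cfsg.Geo.IsNondegenerateQuadraticForm Q) :
    IsOddType n m Q := by
  classical
  let Q' : QuadraticForm F (Fin n → F) :=
    QuadraticMap.ofPolar Q (fun a x => by rw [hQ.smul, pow_two, smul_eq_mul])
      (fun x x' y => hQ.polar_bilinear.add_left x x' y)
      (fun a x y => by rw [hQ.polar_bilinear.smul_left, smul_eq_mul])
  have hQ'nd : (QuadraticMap.polarBilin Q').Nondegenerate := by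
    constructor
    · intro u hu
      by_contra hne
      obtain ⟨-, w, hw⟩ := hQ.nondegenerate u hne
      exact hw (hu w)
    · intro u hu
      by_contra hne
      obtain ⟨⟨w, hw⟩, -⟩ := hQ.nondegenerate u hne
      exact hw (hu w)
  have hV : Module.finrank F (Fin n → F) = 2 * m + 1 := by
    rw [Module.finrank_fin_fun, hnm]
  obtain ⟨b, hc, hb1, hb2, hb3, hb4⟩ := Cfsg.Agent.S2618.result hV Q' hQ'nd
  obtain ⟨Φ, hΦ⟩ := s5981d2_classify Q' b hc hb1 hb2 hb3 hb4
  exact ⟨Q' (b (Sum.inl ())), hc, Φ, hΦ⟩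

end Cfsg.Agent.Lib.Helper29.S5981
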