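import Mathlib
import Cfsg.Prelude.Def_CaseTheorems
import Cfsg.Agent.Lib.Helper25.KnorrBound
import Cfsg.Agent.Lib.Helper25.CharQuot
import Cfsg.Agent.Lib.Helper18.PPrimeCore
import Cfsg.Agent.Lib.Helper11.LinCharDual

/-!
Groups in which every nonprincipal irreducible character takes at a fixed element either the value
zero or its degree minus a constant.
-/

set_option autoImplicit false
set_option linter.deprecated false

namespace Cfsg.Agent.Lib.Helper25
open Cfsg.Agent.Lib.Helper11 Cfsg.Agent.Lib.helper2 Cfsg.Agent.Lib.helper7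
open scoped ComplexConjugate

open Finset

variable {G : Type*} [Group G]

theorem cdf_ne_const_one_of_ne_triv (χ : Cfsg.IrrCharacter G) (h : χ ≠ trivIrr G) :
    (χ : G → ℂ) ≠ (fun _ => (1 : ℂ)) := by
  intro h1
  apply h
  apply Subtype.ext
  rw [h1]
  rfl

theorem cdf_linIrr_ne_const_one (μ : G →* ℂˣ) (h : μ ≠ 1) :
    (linIrr μ : G → ℂ) ≠ (fun _ => (1 : ℂ)) := by
  intro h1
  apply h
  ext g
  have := congrFun h1 g
  rw [linIrr_apply] at this
  simpa using this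

theorem cdf_sum_ne_triv [Finite G] (u : G) (hu : u ≠ 1) [Fintype (Cfsg.IrrCharacter G)]
    [DecidableEq (Cfsg.IrrCharacter G)] :
    ∑ χ ∈ Finset.univ.erase (trivIrr G), (χ : G → ℂ) u * (χ : G → ℂ) 1 = -1 := by
  classical
  haveI := Fintype.ofFinite G
  have h := irr_regular_indicator u
  rw [if_neg hu, ← Finset.add_sum_erase Finset.univ _ (Finset.mem_univ (trivIrr G))] at h
  simp only [trivIrr_apply, mul_one] at h
  linear_combination h

theorem cdf_hom_value [Finite G] (u : G) (c : ℂ)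
    (hyp : ∀ χ : Cfsg.IrrCharacter G, (χ : G → ℂ) ≠ (fun _ => (1 : ℂ)) →
      ((χ : G → ℂ) 1 - (χ : G → ℂ) u = c ∨ (χ : G → ℂ) u = 0))
    (μ : G →* ℂˣ) (hμ : μ ≠ 1) : ((μ u : ℂˣ) : ℂ) = 1 - c := by
  rcases hyp (linIrr μ) (cdf_linIrr_ne_const_one μ hμ) with h | h
  · rw [linIrr_apply, linIrr_apply, map_one] at h
    rw [← h]
    simp
  · rw [linIrr_apply] at h
    exact absurd h (Units.ne_zero _)

theorem cdf_no_nonneg [Finite G] (u : G) (hu : u ≠ 1)
    (h : ∀ χ : Cfsg.IrrCharacter G, χ ≠ trivIrr G → 0 ≤ ((χ : G → ℂ) u * (χ : G → ℂ) 1).re) :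
    False := by
  classical
  haveI : Fintype (Cfsg.IrrCharacter G) := Fintype.ofFinite _
  have h1 := congrArg Complex.re (cdf_sum_ne_triv u hu)
  rw [Complex.re_sum] at h1
  have h2 : 0 ≤ ∑ χ ∈ Finset.univ.erase (trivIrr G), ((χ : G → ℂ) u * (χ : G → ℂ) 1).re :=
    Finset.sum_nonneg (fun χ hχ => h χ (Finset.mem_erase.1 hχ).1)
  rw [h1] at h2
  simp at h2
  linarith

theorem cdf_exists_hom_ne_one [Finite G] (hG : commutator G ≠ ⊤) : ∃ μ : G →* ℂˣ, μ ≠ 1 := by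
  have : ∃ x : G, x ∉ commutator G := by
    by_contra hcon
    push Not at hcon
    exact hG (eq_top_iff.2 (fun x _ => hcon x))
  obtain ⟨x, hx⟩ := this
  have hx' : (Abelianization.of x : Abelianization G) ∉ (⊥ : Subgroup (Abelianization G)) := by
    rw [Subgroup.mem_bot]
    intro h
    apply hx
    rw [← Abelianization.ker_of (G := G), MonoidHom.mem_ker]
    exact h
  obtain ⟨φ, -, hφ⟩ := exists_linChar_ne_one (W := Abelianization G) (fun a b => mul_comm a b) ⊥ _ hx'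
  refine ⟨φ.comp Abelianization.of, ?_⟩
  intro h
  apply hφ
  have := DFunLike.congr_fun h x
  simpa using this

theorem cdf_c_ne_zero [Finite G] (u : G) (hu : u ≠ 1) (c : ℂ)
    (hyp : ∀ χ : Cfsg.IrrCharacter G, (χ : G → ℂ) ≠ (fun _ => (1 : ℂ)) →
      ((χ : G → ℂ) 1 - (χ : G → ℂ) u = c ∨ (χ : G → ℂ) u = 0)) : c ≠ 0 := by
  intro hc
  apply cdf_no_nonneg u hu
  intro χ hχ
  obtain ⟨hd, _⟩ := charDegree_irr χ
  rcases hyp χ (cdf_ne_const_one_of_ne_triv χ hχ) with h | h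
  · rw [hc, sub_eq_zero] at h
    rw [← h, ← hd]
    norm_cast
    positivity
  · rw [h, zero_mul]
    simp

theorem cdf_partA [Finite G] (u : G) (hu : u ≠ 1) (c : ℂ)
    (hyp : ∀ χ : Cfsg.IrrCharacter G, (χ : G → ℂ) ≠ (fun _ => (1 : ℂ)) →
      ((χ : G → ℂ) 1 - (χ : G → ℂ) u = c ∨ (χ : G → ℂ) u = 0))
    (hG : commutator G ≠ ⊤) :
    c = 2 ∧ ∃ μ : G →* ℂˣ, μ ≠ 1 ∧ ((μ u : ℂˣ) : ℂ) = -1 ∧ ∀ ν : G →* ℂˣ, ν ≠ 1 → ν = μ := by
  have hc0 := cdf_c_ne_zero u hu c hyp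
  have hval := cdf_hom_value u c hyp
  have hsq : ∀ ν : G →* ℂˣ, ν ≠ 1 → ν * ν = 1 := by
    intro ν hν
    by_contra h2
    have h3 := hval (ν * ν) h2
    have h4 := hval ν hν
    rw [MonoidHom.mul_apply, Units.val_mul, h4] at h3
    have h5 : (1 - c) ≠ 0 := by rw [← h4]; exact Units.ne_zero _
    have h6 : 1 - c = 1 := mul_left_cancel₀ h5 (by rw [h3, mul_one])
    apply hc0
    linear_combination -h6
  have hneg : ∀ ν : G →* ℂˣ, ν ≠ 1 → ((ν u : ℂˣ) : ℂ) = -1 := by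
    intro ν hν
    have h1 := DFunLike.congr_fun (hsq ν hν) u
    rw [MonoidHom.mul_apply, MonoidHom.one_apply] at h1
    have h2 : ((ν u : ℂˣ) : ℂ) * ((ν u : ℂˣ) : ℂ) = 1 := by
      rw [← Units.val_mul, h1]; rfl
    have h3 : ((ν u : ℂˣ) : ℂ) = 1 ∨ ((ν u : ℂˣ) : ℂ) = -1 := mul_self_eq_one_iff.1 h2
    rcases h3 with h3 | h3
    · exfalso
      apply hc0
      have := hval ν hν
      rw [h3] at this
      linear_combination this
    · exact h3
  obtain ⟨μ, hμ⟩ := cdf_exists_hom_ne_one hG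
  have hc2 : c = 2 := by
    have h1 := hval μ hμ
    rw [hneg μ hμ] at h1
    linear_combination h1
  refine ⟨hc2, μ, hμ, hneg μ hμ, ?_⟩
  intro ν hν
  have h1 : μ * ν = 1 := by
    by_contra h2
    have h3 := hneg (μ * ν) h2
    rw [MonoidHom.mul_apply, Units.val_mul, hneg μ hμ, hneg ν hν] at h3
    norm_num at h3
  have h2 := hsq μ hμ
  ext g
  have e1 := DFunLike.congr_fun h1 g
  have e2 := DFunLike.congr_fun h2 g
  rw [MonoidHom.mul_apply, MonoidHom.one_apply] at e1 e2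
  have e3 : ν g = μ g := by
    have : μ g * ν g = μ g * μ g := by rw [e1, e2]
    exact mul_left_cancel this
  rw [e3]

theorem cdf_linear_cases (χ : Cfsg.IrrCharacter G) (h1 : (χ : G → ℂ) 1 = 1) :
    χ = linIrr (irrLinearHom χ h1) := by
  apply Subtype.ext
  funext g
  rw [linIrr_apply, irrLinearHom_apply]

theorem cdf_linIrr_one : linIrr (1 : G →* ℂˣ) = trivIrr G := by
  apply Subtype.ext
  funext g
  rw [linIrr_apply, trivIrr_apply]
  simp

theorem cdf_degree_ge_two (χ : Cfsg.IrrCharacter G) (h : (χ : G → ℂ) 1 ≠ 1) :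
    2 ≤ Cfsg.charDegree (χ : G → ℂ) := by
  obtain ⟨hd, hpos⟩ := charDegree_irr χ
  by_contra hlt
  have : Cfsg.charDegree (χ : G → ℂ) = 1 := by omega
  rw [this] at hd
  apply h
  rw [← hd]
  simp

theorem cdf_term_nonneg (χ : Cfsg.IrrCharacter G) (u : G) (hd2 : 2 ≤ Cfsg.charDegree (χ : G → ℂ))
    (h : (χ : G → ℂ) 1 - (χ : G → ℂ) u = 2 ∨ (χ : G → ℂ) u = 0) :
    ∃ r : ℝ, 0 ≤ r ∧ (χ : G → ℂ) u * (χ : G → ℂ) 1 = (r : ℂ) ∧ (r = 0 → (χ : G → ℂ) u = 0) := by
  obtain ⟨hd, hpos⟩ := charDegree_irr χ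
  set d := Cfsg.charDegree (χ : G → ℂ) with hdd
  rcases h with h | h
  · have hu : (χ : G → ℂ) u = ((d : ℝ) - 2 : ℝ) := by
      push_cast
      rw [hd]
      linear_combination -h
    refine ⟨((d : ℝ) - 2) * d, ?_, ?_, ?_⟩
    · have : (2 : ℝ) ≤ d := by exact_mod_cast hd2
      have h2 : (0 : ℝ) ≤ d - 2 := by linarith
      positivity
    · rw [hu, ← hd]
      push_cast
      ring
    · intro h0
      have hdpos : (d : ℝ) ≠ 0 := by
        have : (0 : ℝ) < d := by exact_mod_cast hpos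
        exact this.ne'
      have : (d : ℝ) - 2 = 0 := by
        rcases mul_eq_zero.1 h0 with h | h
        · exact h
        · exact absurd h hdpos
      rw [hu, this]
      simp
  · exact ⟨0, le_refl _, by rw [h, zero_mul]; simp, fun _ => h⟩

theorem cdf_partB [Finite G] (u : G) (hu : u ≠ 1)
    (hyp : ∀ χ : Cfsg.IrrCharacter G, (χ : G → ℂ) ≠ (fun _ => (1 : ℂ)) →
      ((χ : G → ℂ) 1 - (χ : G → ℂ) u = 2 ∨ (χ : G → ℂ) u = 0)) :
    commutator G ≠ ⊤ := by
  intro hG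
  apply cdf_no_nonneg u hu
  intro χ hχ
  have h1 : (χ : G → ℂ) 1 ≠ 1 := by
    intro h1
    apply hχ
    apply Subtype.ext
    funext g
    rw [trivIrr_apply]
    exact irr_linear_commutator χ h1 (by rw [hG]; exact Subgroup.mem_top g)
  obtain ⟨r, hr, hr2, -⟩ := cdf_term_nonneg χ u (cdf_degree_ge_two χ h1)
    (hyp χ (cdf_ne_const_one_of_ne_triv χ hχ))
  rw [hr2]
  simpa using hr

theorem cdf_partC1 [Finite G] (u : G) (hu : u ≠ 1)
    (hyp : ∀ χ : Cfsg.IrrCharacter G, (χ : G → ℂ) ≠ (fun _ => (1 : ℂ)) →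
      ((χ : G → ℂ) 1 - (χ : G → ℂ) u = 2 ∨ (χ : G → ℂ) u = 0))
    (μ : G →* ℂˣ) (hμ : μ ≠ 1) (hμu : ((μ u : ℂˣ) : ℂ) = -1)
    (huniq : ∀ ν : G →* ℂˣ, ν ≠ 1 → ν = μ)
    (χ : Cfsg.IrrCharacter G) (h1 : χ ≠ trivIrr G) (h2 : χ ≠ linIrr μ) :
    (χ : G → ℂ) u = 0 := by
  classical
  haveI : Fintype (Cfsg.IrrCharacter G) := Fintype.ofFinite _
  have hμt : linIrr μ ≠ trivIrr G := by
    intro h
    apply cdf_linIrr_ne_const_one μ hμ
    rw [h]
    rfl
  have hdeg : ∀ ψ : Cfsg.IrrCharacter G, ψ ≠ trivIrr G → ψ ≠ linIrr μ →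
      2 ≤ Cfsg.charDegree (ψ : G → ℂ) := by
    intro ψ hψ1 hψ2
    apply cdf_degree_ge_two
    intro hone
    have hψ := cdf_linear_cases ψ hone
    by_cases hν : irrLinearHom ψ hone = 1
    · rw [hν, cdf_linIrr_one] at hψ
      exact hψ1 hψ
    · rw [huniq _ hν] at hψ
      exact hψ2 hψ
  have hterm : ∀ ψ : Cfsg.IrrCharacter G, ψ ≠ trivIrr G → ψ ≠ linIrr μ →
      ∃ r : ℝ, 0 ≤ r ∧ (ψ : G → ℂ) u * (ψ : G → ℂ) 1 = (r : ℂ) ∧ (r = 0 → (ψ : G → ℂ) u = 0) :=
    fun ψ hψ1 hψ2 => cdf_term_nonneg ψ u (hdeg ψ hψ1 hψ2) (hyp ψ (cdf_ne_const_one_of_ne_triv ψ hψ1))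
  have hsum := cdf_sum_ne_triv u hu
  rw [← Finset.add_sum_erase _ _ (Finset.mem_erase.2 ⟨hμt, Finset.mem_univ (linIrr μ)⟩)] at hsum
  rw [linIrr_apply, linIrr_apply, map_one, hμu] at hsum
  have hsum0 : ∑ ψ ∈ (Finset.univ.erase (trivIrr G)).erase (linIrr μ),
      (ψ : G → ℂ) u * (ψ : G → ℂ) 1 = 0 := by
    have : ((1 : ℂˣ) : ℂ) = 1 := rfl
    rw [this] at hsum
    linear_combination hsum
  have hre := congrArg Complex.re hsum0
  rw [Complex.re_sum] at hre
  have hnn : ∀ ψ ∈ (Finset.univ.erase (trivIrr G)).erase (linIrr μ),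
      0 ≤ ((ψ : G → ℂ) u * (ψ : G → ℂ) 1).re := by
    intro ψ hψ
    obtain ⟨r, hr, hr2, -⟩ := hterm ψ (Finset.mem_erase.1 (Finset.mem_erase.1 hψ).2).1
      (Finset.mem_erase.1 hψ).1
    rw [hr2]
    simpa using hr
  have hz := (Finset.sum_eq_zero_iff_of_nonneg hnn).1 hre χ
    (Finset.mem_erase.2 ⟨h2, Finset.mem_erase.2 ⟨h1, Finset.mem_univ χ⟩⟩)
  obtain ⟨r, hr, hr2, hr3⟩ := hterm χ h1 h2
  apply hr3
  rw [hr2] at hz
  simpa using hz

theorem cdf_partC2 [Finite G] (u : G) (hu : u ≠ 1)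
    (hyp : ∀ χ : Cfsg.IrrCharacter G, (χ : G → ℂ) ≠ (fun _ => (1 : ℂ)) →
      ((χ : G → ℂ) 1 - (χ : G → ℂ) u = 2 ∨ (χ : G → ℂ) u = 0))
    (μ : G →* ℂˣ) (hμ : μ ≠ 1) (hμu : ((μ u : ℂˣ) : ℂ) = -1)
    (huniq : ∀ ν : G →* ℂˣ, ν ≠ 1 → ν = μ) :
    Nat.card (Subgroup.centralizer ({u} : Set G)) = 2 := by
  classical
  haveI := Fintype.ofFinite G
  haveI : Fintype (Cfsg.IrrCharacter G) := Fintype.ofFinite _
  have hμt : linIrr μ ≠ trivIrr G := by
    intro h
    apply cdf_linIrr_ne_const_one μ hμ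
    rw [h]
    rfl
  have h := knb_sum_normsq_all u
  rw [← Finset.add_sum_erase _ _ (Finset.mem_univ (trivIrr G)),
    ← Finset.add_sum_erase _ _ (Finset.mem_erase.2 ⟨hμt, Finset.mem_univ (linIrr μ)⟩)] at h
  have hz : ∑ χ ∈ (Finset.univ.erase (trivIrr G)).erase (linIrr μ), ‖(χ : G → ℂ) u‖ ^ 2 = 0 := by
    apply Finset.sum_eq_zero
    intro χ hχ
    rw [cdf_partC1 u hu hyp μ hμ hμu huniq χ (Finset.mem_erase.1 (Finset.mem_erase.1 hχ).2).1
      (Finset.mem_erase.1 hχ).1]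
    simp
  rw [hz, linIrr_apply, hμu, trivIrr_apply] at h
  have h' : (Nat.card (Subgroup.centralizer ({u} : Set G)) : ℝ) = 2 := by
    rw [← h]; norm_num
  exact_mod_cast h'

theorem cdf_order_two_of_card_centralizer [Finite G] (u : G) (hu : u ≠ 1)
    (hc : Nat.card (Subgroup.centralizer ({u} : Set G)) = 2) :
    orderOf u = 2 ∧ Subgroup.centralizer ({u} : Set G) = Subgroup.zpowers u := by
  have hle : Subgroup.zpowers u ≤ Subgroup.centralizer ({u} : Set G) := by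
    rw [Subgroup.zpowers_le, Subgroup.mem_centralizer_singleton_iff]
  have hdvd : orderOf u ∣ 2 := by
    rw [← hc, ← Nat.card_zpowers]
    exact Subgroup.card_dvd_of_le hle
  have h1 : orderOf u ≠ 1 := by
    rw [Ne, orderOf_eq_one_iff]
    exact hu
  have h2 : orderOf u = 2 := by
    rcases (Nat.dvd_prime Nat.prime_two).1 hdvd with h | h
    · exact absurd h h1
    · exact h
  refine ⟨h2, ?_⟩
  symm
  apply Subgroup.eq_of_le_of_card_ge hle
  rw [hc, Nat.card_zpowers, h2]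

theorem cdf_mem_zpowers_order_two (u z : G) (hu2 : orderOf u = 2) (hz : z ∈ Subgroup.zpowers u) :
    z = 1 ∨ z = u := by
  obtain ⟨k, rfl⟩ := Subgroup.mem_zpowers_iff.1 hz
  have hsq : u ^ (2 : ℤ) = 1 := by
    have := pow_orderOf_eq_one u
    rw [hu2] at this
    exact_mod_cast this
  rcases Int.emod_two_eq_zero_or_one k with h | h
  · left
    have : k = 2 * (k / 2) := by omega
    rw [this, zpow_mul, hsq, one_zpow]
  · right
    have : k = 2 * (k / 2) + 1 := by omega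
    rw [this, zpow_add, zpow_mul, hsq, one_zpow, one_mul, zpow_one]

theorem cdf_sylow_card_two [Finite G] (u : G) (hu : u ≠ 1) (hu2 : orderOf u = 2)
    (hcu : Subgroup.centralizer ({u} : Set G) = Subgroup.zpowers u) :
    ∃ m : ℕ, Nat.card G = 2 * m ∧ Nat.Coprime m 2 := by
  haveI : Fact (Nat.Prime 2) := ⟨Nat.prime_two⟩
  have hpz : IsPGroup 2 (Subgroup.zpowers u) := by
    apply IsPGroup.of_card (n := 1)
    rw [Nat.card_zpowers, hu2, pow_one]
  obtain ⟨Q, hQ⟩ := hpz.exists_le_sylow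
  have huQ : u ∈ (Q : Subgroup G) := hQ (Subgroup.mem_zpowers u)
  haveI : Nontrivial (Q : Subgroup G) := ⟨⟨⟨u, huQ⟩, 1, fun h => hu (congrArg Subtype.val h)⟩⟩
  haveI := IsPGroup.center_nontrivial Q.isPGroup'
  obtain ⟨z, hz⟩ := exists_ne (1 : Subgroup.center (Q : Subgroup G))
  have hzc : (z : (Q : Subgroup G)) * ⟨u, huQ⟩ = ⟨u, huQ⟩ * (z : (Q : Subgroup G)) :=
    (Subgroup.mem_center_iff.1 z.2 ⟨u, huQ⟩).symm
  have hzc' : ((z : (Q : Subgroup G)) : G) * u = u * ((z : (Q : Subgroup G)) : G) :=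
    congrArg Subtype.val hzc
  have hzmem : ((z : (Q : Subgroup G)) : G) ∈ Subgroup.zpowers u := by
    rw [← hcu, Subgroup.mem_centralizer_singleton_iff]
    exact hzc'
  have hzu : ((z : (Q : Subgroup G)) : G) = u := by
    rcases cdf_mem_zpowers_order_two u _ hu2 hzmem with h | h
    · exfalso
      apply hz
      apply Subtype.ext
      apply Subtype.ext
      exact h
    · exact h
  have hQle : (Q : Subgroup G) ≤ Subgroup.zpowers u := by
    intro x hx
    rw [← hcu, Subgroup.mem_centralizer_singleton_iff]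
    have := Subgroup.mem_center_iff.1 z.2 ⟨x, hx⟩
    have h2 := congrArg Subtype.val this
    simp only [Subgroup.coe_mul] at h2
    rw [hzu] at h2
    exact h2
  have hQeq : (Q : Subgroup G) = Subgroup.zpowers u := le_antisymm hQle hQ
  have hQcard : Nat.card (Q : Subgroup G) = 2 := by
    rw [hQeq, Nat.card_zpowers, hu2]
  refine ⟨(Q : Subgroup G).index, ?_, ?_⟩
  · have := Subgroup.card_mul_index (Q : Subgroup G)
    rw [hQcard] at this
    exact this.symm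
  · have := Q.card_coprime_index
    rw [hQcard] at this
    exact this.symm

theorem cdf_sup_oddCore [Finite G] (u : G) (hu : u ≠ 1) (hu2 : orderOf u = 2)
    (hcu : Subgroup.centralizer ({u} : Set G) = Subgroup.zpowers u)
    (μ : G →* ℂˣ) (hμu : ((μ u : ℂˣ) : ℂ) = -1)
    (hpm : ∀ g : G, ((μ g : ℂˣ) : ℂ) = 1 ∨ ((μ g : ℂˣ) : ℂ) = -1) :
    Subgroup.zpowers u ⊔ Cfsg.oddCore G = ⊤ := by
  have hker : ∀ g : G, g ∈ μ.ker ↔ ((μ g : ℂˣ) : ℂ) = 1 := by
    intro g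
    rw [MonoidHom.mem_ker]
    constructor
    · intro h; rw [h]; rfl
    · intro h; exact Units.ext h
  have hidx : μ.ker.index = 2 := by
    rw [Subgroup.index_eq_two_iff]
    refine ⟨u, fun b => ?_⟩
    rw [hker, hker, map_mul, Units.val_mul, hμu]
    rcases hpm b with h | h
    · rw [h]
      right
      constructor
      · rfl
      · norm_num
    · rw [h]
      left
      constructor
      · norm_num
      · norm_num
  obtain ⟨m, hm, hcop⟩ := cdf_sylow_card_two u hu hu2 hcu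
  have hK : Nat.card μ.ker = m := by
    have := Subgroup.card_mul_index μ.ker
    rw [hidx, hm] at this
    omega
  have hKle : μ.ker ≤ Cfsg.oddCore G :=
    Cfsg.Agent.Lib.Helper18.le_pPrimeCore_h18 (MonoidHom.normal_ker μ) (by rw [hK]; exact hcop)
  rw [eq_top_iff]
  intro g _
  rcases hpm g with h | h
  · exact (le_sup_right : Cfsg.oddCore G ≤ _) (hKle ((hker g).2 h))
  · have h1 : g * u⁻¹ ∈ μ.ker := by
      rw [hker, map_mul, map_inv, Units.val_mul, Units.val_inv_eq_inv_val, hμu, h]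
      norm_num
    have h2 : g = (g * u⁻¹) * u := by group
    rw [h2, sup_comm]
    exact Subgroup.mul_mem_sup (hKle h1) (Subgroup.mem_zpowers u)

theorem cdf_partD [Finite G] (u : G) (hu2 : orderOf u = 2)
    (hsup : Subgroup.zpowers u ⊔ Cfsg.oddCore G = ⊤) : commutator G ≠ ⊤ := by
  intro hG
  haveI : (Cfsg.oddCore G).Normal := Cfsg.Agent.Lib.Helper18.pPrimeCore_normal_h18 2 G
  have hle : commutator G ≤ Cfsg.oddCore G := by
    apply Subgroup.Normal.commutator_le_of_self_sup_commutative_eq_top (H := Subgroup.zpowers u)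
    · rw [sup_comm]; exact hsup
    · infer_instance
  rw [hG, top_le_iff] at hle
  have hcop := Cfsg.Agent.Lib.Helper18.pPrimeCore_card_coprime_h18 (G := G) 2
  have hcop' : (Nat.card (Cfsg.oddCore G)).Coprime 2 := hcop
  rw [hle, Subgroup.card_top] at hcop'
  have hdvd : 2 ∣ Nat.card G := by
    rw [← hu2]
    exact orderOf_dvd_natCard u
  have := Nat.Coprime.eq_one_of_dvd hcop'.symm hdvd
  omega

theorem const_diff_main {G : Type*} [Group G] [Finite G] (u : G) (hu : u ≠ 1) (c : ℂ)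
    (hyp : ∀ χ : Cfsg.IrrCharacter G, (χ : G → ℂ) ≠ (fun _ => (1 : ℂ)) →
      ((χ : G → ℂ) 1 - (χ : G → ℂ) u = c ∨ (χ : G → ℂ) u = 0)) :
    ((orderOf u = 2 ∧ Subgroup.zpowers u ⊔ Cfsg.oddCore G = ⊤ ∧
        Subgroup.centralizer ({u} : Set G) = Subgroup.zpowers u) ↔ commutator G ≠ ⊤) ∧
      (commutator G ≠ ⊤ ↔ c = 2) := by
  have hstruct : commutator G ≠ ⊤ → (orderOf u = 2 ∧ Subgroup.zpowers u ⊔ Cfsg.oddCore G = ⊤ ∧
        Subgroup.centralizer ({u} : Set G) = Subgroup.zpowers u) := by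
    intro hG
    obtain ⟨hc, μ, hμ, hμu, huniq⟩ := cdf_partA u hu c hyp hG
    subst hc
    have hcard := cdf_partC2 u hu hyp μ hμ hμu huniq
    obtain ⟨hu2, hcu⟩ := cdf_order_two_of_card_centralizer u hu hcard
    have hsq : μ * μ = 1 := by
      by_contra h2
      have h3 := huniq _ h2
      apply hμ
      ext g
      have := DFunLike.congr_fun h3 g
      rw [MonoidHom.mul_apply] at this
      have h4 : μ g = 1 := by
        have : μ g * μ g = μ g * 1 := by rw [this, mul_one]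
        exact mul_left_cancel this
      rw [h4]
      rfl
    have hpm : ∀ g : G, ((μ g : ℂˣ) : ℂ) = 1 ∨ ((μ g : ℂˣ) : ℂ) = -1 := by
      intro g
      have h1 := DFunLike.congr_fun hsq g
      rw [MonoidHom.mul_apply, MonoidHom.one_apply] at h1
      have h2 : ((μ g : ℂˣ) : ℂ) * ((μ g : ℂˣ) : ℂ) = 1 := by
        rw [← Units.val_mul, h1]; rfl
      exact mul_self_eq_one_iff.1 h2
    exact ⟨hu2, cdf_sup_oddCore u hu hu2 hcu μ hμu hpm, hcu⟩
  refine ⟨⟨fun h => cdf_partD u h.1 h.2.1, hstruct⟩, ⟨fun hG => (cdf_partA u hu c hyp hG).1, ?_⟩⟩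
  intro hc
  subst hc
  exact cdf_partB u hu hyp

end Cfsg.Agent.Lib.Helper25
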