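import Mathlib
import Cfsg.Prelude.Def_Characters
import Cfsg.Agent.Lib.Helper25.CharOrth
import Cfsg.Agent.Lib.Helper25.CharLinear
import Cfsg.Agent.Lib.Helper25.CharAbelian
import Cfsg.Agent.Lib.Helper25.CharQuot
import Cfsg.Agent.Lib.helper7.CharCentral
import Cfsg.Agent.Lib.Helper24.GaloisNorm

/-! Counting the irreducible characters over a faithful central character by special classes (S4567). -/

set_option autoImplicit false

namespace Cfsg.Agent.Lib.Helper25
open Cfsg.Agent.Lib.helper7 Cfsg.Agent.Lib.Helper24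
open scoped ComplexConjugate

theorem spc_class_sum {Q : Type*} [Group Q] [Fintype Q] [DecidableEq (ConjClasses Q)]
    (C : ConjClasses Q) :
    ∑ q ∈ Finset.univ.filter (fun q : Q => ConjClasses.mk q = C),
      Nat.card (Subgroup.centralizer ({q} : Set Q)) = Nat.card Q := by
  classical
  obtain ⟨q0, rfl⟩ := ConjClasses.exists_rep C
  set S := Finset.univ.filter (fun q : Q => ConjClasses.mk q = ConjClasses.mk q0) with hS
  have hk : ∀ q ∈ S, S.card * Nat.card (Subgroup.centralizer ({q} : Set Q)) = Nat.card Q := by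
    intro q hq
    rw [hS, Finset.mem_filter] at hq
    have hqc : IsConj q q0 := ConjClasses.mk_eq_mk_iff_isConj.mp hq.2
    rw [← Cfsg.Agent.Lib.Helper25.card_conj_mul_card_centralizer q]
    congr 1
    rw [Nat.card_eq_fintype_card, Fintype.card_subtype]
    congr 1
    ext x
    simp only [hS, Finset.mem_filter, Finset.mem_univ, true_and]
    rw [ConjClasses.mk_eq_mk_iff_isConj]
    constructor
    · intro h
      exact hqc.trans h.symm
    · intro h
      exact (hqc.symm.trans h).symm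
  have hpos : 0 < S.card := by
    apply Finset.card_pos.mpr
    exact ⟨q0, by simp [hS]⟩
  have h2 : S.card * ∑ q ∈ S, Nat.card (Subgroup.centralizer ({q} : Set Q)) =
      S.card * Nat.card Q := by
    rw [Finset.mul_sum, Finset.sum_congr rfl hk, Finset.sum_const, smul_eq_mul]
  exact Nat.eq_of_mul_eq_mul_left hpos h2

theorem spc_class_count {Q : Type*} [Group Q] [Fintype Q] (P : Q → Prop) [DecidablePred P]
    (hP : ∀ q y : Q, P (y * q * y⁻¹) ↔ P q) :
    ∑ q : Q, (if P q then Nat.card (Subgroup.centralizer ({q} : Set Q)) else 0) =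
      Nat.card Q * Nat.card {C : ConjClasses Q // ∃ q, ConjClasses.mk q = C ∧ P q} := by
  classical
  have hconj : ∀ q q' : Q, IsConj q q' → (P q ↔ P q') := by
    intro q q' h
    obtain ⟨c, hc⟩ := isConj_iff.mp h
    rw [← hc, hP]
  rw [← Finset.sum_fiberwise (s := Finset.univ) (g := fun q : Q => ConjClasses.mk q)]
  have hterm : ∀ C : ConjClasses Q,
      (∑ q ∈ Finset.univ.filter (fun q : Q => ConjClasses.mk q = C),
        (if P q then Nat.card (Subgroup.centralizer ({q} : Set Q)) else 0)) =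
      if (∃ q, ConjClasses.mk q = C ∧ P q) then Nat.card Q else 0 := by
    intro C
    by_cases hC : ∃ q, ConjClasses.mk q = C ∧ P q
    · rw [if_pos hC, ← spc_class_sum C]
      apply Finset.sum_congr rfl
      intro q hq
      rw [Finset.mem_filter] at hq
      obtain ⟨q1, hq1, hPq1⟩ := hC
      have : IsConj q q1 := ConjClasses.mk_eq_mk_iff_isConj.mp (hq.2.trans hq1.symm)
      rw [if_pos ((hconj q q1 this).mpr hPq1)]
    · rw [if_neg hC]
      apply Finset.sum_eq_zero
      intro q hq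
      rw [Finset.mem_filter] at hq
      rw [if_neg]
      intro hPq
      exact hC ⟨q, hq.2, hPq⟩
  rw [Finset.sum_congr rfl (fun C _ => hterm C), Finset.sum_ite, Finset.sum_const_zero, add_zero,
    Finset.sum_const, smul_eq_mul, mul_comm]
  congr 1
  rw [Nat.card_eq_fintype_card, Fintype.card_subtype]

def spc_special {G : Type*} [Group G] (N : Subgroup G) (g : G) : Prop :=
  ∀ x : G, x⁻¹ * g⁻¹ * x * g ∈ N → x * g = g * x

theorem spc_special_mul {G : Type*} [Group G] (N : Subgroup G) (hN : N ≤ Subgroup.center G)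
    (g n : G) (hn : n ∈ N) (h : spc_special N g) : spc_special N (g * n) := by
  intro x hx
  have hc : ∀ y : G, y * n = n * y := fun y => Subgroup.mem_center_iff.mp (hN hn) y
  have e : x⁻¹ * (g * n)⁻¹ * x * (g * n) = x⁻¹ * g⁻¹ * x * g := by
    have hc' : ∀ y : G, y * n⁻¹ = n⁻¹ * y := fun y =>
      Subgroup.mem_center_iff.mp (hN (N.inv_mem hn)) y
    rw [mul_inv_rev]
    calc x⁻¹ * (n⁻¹ * g⁻¹) * x * (g * n) = x⁻¹ * g⁻¹ * x * g * (n⁻¹ * n) := by
          rw [← hc' g⁻¹]
          have : x⁻¹ * (g⁻¹ * n⁻¹) * x * (g * n) = x⁻¹ * g⁻¹ * (n⁻¹ * x) * (g * n) := by group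
          rw [this, ← hc' x]
          have : x⁻¹ * g⁻¹ * (x * n⁻¹) * (g * n) = x⁻¹ * g⁻¹ * x * (n⁻¹ * g) * n := by group
          rw [this, ← hc' g]
          group
      _ = x⁻¹ * g⁻¹ * x * g := by rw [inv_mul_cancel, mul_one]
  rw [e] at hx
  have := h x hx
  rw [← mul_assoc, this, mul_assoc, hc x, ← mul_assoc]

theorem spc_special_conj {G : Type*} [Group G] (N : Subgroup G) [N.Normal]
    (g y : G) (h : spc_special N g) : spc_special N (y * g * y⁻¹) := by
  intro x hx
  have e : y⁻¹ * (x⁻¹ * (y * g * y⁻¹)⁻¹ * x * (y * g * y⁻¹)) * y⁻¹⁻¹ =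
      (y⁻¹ * x * y)⁻¹ * g⁻¹ * (y⁻¹ * x * y) * g := by group
  have h1 := ‹N.Normal›.conj_mem _ hx y⁻¹
  rw [e] at h1
  have h2 := h _ h1
  calc x * (y * g * y⁻¹) = y * ((y⁻¹ * x * y) * g) * y⁻¹ := by group
    _ = y * (g * (y⁻¹ * x * y)) * y⁻¹ := by rw [h2]
    _ = y * g * y⁻¹ * x := by group

def spc_Sp {G : Type*} [Group G] (N : Subgroup G) [N.Normal] (q : G ⧸ N) : Prop :=
  ∃ g : G, (QuotientGroup.mk g : G ⧸ N) = q ∧ spc_special N g

theorem spc_Sp_mk {G : Type*} [Group G] (N : Subgroup G) [N.Normal]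
    (hN : N ≤ Subgroup.center G) (g : G) :
    spc_Sp N (QuotientGroup.mk g : G ⧸ N) ↔ spc_special N g := by
  constructor
  · rintro ⟨g', hg', hs⟩
    have hmem : g'⁻¹ * g ∈ N := QuotientGroup.eq.mp hg'
    have := spc_special_mul N hN g' _ hmem hs
    rwa [mul_inv_cancel_left] at this
  · intro h
    exact ⟨g, rfl, h⟩

theorem spc_Sp_conj {G : Type*} [Group G] (N : Subgroup G) [N.Normal]
    (q r : G ⧸ N) : spc_Sp N (r * q * r⁻¹) ↔ spc_Sp N q := by
  have key : ∀ q r : G ⧸ N, spc_Sp N q → spc_Sp N (r * q * r⁻¹) := by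
    intro q r
    obtain ⟨y, rfl⟩ := QuotientGroup.mk_surjective r
    rintro ⟨g, rfl, hs⟩
    exact ⟨y * g * y⁻¹, by simp, spc_special_conj N g y hs⟩
  constructor
  · intro h
    have := key _ r⁻¹ h
    rwa [show r⁻¹ * (r * q * r⁻¹) * r⁻¹⁻¹ = q by group] at this
  · exact key q r

theorem spc_centralizer_eq {G : Type*} [Group G] (N : Subgroup G) [N.Normal]
    (x : G) (hx : spc_special N x) :
    Subgroup.centralizer ({x} : Set G) =
      (Subgroup.centralizer ({(QuotientGroup.mk x : G ⧸ N)} : Set (G ⧸ N))).comap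
        (QuotientGroup.mk' N) := by
  ext y
  rw [Subgroup.mem_comap, Subgroup.mem_centralizer_iff, Subgroup.mem_centralizer_iff]
  simp only [Set.mem_singleton_iff, forall_eq, QuotientGroup.mk'_apply]
  constructor
  · intro h
    rw [← QuotientGroup.mk_mul, ← QuotientGroup.mk_mul, h]
  · intro h
    have h1 : y⁻¹ * x⁻¹ * y * x ∈ N := by
      rw [← QuotientGroup.eq_one_iff]
      simp only [QuotientGroup.mk_mul, QuotientGroup.mk_inv]
      rw [mul_assoc, ← h]
      group
    exact (hx y h1).symm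

theorem spc_card_comap {G : Type*} [Group G] [Finite G] (N : Subgroup G) [N.Normal]
    (K : Subgroup (G ⧸ N)) :
    Nat.card (K.comap (QuotientGroup.mk' N)) = Nat.card N * Nat.card K := by
  have h1 : (K.comap (QuotientGroup.mk' N)).index = K.index :=
    Subgroup.index_comap_of_surjective K (QuotientGroup.mk'_surjective N)
  have h2 := Subgroup.card_mul_index (K.comap (QuotientGroup.mk' N))
  have h3 := Subgroup.card_mul_index K
  have h4 := Subgroup.card_eq_card_quotient_mul_card_subgroup N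
  have hpos : 0 < K.index := Nat.pos_of_ne_zero Subgroup.index_ne_zero_of_finite
  apply Nat.eq_of_mul_eq_mul_right hpos
  rw [← h1, h2, h4, ← h3, h1]
  ring

noncomputable def spc_prodEquiv {G : Type*} [Group G] (N : Subgroup G) [N.Normal] :
    (G ⧸ N) × N ≃ G where
  toFun p := p.1.out * (p.2 : G)
  invFun x := ((QuotientGroup.mk x : G ⧸ N),
    ⟨(QuotientGroup.mk x : G ⧸ N).out⁻¹ * x, by
      rw [← QuotientGroup.eq]
      exact QuotientGroup.out_eq' _⟩)
  left_inv := by
    rintro ⟨q, n⟩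
    have h1 : (QuotientGroup.mk (q.out * (n : G)) : G ⧸ N) = q := by
      rw [QuotientGroup.mk_mul, QuotientGroup.out_eq', (QuotientGroup.eq_one_iff (n : G)).mpr n.2,
        mul_one]
    apply Prod.ext
    · exact h1
    · apply Subtype.ext
      simp only
      rw [h1, inv_mul_cancel_left]
  right_inv := by
    intro x
    simp only
    rw [mul_inv_cancel_left]

theorem spc_mk_prodEquiv {G : Type*} [Group G] (N : Subgroup G) [N.Normal] (p : (G ⧸ N) × N) :
    (QuotientGroup.mk (spc_prodEquiv N p) : G ⧸ N) = p.1 := by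
  obtain ⟨q, n⟩ := p
  simp only [spc_prodEquiv, Equiv.coe_fn_mk]
  rw [QuotientGroup.mk_mul, QuotientGroup.out_eq', (QuotientGroup.eq_one_iff (n : G)).mpr n.2,
    mul_one]

theorem spc_sum_mk {G : Type*} [Group G] [Fintype G] (N : Subgroup G) [N.Normal] [Fintype N]
    [Fintype (G ⧸ N)] {M : Type*} [AddCommMonoid M] (F : G ⧸ N → M) :
    ∑ x : G, F (QuotientGroup.mk x) = Nat.card N • ∑ q : G ⧸ N, F q := by
  rw [← Equiv.sum_comp (spc_prodEquiv N) (fun x => F (QuotientGroup.mk x))]
  simp only [spc_mk_prodEquiv]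
  rw [Fintype.sum_prod_type]
  simp only [Finset.sum_const, Finset.card_univ, Finset.smul_sum, Nat.card_eq_fintype_card]

theorem spc_count {G : Type*} [Group G] [Fintype G] (N : Subgroup G) [N.Normal]
    (hN : N ≤ Subgroup.center G) [DecidablePred (spc_special N)] :
    ∑ x : G, (if spc_special N x then Nat.card (Subgroup.centralizer ({x} : Set G)) else 0) =
      Nat.card N * Nat.card G *
        Nat.card {C : ConjClasses (G ⧸ N) //
          ∃ g : G, ConjClasses.mk (QuotientGroup.mk g : G ⧸ N) = C ∧ spc_special N g} := by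
  classical
  haveI : Fintype N := Fintype.ofFinite _
  haveI : Fintype (G ⧸ N) := Fintype.ofFinite _
  set F : G ⧸ N → ℕ := fun q => if spc_Sp N q then
    Nat.card N * Nat.card (Subgroup.centralizer ({q} : Set (G ⧸ N))) else 0 with hF
  have h1 : ∀ x : G, (if spc_special N x then Nat.card (Subgroup.centralizer ({x} : Set G)) else 0)
      = F (QuotientGroup.mk x) := by
    intro x
    simp only [hF, spc_Sp_mk N hN]
    by_cases hx : spc_special N x
    · rw [if_pos hx, if_pos hx, spc_centralizer_eq N x hx, spc_card_comap]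
    · rw [if_neg hx, if_neg hx]
  rw [Finset.sum_congr rfl (fun x _ => h1 x), spc_sum_mk N F]
  have h2 : ∑ q : G ⧸ N, F q = Nat.card N * ∑ q : G ⧸ N,
      (if spc_Sp N q then Nat.card (Subgroup.centralizer ({q} : Set (G ⧸ N))) else 0) := by
    rw [Finset.mul_sum]
    apply Finset.sum_congr rfl
    intro q _
    simp only [hF]
    split_ifs <;> simp
  rw [h2, spc_class_count (spc_Sp N) (fun q y => spc_Sp_conj N q y)]
  have h3 : Nat.card {C : ConjClasses (G ⧸ N) // ∃ q, ConjClasses.mk q = C ∧ spc_Sp N q} =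
      Nat.card {C : ConjClasses (G ⧸ N) //
          ∃ g : G, ConjClasses.mk (QuotientGroup.mk g : G ⧸ N) = C ∧ spc_special N g} := by
    apply Nat.card_congr
    apply Equiv.subtypeEquivRight
    intro C
    constructor
    · rintro ⟨q, rfl, g, rfl, hs⟩
      exact ⟨g, rfl, hs⟩
    · rintro ⟨g, rfl, hs⟩
      exact ⟨_, rfl, g, rfl, hs⟩
  rw [h3, smul_eq_mul, Subgroup.card_eq_card_quotient_mul_card_subgroup N]
  ring

theorem spc_central_mul {G : Type*} [Group G] (N : Subgroup G) (hN : N ≤ Subgroup.center G)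
    (χ : Cfsg.IrrCharacter G) (n : N) (x : G) :
    (χ : G → ℂ) 1 * (χ : G → ℂ) (x * n) = (χ : G → ℂ) n * (χ : G → ℂ) x := by
  obtain ⟨c, hc⟩ := h7_central_char χ.2 (n : G) (hN n.2)
  have h1 : (χ : G → ℂ) (n : G) = c * (χ : G → ℂ) 1 := by
    have := hc 1
    rwa [mul_one] at this
  have h2 : x * (n : G) = (n : G) * x := Subgroup.mem_center_iff.mp (hN n.2) x
  rw [h2, hc x, h1]
  ring

/-- the linear character of `N` lying under `χ` -/
noncomputable def spc_lamHom {G : Type*} [Group G] (N : Subgroup G) (hN : N ≤ Subgroup.center G)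
    (χ : Cfsg.IrrCharacter G) : N →* ℂ where
  toFun n := (χ : G → ℂ) n / (χ : G → ℂ) 1
  map_one' := by
    have := irr_one_ne_zero χ
    simp only [Subgroup.coe_one]
    exact div_self this
  map_mul' n m := by
    have hne := irr_one_ne_zero χ
    have := spc_central_mul N hN χ m (n : G)
    simp only [Subgroup.coe_mul]
    field_simp
    rw [mul_comm ((χ : G → ℂ) ((n : G) * (m : G)))]
    rw [this]
    ring

noncomputable def spc_lam {G : Type*} [Group G] (N : Subgroup G) (hN : N ≤ Subgroup.center G)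
    (χ : Cfsg.IrrCharacter G) : Cfsg.IrrCharacter N :=
  linIrr (spc_lamHom N hN χ).toHomUnits

theorem spc_lam_apply {G : Type*} [Group G] (N : Subgroup G) (hN : N ≤ Subgroup.center G)
    (χ : Cfsg.IrrCharacter G) (n : N) :
    (spc_lam N hN χ : N → ℂ) n = (χ : G → ℂ) n / (χ : G → ℂ) 1 := rfl

theorem spc_res_eq {G : Type*} [Group G] (N : Subgroup G) (hN : N ≤ Subgroup.center G)
    (χ : Cfsg.IrrCharacter G) (n : N) :
    (χ : G → ℂ) n = (χ : G → ℂ) 1 * (spc_lam N hN χ : N → ℂ) n := by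
  rw [spc_lam_apply]
  have hne := irr_one_ne_zero χ
  field_simp

theorem spc_shift {G : Type*} [Group G] (N : Subgroup G) (hN : N ≤ Subgroup.center G)
    (χ : Cfsg.IrrCharacter G) (n : N) (x : G) :
    (χ : G → ℂ) (x * n) = (spc_lam N hN χ : N → ℂ) n * (χ : G → ℂ) x := by
  rw [spc_lam_apply]
  have hne := irr_one_ne_zero χ
  have := spc_central_mul N hN χ n x
  field_simp
  rw [mul_comm, this]

theorem spc_over_iff {G : Type*} [Group G] (N : Subgroup G) [Fintype N]
    (hN : N ≤ Subgroup.center G)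
    (χ : Cfsg.IrrCharacter G) (ψ : Cfsg.IrrCharacter N) :
    Cfsg.classInner (fun n : N => (χ : G → ℂ) n) (ψ : N → ℂ) ≠ 0 ↔ spc_lam N hN χ = ψ := by
  have h1 : (fun n : N => (χ : G → ℂ) n) = (χ : G → ℂ) 1 • (spc_lam N hN χ : N → ℂ) := by
    funext n
    rw [Pi.smul_apply, smul_eq_mul, ← spc_res_eq]
  rw [h1, classInner_smul_left, irr_classInner]
  have hne := irr_one_ne_zero χ
  by_cases h : spc_lam N hN χ = ψ
  · simp [h, hne]
  · simp [h]

theorem spc_M_mul {G : Type*} [Group G] (x a b : G) (hb : b ∈ Subgroup.center G)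
    (h1 : IsConj x (x * a)) (h2 : IsConj x (x * b)) : IsConj x (x * (a * b)) := by
  obtain ⟨c, hc⟩ := isConj_iff.mp h1
  obtain ⟨d, hd⟩ := isConj_iff.mp h2
  rw [isConj_iff]
  refine ⟨c * d, ?_⟩
  have hbc : ∀ y : G, y * b = b * y := fun y => Subgroup.mem_center_iff.mp hb y
  calc c * d * x * (c * d)⁻¹ = c * (d * x * d⁻¹) * c⁻¹ := by group
    _ = c * (x * b) * c⁻¹ := by rw [hd]
    _ = c * x * (b * c⁻¹) := by group
    _ = c * x * (c⁻¹ * b) := by rw [hbc]
    _ = (c * x * c⁻¹) * b := by group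
    _ = x * (a * b) := by rw [hc, mul_assoc]

theorem spc_M_inv {G : Type*} [Group G] (x a : G) (ha : a ∈ Subgroup.center G)
    (h1 : IsConj x (x * a)) : IsConj x (x * a⁻¹) := by
  obtain ⟨c, hc⟩ := isConj_iff.mp h1
  rw [isConj_iff]
  refine ⟨c⁻¹, ?_⟩
  have hac : ∀ y : G, y * a = a * y := fun y => Subgroup.mem_center_iff.mp ha y
  have h2 : c⁻¹ * (x * a) * c = x := by rw [← hc]; group
  have h3 : c⁻¹ * x * c * a = x := by
    have hca : a * c = c * a := (hac c).symm
    calc c⁻¹ * x * c * a = c⁻¹ * x * (c * a) := by group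
      _ = c⁻¹ * x * (a * c) := by rw [hca]
      _ = c⁻¹ * (x * a) * c := by group
      _ = x := h2
  rw [inv_inv]
  exact eq_mul_inv_of_mul_eq h3

theorem spc_M_sum {G : Type*} [Group G] [Fintype G] (N : Subgroup G) [N.Normal] [Fintype N]
    (hN : N ≤ Subgroup.center G) (ψ : Cfsg.IrrCharacter N)
    (hfaith : ∀ n : N, (ψ : N → ℂ) n = (ψ : N → ℂ) 1 → n = 1) (x : G)
    [DecidablePred (spc_special N)] [DecidableRel (IsConj : G → G → Prop)] :
    ∑ n : N, conj ((ψ : N → ℂ) n) * (if IsConj x (x * (n : G)) then (1 : ℂ) else 0) =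
      if spc_special N x then 1 else 0 := by
  classical
  haveI : IsMulCommutative N := ⟨⟨fun a b => by
    apply Subtype.ext
    rw [Subgroup.coe_mul, Subgroup.coe_mul]
    exact Subgroup.mem_center_iff.mp (hN b.2) (a : G)⟩⟩
  have hψ1 : (ψ : N → ℂ) 1 = 1 := gn_irr_one_of_isMulCommutative ψ
  by_cases hx : spc_special N x
  · rw [if_pos hx, Finset.sum_eq_single (1 : N)]
    · rw [hψ1, if_pos]
      · simp
      · simp only [Subgroup.coe_one, mul_one]
        exact IsConj.refl x
    · intro n _ hn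
      rw [if_neg, mul_zero]
      intro hc
      apply hn
      obtain ⟨c, hc⟩ := isConj_iff.mp hc
      have hnc : ∀ y : G, y * (n : G) = (n : G) * y := fun y =>
        Subgroup.mem_center_iff.mp (hN n.2) y
      have h1 : c⁻¹ * x⁻¹ * c * x = (n : G) := by
        have : c * x = x * n * c := by rw [← hc]; group
        calc c⁻¹ * x⁻¹ * c * x = c⁻¹ * x⁻¹ * (c * x) := by group
          _ = c⁻¹ * x⁻¹ * (x * n * c) := by rw [this]
          _ = c⁻¹ * ((n : G) * c) := by group
          _ = c⁻¹ * (c * (n : G)) := by rw [hnc]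
          _ = n := by group
      have h2 := hx c (by rw [h1]; exact n.2)
      have h3 : x * (n : G) = x := by
        rw [← hc, h2]; group
      apply Subtype.ext
      simpa using h3
    · intro h
      exact absurd (Finset.mem_univ _) h
  · rw [if_neg hx]
    unfold spc_special at hx
    push Not at hx
    obtain ⟨y, hy, hne⟩ := hx
    set m : N := (⟨y⁻¹ * x⁻¹ * y * x, hy⟩ : N)⁻¹ with hm
    have hm1 : m ≠ 1 := by
      intro h
      rw [hm, inv_eq_one] at h
      have h' : y⁻¹ * x⁻¹ * y * x = 1 := congrArg Subtype.val h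
      apply hne
      have : y * x = x * y * (y⁻¹ * x⁻¹ * y * x) := by group
      rw [this, h', mul_one]
    have hmM : IsConj x (x * (m : G)) := by
      rw [isConj_iff]
      refine ⟨y⁻¹, ?_⟩
      rw [hm]
      simp only [Subgroup.coe_inv]
      group
    have hmM' : IsConj x (x * ((m⁻¹ : N) : G)) := by
      rw [Subgroup.coe_inv]
      exact spc_M_inv x _ (hN m.2) hmM
    have hiff : ∀ n : N, IsConj x (x * ((m * n : N) : G)) ↔ IsConj x (x * (n : G)) := by
      intro n
      constructor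
      · intro h
        have := spc_M_mul x _ _ (hN (m * n).2) hmM' h
        rwa [← Subgroup.coe_mul, inv_mul_cancel_left] at this
      · intro h
        have := spc_M_mul x _ _ (hN n.2) hmM h
        rwa [← Subgroup.coe_mul] at this
    set T := ∑ n : N, conj ((ψ : N → ℂ) n) * (if IsConj x (x * (n : G)) then (1 : ℂ) else 0)
      with hT
    have hshift : T = conj ((ψ : N → ℂ) m) * T := by
      rw [hT, Finset.mul_sum, ← Equiv.sum_comp (Equiv.mulLeft m)]
      apply Finset.sum_congr rfl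
      intro n _
      simp only [Equiv.coe_mulLeft]
      rw [irr_linear_mul ψ hψ1, map_mul, mul_assoc]
      congr 2
      simp only [hiff]
    have hψm : (ψ : N → ℂ) m ≠ 1 := by
      intro h
      apply hm1
      apply hfaith
      rw [h, hψ1]
    have h1 : (1 - conj ((ψ : N → ℂ) m)) * T = 0 := by
      rw [sub_mul, one_mul, ← hshift, sub_self]
    rcases mul_eq_zero.mp h1 with h | h
    · exfalso
      apply hψm
      have : conj ((ψ : N → ℂ) m) = 1 := (sub_eq_zero.mp h).symm
      have := congrArg conj this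
      simpa using this
    · exact h

theorem spc_proj {G : Type*} [Group G] (N : Subgroup G) [Fintype N]
    (hN : N ≤ Subgroup.center G) (χ : Cfsg.IrrCharacter G) (ψ : Cfsg.IrrCharacter N) (x : G) :
    ∑ n : N, conj ((ψ : N → ℂ) n) * (χ : G → ℂ) (x * n) =
      if spc_lam N hN χ = ψ then (Nat.card N : ℂ) * (χ : G → ℂ) x else 0 := by
  have h1 := irr_classInner (spc_lam N hN χ) ψ
  simp only [Cfsg.classInner] at h1
  have hne : (Nat.card N : ℂ) ≠ 0 := by exact_mod_cast Nat.card_pos.ne'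
  have h2 : ∑ n : N, (spc_lam N hN χ : N → ℂ) n * conj ((ψ : N → ℂ) n) =
      (Nat.card N : ℂ) * (if spc_lam N hN χ = ψ then 1 else 0) := by
    rw [← h1]
    field_simp
  have h3 : ∑ n : N, conj ((ψ : N → ℂ) n) * (χ : G → ℂ) (x * n) =
      (∑ n : N, (spc_lam N hN χ : N → ℂ) n * conj ((ψ : N → ℂ) n)) * (χ : G → ℂ) x := by
    rw [Finset.sum_mul]
    apply Finset.sum_congr rfl
    intro n _
    rw [spc_shift N hN χ n x]
    ring
  rw [h3, h2]
  split_ifs <;> simp

theorem spc_sum_over {G : Type*} [Group G] [Fintype G] (N : Subgroup G) [Fintype N]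
    (hN : N ≤ Subgroup.center G) (ψ : Cfsg.IrrCharacter N) (x : G)
    [Fintype (Cfsg.IrrCharacter G)] [DecidableRel (IsConj : G → G → Prop)]
    [DecidableEq (Cfsg.IrrCharacter N)] :
    ∑ χ : Cfsg.IrrCharacter G, (if spc_lam N hN χ = ψ then
        (Nat.card N : ℂ) * ((χ : G → ℂ) x * conj ((χ : G → ℂ) x)) else 0) =
      ∑ n : N, conj ((ψ : N → ℂ) n) *
        (if IsConj x (x * (n : G)) then
          (Nat.card (Subgroup.centralizer ({x} : Set G)) : ℂ) else 0) := by
  have h1 : ∀ n : N, (if IsConj x (x * (n : G)) then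
      (Nat.card (Subgroup.centralizer ({x} : Set G)) : ℂ) else 0) =
      ∑ χ : Cfsg.IrrCharacter G, (χ : G → ℂ) (x * n) * conj ((χ : G → ℂ) x) := by
    intro n
    rw [irr_column_orthogonality]
  simp only [h1, Finset.mul_sum]
  rw [Finset.sum_comm]
  apply Finset.sum_congr rfl
  intro χ _
  have h2 := spc_proj N hN χ ψ x
  have h3 : ∑ n : N, conj ((ψ : N → ℂ) n) * ((χ : G → ℂ) (x * n) * conj ((χ : G → ℂ) x)) =
      (∑ n : N, conj ((ψ : N → ℂ) n) * (χ : G → ℂ) (x * n)) * conj ((χ : G → ℂ) x) := by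
    rw [Finset.sum_mul]
    apply Finset.sum_congr rfl
    intro n _
    ring
  rw [h3, h2]
  split_ifs <;> ring

theorem spc_main {G : Type*} [Group G] [Fintype G] (N : Subgroup G) [N.Normal] [Fintype N]
    (hN : N ≤ Subgroup.center G) (ψ : Cfsg.IrrCharacter ↥N)
    (hfaith : ∀ n : ↥N, (ψ : ↥N → ℂ) n = (ψ : ↥N → ℂ) 1 → n = 1) :
    Nat.card {χ : Cfsg.IrrCharacter G //
      Cfsg.classInner (fun n : ↥N => (χ : G → ℂ) n) (ψ : ↥N → ℂ) ≠ 0} =
    Nat.card {C : ConjClasses (G ⧸ N) //
      ∃ g : G, ConjClasses.mk (g : G ⧸ N) = C ∧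
        ∀ x : G, x⁻¹ * g⁻¹ * x * g ∈ N → x * g = g * x} := by
  classical
  haveI : Fintype (Cfsg.IrrCharacter G) := Fintype.ofFinite _
  have hcount := spc_count N hN
  have hG : (Nat.card G : ℂ) ≠ 0 := by exact_mod_cast Nat.card_pos.ne'
  have hNne : (Nat.card N : ℂ) ≠ 0 := by exact_mod_cast Nat.card_pos.ne'
  -- left side as a sum
  have hL : (Nat.card {χ : Cfsg.IrrCharacter G //
      Cfsg.classInner (fun n : ↥N => (χ : G → ℂ) n) (ψ : ↥N → ℂ) ≠ 0} : ℂ) =
      ∑ χ : Cfsg.IrrCharacter G, (if spc_lam N hN χ = ψ then (1 : ℂ) else 0) := by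
    rw [Nat.card_eq_fintype_card, Fintype.card_subtype]
    simp only [spc_over_iff N hN]
    rw [Finset.sum_boole]
  have hnorm : ∀ χ : Cfsg.IrrCharacter G,
      ∑ x : G, (χ : G → ℂ) x * conj ((χ : G → ℂ) x) = (Nat.card G : ℂ) := by
    intro χ
    have h := irr_classInner χ χ
    rw [if_pos rfl] at h
    simp only [Cfsg.classInner] at h
    field_simp at h
    exact h
  have key : (Nat.card N : ℂ) * (Nat.card G : ℂ) * (Nat.card {χ : Cfsg.IrrCharacter G //
      Cfsg.classInner (fun n : ↥N => (χ : G → ℂ) n) (ψ : ↥N → ℂ) ≠ 0} : ℂ) =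
      ((∑ x : G, (if spc_special N x then
        Nat.card (Subgroup.centralizer ({x} : Set G)) else 0) : ℕ) : ℂ) := by
    rw [hL, Finset.mul_sum]
    have h1 : ∀ χ : Cfsg.IrrCharacter G,
        (Nat.card N : ℂ) * (Nat.card G : ℂ) * (if spc_lam N hN χ = ψ then (1 : ℂ) else 0) =
        ∑ x : G, (if spc_lam N hN χ = ψ then
          (Nat.card N : ℂ) * ((χ : G → ℂ) x * conj ((χ : G → ℂ) x)) else 0) := by
      intro χ
      split_ifs
      · rw [← Finset.mul_sum, hnorm, mul_one]
      · simp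
    rw [Finset.sum_congr rfl (fun χ _ => h1 χ), Finset.sum_comm]
    push_cast
    apply Finset.sum_congr rfl
    intro x _
    rw [spc_sum_over N hN ψ x]
    have h2 : ∀ n : N, conj ((ψ : N → ℂ) n) *
        (if IsConj x (x * (n : G)) then
          (Nat.card (Subgroup.centralizer ({x} : Set G)) : ℂ) else 0) =
        (Nat.card (Subgroup.centralizer ({x} : Set G)) : ℂ) *
          (conj ((ψ : N → ℂ) n) * (if IsConj x (x * (n : G)) then (1 : ℂ) else 0)) := by
      intro n
      split_ifs <;> ring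
    rw [Finset.sum_congr rfl (fun n _ => h2 n), ← Finset.mul_sum, spc_M_sum N hN ψ hfaith x]
    split_ifs <;> simp
  rw [hcount] at key
  push_cast at key
  have h3 : (Nat.card {χ : Cfsg.IrrCharacter G //
      Cfsg.classInner (fun n : ↥N => (χ : G → ℂ) n) (ψ : ↥N → ℂ) ≠ 0} : ℂ) =
      (Nat.card {C : ConjClasses (G ⧸ N) //
          ∃ g : G, ConjClasses.mk (QuotientGroup.mk g : G ⧸ N) = C ∧ spc_special N g} : ℂ) := by
    have hne : (Nat.card N : ℂ) * (Nat.card G : ℂ) ≠ 0 := mul_ne_zero hNne hG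
    exact mul_left_cancel₀ hne key
  exact_mod_cast h3

end Cfsg.Agent.Lib.Helper25
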