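import Mathlib
import Cfsg.Agent.Lib.Helper25.BrauerPairCanonical
import Cfsg.Agent.Lib.Helper25.SubsectionCount
import Cfsg.Agent.Lib.helper2.DefectZero
import Cfsg.Agent.S0164
import Cfsg.Agent.S0924
import Cfsg.Agent.Lib.helper2.Elementary
import Cfsg.Agent.Lib.Helper11.VirtChar
import Cfsg.Agent.Lib.Helper25.SpecialCls

/-!
# Laradji's theorem (S0969): the p'-version ld_theta of a character of relative defect zero over a central p-subgroup is an irreducible character (Brauer's characterization, ld_restrict_char, ld_theta_genChar, ld_theta_irr); ld_div_integral, ld_val_bound, ld_prod_bij, ld_main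
-/

set_option autoImplicit false
set_option linter.style.haveILetI false
set_option linter.unusedVariables false
set_option warn.classDefReducibility false
set_option maxHeartbeats 1600000

namespace Cfsg.Agent.Lib.Helper25
open Cfsg.Agent.Lib.Helper24
open Cfsg.Agent.Lib.helper2
open Cfsg.Agent.Lib.helper7
open scoped ComplexConjugate
open Cfsg.Agent.Lib.Helper11
section

/-- if `p ^ b` times the `p`-part of the class size of `y` divides `χ 1`, then `χ y / p ^ b` is an
algebraic integer -/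
theorem ld_div_integral {G : Type*} [Group G] [Finite G] (p : ℕ) [hp : Fact p.Prime]
    (χ : Cfsg.IrrCharacter G) (y : G) (b : ℕ)
    (hb : b + ((Subgroup.centralizer ({y} : Set G)).index).factorization p ≤
      (Cfsg.charDegree (χ : G → ℂ)).factorization p) :
    IsIntegral ℤ ((χ : G → ℂ) y / (p : ℂ) ^ b) := by
  obtain ⟨hd1, hd2, hd3⟩ := h7_charDegree_props χ
  set n := Cfsg.charDegree (χ : G → ℂ) with hn
  set I := (Subgroup.centralizer ({y} : Set G)).index with hI
  have hI0 : I ≠ 0 := Subgroup.index_ne_zero_of_finite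
  have hω := irr_central_char_integral χ y
  rw [← hd3, ← hI] at hω
  set s := I.factorization p with hs
  set t := n.factorization p with ht
  have hIe : p ^ s * ordCompl[p] I = I := Nat.ordProj_mul_ordCompl_eq_self I p
  have hne : p ^ t * ordCompl[p] n = n := Nat.ordProj_mul_ordCompl_eq_self n p
  set m' := ordCompl[p] I with hm'
  set n' := ordCompl[p] n with hn'
  have hcop : Nat.Coprime m' (p ^ b) :=
    Nat.Coprime.pow_right _ (Nat.coprime_ordCompl hp.out hI0).symm
  have hp0 : (p : ℂ) ≠ 0 := by exact_mod_cast hp.out.ne_zero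
  have hn0 : (n : ℂ) ≠ 0 := by exact_mod_cast hd2.ne'
  have hn'0 : (n' : ℂ) ≠ 0 := by
    intro h0
    have : n' = 0 := by exact_mod_cast h0
    rw [this, mul_zero] at hne
    exact hd2.ne' hne.symm
  obtain ⟨c, hc⟩ := Nat.exists_eq_add_of_le hb
  have h1 : (m' : ℂ) * (χ : G → ℂ) y / (p : ℂ) ^ b =
      ((I : ℂ) * (χ : G → ℂ) y / (n : ℂ)) * ((n' : ℂ) * (p : ℂ) ^ c) := by
    have e1 : (I : ℂ) = (p : ℂ) ^ s * (m' : ℂ) := by rw [← hIe]; push_cast; rfl
    have e2 : (n : ℂ) = (p : ℂ) ^ t * (n' : ℂ) := by rw [← hne]; push_cast; rfl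
    rw [e1, e2, hc, pow_add, pow_add]
    field_simp
  have h2 : IsIntegral ℤ ((m' : ℂ) * (χ : G → ℂ) y / (p : ℂ) ^ b) := by
    rw [h1]
    exact hω.mul ((isIntegral_natCast n').mul ((isIntegral_natCast p).pow c))
  have hco : IsCoprime (m' : ℤ) ((p ^ b : ℕ) : ℤ) := Nat.isCoprime_iff_coprime.mpr hcop
  obtain ⟨a, a', haa⟩ := hco
  have hpb : ((p : ℂ) ^ b) ≠ 0 := pow_ne_zero _ hp0
  have haa' : (a : ℂ) * (m' : ℂ) + (a' : ℂ) * (p : ℂ) ^ b = 1 := by
    have := congrArg (fun z : ℤ => (z : ℂ)) haa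
    simpa using this
  have h3 : (χ : G → ℂ) y / (p : ℂ) ^ b =
      (a : ℂ) * ((m' : ℂ) * (χ : G → ℂ) y / (p : ℂ) ^ b) + (a' : ℂ) * (χ : G → ℂ) y := by
    rw [div_eq_iff hpb]
    have : ((a : ℂ) * ((m' : ℂ) * (χ : G → ℂ) y / (p : ℂ) ^ b) + (a' : ℂ) * (χ : G → ℂ) y) *
        (p : ℂ) ^ b = ((a : ℂ) * (m' : ℂ) + (a' : ℂ) * (p : ℂ) ^ b) * (χ : G → ℂ) y := by
      field_simp
    rw [this, haa', one_mul]
  rw [h3]
  exact ((isIntegral_intCast a).mul h2).add ((isIntegral_intCast a').mul (irr_integral χ y))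

end

section

open Classical in
/-- the `p'`-version of `χ` relative to `D`: `g ↦ χ(g_{p'})` if `g_p ∈ D`, and `0` otherwise -/
noncomputable def ld_theta {G : Type*} [Group G] (p : ℕ) (D : Subgroup G) (χ : G → ℂ) : G → ℂ :=
  fun g => if sc_pp p g ∈ D then χ ((sc_pp p g)⁻¹ * g) else 0

open Classical in
theorem ld_theta_mul {G : Type*} [Group G] [Finite G] (p : ℕ) [hp : Fact p.Prime] (D : Subgroup G)
    (χ : G → ℂ) (z y : G) (hc : Commute z y) (hz : ∃ k : ℕ, orderOf z = p ^ k)
    (hy : ¬ p ∣ orderOf y) :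
    ld_theta p D χ (z * y) = if z ∈ D then χ y else 0 := by
  classical
  have h1 : sc_pp p (z * y) = z := sc_pp_eq p ⟨y, rfl, hc, hz, hy⟩
  unfold ld_theta
  rw [h1, inv_mul_cancel_left]

theorem ld_theta_reg {G : Type*} [Group G] [Finite G] (p : ℕ) [hp : Fact p.Prime] (D : Subgroup G)
    (χ : G → ℂ) (y : G) (hy : ¬ p ∣ orderOf y) :
    ld_theta p D χ y = χ y := by
  have h := ld_theta_mul p D χ 1 y (Commute.one_left y) ⟨0, by simp⟩ hy
  rw [one_mul, if_pos D.one_mem] at h
  exact h

theorem ld_theta_mem {G : Type*} [Group G] [Finite G] (p : ℕ) [hp : Fact p.Prime] (D : Subgroup G)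
    (hD : IsPGroup p D) (χ : G → ℂ) (x : G) (hx : x ∈ D) :
    ld_theta p D χ x = χ 1 := by
  have hxo : ∃ k : ℕ, orderOf x = p ^ k := by
    obtain ⟨k, hk⟩ := hD ⟨x, hx⟩
    have hk' : x ^ p ^ k = 1 := by
      have := congrArg Subtype.val hk
      simpa using this
    obtain ⟨j, -, hj⟩ := (Nat.dvd_prime_pow hp.out).mp (orderOf_dvd_of_pow_eq_one hk')
    exact ⟨j, hj⟩
  have h1 : ¬ p ∣ orderOf (1 : G) := by
    rw [orderOf_one]
    exact hp.out.one_lt.ne' ∘ Nat.dvd_one.mp
  have h := ld_theta_mul p D χ x 1 (Commute.one_right x) hxo h1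
  rw [mul_one, if_pos hx] at h
  exact h

theorem ld_theta_class {G : Type*} [Group G] [Finite G] (p : ℕ) [hp : Fact p.Prime]
    (D : Subgroup G) (hDZ : D ≤ Subgroup.center G) (χ : G → ℂ)
    (hχ : Cfsg.IsClassFunction G χ) : Cfsg.IsClassFunction G (ld_theta p D χ) := by
  classical
  intro g t
  unfold ld_theta
  rw [sc_pp_conj]
  have hmem : t * sc_pp p g * t⁻¹ ∈ D ↔ sc_pp p g ∈ D := by
    constructor
    · intro h
      have h1 := hDZ h
      have h2 : sc_pp p g = t⁻¹ * (t * sc_pp p g * t⁻¹) * t := by group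
      have h3 : t⁻¹ * (t * sc_pp p g * t⁻¹) * t = t * sc_pp p g * t⁻¹ := by
        rw [mul_assoc, ← Subgroup.mem_center_iff.mp h1 t, inv_mul_cancel_left]
      rw [h2, h3]
      exact h
    · intro h
      have h1 := hDZ h
      have h3 : t * sc_pp p g * t⁻¹ = sc_pp p g := by
        rw [Subgroup.mem_center_iff.mp h1 t, mul_inv_cancel_right]
      rw [h3]
      exact h
  by_cases h : sc_pp p g ∈ D
  · rw [if_pos (hmem.mpr h), if_pos h]
    have e : (t * sc_pp p g * t⁻¹)⁻¹ * (t * g * t⁻¹) = t * ((sc_pp p g)⁻¹ * g) * t⁻¹ := by group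
    rw [e, hχ]
  · rw [if_neg (fun h' => h (hmem.mp h')), if_neg h]

end

section

/-- elements of a `p`-group have `p`-power order -/
theorem ld_pgroup_order {E : Type*} [Group E] (p : ℕ) [hp : Fact p.Prime] (P : Subgroup E)
    (hP : IsPGroup p P) (z : E) (hz : z ∈ P) : ∃ k : ℕ, orderOf z = p ^ k := by
  obtain ⟨k, hk⟩ := hP ⟨z, hz⟩
  have hk' : z ^ p ^ k = 1 := by
    have := congrArg Subtype.val hk
    simpa using this
  obtain ⟨j, -, hj⟩ := (Nat.dvd_prime_pow hp.out).mp (orderOf_dvd_of_pow_eq_one hk')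
  exact ⟨j, hj⟩

/-- the product map `P × Q → E` is bijective for a `p`-subgroup `P` and a subgroup `Q` of
`p`-regular elements with `|P||Q| = |E|` -/
theorem ld_prod_bij {E : Type*} [Group E] [Fintype E] (p : ℕ) [hp : Fact p.Prime]
    (P Q : Subgroup E) [Fintype P] [Fintype Q] (hP : IsPGroup p P)
    (hQ : ∀ y ∈ Q, ¬ p ∣ orderOf y) (hcard : Nat.card P * Nat.card Q = Nat.card E) :
    Function.Bijective (fun zy : P × Q => ((zy.1 : E) * (zy.2 : E))) := by
  have hinj : Function.Injective (fun zy : P × Q => ((zy.1 : E) * (zy.2 : E))) := by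
    rintro ⟨z, y⟩ ⟨z', y'⟩ h
    have h0 : (z : E) * (y : E) = (z' : E) * (y' : E) := h
    have h1 : (z' : E)⁻¹ * z = y' * (y : E)⁻¹ := by
      rw [inv_mul_eq_iff_eq_mul, ← mul_assoc, ← h0, mul_inv_cancel_right]
    have hwP : (z' : E)⁻¹ * z ∈ P := P.mul_mem (P.inv_mem z'.2) z.2
    have hwQ : (z' : E)⁻¹ * z ∈ Q := by
      rw [h1]
      exact Q.mul_mem y'.2 (Q.inv_mem y.2)
    obtain ⟨k, hk⟩ := ld_pgroup_order p P hP _ hwP
    have hnd := hQ _ hwQ
    have hk0 : k = 0 := by
      by_contra hne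
      apply hnd
      rw [hk]
      exact dvd_pow_self p hne
    rw [hk0, pow_zero, orderOf_eq_one_iff] at hk
    have hz : (z' : E) = z := by
      have := inv_mul_eq_one.mp hk
      exact this
    have hy : (y' : E) = y := by
      rw [hk] at h1
      have := mul_inv_eq_one.mp h1.symm
      exact this
    have e1 : z = z' := Subtype.ext hz.symm
    have e2 : y = y' := Subtype.ext hy.symm
    rw [e1, e2]
  refine (Fintype.bijective_iff_injective_and_card _).mpr ⟨hinj, ?_⟩
  rw [Fintype.card_prod, ← Nat.card_eq_fintype_card, ← Nat.card_eq_fintype_card,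
    ← Nat.card_eq_fintype_card]
  exact hcard

end

section

theorem ld_normal_of_central {G : Type*} [Group G] (D : Subgroup G)
    (hDZ : D ≤ Subgroup.center G) : D.Normal := by
  refine ⟨fun n hn g => ?_⟩
  have h1 := hDZ hn
  have h3 : g * n * g⁻¹ = n := by
    rw [Subgroup.mem_center_iff.mp h1 g, mul_inv_cancel_right]
  rw [h3]
  exact hn

/-- the valuation bound: if the `p`-subgroup `P'` centralizes `y` and `|P' : P' ∩ D| = p ^ b`, then
`b + ν_p |cl(y)| ≤ ν_p |G : D|` -/
theorem ld_val_bound {G : Type*} [Group G] [Finite G] (p : ℕ) [hp : Fact p.Prime]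
    (D : Subgroup G) (hDZ : D ≤ Subgroup.center G)
    (P' : Subgroup G) (y : G) (hy : P' ≤ Subgroup.centralizer ({y} : Set G)) (b : ℕ)
    (hb : D.relIndex P' = p ^ b) :
    b + ((Subgroup.centralizer ({y} : Set G)).index).factorization p ≤
      D.index.factorization p := by
  haveI : D.Normal := ld_normal_of_central D hDZ
  set C := Subgroup.centralizer ({y} : Set G) with hC
  have h1 : Nat.card D * p ^ b = Nat.card (P' ⊔ D : Subgroup G) := by
    have := Subgroup.relIndex_mul_relIndex (⊥ : Subgroup G) D (P' ⊔ D) bot_le le_sup_right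
    rw [Subgroup.relIndex_bot_left, Subgroup.relIndex_bot_left, Subgroup.relIndex_sup_right,
      hb] at this
    exact this
  have hDC : D ≤ C := by
    intro x hx
    rw [hC, Subgroup.mem_centralizer_singleton_iff]
    exact (Subgroup.mem_center_iff.mp (hDZ hx) y).symm
  have h2 : (P' ⊔ D : Subgroup G) ≤ C := sup_le hy hDC
  have h3 : Nat.card D * p ^ b ∣ Nat.card C := by
    rw [h1]
    exact Subgroup.card_dvd_of_le h2
  have h4 : C.index * Nat.card C = Nat.card G := Subgroup.index_mul_card C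
  have h5 : D.index * Nat.card D = Nat.card G := Subgroup.index_mul_card D
  have hI0 : C.index ≠ 0 := Subgroup.index_ne_zero_of_finite
  have hJ0 : D.index ≠ 0 := Subgroup.index_ne_zero_of_finite
  have hC0 : Nat.card C ≠ 0 := Nat.card_pos.ne'
  have hD0 : Nat.card D ≠ 0 := Nat.card_pos.ne'
  have hpb0 : p ^ b ≠ 0 := pow_ne_zero _ hp.out.ne_zero
  have f1 : (C.index).factorization p + (Nat.card C).factorization p =
      (Nat.card G).factorization p := by
    rw [← h4, Nat.factorization_mul hI0 hC0]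
    rfl
  have f2 : (D.index).factorization p + (Nat.card D).factorization p =
      (Nat.card G).factorization p := by
    rw [← h5, Nat.factorization_mul hJ0 hD0]
    rfl
  have f3 : (Nat.card D).factorization p + b ≤ (Nat.card C).factorization p := by
    have := (Nat.factorization_le_iff_dvd (Nat.mul_ne_zero hD0 hpb0) hC0).mpr h3 p
    rw [Nat.factorization_mul hD0 hpb0] at this
    simp only [Finsupp.coe_add, Pi.add_apply] at this
    rw [Nat.Prime.factorization_pow hp.out] at this
    simpa using this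
  omega

end

section

open Classical in
theorem ld_sum_subgroup {E : Type*} [Group E] [Fintype E] (S : Subgroup E) [Fintype S]
    (f : E → ℂ) : ∑ s : S, f (s : E) = ∑ e : E, if e ∈ S then f e else 0 := by
  rw [← Finset.sum_subtype (Finset.univ.filter (fun e : E => e ∈ S)) (by simp) f,
    Finset.sum_filter]

/-- the restriction of `ld_theta` to a nilpotent subgroup is a character -/
theorem ld_restrict_char {G : Type*} [Group G] [Finite G] (p : ℕ) [hp : Fact p.Prime]
    (D : Subgroup G) (hDZ : D ≤ Subgroup.center G)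
    (χ : Cfsg.IrrCharacter G)
    (hdeg : (Cfsg.charDegree (χ : G → ℂ)).factorization p = D.index.factorization p)
    (E : Subgroup G) [Group.IsNilpotent E] :
    Cfsg.IsCharacter E (fun e : E => ld_theta p D (χ : G → ℂ) (e : G)) := by
  classical
  haveI : Fintype E := Fintype.ofFinite E
  obtain ⟨P, Q, hP, hQ, hcard, hcop, hcomm⟩ := exists_p_complement (E := E) p
  haveI : Fintype P := Fintype.ofFinite P
  haveI : Fintype Q := Fintype.ofFinite Q
  have hχ : Cfsg.IsCharacter G (χ : G → ℂ) := isCharacter_of_irr χ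
  have hχcl := isCharacter_isClassFunction hχ
  apply isCharacter_of_classInner_nat
  · intro e h
    have := ld_theta_class p D hDZ (χ : G → ℂ) hχcl (e : G) (h : G)
    simpa using this
  · intro ψ
    set F : E → ℂ := fun e => ld_theta p D (χ : G → ℂ) (e : G) * conj ((ψ : E → ℂ) e) with hF
    -- Step 1: product decomposition
    have hbij := ld_prod_bij p P Q hP (fun y hy => (hQ y).mp hy) hcard
    have hsum1 : ∑ e : E, F e = ∑ z : P, ∑ y : Q, F ((z : E) * (y : E)) := by
      rw [← hbij.sum_comp F, Fintype.sum_prod_type]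
    -- Step 2: values of θ
    have hθ : ∀ (z : P) (y : Q), ld_theta p D (χ : G → ℂ) (((z : E) * (y : E) : E) : G) =
        if ((z : E) : G) ∈ D then (χ : G → ℂ) ((y : E) : G) else 0 := by
      intro z y
      rw [Subgroup.coe_mul]
      apply ld_theta_mul
      · have := (hcomm z z.2 y y.2).eq
        have h2 := congrArg (fun e : E => (e : G)) this
        simp only [Subgroup.coe_mul] at h2
        exact h2
      · obtain ⟨k, hk⟩ := ld_pgroup_order p P hP z z.2
        exact ⟨k, by rw [Subgroup.orderOf_coe]; exact hk⟩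
      · rw [Subgroup.orderOf_coe]
        exact (hQ y).mp y.2
    -- the central subgroup A'
    set A' : Subgroup E := P ⊓ D.subgroupOf E with hA'
    have hA'c : A' ≤ Subgroup.center E := by
      intro e he
      rw [Subgroup.mem_center_iff]
      intro g
      have h1 : (e : G) ∈ D := (Subgroup.mem_subgroupOf.mp he.2)
      have h2 := Subgroup.mem_center_iff.mp (hDZ h1) (g : G)
      apply Subtype.ext
      simpa using h2
    haveI : Fintype A' := Fintype.ofFinite A'
    set μ := spc_lamHom A' hA'c ψ with hμ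
    have hψ1 := irr_one_ne_zero ψ
    have hμval : ∀ n : A', μ n = (ψ : E → ℂ) n / (ψ : E → ℂ) 1 := fun n => rfl
    have hshift : ∀ (n : A') (x : E), (ψ : E → ℂ) ((n : E) * x) = μ n * (ψ : E → ℂ) x := by
      intro n x
      have h1 := spc_central_mul A' hA'c ψ n x
      have h2 : x * (n : E) = (n : E) * x := Subgroup.mem_center_iff.mp (hA'c n.2) x
      rw [h2] at h1
      rw [hμval]
      field_simp
      rw [mul_comm]
      exact h1
    set T : ℂ := ∑ y : Q, (χ : G → ℂ) ((y : E) : G) * conj ((ψ : E → ℂ) (y : E)) with hT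
    have hsum2 : ∀ z : P, ∑ y : Q, F ((z : E) * (y : E)) =
        if ((z : E) : G) ∈ D then conj ((ψ : E → ℂ) z / (ψ : E → ℂ) 1) * T else 0 := by
      intro z
      by_cases hz : ((z : E) : G) ∈ D
      · rw [if_pos hz, hT, Finset.mul_sum]
        refine Finset.sum_congr rfl fun y _ => ?_
        have hzA : (z : E) ∈ A' := ⟨z.2, Subgroup.mem_subgroupOf.mpr hz⟩
        have := hshift ⟨(z : E), hzA⟩ (y : E)
        simp only [hF]
        rw [hθ z y, if_pos hz, this, hμval, map_mul]
        ring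
      · rw [if_neg hz]
        apply Finset.sum_eq_zero
        intro y _
        simp only [hF]
        rw [hθ z y, if_neg hz, zero_mul]
    have hsum3 : ∑ e : E, F e = conj (∑ n : A', μ n) * T := by
      rw [hsum1, Finset.sum_congr rfl (fun z _ => hsum2 z)]
      rw [ld_sum_subgroup P (fun e : E =>
        if (e : G) ∈ D then conj ((ψ : E → ℂ) e / (ψ : E → ℂ) 1) * T else 0)]
      rw [map_sum, Finset.sum_mul]
      have e2 : ∑ i : A', conj (μ i) * T =
          ∑ e : E, if e ∈ A' then conj ((ψ : E → ℂ) e / (ψ : E → ℂ) 1) * T else 0 := by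
        rw [← ld_sum_subgroup A' (fun e : E => conj ((ψ : E → ℂ) e / (ψ : E → ℂ) 1) * T)]
        exact Finset.sum_congr rfl (fun n _ => by rw [hμval])
      rw [e2]
      refine Finset.sum_congr rfl fun e _ => ?_
      by_cases h1 : e ∈ P
      · by_cases h2 : (e : G) ∈ D
        · rw [if_pos h1, if_pos h2, if_pos ⟨h1, Subgroup.mem_subgroupOf.mpr h2⟩]
        · rw [if_pos h1, if_neg h2, if_neg (fun h => h2 (Subgroup.mem_subgroupOf.mp h.2))]
      · rw [if_neg h1, if_neg (fun h => h1 h.1)]
    -- the integer m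
    have hχQ : Cfsg.IsCharacter Q (fun y : Q => (χ : G → ℂ) ((y : E) : G)) :=
      isCharacter_comp_hom hχ (E.subtype.comp Q.subtype)
    have hψQ : Cfsg.IsCharacter Q (fun y : Q => (ψ : E → ℂ) (y : E)) :=
      isCharacter_restrict (isCharacter_of_irr ψ) Q
    obtain ⟨m, hm⟩ := classInner_character_nat hχQ hψQ
    unfold Cfsg.classInner at hm
    have hQne : (Nat.card Q : ℂ) ≠ 0 := by exact_mod_cast Nat.card_pos.ne'
    have hS : T = (Nat.card Q : ℂ) * (m : ℂ) := by
      rw [← hm, ← mul_assoc, mul_inv_cancel₀ hQne, one_mul]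
    -- the index r
    set P' : Subgroup G := P.map E.subtype with hP'
    have hrel : Nat.card A' * D.relIndex P' = Nat.card P := by
      have := Subgroup.relIndex_mul_relIndex (⊥ : Subgroup E) A' P bot_le inf_le_left
      rw [Subgroup.relIndex_bot_left, Subgroup.relIndex_bot_left, hA',
        Subgroup.inf_relIndex_left] at this
      rw [← this, hP', ← Subgroup.relIndex_comap]
      rfl
    obtain ⟨b₁, hb₁⟩ := hP.exists_card_eq
    obtain ⟨b, hb⟩ : ∃ b : ℕ, D.relIndex P' = p ^ b := by
      have hdvd : D.relIndex P' ∣ p ^ b₁ := by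
        rw [← hb₁, ← hrel]
        exact dvd_mul_left _ _
      obtain ⟨j, -, hj⟩ := (Nat.dvd_prime_pow hp.out).mp hdvd
      exact ⟨j, hj⟩
    have hp0 : (p : ℂ) ≠ 0 := by exact_mod_cast hp.out.ne_zero
    have hpb : ((p : ℂ) ^ b) ≠ 0 := pow_ne_zero _ hp0
    have hint : IsIntegral ℤ (T / (p : ℂ) ^ b) := by
      rw [hT, Finset.sum_div]
      apply IsIntegral.sum
      intro y _
      have hle : P' ≤ Subgroup.centralizer ({((y : E) : G)} : Set G) := by
        rintro _ ⟨z, hz, rfl⟩
        rw [Subgroup.mem_centralizer_singleton_iff]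
        have := (hcomm z hz (y : E) y.2).eq
        have h2 := congrArg (fun e : E => (e : G)) this
        simp only [Subgroup.coe_mul] at h2
        exact h2
      have hbound := ld_val_bound p D hDZ P' ((y : E) : G) hle b hb
      rw [← hdeg] at hbound
      have h1 := ld_div_integral p χ ((y : E) : G) b hbound
      have h2 : IsIntegral ℤ (conj ((ψ : E → ℂ) (y : E))) :=
        map_isIntegral_int (starRingEnd ℂ) (irr_integral ψ (y : E))
      have : (χ : G → ℂ) ((y : E) : G) * conj ((ψ : E → ℂ) (y : E)) / (p : ℂ) ^ b =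
          ((χ : G → ℂ) ((y : E) : G) / (p : ℂ) ^ b) * conj ((ψ : E → ℂ) (y : E)) := by ring
      rw [this]
      exact h1.mul h2
    rw [hS] at hint
    have hdvd : p ^ b ∣ Nat.card Q * m := by
      apply nat_dvd_of_isIntegral_div _ _ (pow_ne_zero _ hp.out.ne_zero)
      push_cast
      exact hint
    have hdvd' : p ^ b ∣ m :=
      (Nat.Coprime.pow_left b hcop.symm).dvd_of_dvd_mul_left hdvd
    obtain ⟨m', rfl⟩ := hdvd'
    unfold Cfsg.classInner
    have hFsum : ∑ g : E, (fun e : E => ld_theta p D (χ : G → ℂ) (e : G)) g *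
        conj ((ψ : E → ℂ) g) = ∑ e : E, F e := rfl
    rw [hFsum, hsum3, hS]
    by_cases hμ1 : μ = 1
    · refine ⟨m', ?_⟩
      have h1 : ∑ n : A', μ n = (Nat.card A' : ℂ) := by
        rw [hμ1]
        simp [Nat.card_eq_fintype_card]
      rw [h1, Complex.conj_natCast, ← hcard, ← hrel, hb]
      have hA0 : (Nat.card A' : ℂ) ≠ 0 := by exact_mod_cast Nat.card_pos.ne'
      push_cast
      field_simp
    · refine ⟨0, ?_⟩
      rw [sum_hom_units_eq_zero μ hμ1, map_zero, zero_mul, mul_zero]
      simp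

end

section

/-- `ld_theta` is a generalized character (Brauer's characterization) -/
theorem ld_theta_genChar {G : Type*} [Group G] [Finite G] (p : ℕ) [hp : Fact p.Prime]
    (D : Subgroup G) (hDZ : D ≤ Subgroup.center G)
    (χ : Cfsg.IrrCharacter G)
    (hdeg : (Cfsg.charDegree (χ : G → ℂ)).factorization p = D.index.factorization p) :
    Cfsg.IsGeneralizedCharacter G (ld_theta p D (χ : G → ℂ)) := by
  apply Cfsg.Agent.S0164.result
  · exact ld_theta_class p D hDZ (χ : G → ℂ)
      (isCharacter_isClassFunction (isCharacter_of_irr χ))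
  · intro E q hq hE
    haveI : Group.IsNilpotent E := isNilpotent_of_isElementary q hq hE
    exact ⟨_, 0, ld_restrict_char p D hDZ χ hdeg E, isCharacter_zero E, (sub_zero _).symm⟩

/-- pointwise, `|θ g|² ≤ |χ g|²` -/
theorem ld_theta_normSq_le {G : Type*} [Group G] [Finite G] (p : ℕ) [hp : Fact p.Prime]
    (D : Subgroup G) (hDZ : D ≤ Subgroup.center G)
    (χ : Cfsg.IrrCharacter G) (g : G) :
    Complex.normSq (ld_theta p D (χ : G → ℂ) g) ≤ Complex.normSq ((χ : G → ℂ) g) := by
  classical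
  unfold ld_theta
  by_cases h : sc_pp p g ∈ D
  · rw [if_pos h]
    set z := sc_pp p g with hz
    have hzc : z ∈ Subgroup.center G := hDZ h
    have hn : z ^ orderOf z = 1 := pow_orderOf_eq_one z
    obtain ⟨lam, hlam, hlamn⟩ := bp_central_shift χ z hzc (orderOf z) hn
    have h1 : (χ : G → ℂ) g = lam * (χ : G → ℂ) (z⁻¹ * g) := by
      rw [← hlam, mul_inv_cancel_left]
    have h2 : ‖lam‖ = 1 := Complex.norm_eq_one_of_pow_eq_one hlamn (orderOf_pos z).ne'
    rw [h1, map_mul, Complex.normSq_eq_norm_sq lam, h2]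
    simp
  · rw [if_neg h, map_zero]
    exact Complex.normSq_nonneg _

end

section

/-- `ld_theta` is an irreducible character -/
theorem ld_theta_irr {G : Type*} [Group G] [Fintype G] (p : ℕ) [hp : Fact p.Prime]
    (D : Subgroup G) (hD : IsPGroup p D) (hDZ : D ≤ Subgroup.center G)
    (χ : Cfsg.IrrCharacter G)
    (hdeg : (Cfsg.charDegree (χ : G → ℂ)).factorization p = D.index.factorization p) :
    ∃ η : Cfsg.IrrCharacter G, (η : G → ℂ) = ld_theta p D (χ : G → ℂ) := by
  classical
  haveI : Fintype (Cfsg.IrrCharacter G) := Fintype.ofFinite _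
  set θ := ld_theta p D (χ : G → ℂ) with hθ
  have hgen := ld_theta_genChar p D hDZ χ hdeg
  have hcl := genChar_classFunction θ hgen
  have hc := fun η => genChar_inner_int θ hgen η
  choose c hc using hc
  have hpar := classInner_parseval θ hcl
  simp only [hc, map_intCast] at hpar
  set k : ℤ := ∑ η, c η * c η with hk
  have hpar' : Cfsg.classInner θ θ = (k : ℂ) := by
    rw [hpar, hk]
    push_cast
    rfl
  have hnorm : ∀ f : G → ℂ, Cfsg.classInner f f =
      (((Nat.card G : ℝ)⁻¹ * ∑ g, Complex.normSq (f g) : ℝ) : ℂ) := by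
    intro f
    unfold Cfsg.classInner
    push_cast
    congr 1
    refine Finset.sum_congr rfl fun g _ => ?_
    rw [Complex.mul_conj]
  have hχ1 : Cfsg.classInner (χ : G → ℂ) (χ : G → ℂ) = 1 := by
    rw [irr_classInner, if_pos rfl]
  have hχ1' : (Nat.card G : ℝ)⁻¹ * ∑ g, Complex.normSq ((χ : G → ℂ) g) = 1 := by
    rw [hnorm] at hχ1
    exact_mod_cast hχ1
  have hk' : (Nat.card G : ℝ)⁻¹ * ∑ g, Complex.normSq (θ g) = (k : ℝ) := by
    have := hpar'
    rw [hnorm] at this
    exact_mod_cast this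
  have hle : (k : ℝ) ≤ 1 := by
    rw [← hk', ← hχ1']
    apply mul_le_mul_of_nonneg_left _ (inv_nonneg.mpr (Nat.cast_nonneg _))
    exact Finset.sum_le_sum fun g _ => ld_theta_normSq_le p D hDZ χ g
  have hθ1 : θ 1 = (χ : G → ℂ) 1 := ld_theta_mem p D hD (χ : G → ℂ) 1 D.one_mem
  have hpos : (0 : ℝ) < k := by
    rw [← hk']
    apply mul_pos (inv_pos.mpr (by exact_mod_cast Nat.card_pos))
    have h2 : 0 < Complex.normSq (θ 1) := by
      rw [hθ1]
      exact Complex.normSq_pos.mpr (irr_one_ne_zero χ)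
    exact lt_of_lt_of_le h2 (Finset.single_le_sum (f := fun g => Complex.normSq (θ g))
      (fun g _ => Complex.normSq_nonneg _) (Finset.mem_univ 1))
  have hk1 : k = 1 := by
    have h1 : k ≤ 1 := by exact_mod_cast hle
    have h2 : 0 < k := by exact_mod_cast hpos
    omega
  have hnorm1 : Cfsg.classInner θ θ = 1 := by
    rw [hpar', hk1]
    simp
  obtain ⟨ε, η, hε, hθη⟩ := genChar_norm_one θ hgen hnorm1
  refine ⟨η, ?_⟩
  rcases hε with h1 | h1
  · rw [hθη, h1]
    simp
  · exfalso
    have h2 := congrFun hθη 1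
    rw [hθ1, h1, ← (h7_charDegree_props χ).2.2, Pi.smul_apply, ← (h7_charDegree_props η).2.2] at h2
    obtain ⟨-, hpos1, -⟩ := h7_charDegree_props χ
    obtain ⟨-, hpos2, -⟩ := h7_charDegree_props η
    have h3 : ((Cfsg.charDegree (χ : G → ℂ) : ℕ) : ℂ) + ((Cfsg.charDegree (η : G → ℂ) : ℕ) : ℂ)
        = 0 := by
      rw [h2]
      simp
    have h4 : Cfsg.charDegree (χ : G → ℂ) + Cfsg.charDegree (η : G → ℂ) = 0 := by
      exact_mod_cast h3
    omega

end

section

/-- **Laradji's theorem**: a central `p`-subgroup `D` with `ν_p(χ 1) = ν_p |G : D|` is a defect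
group of the block of `χ`, and `χ` vanishes off the elements with `p`-part in `D` -/
theorem ld_main {G : Type*} [Group G] [Fintype G] (p : ℕ) [hp : Fact p.Prime]
    (M : Ideal Cfsg.AlgInt) (hM : Cfsg.IsPModular p M)
    (D : Subgroup G) (hD : IsPGroup p D) (hDZ : D ≤ Subgroup.center G)
    (χ : Cfsg.IrrCharacter G)
    (hdeg : (Cfsg.charDegree (χ : G → ℂ)).factorization p = D.index.factorization p) :
    Cfsg.IsDefectGroup p M (Cfsg.blockOf M (χ : G → ℂ)) D ∧
      ∀ g x : G, Cfsg.IsPPart p g x → x ∉ D → (χ : G → ℂ) g = 0 := by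
  classical
  haveI : Fintype (Cfsg.IrrCharacter G) := Fintype.ofFinite _
  have hPr := hM.2.1.isPrime
  obtain ⟨η, hη⟩ := ld_theta_irr p D hD hDZ χ hdeg
  haveI : D.Normal := ld_normal_of_central D hDZ
  have hsup : D ⊔ Subgroup.centralizer (D : Set G) = ⊤ := by
    have : Subgroup.centralizer (D : Set G) = ⊤ :=
      Subgroup.centralizer_eq_top_iff_subset.mpr hDZ
    rw [this, sup_top_eq]
  have hη1 : (η : G → ℂ) 1 = (χ : G → ℂ) 1 := by
    rw [hη]
    exact ld_theta_mem p D hD (χ : G → ℂ) 1 D.one_mem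
  have hker : ∀ x ∈ D, (η : G → ℂ) x = (η : G → ℂ) 1 := by
    intro x hx
    rw [hη1, hη]
    exact ld_theta_mem p D hD (χ : G → ℂ) x hx
  have hdegη : (Cfsg.charDegree (η : G → ℂ)).factorization p = D.index.factorization p := by
    rw [← hdeg]
    unfold Cfsg.charDegree
    rw [hη1]
  have hdef := bq_defect_of_relative_zero p M hM D hD hsup η hker hdegη
  have hmem : η ∈ Cfsg.blockOf M (χ : G → ℂ) := by
    apply qr_sameBlock_of_pregular p M hM χ η
    intro x hx
    have h1 : (η : G → ℂ) x = (χ : G → ℂ) x := by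
      rw [hη]
      exact ld_theta_reg p D (χ : G → ℂ) x hx
    unfold Cfsg.centralChar
    rw [h1, hη1, sub_self]
    exact h7_memLocalIdeal_zero hPr
  have hblk := h7_blockOf_eq_of_mem hPr χ η hmem
  rw [← hblk] at hdef
  refine ⟨hdef, ?_⟩
  intro g x hx hxD
  apply Cfsg.Agent.S0924.result p M hM χ g x hx
  intro Δ hΔ
  obtain ⟨t, ht⟩ := qh_defect_conj p M hM _ ⟨χ, rfl⟩ D Δ hdef hΔ
  have hΔD : Δ = D := by
    rw [ht]
    ext y
    constructor
    · rintro ⟨d, hd, rfl⟩
      have h1 := hDZ hd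
      have h3 : t * d * t⁻¹ = d := by
        rw [Subgroup.mem_center_iff.mp h1 t, mul_inv_cancel_right]
      show t * d * t⁻¹ ∈ D
      rw [h3]
      exact hd
    · intro hy
      refine ⟨y, hy, ?_⟩
      have h1 := hDZ hy
      show t * y * t⁻¹ = y
      rw [Subgroup.mem_center_iff.mp h1 t, mul_inv_cancel_right]
  rw [hΔD]
  exact hxD

end

end Cfsg.Agent.Lib.Helper25
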