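import Mathlib
import Cfsg.Agent.Lib.Helper19.G2V.Defs
import Cfsg.Agent.Lib.helper8.ChevCent2

/-!
# G2V row I3: values of `iota` on transvections and diagonal matrices
(`iota_upper`, `iota_lower`, `iota_dg`, `iota_ha`), verbatim.
-/

set_option autoImplicit false

namespace Cfsg.Agent.Lib.Helper19.G2V

open Cfsg.Lie Cfsg.Lie.ChevalleyDatum Matrix
open Cfsg.Agent.Lib.helper8
open Cfsg.Agent.Lib.helper23.P4V

universe u

variable {F : Type u} [Field F]

theorem g2vi3_hb_one : hb (1 : F) = 1 := h8hU_one chevG2 hB 6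

/-- upper transvection in `SL₂` -/
def g2vi3_U (t : F) : Matrix.SpecialLinearGroup (Fin 2) F :=
  ⟨!![1, t; 0, 1], by rw [Matrix.det_fin_two_of]; ring⟩

/-- lower transvection in `SL₂` -/
def g2vi3_L (t : F) : Matrix.SpecialLinearGroup (Fin 2) F :=
  ⟨!![1, 0; t, 1], by rw [Matrix.det_fin_two_of]; ring⟩

theorem g2vi3_phiA_U (t : F) : phiA (g2vi3_U t) = X 7 t := phiA_upper _ t rfl

theorem g2vi3_phiA_L (t : F) : phiA (g2vi3_L t) = X 4 t := phiA_lower _ t rfl

theorem g2vi3_det_ne (A : GL (Fin 2) F) : (A : M2 F).det ≠ 0 := by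
  have h := A.isUnit.map (Matrix.detMonoidHom (n := Fin 2) (R := F))
  exact h.ne_zero

theorem iota_upper (A : GL (Fin 2) F) (t : F) (hA : (A : M2 F) = !![1, t; 0, 1]) : iota A = X 7 t := by
  have hdet : (A : M2 F).det = 1 := by rw [hA, Matrix.det_fin_two_of]; ring
  unfold iota
  rw [hdet, g2vi3_hb_one, mul_one]
  apply phiA_upper
  rw [sl2of_val, hdet, hA, inv_one]
  ext i j
  fin_cases i <;> fin_cases j <;> simp [Matrix.mul_apply, Fin.sum_univ_two]

theorem iota_lower (A : GL (Fin 2) F) (t : F) (hA : (A : M2 F) = !![1, 0; t, 1]) : iota A = X 4 t := by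
  have hdet : (A : M2 F).det = 1 := by rw [hA, Matrix.det_fin_two_of]; ring
  unfold iota
  rw [hdet, g2vi3_hb_one, mul_one]
  apply phiA_lower
  rw [sl2of_val, hdet, hA, inv_one]
  ext i j
  fin_cases i <;> fin_cases j <;> simp [Matrix.mul_apply, Fin.sum_univ_two]

theorem iota_dg (A : GL (Fin 2) F) (c : F) (hA : (A : M2 F) = !![1, 0; 0, c]) : iota A = hb c := by
  have hdet : (A : M2 F).det = c := by rw [hA, Matrix.det_fin_two_of]; ring
  have hc : c ≠ 0 := by
    have h := g2vi3_det_ne A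
    rwa [hdet] at h
  unfold iota
  rw [hdet]
  have hs : sl2of A = 1 := by
    apply Subtype.ext
    rw [sl2of_val, hdet, hA]
    ext i j
    fin_cases i <;> fin_cases j <;> simp [Matrix.mul_apply, Fin.sum_univ_two, hc]
  rw [hs, map_one, one_mul]

theorem g2vi3_ha_eq (c : F) :
    ha c = X 7 c * X 4 (-c⁻¹) * X 7 c * (X 7 (-1) * X 4 (-(-1 : F)⁻¹) * X 7 (-1)) := by
  have hneg : chevG2.neg 7 = 4 := by decide
  unfold ha h8hU ChevalleyDatum.hWord ChevalleyDatum.nWord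
  rw [h8wordU_append]
  unfold h8wordU X
  simp only [List.map_cons, List.map_nil, List.prod_cons, List.prod_nil, mul_one, hneg, mul_assoc]

theorem iota_ha (A : GL (Fin 2) F) (c : F) (hc : c ≠ 0) (hA : (A : M2 F) = !![c, 0; 0, c⁻¹]) :
    iota A = ha c := by
  have hdet : (A : M2 F).det = 1 := by
    rw [hA, Matrix.det_fin_two_of, mul_inv_cancel₀ hc]; ring
  unfold iota
  rw [hdet, g2vi3_hb_one, mul_one]
  have hv : ((g2vi3_U c * g2vi3_L (-c⁻¹) * g2vi3_U c *
      (g2vi3_U (-1) * g2vi3_L (-(-1 : F)⁻¹) * g2vi3_U (-1)) : Matrix.SpecialLinearGroup (Fin 2) F) : M2 F) =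
      !![c, 0; 0, c⁻¹] := by
    rw [Matrix.SpecialLinearGroup.coe_mul, Matrix.SpecialLinearGroup.coe_mul,
      Matrix.SpecialLinearGroup.coe_mul, Matrix.SpecialLinearGroup.coe_mul,
      Matrix.SpecialLinearGroup.coe_mul]
    show !![1, c; 0, 1] * !![1, 0; -c⁻¹, 1] * !![1, c; 0, 1] *
      (!![1, -1; 0, 1] * !![1, 0; -(-1 : F)⁻¹, 1] * !![1, -1; 0, 1]) = !![c, 0; 0, c⁻¹]
    ext i j
    fin_cases i <;> fin_cases j <;>
      simp [Matrix.mul_apply, Fin.sum_univ_two, hc]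
  have hs : sl2of A = g2vi3_U c * g2vi3_L (-c⁻¹) * g2vi3_U c *
      (g2vi3_U (-1) * g2vi3_L (-(-1 : F)⁻¹) * g2vi3_U (-1)) := by
    apply Matrix.SpecialLinearGroup.ext
    intro i j
    rw [hv, sl2of_val, hdet, hA]
    fin_cases i <;> fin_cases j <;> simp [Matrix.mul_apply, Fin.sum_univ_two]
  rw [hs, map_mul, map_mul, map_mul, map_mul, map_mul, g2vi3_phiA_U, g2vi3_phiA_L, g2vi3_phiA_U,
    g2vi3_phiA_L, g2vi3_ha_eq]

end Cfsg.Agent.Lib.Helper19.G2V
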