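import Mathlib
import Cfsg.Agent.Lib.Helper19.G2V.Defs
import Cfsg.Agent.Lib.Helper16.G2VN1
import Cfsg.Agent.Lib.Helper21.G2VN2
import Cfsg.Agent.Lib.Helper25.G2VI3

/-!
# G2V row N3 (`nrho_iota`, `nrho_iota'`), verbatim: `nrho * iota A * nrho⁻¹ = iota ((det A)⁻¹ A)`.
On N1 (`nrho_phiA`), N2 (`nrho_hb`), I3 (`iota_ha`).
-/

set_option autoImplicit false

namespace Cfsg.Agent.Lib.Helper19.G2V

open Cfsg.Lie Cfsg.Lie.ChevalleyDatum Matrix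
open Cfsg.Agent.Lib.helper8
open Cfsg.Agent.Lib.helper23.P4V

universe u

variable {F : Type u} [Field F]

/-- `diag(c, c⁻¹)` in `SL₂` -/
def g2vn3_D (c : F) (hc : c ≠ 0) : Matrix.SpecialLinearGroup (Fin 2) F :=
  ⟨!![c, 0; 0, c⁻¹], by rw [Matrix.det_fin_two_of, mul_inv_cancel₀ hc]; ring⟩

/-- `phiA (diag(c, c⁻¹)) = ha c` -/
theorem g2vn3_phiA_D (c : F) (hc : c ≠ 0) : phiA (g2vn3_D c hc) = ha c := by
  have hdet : (!![c, 0; 0, c⁻¹] : M2 F).det ≠ 0 := by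
    rw [Matrix.det_fin_two_of, mul_inv_cancel₀ hc]
    simp
  have h1 := iota_ha (mk2 (!![c, 0; 0, c⁻¹] : M2 F) hdet) c hc (mk2_val _ hdet)
  rw [← h1]
  unfold iota
  have hd1 : ((mk2 (!![c, 0; 0, c⁻¹] : M2 F) hdet : GL (Fin 2) F) : M2 F).det = 1 := by
    rw [mk2_val, Matrix.det_fin_two_of, mul_inv_cancel₀ hc]
    ring
  rw [hd1, g2vi3_hb_one, mul_one]
  congr 1
  apply Matrix.SpecialLinearGroup.ext
  intro i j
  rw [sl2of_val, hd1, mk2_val]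
  show (!![c, 0; 0, c⁻¹] : M2 F) i j = ((!![c, 0; 0, c⁻¹] : M2 F) * !![1, 0; 0, (1 : F)⁻¹]) i j
  fin_cases i <;> fin_cases j <;> simp [Matrix.mul_apply, Fin.sum_univ_two]

theorem g2vn3_mat (M : M2 F) (d : F) (hd : d ≠ 0) :
    M * !![1, 0; 0, d⁻¹] * (!![d⁻¹, 0; 0, d] : M2 F) = (d⁻¹ • M) * !![1, 0; 0, d] := by
  ext i j
  fin_cases i <;> fin_cases j <;>
    simp [Matrix.mul_apply, Fin.sum_univ_two] <;> field_simp <;> simp

/-- **N3** [M] (both).  N1, N2, I3. -/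
theorem nrho_iota (A A' : GL (Fin 2) F) (h : (A' : M2 F) = ((A : M2 F).det)⁻¹ • (A : M2 F)) :
    nrho * iota A * nrho⁻¹ = iota A' := by
  have hc : (A : M2 F).det ≠ 0 := g2vi3_det_ne A
  have hc' : ((A : M2 F).det)⁻¹ ≠ 0 := inv_ne_zero hc
  have hdet' : (A' : M2 F).det = ((A : M2 F).det)⁻¹ := by
    rw [h, Matrix.det_smul, Fintype.card_fin]
    field_simp
  -- left side
  have hL : nrho * iota A * nrho⁻¹ =
      phiA (sl2of A) * (ha ((A : M2 F).det)⁻¹ * hb ((A : M2 F).det)⁻¹) := by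
    unfold iota
    rw [← nrho_hb _ hc]
    rw [← mul_assoc, nrho_phiA]
    simp only [mul_assoc]
  rw [hL, ← g2vn3_phiA_D _ hc', ← mul_assoc, ← map_mul]
  unfold iota
  rw [hdet']
  congr 2
  apply Matrix.SpecialLinearGroup.ext
  intro i j
  rw [Matrix.SpecialLinearGroup.coe_mul, sl2of_val, sl2of_val, hdet', h, inv_inv]
  show ((A : M2 F) * !![1, 0; 0, ((A : M2 F).det)⁻¹] *
      (!![((A : M2 F).det)⁻¹, 0; 0, (((A : M2 F).det)⁻¹)⁻¹] : M2 F)) i j =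
    ((((A : M2 F).det)⁻¹ • (A : M2 F)) * !![1, 0; 0, (A : M2 F).det]) i j
  rw [inv_inv, g2vn3_mat _ _ hc]

theorem nrho_iota' (A A' : GL (Fin 2) F) (h : (A' : M2 F) = ((A : M2 F).det)⁻¹ • (A : M2 F)) :
    nrho⁻¹ * iota A * nrho = iota A' := by
  have hc : (A : M2 F).det ≠ 0 := g2vi3_det_ne A
  have hdet' : (A' : M2 F).det = ((A : M2 F).det)⁻¹ := by
    rw [h, Matrix.det_smul, Fintype.card_fin]
    field_simp
  have h' : (A : M2 F) = ((A' : M2 F).det)⁻¹ • (A' : M2 F) := by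
    rw [hdet', inv_inv, h, smul_smul, mul_inv_cancel₀ hc, one_smul]
  have h1 := nrho_iota A' A h'
  rw [← h1]
  group

end Cfsg.Agent.Lib.Helper19.G2V
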