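/-
helper25: piece LW-P7 of helper22's Livingstone-Wagner project (S0745/S0746), see
Cfsg/Agent/Lib/Helper22/LW/PLAN.md.  `toolS` (transitive of prime degree p, order p*m with
no divisor of m congruent to 1 mod p other than 1 gives m ∣ p - 1) and the four kills.
-/
import Mathlib
import Cfsg.Agent.S0680

set_option autoImplicit false

namespace Cfsg.Agent.Lib.Helper25.LWP7

open MulAction

theorem toolS {X β : Type*} [Group X] [Finite X] [Fintype β] [DecidableEq β] [MulAction X β] [FaithfulSMul X β]
    [IsPretransitive X β] (p m : ℕ) (hp : p.Prime) (hβ : Fintype.card β = p) (hX : Nat.card X = p * m)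
    (hdiv : ∀ d, d ∣ m → d % p = 1 → d = 1) : m ∣ p - 1 := by
  classical
  have : Fact p.Prime := ⟨hp⟩
  have hm0 : m ≠ 0 := by
    rintro rfl
    rw [mul_zero] at hX
    exact Nat.card_pos.ne' hX
  -- p ∤ m
  have hpm : ¬ p ∣ m := by
    intro hpm
    have h1 : Nat.card X ∣ Nat.card (Equiv.Perm β) :=
      Subgroup.card_dvd_of_injective (MulAction.toPermHom X β) MulAction.toPerm_injective
    rw [Nat.card_perm, Nat.card_eq_fintype_card (α := β), hβ, hX] at h1
    have h2 : p.factorial = p * (p-1).factorial := by
      obtain ⟨k, rfl⟩ : ∃ k, p = k + 1 := ⟨p - 1, by have := hp.pos; omega⟩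
      rw [Nat.factorial_succ]; simp
    rw [h2] at h1
    have h3 : m ∣ (p-1).factorial := Nat.dvd_of_mul_dvd_mul_left hp.pos h1
    have h4 := (hp.dvd_factorial).mp (hpm.trans h3)
    have := hp.one_lt
    omega
  obtain ⟨P⟩ : Nonempty (Sylow p X) := inferInstance
  have hPcard : Nat.card P = p := by
    rw [Sylow.card_eq_multiplicity, hX, Nat.factorization_mul hp.ne_zero hm0]
    simp [hp.factorization_self, Nat.factorization_eq_zero_of_not_dvd hpm]
  have hPidx : (P : Subgroup X).index = m := by
    have := (P : Subgroup X).card_mul_index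
    rw [hPcard, hX] at this
    exact Nat.eq_of_mul_eq_mul_left hp.pos this
  have hn1 : Nat.card (Sylow p X) = 1 := by
    apply hdiv
    · rw [← hPidx]; exact P.card_dvd_index
    · have := card_sylow_modEq_one p X
      rw [Nat.ModEq, Nat.mod_eq_of_lt hp.one_lt] at this
      exact this
  have hPn : (P : Subgroup X).Normal := by
    have := P.card_eq_index_normalizer
    rw [hn1] at this
    exact Subgroup.normalizer_eq_top_iff.mp (Subgroup.index_eq_one.mp this.symm)
  have : IsCyclic (P : Subgroup X) := isCyclic_of_prime_card hPcard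
  -- a generator
  have hPne : (P : Subgroup X) ≠ ⊥ := by
    intro h
    rw [h, Subgroup.card_bot] at hPcard
    exact hp.one_lt.ne hPcard
  obtain ⟨u, huP, hu1⟩ := (Subgroup.ne_bot_iff_exists_ne_one.mp hPne |>.imp fun u hu => hu) |> fun ⟨u, hu⟩ =>
    (⟨(u : X), u.2, fun h => hu (Subtype.ext h)⟩ : ∃ u : X, u ∈ (P : Subgroup X) ∧ u ≠ 1)
  have huord : orderOf u = p := by
    have h1 : orderOf u ∣ p := by
      have := orderOf_dvd_natCard (⟨u, huP⟩ : (P : Subgroup X))
      rw [hPcard] at this
      rwa [← Subgroup.orderOf_mk u huP]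
    rcases (Nat.dvd_prime hp).mp h1 with h | h
    · exact absurd (orderOf_eq_one_iff.mp h) hu1
    · exact h
  -- the permutation of u is a p-cycle
  set σ : Equiv.Perm β := MulAction.toPermHom X β u with hσ
  have hσord : orderOf σ = p := by
    rw [hσ, orderOf_injective (MulAction.toPermHom X β) MulAction.toPerm_injective, huord]
  have hσcyc : σ.IsCycle := Equiv.Perm.isCycle_of_prime_order'' (hβ ▸ hp) (hσord.trans hβ.symm)
  have hσsupp : σ.support = Finset.univ := by
    apply Finset.eq_univ_of_card
    rw [← hσcyc.orderOf, hσord, hβ]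
  have htrans : ∀ x y : β, ∃ i : ℤ, (u ^ i) • x = y := by
    intro x y
    have hx : x ∈ σ.support := by rw [hσsupp]; exact Finset.mem_univ _
    have hy : y ∈ σ.support := by rw [hσsupp]; exact Finset.mem_univ _
    obtain ⟨i, hi⟩ := hσcyc.exists_zpow_eq (Equiv.Perm.mem_support.mp hx) (Equiv.Perm.mem_support.mp hy)
    refine ⟨i, ?_⟩
    rw [← hi, hσ, ← map_zpow]
    rfl
  obtain ⟨b⟩ : Nonempty β := by
    rw [← Fintype.card_pos_iff, hβ]; exact hp.pos
  -- the stabilizer has order m
  have hstab : Nat.card (stabilizer X b) = m := by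
    have h1 := MulAction.index_stabilizer_of_transitive X b
    have h2 := (stabilizer X b).card_mul_index
    rw [h1, Nat.card_eq_fintype_card (α := β), hβ, hX, mul_comm] at h2
    exact Nat.eq_of_mul_eq_mul_left hp.pos h2
  -- conjugation hom
  let φ : stabilizer X b →* MulAut (P : Subgroup X) :=
    (MulAut.conjNormal (H := (P : Subgroup X))).comp (stabilizer X b).subtype
  have hφ : Function.Injective φ := by
    rw [injective_iff_map_eq_one]
    intro g hg
    have h1 : (g : X) * u * (g : X)⁻¹ = u := by
      have := congrArg (fun f : MulAut (P : Subgroup X) => ((f ⟨u, huP⟩ : (P : Subgroup X)) : X)) hg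
      simpa [φ, MulAut.conjNormal_apply] using this
    have hgb : (g : X) • b = b := g.2
    have hcomm : ∀ i : ℤ, (g : X) * u ^ i = u ^ i * (g : X) := by
      intro i
      have : Commute (g : X) u := by
        rw [commute_iff_eq]
        calc (g : X) * u = ((g : X) * u * (g : X)⁻¹) * (g : X) := by group
          _ = u * (g : X) := by rw [h1]
      exact (this.zpow_right i).eq
    have hall : ∀ x : β, (g : X) • x = x := by
      intro x
      obtain ⟨i, rfl⟩ := htrans b x
      rw [← mul_smul, hcomm, mul_smul, hgb]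
    apply Subtype.ext
    apply FaithfulSMul.eq_of_smul_eq_smul (α := β)
    intro x
    rw [hall x, Subgroup.coe_one, one_smul]
  have h1 := Subgroup.card_dvd_of_injective φ hφ
  rw [hstab, IsCyclic.card_mulAut, hPcard, Nat.totient_prime hp] at h1
  exact h1

variable {α : Type*} [Fintype α] [DecidableEq α]

theorem kill_2_3_3 (G : Subgroup (Equiv.Perm α)) (hα : Fintype.card α = 11)
    (hG : Nat.card G = 330) (h1 : IsPretransitive G α) : False := by
  have key : ∀ d, d < 31 → d ∣ 30 → d % 11 = 1 → d = 1 := by decide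
  have h := toolS (X := G) (β := α) 11 30 (by norm_num) hα hG
    (fun d hd h => key d (Nat.lt_succ_of_le (Nat.le_of_dvd (by norm_num) hd)) hd h)
  omega

/-- The point stabiliser of a 2-transitive group of degree `p + 1`. -/
theorem kill_stab (G : Subgroup (Equiv.Perm α)) (p m : ℕ) (hp : p.Prime)
    (hα : Fintype.card α = p + 1) (hG : Nat.card G = (p + 1) * (p * m))
    (h2 : IsMultiplyPretransitive G α 2)
    (hdiv : ∀ d, d ∣ m → d % p = 1 → d = 1) : m ∣ p - 1 := by
  classical
  have hG1 : IsPretransitive G α := isPretransitive_of_is_two_pretransitive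
  obtain ⟨a⟩ : Nonempty α := by
    rw [← Fintype.card_pos_iff, hα]; omega
  let _ : Fintype (SubMulAction.ofStabilizer G a) := Fintype.ofFinite _
  have hβ : Fintype.card (SubMulAction.ofStabilizer G a) = p := by
    rw [← Nat.card_eq_fintype_card, SubMulAction.nat_card_ofStabilizer_eq,
      Nat.card_eq_fintype_card, hα]
    omega
  have hfaith : FaithfulSMul (stabilizer G a) (SubMulAction.ofStabilizer G a) := by
    constructor
    intro g g' h
    apply Subtype.ext
    apply Subtype.ext
    ext x
    by_cases hx : x = a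
    · rw [hx]
      have h1 : ((g : G) : Equiv.Perm α) a = a := g.2
      have h2 : ((g' : G) : Equiv.Perm α) a = a := g'.2
      rw [h1, h2]
    · have := congrArg Subtype.val
        (h ⟨x, (SubMulAction.mem_ofStabilizer_iff G a).mpr hx⟩)
      exact this
  have htr : IsPretransitive (stabilizer G a) (SubMulAction.ofStabilizer G a) := by
    have h3 : IsMultiplyPretransitive (stabilizer G a) (SubMulAction.ofStabilizer G a) 1 :=
      (SubMulAction.ofStabilizer.isMultiplyPretransitive (n := 1) (a := a)).mp h2
    exact is_one_pretransitive_iff.mp h3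
  have hX : Nat.card (stabilizer G a) = p * m := by
    have h1 := MulAction.index_stabilizer_of_transitive G a
    have h2 := (stabilizer G a).card_mul_index
    rw [h1, Nat.card_eq_fintype_card (α := α), hα, hG, mul_comm] at h2
    exact Nat.eq_of_mul_eq_mul_left (by omega) h2
  exact toolS (X := stabilizer G a) (β := SubMulAction.ofStabilizer G a) p m hp hβ hX hdiv

theorem kill_3_3_3 (G : Subgroup (Equiv.Perm α)) (hα : Fintype.card α = 12)
    (hG : Nat.card G = 3960) (h2 : IsMultiplyPretransitive G α 2) : False := by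
  have key : ∀ d, d < 31 → d ∣ 30 → d % 11 = 1 → d = 1 := by decide
  have h := kill_stab G 11 30 (by norm_num) hα (by rw [hG]) h2
    (fun d hd h => key d (Nat.lt_succ_of_le (Nat.le_of_dvd (by norm_num) hd)) hd h)
  omega

theorem kill_3_7_3 (G : Subgroup (Equiv.Perm α)) (hα : Fintype.card α = 24)
    (hG : Nat.card G = 85008) (h2 : IsMultiplyPretransitive G α 2) : False := by
  have key : ∀ d, d < 155 → d ∣ 154 → d % 23 = 1 → d = 1 := by decide
  have h := kill_stab G 23 154 (by norm_num) hα (by rw [hG]) h2
    (fun d hd h => key d (Nat.lt_succ_of_le (Nat.le_of_dvd (by norm_num) hd)) hd h)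
  omega

theorem kill_3_1_4 (G : Subgroup (Equiv.Perm α)) (hα : Fintype.card α = 7)
    (h3 : IsMultiplyPretransitive G α 3)
    (hs : ∀ s : Finset α, s.card = 3 → fixingSubgroup G (s : Set α) = ⊥) : False := by
  classical
  have h2 : IsMultiplyPretransitive G α 2 := isMultiplyPretransitive_of_le (n := 3) (by norm_num)
    (by rw [Nat.card_eq_fintype_card, hα]; norm_num)
  have hG1 : IsPretransitive G α := isPretransitive_of_is_two_pretransitive
  obtain ⟨a⟩ : Nonempty α := by
    rw [← Fintype.card_pos_iff, hα]; omega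
  let _ : Fintype (SubMulAction.ofStabilizer G a) := Fintype.ofFinite _
  let _ : Fintype (stabilizer G a) := Fintype.ofFinite _
  have hβ : Fintype.card (SubMulAction.ofStabilizer G a) = 6 := by
    rw [← Nat.card_eq_fintype_card, SubMulAction.nat_card_ofStabilizer_eq,
      Nat.card_eq_fintype_card, hα]
  have h22 : IsMultiplyPretransitive (stabilizer G a) (SubMulAction.ofStabilizer G a) 2 :=
    (SubMulAction.ofStabilizer.isMultiplyPretransitive (n := 2) (a := a)).mp h3
  have H2T : ∀ x y z w : SubMulAction.ofStabilizer G a, x ≠ y → z ≠ w →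
      ∃ g : stabilizer G a, g • x = z ∧ g • y = w := by
    intro x y z w hxy hzw
    exact is_two_pretransitive_iff.mp h22 hxy hzw
  have HS : ∀ (g : stabilizer G a) (x y : SubMulAction.ofStabilizer G a), x ≠ y →
      g • x = x → g • y = y → g = 1 := by
    intro g x y hxy hgx hgy
    have hxa : (x : α) ≠ a := (SubMulAction.mem_ofStabilizer_iff G a).mp x.2
    have hya : (y : α) ≠ a := (SubMulAction.mem_ofStabilizer_iff G a).mp y.2
    have hxy' : (x : α) ≠ y := fun h => hxy (Subtype.ext h)
    have hcard : ({a, (x : α), (y : α)} : Finset α).card = 3 := by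
      rw [Finset.card_insert_of_notMem, Finset.card_insert_of_notMem, Finset.card_singleton]
      · simpa using hxy'
      · simp only [Finset.mem_insert, Finset.mem_singleton, not_or]
        exact ⟨hxa.symm, hya.symm⟩
    have hmem : (g : G) ∈ fixingSubgroup G (({a, (x : α), (y : α)} : Finset α) : Set α) := by
      rw [mem_fixingSubgroup_iff]
      intro z hz
      simp only [Finset.coe_insert, Finset.coe_singleton, Set.mem_insert_iff,
        Set.mem_singleton_iff] at hz
      rcases hz with rfl | rfl | rfl
      · exact g.2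
      · exact congrArg Subtype.val hgx
      · exact congrArg Subtype.val hgy
    rw [hs _ hcard, Subgroup.mem_bot] at hmem
    exact Subtype.ext hmem
  obtain ⟨K, p, j, hp, hj1, hj, -⟩ :=
    Cfsg.Agent.S0680.structure_thm H2T HS (by rw [hβ]; norm_num)
  rw [hβ] at hj
  have h2p : 2 ∣ p := (Nat.prime_two).dvd_of_dvd_pow (hj ▸ (by norm_num : 2 ∣ 6))
  have h3p : 3 ∣ p := (Nat.prime_three).dvd_of_dvd_pow (hj ▸ (by norm_num : 3 ∣ 6))
  have e2 := (Nat.prime_dvd_prime_iff_eq Nat.prime_two hp).mp h2p
  have e3 := (Nat.prime_dvd_prime_iff_eq Nat.prime_three hp).mp h3p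
  omega

end Cfsg.Agent.Lib.Helper25.LWP7
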