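import Mathlib
import Cfsg.Agent.Lib.Helper10.O4320.Defs
import Cfsg.Agent.Lib.Helper25.CharLinear
import Cfsg.Agent.Lib.helper2.CharNat
import Cfsg.Agent.Lib.helper23.BRCLS

/-!
# Project O4320 (S0977), piece TOP5 (core): the five characters which do not vanish on `P ∖ 1`.
`FUSE` and `RAT` enter as hypotheses `hF`, `hR`.
-/

set_option autoImplicit false
set_option linter.unusedVariables false
set_option linter.unusedSectionVars false

namespace Cfsg.Agent.Lib.Helper10.O4320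

open Classical
open scoped ComplexConjugate
open Cfsg.Agent.Lib.helper7.BR Cfsg.Agent.Lib.Helper25 Cfsg.Agent.Lib.Helper29

universe u

variable {G : Type u} [Group G] [Fintype G]

/-- an integer with non-zero square different from one has square at least four. -/
theorem o4320top5_sq_ge (z : ℤ) (h0 : z ≠ 0) (h1 : z ^ 2 ≠ 1) : 4 ≤ z ^ 2 := by
  have h2 : 2 ≤ z ∨ z ≤ -2 := by
    by_contra hcon
    push Not at hcon
    obtain ⟨ha, hb⟩ := hcon
    have : z = -1 ∨ z = 0 ∨ z = 1 := by omega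
    rcases this with rfl | rfl | rfl
    · exact h1 (by norm_num)
    · exact h0 rfl
    · exact h1 (by norm_num)
  rcases h2 with h | h <;> nlinarith

/-- TOP5, core. -/
theorem o4320top5_core (P : Sylow 5 G) (hP : Nat.card ↥(P : Subgroup G) = 5)
    (hcen : cen P = (P : Subgroup G))
    (hF : ∀ x y : G, x ∈ (P : Subgroup G) → x ≠ 1 → y ∈ (P : Subgroup G) → y ≠ 1 → IsConj x y)
    (hR : ∀ (χ : G → ℂ), Cfsg.IsCharacter G χ → ∀ d : ℕ, χ 1 = (d : ℂ) → ∀ c : ℂ,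
      (∀ x ∈ (P : Subgroup G), x ≠ 1 → χ x = c) → ∃ v : ℤ, c = (v : ℂ) ∧ (5 : ℤ) ∣ (d : ℤ) - v) :
    ∃ (B : Finset (Cfsg.IrrCharacter G)) (v : Cfsg.IrrCharacter G → ℤ), B.card = 5 ∧ trivIrr G ∈ B ∧
      v (trivIrr G) = 1 ∧
      (∀ χ ∈ B, (v χ = 1 ∨ v χ = -1) ∧ (5 : ℤ) ∣ (leoDeg χ : ℤ) - v χ) ∧
      (∀ χ ∈ B, ∀ x ∈ (P : Subgroup G), x ≠ 1 → (χ : G → ℂ) x = (v χ : ℂ)) ∧
      (∀ χ : Cfsg.IrrCharacter G, χ ∉ B → ∀ x ∈ (P : Subgroup G), x ≠ 1 → (χ : G → ℂ) x = 0) ∧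
      ∑ χ ∈ B, v χ * (leoDeg χ : ℤ) = 0 := by
  have : Fintype (Cfsg.IrrCharacter G) := Fintype.ofFinite _
  -- a generator
  have hne : (P : Subgroup G) ≠ ⊥ := by
    intro h
    rw [h, Subgroup.card_bot] at hP
    norm_num at hP
  obtain ⟨⟨x0, hx0⟩, hx01'⟩ := (Subgroup.ne_bot_iff_exists_ne_one).mp hne
  have hx01 : x0 ≠ 1 := by
    intro h
    apply hx01'
    exact Subtype.ext h
  -- every irreducible character is constant on `P ∖ 1`
  have hconst : ∀ (χ : Cfsg.IrrCharacter G), ∀ x ∈ (P : Subgroup G), x ≠ 1 →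
      (χ : G → ℂ) x = (χ : G → ℂ) x0 :=
    fun χ x hx hx1 => irr_isConj_eq χ (hF x x0 hx hx1 hx0 hx01)
  have hex : ∀ χ : Cfsg.IrrCharacter G, ∃ v : ℤ, (χ : G → ℂ) x0 = (v : ℂ) ∧
      (5 : ℤ) ∣ (leoDeg χ : ℤ) - v :=
    fun χ => hR (χ : G → ℂ) (Cfsg.Agent.Lib.helper2.isCharacter_of_irr χ) (leoDeg χ) (leoDeg_spec χ)
      ((χ : G → ℂ) x0) (hconst χ)
  choose v hv using hex
  have hvtriv : v (trivIrr G) = 1 := by
    have h := (hv (trivIrr G)).1
    rw [trivIrr_apply] at h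
    have : ((v (trivIrr G) : ℤ) : ℂ) = ((1 : ℤ) : ℂ) := by rw [← h]; norm_num
    exact_mod_cast this
  -- column orthogonality at `(x0, x0)`
  have hcentr : Nat.card ↥(Subgroup.centralizer ({x0} : Set G)) = 5 := by
    rw [centralizer_eq_cen P hP x0 hx0 hx01, hcen, hP]
  have hcol := irr_column_orthogonality (G := G) x0 x0
  rw [if_pos (IsConj.refl x0), hcentr] at hcol
  have hsq : ∑ χ : Cfsg.IrrCharacter G, (v χ) ^ 2 = 5 := by
    have : ((∑ χ : Cfsg.IrrCharacter G, (v χ) ^ 2 : ℤ) : ℂ) = ((5 : ℤ) : ℂ) := by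
      rw [Int.cast_sum]
      have h5 : ((5 : ℤ) : ℂ) = ((5 : ℕ) : ℂ) := by norm_num
      rw [h5, ← hcol]
      apply Finset.sum_congr rfl
      intro χ _
      rw [(hv χ).1, map_intCast]
      push_cast
      ring
    exact_mod_cast this
  -- column orthogonality at `(1, x0)`
  have hcol1 := irr_column_orthogonality (G := G) 1 x0
  have hnc : ¬ IsConj x0 (1 : G) := by
    intro h
    exact hx01 (isConj_one_left.mp h)
  rw [if_neg hnc] at hcol1
  have hvd : ∑ χ : Cfsg.IrrCharacter G, v χ * (leoDeg χ : ℤ) = 0 := by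
    have : ((∑ χ : Cfsg.IrrCharacter G, v χ * (leoDeg χ : ℤ) : ℤ) : ℂ) = ((0 : ℤ) : ℂ) := by
      rw [Int.cast_sum, Int.cast_zero, ← hcol1]
      apply Finset.sum_congr rfl
      intro χ _
      rw [(hv χ).1, map_intCast, leoDeg_spec]
      push_cast
      ring
    exact_mod_cast this
  -- the support
  set B : Finset (Cfsg.IrrCharacter G) := Finset.univ.filter (fun χ => v χ ≠ 0) with hB
  have hmemB : ∀ χ, χ ∈ B ↔ v χ ≠ 0 := by
    intro χ
    rw [hB, Finset.mem_filter]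
    simp
  have htrivB : trivIrr G ∈ B := by
    rw [hmemB, hvtriv]; norm_num
  have hsqB : ∑ χ ∈ B, (v χ) ^ 2 = 5 := by
    rw [← hsq, hB]
    apply Finset.sum_filter_of_ne
    intro χ _ h
    intro h0
    apply h
    rw [h0]; ring
  have hvdB : ∑ χ ∈ B, v χ * (leoDeg χ : ℤ) = 0 := by
    rw [← hvd, hB]
    apply Finset.sum_filter_of_ne
    intro χ _ h
    intro h0
    apply h
    rw [h0]; ring
  have hge1 : ∀ χ ∈ B, 1 ≤ (v χ) ^ 2 := by
    intro χ hχ
    have h0 : v χ ≠ 0 := (hmemB χ).mp hχ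
    have : 0 < (v χ) ^ 2 := by positivity
    linarith
  have hdegtriv : leoDeg (trivIrr G) = 1 := by
    have h := leoDeg_spec (trivIrr G)
    rw [trivIrr_apply] at h
    have : ((leoDeg (trivIrr G) : ℕ) : ℂ) = ((1 : ℕ) : ℂ) := by rw [← h]; norm_num
    exact_mod_cast this
  -- all squares are one
  have hall : ∀ χ ∈ B, (v χ) ^ 2 = 1 := by
    intro χ0 hχ0
    by_contra hne1
    have h0 : v χ0 ≠ 0 := (hmemB χ0).mp hχ0
    have h4 : 4 ≤ (v χ0) ^ 2 := o4320top5_sq_ge (v χ0) h0 hne1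
    have hχ0triv : trivIrr G ≠ χ0 := by
      intro h
      rw [← h, hvtriv] at hne1
      exact hne1 (by norm_num)
    have hsplit : (v χ0) ^ 2 + ∑ χ ∈ B.erase χ0, (v χ) ^ 2 = 5 := by
      rw [Finset.add_sum_erase B (fun χ => (v χ) ^ 2) hχ0]
      exact hsqB
    have htrivE : trivIrr G ∈ B.erase χ0 := Finset.mem_erase.mpr ⟨hχ0triv, htrivB⟩
    have hnn : ∀ χ ∈ B.erase χ0, 0 ≤ (v χ) ^ 2 := fun χ _ => by positivity
    have hle1 : (v (trivIrr G)) ^ 2 ≤ ∑ χ ∈ B.erase χ0, (v χ) ^ 2 :=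
      Finset.single_le_sum hnn htrivE
    rw [hvtriv] at hle1
    have hv4 : (v χ0) ^ 2 = 4 := by linarith
    have hrest : ∑ χ ∈ B.erase χ0, (v χ) ^ 2 = 1 := by linarith
    -- the rest is `{trivIrr G}`
    have honly : ∀ χ ∈ B.erase χ0, χ = trivIrr G := by
      intro χ hχ
      by_contra hneq
      have hχE : χ ∈ (B.erase χ0).erase (trivIrr G) := Finset.mem_erase.mpr ⟨hneq, hχ⟩
      have hsplit2 : (v (trivIrr G)) ^ 2 + ∑ ψ ∈ (B.erase χ0).erase (trivIrr G), (v ψ) ^ 2 = 1 := by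
        rw [Finset.add_sum_erase (B.erase χ0) (fun ψ => (v ψ) ^ 2) htrivE]
        exact hrest
      have hnn2 : ∀ ψ ∈ (B.erase χ0).erase (trivIrr G), 0 ≤ (v ψ) ^ 2 := fun ψ _ => by positivity
      have hle2 : (v χ) ^ 2 ≤ ∑ ψ ∈ (B.erase χ0).erase (trivIrr G), (v ψ) ^ 2 :=
        Finset.single_le_sum hnn2 hχE
      have hχB : χ ∈ B := (Finset.mem_erase.mp hχ).2
      have := hge1 χ hχB
      rw [hvtriv] at hsplit2
      linarith
    have hEeq : B.erase χ0 = {trivIrr G} := by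
      ext χ
      rw [Finset.mem_singleton]
      constructor
      · exact honly χ
      · intro h; rw [h]; exact htrivE
    have hsum2 : v χ0 * (leoDeg χ0 : ℤ) + ∑ χ ∈ B.erase χ0, v χ * (leoDeg χ : ℤ) = 0 := by
      rw [Finset.add_sum_erase B (fun χ => v χ * (leoDeg χ : ℤ)) hχ0]
      exact hvdB
    rw [hEeq, Finset.sum_singleton, hvtriv, hdegtriv] at hsum2
    have hv2 : v χ0 = 2 ∨ v χ0 = -2 := by
      have : (v χ0 - 2) * (v χ0 + 2) = 0 := by nlinarith
      rcases mul_eq_zero.mp this with h | h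
      · left; linarith
      · right; linarith
    rcases hv2 with h | h
    · rw [h] at hsum2; push_cast at hsum2; omega
    · rw [h] at hsum2; push_cast at hsum2; omega
  have hpm : ∀ χ ∈ B, v χ = 1 ∨ v χ = -1 := by
    intro χ hχ
    have h := hall χ hχ
    have : (v χ - 1) * (v χ + 1) = 0 := by nlinarith
    rcases mul_eq_zero.mp this with h | h
    · left; linarith
    · right; linarith
  have hcard : B.card = 5 := by
    have h1 : ∑ χ ∈ B, (v χ) ^ 2 = ∑ χ ∈ B, (1 : ℤ) := Finset.sum_congr rfl hall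
    rw [hsqB, Finset.sum_const, nsmul_eq_mul, mul_one] at h1
    exact_mod_cast h1.symm
  refine ⟨B, v, hcard, htrivB, hvtriv, ?_, ?_, ?_, hvdB⟩
  · intro χ hχ
    exact ⟨hpm χ hχ, (hv χ).2⟩
  · intro χ _ x hx hx1
    rw [hconst χ x hx hx1, (hv χ).1]
  · intro χ hχ x hx hx1
    have h0 : v χ = 0 := by
      by_contra h
      exact hχ ((hmemB χ).mpr h)
    rw [hconst χ x hx hx1, (hv χ).1, h0, Int.cast_zero]

end Cfsg.Agent.Lib.Helper10.O4320
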