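import Mathlib
import Cfsg.Prelude.Def_Characters
import Cfsg.Prelude.Def_Blocks
import Cfsg.Agent.Lib.Helper25.KnorrBound
import Cfsg.Agent.Lib.Helper25.RealOrbits
import Cfsg.Agent.Lib.helper7.CliffordSub
import Cfsg.Agent.Lib.helper7.CharTools
import Cfsg.Agent.Lib.helper7.Induction
import Cfsg.Agent.Lib.helper2.CharInd

/-!
Clifford correspondence: for `θ ∈ Irr(N)`, `N` normal in `G`, with stabilizer `T`, induction
`Irr(T | θ) → Irr(G | θ)` is well defined (irreducible, same multiplicity of `θ`) and injective.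
-/

set_option autoImplicit false

namespace Cfsg.Agent.Lib.Helper25
open Cfsg.Agent.Lib.helper7 Cfsg.Agent.Lib.Helper11 Cfsg.Agent.Lib.helper2
open scoped ComplexConjugate

variable {G : Type*} [Group G]

/-- the number of conjugates of `θ` is the index of its stabilizer -/
theorem cc_orbit_card [Fintype G] (N : Subgroup G) [hN : N.Normal] (θ : Cfsg.IrrCharacter N)
    (T : Subgroup G)
    (hT : ∀ g : G, g ∈ T ↔ ∀ n n' : N, (n' : G) = g * (n : G) * g⁻¹ →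
      (θ : N → ℂ) n' = (θ : N → ℂ) n) [DecidableEq (N → ℂ)] :
    (Finset.univ.image (fun g : G => cj N θ.1 g)).card = T.index := by
  letI := irrMulAction N
  have hstab : MulAction.stabilizer G θ = T := by
    ext g
    rw [MulAction.mem_stabilizer_iff, hT]
    exact conjIrr_eq_iff N g θ θ
  have h3 : ((Finset.univ.image (fun g : G => cj N θ.1 g) : Finset (N → ℂ)) : Set (N → ℂ)) =
      Subtype.val '' (MulAction.orbit G θ) := by
    ext ψ
    simp only [Finset.coe_image, Finset.coe_univ, Set.image_univ, Set.mem_range, Set.mem_image]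
    constructor
    · rintro ⟨g, rfl⟩
      refine ⟨g⁻¹ • θ, ⟨g⁻¹, rfl⟩, ?_⟩
      show cj N θ.1 g⁻¹⁻¹ = cj N θ.1 g
      rw [inv_inv]
    · rintro ⟨μ, ⟨g, rfl⟩, rfl⟩
      exact ⟨g⁻¹, rfl⟩
  have h4 : (Finset.univ.image (fun g : G => cj N θ.1 g)).card = (MulAction.orbit G θ).ncard := by
    rw [← Set.ncard_coe_finset, h3, Set.ncard_image_of_injective _ Subtype.val_injective]
  rw [h4, ← MulAction.index_stabilizer, hstab]

/-- degree of `χ` lying over `θ` -/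
theorem cc_degree [Fintype G] (N : Subgroup G) [hN : N.Normal] [Fintype N]
    (θ : Cfsg.IrrCharacter N) (T : Subgroup G)
    (hT : ∀ g : G, g ∈ T ↔ ∀ n n' : N, (n' : G) = g * (n : G) * g⁻¹ →
      (θ : N → ℂ) n' = (θ : N → ℂ) n)
    (χ : Cfsg.IrrCharacter G) (e : ℕ)
    (he : Cfsg.classInner (fun n : N => (χ : G → ℂ) n) (θ : N → ℂ) = (e : ℂ)) (he0 : e ≠ 0) :
    (χ : G → ℂ) 1 = (e : ℂ) * (T.index : ℂ) * (θ : N → ℂ) 1 := by
  classical
  have hcon : Cfsg.classInner (fun n : N => (χ : G → ℂ) n) (θ : N → ℂ) ≠ 0 := by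
    rw [he]; exact_mod_cast he0
  obtain ⟨e', he', h1, h2⟩ := h7_clifford N χ.1 χ.2 θ.1 θ.2 hcon
  have hee : e' = e := by
    have : (e' : ℂ) = (e : ℂ) := by rw [← h1, ← he]
    exact_mod_cast this
  subst hee
  have h3 := congrFun h2 1
  simp only [Pi.smul_apply, Finset.sum_apply, smul_eq_mul] at h3
  have h4 : ∑ ψ ∈ Finset.univ.image (fun g : G => cj N θ.1 g), ψ 1 =
      ((Finset.univ.image (fun g : G => cj N θ.1 g)).card : ℂ) * (θ : N → ℂ) 1 := by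
    rw [Finset.sum_congr rfl (g := fun _ => (θ : N → ℂ) 1)]
    · rw [Finset.sum_const, nsmul_eq_mul]
    · intro ψ hψ
      obtain ⟨g, -, rfl⟩ := Finset.mem_image.mp hψ
      rw [cj_apply]
      apply congrArg
      apply Subtype.ext
      simp
  rw [h4, cc_orbit_card N θ T hT] at h3
  have h5 : (χ : G → ℂ) 1 = (χ : G → ℂ) ((1 : N) : G) := rfl
  rw [h5, h3]
  ring

/-- Clifford correspondence: induction from the stabilizer is irreducible. -/
theorem cc_ind_irr [Fintype G] (N T : Subgroup G) [hN : N.Normal] [Fintype N] [Fintype T]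
    (hNT : N ≤ T) (θ : Cfsg.IrrCharacter N)
    (hT : ∀ g : G, g ∈ T ↔ ∀ n n' : N, (n' : G) = g * (n : G) * g⁻¹ →
      (θ : N → ℂ) n' = (θ : N → ℂ) n)
    (ψ : Cfsg.IrrCharacter T)
    (hψ : Cfsg.classInner (fun n : N => (ψ : T → ℂ) ⟨(n : G), hNT n.2⟩) (θ : N → ℂ) ≠ 0) :
    Cfsg.IsIrrCharacter G (Cfsg.indFun T (ψ : T → ℂ)) ∧
      Cfsg.classInner (fun n : N => Cfsg.indFun T (ψ : T → ℂ) n) (θ : N → ℂ) =
        Cfsg.classInner (fun n : N => (ψ : T → ℂ) ⟨(n : G), hNT n.2⟩) (θ : N → ℂ) := by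
  classical
  haveI : Fintype (Cfsg.IrrCharacter G) := Fintype.ofFinite _
  -- ψ restricted to N is f θ
  have hinvT : ∀ t ∈ T, ∀ n : N, (θ : N → ℂ) ⟨t * n * t⁻¹, hN.conj_mem (n : G) n.2 t⟩ =
      (θ : N → ℂ) n := by
    intro t ht n
    exact (hT t).mp ht n _ rfl
  obtain ⟨f, hf, hf1, hf2⟩ := h7_clifford_invariant_le N T hNT ψ.1 ψ.2 θ.1 θ.2 hψ hinvT
  have hψ1 : (ψ : T → ℂ) 1 = (f : ℂ) * (θ : N → ℂ) 1 := by
    have := congrFun hf2 1
    simp only [Pi.smul_apply, smul_eq_mul] at this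
    exact this
  -- the induced character and a constituent
  have hΨ : Cfsg.IsCharacter G (Cfsg.indFun T (ψ : T → ℂ)) :=
    isCharacter_indFun T _ (h7_irr_isCharacter ψ.2)
  have hθ1 : (θ : N → ℂ) 1 ≠ 0 := irr_one_ne_zero θ
  obtain ⟨d, hd⟩ := isCharacter_one_eq_nat (h7_irr_isCharacter θ.2)
  have hd0 : d ≠ 0 := by
    intro h0
    apply hθ1
    rw [hd, h0]; simp
  have hΨ1 : Cfsg.indFun T (ψ : T → ℂ) 1 = (T.index : ℂ) * ((f : ℂ) * (d : ℂ)) := by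
    rw [h7_indFun_one, hψ1, hd]
  have hidx0 : T.index ≠ 0 := Subgroup.index_ne_zero_of_finite
  have hΨ10 : Cfsg.indFun T (ψ : T → ℂ) 1 ≠ 0 := by
    rw [hΨ1]
    have : (T.index * (f * d) : ℕ) ≠ 0 :=
      Nat.mul_ne_zero hidx0 (Nat.mul_ne_zero hf.ne' hd0)
    exact_mod_cast this
  obtain ⟨χ, m, hm, hχm⟩ := isCharacter_exists_constituent hΨ hΨ10
  -- Frobenius reciprocity
  have hcl : Cfsg.IsClassFunction G (χ : G → ℂ) := h7_irr_isClassFunction χ.2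
  have hfr := h7_frobenius_reciprocity T (ψ : T → ℂ) (χ : G → ℂ) hcl
  rw [hχm] at hfr
  have hχT : Cfsg.classInner (fun t : T => (χ : G → ℂ) t) (ψ : T → ℂ) ≠ 0 := by
    rw [Cfsg.Agent.Lib.helper2.classInner_conj_symm, ← hfr]
    simp only [map_natCast]
    exact_mod_cast hm.ne'
  -- χ_T = ψ + Δ
  have hχTchar : Cfsg.IsCharacter T (fun t : T => (χ : G → ℂ) t) :=
    isCharacter_restrict (h7_irr_isCharacter χ.2) T
  obtain ⟨Δ, hΔ, hsplit⟩ := h7_char_split hχTchar ψ.1 ψ.2 hχT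
  have hΔN : Cfsg.IsCharacter N (fun n : N => Δ ⟨(n : G), hNT n.2⟩) :=
    isCharacter_comp_hom hΔ (Subgroup.inclusion hNT)
  obtain ⟨a, ha⟩ := classInner_character_nat hΔN (h7_irr_isCharacter θ.2)
  have hχN : (fun n : N => (χ : G → ℂ) n) =
      (fun n : N => (ψ : T → ℂ) ⟨(n : G), hNT n.2⟩) + fun n : N => Δ ⟨(n : G), hNT n.2⟩ := by
    funext n
    have := congrFun hsplit ⟨(n : G), hNT n.2⟩
    simpa using this
  have he : Cfsg.classInner (fun n : N => (χ : G → ℂ) n) (θ : N → ℂ) = ((f + a : ℕ) : ℂ) := by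
    rw [hχN]
    unfold Cfsg.classInner at hf1 ha ⊢
    simp only [Pi.add_apply, add_mul, Finset.sum_add_distrib, mul_add]
    rw [hf1, ha]
    push_cast
    ring
  have hχ1 := cc_degree N θ T hT χ (f + a) he (by omega)
  -- Ψ = χ + Δ'
  have hΨχ : Cfsg.classInner (Cfsg.indFun T (ψ : T → ℂ)) (χ : G → ℂ) ≠ 0 := by
    rw [hχm]; exact_mod_cast hm.ne'
  obtain ⟨Δ', hΔ', hsplit'⟩ := h7_char_split hΨ χ.1 χ.2 hΨχ
  obtain ⟨b, hb⟩ := isCharacter_one_eq_nat hΔ'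
  have h1 := congrFun hsplit' 1
  rw [Pi.add_apply, hΨ1, hχ1, hb, hd] at h1
  have h2 : T.index * (f * d) = (f + a) * T.index * d + b := by exact_mod_cast h1
  have hpos : 0 < T.index * d := Nat.mul_pos (Nat.pos_of_ne_zero hidx0) (Nat.pos_of_ne_zero hd0)
  have hab : a = 0 ∧ b = 0 := by
    have h3 : T.index * (f * d) = f * (T.index * d) := by ring
    have h4 : (f + a) * T.index * d + b = f * (T.index * d) + (a * (T.index * d) + b) := by ring
    rw [h3, h4] at h2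
    have h5 : a * (T.index * d) + b = 0 := by omega
    constructor
    · by_contra hne
      have : 0 < a * (T.index * d) := Nat.mul_pos (Nat.pos_of_ne_zero hne) hpos
      omega
    · omega
  obtain ⟨ha0, hb0⟩ := hab
  have hΔ'0 : Δ' = 0 := h7_isCharacter_eq_zero hΔ' (by rw [hb, hb0]; simp)
  have hΨeq : Cfsg.indFun T (ψ : T → ℂ) = (χ : G → ℂ) := by
    rw [hsplit', hΔ'0, add_zero]
  constructor
  · rw [hΨeq]; exact χ.2
  · rw [hΨeq, he, hf1, ha0, add_zero]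

/-- Clifford correspondence: induction from the stabilizer is injective. -/
theorem cc_ind_inj [Fintype G] (N T : Subgroup G) [hN : N.Normal] [Fintype N] [Fintype T]
    (hNT : N ≤ T) (θ : Cfsg.IrrCharacter N)
    (hT : ∀ g : G, g ∈ T ↔ ∀ n n' : N, (n' : G) = g * (n : G) * g⁻¹ →
      (θ : N → ℂ) n' = (θ : N → ℂ) n)
    (ψ₁ ψ₂ : Cfsg.IrrCharacter T)
    (hψ₁ : Cfsg.classInner (fun n : N => (ψ₁ : T → ℂ) ⟨(n : G), hNT n.2⟩) (θ : N → ℂ) ≠ 0)
    (hψ₂ : Cfsg.classInner (fun n : N => (ψ₂ : T → ℂ) ⟨(n : G), hNT n.2⟩) (θ : N → ℂ) ≠ 0)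
    (heq : Cfsg.indFun T (ψ₁ : T → ℂ) = Cfsg.indFun T (ψ₂ : T → ℂ)) : ψ₁ = ψ₂ := by
  classical
  by_contra hne
  obtain ⟨hirr₁, hin₁⟩ := cc_ind_irr N T hNT θ hT ψ₁ hψ₁
  set χ : Cfsg.IrrCharacter G := ⟨Cfsg.indFun T (ψ₁ : T → ℂ), hirr₁⟩ with hχ
  have hcl : Cfsg.IsClassFunction G (χ : G → ℂ) := h7_irr_isClassFunction χ.2
  have hnorm : Cfsg.classInner (χ : G → ℂ) (χ : G → ℂ) = 1 := h7_irr_norm χ.2
  have hfr₁ := h7_frobenius_reciprocity T (ψ₁ : T → ℂ) (χ : G → ℂ) hcl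
  have hfr₂ := h7_frobenius_reciprocity T (ψ₂ : T → ℂ) (χ : G → ℂ) hcl
  rw [← heq] at hfr₂
  have hχval : (χ : G → ℂ) = Cfsg.indFun T (ψ₁ : T → ℂ) := rfl
  rw [← hχval, hnorm] at hfr₁ hfr₂
  have h1 : Cfsg.classInner (fun t : T => (χ : G → ℂ) t) (ψ₁ : T → ℂ) = 1 := by
    rw [Cfsg.Agent.Lib.helper2.classInner_conj_symm, ← hfr₁]; simp
  have h2 : Cfsg.classInner (fun t : T => (χ : G → ℂ) t) (ψ₂ : T → ℂ) = 1 := by
    rw [Cfsg.Agent.Lib.helper2.classInner_conj_symm, ← hfr₂]; simp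
  have hχTchar : Cfsg.IsCharacter T (fun t : T => (χ : G → ℂ) t) :=
    isCharacter_restrict (h7_irr_isCharacter χ.2) T
  obtain ⟨Δ₁, hΔ₁, hs₁⟩ := h7_char_split hχTchar ψ₁.1 ψ₁.2 (by rw [h1]; exact one_ne_zero)
  have h12 : Cfsg.classInner (ψ₁ : T → ℂ) (ψ₂ : T → ℂ) = 0 := by
    have := irr_classInner ψ₁ ψ₂
    rw [if_neg hne] at this
    exact this
  have hΔ₁ψ₂ : Cfsg.classInner Δ₁ (ψ₂ : T → ℂ) = 1 := by
    have h3 : Cfsg.classInner (fun t : T => (χ : G → ℂ) t) (ψ₂ : T → ℂ) =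
        Cfsg.classInner (ψ₁ : T → ℂ) (ψ₂ : T → ℂ) + Cfsg.classInner Δ₁ (ψ₂ : T → ℂ) := by
      rw [hs₁]
      unfold Cfsg.classInner
      simp only [Pi.add_apply, add_mul, Finset.sum_add_distrib, mul_add]
    rw [h2, h12, zero_add] at h3
    exact h3.symm
  obtain ⟨Δ₂, hΔ₂, hs₂⟩ := h7_char_split hΔ₁ ψ₂.1 ψ₂.2 (by rw [hΔ₁ψ₂]; exact one_ne_zero)
  have hΔN : Cfsg.IsCharacter N (fun n : N => Δ₂ ⟨(n : G), hNT n.2⟩) :=
    isCharacter_comp_hom hΔ₂ (Subgroup.inclusion hNT)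
  obtain ⟨a, ha⟩ := classInner_character_nat hΔN (h7_irr_isCharacter θ.2)
  have hψ₁N : Cfsg.IsCharacter N (fun n : N => (ψ₁ : T → ℂ) ⟨(n : G), hNT n.2⟩) :=
    isCharacter_comp_hom (h7_irr_isCharacter ψ₁.2) (Subgroup.inclusion hNT)
  have hψ₂N : Cfsg.IsCharacter N (fun n : N => (ψ₂ : T → ℂ) ⟨(n : G), hNT n.2⟩) :=
    isCharacter_comp_hom (h7_irr_isCharacter ψ₂.2) (Subgroup.inclusion hNT)
  obtain ⟨f₁, hf₁⟩ := classInner_character_nat hψ₁N (h7_irr_isCharacter θ.2)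
  obtain ⟨f₂, hf₂⟩ := classInner_character_nat hψ₂N (h7_irr_isCharacter θ.2)
  have hχN : (fun n : N => (χ : G → ℂ) n) =
      (fun n : N => (ψ₁ : T → ℂ) ⟨(n : G), hNT n.2⟩) +
        ((fun n : N => (ψ₂ : T → ℂ) ⟨(n : G), hNT n.2⟩) +
          fun n : N => Δ₂ ⟨(n : G), hNT n.2⟩) := by
    funext n
    have e1 := congrFun hs₁ ⟨(n : G), hNT n.2⟩
    have e2 := congrFun hs₂ ⟨(n : G), hNT n.2⟩
    simp only [Pi.add_apply] at e1 e2 ⊢
    rw [← e2]
    exact e1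
  have he : Cfsg.classInner (fun n : N => (χ : G → ℂ) n) (θ : N → ℂ) =
      ((f₁ + (f₂ + a) : ℕ) : ℂ) := by
    rw [hχN]
    unfold Cfsg.classInner at hf₁ hf₂ ha ⊢
    simp only [Pi.add_apply, add_mul, Finset.sum_add_distrib, mul_add]
    rw [hf₁, hf₂, ha]
    push_cast
    ring
  have hin : Cfsg.classInner (fun n : N => (χ : G → ℂ) n) (θ : N → ℂ) = (f₁ : ℂ) := by
    rw [← hf₁]
    exact hin₁
  rw [he] at hin
  have hnat : f₁ + (f₂ + a) = f₁ := by exact_mod_cast hin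
  have hf₂0 : f₂ = 0 := by omega
  apply hψ₂
  rw [hf₂, hf₂0]
  simp

end Cfsg.Agent.Lib.Helper25
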