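import Mathlib
import Cfsg.Prelude.Def_DegreeGraph
import Cfsg.Agent.Lib.Helper11.AbelianQuot
import Cfsg.Agent.Lib.helper7.Clifford
import Cfsg.Agent.Lib.helper2.Cd2E
import Cfsg.Agent.Lib.Helper25.CharLinear

/-!
Character degree graph of a finite solvable group has at most two connected components (S4811). dgc_key: restriction of an irreducible character to a normal subgroup of prime index s is irreducible, or the degree is s times the degree of a non-invariant constituent; dgc_down, dgc_up: degrees over/under a normal subgroup of prime index; dgc_vanish_dvd: an irreducible character vanishing off a normal subgroup of prime index u has degree divisible by u; dgc_common_prime; DGR (reachability in the degree graph), dgr_of_dvd, dgr_mono (normal subgroups), DG3, card_le_two_of_dg3, dgc_exists_normal_prime_index, dgc_main, dgc_components.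
-/

set_option autoImplicit false

namespace Cfsg.Agent.Lib.Helper25
open scoped ComplexConjugate
open Cfsg.Agent.Lib.helper7
open Cfsg.Agent.Lib.Helper11
open scoped ComplexConjugate commutatorElement
section

/-- the quotient by a normal subgroup of prime index is abelian -/
theorem dgc_comm_mem {G : Type*} [Group G] (M : Subgroup G) [M.Normal] {s : ℕ} (hs : s.Prime)
    (hidx : M.index = s) (x y : G) : x * y * x⁻¹ * y⁻¹ ∈ M := by
  have hcard : Nat.card (G ⧸ M) = s := by rw [← hidx]; rfl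
  haveI : Fact s.Prime := ⟨hs⟩
  haveI : IsCyclic (G ⧸ M) := isCyclic_of_prime_card hcard
  letI : CommGroup (G ⧸ M) := IsCyclic.commGroup
  rw [← QuotientGroup.eq_one_iff]
  have h : ((x : G ⧸ M)) * (y : G ⧸ M) = (y : G ⧸ M) * (x : G ⧸ M) := mul_comm _ _
  rw [QuotientGroup.mk_mul, QuotientGroup.mk_mul, QuotientGroup.mk_mul, QuotientGroup.mk_inv,
    QuotientGroup.mk_inv, h]
  group

/-- the stabilizer of a function on a normal subgroup -/
def dgcStab {G : Type*} [Group G] (M : Subgroup G) [M.Normal] (ψ : M → ℂ) : Subgroup G where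
  carrier := {g | cj M ψ g = ψ}
  one_mem' := cj_one M ψ
  mul_mem' := by
    intro a b ha hb
    show cj M ψ (a * b) = ψ
    have ha' : cj M ψ a = ψ := ha
    have hb' : cj M ψ b = ψ := hb
    rw [← cj_mul, ha', hb']
  inv_mem' := by
    intro a ha
    show cj M ψ a⁻¹ = ψ
    have ha' : cj M ψ a = ψ := ha
    have h := cj_mul M ψ a a⁻¹
    rw [ha', mul_inv_cancel, cj_one] at h
    exact h

theorem mem_dgcStab {G : Type*} [Group G] (M : Subgroup G) [M.Normal] (ψ : M → ℂ) (g : G) :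
    g ∈ dgcStab M ψ ↔ cj M ψ g = ψ := Iff.rfl

theorem le_dgcStab {G : Type*} [Group G] (M : Subgroup G) [M.Normal] (ψ : M → ℂ)
    (hψ : Cfsg.IsClassFunction M ψ) : M ≤ dgcStab M ψ := by
  intro m hm
  rw [mem_dgcStab]
  funext h
  rw [cj_apply]
  have := hψ h ⟨m, hm⟩
  rw [← this]
  congr 1

/-- for a normal subgroup of prime index, a function on it is invariant or its stabilizer is
the subgroup -/
theorem dgcStab_cases {G : Type*} [Group G] (M : Subgroup G) [M.Normal] {s : ℕ} (hs : s.Prime)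
    (hidx : M.index = s) (ψ : M → ℂ) (hψ : Cfsg.IsClassFunction M ψ) :
    (∀ g : G, cj M ψ g = ψ) ∨ dgcStab M ψ = M := by
  have hle := le_dgcStab M ψ hψ
  have h1 := Subgroup.relIndex_mul_index hle
  rw [hidx] at h1
  have h2 : (dgcStab M ψ).index ∣ s := Dvd.intro_left _ h1
  rcases (Nat.dvd_prime hs).1 h2 with h | h
  · left
    intro g
    have : dgcStab M ψ = ⊤ := Subgroup.index_eq_one.1 h
    have hg : g ∈ dgcStab M ψ := by rw [this]; exact Subgroup.mem_top g
    exact hg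
  · right
    rw [h] at h1
    have h3 : M.relIndex (dgcStab M ψ) = 1 := by
      have hs0 : 0 < s := hs.pos
      have : M.relIndex (dgcStab M ψ) * s = 1 * s := by rw [h1, one_mul]
      exact Nat.eq_of_mul_eq_mul_right hs0 this
    exact le_antisymm (Subgroup.relIndex_eq_one.1 h3) hle

end

section

/-- a non-invariant irreducible character of a normal subgroup with trivial stabilizer induces
irreducibly -/
theorem dgc_ind_irr {G : Type*} [Group G] [Fintype G] (M : Subgroup G) [hM : M.Normal]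
    (ψ : Cfsg.IrrCharacter M) (hst : dgcStab M (ψ : M → ℂ) = M) :
    Cfsg.IsIrrCharacter G (Cfsg.indFun M (ψ : M → ℂ)) := by
  classical
  haveI : Fintype M := Fintype.ofFinite M
  have hcl : Cfsg.IsClassFunction M (ψ : M → ℂ) := h7_irr_isClassFunction ψ.2
  apply h7_irr_of_norm_one (Cfsg.Agent.Lib.helper2.isCharacter_indFun M _ (h7_irr_isCharacter ψ.2))
  have hcard : Nat.card {g : G // ∀ h : M, cj M (ψ : M → ℂ) g h = (ψ : M → ℂ) h} = Nat.card M := by
    apply Nat.card_congr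
    apply Equiv.subtypeEquivRight
    intro g
    constructor
    · intro h
      have : g ∈ dgcStab M (ψ : M → ℂ) := by
        rw [mem_dgcStab]
        funext x
        exact h x
      rwa [hst] at this
    · intro hg x
      have : g ∈ dgcStab M (ψ : M → ℂ) := by rw [hst]; exact hg
      rw [mem_dgcStab] at this
      exact congrFun this x
  rw [h7_frobenius_reciprocity M _ _ (h7_indFun_isClassFunction M _), indFun_restrict_normal,
    hcard, Cfsg.Agent.Lib.helper2.classInner_conj_symm, classInner_smul_left',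
    classInner_sum_left']
  have hM0 : (Nat.card M : ℂ) ≠ 0 := by exact_mod_cast Nat.card_pos.ne'
  rw [div_self hM0, one_mul]
  rw [Finset.sum_eq_single (ψ : M → ℂ)]
  · rw [h7_irr_norm ψ.2, map_one]
  · intro φ hφ hne
    obtain ⟨g, -, rfl⟩ := Finset.mem_image.mp hφ
    exact h7_irr_inner_ne (isIrr_cj M _ ψ.2 g) ψ.2 hne
  · intro h
    exfalso
    apply h
    exact Finset.mem_image.mpr ⟨1, Finset.mem_univ _, cj_one M _⟩

/-- restriction of an irreducible character to a normal subgroup of prime index: it is irreducible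
or the character is induced from a non-invariant character -/
theorem dgc_key {G : Type*} [Group G] [Fintype G] (M : Subgroup G) [hM : M.Normal] [Fintype M] {s : ℕ}
    (hs : s.Prime) (hidx : M.index = s) (χ : Cfsg.IrrCharacter G) (ψ : Cfsg.IrrCharacter M)
    (hcon : Cfsg.classInner (fun n : M => (χ : G → ℂ) n) (ψ : M → ℂ) ≠ 0) :
    ((fun n : M => (χ : G → ℂ) n) = (ψ : M → ℂ)) ∨
    (Cfsg.charDegree (χ : G → ℂ) = s * Cfsg.charDegree (ψ : M → ℂ) ∧
      ∃ g : G, cj M (ψ : M → ℂ) g ≠ (ψ : M → ℂ)) := by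
  classical
  haveI : Fintype (Cfsg.IrrCharacter G) := Fintype.ofFinite _
  have hclχ : Cfsg.IsClassFunction G (χ : G → ℂ) := h7_irr_isClassFunction χ.2
  have hcl : Cfsg.IsClassFunction M (ψ : M → ℂ) := h7_irr_isClassFunction ψ.2
  have hfrob : Cfsg.classInner (Cfsg.indFun M (ψ : M → ℂ)) (χ : G → ℂ) ≠ 0 := by
    rw [h7_frobenius_irr M _ hclχ]
    intro h
    apply hcon
    have := congrArg conj h
    simpa using this
  rcases dgcStab_cases M hs hidx (ψ : M → ℂ) hcl with hinv | hst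
  · left
    obtain ⟨e, C, hepos, hC, hres, hsum, hcard⟩ :=
      ramification_abelian_quotient M (ψ : M → ℂ) ψ.2 hinv (dgc_comm_mem M hs hidx)
    have hχC : χ ∈ C := (hC χ).2 hfrob
    have h1 := hres χ hχC
    have hGM : Nat.card G = s * Nat.card M := by
      rw [← hidx, Subgroup.index_mul_card]
    have h2 : e ^ 2 * C.card = s := by
      have hMpos : 0 < Nat.card M := Nat.card_pos
      have : e ^ 2 * C.card * Nat.card M = s * Nat.card M := by rw [hcard, hGM]
      exact Nat.eq_of_mul_eq_mul_right hMpos this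
    have he : e = 1 := by
      have hdvd : e ∣ s := ⟨e * C.card, by rw [← h2]; ring⟩
      rcases (Nat.dvd_prime hs).1 hdvd with h | h
      · exact h
      · exfalso
        rw [h] at h2
        have hspos : 0 < s := hs.pos
        have h3 : s * (s * C.card) = s * 1 := by rw [mul_one]; nth_rewrite 3 [← h2]; ring
        have h4 : s * C.card = 1 := Nat.eq_of_mul_eq_mul_left hspos h3
        have h5 : s = 1 := Nat.eq_one_of_mul_eq_one_right h4
        exact hs.ne_one h5
    rw [h1, he]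
    simp
  · right
    have hne : ∃ g : G, cj M (ψ : M → ℂ) g ≠ (ψ : M → ℂ) := by
      by_contra hall
      push Not at hall
      have htop : dgcStab M (ψ : M → ℂ) = ⊤ := by
        rw [eq_top_iff]
        intro g _
        exact hall g
      rw [hst] at htop
      rw [htop, Subgroup.index_top] at hidx
      exact hs.ne_one hidx.symm
    refine ⟨?_, hne⟩
    have hirr := dgc_ind_irr M ψ hst
    have heq : Cfsg.indFun M (ψ : M → ℂ) = (χ : G → ℂ) := by
      by_contra hne'
      exact hfrob (h7_irr_inner_ne hirr χ.2 hne')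
    have h1 : (χ : G → ℂ) 1 = (M.index : ℂ) * (ψ : M → ℂ) 1 := by
      rw [← heq, h7_indFun_one]
    rw [← (Cfsg.Agent.Lib.Helper25.charDegree_irr χ).1,
      ← (Cfsg.Agent.Lib.Helper25.charDegree_irr ψ).1, hidx] at h1
    exact_mod_cast h1

end

section

/-- the restriction of an irreducible character has an irreducible constituent -/
theorem dgc_exists_constituent {G : Type*} [Group G] [Fintype G] (M : Subgroup G) [Fintype M]
    (χ : Cfsg.IrrCharacter G) :
    ∃ ψ : Cfsg.IrrCharacter M,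
      Cfsg.classInner (fun n : M => (χ : G → ℂ) n) (ψ : M → ℂ) ≠ 0 := by
  have hR := Cfsg.Agent.Lib.helper2.isCharacter_restrict (h7_irr_isCharacter χ.2) M
  have h1 : (fun n : M => (χ : G → ℂ) n) 1 ≠ 0 := by
    show (χ : G → ℂ) ((1 : M) : G) ≠ 0
    rw [Subgroup.coe_one]
    exact Cfsg.Agent.Lib.Helper25.irr_one_ne_zero χ
  obtain ⟨ψ, k, hk, hinner⟩ := Cfsg.Agent.Lib.helper2.isCharacter_exists_constituent hR h1
  refine ⟨ψ, ?_⟩
  rw [hinner]
  exact_mod_cast hk.ne'

/-- degrees over a normal subgroup of prime index -/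
theorem dgc_down {G : Type*} [Group G] [Fintype G] (M : Subgroup G) [hM : M.Normal] {s : ℕ}
    (hs : s.Prime) (hidx : M.index = s) (χ : Cfsg.IrrCharacter G) :
    ∃ ψ : Cfsg.IrrCharacter M,
      Cfsg.charDegree (χ : G → ℂ) = Cfsg.charDegree (ψ : M → ℂ) ∨
      (Cfsg.charDegree (χ : G → ℂ) = s * Cfsg.charDegree (ψ : M → ℂ) ∧
        ∃ g : G, cj M (ψ : M → ℂ) g ≠ (ψ : M → ℂ)) := by
  classical
  haveI : Fintype M := Fintype.ofFinite M
  obtain ⟨ψ, hψ⟩ := dgc_exists_constituent M χ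
  refine ⟨ψ, ?_⟩
  rcases dgc_key M hs hidx χ ψ hψ with h | h
  · left
    have h1 : (χ : G → ℂ) ((1 : M) : G) = (ψ : M → ℂ) 1 := congrFun h 1
    rw [Subgroup.coe_one] at h1
    rw [← (Cfsg.Agent.Lib.Helper25.charDegree_irr χ).1,
      ← (Cfsg.Agent.Lib.Helper25.charDegree_irr ψ).1] at h1
    exact_mod_cast h1
  · right
    exact h

/-- a non-invariant irreducible character of a normal subgroup of prime index `s` lies under a
character of `s` times its degree -/
theorem dgc_up {G : Type*} [Group G] [Fintype G] (M : Subgroup G) [hM : M.Normal] {s : ℕ}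
    (hs : s.Prime) (hidx : M.index = s) (ψ : Cfsg.IrrCharacter M) (g : G)
    (hg : cj M (ψ : M → ℂ) g ≠ (ψ : M → ℂ)) :
    ∃ χ : Cfsg.IrrCharacter G,
      Cfsg.charDegree (χ : G → ℂ) = s * Cfsg.charDegree (ψ : M → ℂ) := by
  classical
  haveI : Fintype M := Fintype.ofFinite M
  have hΦ : Cfsg.IsCharacter G (Cfsg.indFun M (ψ : M → ℂ)) :=
    Cfsg.Agent.Lib.helper2.isCharacter_indFun M _ (h7_irr_isCharacter ψ.2)
  have hΦ1 : Cfsg.indFun M (ψ : M → ℂ) 1 ≠ 0 := by
    rw [h7_indFun_one]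
    apply mul_ne_zero
    · exact_mod_cast Subgroup.index_ne_zero_of_finite
    · exact Cfsg.Agent.Lib.Helper25.irr_one_ne_zero ψ
  obtain ⟨χ, k, hk, hinner⟩ := Cfsg.Agent.Lib.helper2.isCharacter_exists_constituent hΦ hΦ1
  rw [h7_frobenius_reciprocity M _ _ (h7_irr_isClassFunction χ.2)] at hinner
  have hcon : Cfsg.classInner (fun n : M => (χ : G → ℂ) n) (ψ : M → ℂ) ≠ 0 := by
    rw [Cfsg.Agent.Lib.helper2.classInner_conj_symm, hinner]
    simp only [Complex.conj_natCast]
    exact_mod_cast hk.ne'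
  refine ⟨χ, ?_⟩
  rcases dgc_key M hs hidx χ ψ hcon with h | h
  · exfalso
    apply hg
    rw [← h]
    exact h7_cj_restrict M _ (h7_irr_isClassFunction χ.2) g
  · exact h.1

/-- an irreducible character vanishing off a normal subgroup of prime index `u` has degree
divisible by `u` -/
theorem dgc_vanish_dvd {M : Type*} [Group M] [Fintype M] (K : Subgroup M) [hK : K.Normal] {u : ℕ}
    (hu : u.Prime) (hidx : K.index = u) (ψ : Cfsg.IrrCharacter M)
    (hv : ∀ m : M, m ∉ K → (ψ : M → ℂ) m = 0) : u ∣ Cfsg.charDegree (ψ : M → ℂ) := by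
  classical
  haveI : Fintype K := Fintype.ofFinite K
  obtain ⟨θ, hθ⟩ := dgc_exists_constituent K ψ
  rcases dgc_key K hu hidx ψ θ hθ with h | h
  · exfalso
    have h1 : Cfsg.classInner (fun n : K => (ψ : M → ℂ) n) (fun n : K => (ψ : M → ℂ) n) = 1 := by
      rw [h]
      exact h7_irr_norm θ.2
    have h2 : Cfsg.classInner (ψ : M → ℂ) (ψ : M → ℂ) = 1 := h7_irr_norm ψ.2
    unfold Cfsg.classInner at h1 h2
    have h3 : ∑ k : K, (ψ : M → ℂ) k * conj ((ψ : M → ℂ) k) =
        ∑ m : M, (ψ : M → ℂ) m * conj ((ψ : M → ℂ) m) := by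
      rw [← h7_sum_subgroup K (fun m => (ψ : M → ℂ) m * conj ((ψ : M → ℂ) m))]
      apply Finset.sum_congr rfl
      intro m _
      split_ifs with hm
      · rfl
      · rw [hv m hm, zero_mul]
    rw [h3] at h1
    have hK0 : (Nat.card K : ℂ) ≠ 0 := by exact_mod_cast Nat.card_pos.ne'
    have hM0 : (Nat.card M : ℂ) ≠ 0 := by exact_mod_cast Nat.card_pos.ne'
    have h4 : ∑ m : M, (ψ : M → ℂ) m * conj ((ψ : M → ℂ) m) = (Nat.card M : ℂ) := by
      field_simp at h2
      exact h2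
    have h5 : ∑ m : M, (ψ : M → ℂ) m * conj ((ψ : M → ℂ) m) = (Nat.card K : ℂ) := by
      field_simp at h1
      exact h1
    have h6 : (Nat.card M : ℂ) = (Nat.card K : ℂ) := by rw [← h4, h5]
    have h7 : Nat.card M = Nat.card K := by exact_mod_cast h6
    have h8 : K.index * Nat.card K = Nat.card M := Subgroup.index_mul_card K
    rw [hidx, h7] at h8
    have hKpos : 0 < Nat.card K := Nat.card_pos
    have h9 : u = 1 := by
      have : u * Nat.card K = 1 * Nat.card K := by rw [h8, one_mul]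
      exact Nat.eq_of_mul_eq_mul_right hKpos this
    exact hu.ne_one h9
  · rw [h.1]
    exact Dvd.intro _ rfl

end

section

/-- if some element moves a linear character of the normal subgroup `M` but fixes all nonlinear
irreducible characters, then a single prime divides all nonlinear degrees of `M` -/
theorem dgc_common_prime {G : Type*} [Group G] [Finite G] (M : Subgroup G) [hM : M.Normal]
    (g : G) (lam : Cfsg.IrrCharacter M) (hlam1 : Cfsg.charDegree (lam : M → ℂ) = 1)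
    (hlam : cj M (lam : M → ℂ) g ≠ (lam : M → ℂ))
    (hinv : ∀ ψ : Cfsg.IrrCharacter M, Cfsg.charDegree (ψ : M → ℂ) ≠ 1 →
      cj M (ψ : M → ℂ) g = (ψ : M → ℂ)) :
    ∃ u : ℕ, u.Prime ∧ ∀ ψ : Cfsg.IrrCharacter M, Cfsg.charDegree (ψ : M → ℂ) ≠ 1 →
      u ∣ Cfsg.charDegree (ψ : M → ℂ) := by
  classical
  haveI : Fintype M := Fintype.ofFinite M
  have h1 : (lam : M → ℂ) 1 = 1 := by
    rw [← (charDegree_irr lam).1, hlam1]
    simp
  set lamg : Cfsg.IrrCharacter M := ⟨cj M (lam : M → ℂ) g, isIrr_cj M _ lam.2 g⟩ with hlamg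
  have hg1 : (lamg : M → ℂ) 1 = 1 := by
    show cj M (lam : M → ℂ) g 1 = 1
    rw [cj_apply]
    have : (⟨g * ((1 : M) : G) * g⁻¹, hM.conj_mem _ (1 : M).2 g⟩ : M) = 1 := by
      apply Subtype.ext
      simp
    rw [this, h1]
  set μ : M →* ℂˣ := irrLinearHom lamg hg1 * (irrLinearHom lam h1)⁻¹ with hμ
  have hμ_apply : ∀ m : M, μ m = 1 ↔ cj M (lam : M → ℂ) g m = (lam : M → ℂ) m := by
    intro m
    rw [hμ, MonoidHom.mul_apply, MonoidHom.inv_apply, mul_inv_eq_one]
    constructor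
    · intro h
      have := congrArg (fun z : ℂˣ => (z : ℂ)) h
      exact this
    · intro h
      apply Units.ext
      exact h
  have hμ1 : μ ≠ 1 := by
    intro h
    apply hlam
    funext m
    rw [← hμ_apply, h]
    rfl
  haveI : Finite μ.range := Finite.of_surjective μ.rangeRestrict μ.rangeRestrict_surjective
  haveI : Nontrivial μ.range := by
    by_contra hnt
    rw [not_nontrivial_iff_subsingleton] at hnt
    apply hμ1
    ext m
    have : (⟨μ m, m, rfl⟩ : μ.range) = 1 := Subsingleton.elim _ _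
    have h2 := congrArg Subtype.val this
    simp only [Subgroup.coe_one] at h2
    rw [h2]
    rfl
  obtain ⟨u, ν, hu, hν⟩ := exists_hom_prime_range (A := μ.range)
  set μ' : M →* ℂˣ := ν.comp μ.rangeRestrict with hμ'
  have hrange : μ'.range = ν.range := by
    rw [hμ', MonoidHom.range_comp, MonoidHom.rangeRestrict_surjective μ |> MonoidHom.range_eq_top.2,
      ← MonoidHom.range_eq_map]
  have hidx : μ'.ker.index = u := by
    rw [Subgroup.index_ker, hrange, hν]
  refine ⟨u, hu, ?_⟩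
  intro ψ hψ
  apply dgc_vanish_dvd μ'.ker hu hidx ψ
  intro m hm
  by_contra hne
  apply hm
  rw [MonoidHom.mem_ker, hμ', MonoidHom.comp_apply]
  have hm1 : μ m = 1 := by
    rw [hμ_apply]
    set ψl : Cfsg.IrrCharacter M :=
      ⟨fun x => ((irrLinearHom lam h1 x : ℂˣ) : ℂ) * (ψ : M → ℂ) x,
        isIrr_linChar_mul (irrLinearHom lam h1) _ ψ.2⟩ with hψl
    have hdeg : Cfsg.charDegree (ψl : M → ℂ) = Cfsg.charDegree (ψ : M → ℂ) := by
      have h3 : ((Cfsg.charDegree (ψl : M → ℂ) : ℕ) : ℂ) =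
          ((Cfsg.charDegree (ψ : M → ℂ) : ℕ) : ℂ) := by
        rw [(charDegree_irr ψl).1, (charDegree_irr ψ).1]
        show ((irrLinearHom lam h1 1 : ℂˣ) : ℂ) * (ψ : M → ℂ) 1 = (ψ : M → ℂ) 1
        rw [map_one, Units.val_one, one_mul]
      exact_mod_cast h3
    have h4 := congrFun (hinv ψl (by rw [hdeg]; exact hψ)) m
    have h5 := congrFun (hinv ψ hψ) m
    rw [cj_apply] at h4 h5
    have h6 : ((irrLinearHom lam h1 ⟨g * (m : G) * g⁻¹, hM.conj_mem m m.2 g⟩ : ℂˣ) : ℂ) *
        (ψ : M → ℂ) ⟨g * (m : G) * g⁻¹, hM.conj_mem m m.2 g⟩ =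
        ((irrLinearHom lam h1 m : ℂˣ) : ℂ) * (ψ : M → ℂ) m := h4
    rw [h5, irrLinearHom_apply, irrLinearHom_apply] at h6
    rw [cj_apply]
    exact mul_right_cancel₀ hne h6
  have : μ.rangeRestrict m = 1 := by
    apply Subtype.ext
    exact hm1
  rw [this, map_one]

end

section

universe u

/-- reachability in the degree graph restricted to its vertex set -/
def DGR (G : Type u) [Group G] (p q : ℕ) : Prop :=
  ∃ (hp : p ∈ Cfsg.degreePrimes G) (hq : q ∈ Cfsg.degreePrimes G),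
    ((Cfsg.degreeGraph G).induce (Cfsg.degreePrimes G)).Reachable ⟨p, hp⟩ ⟨q, hq⟩

theorem dgr_refl {G : Type u} [Group G] {p : ℕ} (hp : p ∈ Cfsg.degreePrimes G) : DGR G p p :=
  ⟨hp, hp, SimpleGraph.Reachable.refl _⟩

theorem dgr_symm {G : Type u} [Group G] {p q : ℕ} (h : DGR G p q) : DGR G q p := by
  obtain ⟨hp, hq, h⟩ := h
  exact ⟨hq, hp, h.symm⟩

theorem dgr_trans {G : Type u} [Group G] {p q r : ℕ} (h : DGR G p q) (h' : DGR G q r) :
    DGR G p r := by
  obtain ⟨hp, hq, h⟩ := h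
  obtain ⟨hq', hr, h'⟩ := h'
  exact ⟨hp, hr, h.trans h'⟩

theorem mem_degreePrimes_of_dvd {G : Type u} [Group G] (χ : Cfsg.IrrCharacter G) {p : ℕ}
    (hp : p.Prime) (hpd : p ∣ Cfsg.charDegree (χ : G → ℂ)) : p ∈ Cfsg.degreePrimes G :=
  ⟨hp, _, ⟨χ, rfl⟩, hpd⟩

theorem exists_of_mem_degreePrimes {G : Type u} [Group G] {p : ℕ}
    (hp : p ∈ Cfsg.degreePrimes G) :
    p.Prime ∧ ∃ χ : Cfsg.IrrCharacter G, p ∣ Cfsg.charDegree (χ : G → ℂ) := by
  obtain ⟨hpp, d, ⟨χ, rfl⟩, hd⟩ := hp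
  exact ⟨hpp, χ, hd⟩

theorem dgr_of_dvd {G : Type u} [Group G] (χ : Cfsg.IrrCharacter G) {p q : ℕ} (hp : p.Prime)
    (hq : q.Prime) (hpd : p ∣ Cfsg.charDegree (χ : G → ℂ))
    (hqd : q ∣ Cfsg.charDegree (χ : G → ℂ)) : DGR G p q := by
  have hpm := mem_degreePrimes_of_dvd χ hp hpd
  have hqm := mem_degreePrimes_of_dvd χ hq hqd
  by_cases h : p = q
  · subst h
    exact dgr_refl hpm
  · refine ⟨hpm, hqm, SimpleGraph.Adj.reachable ?_⟩
    show (Cfsg.degreeGraph G).Adj p q
    exact ⟨h, hp, hq, _, ⟨χ, rfl⟩,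
      ((Nat.coprime_primes hp hq).2 h).mul_dvd_of_dvd_of_dvd hpd hqd⟩

theorem degreePrimes_mono {G : Type u} [Group G] [Finite G] (M : Subgroup G) [M.Normal] {p : ℕ}
    (hp : p ∈ Cfsg.degreePrimes M) : p ∈ Cfsg.degreePrimes G := by
  obtain ⟨hpp, θ, hd⟩ := exists_of_mem_degreePrimes hp
  obtain ⟨χ, hχ⟩ := Cfsg.Agent.Lib.helper2.cd2_sub_degree_dvd M θ
  exact mem_degreePrimes_of_dvd χ hpp (hd.trans hχ)

theorem degreeGraph_adj_mono {G : Type u} [Group G] [Finite G] (M : Subgroup G) [M.Normal]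
    {p q : ℕ} (h : (Cfsg.degreeGraph M).Adj p q) : (Cfsg.degreeGraph G).Adj p q := by
  obtain ⟨hne, hp, hq, d, ⟨θ, rfl⟩, hd⟩ := h
  obtain ⟨χ, hχ⟩ := Cfsg.Agent.Lib.helper2.cd2_sub_degree_dvd M θ
  exact ⟨hne, hp, hq, _, ⟨χ, rfl⟩, hd.trans hχ⟩

theorem dgr_mono {G : Type u} [Group G] [Finite G] (M : Subgroup G) [M.Normal] {p q : ℕ}
    (h : DGR M p q) : DGR G p q := by
  obtain ⟨hp, hq, h⟩ := h
  let f : ((Cfsg.degreeGraph M).induce (Cfsg.degreePrimes M)) →g
      ((Cfsg.degreeGraph G).induce (Cfsg.degreePrimes G)) :=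
    { toFun := fun v => ⟨v.1, degreePrimes_mono M v.2⟩
      map_rel' := fun {a b} hab => degreeGraph_adj_mono M hab }
  exact ⟨degreePrimes_mono M hp, degreePrimes_mono M hq, h.map f⟩

/-- among any three vertices two are joined by a path -/
def DG3 (G : Type u) [Group G] : Prop :=
  ∀ v1 v2 v3 : ℕ, v1 ∈ Cfsg.degreePrimes G → v2 ∈ Cfsg.degreePrimes G →
    v3 ∈ Cfsg.degreePrimes G → DGR G v1 v2 ∨ DGR G v1 v3 ∨ DGR G v2 v3

theorem card_le_two_of_dg3 {G : Type u} [Group G] (h : DG3 G) :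
    Nat.card ((Cfsg.degreeGraph G).induce (Cfsg.degreePrimes G)).ConnectedComponent ≤ 2 := by
  classical
  by_contra hcon
  push Not at hcon
  haveI : Finite ((Cfsg.degreeGraph G).induce (Cfsg.degreePrimes G)).ConnectedComponent :=
    Nat.finite_of_card_ne_zero (by omega)
  haveI : Fintype ((Cfsg.degreeGraph G).induce (Cfsg.degreePrimes G)).ConnectedComponent :=
    Fintype.ofFinite _
  rw [Nat.card_eq_fintype_card, Fintype.two_lt_card_iff] at hcon
  obtain ⟨a, b, c, hab, hac, hbc⟩ := hcon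
  obtain ⟨va, rfl⟩ := a.exists_rep
  obtain ⟨vb, rfl⟩ := b.exists_rep
  obtain ⟨vc, rfl⟩ := c.exists_rep
  have key : ∀ x y : ↥(Cfsg.degreePrimes G), DGR G x.1 y.1 →
      ((Cfsg.degreeGraph G).induce (Cfsg.degreePrimes G)).connectedComponentMk x =
      ((Cfsg.degreeGraph G).induce (Cfsg.degreePrimes G)).connectedComponentMk y := by
    intro x y hxy
    obtain ⟨hx, hy, hr⟩ := hxy
    exact SimpleGraph.ConnectedComponent.eq.2 hr
  rcases h va.1 vb.1 vc.1 va.2 vb.2 vc.2 with h1 | h1 | h1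
  · exact hab (key _ _ h1)
  · exact hac (key _ _ h1)
  · exact hbc (key _ _ h1)

/-- a nontrivial finite solvable group has a normal subgroup of prime index -/
theorem dgc_exists_normal_prime_index {H : Type*} [Group H] [Finite H] [Group.IsSolvable H]
    [Nontrivial H] : ∃ M : Subgroup H, M.Normal ∧ M.index.Prime := by
  have hlt : commutator H < ⊤ := Group.IsSolvable.commutator_lt_top_of_nontrivial H
  obtain ⟨M, hM, hle⟩ := (IsCoatomic.eq_top_or_exists_le_coatom (commutator H)).resolve_left hlt.ne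
  have hMn : M.Normal := by
    constructor
    intro n hn g
    have h1 : ⁅g, n⁆ ∈ commutator H :=
      Subgroup.commutator_mem_commutator (Subgroup.mem_top g) (Subgroup.mem_top n)
    have e : g * n * g⁻¹ = ⁅g, n⁆ * n := by
      rw [commutatorElement_def]; group
    rw [e]
    exact M.mul_mem (hle h1) hn
  refine ⟨M, hMn, ?_⟩
  have hq1 : M.index ≠ 1 := fun h => hM.1 (Subgroup.index_eq_one.mp h)
  obtain ⟨ℓ, hℓ, hdvd⟩ := Nat.exists_prime_and_dvd hq1
  have : Fact ℓ.Prime := ⟨hℓ⟩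
  have hdvd' : ℓ ∣ Nat.card (H ⧸ M) := hdvd
  obtain ⟨x, hx⟩ := exists_prime_orderOf_dvd_card' ℓ hdvd'
  obtain ⟨y, rfl⟩ := QuotientGroup.mk_surjective x
  let L : Subgroup H := (Subgroup.zpowers (QuotientGroup.mk' M y)).comap (QuotientGroup.mk' M)
  have hML : M ≤ L := by
    intro z hz
    rw [Subgroup.mem_comap]
    have : QuotientGroup.mk' M z = 1 := (QuotientGroup.eq_one_iff z).mpr hz
    rw [this]
    exact Subgroup.one_mem _
  have hyL : y ∈ L := by
    rw [Subgroup.mem_comap]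
    exact Subgroup.mem_zpowers _
  have hyM : y ∉ M := by
    intro h
    have h1 : (QuotientGroup.mk y : H ⧸ M) = 1 := (QuotientGroup.eq_one_iff y).mpr h
    rw [h1, orderOf_one] at hx
    exact hℓ.one_lt.ne hx
  have hLtop : L = ⊤ := by
    by_contra hne
    have := hM.2 L (lt_of_le_of_ne hML (fun h => hyM (h ▸ hyL)))
    exact hne this
  have hz : Subgroup.zpowers (QuotientGroup.mk' M y) = ⊤ := by
    rw [eq_top_iff]
    intro z _
    obtain ⟨w, rfl⟩ := QuotientGroup.mk_surjective z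
    have : w ∈ L := by rw [hLtop]; exact Subgroup.mem_top w
    exact this
  have hcard : Nat.card (H ⧸ M) = ℓ := by
    rw [← Subgroup.card_top (G := H ⧸ M), ← hz, Nat.card_zpowers]
    exact hx
  have : M.index = ℓ := hcard
  rw [this]
  exact hℓ

end

section

universe u

theorem dgc_dvd_down {G : Type u} [Group G] [Finite G] (M : Subgroup G) [hM : M.Normal] {s : ℕ}
    (hs : s.Prime) (hidx : M.index = s) {v : ℕ} (hv : v.Prime) (hvs : v ≠ s)
    (χ : Cfsg.IrrCharacter G) (hχ : v ∣ Cfsg.charDegree (χ : G → ℂ)) :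
    ∃ ψ : Cfsg.IrrCharacter M, v ∣ Cfsg.charDegree (ψ : M → ℂ) := by
  classical
  haveI : Fintype G := Fintype.ofFinite G
  obtain ⟨ψ, hψ⟩ := dgc_down M hs hidx χ
  refine ⟨ψ, ?_⟩
  rcases hψ with h | ⟨h, -⟩
  · rw [← h]
    exact hχ
  · rw [h] at hχ
    rcases (Nat.Prime.dvd_mul hv).1 hχ with h' | h'
    · exact absurd ((Nat.prime_dvd_prime_iff_eq hv hs).1 h') hvs
    · exact h'

theorem dgc_mem_down {G : Type u} [Group G] [Finite G] (M : Subgroup G) [hM : M.Normal] {s : ℕ}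
    (hs : s.Prime) (hidx : M.index = s) {v : ℕ} (hv : v ∈ Cfsg.degreePrimes G) (hvs : v ≠ s) :
    v ∈ Cfsg.degreePrimes M := by
  obtain ⟨hvp, χ, hχ⟩ := exists_of_mem_degreePrimes hv
  obtain ⟨ψ, hψ⟩ := dgc_dvd_down M hs hidx hvp hvs χ hχ
  exact mem_degreePrimes_of_dvd ψ hvp hψ

theorem dgc_core {G : Type u} [Group G] [Finite G] (M : Subgroup G) [hM : M.Normal] {s : ℕ}
    (hs : s.Prime) (hidx : M.index = s) (ih : DG3 M) (v1 v2 : ℕ)
    (h1 : v1 ∈ Cfsg.degreePrimes G) (h2 : v2 ∈ Cfsg.degreePrimes G)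
    (h3 : s ∈ Cfsg.degreePrimes G) (h12 : ¬ DGR G v1 v2) (h1s : ¬ DGR G v1 s)
    (h2s : ¬ DGR G v2 s) : False := by
  classical
  haveI : Fintype G := Fintype.ofFinite G
  have hv1s : v1 ≠ s := by
    intro h
    apply h1s
    rw [h]
    exact dgr_refl h3
  have hv2s : v2 ≠ s := by
    intro h
    apply h2s
    rw [h]
    exact dgr_refl h3
  have hm1 : v1 ∈ Cfsg.degreePrimes M := dgc_mem_down M hs hidx h1 hv1s
  have hm2 : v2 ∈ Cfsg.degreePrimes M := dgc_mem_down M hs hidx h2 hv2s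
  have hM12 : ¬ DGR M v1 v2 := fun h => h12 (dgr_mono M h)
  have hsM : s ∉ Cfsg.degreePrimes M := by
    intro h
    rcases ih v1 v2 s hm1 hm2 h with a | a | a
    · exact hM12 a
    · exact h1s (dgr_mono M a)
    · exact h2s (dgr_mono M a)
  have hspow : ∀ χ : Cfsg.IrrCharacter G, s ∣ Cfsg.charDegree (χ : G → ℂ) →
      ∀ v : ℕ, v.Prime → v ∣ Cfsg.charDegree (χ : G → ℂ) → v = s := by
    intro χ hsχ v hv hvχ
    by_contra hne
    obtain ⟨ψ, hψ⟩ := dgc_dvd_down M hs hidx hv hne χ hvχ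
    have hvM : v ∈ Cfsg.degreePrimes M := mem_degreePrimes_of_dvd ψ hv hψ
    have hvs : DGR G v s := dgr_of_dvd χ hv hs hvχ hsχ
    rcases ih v1 v2 v hm1 hm2 hvM with a | a | a
    · exact hM12 a
    · exact h1s (dgr_trans (dgr_mono M a) hvs)
    · exact h2s (dgr_trans (dgr_mono M a) hvs)
  have hinv : ∀ ψ : Cfsg.IrrCharacter M, Cfsg.charDegree (ψ : M → ℂ) ≠ 1 →
      ∀ g : G, cj M (ψ : M → ℂ) g = (ψ : M → ℂ) := by
    intro ψ hψ g
    by_contra hne
    obtain ⟨χ, hχ⟩ := dgc_up M hs hidx ψ g hne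
    have hsχ : s ∣ Cfsg.charDegree (χ : G → ℂ) := ⟨_, hχ⟩
    obtain ⟨v, hv, hvd⟩ := Nat.exists_prime_and_dvd hψ
    have hvχ : v ∣ Cfsg.charDegree (χ : G → ℂ) := by
      rw [hχ]
      exact Dvd.dvd.mul_left hvd s
    have hvs : v = s := hspow χ hsχ v hv hvχ
    rw [hvs] at hvd
    exact hsM (mem_degreePrimes_of_dvd ψ hs hvd)
  obtain ⟨-, χ, hχ⟩ := exists_of_mem_degreePrimes h3
  obtain ⟨ψ, hψ⟩ := dgc_down M hs hidx χ
  rcases hψ with h | ⟨h, g, hg⟩
  · rw [h] at hχ
    exact hsM (mem_degreePrimes_of_dvd ψ hs hχ)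
  · have hψ1 : Cfsg.charDegree (ψ : M → ℂ) = 1 := by
      by_contra hne
      exact hg (hinv ψ hne g)
    obtain ⟨u, hu, hudvd⟩ := dgc_common_prime M g ψ hψ1 hg (fun φ hφ => hinv φ hφ g)
    obtain ⟨hp1, ψ1, hψ1d⟩ := exists_of_mem_degreePrimes hm1
    obtain ⟨hp2, ψ2, hψ2d⟩ := exists_of_mem_degreePrimes hm2
    have hne1 : Cfsg.charDegree (ψ1 : M → ℂ) ≠ 1 := by
      intro h'
      rw [h'] at hψ1d
      exact hp1.one_lt.ne' (Nat.dvd_one.1 hψ1d)
    have hne2 : Cfsg.charDegree (ψ2 : M → ℂ) ≠ 1 := by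
      intro h'
      rw [h'] at hψ2d
      exact hp2.one_lt.ne' (Nat.dvd_one.1 hψ2d)
    have a : DGR M v1 u := dgr_of_dvd ψ1 hp1 hu hψ1d (hudvd ψ1 hne1)
    have b : DGR M v2 u := dgr_of_dvd ψ2 hp2 hu hψ2d (hudvd ψ2 hne2)
    exact hM12 (dgr_trans a (dgr_symm b))

theorem dgc_main : ∀ n : ℕ, ∀ (G : Type u) [Group G] [Finite G] [Group.IsSolvable G],
    Nat.card G = n → DG3 G := by
  intro n
  induction n using Nat.strong_induction_on with
  | _ n ih =>
  intro G _ _ _ hn v1 v2 v3 h1 h2 h3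
  by_contra hcon
  push Not at hcon
  obtain ⟨h12, h13, h23⟩ := hcon
  haveI : Nontrivial G := by
    by_contra hnt
    rw [not_nontrivial_iff_subsingleton] at hnt
    obtain ⟨hp, χ, hχ⟩ := exists_of_mem_degreePrimes h1
    have hd := charDegree_dvd_card χ
    have hc : Nat.card G = 1 := Nat.card_eq_one_iff_unique.2 ⟨hnt, ⟨1⟩⟩
    rw [hc] at hd
    have := hχ.trans hd
    exact hp.one_lt.ne' (Nat.dvd_one.1 this)
  obtain ⟨M, hMn, hMp⟩ := dgc_exists_normal_prime_index (H := G)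
  haveI := hMn
  have hlt : Nat.card M < n := by
    rw [← hn, ← Subgroup.card_mul_index M]
    have h2' : 2 ≤ M.index := hMp.two_le
    have hpos : 0 < Nat.card M := Nat.card_pos
    nlinarith
  have ihM : DG3 M := ih (Nat.card M) hlt M rfl
  by_cases c1 : v1 = M.index
  · rw [c1] at h1 h12 h13
    exact dgc_core M hMp rfl ihM v2 v3 h2 h3 h1 h23 (fun h => h12 (dgr_symm h))
      (fun h => h13 (dgr_symm h))
  by_cases c2 : v2 = M.index
  · rw [c2] at h2 h12 h23
    exact dgc_core M hMp rfl ihM v1 v3 h1 h3 h2 h13 h12 (fun h => h23 (dgr_symm h))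
  by_cases c3 : v3 = M.index
  · rw [c3] at h3 h13 h23
    exact dgc_core M hMp rfl ihM v1 v2 h1 h2 h3 h12 h13 h23
  have hm1 := dgc_mem_down M hMp rfl h1 c1
  have hm2 := dgc_mem_down M hMp rfl h2 c2
  have hm3 := dgc_mem_down M hMp rfl h3 c3
  rcases ihM v1 v2 v3 hm1 hm2 hm3 with a | a | a
  · exact h12 (dgr_mono M a)
  · exact h13 (dgr_mono M a)
  · exact h23 (dgr_mono M a)

theorem dgc_components {G : Type u} [Group G] [Finite G] [Group.IsSolvable G] :
    Nat.card ((Cfsg.degreeGraph G).induce (Cfsg.degreePrimes G)).ConnectedComponent ≤ 2 :=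
  card_le_two_of_dg3 (dgc_main (Nat.card G) G rfl)

end

end Cfsg.Agent.Lib.Helper25
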