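import Mathlib
import Cfsg.Prelude.Def_DegreeGraph
import Cfsg.Agent.Lib.Helper25.DegreeGraphComp
import Cfsg.Agent.Lib.helper7.Thompson
import Cfsg.Agent.Lib.helper7.LinearExt
import Cfsg.Agent.Lib.helper7.ExtUnique

/-!
Relative character degree graphs (Isaacs): conjugation action on characters of a normal subgroup, orbit sizes, twists by linear characters, and the orbit lemma.
-/

set_option autoImplicit false

namespace Cfsg.Agent.Lib.Helper25.RelDeg
open scoped ComplexConjugate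
open Cfsg.Agent.Lib.helper7
open Cfsg.Agent.Lib.Helper11
open Cfsg.Agent.Lib.helper2
section

universe u

/-- reachability in the common-divisor graph restricted to the relative degree set -/
def RGR {G : Type u} [Group G] (N : Subgroup G) (a b : ℕ) : Prop :=
  ∃ (ha : a ∈ Cfsg.relCharDegrees N) (hb : b ∈ Cfsg.relCharDegrees N),
    (Cfsg.commonDivisorGraph.induce (Cfsg.relCharDegrees N)).Reachable ⟨a, ha⟩ ⟨b, hb⟩

theorem rgr_refl {G : Type u} [Group G] (N : Subgroup G) {a : ℕ}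
    (ha : a ∈ Cfsg.relCharDegrees N) : RGR N a a :=
  ⟨ha, ha, SimpleGraph.Reachable.refl _⟩

theorem rgr_symm {G : Type u} [Group G] (N : Subgroup G) {a b : ℕ} (h : RGR N a b) :
    RGR N b a := by
  obtain ⟨ha, hb, h⟩ := h
  exact ⟨hb, ha, h.symm⟩

theorem rgr_trans {G : Type u} [Group G] (N : Subgroup G) {a b c : ℕ} (h : RGR N a b)
    (h' : RGR N b c) : RGR N a c := by
  obtain ⟨ha, hb, h⟩ := h
  obtain ⟨hb', hc, h'⟩ := h'
  exact ⟨ha, hc, h.trans h'⟩

theorem rgr_of_gcd {G : Type u} [Group G] (N : Subgroup G) {a b : ℕ}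
    (ha : a ∈ Cfsg.relCharDegrees N) (hb : b ∈ Cfsg.relCharDegrees N)
    (h : 1 < Nat.gcd a b) : RGR N a b := by
  by_cases hab : a = b
  · subst hab
    exact rgr_refl N ha
  · refine ⟨ha, hb, SimpleGraph.Adj.reachable ?_⟩
    show Cfsg.commonDivisorGraph.Adj a b
    exact ⟨hab, h⟩

theorem rgr_of_dvd {G : Type u} [Group G] (N : Subgroup G) {a b k : ℕ}
    (ha : a ∈ Cfsg.relCharDegrees N) (hb : b ∈ Cfsg.relCharDegrees N)
    (hk : 1 < k) (hka : k ∣ a) (hkb : k ∣ b) : RGR N a b := by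
  apply rgr_of_gcd N ha hb
  have h1 : k ∣ Nat.gcd a b := Nat.dvd_gcd hka hkb
  have h2 : 0 < Nat.gcd a b := by
    apply Nat.pos_of_ne_zero
    intro h0
    rw [Nat.gcd_eq_zero_iff] at h0
    obtain ⟨χ, _, hχ⟩ := ha
    have := (charDegree_irr χ).2
    omega
  exact lt_of_lt_of_le hk (Nat.le_of_dvd h2 h1)

theorem rgr_mem_left {G : Type u} [Group G] (N : Subgroup G) {a b : ℕ} (h : RGR N a b) :
    a ∈ Cfsg.relCharDegrees N := h.1

theorem rgr_mem_right {G : Type u} [Group G] (N : Subgroup G) {a b : ℕ} (h : RGR N a b) :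
    b ∈ Cfsg.relCharDegrees N := h.2.1

/-- if among any three vertices two are joined, there are at most two components -/
theorem card_le_two_of_rg3 {G : Type u} [Group G] (N : Subgroup G)
    (h : ∀ v1 v2 v3 : ℕ, v1 ∈ Cfsg.relCharDegrees N → v2 ∈ Cfsg.relCharDegrees N →
      v3 ∈ Cfsg.relCharDegrees N → RGR N v1 v2 ∨ RGR N v1 v3 ∨ RGR N v2 v3) :
    Nat.card (Cfsg.commonDivisorGraph.induce (Cfsg.relCharDegrees N)).ConnectedComponent ≤ 2 := by
  classical
  by_contra hcon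
  push Not at hcon
  haveI : Finite (Cfsg.commonDivisorGraph.induce (Cfsg.relCharDegrees N)).ConnectedComponent :=
    Nat.finite_of_card_ne_zero (by omega)
  haveI : Fintype (Cfsg.commonDivisorGraph.induce (Cfsg.relCharDegrees N)).ConnectedComponent :=
    Fintype.ofFinite _
  rw [Nat.card_eq_fintype_card, Fintype.two_lt_card_iff] at hcon
  obtain ⟨a, b, c, hab, hac, hbc⟩ := hcon
  obtain ⟨va, rfl⟩ := a.exists_rep
  obtain ⟨vb, rfl⟩ := b.exists_rep
  obtain ⟨vc, rfl⟩ := c.exists_rep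
  have key : ∀ x y : ↥(Cfsg.relCharDegrees N), RGR N x.1 y.1 →
      (Cfsg.commonDivisorGraph.induce (Cfsg.relCharDegrees N)).connectedComponentMk x =
      (Cfsg.commonDivisorGraph.induce (Cfsg.relCharDegrees N)).connectedComponentMk y := by
    intro x y hxy
    obtain ⟨hx, hy, hr⟩ := hxy
    exact SimpleGraph.ConnectedComponent.eq.2 hr
  rcases h va.1 vb.1 vc.1 va.2 vb.2 vc.2 with h1 | h1 | h1
  · exact hab (key _ _ h1)
  · exact hac (key _ _ h1)
  · exact hbc (key _ _ h1)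

end

section

universe u

variable {G : Type u} [Group G] [Fintype G] (N : Subgroup G) [hN : N.Normal] [Fintype N]

/-- `χ` lies over `ϑ` -/
def Ov (χ : Cfsg.IrrCharacter G) (ϑ : Cfsg.IrrCharacter N) : Prop :=
  Cfsg.classInner (fun n : N => (χ : G → ℂ) n) (ϑ : N → ℂ) ≠ 0

/-- conjugation action on irreducible characters of the normal subgroup -/
def ism (g : G) (ϑ : Cfsg.IrrCharacter N) : Cfsg.IrrCharacter N := h7_irrSmul N g ϑ

theorem ism_apply (g : G) (ϑ : Cfsg.IrrCharacter N) (n : N) :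
    (ism N g ϑ : N → ℂ) n = (ϑ : N → ℂ) ⟨g⁻¹ * n * g, by
      have := hN.conj_mem (n : G) n.2 g⁻¹
      simpa using this⟩ := by
  show cj N (ϑ : N → ℂ) g⁻¹ n = _
  rw [cj_apply]
  refine congrArg _ (Subtype.ext ?_)
  simp

theorem ism_one (ϑ : Cfsg.IrrCharacter N) : ism N 1 ϑ = ϑ := by
  apply Subtype.ext
  funext n
  rw [ism_apply]
  refine congrArg _ (Subtype.ext ?_)
  simp

theorem ism_mul (g h : G) (ϑ : Cfsg.IrrCharacter N) : ism N (g * h) ϑ = ism N g (ism N h ϑ) := by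
  apply Subtype.ext
  funext n
  rw [ism_apply, ism_apply, ism_apply]
  refine congrArg _ (Subtype.ext ?_)
  simp only
  group

theorem ism_inv_ism (g : G) (ϑ : Cfsg.IrrCharacter N) : ism N g⁻¹ (ism N g ϑ) = ϑ := by
  rw [← ism_mul, inv_mul_cancel, ism_one]

theorem ism_ism_inv (g : G) (ϑ : Cfsg.IrrCharacter N) : ism N g (ism N g⁻¹ ϑ) = ϑ := by
  rw [← ism_mul, mul_inv_cancel, ism_one]

/-- stabilizer of an irreducible character of `N` -/
def stb (ϑ : Cfsg.IrrCharacter N) : Subgroup G :=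
  letI := h7_irrAction N
  MulAction.stabilizer G ϑ

theorem mem_stb (ϑ : Cfsg.IrrCharacter N) (g : G) : g ∈ stb N ϑ ↔ ism N g ϑ = ϑ := Iff.rfl

/-- size of the orbit -/
noncomputable def nn (ϑ : Cfsg.IrrCharacter N) : ℕ := (stb N ϑ).index

theorem nn_pos (ϑ : Cfsg.IrrCharacter N) : 0 < nn N ϑ := by
  unfold nn
  exact Nat.pos_of_ne_zero Subgroup.index_ne_zero_of_finite

theorem card_image_cj (ϑ : Cfsg.IrrCharacter N) [DecidableEq (N → ℂ)] :
    (Finset.univ.image (fun g : G => cj N (ϑ : N → ℂ) g)).card = nn N ϑ := by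
  letI := h7_irrAction N
  unfold nn stb
  rw [MulAction.index_stabilizer]
  have h1 : ((Finset.univ.image (fun g : G => cj N (ϑ : N → ℂ) g) : Finset (N → ℂ)) :
      Set (N → ℂ)) = Subtype.val '' (MulAction.orbit G ϑ) := by
    ext f
    simp only [Finset.coe_image, Finset.coe_univ, Set.image_univ, Set.mem_range, Set.mem_image]
    constructor
    · rintro ⟨g, rfl⟩
      refine ⟨g⁻¹ • ϑ, ⟨g⁻¹, rfl⟩, ?_⟩
      show cj N (ϑ : N → ℂ) g⁻¹⁻¹ = _
      rw [inv_inv]
    · rintro ⟨_, ⟨g, rfl⟩, rfl⟩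
      exact ⟨g⁻¹, rfl⟩
  rw [← Set.ncard_coe_finset, h1, Set.ncard_image_of_injective _ Subtype.val_injective]

theorem deg_ism (g : G) (ϑ : Cfsg.IrrCharacter N) :
    Cfsg.charDegree (ism N g ϑ : N → ℂ) = Cfsg.charDegree (ϑ : N → ℂ) := by
  have h1 : ((Cfsg.charDegree (ism N g ϑ : N → ℂ) : ℕ) : ℂ) =
      ((Cfsg.charDegree (ϑ : N → ℂ) : ℕ) : ℂ) := by
    rw [(charDegree_irr _).1, (charDegree_irr _).1, ism_apply]
    refine congrArg _ (Subtype.ext ?_)
    simp
  exact_mod_cast h1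

theorem exists_ov (χ : Cfsg.IrrCharacter G) : ∃ ϑ : Cfsg.IrrCharacter N, Ov N χ ϑ :=
  dgc_exists_constituent N χ

theorem ov_ism (χ : Cfsg.IrrCharacter G) (ϑ : Cfsg.IrrCharacter N) (g : G) (h : Ov N χ ϑ) :
    Ov N χ (ism N g ϑ) := by
  unfold Ov
  show Cfsg.classInner (fun n : N => (χ : G → ℂ) n) (cj N (ϑ : N → ℂ) g⁻¹) ≠ 0
  rw [h7_classInner_restrict_cj N (χ : G → ℂ) (h7_irr_isClassFunction χ.2)]
  exact h

theorem ov_conj (χ : Cfsg.IrrCharacter G) (ϑ φ : Cfsg.IrrCharacter N) (h1 : Ov N χ ϑ)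
    (h2 : Ov N χ φ) : ∃ g : G, φ = ism N g ϑ := by
  obtain ⟨g, hg⟩ := h7_clifford_conj N (χ : G → ℂ) χ.2 (ϑ : N → ℂ) (φ : N → ℂ) ϑ.2 φ.2 h1 h2
  refine ⟨g⁻¹, Subtype.ext ?_⟩
  show (φ : N → ℂ) = cj N (ϑ : N → ℂ) g⁻¹⁻¹
  rw [inv_inv]
  exact hg

theorem ov_dvd (χ : Cfsg.IrrCharacter G) (ϑ : Cfsg.IrrCharacter N) (h : Ov N χ ϑ) :
    nn N ϑ * Cfsg.charDegree (ϑ : N → ℂ) ∣ Cfsg.charDegree (χ : G → ℂ) := by
  classical
  obtain ⟨e, he, h1, h2⟩ := h7_clifford N (χ : G → ℂ) χ.2 (ϑ : N → ℂ) ϑ.2 h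
  have h3 := congrFun h2 1
  simp only [Pi.smul_apply, Finset.sum_apply, smul_eq_mul] at h3
  have h4 : ∀ ψ ∈ Finset.univ.image (fun g : G => cj N (ϑ : N → ℂ) g),
      ψ 1 = (ϑ : N → ℂ) 1 := by
    intro ψ hψ
    rw [Finset.mem_image] at hψ
    obtain ⟨g, _, rfl⟩ := hψ
    rw [cj_apply]
    refine congrArg _ (Subtype.ext ?_)
    simp
  rw [Finset.sum_congr rfl h4, Finset.sum_const, card_image_cj, nsmul_eq_mul,
    ← (charDegree_irr ϑ).1] at h3
  have h5 : ((Cfsg.charDegree (χ : G → ℂ) : ℕ) : ℂ) =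
      ((e * (nn N ϑ * Cfsg.charDegree (ϑ : N → ℂ)) : ℕ) : ℂ) := by
    rw [(charDegree_irr χ).1]
    push_cast
    exact h3
  have h6 : Cfsg.charDegree (χ : G → ℂ) = e * (nn N ϑ * Cfsg.charDegree (ϑ : N → ℂ)) := by
    exact_mod_cast h5
  rw [h6]
  exact Dvd.intro_left _ rfl

theorem ov_nn_dvd (χ : Cfsg.IrrCharacter G) (ϑ : Cfsg.IrrCharacter N) (h : Ov N χ ϑ) :
    nn N ϑ ∣ Cfsg.charDegree (χ : G → ℂ) :=
  (Dvd.intro _ rfl).trans (ov_dvd N χ ϑ h)

theorem ov_deg_dvd (χ : Cfsg.IrrCharacter G) (ϑ : Cfsg.IrrCharacter N) (h : Ov N χ ϑ) :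
    Cfsg.charDegree (ϑ : N → ℂ) ∣ Cfsg.charDegree (χ : G → ℂ) :=
  (Dvd.intro_left _ rfl).trans (ov_dvd N χ ϑ h)

theorem nn_ism (g : G) (ϑ : Cfsg.IrrCharacter N) : nn N (ism N g ϑ) = nn N ϑ := by
  letI := h7_irrAction N
  unfold nn stb
  rw [MulAction.index_stabilizer, MulAction.index_stabilizer]
  show (MulAction.orbit G (g • ϑ)).ncard = _
  rw [MulAction.orbit_smul]

end

section

universe u

variable {G : Type u} [Group G] [Fintype G] (N : Subgroup G) [hN : N.Normal] [Fintype N]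

/-- conjugation action on linear characters (as homomorphisms) of the normal subgroup -/
def cjL (g : G) (μ : N →* ℂˣ) : N →* ℂˣ :=
  μ.comp (MulAut.conjNormal g⁻¹ : MulAut N).toMonoidHom

theorem cjL_apply (g : G) (μ : N →* ℂˣ) (n : N) :
    cjL N g μ n = μ ⟨g⁻¹ * n * g, by
      have := hN.conj_mem (n : G) n.2 g⁻¹
      simpa using this⟩ := by
  show μ ((MulAut.conjNormal g⁻¹ : MulAut N) n) = _
  refine congrArg _ (Subtype.ext ?_)
  simp [MulAut.conjNormal_apply]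

theorem cjL_one (μ : N →* ℂˣ) : cjL N 1 μ = μ := by
  apply MonoidHom.ext
  intro n
  rw [cjL_apply]
  exact congrArg μ (Subtype.ext (by simp))

theorem cjL_comp (g h : G) (μ : N →* ℂˣ) : cjL N (g * h) μ = cjL N g (cjL N h μ) := by
  apply MonoidHom.ext
  intro n
  rw [cjL_apply, cjL_apply, cjL_apply]
  refine congrArg μ (Subtype.ext ?_)
  simp only
  group

theorem cjL_mul (g : G) (μ ν : N →* ℂˣ) : cjL N g (μ * ν) = cjL N g μ * cjL N g ν := by
  ext n
  rfl

theorem cjL_map_one (g : G) : cjL N g (1 : N →* ℂˣ) = 1 := by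
  ext n
  rfl

/-- conjugation as an endomorphism of the group of linear characters -/
def cjLHom (g : G) : (N →* ℂˣ) →* (N →* ℂˣ) where
  toFun := cjL N g
  map_one' := cjL_map_one N g
  map_mul' := cjL_mul N g

theorem cjL_pow (g : G) (μ : N →* ℂˣ) (k : ℕ) : cjL N g (μ ^ k) = cjL N g μ ^ k :=
  map_pow (cjLHom N g) μ k

theorem cjL_inv (g : G) (μ : N →* ℂˣ) : cjL N g μ⁻¹ = (cjL N g μ)⁻¹ :=
  map_inv (cjLHom N g) μ

theorem cjL_injective (g : G) : Function.Injective (cjL N g) := by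
  intro μ ν h
  have := congrArg (cjL N g⁻¹) h
  rwa [← cjL_comp, ← cjL_comp, inv_mul_cancel, cjL_one, cjL_one] at this

theorem orderOf_cjL (g : G) (μ : N →* ℂˣ) : orderOf (cjL N g μ) = orderOf μ :=
  orderOf_injective (cjLHom N g) (cjL_injective N g) μ

theorem ism_lin (g : G) (μ : N →* ℂˣ) : ism N g (linIrr μ) = linIrr (cjL N g μ) := by
  apply Subtype.ext
  funext n
  rw [ism_apply, linIrr_apply, linIrr_apply, cjL_apply]

/-- twist of an irreducible character by a linear character -/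
noncomputable def tw (μ : N →* ℂˣ) (ϑ : Cfsg.IrrCharacter N) : Cfsg.IrrCharacter N :=
  ⟨fun n => ((μ n : ℂˣ) : ℂ) * (ϑ : N → ℂ) n, isIrr_linChar_mul μ _ ϑ.2⟩

theorem tw_apply (μ : N →* ℂˣ) (ϑ : Cfsg.IrrCharacter N) (n : N) :
    (tw N μ ϑ : N → ℂ) n = ((μ n : ℂˣ) : ℂ) * (ϑ : N → ℂ) n := rfl

theorem ism_tw (g : G) (μ : N →* ℂˣ) (ϑ : Cfsg.IrrCharacter N) :
    ism N g (tw N μ ϑ) = tw N (cjL N g μ) (ism N g ϑ) := by
  apply Subtype.ext
  funext n
  rw [ism_apply, tw_apply, tw_apply, cjL_apply, ism_apply]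

theorem tw_lin (μ ν : N →* ℂˣ) : tw N μ (linIrr ν) = linIrr (μ * ν) := by
  apply Subtype.ext
  funext n
  rw [tw_apply, linIrr_apply, linIrr_apply, MonoidHom.mul_apply, Units.val_mul]

theorem tw_tw (μ ν : N →* ℂˣ) (ϑ : Cfsg.IrrCharacter N) :
    tw N μ (tw N ν ϑ) = tw N (μ * ν) ϑ := by
  apply Subtype.ext
  funext n
  rw [tw_apply, tw_apply, tw_apply, MonoidHom.mul_apply, Units.val_mul, mul_assoc]

theorem tw_one (ϑ : Cfsg.IrrCharacter N) : tw N 1 ϑ = ϑ := by
  apply Subtype.ext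
  funext n
  rw [tw_apply, MonoidHom.one_apply, Units.val_one, one_mul]

theorem tw_injective (μ : N →* ℂˣ) : Function.Injective (tw N μ) := by
  intro ϑ ϑ' h
  have := congrArg (tw N μ⁻¹) h
  have h1 : μ⁻¹ * μ = 1 := inv_mul_cancel μ
  rwa [tw_tw, tw_tw, h1, tw_one, tw_one] at this

theorem deg_tw (μ : N →* ℂˣ) (ϑ : Cfsg.IrrCharacter N) :
    Cfsg.charDegree (tw N μ ϑ : N → ℂ) = Cfsg.charDegree (ϑ : N → ℂ) := by
  have h1 : ((Cfsg.charDegree (tw N μ ϑ : N → ℂ) : ℕ) : ℂ) =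
      ((Cfsg.charDegree (ϑ : N → ℂ) : ℕ) : ℂ) := by
    rw [(charDegree_irr _).1, (charDegree_irr _).1, tw_apply, map_one, Units.val_one, one_mul]
  exact_mod_cast h1

theorem deg_lin (μ : N →* ℂˣ) : Cfsg.charDegree (linIrr μ : N → ℂ) = 1 := by
  have h1 : ((Cfsg.charDegree (linIrr μ : N → ℂ) : ℕ) : ℂ) = ((1 : ℕ) : ℂ) := by
    rw [(charDegree_irr _).1, linIrr_apply, map_one, Units.val_one, Nat.cast_one]
  exact_mod_cast h1

theorem linIrr_injective {K : Type*} [Group K] : Function.Injective (linIrr (G := K)) := by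
  intro μ ν h
  ext n
  have := congrFun (congrArg Subtype.val h) n
  exact this

theorem exists_lin_of_deg_one (ϑ : Cfsg.IrrCharacter N)
    (h : Cfsg.charDegree (ϑ : N → ℂ) = 1) : ∃ μ : N →* ℂˣ, ϑ = linIrr μ := by
  have h1 : (ϑ : N → ℂ) 1 = 1 := by
    rw [← (charDegree_irr ϑ).1, h, Nat.cast_one]
  refine ⟨irrLinearHom ϑ h1, Subtype.ext ?_⟩
  funext n
  rw [linIrr_apply, irrLinearHom_apply]

theorem linIrr_one_eq_trivIrr {K : Type*} [Group K] : linIrr (1 : K →* ℂˣ) = trivIrr K := by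
  apply Subtype.ext
  funext n
  rfl

/-- a linear character of prime order `r` fixing `ϑ` under twisting forces `r ∣ ϑ(1)` -/
theorem tw_fixed_dvd {r : ℕ} (hr : r.Prime) (μ : N →* ℂˣ) (hμ : orderOf μ = r)
    (ϑ : Cfsg.IrrCharacter N) (h : tw N μ ϑ = ϑ) : r ∣ Cfsg.charDegree (ϑ : N → ℂ) := by
  classical
  have hμ1 : μ ≠ 1 := by
    intro h1
    rw [h1, orderOf_one] at hμ
    exact hr.ne_one hμ.symm
  have hpow : μ ^ r = 1 := by
    rw [← hμ]
    exact pow_orderOf_eq_one μ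
  haveI : Finite μ.range := Finite.of_surjective μ.rangeRestrict μ.rangeRestrict_surjective
  have hcard : Nat.card μ.range = r := by
    have hdvd : ∀ z : μ.range, z ^ r = 1 := by
      rintro ⟨z, n, rfl⟩
      apply Subtype.ext
      show (μ n) ^ r = 1
      have := congrArg (fun φ : N →* ℂˣ => φ n) hpow
      simpa using this
    have hnt : ∃ z : μ.range, z ≠ 1 := by
      by_contra hcon
      push Not at hcon
      apply hμ1
      ext n
      have := hcon ⟨μ n, n, rfl⟩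
      have h2 := congrArg Subtype.val this
      simpa using h2
    obtain ⟨z, hz⟩ := hnt
    have hoz : orderOf z = r := by
      have h1 : orderOf z ∣ r := orderOf_dvd_of_pow_eq_one (hdvd z)
      rcases (Nat.dvd_prime hr).1 h1 with h2 | h2
      · exact absurd (orderOf_eq_one_iff.1 h2) hz
      · exact h2
    haveI : IsCyclic μ.range := by
      have : IsCyclic (μ.range : Subgroup ℂˣ) := subgroup_units_cyclic _
      exact this
    obtain ⟨w, hw⟩ := IsCyclic.exists_generator (α := μ.range)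
    have how : orderOf w = Nat.card μ.range := orderOf_eq_card_of_forall_mem_zpowers hw
    have h3 : orderOf w ∣ r := orderOf_dvd_of_pow_eq_one (hdvd w)
    rcases (Nat.dvd_prime hr).1 h3 with h4 | h4
    · exfalso
      rw [h4] at how
      have : Subsingleton μ.range := (Nat.card_eq_one_iff_unique.1 how.symm).1
      exact hz (Subsingleton.elim _ _)
    · rw [← how, h4]
  have hidx : μ.ker.index = r := by
    rw [Subgroup.index_ker, hcard]
  apply dgc_vanish_dvd μ.ker hr hidx ϑ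
  intro m hm
  have h1 := congrFun (congrArg Subtype.val h) m
  rw [tw_apply] at h1
  by_contra hne
  apply hm
  rw [MonoidHom.mem_ker]
  have h2 : ((μ m : ℂˣ) : ℂ) = 1 := by
    have h3 : ((μ m : ℂˣ) : ℂ) * (ϑ : N → ℂ) m = 1 * (ϑ : N → ℂ) m := by rw [h1, one_mul]
    exact mul_right_cancel₀ hne h3
  exact Units.ext h2

end

section

/-- subgroups of coprime indices in a finite group factorize the group -/
theorem exists_mul_of_coprime_index {G : Type*} [Group G] [Finite G] (H S : Subgroup G)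
    (hc : Nat.Coprime H.index S.index) (g : G) : ∃ h ∈ H, ∃ s ∈ S, g = h * s := by
  classical
  have h1 : (H ⊓ S).relIndex H * H.index = (H ⊓ S).index :=
    Subgroup.relIndex_mul_index inf_le_left
  rw [Subgroup.inf_relIndex_left] at h1
  have h2 : S.index ∣ S.relIndex H * H.index := by
    rw [h1]
    exact Subgroup.index_dvd_of_le inf_le_right
  have h3 : S.index ∣ S.relIndex H := (hc.symm.dvd_of_dvd_mul_right h2)
  have h4 : S.relIndex H ≠ 0 := by
    intro h0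
    rw [h0, zero_mul] at h1
    exact Subgroup.index_ne_zero_of_finite h1.symm
  have h5 : S.index ≤ S.relIndex H := Nat.le_of_dvd (Nat.pos_of_ne_zero h4) h3
  -- the map H / (S ∩ H) → G / S
  let f : H ⧸ S.subgroupOf H → G ⧸ S :=
    Quotient.map' (Subtype.val : H → G) (fun a b hab => by
      rw [QuotientGroup.leftRel_apply] at hab ⊢
      exact hab)
  have hf : Function.Injective f := by
    intro x y
    refine Quotient.inductionOn₂' x y ?_
    intro a b hab
    have h6 : ((a : G) : G ⧸ S) = ((b : G) : G ⧸ S) := hab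
    rw [QuotientGroup.eq] at h6
    apply Quotient.sound'
    rw [QuotientGroup.leftRel_apply]
    exact h6
  have hcard : Nat.card (G ⧸ S) ≤ Nat.card (H ⧸ S.subgroupOf H) := h5
  have hbij : Function.Bijective f := Function.Injective.bijective_of_nat_card_le hf hcard
  obtain ⟨x, hx⟩ := hbij.2 (g : G ⧸ S)
  induction x using Quotient.inductionOn' with
  | h a =>
    have h6 : ((a : G) : G ⧸ S) = (g : G ⧸ S) := hx
    rw [QuotientGroup.eq] at h6
    exact ⟨a, a.2, (a : G)⁻¹ * g, h6, by group⟩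

end

section

universe u

variable {G : Type u} [Group G] [Fintype G] (N : Subgroup G) [hN : N.Normal] [Fintype N]

theorem mem_stb_lin (μ : N →* ℂˣ) (g : G) : g ∈ stb N (linIrr μ) ↔ cjL N g μ = μ := by
  rw [mem_stb, ism_lin]
  exact ⟨fun h => linIrr_injective h, fun h => by rw [h]⟩

theorem nn_lin_one_lt (μ : N →* ℂˣ) (h : ∃ g : G, cjL N g μ ≠ μ) : 1 < nn N (linIrr μ) := by
  obtain ⟨g, hg⟩ := h
  have h1 : nn N (linIrr μ) ≠ 1 := by
    intro h1
    unfold nn at h1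
    rw [Subgroup.index_eq_one] at h1
    apply hg
    rw [← mem_stb_lin, h1]
    exact Subgroup.mem_top g
  have := nn_pos N (linIrr μ)
  omega

theorem exists_move_of_nn (μ : N →* ℂˣ) (h : 1 < nn N (linIrr μ)) : ∃ g : G, cjL N g μ ≠ μ := by
  by_contra hcon
  push Not at hcon
  have h1 : stb N (linIrr μ) = ⊤ := by
    rw [eq_top_iff]
    intro g _
    rw [mem_stb_lin]
    exact hcon g
  unfold nn at h
  rw [h1, Subgroup.index_top] at h
  omega

/-- the orbit lemma: coprime orbit sizes force a common divisor for the product -/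
theorem orbit_lemma {r : ℕ} (hr : r.Prime) (ξ : Cfsg.IrrCharacter N) (lam : N →* ℂˣ)
    (hlam : orderOf lam = r)
    (hdeg : ¬ r ∣ Cfsg.charDegree (ξ : N → ℂ)) (hnξ : ¬ r ∣ nn N ξ)
    (hmove : ∃ g : G, cjL N g lam ≠ lam)
    (hcop : Nat.Coprime (nn N ξ) (nn N (linIrr lam))) :
    ¬ Nat.Coprime (nn N (tw N lam ξ)) (nn N (linIrr lam)) := by
  classical
  intro hc2
  obtain ⟨g₀, hg₀⟩ := hmove
  set δ : N →* ℂˣ := lam * (cjL N g₀ lam)⁻¹ with hδ
  have hδ1 : δ ≠ 1 := by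
    intro h1
    apply hg₀
    rw [hδ] at h1
    exact (mul_inv_eq_one.1 h1).symm
  have hlamr : lam ^ r = 1 := by
    rw [← hlam]
    exact pow_orderOf_eq_one lam
  have hδr : δ ^ r = 1 := by
    have e1 : (lam * (cjL N g₀ lam)⁻¹) ^ r = lam ^ r * ((cjL N g₀ lam)⁻¹) ^ r :=
      mul_pow lam (cjL N g₀ lam)⁻¹ r
    have e2 : ((cjL N g₀ lam)⁻¹) ^ r = ((cjL N g₀ lam) ^ r)⁻¹ := inv_pow (cjL N g₀ lam) r
    have e3 : ((1 : N →* ℂˣ))⁻¹ = 1 := by
      ext x
      simp
    have e4 : (1 : N →* ℂˣ) * 1 = 1 := mul_one (1 : N →* ℂˣ)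
    rw [hδ, e1, e2, ← cjL_pow, hlamr, cjL_map_one, e3, e4]
  have hδo : orderOf δ = r := by
    have h1 : orderOf δ ∣ r := orderOf_dvd_of_pow_eq_one hδr
    rcases (Nat.dvd_prime hr).1 h1 with h2 | h2
    · exact absurd (orderOf_eq_one_iff.1 h2) hδ1
    · exact h2
  -- closure of the orbit under twisting by δ
  have hclose : ∀ g : G, ∃ g' : G, tw N δ (ism N g ξ) = ism N g' ξ := by
    intro g
    obtain ⟨b, hb, a, ha, hga⟩ := exists_mul_of_coprime_index (stb N (linIrr lam)) (stb N ξ)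
      (by unfold nn at hcop; exact hcop.symm) g
    have h1 : ism N g ξ = ism N b ξ := by
      rw [hga, ism_mul, (mem_stb N ξ a).1 ha]
    obtain ⟨c, hc, b', hb', hcb⟩ := exists_mul_of_coprime_index (stb N (tw N lam ξ))
      (stb N (linIrr lam)) (by unfold nn at hc2; exact hc2) (b⁻¹ * g₀)
    have hb1 : cjL N b lam = lam := (mem_stb_lin N lam b).1 hb
    have hbinv : cjL N b⁻¹ lam = lam := by
      have := congrArg (cjL N b⁻¹) hb1
      rw [← cjL_comp, inv_mul_cancel, cjL_one] at this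
      exact this.symm
    have hb'1 : cjL N b' lam = lam := (mem_stb_lin N lam b').1 hb'
    have hκ : cjL N (b⁻¹ * g₀) lam = cjL N c lam := by
      rw [hcb, cjL_comp, hb'1]
    have h2 : cjL N b⁻¹ δ = lam * (cjL N c lam)⁻¹ := by
      rw [hδ, cjL_mul, cjL_inv, ← cjL_comp, hbinv, hκ]
    have h3 : tw N δ (ism N b ξ) = ism N b (tw N (cjL N b⁻¹ δ) ξ) := by
      rw [ism_tw, ← cjL_comp, mul_inv_cancel, cjL_one]
    have h4 : tw N (lam * (cjL N c lam)⁻¹) ξ = ism N c ξ := by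
      have h5 : ism N c (tw N lam ξ) = tw N lam ξ := (mem_stb N _ c).1 hc
      rw [ism_tw] at h5
      have h6 : lam * (cjL N c lam)⁻¹ = (cjL N c lam)⁻¹ * lam := mul_comm lam (cjL N c lam)⁻¹
      have h7 : (cjL N c lam)⁻¹ * cjL N c lam = 1 := inv_mul_cancel (cjL N c lam)
      rw [h6, ← tw_tw, ← h5, tw_tw, h7, tw_one]
    refine ⟨b * c, ?_⟩
    rw [h1, h3, h2, h4, ism_mul]
  -- the permutation of the orbit
  letI := h7_irrAction N
  haveI : Finite (Cfsg.IrrCharacter N) := inferInstance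
  haveI : Fintype ↥(MulAction.orbit G ξ) := Fintype.ofFinite _
  have hmem : ∀ ϑ : ↥(MulAction.orbit G ξ), tw N δ ϑ.1 ∈ MulAction.orbit G ξ := by
    rintro ⟨ϑ, g, rfl⟩
    obtain ⟨g', hg'⟩ := hclose g
    exact ⟨g', hg'.symm⟩
  let f : ↥(MulAction.orbit G ξ) → ↥(MulAction.orbit G ξ) := fun ϑ => ⟨tw N δ ϑ.1, hmem ϑ⟩
  have hfinj : Function.Injective f := by
    intro a b hab
    apply Subtype.ext
    exact tw_injective N δ (congrArg Subtype.val hab)
  have hfbij : Function.Bijective f := Finite.injective_iff_bijective.1 hfinj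
  let σ : Equiv.Perm ↥(MulAction.orbit G ξ) := Equiv.ofBijective f hfbij
  have hiter : ∀ (k : ℕ) (ϑ : ↥(MulAction.orbit G ξ)), ((σ ^ k) ϑ).1 = tw N (δ ^ k) ϑ.1 := by
    intro k
    induction k with
    | zero =>
      intro ϑ
      have e0 : δ ^ 0 = 1 := pow_zero δ
      rw [e0, tw_one, pow_zero]
      rfl
    | succ k ih =>
      intro ϑ
      rw [pow_succ', Equiv.Perm.mul_apply]
      show tw N δ ((σ ^ k) ϑ).1 = _
      have e5 : δ ^ (k + 1) = δ * δ ^ k := pow_succ' δ k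
      rw [ih, tw_tw, e5]
  haveI : Fact r.Prime := ⟨hr⟩
  have hσr : σ ^ r ^ 1 = 1 := by
    rw [pow_one]
    ext ϑ
    rw [hiter, hδr, tw_one]
    rfl
  have h7 := Equiv.Perm.card_compl_support_modEq hσr
  have h8 : σ.supportᶜ = ∅ := by
    rw [Finset.eq_empty_iff_forall_notMem]
    intro ϑ hϑ
    rw [Finset.mem_compl, Equiv.Perm.mem_support, not_not] at hϑ
    have h9 : tw N δ ϑ.1 = ϑ.1 := congrArg Subtype.val hϑ
    have h10 := tw_fixed_dvd N hr δ hδo ϑ.1 h9
    obtain ⟨ϑ', g, rfl⟩ := ϑ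
    apply hdeg
    have h11 : Cfsg.charDegree ((g • ξ : Cfsg.IrrCharacter N) : N → ℂ) =
        Cfsg.charDegree (ξ : N → ℂ) := deg_ism N g ξ
    rw [← h11]
    exact h10
  rw [h8, Finset.card_empty] at h7
  have h12 : r ∣ Fintype.card ↥(MulAction.orbit G ξ) := (Nat.modEq_zero_iff_dvd.1 h7.symm)
  apply hnξ
  unfold nn stb
  rw [MulAction.index_stabilizer, ← Nat.card_coe_set_eq, Nat.card_eq_fintype_card]
  exact h12

end

end Cfsg.Agent.Lib.Helper25.RelDeg
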