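import Mathlib
import Cfsg.Prelude.Def_DegreeGraph
import Cfsg.Agent.Lib.helper7.CliffordSub
import Cfsg.Agent.Lib.Helper25.RelDegA

/-!
Relative character degree graphs (Isaacs): the chain lemma for r-power index, extension of characters to PN, determinants, extendible linear characters.
-/

set_option autoImplicit false

namespace Cfsg.Agent.Lib.Helper25.RelDeg
open scoped ComplexConjugate
open Cfsg.Agent.Lib.helper7
open Cfsg.Agent.Lib.Helper11
open Cfsg.Agent.Lib.helper2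
section

universe u

theorem isIrr_comp_equiv {K K' : Type*} [Group K] [Group K'] (α : K' ≃* K) (θ : K → ℂ)
    (hθ : Cfsg.IsIrrCharacter K θ) : Cfsg.IsIrrCharacter K' (fun x => θ (α x)) := by
  obtain ⟨n, ρ, hρ, hχ⟩ := hθ
  refine ⟨n, ρ.comp α.toMonoidHom, isIrreducible_comp_equiv ρ α, ?_⟩
  funext x
  rw [← hχ]
  rfl

/-- the chain lemma: over a normal subgroup of `r`-power index an irreducible character of
`r'`-degree restricts irreducibly -/
theorem chain_irr {r : ℕ} (hr : r.Prime) : ∀ k : ℕ, ∀ (H : Type u) [Group H] [Finite H]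
    (N : Subgroup H) [N.Normal],
    N.index = r ^ k → ∀ ψ : Cfsg.IrrCharacter H, ¬ r ∣ Cfsg.charDegree (ψ : H → ℂ) →
    Cfsg.IsIrrCharacter N (fun n : N => (ψ : H → ℂ) n) := by
  intro k
  induction k with
  | zero =>
    intro H _ _ N _ hidx ψ _
    rw [pow_zero, Subgroup.index_eq_one] at hidx
    subst hidx
    exact isIrr_comp_equiv (Subgroup.topEquiv : (⊤ : Subgroup H) ≃* H) _ ψ.2
  | succ k ih =>
    intro H _ _ N hNn hidx ψ hdeg
    classical
    haveI : Fintype H := Fintype.ofFinite H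
    have hcardQ : Nat.card (H ⧸ N) = r ^ (k + 1) := hidx
    haveI : Fact r.Prime := ⟨hr⟩
    have hpg : IsPGroup r (H ⧸ N) := IsPGroup.of_card hcardQ
    haveI : Group.IsNilpotent (H ⧸ N) := hpg.isNilpotent
    haveI : Group.IsSolvable (H ⧸ N) := inferInstance
    haveI : Nontrivial (H ⧸ N) := by
      apply Finite.one_lt_card_iff_nontrivial.1
      rw [hcardQ]
      exact Nat.one_lt_pow (Nat.succ_ne_zero k) hr.one_lt
    obtain ⟨Mb, hMbn, hMbp⟩ := dgc_exists_normal_prime_index (H := H ⧸ N)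
    set M : Subgroup H := Mb.comap (QuotientGroup.mk' N) with hM
    haveI hMn : M.Normal := hMbn.comap _
    have hMidx : M.index = Mb.index :=
      Subgroup.index_comap_of_surjective Mb (QuotientGroup.mk'_surjective N)
    have hNM : N ≤ M := by
      intro x hx
      rw [hM, Subgroup.mem_comap]
      have : QuotientGroup.mk' N x = 1 := (QuotientGroup.eq_one_iff x).2 hx
      rw [this]
      exact Mb.one_mem
    have hMr : M.index = r := by
      have h1 : Mb.index ∣ Nat.card (H ⧸ N) := Subgroup.index_dvd_card Mb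
      rw [hcardQ] at h1
      have := (Nat.prime_dvd_prime_iff_eq hMbp hr).1 (hMbp.dvd_of_dvd_pow h1)
      rw [hMidx, this]
    have hrel : N.relIndex M = r ^ k := by
      have h1 := Subgroup.relIndex_mul_index hNM
      rw [hidx, hMr, pow_succ] at h1
      exact Nat.eq_of_mul_eq_mul_right hr.pos h1
    haveI : Fintype M := Fintype.ofFinite M
    obtain ⟨φ, hφ⟩ := dgc_exists_constituent M ψ
    rcases dgc_key M hr hMr ψ φ hφ with h1 | ⟨h1, _⟩
    · have hdegφ : Cfsg.charDegree (φ : M → ℂ) = Cfsg.charDegree (ψ : H → ℂ) := by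
        have h2 : ((Cfsg.charDegree (φ : M → ℂ) : ℕ) : ℂ) =
            ((Cfsg.charDegree (ψ : H → ℂ) : ℕ) : ℂ) := by
          rw [(charDegree_irr _).1, (charDegree_irr _).1, ← h1]
          rfl
        exact_mod_cast h2
      haveI : (N.subgroupOf M).Normal := Subgroup.Normal.subgroupOf hNn M
      have h3 := ih ↥M (N.subgroupOf M) hrel φ (by rw [hdegφ]; exact hdeg)
      have h4 := isIrr_comp_equiv (Subgroup.subgroupOfEquivOfLe hNM).symm _ h3
      convert h4 using 1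
      funext n
      rw [← h1]
      rfl
    · exact absurd ⟨_, h1⟩ hdeg

variable {G : Type u} [Group G] [Fintype G] (N : Subgroup G) [Fintype N]

/-- constituents of restrictions are constituents of the restriction -/
theorem cons_res (R : Subgroup G) (hNR : N ≤ R) [Fintype R] (χ : G → ℂ)
    (hχ : Cfsg.IsCharacter G χ) (ψ : Cfsg.IrrCharacter R)
    (hψ : Cfsg.classInner (fun x : R => χ x) (ψ : R → ℂ) ≠ 0) (φ : Cfsg.IrrCharacter N)
    (hφ : Cfsg.classInner (fun n : N => (ψ : R → ℂ) ⟨n, hNR n.2⟩) (φ : N → ℂ) ≠ 0) :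
    Cfsg.classInner (fun n : N => χ n) (φ : N → ℂ) ≠ 0 := by
  classical
  haveI : Fintype (Cfsg.IrrCharacter R) := Fintype.ofFinite _
  obtain ⟨m, hm, hexp⟩ := isCharacter_expansion (isCharacter_restrict hχ R)
  have hk : ∀ ψ' : Cfsg.IrrCharacter R, ∃ k : ℕ,
      Cfsg.classInner (fun n : N => (ψ' : R → ℂ) ⟨n, hNR n.2⟩) (φ : N → ℂ) = (k : ℂ) := by
    intro ψ'
    exact classInner_character_nat
      (isCharacter_comp_hom (isCharacter_of_irr ψ') (Subgroup.inclusion hNR))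
      (isCharacter_of_irr φ)
  choose k hk using hk
  have h1 : (fun n : N => χ n) =
      ∑ ψ' : Cfsg.IrrCharacter R, (m ψ' : ℂ) • (fun n : N => (ψ' : R → ℂ) ⟨n, hNR n.2⟩) := by
    funext n
    have := congrFun hexp ⟨n, hNR n.2⟩
    simp only [Finset.sum_apply, Pi.smul_apply, smul_eq_mul] at this ⊢
    exact this
  rw [h1, classInner_sum_left]
  simp only [classInner_smul_left, hk]
  have h2 : (∑ ψ' : Cfsg.IrrCharacter R, (m ψ' : ℂ) * (k ψ' : ℂ)) =
      ((∑ ψ' : Cfsg.IrrCharacter R, m ψ' * k ψ' : ℕ) : ℂ) := by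
    push_cast
    rfl
  rw [h2]
  have h3 : 0 < ∑ ψ' : Cfsg.IrrCharacter R, m ψ' * k ψ' := by
    apply Finset.sum_pos'
    · intro i _
      exact Nat.zero_le _
    · refine ⟨ψ, Finset.mem_univ _, ?_⟩
      have hm0 : m ψ ≠ 0 := by
        intro h0
        apply hψ
        rw [hm ψ, h0]
        simp
      have hk0 : k ψ ≠ 0 := by
        intro h0
        apply hφ
        rw [hk ψ, h0]
        simp
      exact Nat.mul_pos (Nat.pos_of_ne_zero hm0) (Nat.pos_of_ne_zero hk0)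
  exact_mod_cast h3.ne'

end

section

universe u

/-- a character of degree prime to `r` has an irreducible constituent of degree prime to `r` -/
theorem exists_constituent_not_dvd {K : Type*} [Group K] [Fintype K] {Φ : K → ℂ}
    (hΦ : Cfsg.IsCharacter K Φ) {d r : ℕ} (hd : Φ 1 = (d : ℂ)) (hr : ¬ r ∣ d) :
    ∃ ψ : Cfsg.IrrCharacter K, Cfsg.classInner Φ (ψ : K → ℂ) ≠ 0 ∧
      ¬ r ∣ Cfsg.charDegree (ψ : K → ℂ) := by
  classical
  haveI : Fintype (Cfsg.IrrCharacter K) := Fintype.ofFinite _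
  obtain ⟨m, hm, hexp⟩ := isCharacter_expansion hΦ
  by_contra hcon
  push Not at hcon
  apply hr
  have h1 : (d : ℂ) = ((∑ ψ : Cfsg.IrrCharacter K, m ψ * Cfsg.charDegree (ψ : K → ℂ) : ℕ) : ℂ) := by
    rw [← hd, hexp]
    simp only [Finset.sum_apply, Pi.smul_apply, smul_eq_mul]
    push_cast
    refine Finset.sum_congr rfl fun ψ _ => ?_
    rw [(charDegree_irr ψ).1]
  have h2 : d = ∑ ψ : Cfsg.IrrCharacter K, m ψ * Cfsg.charDegree (ψ : K → ℂ) := by
    exact_mod_cast h1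
  rw [h2]
  apply Finset.dvd_sum
  intro ψ _
  by_cases h0 : m ψ = 0
  · rw [h0, zero_mul]
    exact dvd_zero r
  · apply Dvd.dvd.mul_left
    apply hcon ψ
    rw [hm ψ]
    exact_mod_cast h0

variable {G : Type u} [Group G] [Fintype G] (N : Subgroup G) [hN : N.Normal] [Fintype N]

/-- the chain lemma for an intermediate subgroup -/
theorem chain_irr_sub {r : ℕ} (hr : r.Prime) (R : Subgroup G) (hNR : N ≤ R) {k : ℕ}
    (hk : N.relIndex R = r ^ k) (ψ : Cfsg.IrrCharacter R)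
    (hdeg : ¬ r ∣ Cfsg.charDegree (ψ : R → ℂ)) :
    Cfsg.IsIrrCharacter N (fun n : N => (ψ : R → ℂ) ⟨n, hNR n.2⟩) := by
  haveI : (N.subgroupOf R).Normal := Subgroup.Normal.subgroupOf hN R
  have h3 := chain_irr hr k ↥R (N.subgroupOf R) hk ψ hdeg
  have h4 := isIrr_comp_equiv (Subgroup.subgroupOfEquivOfLe hNR).symm _ h3
  convert h4 using 1
  funext n
  rfl

theorem relIndex_sylow_sup {r : ℕ} (hr : r.Prime) (P : Sylow r G) :
    ∃ k : ℕ, N.relIndex ((P : Subgroup G) ⊔ N) = r ^ k := by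
  haveI : Fact r.Prime := ⟨hr⟩
  rw [Subgroup.relIndex_sup_right]
  obtain ⟨n, hn⟩ := IsPGroup.exists_card_eq P.2
  have h1 : N.relIndex (P : Subgroup G) ∣ r ^ n := by
    rw [← hn]
    exact Subgroup.relIndex_dvd_card N (P : Subgroup G)
  obtain ⟨k, _, hk⟩ := (Nat.dvd_prime_pow hr).1 h1
  exact ⟨k, hk⟩

/-- P1: an irreducible character of `r'`-degree has a constituent on `PN` extending a conjugate -/
theorem exists_ext_conj {r : ℕ} (hr : r.Prime) (P : Sylow r G) (χ : Cfsg.IrrCharacter G)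
    (ϑ : Cfsg.IrrCharacter N) (h : Ov N χ ϑ) (hdeg : ¬ r ∣ Cfsg.charDegree (χ : G → ℂ)) :
    ∃ g : G, ∃ ψ : Cfsg.IrrCharacter ↥((P : Subgroup G) ⊔ N), ∀ n : N,
      (ψ : ↥((P : Subgroup G) ⊔ N) → ℂ) ⟨n, (le_sup_right : N ≤ (P : Subgroup G) ⊔ N) n.2⟩ =
        (ism N g ϑ : N → ℂ) n := by
  classical
  set R : Subgroup G := (P : Subgroup G) ⊔ N with hR
  have hNR : N ≤ R := le_sup_right
  haveI : Fintype R := Fintype.ofFinite _
  have hχR : Cfsg.IsCharacter R (fun x : R => (χ : G → ℂ) x) :=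
    isCharacter_restrict (isCharacter_of_irr χ) R
  have h1 : (fun x : R => (χ : G → ℂ) x) 1 = ((Cfsg.charDegree (χ : G → ℂ) : ℕ) : ℂ) := by
    rw [(charDegree_irr χ).1]
    rfl
  obtain ⟨ψ, hψ, hψdeg⟩ := exists_constituent_not_dvd hχR h1 hdeg
  obtain ⟨k, hk⟩ := relIndex_sylow_sup N hr P
  have hirr := chain_irr_sub N hr R hNR hk ψ hψdeg
  set φ : Cfsg.IrrCharacter N := ⟨fun n : N => (ψ : R → ℂ) ⟨n, hNR n.2⟩, hirr⟩ with hφ
  have hov : Ov N χ φ := by
    apply cons_res N R hNR (χ : G → ℂ) (isCharacter_of_irr χ) ψ hψ φ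
    show Cfsg.classInner (φ : N → ℂ) (φ : N → ℂ) ≠ 0
    rw [irr_classInner, if_pos rfl]
    exact one_ne_zero
  obtain ⟨g, hg⟩ := ov_conj N χ ϑ φ h hov
  refine ⟨g, ψ, ?_⟩
  intro n
  rw [← hg]

/-- multiplicity form of Clifford's theorem -/
theorem ov_mult (χ : Cfsg.IrrCharacter G) (ϑ : Cfsg.IrrCharacter N) (h : Ov N χ ϑ) :
    ∃ e : ℕ, Cfsg.classInner (fun n : N => (χ : G → ℂ) n) (ϑ : N → ℂ) = (e : ℂ) ∧
      Cfsg.charDegree (χ : G → ℂ) = e * (nn N ϑ * Cfsg.charDegree (ϑ : N → ℂ)) := by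
  classical
  obtain ⟨e, he, h1, h2⟩ := h7_clifford N (χ : G → ℂ) χ.2 (ϑ : N → ℂ) ϑ.2 h
  refine ⟨e, h1, ?_⟩
  have h3 := congrFun h2 1
  simp only [Pi.smul_apply, Finset.sum_apply, smul_eq_mul] at h3
  have h4 : ∀ ψ ∈ Finset.univ.image (fun g : G => cj N (ϑ : N → ℂ) g),
      ψ 1 = (ϑ : N → ℂ) 1 := by
    intro ψ hψ
    rw [Finset.mem_image] at hψ
    obtain ⟨g, _, rfl⟩ := hψ
    rw [cj_apply]
    refine congrArg _ (Subtype.ext ?_)
    simp
  rw [Finset.sum_congr rfl h4, Finset.sum_const, card_image_cj, nsmul_eq_mul,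
    ← (charDegree_irr ϑ).1] at h3
  have h5 : ((Cfsg.charDegree (χ : G → ℂ) : ℕ) : ℂ) =
      ((e * (nn N ϑ * Cfsg.charDegree (ϑ : N → ℂ)) : ℕ) : ℂ) := by
    rw [(charDegree_irr χ).1]
    push_cast
    exact h3
  exact_mod_cast h5

/-- P1 for an invariant character: it extends to `R` when `R/N` is an `r`-group and some
character of `r'`-degree lies over it -/
theorem exists_ext_inv {r : ℕ} (hr : r.Prime) (R : Subgroup G) (hNR : N ≤ R) {k : ℕ}
    (hk : N.relIndex R = r ^ k) (ξ : Cfsg.IrrCharacter N) (hinv : ∀ t ∈ R, ism N t ξ = ξ)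
    (χ : Cfsg.IrrCharacter G) (h : Ov N χ ξ) (hdeg : ¬ r ∣ Cfsg.charDegree (χ : G → ℂ)) :
    ∃ ψ : Cfsg.IrrCharacter ↥R, ∀ n : N, (ψ : ↥R → ℂ) ⟨n, hNR n.2⟩ = (ξ : N → ℂ) n := by
  classical
  haveI : Fintype R := Fintype.ofFinite _
  haveI : Fintype (Cfsg.IrrCharacter R) := Fintype.ofFinite _
  by_contra hcon
  push Not at hcon
  obtain ⟨e, he1, he2⟩ := ov_mult N χ ξ h
  have hre : ¬ r ∣ e := fun hd => hdeg (he2 ▸ Dvd.dvd.mul_right hd _)
  have hrf : ¬ r ∣ Cfsg.charDegree (ξ : N → ℂ) := fun hd =>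
    hdeg (he2 ▸ Dvd.dvd.mul_left (Dvd.dvd.mul_left hd _) _)
  obtain ⟨m, hm, hexp⟩ := isCharacter_expansion (isCharacter_restrict (isCharacter_of_irr χ) R)
  have hkk : ∀ ψ' : Cfsg.IrrCharacter R, ∃ k : ℕ,
      Cfsg.classInner (fun n : N => (ψ' : R → ℂ) ⟨n, hNR n.2⟩) (ξ : N → ℂ) = (k : ℂ) := by
    intro ψ'
    exact classInner_character_nat
      (isCharacter_comp_hom (isCharacter_of_irr ψ') (Subgroup.inclusion hNR))
      (isCharacter_of_irr ξ)
  choose kk hkk using hkk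
  have h1 : (fun n : N => (χ : G → ℂ) n) =
      ∑ ψ' : Cfsg.IrrCharacter R, (m ψ' : ℂ) • (fun n : N => (ψ' : R → ℂ) ⟨n, hNR n.2⟩) := by
    funext n
    have := congrFun hexp ⟨n, hNR n.2⟩
    simp only [Finset.sum_apply, Pi.smul_apply, smul_eq_mul] at this ⊢
    exact this
  have h2 : (e : ℂ) = ((∑ ψ' : Cfsg.IrrCharacter R, m ψ' * kk ψ' : ℕ) : ℂ) := by
    rw [← he1, h1, classInner_sum_left]
    simp only [classInner_smul_left, hkk]
    push_cast
    rfl
  have h3 : e = ∑ ψ' : Cfsg.IrrCharacter R, m ψ' * kk ψ' := by exact_mod_cast h2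
  apply hre
  rw [h3]
  apply Finset.dvd_sum
  intro ψ _
  apply Dvd.dvd.mul_left
  by_cases h0 : kk ψ = 0
  · rw [h0]
    exact dvd_zero r
  · have hcon' : Cfsg.classInner (fun n : N => (ψ : R → ℂ) ⟨n, hNR n.2⟩) (ξ : N → ℂ) ≠ 0 := by
      rw [hkk ψ]
      exact_mod_cast h0
    have hinv' : ∀ t ∈ R, ∀ n : N,
        (ξ : N → ℂ) ⟨t * n * t⁻¹, hN.conj_mem (n : G) n.2 t⟩ = (ξ : N → ℂ) n := by
      intro t ht n
      have h5 := hinv t⁻¹ (R.inv_mem ht)
      have h6 := congrFun (congrArg Subtype.val h5) n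
      rw [ism_apply] at h6
      rw [← h6]
      refine congrArg _ (Subtype.ext ?_)
      simp
    obtain ⟨f, hf, hf1, hf2⟩ :=
      h7_clifford_invariant_le N R hNR (ψ : R → ℂ) ψ.2 (ξ : N → ℂ) ξ.2 hcon' hinv'
    have hkf : kk ψ = f := by
      have := hkk ψ
      rw [hf1] at this
      exact_mod_cast this.symm
    rw [hkf]
    by_contra hrf'
    -- degree of ψ
    have hdegψ : Cfsg.charDegree (ψ : R → ℂ) = f * Cfsg.charDegree (ξ : N → ℂ) := by
      have h7 : ((Cfsg.charDegree (ψ : R → ℂ) : ℕ) : ℂ) =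
          ((f * Cfsg.charDegree (ξ : N → ℂ) : ℕ) : ℂ) := by
        rw [(charDegree_irr ψ).1]
        push_cast
        rw [(charDegree_irr ξ).1]
        have := congrFun hf2 1
        simp only [Pi.smul_apply, smul_eq_mul] at this
        rw [← this]
        rfl
      exact_mod_cast h7
    have hψdeg : ¬ r ∣ Cfsg.charDegree (ψ : R → ℂ) := by
      rw [hdegψ]
      intro hd
      rcases (Nat.Prime.dvd_mul hr).1 hd with hd | hd
      · exact hrf' hd
      · exact hrf hd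
    have hirr := chain_irr_sub N hr R hNR hk ψ hψdeg
    set φ : Cfsg.IrrCharacter N := ⟨fun n : N => (ψ : R → ℂ) ⟨n, hNR n.2⟩, hirr⟩ with hφ
    have h8 : Cfsg.classInner (φ : N → ℂ) (ξ : N → ℂ) = (f : ℂ) := hf1
    rw [irr_classInner] at h8
    by_cases hφξ : φ = ξ
    · obtain ⟨n, hn⟩ := hcon ψ
      apply hn
      have := congrFun (congrArg Subtype.val hφξ) n
      exact this
    · rw [if_neg hφξ] at h8
      have : f = 0 := by exact_mod_cast h8.symm
      omega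

end

section

universe u

/-- the determinant of an irreducible character, as a homomorphism -/
noncomputable def detL {K : Type*} [Group K] (ϑ : Cfsg.IrrCharacter K) : K →* ℂˣ :=
  h7_detHom (Classical.choose (Classical.choose_spec ϑ.2))

theorem detL_eq {K : Type*} [Group K] [Fintype K] (ϑ : Cfsg.IrrCharacter K) {W : Type*}
    [AddCommGroup W] [Module ℂ W] [FiniteDimensional ℂ W] (σ : Representation ℂ K W)
    (hσ : σ.character = (ϑ : K → ℂ)) (x : K) :
    ((detL ϑ x : ℂˣ) : ℂ) = LinearMap.det (σ x) := by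
  have hspec := Classical.choose_spec (Classical.choose_spec ϑ.2)
  haveI := hspec.1
  rw [detL, h7_detHom_apply]
  exact (h7_det_eq_of_char_eq _ σ (hσ.trans hspec.2.symm) x).symm

theorem exists_lin_of_one {K : Type*} [Group K] (ϑ : Cfsg.IrrCharacter K)
    (h1 : (ϑ : K → ℂ) 1 = 1) : ∃ μ : K →* ℂˣ, ∀ x, ((μ x : ℂˣ) : ℂ) = (ϑ : K → ℂ) x :=
  ⟨irrLinearHom ϑ h1, fun x => irrLinearHom_apply ϑ h1 x⟩

variable {G : Type u} [Group G] [Fintype G] (N : Subgroup G) [hN : N.Normal] [Fintype N]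

/-- D1: the determinant of an extension extends the determinant -/
theorem detL_res (R : Subgroup G) (hNR : N ≤ R) [Fintype R] (ψ : Cfsg.IrrCharacter R)
    (ϑ : Cfsg.IrrCharacter N)
    (hres : ∀ n : N, (ψ : R → ℂ) ⟨n, hNR n.2⟩ = (ϑ : N → ℂ) n) (n : N) :
    detL ψ ⟨n, hNR n.2⟩ = detL ϑ n := by
  have hspec := Classical.choose_spec (Classical.choose_spec ψ.2)
  set ρ := Classical.choose (Classical.choose_spec ψ.2) with hρ
  set σ : Representation ℂ N (Fin (Classical.choose ψ.2) → ℂ) :=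
    ρ.comp (Subgroup.inclusion hNR) with hσdef
  have hσ : σ.character = (ϑ : N → ℂ) := by
    funext n
    have h5 := congrFun hspec.2 ⟨n, hNR n.2⟩
    rw [← hres n]
    exact (show σ.character n = ρ.character ⟨n, hNR n.2⟩ from rfl).trans h5
  apply Units.ext
  rw [detL_eq ϑ σ hσ n]
  rfl

/-- D2: the determinant of a twist -/
theorem detL_tw (μ : N →* ℂˣ) (ϑ : Cfsg.IrrCharacter N) (n : N) :
    detL (tw N μ ϑ) n = μ n ^ Cfsg.charDegree (ϑ : N → ℂ) * detL ϑ n := by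
  have hspec := Classical.choose_spec (Classical.choose_spec ϑ.2)
  set k := Classical.choose ϑ.2 with hk
  set ρ := Classical.choose (Classical.choose_spec ϑ.2) with hρ
  have hσ : (h7_twist μ ρ).character = (tw N μ ϑ : N → ℂ) := by
    funext x
    rw [h7_twist_character, tw_apply, hspec.2]
  have hdeg : Cfsg.charDegree (ϑ : N → ℂ) = k := by
    have h1 : ((Cfsg.charDegree (ϑ : N → ℂ) : ℕ) : ℂ) = ((k : ℕ) : ℂ) := by
      rw [(charDegree_irr ϑ).1, ← hspec.2, Representation.char_one, Module.finrank_fin_fun]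
    exact_mod_cast h1
  apply Units.ext
  rw [detL_eq (tw N μ ϑ) (h7_twist μ ρ) hσ n, h7_twist_det, Module.finrank_fin_fun, hdeg]
  rw [Units.val_mul, Units.val_pow_eq_pow_val]
  rfl

/-- a linear character of `N` some conjugate of which extends to `PN`, `P` a Sylow `r`-subgroup -/
def LG (r : ℕ) (μ : N →* ℂˣ) : Prop :=
  ∃ (P : Sylow r G) (g : G) (ν : ↥((P : Subgroup G) ⊔ N) →* ℂˣ), ∀ n : N,
    ν ⟨n, (le_sup_right : N ≤ (P : Subgroup G) ⊔ N) n.2⟩ = cjL N g μ n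

theorem lg_pow {r : ℕ} (μ : N →* ℂˣ) (j : ℕ) (h : LG N r μ) : LG N r (μ ^ j) := by
  obtain ⟨P, g, ν, hν⟩ := h
  refine ⟨P, g, ν ^ j, ?_⟩
  intro n
  rw [cjL_pow, MonoidHom.pow_apply, MonoidHom.pow_apply, hν n]

/-- Pr4a -/
theorem lg_of_ov {r : ℕ} (hr : r.Prime) (χ : Cfsg.IrrCharacter G) (ν : N →* ℂˣ)
    (h : Ov N χ (linIrr ν)) (hdeg : ¬ r ∣ Cfsg.charDegree (χ : G → ℂ)) : LG N r ν := by
  haveI : Fact r.Prime := ⟨hr⟩
  obtain ⟨P⟩ : Nonempty (Sylow r G) := inferInstance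
  obtain ⟨g, ψ, hψ⟩ := exists_ext_conj N hr P χ (linIrr ν) h hdeg
  have h1 : (ψ : ↥((P : Subgroup G) ⊔ N) → ℂ) 1 = 1 := by
    have := hψ 1
    rw [ism_lin, linIrr_apply, map_one, Units.val_one] at this
    rw [← this]
    rfl
  obtain ⟨νh, hνh⟩ := exists_lin_of_one ψ h1
  refine ⟨P, g, νh, ?_⟩
  intro n
  apply Units.ext
  rw [hνh, hψ n, ism_lin, linIrr_apply]

theorem sylow_sup_index_coprime {r : ℕ} (hr : r.Prime) (P : Sylow r G) :
    Nat.Coprime ((P : Subgroup G) ⊔ N).index r := by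
  haveI : Fact r.Prime := ⟨hr⟩
  have h1 : ¬ r ∣ ((P : Subgroup G) ⊔ N).index := by
    intro hd
    exact P.not_dvd_index (hd.trans (Subgroup.index_dvd_of_le le_sup_left))
  exact ((Nat.Prime.coprime_iff_not_dvd hr).2 h1).symm

/-- Pr4b: a linear character of order `r` with the extension property is not invariant -/
theorem lg_moves {r : ℕ} (hr : r.Prime) (hNG : N ≤ commutator G) (κ : N →* ℂˣ)
    (hκ : orderOf κ = r) (h : LG N r κ) : ∃ g : G, cjL N g κ ≠ κ := by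
  classical
  by_contra hall
  push Not at hall
  obtain ⟨P, g, νh, hνh⟩ := h
  set lam : N → ℂ := fun n => ((κ n : ℂˣ) : ℂ) with hlam
  have hord : orderOf lam = r := by
    rw [hlam, h7_orderOf_linEmb, hκ]
  have hinv : ∀ (g : G) (n : N), lam ⟨g * n * g⁻¹, hN.conj_mem (n : G) n.2 g⟩ = lam n := by
    intro g n
    have h1 := hall g⁻¹
    have h2 := DFunLike.congr_fun h1 n
    rw [cjL_apply] at h2
    rw [hlam]
    simp only
    rw [← h2]
    congr 3
    rw [inv_inv]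
  obtain ⟨μ, hμc, hμ1, hμN⟩ := h7_linear_extends_of_sylow N lam (h7_linear_of_hom κ) hinv (by
    intro p hp hpd
    rw [hord] at hpd
    have hpr : p = r := (Nat.prime_dvd_prime_iff_eq hp hr).1 hpd
    subst hpr
    refine ⟨(P : Subgroup G) ⊔ N, le_sup_right, fun x => ((νh x : ℂˣ) : ℂ),
      sylow_sup_index_coprime N hp P, (h7_linear_of_hom νh).1, ?_⟩
    intro n
    show ((νh ⟨(n : G), _⟩ : ℂˣ) : ℂ) = ((κ n : ℂˣ) : ℂ)
    rw [hνh n, hall g])
  have hμirr : Cfsg.IsIrrCharacter G μ := h7_linear_isIrr hμc hμ1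
  have hκ1 : κ = 1 := by
    ext n
    have h1 := irr_linear_commutator (⟨μ, hμirr⟩ : Cfsg.IrrCharacter G) hμ1 (hNG n.2)
    have h2 := hμN n
    simp only at h1
    rw [h1] at h2
    rw [MonoidHom.one_apply, Units.val_one]
    exact h2.symm
  rw [hκ1, orderOf_one] at hκ
  exact hr.ne_one hκ.symm

/-- Pr4c -/
theorem ov_of_lg {r : ℕ} (hr : r.Prime) (κ : N →* ℂˣ) (h : LG N r κ) :
    ∃ χ : Cfsg.IrrCharacter G, Ov N χ (linIrr κ) ∧ ¬ r ∣ Cfsg.charDegree (χ : G → ℂ) := by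
  classical
  obtain ⟨P, g, νh, hνh⟩ := h
  have hNR : N ≤ (P : Subgroup G) ⊔ N := le_sup_right
  haveI : Fintype ↥((P : Subgroup G) ⊔ N) := Fintype.ofFinite _
  set θ : ↥((P : Subgroup G) ⊔ N) → ℂ := fun x => ((νh x : ℂˣ) : ℂ) with hθ
  have hΦ : Cfsg.IsCharacter G (Cfsg.indFun ((P : Subgroup G) ⊔ N) θ) :=
    isCharacter_indFun ((P : Subgroup G) ⊔ N) θ (h7_linear_of_hom νh).1
  have hΦ1 : Cfsg.indFun ((P : Subgroup G) ⊔ N) θ 1 =
      (((((P : Subgroup G) ⊔ N)).index : ℕ) : ℂ) := by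
    rw [h7_indFun_one, hθ]
    simp
  have hidx : ¬ r ∣ ((P : Subgroup G) ⊔ N).index := by
    have := sylow_sup_index_coprime N hr P
    intro hd
    have h1 := Nat.Coprime.eq_one_of_dvd this.symm hd
    exact hr.ne_one h1
  obtain ⟨χ, hχ, hχdeg⟩ := exists_constituent_not_dvd hΦ hΦ1 hidx
  refine ⟨χ, ?_, hχdeg⟩
  rw [h7_frobenius_irr ((P : Subgroup G) ⊔ N) (χ : G → ℂ) (h7_irr_isClassFunction χ.2)] at hχ
  have hχ' : Cfsg.classInner (fun x : ↥((P : Subgroup G) ⊔ N) => (χ : G → ℂ) x)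
      (linIrr νh : ↥((P : Subgroup G) ⊔ N) → ℂ) ≠ 0 := by
    intro h0
    apply hχ
    have : (linIrr νh : ↥((P : Subgroup G) ⊔ N) → ℂ) = θ := rfl
    rw [← this, h0, map_zero]
  have hov : Ov N χ (linIrr (cjL N g κ)) := by
    apply cons_res N ((P : Subgroup G) ⊔ N) hNR (χ : G → ℂ) (isCharacter_of_irr χ) (linIrr νh) hχ'
    have h1 : (fun n : N => (linIrr νh : ↥((P : Subgroup G) ⊔ N) → ℂ) ⟨n, hNR n.2⟩) =
        (linIrr (cjL N g κ) : N → ℂ) := by
      funext n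
      rw [linIrr_apply, linIrr_apply, hνh n]
    rw [h1, irr_classInner, if_pos rfl]
    exact one_ne_zero
  rw [← ism_lin] at hov
  have := ov_ism N χ _ g⁻¹ hov
  rwa [ism_inv_ism] at this

/-- elements of `N` act trivially on linear characters -/
theorem cjL_mem (μ : N →* ℂˣ) (x : G) (hx : x ∈ N) : cjL N x μ = μ := by
  ext n
  rw [cjL_apply]
  have h1 : (⟨x⁻¹ * n * x, by
      have := hN.conj_mem (n : G) n.2 x⁻¹
      simpa using this⟩ : N) = (⟨x, hx⟩ : N)⁻¹ * n * ⟨x, hx⟩ := by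
    apply Subtype.ext
    simp
  rw [h1, map_mul, map_mul, map_inv]
  simp

/-- FP: a Sylow `r`-subgroup fixes some linear character of order `r` -/
theorem exists_fixed_order {r : ℕ} (hr : r.Prime) (P : Sylow r G) (μ₀ : N →* ℂˣ)
    (hμ₀ : orderOf μ₀ = r) :
    ∃ lam : N →* ℂˣ, orderOf lam = r ∧ ∀ x ∈ (P : Subgroup G) ⊔ N, cjL N x lam = lam := by
  classical
  haveI : Fact r.Prime := ⟨hr⟩
  haveI : Finite (N →* ℂˣ) := inferInstance
  letI : MulAction ↥(P : Subgroup G) (N →* ℂˣ) :=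
    { smul := fun x μ => cjL N (x : G) μ
      one_smul := fun μ => cjL_one N μ
      mul_smul := fun x y μ => cjL_comp N (x : G) (y : G) μ }
  let F : Subgroup (N →* ℂˣ) :=
    { carrier := {μ | ∀ x ∈ (P : Subgroup G), cjL N x μ = μ}
      mul_mem' := by
        intro a b ha hb x hx
        have := cjL_mul N x a b
        rw [ha x hx, hb x hx] at this
        exact this
      one_mem' := fun x _ => cjL_map_one N x
      inv_mem' := by
        intro a ha x hx
        have := cjL_inv N x a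
        rw [ha x hx] at this
        exact this }
  have h1 := IsPGroup.card_modEq_card_fixedPoints P.2 (N →* ℂˣ)
  have h2 : r ∣ Nat.card (N →* ℂˣ) := by
    rw [← hμ₀]
    exact orderOf_dvd_natCard μ₀
  have h3 : (MulAction.fixedPoints ↥(P : Subgroup G) (N →* ℂˣ)) = (F : Set (N →* ℂˣ)) := by
    ext μ
    constructor
    · intro h x hx
      exact h ⟨x, hx⟩
    · intro h x
      exact h x.1 x.2
  have h4 : r ∣ Nat.card F := by
    have h5 : Nat.card F = Nat.card (MulAction.fixedPoints ↥(P : Subgroup G) (N →* ℂˣ)) := by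
      rw [h3]
      rfl
    rw [h5]
    exact (Nat.modEq_zero_iff_dvd.1 ((h1.symm.trans (Nat.modEq_zero_iff_dvd.2 h2))))
  obtain ⟨x, hx⟩ := exists_prime_orderOf_dvd_card' r h4
  refine ⟨(x : N →* ℂˣ), ?_, ?_⟩
  · rw [Subgroup.orderOf_coe, hx]
  · intro t ht
    have hle : (P : Subgroup G) ⊔ N ≤ stb N (linIrr (x : N →* ℂˣ)) := by
      apply sup_le
      · intro y hy
        rw [mem_stb_lin]
        exact x.2 y hy
      · intro y hy
        rw [mem_stb_lin]
        exact cjL_mem N _ y hy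
    exact (mem_stb_lin N _ t).1 (hle ht)

end

section

universe u

variable {G : Type u} [Group G] [Fintype G] (N : Subgroup G) [hN : N.Normal] [Fintype N]

/-- Pr5': without extendible characters of order `r`, twisting by a suitable character of order
`r` forces `r` into the degrees -/
theorem exists_twist_all_dvd {r : ℕ} (hr : r.Prime)
    (hnone : ∀ κ : N →* ℂˣ, orderOf κ = r → ¬ LG N r κ)
    (μ₀ : N →* ℂˣ) (hμ₀ : orderOf μ₀ = r)
    (χ : Cfsg.IrrCharacter G) (ϑ : Cfsg.IrrCharacter N) (h : Ov N χ ϑ)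
    (hdeg : ¬ r ∣ Cfsg.charDegree (χ : G → ℂ)) :
    ∃ lam₁ : N →* ℂˣ, orderOf lam₁ = r ∧ ∀ χ' : Cfsg.IrrCharacter G, Ov N χ' (tw N lam₁ ϑ) →
      r ∣ Cfsg.charDegree (χ' : G → ℂ) := by
  classical
  haveI : Fact r.Prime := ⟨hr⟩
  obtain ⟨P⟩ : Nonempty (Sylow r G) := inferInstance
  have hNR : N ≤ (P : Subgroup G) ⊔ N := le_sup_right
  haveI : Fintype ↥((P : Subgroup G) ⊔ N) := Fintype.ofFinite _
  obtain ⟨g₁, ψ₁, hψ₁⟩ := exists_ext_conj N hr P χ ϑ h hdeg
  obtain ⟨lam₀, hlam₀, hfix⟩ := exists_fixed_order N hr P μ₀ hμ₀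
  refine ⟨cjL N g₁⁻¹ lam₀, by rw [orderOf_cjL, hlam₀], ?_⟩
  intro χ' hov'
  by_contra hdeg'
  -- the invariant character
  have h1 : ism N g₁ (tw N (cjL N g₁⁻¹ lam₀) ϑ) = tw N lam₀ (ism N g₁ ϑ) := by
    rw [ism_tw, ← cjL_comp, mul_inv_cancel, cjL_one]
  have hov'' : Ov N χ' (tw N lam₀ (ism N g₁ ϑ)) := by
    rw [← h1]
    exact ov_ism N χ' _ g₁ hov'
  have hinvϑ : ∀ t ∈ (P : Subgroup G) ⊔ N, ism N t (ism N g₁ ϑ) = ism N g₁ ϑ := by
    intro t ht
    apply Subtype.ext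
    funext n
    rw [ism_apply, ← hψ₁, ← hψ₁]
    have hcl := h7_irr_isClassFunction ψ₁.2 ⟨n, hNR n.2⟩ (⟨t, ht⟩ : ↥((P : Subgroup G) ⊔ N))⁻¹
    rw [← hcl]
    refine congrArg _ (Subtype.ext ?_)
    simp
  have hinv : ∀ t ∈ (P : Subgroup G) ⊔ N,
      ism N t (tw N lam₀ (ism N g₁ ϑ)) = tw N lam₀ (ism N g₁ ϑ) := by
    intro t ht
    rw [ism_tw, hfix t ht, hinvϑ t ht]
  obtain ⟨k, hk⟩ := relIndex_sylow_sup N hr P
  obtain ⟨ψ₂, hψ₂⟩ := exists_ext_inv N hr ((P : Subgroup G) ⊔ N) hNR hk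
    (tw N lam₀ (ism N g₁ ϑ)) hinv χ' hov'' hdeg'
  set f := Cfsg.charDegree (ϑ : N → ℂ) with hf
  have hrf : ¬ r ∣ f := fun hd => hdeg (hd.trans (ov_deg_dvd N χ ϑ h))
  -- the quotient of determinants
  have hLG : LG N r (lam₀ ^ f) := by
    refine ⟨P, 1, detL ψ₂ * (detL ψ₁)⁻¹, ?_⟩
    intro n
    rw [cjL_one, MonoidHom.mul_apply, MonoidHom.inv_apply,
      detL_res N _ hNR ψ₂ (tw N lam₀ (ism N g₁ ϑ)) hψ₂ n,
      detL_res N _ hNR ψ₁ (ism N g₁ ϑ) hψ₁ n, detL_tw, deg_ism, MonoidHom.pow_apply]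
    rw [mul_inv_cancel_right]
  have hord : orderOf (lam₀ ^ f) = r := by
    rw [← hlam₀]
    apply Nat.Coprime.orderOf_pow
    rw [hlam₀]
    exact (Nat.Prime.coprime_iff_not_dvd hr).2 hrf
  exact hnone _ hord hLG

/-- Pr3: the orbit size of a power divides the degrees -/
theorem nn_pow_dvd (ν : N →* ℂˣ) (j : ℕ) : nn N (linIrr (ν ^ j)) ∣ nn N (linIrr ν) := by
  unfold nn
  apply Subgroup.index_dvd_of_le
  intro g hg
  rw [mem_stb_lin] at hg ⊢
  rw [cjL_pow, hg]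

theorem ov_nn_pow_dvd (χ : Cfsg.IrrCharacter G) (ν : N →* ℂˣ) (j : ℕ) (h : Ov N χ (linIrr ν)) :
    nn N (linIrr (ν ^ j)) ∣ Cfsg.charDegree (χ : G → ℂ) :=
  (nn_pow_dvd N ν j).trans (ov_nn_dvd N χ _ h)

omit hN in
/-- A5: every irreducible character of `N` lies under some irreducible character of `G` -/
theorem exists_over (ϑ : Cfsg.IrrCharacter N) : ∃ χ : Cfsg.IrrCharacter G, Ov N χ ϑ := by
  classical
  have hΦ : Cfsg.IsCharacter G (Cfsg.indFun N (ϑ : N → ℂ)) :=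
    isCharacter_indFun N _ (isCharacter_of_irr ϑ)
  have h1 : Cfsg.indFun N (ϑ : N → ℂ) 1 ≠ 0 := by
    rw [h7_indFun_one]
    apply mul_ne_zero
    · have : N.index ≠ 0 := Subgroup.index_ne_zero_of_finite
      exact_mod_cast this
    · exact irr_one_ne_zero ϑ
  obtain ⟨χ, m, hm, hinner⟩ := isCharacter_exists_constituent hΦ h1
  refine ⟨χ, ?_⟩
  rw [h7_frobenius_irr N (χ : G → ℂ) (h7_irr_isClassFunction χ.2)] at hinner
  intro h0
  rw [h0, map_zero] at hinner
  have : (m : ℂ) ≠ 0 := by exact_mod_cast hm.ne'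
  exact this hinner.symm

/-- A6: the relative degrees are the degrees over nontrivial characters -/
theorem mem_relCharDegrees_iff (d : ℕ) : d ∈ Cfsg.relCharDegrees N ↔
    ∃ (χ : Cfsg.IrrCharacter G) (ϑ : Cfsg.IrrCharacter N), Ov N χ ϑ ∧ ϑ ≠ trivIrr N ∧
      Cfsg.charDegree (χ : G → ℂ) = d := by
  classical
  constructor
  · rintro ⟨χ, ⟨x, hxN, hx⟩, hd⟩
    obtain ⟨ϑ, hϑ⟩ := exists_ov N χ
    refine ⟨χ, ϑ, hϑ, ?_, hd⟩
    rintro rfl
    obtain ⟨e, _, _, he⟩ := h7_clifford_invariant N (χ : G → ℂ) χ.2 (trivIrr N : N → ℂ)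
      (trivIrr N).2 hϑ (by
        intro g
        funext n
        rw [cj_apply]
        rfl)
    apply hx
    have h1 := congrFun he ⟨x, hxN⟩
    have h2 := congrFun he 1
    simp only [Pi.smul_apply, trivIrr_apply, smul_eq_mul, mul_one] at h1 h2
    rw [h1]
    rw [← h2]
    rfl
  · rintro ⟨χ, ϑ, hov, hne, hd⟩
    refine ⟨χ, ?_, hd⟩
    by_contra hall
    push Not at hall
    apply hov
    have h1 : (fun n : N => (χ : G → ℂ) n) = ((χ : G → ℂ) 1) • (trivIrr N : N → ℂ) := by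
      funext n
      simp only [Pi.smul_apply, trivIrr_apply, smul_eq_mul, mul_one]
      exact hall n n.2
    rw [h1, classInner_smul_left, irr_classInner, if_neg (Ne.symm hne), mul_zero]

end

end Cfsg.Agent.Lib.Helper25.RelDeg
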