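import Mathlib
import Cfsg.Prelude.Def_DegreeGraph
import Cfsg.Agent.Lib.Helper25.RelDegB

/-!
Relative character degree graphs (Isaacs): the common-divisor graph on cd(G|N) has at most two components when N' < N <= G'.
-/

set_option autoImplicit false

namespace Cfsg.Agent.Lib.Helper25.RelDeg
open scoped ComplexConjugate
open Cfsg.Agent.Lib.helper7
open Cfsg.Agent.Lib.Helper11
open Cfsg.Agent.Lib.helper2
section

universe u

/-- CRT for two elements of distinct prime orders in a commutative group -/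
theorem exists_pow_eq_left {A : Type*} [CommGroup A] (a b : A) {q q' : ℕ} (hq : q.Prime)
    (hq' : q'.Prime) (hne : q ≠ q') (ha : orderOf a = q) (hb : orderOf b = q') :
    ∃ j : ℕ, (a * b) ^ j = a := by
  have hco : Nat.Coprime q q' := (Nat.coprime_primes hq hq').2 hne
  obtain ⟨j, hj1, hj2⟩ := Nat.chineseRemainder hco 1 0
  refine ⟨j, ?_⟩
  rw [mul_pow]
  have h1 : a ^ j = a ^ 1 := by
    rw [pow_eq_pow_iff_modEq, ha]
    exact hj1
  have h2 : b ^ j = b ^ 0 := by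
    rw [pow_eq_pow_iff_modEq, hb]
    exact hj2
  rw [h1, h2, pow_one, pow_zero, mul_one]

/-- Pr8: a nontrivial element of a finite group has a power of prime order -/
theorem exists_pow_prime_order {A : Type*} [Group A] [Finite A] (a : A) (ha : a ≠ 1) :
    ∃ (q : ℕ) (j : ℕ), q.Prime ∧ orderOf (a ^ j) = q := by
  have h1 : orderOf a ≠ 1 := fun h => ha (orderOf_eq_one_iff.1 h)
  have h0 : orderOf a ≠ 0 := (orderOf_pos a).ne'
  refine ⟨(orderOf a).minFac, orderOf a / (orderOf a).minFac, Nat.minFac_prime h1, ?_⟩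
  exact orderOf_pow_orderOf_div h0 (Nat.minFac_dvd _)

variable {G : Type u} [Group G] [Fintype G] (N : Subgroup G) [hN : N.Normal] [Fintype N]

omit [Fintype G] hN [Fintype N] in
theorem commutator_subgroupOf_eq : (⁅N, N⁆).subgroupOf N = commutator ↥N := by
  rw [← Subgroup.map_subtype_commutator, Subgroup.subgroupOf,
    Subgroup.comap_map_eq_self_of_injective N.subtype_injective]

omit hN in
/-- Pr7: a prime divisor of `|N : N'|` is the order of a linear character of `N` -/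
theorem exists_lin_order {r : ℕ} (hr : r.Prime) (hdvd : r ∣ (⁅N, N⁆).relIndex N) :
    ∃ μ : N →* ℂˣ, orderOf μ = r := by
  classical
  haveI : Fact r.Prime := ⟨hr⟩
  have h1 : (⁅N, N⁆).relIndex N = Nat.card (Abelianization ↥N) := by
    unfold Subgroup.relIndex
    rw [commutator_subgroupOf_eq]
    rfl
  rw [h1] at hdvd
  haveI : NeZero (Monoid.exponent (Abelianization ↥N)) := ⟨Monoid.exponent_ne_zero_of_finite⟩
  obtain ⟨e⟩ := CommGroup.monoidHom_mulEquiv_of_hasEnoughRootsOfUnity (Abelianization ↥N) ℂ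
  obtain ⟨a, ha⟩ := exists_prime_orderOf_dvd_card' r hdvd
  set l : Abelianization ↥N →* ℂˣ := e.symm a with hl
  have hlo : orderOf l = r := by
    rw [hl, MulEquiv.orderOf_eq, ha]
  have hinj : Function.Injective (MonoidHom.compHom' (Abelianization.of : ↥N →* Abelianization ↥N) :
      (Abelianization ↥N →* ℂˣ) →* (↥N →* ℂˣ)) := by
    intro f g hfg
    ext x
    exact congrArg Units.val (DFunLike.congr_fun hfg x)
  refine ⟨MonoidHom.compHom' (Abelianization.of : ↥N →* Abelianization ↥N) l, ?_⟩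
  rw [orderOf_injective _ hinj, hlo]

theorem deg_trivIrr {K : Type*} [Group K] : Cfsg.charDegree (trivIrr K : K → ℂ) = 1 := by
  have h1 : ((Cfsg.charDegree (trivIrr K : K → ℂ) : ℕ) : ℂ) = ((1 : ℕ) : ℂ) := by
    rw [(charDegree_irr _).1, trivIrr_apply, Nat.cast_one]
  exact_mod_cast h1

theorem mem_V_of_ov_nonlin (χ : Cfsg.IrrCharacter G) (ϑ : Cfsg.IrrCharacter N) (h : Ov N χ ϑ)
    (hdeg : Cfsg.charDegree (ϑ : N → ℂ) ≠ 1) :
    Cfsg.charDegree (χ : G → ℂ) ∈ Cfsg.relCharDegrees N := by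
  rw [mem_relCharDegrees_iff]
  refine ⟨χ, ϑ, h, ?_, rfl⟩
  rintro rfl
  exact hdeg deg_trivIrr

theorem mem_V_of_ov_lin (χ : Cfsg.IrrCharacter G) (ν : N →* ℂˣ) (h : Ov N χ (linIrr ν))
    (hν : ν ≠ 1) : Cfsg.charDegree (χ : G → ℂ) ∈ Cfsg.relCharDegrees N := by
  rw [mem_relCharDegrees_iff]
  refine ⟨χ, linIrr ν, h, ?_, rfl⟩
  intro h1
  rw [← linIrr_one_eq_trivIrr] at h1
  exact hν (linIrr_injective h1)

theorem ne_one_of_pow {ν κ : N →* ℂˣ} {j q : ℕ} (hq : q.Prime) (hκ : orderOf κ = q)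
    (hj : ν ^ j = κ) : ν ≠ 1 := by
  rintro rfl
  have h1 : (1 : N →* ℂˣ) ^ j = 1 := one_pow (M := N →* ℂˣ) j
  rw [h1] at hj
  rw [← hj, orderOf_one] at hκ
  exact hq.ne_one hκ.symm

theorem nn_lin_one : nn N (linIrr (1 : N →* ℂˣ)) = 1 := by
  unfold nn
  rw [Subgroup.index_eq_one, eq_top_iff]
  intro g _
  rw [mem_stb_lin]
  exact cjL_map_one N g

/-- C1, one-sided -/
theorem c1_aux {q : ℕ} (hq : q.Prime) (hNG : N ≤ commutator G) (κ : N →* ℂˣ)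
    (hκ : orderOf κ = q) (χ₁ χ₂ : Cfsg.IrrCharacter G) (ν₁ ν₂ : N →* ℂˣ) (j₁ j₂ : ℕ)
    (h1 : Ov N χ₁ (linIrr ν₁)) (h2 : Ov N χ₂ (linIrr ν₂)) (hj1 : ν₁ ^ j₁ = κ) (hj2 : ν₂ ^ j₂ = κ)
    (hnd : ¬ q ∣ Cfsg.charDegree (χ₁ : G → ℂ)) :
    RGR N (Cfsg.charDegree (χ₁ : G → ℂ)) (Cfsg.charDegree (χ₂ : G → ℂ)) := by
  have hV1 := mem_V_of_ov_lin N χ₁ ν₁ h1 (ne_one_of_pow N hq hκ hj1)
  have hV2 := mem_V_of_ov_lin N χ₂ ν₂ h2 (ne_one_of_pow N hq hκ hj2)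
  have hLG : LG N q κ := by
    rw [← hj1]
    exact lg_pow N ν₁ j₁ (lg_of_ov N hq χ₁ ν₁ h1 hnd)
  have hmove := lg_moves N hq hNG κ hκ hLG
  have hn := nn_lin_one_lt N κ hmove
  have hd1 : nn N (linIrr κ) ∣ Cfsg.charDegree (χ₁ : G → ℂ) := by
    rw [← hj1]
    exact ov_nn_pow_dvd N χ₁ ν₁ j₁ h1
  have hd2 : nn N (linIrr κ) ∣ Cfsg.charDegree (χ₂ : G → ℂ) := by
    rw [← hj2]
    exact ov_nn_pow_dvd N χ₂ ν₂ j₂ h2
  exact rgr_of_dvd N hV1 hV2 hn hd1 hd2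

/-- C1: degrees over linear characters with a common power of prime order are joined -/
theorem c1 {q : ℕ} (hq : q.Prime) (hNG : N ≤ commutator G) (κ : N →* ℂˣ)
    (hκ : orderOf κ = q) (χ₁ χ₂ : Cfsg.IrrCharacter G) (ν₁ ν₂ : N →* ℂˣ) (j₁ j₂ : ℕ)
    (h1 : Ov N χ₁ (linIrr ν₁)) (h2 : Ov N χ₂ (linIrr ν₂)) (hj1 : ν₁ ^ j₁ = κ) (hj2 : ν₂ ^ j₂ = κ) :
    RGR N (Cfsg.charDegree (χ₁ : G → ℂ)) (Cfsg.charDegree (χ₂ : G → ℂ)) := by
  by_cases hd1 : q ∣ Cfsg.charDegree (χ₁ : G → ℂ)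
  · by_cases hd2 : q ∣ Cfsg.charDegree (χ₂ : G → ℂ)
    · have hV1 := mem_V_of_ov_lin N χ₁ ν₁ h1 (ne_one_of_pow N hq hκ hj1)
      have hV2 := mem_V_of_ov_lin N χ₂ ν₂ h2 (ne_one_of_pow N hq hκ hj2)
      exact rgr_of_dvd N hV1 hV2 hq.one_lt hd1 hd2
    · exact rgr_symm N (c1_aux N hq hNG κ hκ χ₂ χ₁ ν₂ ν₁ j₂ j₁ h2 h1 hj2 hj1 hd2)
  · exact c1_aux N hq hNG κ hκ χ₁ χ₂ ν₁ ν₂ j₁ j₂ h1 h2 hj1 hj2 hd1

omit [Fintype G] hN [Fintype N] in
theorem lin_crt (κ κ' : N →* ℂˣ) {q q' : ℕ} (hq : q.Prime) (hq' : q'.Prime) (hne : q ≠ q')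
    (hκ : orderOf κ = q) (hκ' : orderOf κ' = q') :
    (∃ j : ℕ, (κ * κ') ^ j = κ) ∧ (∃ j : ℕ, (κ * κ') ^ j = κ') := by
  constructor
  · obtain ⟨j, hj⟩ := exists_pow_eq_left κ κ' hq hq' hne hκ hκ'
    exact ⟨j, hj⟩
  · obtain ⟨j, hj⟩ := exists_pow_eq_left κ' κ hq' hq hne.symm hκ' hκ
    have hc : κ * κ' = κ' * κ := mul_comm κ κ'
    refine ⟨j, ?_⟩
    rw [hc]
    exact hj

end

section

universe u

variable {G : Type u} [Group G] [Fintype G] (N : Subgroup G) [hN : N.Normal] [Fintype N]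

omit [Fintype G] hN [Fintype N] in
theorem pos_of_mem_V {a : ℕ} (ha : a ∈ Cfsg.relCharDegrees N) : 0 < a := by
  obtain ⟨χ, _, rfl⟩ := ha
  exact (charDegree_irr χ).2

omit [Fintype G] hN [Fintype N] in
theorem rgr_of_not_coprime {a b x y : ℕ} (ha : a ∈ Cfsg.relCharDegrees N)
    (hb : b ∈ Cfsg.relCharDegrees N) (hx : x ∣ a) (hy : y ∣ b) (h : ¬ Nat.Coprime x y) :
    RGR N a b := by
  have hx0 : x ≠ 0 := by
    rintro rfl
    have := pos_of_mem_V N ha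
    rw [zero_dvd_iff] at hx
    omega
  have hg0 : Nat.gcd x y ≠ 0 := by
    intro h0
    rw [Nat.gcd_eq_zero_iff] at h0
    exact hx0 h0.1
  have hg1 : Nat.gcd x y ≠ 1 := h
  have hk : 1 < Nat.gcd x y := by omega
  exact rgr_of_dvd N ha hb hk ((Nat.gcd_dvd_left x y).trans hx) ((Nat.gcd_dvd_right x y).trans hy)

theorem lin_ne_one_of_order {r : ℕ} (hr : r.Prime) (lam : N →* ℂˣ) (h : orderOf lam = r) :
    lam ≠ 1 := by
  rintro rfl
  rw [orderOf_one] at h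
  exact hr.ne_one h.symm

/-- T1a -/
theorem t1a {r : ℕ} (hr : r.Prime) (hNG : N ≤ commutator G) (lam₀ : N →* ℂˣ)
    (hlam₀ : orderOf lam₀ = r) (hLG : LG N r lam₀) :
    ∃ χ₀ : Cfsg.IrrCharacter G, Ov N χ₀ (linIrr lam₀) ∧ ∀ a ∈ Cfsg.relCharDegrees N, ¬ r ∣ a →
      RGR N a (Cfsg.charDegree (χ₀ : G → ℂ)) := by
  classical
  obtain ⟨χ₀, hov₀, hdeg₀⟩ := ov_of_lg N hr lam₀ hLG
  refine ⟨χ₀, hov₀, ?_⟩
  have hr1 : ¬ r ∣ 1 := fun h => hr.ne_one (Nat.dvd_one.1 h)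
  have hlam₀1 : lam₀ ≠ 1 := lin_ne_one_of_order N hr lam₀ hlam₀
  have hV₀ := mem_V_of_ov_lin N χ₀ lam₀ hov₀ hlam₀1
  have hmove₀ := lg_moves N hr hNG lam₀ hlam₀ hLG
  have hn₀c : nn N (linIrr lam₀) ∣ Cfsg.charDegree (χ₀ : G → ℂ) := ov_nn_dvd N χ₀ _ hov₀
  have hrn₀ : ¬ r ∣ nn N (linIrr lam₀) := fun h => hdeg₀ (h.trans hn₀c)
  intro a ha hra
  obtain ⟨χ, ϑ, hov, hne, rfl⟩ := (mem_relCharDegrees_iff N a).1 ha
  have hrϑ : ¬ r ∣ Cfsg.charDegree (ϑ : N → ℂ) := fun h => hra (h.trans (ov_deg_dvd N χ ϑ hov))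
  have hrnϑ : ¬ r ∣ nn N ϑ := fun h => hra (h.trans (ov_nn_dvd N χ ϑ hov))
  by_cases hlin : Cfsg.charDegree (ϑ : N → ℂ) = 1
  · obtain ⟨ν, rfl⟩ := exists_lin_of_deg_one N ϑ hlin
    have hν1 : ν ≠ 1 := by
      rintro rfl
      exact hne linIrr_one_eq_trivIrr
    have hLGν : LG N r ν := lg_of_ov N hr χ ν hov hra
    by_cases hro : r ∣ orderOf ν
    · have hκ : orderOf (ν ^ (orderOf ν / r)) = r :=
        orderOf_pow_orderOf_div (orderOf_pos ν).ne' hro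
      have hLGκ : LG N r (ν ^ (orderOf ν / r)) := lg_pow N ν _ hLGν
      have hmoveκ := lg_moves N hr hNG _ hκ hLGκ
      have hnκa : nn N (linIrr (ν ^ (orderOf ν / r))) ∣ Cfsg.charDegree (χ : G → ℂ) :=
        ov_nn_pow_dvd N χ ν _ hov
      have hrnκ : ¬ r ∣ nn N (linIrr (ν ^ (orderOf ν / r))) := fun h => hra (h.trans hnκa)
      by_cases hc : Nat.Coprime (nn N (linIrr (ν ^ (orderOf ν / r)))) (nn N (linIrr lam₀))
      · have h1 := orbit_lemma N hr (linIrr (ν ^ (orderOf ν / r))) lam₀ hlam₀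
          (by rw [deg_lin]; exact hr1) hrnκ hmove₀ hc
        rw [tw_lin] at h1
        have h2 := orbit_lemma N hr (linIrr lam₀) (ν ^ (orderOf ν / r)) hκ
          (by rw [deg_lin]; exact hr1) hrn₀ hmoveκ hc.symm
        rw [tw_lin] at h2
        have hcomm : ν ^ (orderOf ν / r) * lam₀ = lam₀ * ν ^ (orderOf ν / r) :=
          mul_comm (ν ^ (orderOf ν / r)) lam₀
        rw [hcomm] at h2
        have hne1 : lam₀ * ν ^ (orderOf ν / r) ≠ 1 := by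
          intro h0
          rw [h0, nn_lin_one] at h1
          exact h1 (Nat.coprime_one_left _)
        obtain ⟨χc, hovc⟩ := exists_over N (linIrr (lam₀ * ν ^ (orderOf ν / r)))
        have hVc := mem_V_of_ov_lin N χc _ hovc hne1
        have hnc := ov_nn_dvd N χc _ hovc
        have hac : RGR N (Cfsg.charDegree (χ : G → ℂ)) (Cfsg.charDegree (χc : G → ℂ)) :=
          rgr_symm N (rgr_of_not_coprime N hVc ha hnc hnκa h2)
        have hcc : RGR N (Cfsg.charDegree (χc : G → ℂ)) (Cfsg.charDegree (χ₀ : G → ℂ)) :=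
          rgr_of_not_coprime N hVc hV₀ hnc hn₀c h1
        exact rgr_trans N hac hcc
      · exact rgr_of_not_coprime N ha hV₀ hnκa hn₀c hc
    · obtain ⟨q, j, hq, hκ⟩ := exists_pow_prime_order ν hν1
      have hqr : q ≠ r := by
        rintro rfl
        apply hro
        rw [← hκ]
        exact orderOf_pow_dvd j
      obtain ⟨⟨i, hi⟩, ⟨i', hi'⟩⟩ := lin_crt N (ν ^ j) lam₀ hq hr hqr hκ hlam₀
      obtain ⟨χc, hovc⟩ := exists_over N (linIrr (ν ^ j * lam₀))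
      have hac := c1 N hq hNG (ν ^ j) hκ χ χc ν (ν ^ j * lam₀) j i hov hovc rfl hi
      have hcc := c1 N hr hNG lam₀ hlam₀ χc χ₀ (ν ^ j * lam₀) lam₀ i' 1 hovc hov₀ hi' (pow_one lam₀)
      exact rgr_trans N hac hcc
  · by_cases hc : Nat.Coprime (nn N ϑ) (nn N (linIrr lam₀))
    · have h1 := orbit_lemma N hr ϑ lam₀ hlam₀ hrϑ hrnϑ hmove₀ hc
      obtain ⟨χc, hovc⟩ := exists_over N (tw N lam₀ ϑ)
      have hVc := mem_V_of_ov_nonlin N χc _ hovc (by rw [deg_tw]; exact hlin)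
      have hdpos := (charDegree_irr ϑ).2
      have hd1 : 1 < Cfsg.charDegree (ϑ : N → ℂ) := by omega
      have hdc : Cfsg.charDegree (ϑ : N → ℂ) ∣ Cfsg.charDegree (χc : G → ℂ) := by
        have := ov_deg_dvd N χc _ hovc
        rwa [deg_tw] at this
      have hac : RGR N (Cfsg.charDegree (χ : G → ℂ)) (Cfsg.charDegree (χc : G → ℂ)) :=
        rgr_of_dvd N ha hVc hd1 (ov_deg_dvd N χ ϑ hov) hdc
      have hcc : RGR N (Cfsg.charDegree (χc : G → ℂ)) (Cfsg.charDegree (χ₀ : G → ℂ)) :=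
        rgr_of_not_coprime N hVc hV₀ (ov_nn_dvd N χc _ hovc) hn₀c h1
      exact rgr_trans N hac hcc
    · exact rgr_of_not_coprime N ha hV₀ (ov_nn_dvd N χ ϑ hov) hn₀c hc

/-- T1b -/
theorem t1b {r : ℕ} (hr : r.Prime) (hNG : N ≤ commutator G)
    (hnone : ∀ κ : N →* ℂˣ, orderOf κ = r → ¬ LG N r κ) (μ₀ : N →* ℂˣ) (hμ₀ : orderOf μ₀ = r) :
    ∀ a ∈ Cfsg.relCharDegrees N, ¬ r ∣ a → ∃ c : ℕ, r ∣ c ∧ RGR N a c := by
  classical
  intro a ha hra
  obtain ⟨χ, ϑ, hov, hne, rfl⟩ := (mem_relCharDegrees_iff N a).1 ha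
  by_cases hlin : Cfsg.charDegree (ϑ : N → ℂ) = 1
  · obtain ⟨ν, rfl⟩ := exists_lin_of_deg_one N ϑ hlin
    have hν1 : ν ≠ 1 := by
      rintro rfl
      exact hne linIrr_one_eq_trivIrr
    have hLGν : LG N r ν := lg_of_ov N hr χ ν hov hra
    have hro : ¬ r ∣ orderOf ν := by
      intro hro
      have hκ : orderOf (ν ^ (orderOf ν / r)) = r :=
        orderOf_pow_orderOf_div (orderOf_pos ν).ne' hro
      exact hnone _ hκ (lg_pow N ν _ hLGν)
    obtain ⟨q, j, hq, hκ⟩ := exists_pow_prime_order ν hν1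
    have hqr : q ≠ r := by
      rintro rfl
      apply hro
      rw [← hκ]
      exact orderOf_pow_dvd j
    obtain ⟨⟨i, hi⟩, ⟨i', hi'⟩⟩ := lin_crt N (ν ^ j) μ₀ hq hr hqr hκ hμ₀
    obtain ⟨χc, hovc⟩ := exists_over N (linIrr (ν ^ j * μ₀))
    have hac := c1 N hq hNG (ν ^ j) hκ χ χc ν (ν ^ j * μ₀) j i hov hovc rfl hi
    refine ⟨_, ?_, hac⟩
    by_contra hrc
    have h1 := lg_pow N _ i' (lg_of_ov N hr χc _ hovc hrc)
    rw [hi'] at h1
    exact hnone μ₀ hμ₀ h1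
  · obtain ⟨lam₁, hlam₁, hall⟩ := exists_twist_all_dvd N hr hnone μ₀ hμ₀ χ ϑ hov hra
    obtain ⟨χc, hovc⟩ := exists_over N (tw N lam₁ ϑ)
    have hVc := mem_V_of_ov_nonlin N χc _ hovc (by rw [deg_tw]; exact hlin)
    have hdpos := (charDegree_irr ϑ).2
    have hd1 : 1 < Cfsg.charDegree (ϑ : N → ℂ) := by omega
    have hdc : Cfsg.charDegree (ϑ : N → ℂ) ∣ Cfsg.charDegree (χc : G → ℂ) := by
      have := ov_deg_dvd N χc _ hovc
      rwa [deg_tw] at this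
    exact ⟨_, hall χc hovc, rgr_of_dvd N ha hVc hd1 (ov_deg_dvd N χ ϑ hov) hdc⟩

/-- T1 -/
theorem t1 {r : ℕ} (hr : r.Prime) (hNG : N ≤ commutator G) (hrm : r ∣ (⁅N, N⁆).relIndex N)
    (a b : ℕ) (ha : a ∈ Cfsg.relCharDegrees N) (hb : b ∈ Cfsg.relCharDegrees N)
    (hra : ¬ r ∣ a) (hrb : ¬ r ∣ b) : RGR N a b := by
  obtain ⟨μ₀, hμ₀⟩ := exists_lin_order N hr hrm
  by_cases hex : ∃ lam₀ : N →* ℂˣ, orderOf lam₀ = r ∧ LG N r lam₀
  · obtain ⟨lam₀, hlam₀, hLG⟩ := hex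
    obtain ⟨χ₀, _, hall⟩ := t1a N hr hNG lam₀ hlam₀ hLG
    exact rgr_trans N (hall a ha hra) (rgr_symm N (hall b hb hrb))
  · push Not at hex
    obtain ⟨c, hc, hac⟩ := t1b N hr hNG hex μ₀ hμ₀ a ha hra
    obtain ⟨c', hc', hbc⟩ := t1b N hr hNG hex μ₀ hμ₀ b hb hrb
    have hcc : RGR N c c' :=
      rgr_of_dvd N (rgr_mem_right N hac) (rgr_mem_right N hbc) hr.one_lt hc hc'
    exact rgr_trans N hac (rgr_trans N hcc (rgr_symm N hbc))

/-- T2 -/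
theorem t2 {r s : ℕ} (hr : r.Prime) (hs : s.Prime) (hrs : r ≠ s) (hNG : N ≤ commutator G)
    (hrm : r ∣ (⁅N, N⁆).relIndex N) (hsm : s ∣ (⁅N, N⁆).relIndex N)
    (a b : ℕ) (ha : a ∈ Cfsg.relCharDegrees N) (hb : b ∈ Cfsg.relCharDegrees N)
    (hra : r ∣ a) (hsa : ¬ s ∣ a) (hrb : ¬ r ∣ b) (hsb : s ∣ b) : RGR N a b := by
  obtain ⟨μr, hμr⟩ := exists_lin_order N hr hrm
  obtain ⟨μs, hμs⟩ := exists_lin_order N hs hsm
  by_cases hexs : ∃ lam : N →* ℂˣ, orderOf lam = s ∧ LG N s lam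
  · by_cases hexr : ∃ lam : N →* ℂˣ, orderOf lam = r ∧ LG N r lam
    · obtain ⟨ls, hls, hLGs⟩ := hexs
      obtain ⟨lr, hlr, hLGr⟩ := hexr
      obtain ⟨χs, hovs, halls⟩ := t1a N hs hNG ls hls hLGs
      obtain ⟨χr, hovr, hallr⟩ := t1a N hr hNG lr hlr hLGr
      obtain ⟨⟨i, hi⟩, ⟨i', hi'⟩⟩ := lin_crt N ls lr hs hr hrs.symm hls hlr
      obtain ⟨χd, hovd⟩ := exists_over N (linIrr (ls * lr))
      have h1 := c1 N hs hNG ls hls χs χd ls (ls * lr) 1 i hovs hovd (pow_one ls) hi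
      have h2 := c1 N hr hNG lr hlr χd χr (ls * lr) lr i' 1 hovd hovr hi' (pow_one lr)
      exact rgr_trans N (halls a ha hsa)
        (rgr_trans N h1 (rgr_trans N h2 (rgr_symm N (hallr b hb hrb))))
    · push Not at hexr
      obtain ⟨c, hc, hbc⟩ := t1b N hr hNG hexr μr hμr b hb hrb
      have hca : RGR N c a := rgr_of_dvd N (rgr_mem_right N hbc) ha hr.one_lt hc hra
      exact rgr_symm N (rgr_trans N hbc hca)
  · push Not at hexs
    obtain ⟨c, hc, hac⟩ := t1b N hs hNG hexs μs hμs a ha hsa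
    have hcb : RGR N c b := rgr_of_dvd N (rgr_mem_right N hac) hb hs.one_lt hc hsb
    exact rgr_trans N hac hcb

end

section

universe u

theorem main {G : Type u} [Group G] [Finite G] (N : Subgroup G) [N.Normal] (hN : ⁅N, N⁆ < N)
    (hNG : N ≤ commutator G) :
    Nat.card (Cfsg.commonDivisorGraph.induce (Cfsg.relCharDegrees N)).ConnectedComponent ≤ 2 ∧
    ∀ (a b : ℕ) (ha : a ∈ Cfsg.relCharDegrees N) (hb : b ∈ Cfsg.relCharDegrees N),
      ¬ (Cfsg.commonDivisorGraph.induce (Cfsg.relCharDegrees N)).Reachable ⟨a, ha⟩ ⟨b, hb⟩ →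
      (Nat.Coprime a (⁅N, N⁆.relIndex N) ∧
        ∀ r : ℕ, r.Prime → r ∣ ⁅N, N⁆.relIndex N → r ∣ b) ∨
      (Nat.Coprime b (⁅N, N⁆.relIndex N) ∧
        ∀ r : ℕ, r.Prime → r ∣ ⁅N, N⁆.relIndex N → r ∣ a) := by
  classical
  haveI : Fintype G := Fintype.ofFinite G
  haveI : Fintype N := Fintype.ofFinite N
  have hm1 : (⁅N, N⁆).relIndex N ≠ 1 := by
    intro h1
    rw [Subgroup.relIndex_eq_one] at h1
    exact absurd (le_antisymm hN.le h1) hN.ne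
  obtain ⟨r₀, hr₀, hr₀m⟩ := Nat.exists_prime_and_dvd hm1
  constructor
  · apply card_le_two_of_rg3
    intro v1 v2 v3 h1 h2 h3
    by_cases d1 : r₀ ∣ v1
    · by_cases d2 : r₀ ∣ v2
      · exact Or.inl (rgr_of_dvd N h1 h2 hr₀.one_lt d1 d2)
      · by_cases d3 : r₀ ∣ v3
        · exact Or.inr (Or.inl (rgr_of_dvd N h1 h3 hr₀.one_lt d1 d3))
        · exact Or.inr (Or.inr (t1 N hr₀ hNG hr₀m v2 v3 h2 h3 d2 d3))
    · by_cases d2 : r₀ ∣ v2
      · by_cases d3 : r₀ ∣ v3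
        · exact Or.inr (Or.inr (rgr_of_dvd N h2 h3 hr₀.one_lt d2 d3))
        · exact Or.inr (Or.inl (t1 N hr₀ hNG hr₀m v1 v3 h1 h3 d1 d3))
      · exact Or.inl (t1 N hr₀ hNG hr₀m v1 v2 h1 h2 d1 d2)
  · intro a b ha hb hnot
    have hnr : ¬ RGR N a b := by
      rintro ⟨ha', hb', h⟩
      exact hnot h
    have hboth : ∀ r : ℕ, r.Prime → r ∣ (⁅N, N⁆).relIndex N → ¬ (r ∣ a ∧ r ∣ b) := by
      intro r hr _ h
      exact hnr (rgr_of_dvd N ha hb hr.one_lt h.1 h.2)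
    have hneither : ∀ r : ℕ, r.Prime → r ∣ (⁅N, N⁆).relIndex N → ¬ (¬ r ∣ a ∧ ¬ r ∣ b) := by
      intro r hr hrm h
      exact hnr (t1 N hr hNG hrm a b ha hb h.1 h.2)
    by_cases hA : ∃ r : ℕ, r.Prime ∧ r ∣ (⁅N, N⁆).relIndex N ∧ r ∣ a
    · obtain ⟨r, hr, hrm, hra⟩ := hA
      have hrb : ¬ r ∣ b := fun h => hboth r hr hrm ⟨hra, h⟩
      have hall : ∀ s : ℕ, s.Prime → s ∣ (⁅N, N⁆).relIndex N → s ∣ a := by
        intro s hs hsm
        by_contra hsa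
        have hsb : s ∣ b := by
          by_contra hsb
          exact hneither s hs hsm ⟨hsa, hsb⟩
        have hrs : r ≠ s := by
          rintro rfl
          exact hsa hra
        exact hnr (t2 N hr hs hrs hNG hrm hsm a b ha hb hra hsa hrb hsb)
      right
      refine ⟨?_, hall⟩
      apply Nat.Coprime.symm
      apply Nat.coprime_of_dvd
      intro k hk hkm hkb
      exact hboth k hk hkm ⟨hall k hk hkm, hkb⟩
    · push Not at hA
      left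
      constructor
      · apply Nat.Coprime.symm
        apply Nat.coprime_of_dvd
        intro k hk hkm hka
        exact hA k hk hkm hka
      · intro r hr hrm
        by_contra hrb
        exact hneither r hr hrm ⟨hA r hr hrm, hrb⟩

end

end Cfsg.Agent.Lib.Helper25.RelDeg
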