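import Mathlib
import Cfsg.Agent.Lib.Helper1.Tate
import Cfsg.Agent.Lib.Helper1.FocalHall
import Cfsg.Agent.Lib.Helper1.Frat
import Cfsg.Agent.Lib.Helper1.Residual
import Cfsg.Agent.Lib.Helper13.BurnsideRes
import Cfsg.Agent.Lib.Helper25.Gagola
import Cfsg.Agent.Lib.Helper25.ExtraspecialUnique
import Cfsg.Agent.Lib.Helper25.DefectZeroCount
import Cfsg.Agent.Lib.Helper25.CharAbelian
import Cfsg.Agent.Lib.helper2.GarrisonA
import Cfsg.Agent.Lib.helper2.CharInd
import Cfsg.Agent.Lib.helper2.CharNat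
import Cfsg.Agent.Lib.helper7.CharTools
import Cfsg.Agent.Lib.helper7.Induction
import Cfsg.Agent.Lib.Helper24.GaloisNorm

/-!
Characters of p'-degree of a Sylow normalizer all extend to G iff the normalizer has a normal complement (S4931). Contains: Tate-type criterion (focal subgroup of a Sylow subgroup inside its derived subgroup gives a normal p-complement O^p), trivial fusion modulo P' from two normal subgroups, separation of elements by p'-degree characters of N/A and of A/A' for a normal subgroup A of index prime to p, kernels of constituents.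
-/

set_option autoImplicit false
set_option linter.style.haveILetI false
set_option linter.unusedVariables false
set_option linter.unusedSectionVars false
set_option warn.classDefReducibility false
set_option maxHeartbeats 1600000

namespace Cfsg.Agent.Lib.Helper25
open scoped Pointwise commutatorElement
open Cfsg.Agent.Lib.helper2
open Cfsg.Agent.Lib.helper7
open Cfsg.Agent.Lib.Helper24
open scoped ComplexConjugate Pointwise commutatorElement
section

/-- If the focal subgroup of a Sylow `p`-subgroup `Q` lies in `Q'`, then `O^p(H)` is a normal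
complement of `Q` (Tate). -/
theorem nc_focal_complement {H : Type*} [Group H] [Finite H] {p : ℕ} [Fact p.Prime] (Q : Sylow p H)
    (hfoc : (Q : Subgroup H).focalSubgroup ≤ ⁅(Q : Subgroup H), (Q : Subgroup H)⁆) :
    (Cfsg.pResidual p H).IsComplement' (Q : Subgroup H) := by
  have hp : p.Prime := Fact.out
  apply Cfsg.Agent.Lib.Helper13.hasNormalPComplement_of_not_dvd_card_pResidual Q
  -- coprimality
  have hcop : Nat.Coprime (Q : Subgroup H).index
      (⁅(Q : Subgroup H), (Q : Subgroup H)⁆.relIndex (Q : Subgroup H)) := by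
    obtain ⟨k, hk⟩ := IsPGroup.iff_card.mp Q.isPGroup'
    have h1 : ⁅(Q : Subgroup H), (Q : Subgroup H)⁆.relIndex (Q : Subgroup H) ∣ p ^ k := by
      rw [← hk]
      exact Subgroup.relIndex_dvd_card _ _
    have h2 : Nat.Coprime (Q : Subgroup H).index (p ^ k) :=
      (Nat.Coprime.pow_left k (hp.coprime_iff_not_dvd.mpr Q.not_dvd_index)).symm
    exact Nat.Coprime.coprime_dvd_right h1 h2
  set M : Subgroup H := (Q : Subgroup H).transferFocal.ker with hM
  haveI : M.Normal := by rw [hM]; infer_instance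
  have hMQ : M ⊓ (Q : Subgroup H) = (Q : Subgroup H).focalSubgroup :=
    Cfsg.Agent.Lib.Helper1.ker_transferFocal_inf_eq _ hcop
  have hsup : M ⊔ (Q : Subgroup H) = ⊤ :=
    Cfsg.Agent.Lib.Helper1.ker_transferFocal_sup_eq_top _ hcop
  -- commutator ≤ frattini
  have hfr : ⁅(Q : Subgroup H), (Q : Subgroup H)⁆ ≤
      (frattini ↥(Q : Subgroup H)).map (Q : Subgroup H).subtype := by
    have h1 : commutator ↥(Q : Subgroup H) ≤ frattini ↥(Q : Subgroup H) :=
      Cfsg.Agent.Lib.Helper1.pgroup_commutator_le_frattini Q.isPGroup'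
    have h2 : (commutator ↥(Q : Subgroup H)).map (Q : Subgroup H).subtype =
        ⁅(Q : Subgroup H), (Q : Subgroup H)⁆ := by
      rw [commutator_def, Subgroup.map_commutator, ← MonoidHom.range_eq_map,
        Subgroup.range_subtype]
    rw [← h2]
    exact Subgroup.map_mono h1
  have htate := Cfsg.Agent.Lib.Helper1.Tate.tate Q M (by rw [hMQ]; exact hfoc.trans hfr)
  -- H/M is a p-group
  have hpq : IsPGroup p (H ⧸ M) := by
    have h1 : M.index ∣ Nat.card (Q : Subgroup H) := by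
      have h2 : M.relIndex (Q : Subgroup H) = M.index := by
        rw [← Subgroup.relIndex_sup_right, sup_comm, hsup, Subgroup.relIndex_top_right]
      rw [← h2]
      exact Subgroup.relIndex_dvd_card _ _
    obtain ⟨k, hk⟩ := IsPGroup.iff_card.mp Q.isPGroup'
    rw [hk] at h1
    obtain ⟨j, _, hj⟩ := (Nat.dvd_prime_pow hp).mp h1
    exact IsPGroup.of_card (n := j) (by rw [← hj]; exact (Subgroup.index_eq_card M).symm)
  have hle : Cfsg.pResidual p H ≤ M :=
    Cfsg.Agent.Lib.Helper1.pResidual_le_of_isPGroup_quotient M hpq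
  have hle2 : Cfsg.pResidual p H ≤ (Cfsg.pResidual p ↥M).map M.subtype := by
    unfold Cfsg.pResidual
    rw [Subgroup.closure_le]
    intro g hg
    have hgM : g ∈ M := hle (Subgroup.subset_closure hg)
    refine ⟨⟨g, hgM⟩, ?_, rfl⟩
    apply Subgroup.subset_closure
    change Nat.Coprime (orderOf (⟨g, hgM⟩ : ↥M)) p
    rw [Subgroup.orderOf_mk]
    exact hg
  intro hdvd
  apply htate
  have h3 : Nat.card ↥((Cfsg.pResidual p ↥M).map M.subtype) = Nat.card ↥(Cfsg.pResidual p ↥M) :=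
    Subgroup.card_map_of_injective M.subtype_injective
  rw [← h3]
  exact hdvd.trans (Subgroup.card_dvd_of_le hle2)

end

section

/-- fusion in `P` by elements of `K₀` is trivial modulo `P'`. -/
theorem nc_fusion {G : Type*} [Group G] [Finite G] {p : ℕ} [Fact p.Prime] (P : Sylow p G)
    (K₀ K₁ : Subgroup G) [K₀.Normal] [K₁.Normal] (hP0 : (P : Subgroup G) ≤ K₀)
    (h0N : K₀ ⊓ Subgroup.normalizer ((P : Subgroup G) : Set G) ≤ (P : Subgroup G))
    (hD1 : ⁅(P : Subgroup G), (P : Subgroup G)⁆ ≤ K₁)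
    (h1P : K₁ ⊓ (P : Subgroup G) ≤ ⁅(P : Subgroup G), (P : Subgroup G)⁆)
    (x : G) (hx : x ∈ (P : Subgroup G)) (g : G) (hg : g ∈ K₀)
    (hy : g * x * g⁻¹ ∈ (P : Subgroup G)) :
    x * (g * x * g⁻¹)⁻¹ ∈ ⁅(P : Subgroup G), (P : Subgroup G)⁆ := by
  set y : G := g * x * g⁻¹ with hydef
  set π := QuotientGroup.mk' K₁ with hπ
  set C : Subgroup G := K₀ ⊓ (Subgroup.centralizer ({π y} : Set (G ⧸ K₁))).comap π with hC
  have hmemC : ∀ c : G, c ∈ C ↔ c ∈ K₀ ∧ π y * π c = π c * π y := by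
    intro c
    rw [hC, Subgroup.mem_inf, Subgroup.mem_comap, Subgroup.mem_centralizer_iff]
    constructor
    · rintro ⟨h1, h2⟩
      exact ⟨h1, h2 _ rfl⟩
    · rintro ⟨h1, h2⟩
      refine ⟨h1, ?_⟩
      intro h hh
      rw [Set.mem_singleton_iff] at hh
      rw [hh]; exact h2
  have hπeq : ∀ a b : G, a⁻¹ * b ∈ K₁ → π a = π b := by
    intro a b hab
    exact (QuotientGroup.eq).mpr hab
  -- P ≤ C
  have hPC : (P : Subgroup G) ≤ C := by
    intro c hc
    rw [hmemC]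
    refine ⟨hP0 hc, ?_⟩
    rw [← map_mul, ← map_mul]
    apply hπeq
    apply hD1
    have : (y * c)⁻¹ * (c * y) = ⁅c⁻¹, y⁻¹⁆ := by
      rw [commutatorElement_def]; group
    rw [this]
    exact Subgroup.commutator_mem_commutator (inv_mem hc) (inv_mem hy)
  -- g • P ≤ C
  have hgPC : ((g • P : Sylow p G) : Subgroup G) ≤ C := by
    intro c hc
    rw [Sylow.coe_subgroup_smul, Subgroup.mem_pointwise_smul_iff_inv_smul_mem] at hc
    have hc' : g⁻¹ * c * g ∈ (P : Subgroup G) := by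
      have : (MulAut.conj g)⁻¹ • c = g⁻¹ * c * g := by
        rw [← map_inv, MulAut.smul_def, MulAut.conj_apply, inv_inv]
      rw [← this]; exact hc
    set u := g⁻¹ * c * g with hu
    have hcu : c = g * u * g⁻¹ := by rw [hu]; group
    rw [hmemC]
    refine ⟨?_, ?_⟩
    · rw [hcu]
      exact ‹K₀.Normal›.conj_mem u (hP0 hc') g
    · rw [← map_mul, ← map_mul]
      apply hπeq
      have h1 : (y * c)⁻¹ * (c * y) = g * ⁅u⁻¹, x⁻¹⁆ * g⁻¹ := by
        rw [commutatorElement_def, hcu, hydef]; group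
      rw [h1]
      exact ‹K₁.Normal›.conj_mem _
        (hD1 (Subgroup.commutator_mem_commutator (inv_mem hc') (inv_mem hx))) g
  -- Sylow conjugacy in C
  obtain ⟨c, hc⟩ := MulAction.exists_smul_eq ↥C ((g • P).subtype hgPC) (P.subtype hPC)
  rw [Sylow.smul_subtype] at hc
  have hc2 : (c : G) • (g • P) = P := Sylow.subtype_injective hc
  rw [← mul_smul] at hc2
  set n : G := (c : G) * g with hn
  have hnN : n ∈ Subgroup.normalizer ((P : Subgroup G) : Set G) :=
    Sylow.smul_eq_iff_mem_normalizer.mp hc2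
  have hcC := (hmemC (c : G)).mp c.2
  have hnK : n ∈ K₀ := mul_mem hcC.1 hg
  have hnP : n ∈ (P : Subgroup G) := h0N ⟨hnK, hnN⟩
  -- π x = π y
  have h1 : π x = π (n * x * n⁻¹) := by
    apply hπeq
    apply hD1
    have : x⁻¹ * (n * x * n⁻¹) = ⁅x⁻¹, n⁆ := by rw [commutatorElement_def]; group
    rw [this]
    exact Subgroup.commutator_mem_commutator (inv_mem hx) hnP
  have h2 : n * x * n⁻¹ = (c : G) * y * (c : G)⁻¹ := by rw [hn, hydef]; group
  have h3 : π ((c : G) * y * (c : G)⁻¹) = π y := by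
    rw [map_mul, map_mul, ← hcC.2, map_inv, mul_inv_cancel_right]
  have h4 : π x = π y := by rw [h1, h2, h3]
  have h5 : x * y⁻¹ ∈ K₁ := by
    have := (QuotientGroup.eq).mp h4.symm
    have h7 : y * (y⁻¹ * x) * y⁻¹ = x * y⁻¹ := by group
    rw [← h7]
    exact ‹K₁.Normal›.conj_mem _ this y
  exact h1P ⟨h5, Subgroup.mul_mem _ hx (Subgroup.inv_mem _ hy)⟩

theorem nc_groupPart {G : Type*} [Group G] [Finite G] {p : ℕ} [Fact p.Prime] (P : Sylow p G)
    (K₀ K₁ : Subgroup G) [K₀.Normal] [K₁.Normal] (hP0 : (P : Subgroup G) ≤ K₀)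
    (h0N : K₀ ⊓ Subgroup.normalizer ((P : Subgroup G) : Set G) ≤ (P : Subgroup G))
    (hD1 : ⁅(P : Subgroup G), (P : Subgroup G)⁆ ≤ K₁)
    (h1P : K₁ ⊓ (P : Subgroup G) ≤ ⁅(P : Subgroup G), (P : Subgroup G)⁆) :
    ∃ K : Subgroup G, K.Normal ∧ K ⊔ Subgroup.normalizer ((P : Subgroup G) : Set G) = ⊤ ∧
      K ⊓ Subgroup.normalizer ((P : Subgroup G) : Set G) = ⊥ := by
  set Q : Sylow p ↥K₀ := P.subtype hP0 with hQ
  have hQcoe : (Q : Subgroup ↥K₀) = (P : Subgroup G).subgroupOf K₀ := Sylow.coe_subtype P hP0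
  have hQmap : (Q : Subgroup ↥K₀).map K₀.subtype = (P : Subgroup G) := by
    rw [hQcoe]; exact Subgroup.map_subgroupOf_eq_of_le hP0
  have hcomm : ⁅(Q : Subgroup ↥K₀), (Q : Subgroup ↥K₀)⁆.map K₀.subtype =
      ⁅(P : Subgroup G), (P : Subgroup G)⁆ := by
    rw [Subgroup.map_commutator, hQmap]
  have hfoc : (Q : Subgroup ↥K₀).focalSubgroup ≤ ⁅(Q : Subgroup ↥K₀), (Q : Subgroup ↥K₀)⁆ := by
    rw [Subgroup.focalSubgroup_def, Subgroup.closure_le]
    rintro z ⟨hzQ, x, hxQ, u, hzu⟩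
    have hxP : (x : G) ∈ (P : Subgroup G) := by
      rw [hQcoe] at hxQ; exact hxQ
    have hzP : (z : G) ∈ (P : Subgroup G) := by
      rw [hQcoe] at hzQ; exact hzQ
    have hz : (z : G) = (x : G) * ((u : G) * (x : G) * (u : G)⁻¹)⁻¹ := by
      rw [hzu, commutatorElement_def]
      push_cast
      group
    have hy : (u : G) * (x : G) * (u : G)⁻¹ ∈ (P : Subgroup G) := by
      have : (u : G) * (x : G) * (u : G)⁻¹ = (z : G)⁻¹ * (x : G) := by rw [hz]; group
      rw [this]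
      exact mul_mem (inv_mem hzP) hxP
    have h1 := nc_fusion P K₀ K₁ hP0 h0N hD1 h1P (x : G) hxP (u : G) u.2 hy
    rw [← hz, ← hcomm] at h1
    obtain ⟨z', hz', hzz⟩ := h1
    have : z' = z := Subtype.ext hzz
    rw [← this]; exact hz'
  have hcompl := nc_focal_complement Q hfoc
  set R : Subgroup ↥K₀ := Cfsg.pResidual p ↥K₀ with hR
  set K : Subgroup G := R.map K₀.subtype with hK
  haveI hKn : K.Normal := ConjAct.normal_of_characteristic_of_normal
  refine ⟨K, hKn, ?_, ?_⟩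
  · -- K ⊔ N = ⊤
    have h1 : Subgroup.normalizer ((P : Subgroup G) : Set G) ⊔ K₀ = ⊤ :=
      Sylow.normalizer_sup_eq_top' P hP0
    have h2 : K ⊔ (P : Subgroup G) = K₀ := by
      rw [hK, ← hQmap, ← Subgroup.map_sup, hcompl.sup_eq_top, ← MonoidHom.range_eq_map,
        Subgroup.range_subtype]
    have hPN : (P : Subgroup G) ≤ Subgroup.normalizer ((P : Subgroup G) : Set G) :=
      Subgroup.le_normalizer
    rw [eq_top_iff, ← h1]
    apply sup_le le_sup_right
    rw [← h2]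
    exact sup_le le_sup_left (hPN.trans le_sup_right)
  · rw [eq_bot_iff]
    rintro x ⟨hxK, hxN⟩
    obtain ⟨r, hr, rfl⟩ := hxK
    have hrP : (r : G) ∈ (P : Subgroup G) := h0N ⟨r.2, hxN⟩
    have hrQ : r ∈ (Q : Subgroup ↥K₀) := by rw [hQcoe]; exact hrP
    have hdisj := hcompl.disjoint
    have : r ∈ (R ⊓ (Q : Subgroup ↥K₀)) := ⟨hr, hrQ⟩
    rw [disjoint_iff.mp hdisj, Subgroup.mem_bot] at this
    rw [this]
    simp

end

section

/-- irreducible characters separate a nonidentity element from the identity -/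
theorem nc_sep {Q : Type*} [Group Q] [Finite Q] (q : Q) (hq : q ≠ 1) :
    ∃ α : Cfsg.IrrCharacter Q, (α : Q → ℂ) q ≠ (α : Q → ℂ) 1 := by
  classical
  haveI := Fintype.ofFinite Q
  haveI := Fintype.ofFinite (Cfsg.IrrCharacter Q)
  by_contra hcon
  push Not at hcon
  have hcol := irr_column_orthogonality q (1 : Q)
  rw [if_neg (fun h => hq (isConj_one_right.1 h))] at hcol
  refine sum_irr_ne_zero (fun ψ : Cfsg.IrrCharacter Q => (ψ : Q → ℂ) q * conj ((ψ : Q → ℂ) 1)) ?_ ?_ hcol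
  · intro ψ
    rw [hcon ψ]
    exact irr_mul_conj_one_re_nonneg ψ
  · simp

/-- kernel of a constituent contains the kernel of the character -/
theorem nc_ker_const {H : Type*} [Group H] [Fintype H] {Ψ : H → ℂ} (hΨ : Cfsg.IsCharacter H Ψ)
    (χ : H → ℂ) (hχ : Cfsg.IsIrrCharacter H χ) (h : Cfsg.classInner Ψ χ ≠ 0) (g : H)
    (hg : Ψ g = Ψ 1) : χ g = χ 1 := by
  obtain ⟨Δ, hΔ, hsplit⟩ := h7_char_split hΨ χ hχ h
  obtain ⟨n, hn1, hn⟩ := gk_char_norm_le (h7_irr_isCharacter hχ) g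
  obtain ⟨k, hk1, hk⟩ := gk_char_norm_le hΔ g
  have h1 : χ g + Δ g = (n : ℂ) + (k : ℂ) := by
    have e1 := congrFun hsplit g
    have e2 := congrFun hsplit 1
    simp only [Pi.add_apply] at e1 e2
    rw [← e1, hg, e2, hn1, hk1]
  rw [hn1]
  exact gk_eq_of_sum_eq _ _ n k hn hk h1

/-- I.a: characters of `N/A` separate elements outside `A` -/
theorem nc_sep_quot {N : Type*} [Group N] [Finite N] (p : ℕ) (A : Subgroup N) [A.Normal]
    (hidx : ¬ p ∣ A.index) (n : N) (hn : n ∉ A) :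
    ∃ θ : Cfsg.IrrCharacter N, ¬ p ∣ Cfsg.charDegree (θ : N → ℂ) ∧
      (∀ a ∈ A, (θ : N → ℂ) a = (θ : N → ℂ) 1) ∧ (θ : N → ℂ) n ≠ (θ : N → ℂ) 1 := by
  have hq : (QuotientGroup.mk' A n) ≠ 1 := by
    intro h
    exact hn ((QuotientGroup.eq_one_iff n).mp h)
  obtain ⟨α, hα⟩ := nc_sep (QuotientGroup.mk' A n) hq
  refine ⟨xs_infl (QuotientGroup.mk' A) (QuotientGroup.mk'_surjective A) α, ?_, ?_, ?_⟩
  · have h1 : Cfsg.charDegree
        (xs_infl (QuotientGroup.mk' A) (QuotientGroup.mk'_surjective A) α : N → ℂ) =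
        Cfsg.charDegree (α : N ⧸ A → ℂ) := by
      unfold Cfsg.charDegree
      rw [xs_infl_apply, map_one]
    rw [h1]
    intro hdvd
    apply hidx
    have h2 := charDegree_dvd_card α
    rw [← Subgroup.index_eq_card] at h2
    exact hdvd.trans h2
  · intro a ha
    rw [xs_infl_apply, xs_infl_apply, map_one]
    have : (QuotientGroup.mk' A) a = 1 := (QuotientGroup.eq_one_iff a).mpr ha
    rw [this]
  · rw [xs_infl_apply, xs_infl_apply, map_one]
    exact hα

end

section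

/-- I.b: `p'`-degree characters of `N` separate elements of `A \ A'` for a normal subgroup `A`
of index prime to `p`. -/
theorem nc_sep_derived {N : Type*} [Group N] [Finite N] (p : ℕ) [hp : Fact p.Prime]
    (A : Subgroup N) [hAn : A.Normal]
    (hidx : ¬ p ∣ A.index) (x : N) (hx : x ∈ A) (hxD : x ∉ ⁅A, A⁆) :
    ∃ θ : Cfsg.IrrCharacter N, ¬ p ∣ Cfsg.charDegree (θ : N → ℂ) ∧
      (∀ z ∈ ⁅A, A⁆, (θ : N → ℂ) z = (θ : N → ℂ) 1) ∧ (θ : N → ℂ) x ≠ (θ : N → ℂ) 1 := by
  classical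
  haveI := Fintype.ofFinite N
  haveI : Fintype ↥A := Fintype.ofFinite _
  haveI := Fintype.ofFinite (Cfsg.IrrCharacter N)
  set D : Subgroup ↥A := commutator ↥A with hD
  have hDmap : D.map A.subtype = ⁅A, A⁆ := by
    rw [hD, commutator_def, Subgroup.map_commutator, ← MonoidHom.range_eq_map,
      Subgroup.range_subtype]
  set x' : ↥A := ⟨x, hx⟩ with hx'
  have hx'D : x' ∉ D := by
    intro h
    apply hxD
    rw [← hDmap]
    exact ⟨x', h, rfl⟩
  haveI hcomm : IsMulCommutative (↥A ⧸ D) :=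
    (Subgroup.Normal.quotient_commutative_iff_commutator_le).mpr le_rfl
  have hq : (QuotientGroup.mk' D x') ≠ 1 := by
    intro h
    exact hx'D ((QuotientGroup.eq_one_iff x').mp h)
  obtain ⟨β, hβ⟩ := nc_sep (QuotientGroup.mk' D x') hq
  set lam : Cfsg.IrrCharacter ↥A :=
    xs_infl (QuotientGroup.mk' D) (QuotientGroup.mk'_surjective D) β with hlam
  have hβ1 : (β : ↥A ⧸ D → ℂ) 1 = 1 := gn_irr_one_of_isMulCommutative β
  have hlam1 : (lam : ↥A → ℂ) 1 = 1 := by
    rw [hlam, xs_infl_apply, map_one, hβ1]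
  have hlamx : (lam : ↥A → ℂ) x' ≠ 1 := by
    rw [hlam, xs_infl_apply, ← hβ1]
    exact hβ
  have hlamD : ∀ d ∈ D, (lam : ↥A → ℂ) d = 1 := by
    intro d hd
    rw [hlam, xs_infl_apply]
    have : (QuotientGroup.mk' D) d = 1 := (QuotientGroup.eq_one_iff d).mpr hd
    rw [this, hβ1]
  set Φ : N → ℂ := Cfsg.indFun A (lam : ↥A → ℂ) with hΦdef
  have hΦ : Cfsg.IsCharacter N Φ := isCharacter_indFun A _ (isCharacter_of_irr lam)
  have hΦ1 : Φ 1 = (A.index : ℂ) := by
    rw [hΦdef, h7_indFun_one, hlam1, mul_one]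
  obtain ⟨m, hm, hexp⟩ := isCharacter_expansion hΦ
  -- find θ
  have hex : ∃ θ : Cfsg.IrrCharacter N, m θ ≠ 0 ∧ ¬ p ∣ Cfsg.charDegree (θ : N → ℂ) := by
    by_contra hcon
    push Not at hcon
    apply hidx
    have h1 : (A.index : ℂ) =
        ∑ μ : Cfsg.IrrCharacter N, (m μ : ℂ) * (Cfsg.charDegree (μ : N → ℂ) : ℂ) := by
      rw [← hΦ1]
      have h2 := congrFun hexp 1
      rw [h2, Finset.sum_apply]
      refine Finset.sum_congr rfl fun μ _ => ?_
      rw [Pi.smul_apply, smul_eq_mul, (charDegree_irr μ).1]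
    have h3 : A.index = ∑ μ : Cfsg.IrrCharacter N, m μ * Cfsg.charDegree (μ : N → ℂ) := by
      exact_mod_cast h1
    rw [h3]
    apply Finset.dvd_sum
    intro μ _
    by_cases hmμ : m μ = 0
    · rw [hmμ, zero_mul]
      exact dvd_zero _
    · exact Dvd.dvd.mul_left (hcon μ hmμ) _
  obtain ⟨θ, hmθ, hθp⟩ := hex
  have hinner : Cfsg.classInner Φ (θ : N → ℂ) ≠ 0 := by
    rw [hm θ]
    exact_mod_cast hmθ
  haveI hDn : (⁅A, A⁆).Normal := Subgroup.commutator_normal A A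
  -- Φ z = Φ 1 on ⁅A,A⁆
  have hΦz : ∀ z ∈ ⁅A, A⁆, Φ z = Φ 1 := by
    intro z hz
    rw [hΦdef]
    unfold Cfsg.indFun
    congr 1
    refine Finset.sum_congr rfl fun g _ => ?_
    have hzg : g⁻¹ * z * g ∈ ⁅A, A⁆ := by
      have := hDn.conj_mem z hz g⁻¹
      rwa [inv_inv] at this
    have hzgA : g⁻¹ * z * g ∈ A := Subgroup.commutator_le_left A A hzg
    rw [h7_extendByZero_mem A _ _ hzgA]
    have h1 : g⁻¹ * 1 * g = ((1 : ↥A) : N) := by simp
    rw [h1, h7_extendByZero_coe, hlam1]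
    apply hlamD
    rw [← hDmap] at hzg
    obtain ⟨d, hd, hdz⟩ := hzg
    have : d = ⟨g⁻¹ * z * g, hzgA⟩ := Subtype.ext hdz
    rw [← this]
    exact hd
  refine ⟨θ, hθp, ?_, ?_⟩
  · intro z hz
    exact nc_ker_const hΦ (θ : N → ℂ) θ.2 hinner z (hΦz z hz)
  · intro hθx
    apply hlamx
    set ψ : ↥A → ℂ := fun a => (θ : N → ℂ) a with hψ
    have hψc : Cfsg.IsCharacter ↥A ψ := isCharacter_restrict (isCharacter_of_irr θ) A
    have h1 : Cfsg.classInner (lam : ↥A → ℂ) ψ = (m θ : ℂ) := by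
      rw [← hm θ, hΦdef, h7_frobenius_reciprocity A (lam : ↥A → ℂ) (θ : N → ℂ)
        (isCharacter_isClassFunction (isCharacter_of_irr θ))]
    have h2 := classInner_symm_of_nat _ _ _ h1
    have h3 : Cfsg.classInner ψ (lam : ↥A → ℂ) ≠ 0 := by
      rw [h2]
      exact_mod_cast hmθ
    have h4 := nc_ker_const hψc (lam : ↥A → ℂ) lam.2 h3 x' (by simpa [hψ, hx'] using hθx)
    rw [h4, hlam1]

end

section

theorem nc_forward {G : Type*} [Group G] [Finite G] (p : ℕ) [Fact p.Prime] (P : Sylow p G)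
    (hext : ∀ θ : Cfsg.IrrCharacter ↥(Subgroup.normalizer ((P : Subgroup G) : Set G)),
      ¬ p ∣ Cfsg.charDegree (θ : ↥(Subgroup.normalizer ((P : Subgroup G) : Set G)) → ℂ) →
        ∃ χ : Cfsg.IrrCharacter G, ∀ x : ↥(Subgroup.normalizer ((P : Subgroup G) : Set G)),
          (χ : G → ℂ) x = (θ : ↥(Subgroup.normalizer ((P : Subgroup G) : Set G)) → ℂ) x) :
    ∃ K : Subgroup G, K.Normal ∧ K ⊔ Subgroup.normalizer ((P : Subgroup G) : Set G) = ⊤ ∧
      K ⊓ Subgroup.normalizer ((P : Subgroup G) : Set G) = ⊥ := by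
  set N : Subgroup G := Subgroup.normalizer ((P : Subgroup G) : Set G) with hN
  have hPN : (P : Subgroup G) ≤ N := Subgroup.le_normalizer
  set A : Subgroup ↥N := (P : Subgroup G).subgroupOf N with hA
  haveI hAn : A.Normal := by rw [hA, hN]; exact Subgroup.normal_in_normalizer
  have hAmap : A.map N.subtype = (P : Subgroup G) := Subgroup.map_subgroupOf_eq_of_le hPN
  have hAcomm : ⁅A, A⁆.map N.subtype = ⁅(P : Subgroup G), (P : Subgroup G)⁆ := by
    rw [Subgroup.map_commutator, hAmap]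
  have hidx : ¬ p ∣ A.index := by
    intro h
    apply P.not_dvd_index
    have h1 : A.index = (P : Subgroup G).relIndex N := rfl
    rw [h1] at h
    rw [← Subgroup.relIndex_mul_index hPN]
    exact Dvd.dvd.mul_right h _
  set K₀ : Subgroup G :=
    ⨅ χ : {χ : Cfsg.IrrCharacter G // ∀ a ∈ (P : Subgroup G), (χ : G → ℂ) a = (χ : G → ℂ) 1},
      irrKer χ.1 with hK₀
  set K₁ : Subgroup G :=
    ⨅ χ : {χ : Cfsg.IrrCharacter G //
        ∀ a ∈ ⁅(P : Subgroup G), (P : Subgroup G)⁆, (χ : G → ℂ) a = (χ : G → ℂ) 1},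
      irrKer χ.1 with hK₁
  haveI : K₀.Normal := Subgroup.normal_iInf_normal (fun χ => irrKer_normal χ.1)
  haveI : K₁.Normal := Subgroup.normal_iInf_normal (fun χ => irrKer_normal χ.1)
  have hP0 : (P : Subgroup G) ≤ K₀ := by
    intro a ha
    rw [hK₀, Subgroup.mem_iInf]
    intro χ
    exact (mem_irrKer χ.1 a).2 (χ.2 a ha)
  have hD1 : ⁅(P : Subgroup G), (P : Subgroup G)⁆ ≤ K₁ := by
    intro a ha
    rw [hK₁, Subgroup.mem_iInf]
    intro χ
    exact (mem_irrKer χ.1 a).2 (χ.2 a ha)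
  have h0N : K₀ ⊓ N ≤ (P : Subgroup G) := by
    intro n hn
    obtain ⟨hn0, hnN⟩ := Subgroup.mem_inf.mp hn
    by_contra hnP
    have hnA : (⟨n, hnN⟩ : ↥N) ∉ A := by
      intro h
      exact hnP (Subgroup.mem_subgroupOf.mp h)
    obtain ⟨θ, hθp, hθA, hθn⟩ := nc_sep_quot p A hidx ⟨n, hnN⟩ hnA
    obtain ⟨χ, hχ⟩ := hext θ hθp
    have hχP : ∀ a ∈ (P : Subgroup G), (χ : G → ℂ) a = (χ : G → ℂ) 1 := by
      intro a ha
      have h1 := hχ ⟨a, hPN ha⟩
      have h2 := hχ 1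
      simp only at h1
      rw [h1, hθA ⟨a, hPN ha⟩ (Subgroup.mem_subgroupOf.mpr ha), ← h2]
      rfl
    rw [hK₀, Subgroup.mem_iInf] at hn0
    have h3 := (mem_irrKer χ n).1 (hn0 ⟨χ, hχP⟩)
    apply hθn
    have h1 := hχ ⟨n, hnN⟩
    have h2 := hχ 1
    simp only at h1
    rw [← h1, h3, ← h2]
    rfl
  have h1P : K₁ ⊓ (P : Subgroup G) ≤ ⁅(P : Subgroup G), (P : Subgroup G)⁆ := by
    intro x hx
    obtain ⟨hx1, hxP⟩ := Subgroup.mem_inf.mp hx
    by_contra hxD
    have hxA : (⟨x, hPN hxP⟩ : ↥N) ∈ A := Subgroup.mem_subgroupOf.mpr hxP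
    have hxD' : (⟨x, hPN hxP⟩ : ↥N) ∉ ⁅A, A⁆ := by
      intro h
      apply hxD
      rw [← hAcomm]
      exact ⟨_, h, rfl⟩
    obtain ⟨θ, hθp, hθD, hθx⟩ := nc_sep_derived p A hidx ⟨x, hPN hxP⟩ hxA hxD'
    obtain ⟨χ, hχ⟩ := hext θ hθp
    have hχD : ∀ a ∈ ⁅(P : Subgroup G), (P : Subgroup G)⁆, (χ : G → ℂ) a = (χ : G → ℂ) 1 := by
      intro a ha
      rw [← hAcomm] at ha
      obtain ⟨a', ha', rfl⟩ := ha
      have h1 := hχ a'
      have h2 := hχ 1
      rw [Subgroup.coe_subtype, h1, hθD a' ha', ← h2]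
      rfl
    rw [hK₁, Subgroup.mem_iInf] at hx1
    have h3 := (mem_irrKer χ x).1 (hx1 ⟨χ, hχD⟩)
    apply hθx
    have h1 := hχ ⟨x, hPN hxP⟩
    have h2 := hχ 1
    simp only at h1
    rw [← h1, h3, ← h2]
    rfl
  exact nc_groupPart P K₀ K₁ hP0 h0N hD1 h1P

theorem nc_backward {G : Type*} [Group G] [Finite G] (N K : Subgroup G) [hK : K.Normal]
    (hsup : K ⊔ N = ⊤) (hinf : K ⊓ N = ⊥) (θ : Cfsg.IrrCharacter ↥N) :
    ∃ χ : Cfsg.IrrCharacter G, ∀ x : ↥N, (χ : G → ℂ) x = (θ : ↥N → ℂ) x := by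
  set φ : ↥N →* G ⧸ K := (QuotientGroup.mk' K).comp N.subtype with hφ
  have hinj : Function.Injective φ := by
    rw [injective_iff_map_eq_one]
    intro n hn
    have h1 : (n : G) ∈ K := (QuotientGroup.eq_one_iff (n : G)).mp hn
    have h2 : (n : G) ∈ K ⊓ N := ⟨h1, n.2⟩
    rw [hinf, Subgroup.mem_bot] at h2
    exact Subtype.ext h2
  have hsurj : Function.Surjective φ := by
    intro q
    obtain ⟨g, rfl⟩ := QuotientGroup.mk_surjective q
    have hg : g ∈ K ⊔ N := by rw [hsup]; trivial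
    obtain ⟨k, hk, n, hn, rfl⟩ := Subgroup.mem_sup_of_normal_left.mp hg
    refine ⟨⟨n, hn⟩, ?_⟩
    change (QuotientGroup.mk' K) n = (QuotientGroup.mk' K) (k * n)
    have hk1 : (QuotientGroup.mk' K) k = 1 := (QuotientGroup.eq_one_iff k).mpr hk
    rw [map_mul, hk1, one_mul]
  set e : ↥N ≃* G ⧸ K := MulEquiv.ofBijective φ ⟨hinj, hsurj⟩ with he
  set f : G →* ↥N := e.symm.toMonoidHom.comp (QuotientGroup.mk' K) with hf
  have hfs : Function.Surjective f := by
    rw [hf]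
    exact e.symm.surjective.comp (QuotientGroup.mk'_surjective K)
  refine ⟨xs_infl f hfs θ, ?_⟩
  intro x
  rw [xs_infl_apply]
  have hfx : f (x : G) = x := by
    change e.symm ((QuotientGroup.mk' K) (x : G)) = x
    rw [MulEquiv.symm_apply_eq]
    rfl
  rw [hfx]

end

end Cfsg.Agent.Lib.Helper25
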