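import Mathlib

/-!
# Sub-project N5400 (helper10), piece ORBSIZE (helper25): orbit-stabiliser for `N(P)` acting on the Sylow subgroups.
-/

set_option autoImplicit false
set_option linter.unusedVariables false
set_option linter.unusedSectionVars false

namespace Cfsg.Agent.Lib.Helper10.N5400

open Classical

universe u

variable {G : Type u} [Group G] [Finite G]

theorem orbit_card (p : ℕ) [Fact p.Prime] (P Q : Sylow p G) :
    Nat.card ↥(MulAction.orbit ↥(Subgroup.normalizer ((P : Subgroup G) : Set G)) Q) *
      Nat.card ↥(Subgroup.normalizer ((P : Subgroup G) : Set G) ⊓ Subgroup.normalizer ((Q : Subgroup G) : Set G)) =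
        Nat.card ↥(Subgroup.normalizer ((P : Subgroup G) : Set G)) := by
  have h1 : Nat.card ↥(MulAction.orbit ↥(Subgroup.normalizer ((P : Subgroup G) : Set G)) Q) *
      Nat.card ↥(MulAction.stabilizer (↥(Subgroup.normalizer ((P : Subgroup G) : Set G))) Q) =
      Nat.card ↥(Subgroup.normalizer ((P : Subgroup G) : Set G)) := by
    rw [Nat.card_congr (MulAction.orbitEquivQuotientStabilizer
      (↥(Subgroup.normalizer ((P : Subgroup G) : Set G))) Q)]
    exact (Subgroup.card_eq_card_quotient_mul_card_subgroup _).symm
  have h2 : MulAction.stabilizer (↥(Subgroup.normalizer ((P : Subgroup G) : Set G))) Q =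
      (Subgroup.normalizer ((P : Subgroup G) : Set G) ⊓
        Subgroup.normalizer ((Q : Subgroup G) : Set G)).subgroupOf
          (Subgroup.normalizer ((P : Subgroup G) : Set G)) := by
    ext n
    rw [MulAction.mem_stabilizer_iff, Subgroup.mem_subgroupOf, Subgroup.mem_inf]
    have : n • Q = (n : G) • Q := rfl
    rw [this, Sylow.smul_eq_iff_mem_normalizer]
    exact ⟨fun h => ⟨n.2, h⟩, fun h => h.2⟩
  have h3 : Nat.card ↥((Subgroup.normalizer ((P : Subgroup G) : Set G) ⊓
        Subgroup.normalizer ((Q : Subgroup G) : Set G)).subgroupOf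
          (Subgroup.normalizer ((P : Subgroup G) : Set G))) =
      Nat.card ↥(Subgroup.normalizer ((P : Subgroup G) : Set G) ⊓
        Subgroup.normalizer ((Q : Subgroup G) : Set G)) :=
    Nat.card_congr (Subgroup.subgroupOfEquivOfLe inf_le_left).toEquiv
  rw [h2, h3] at h1
  exact h1

end Cfsg.Agent.Lib.Helper10.N5400
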