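import Mathlib
import Cfsg.Agent.Lib.helper14.SGUDefs

set_option autoImplicit false

/-! SGU row EMBK1 (verbatim): `|F[ω]| = q²`. -/

namespace Cfsg.Agent.Lib.helper14.SGU

open Polynomial Module Cfsg.Agent.Lib.Lead.SPU Cfsg.Agent.Lib.Helper19.SPD

variable {F : Type*} [Field F] {d : ℕ}

theorem embk_card [Fintype F] {q : ℕ} (hq : Fintype.card F = q) (c0 : F) : Nat.card (QK c0) = q ^ 2 := by
  rw [Nat.card_congr (QuadraticAlgebra.equivProd c0 0), Nat.card_prod, Nat.card_eq_fintype_card, hq,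
    pow_two]

end Cfsg.Agent.Lib.helper14.SGU
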