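import Mathlib
import Cfsg.Agent.Lib.helper14.SGUDefs

set_option autoImplicit false

/-! SGU row EMBK2 (verbatim): the Frobenius `z ↦ z ^ q` of `F[ω]` (`ω² = c0` a non-square) is `star`. -/

namespace Cfsg.Agent.Lib.helper14.SGU

open Polynomial Module Cfsg.Agent.Lib.Lead.SPU Cfsg.Agent.Lib.Helper19.SPD
open scoped QuadraticAlgebra

variable {F : Type*} [Field F] {d : ℕ}

/-- Euler: a non-square `c0` has `c0 ^ (q / 2) = -1`. -/
theorem sguembk2_euler [Fintype F] (hodd : Odd (Fintype.card F)) (c0 : F) (hnsq : ∀ x : F, x * x ≠ c0) :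
    c0 ^ (Fintype.card F / 2) = -1 := by
  have hF2 : ringChar F ≠ 2 := by
    intro h
    have h1 := FiniteField.even_card_iff_char_two.mp h
    have h2 := Nat.odd_iff.mp hodd
    omega
  have hc0 : c0 ≠ 0 := fun h => hnsq 0 (by rw [h, mul_zero])
  rcases FiniteField.pow_dichotomy hF2 hc0 with h | h
  · exfalso
    obtain ⟨y, hy⟩ := (FiniteField.isSquare_iff hF2 hc0).mpr h
    exact hnsq y hy.symm
  · exact h

/-- `ω ^ q = - ω`. -/
theorem sguembk2_omega [Fintype F] (hodd : Odd (Fintype.card F)) (c0 : F) (hnsq : ∀ x : F, x * x ≠ c0) :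
    (ω : QK c0) ^ (Fintype.card F) = -ω := by
  have hpow := sguembk2_euler hodd c0 hnsq
  obtain ⟨k, hk⟩ := hodd
  have hk2 : Fintype.card F / 2 = k := by omega
  rw [hk2] at hpow
  rw [hk, pow_succ, pow_mul, pow_two, QuadraticAlgebra.omega_mul_omega_eq_algebraMap, map_zero,
    zero_mul, add_zero, ← map_pow, hpow, map_neg, map_one, neg_one_mul]

theorem embk_frob [Fintype F] {q : ℕ} (hq : Fintype.card F = q) (hodd : Odd q) (c0 : F) (hnsq : ∀ x : F, x * x ≠ c0)
    (z : QK c0) : z ^ q = star z := by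
  classical
  subst hq
  obtain ⟨p, hp⟩ := CharP.exists F
  haveI := hp
  haveI hpp : Fact p.Prime := ⟨CharP.char_is_prime F p⟩
  obtain ⟨n, _, hn⟩ := FiniteField.card F p
  haveI : CharP (QK c0) p :=
    charP_of_injective_algebraMap (QuadraticAlgebra.algebraMap_injective (R := F)) p
  have hω := sguembk2_omega hodd c0 hnsq
  obtain ⟨a, b⟩ := z
  have hz : (⟨a, b⟩ : QK c0) = algebraMap F (QK c0) a + algebraMap F (QK c0) b * ω := by
    ext <;> simp
  have h1 : (algebraMap F (QK c0) a + algebraMap F (QK c0) b * ω) ^ (Fintype.card F) =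
      algebraMap F (QK c0) a + algebraMap F (QK c0) b * (-ω) := by
    rw [← hω]
    nth_rewrite 1 [hn]
    rw [add_pow_char_pow, ← hn, mul_pow, ← map_pow, ← map_pow, FiniteField.pow_card,
      FiniteField.pow_card]
  rw [hz, h1]
  ext <;> simp

end Cfsg.Agent.Lib.helper14.SGU
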