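import Mathlib
import Cfsg.Prelude.Def_Blocks
import Cfsg.Agent.Lib.Helper16.AP3
import Cfsg.Agent.Lib.Helper10.SLB.Defs

/-!
# Project SLB (S4538 + S2440, designer helper10), row L03: `card_polyT` (helper25).
-/

set_option autoImplicit false

open Polynomial

namespace Cfsg.Agent.Lib.Helper10.SLB

open Cfsg.Agent.Lib.Helper16.AP

universe u

section L

variable {F : Type u} [Field F]

/-- vectors with prescribed first coordinate. -/
def slbl03_tailEquiv (m : ℕ) (c : F) : {v : Fin (m + 1) → F // v 0 = c} ≃ (Fin m → F) where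
  toFun v := Fin.tail v.1
  invFun ρ := ⟨Fin.cons c ρ, by simp⟩
  left_inv := by
    rintro ⟨v, hv⟩
    ext1
    simp only
    rw [← hv]
    exact Fin.cons_self_tail v
  right_inv ρ := by simp

/-- monic polynomials of degree `n` as coefficient vectors. -/
noncomputable def slbl03_coeffEquiv (n : ℕ) :
    {p : F[X] // p.Monic ∧ p.natDegree = n} ≃ (Fin n → F) :=
  (Polynomial.monicEquivDegreeLT n).trans (Polynomial.degreeLTEquiv F n).toEquiv

theorem slbl03_coeffEquiv_apply (n : ℕ) (p : {p : F[X] // p.Monic ∧ p.natDegree = n}) (i : Fin n) :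
    slbl03_coeffEquiv n p i = p.1.coeff i := by
  show (p.1.eraseLead).coeff (i : ℕ) = p.1.coeff i
  rw [Polynomial.eraseLead_coeff_of_ne]
  rw [p.2.2]
  exact i.2.ne

/-- L03 [M]  bijection `(Fin m → F) ≃ polyT F (m+1)`. -/
theorem card_polyT [Fintype F] (m : ℕ) : Nat.card (polyT F (m + 1)) = Fintype.card F ^ m := by
  classical
  have e1 : polyT F (m + 1) ≃
      {f : F[X] // (f.Monic ∧ f.natDegree = m + 1) ∧ f.coeff 0 = (-1) ^ (m + 1)} :=
    Equiv.subtypeEquivRight (fun f => by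
      show (f.Monic ∧ f.natDegree = m + 1 ∧ f.coeff 0 = (-1) ^ (m + 1)) ↔ _
      exact and_assoc.symm)
  have e2 : {f : F[X] // (f.Monic ∧ f.natDegree = m + 1) ∧ f.coeff 0 = (-1) ^ (m + 1)} ≃
      {p : {f : F[X] // f.Monic ∧ f.natDegree = m + 1} // p.1.coeff 0 = (-1) ^ (m + 1)} :=
    (Equiv.subtypeSubtypeEquivSubtypeInter (fun f : F[X] => f.Monic ∧ f.natDegree = m + 1)
      (fun f : F[X] => f.coeff 0 = (-1) ^ (m + 1))).symm
  have e3 : {p : {f : F[X] // f.Monic ∧ f.natDegree = m + 1} // p.1.coeff 0 = (-1) ^ (m + 1)} ≃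
      {v : Fin (m + 1) → F // v 0 = (-1) ^ (m + 1)} :=
    (slbl03_coeffEquiv (m + 1)).subtypeEquiv (fun p => by
      rw [slbl03_coeffEquiv_apply]
      rfl)
  have e := ((e1.trans e2).trans e3).trans (slbl03_tailEquiv m ((-1 : F) ^ (m + 1)))
  rw [Nat.card_congr e, Nat.card_eq_fintype_card, Fintype.card_fun, Fintype.card_fin]

end L

end Cfsg.Agent.Lib.Helper10.SLB
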