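import Mathlib
import Cfsg.Prelude.Def_Blocks
import Cfsg.Agent.Lib.Helper16.AP3
import Cfsg.Agent.Lib.Helper10.SLB.Defs

/-!
# Project SLB (S4538 + S2440, designer helper10), row L10: `exists_sylow_UT` (helper25).
-/

set_option autoImplicit false

open Polynomial

namespace Cfsg.Agent.Lib.Helper10.SLB

open Cfsg.Agent.Lib.Helper16.AP

universe u

section L

variable {F : Type u} [Field F]

/-- L10 [S]  `UT n F` is a Sylow `p`-subgroup of `SL_n(F)`. -/
theorem exists_sylow_UT [Fintype F] (p : ℕ) [Fact p.Prime] [CharP F p] (n : ℕ) (hn : 1 ≤ n) :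
    ∃ S : Sylow p (Matrix.SpecialLinearGroup (Fin n) F),
      (S : Subgroup (Matrix.SpecialLinearGroup (Fin n) F)) = UT n F := by
  obtain ⟨f, _, hF⟩ := FiniteField.card F p
  have hp : p.Prime := Fact.out
  have hpg := UT_isPGroup (n := n) hp hF
  have hidx := UT_index_not_dvd (n := n) hp f.pos hF hn
  exact ⟨hpg.toSylow hidx, IsPGroup.toSylow_coe hpg hidx⟩

end L

end Cfsg.Agent.Lib.Helper10.SLB
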