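import Mathlib
import Cfsg.Prelude.Def_Blocks
import Cfsg.Agent.Lib.Helper16.AP3
import Cfsg.Agent.Lib.Helper10.SLB.Defs
import Cfsg.Agent.Lib.Helper25.SLBL10
import Cfsg.Agent.S0953

/-!
# Project SLB (S4538 + S2440, designer helper10), row C04 (helper25): core of `card_full_defect`,
with the statements of G10 (`full_defect_iff`, at `G = SL_n(F)`) and C04a (`card_classes_UT`) as hypotheses.
-/

set_option autoImplicit false

open Polynomial

namespace Cfsg.Agent.Lib.Helper10.SLB

open Cfsg.Agent.Lib.Helper16.AP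

universe u

section C

variable {F : Type u} [Field F] [Fintype F]

/-- C04 core: `card_full_defect` from the statements of G10 and C04a (L10 and S0953 are landed). -/
theorem slbc04_core (p : ℕ) [Fact p.Prime] [CharP F p] (n : ℕ) (hn : 2 ≤ n)
    (M : Ideal Cfsg.AlgInt) (hM : Cfsg.IsPModular p M)
    (hG10 : ∀ (B : Set (Cfsg.IrrCharacter (Matrix.SpecialLinearGroup (Fin n) F)))
      (_ : Cfsg.IsPBlock M B) (S : Sylow p (Matrix.SpecialLinearGroup (Fin n) F)),
      Cfsg.blockDefect p B = (Nat.card (Matrix.SpecialLinearGroup (Fin n) F)).factorization p ↔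
        Cfsg.IsDefectGroup p M B (S : Subgroup (Matrix.SpecialLinearGroup (Fin n) F)))
    (hC04a : ∀ (P : Sylow p (Matrix.SpecialLinearGroup (Fin n) F))
      (_ : (P : Subgroup (Matrix.SpecialLinearGroup (Fin n) F)) = UT n F),
      Nat.card {C : ConjClasses (Subgroup.normalizer ((P : Subgroup (Matrix.SpecialLinearGroup (Fin n) F)) : Set (Matrix.SpecialLinearGroup (Fin n) F))) // ∀ x : Subgroup.normalizer ((P : Subgroup (Matrix.SpecialLinearGroup (Fin n) F)) : Set (Matrix.SpecialLinearGroup (Fin n) F)), ConjClasses.mk x = C → ¬ p ∣ orderOf x ∧ (x : Matrix.SpecialLinearGroup (Fin n) F) ∈ Subgroup.centralizer ((P : Subgroup (Matrix.SpecialLinearGroup (Fin n) F)) : Set (Matrix.SpecialLinearGroup (Fin n) F))} =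
        Nat.gcd n (Fintype.card F - 1)) :
    Nat.card {B : Set (Cfsg.IrrCharacter (Matrix.SpecialLinearGroup (Fin n) F)) //
      Cfsg.IsPBlock M B ∧ Cfsg.blockDefect p B =
        (Nat.card (Matrix.SpecialLinearGroup (Fin n) F)).factorization p} =
      Nat.gcd n (Fintype.card F - 1) := by
  classical
  obtain ⟨P, hP⟩ := exists_sylow_UT (F := F) p n (by omega)
  have e : {B : Set (Cfsg.IrrCharacter (Matrix.SpecialLinearGroup (Fin n) F)) //
      Cfsg.IsPBlock M B ∧ Cfsg.blockDefect p B =
        (Nat.card (Matrix.SpecialLinearGroup (Fin n) F)).factorization p} ≃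
      {B : Set (Cfsg.IrrCharacter (Matrix.SpecialLinearGroup (Fin n) F)) //
        Cfsg.IsPBlock M B ∧
          Cfsg.IsDefectGroup p M B (P : Subgroup (Matrix.SpecialLinearGroup (Fin n) F))} :=
    Equiv.subtypeEquivRight (fun B => and_congr_right (fun hB => hG10 B hB P))
  rw [Nat.card_congr e, Cfsg.Agent.S0953.result p M hM P, hC04a P hP]

end C

end Cfsg.Agent.Lib.Helper10.SLB
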