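import Mathlib
import Cfsg.Prelude.Def_Blocks
import Cfsg.Agent.Lib.Helper16.AP3
import Cfsg.Agent.Lib.Helper10.SLB.Defs
import Cfsg.Agent.Lib.Helper25.SLBC04core
import Cfsg.Agent.Lib.Helper9.SLBG10
import Cfsg.Agent.Lib.helper15.SLBC04A

/-!
# Project SLB (S4538 + S2440, designer helper10), row C04: `card_full_defect` (helper25), verbatim wrapper
of `slbc04_core` on G10 (helper9) and C04a (helper15).
-/

set_option autoImplicit false

open Polynomial

namespace Cfsg.Agent.Lib.Helper10.SLB

open Cfsg.Agent.Lib.Helper16.AP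

universe u

section C

variable {F : Type u} [Field F] [Fintype F]

/-- C04 [S-M]  deps C04a G10 L10 + landed `Cfsg.Agent.S0953.result`. -/
theorem card_full_defect (p : ℕ) [Fact p.Prime] [CharP F p] (n : ℕ) (hn : 2 ≤ n)
    (M : Ideal Cfsg.AlgInt) (hM : Cfsg.IsPModular p M) :
    Nat.card {B : Set (Cfsg.IrrCharacter (Matrix.SpecialLinearGroup (Fin n) F)) //
      Cfsg.IsPBlock M B ∧ Cfsg.blockDefect p B =
        (Nat.card (Matrix.SpecialLinearGroup (Fin n) F)).factorization p} =
      Nat.gcd n (Fintype.card F - 1) := by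
  classical
  exact slbc04_core p n hn M hM (fun B hB S => full_defect_iff p M hM B hB S)
    (fun P hP => card_classes_UT p n hn P hP)

end C

end Cfsg.Agent.Lib.Helper10.SLB
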