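import Cfsg.Agent.Lib.helper7.SPC.Defs

/-! SPC row D3 (`disc_iso`), helper25. -/

namespace Cfsg.Agent.Lib.helper7.SPC

universe u

open Module

variable {F : Type u} [Field F]

theorem spcd3_iso_pow {T T' : Trip F} (e : T.V ≃ₗ[F] T'.V) (hN : ∀ x, e (T.N x) = T'.N (e x))
    (j : ℕ) (x : T.V) : e ((T.N ^ j) x) = (T'.N ^ j) (e x) := by
  induction j generalizing x with
  | zero => rfl
  | succ n ih =>
    rw [pow_succ, pow_succ, Module.End.mul_apply, Module.End.mul_apply, ih, hN]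

theorem spcd3_iso_beta {T T' : Trip F} (e : T.V ≃ₗ[F] T'.V)
    (hB : ∀ x y, T'.B (e x) (e y) = T.B x y) (hN : ∀ x, e (T.N x) = T'.N (e x))
    (k : ℕ) (x y : T.V) : T'.beta k (e x) (e y) = T.beta k x y := by
  unfold Trip.beta
  rw [← spcd3_iso_pow e hN, hB]

theorem disc_iso {T T' : Trip F} (h : TIso T T') (k r : ℕ) (d : F) (hd : HasDisc T k r d) :
    HasDisc T' k r d := by
  obtain ⟨e, hB, hN⟩ := h
  obtain ⟨ι, hfin, hdec, u, c, hcard, hker, hc, hbeta, hrad, hprod⟩ := hd
  refine ⟨ι, hfin, hdec, fun i => e (u i), c, hcard, ?_, hc, ?_, ?_, hprod⟩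
  · intro i
    rw [← spcd3_iso_pow e hN, hker i, map_zero]
  · intro i j
    rw [spcd3_iso_beta e hB hN, hbeta]
  · intro z' hz'
    have hz : (T.N ^ k) (e.symm z') = 0 := by
      apply e.injective
      rw [spcd3_iso_pow e hN, e.apply_symm_apply, hz', map_zero]
    obtain ⟨a, ha⟩ := hrad (e.symm z') hz
    refine ⟨a, fun w' hw' => ?_⟩
    have hw : (T.N ^ k) (e.symm w') = 0 := by
      apply e.injective
      rw [spcd3_iso_pow e hN, e.apply_symm_apply, hw', map_zero]
    have h1 : z' - ∑ i, a i • e (u i) = e (e.symm z' - ∑ i, a i • u i) := by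
      rw [map_sub, map_sum, e.apply_symm_apply]
      simp only [map_smul]
    have h2 : w' = e (e.symm w') := (e.apply_symm_apply w').symm
    rw [h1, h2, spcd3_iso_beta e hB hN]
    exact ha _ hw

end Cfsg.Agent.Lib.helper7.SPC
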