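import Cfsg.Agent.Lib.Helper19.SW.Defs
import Cfsg.Agent.Lib.Helper25.SWA1
import Cfsg.Agent.Lib.Helper27.SWA2
import Cfsg.Agent.Lib.helper15.SWA3
import Cfsg.Agent.Lib.Helper24.SWA5
import Cfsg.Agent.Lib.Helper9.SWB1
import Cfsg.Agent.Lib.Helper1.SWB2
import Cfsg.Agent.Lib.Helper1.SWB3

set_option autoImplicit false

namespace Cfsg.Agent.Lib.Helper19.SW


variable {G : Type*} [Group G] {Ω : Type*} [MulAction G Ω] {R : Ω → Ω → Prop} {a b : Ω}

/-! ## Piece B4 : consequences of `|C| = 2` -/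
section B4pre

/-- a subgroup of order two. -/
theorem b4_card_two {H : Subgroup G} (hH : Nat.card H = 2) :
    ∃ r ∈ H, r ≠ 1 ∧ ∀ x, x ∈ H ↔ (x = 1 ∨ x = r) := by
  obtain ⟨⟨r, hr⟩, hr1, hru⟩ := (Nat.card_eq_two_iff' (1 : H)).mp hH
  have hr1' : r ≠ 1 := fun hh => hr1 (Subtype.ext hh)
  refine ⟨r, hr, hr1', fun x => ⟨fun hx => ?_, ?_⟩⟩
  · by_cases hx1 : x = 1
    · exact Or.inl hx1
    · right
      have := hru ⟨x, hx⟩ (fun hh => hx1 (congrArg Subtype.val hh))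
      exact congrArg Subtype.val this
  · rintro (rfl | rfl)
    · exact H.one_mem
    · exact hr

theorem b4_adj {u w : Ω} (h : R u w) : AdjS R (⟨u, true⟩ : SVtx Ω) ⟨w, false⟩ :=
  (adjS_out u _).mpr ⟨rfl, h⟩

theorem b4_adj' {u w : Ω} (h : R u w) : AdjS R (⟨w, false⟩ : SVtx Ω) ⟨u, true⟩ :=
  (adjS_in w _).mpr ⟨rfl, h⟩

theorem b4_Zp_le_Gs (u : Ω) : Zp G R u ≤ MulAction.stabilizer G u := by
  unfold Zp
  refine iSup₂_le fun w _ => ?_
  intro z hz
  exact (Subgroup.mem_inf.mp hz.1).1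

theorem b4_conj_Cp (S : SimsSetting G R a b) (g : G) (u : Ω) (x : G) :
    g * x * g⁻¹ ∈ Cp G R (g • u) ↔ x ∈ Cp G R u := by
  have := conj_mem_Cs (ls3 S) g (⟨u, true⟩ : SVtx Ω) x
  rw [Cs_S S, Cs_S S] at this
  exact this

theorem b4_conj_rp (S : SimsSetting G R a b) (g : G) (u w : Ω) (x : G) :
    g * x * g⁻¹ ∈ rp G R (g • u) (g • w) ↔ x ∈ rp G R u w := by
  have := conj_mem_rs (ls3 S) g (⟨u, true⟩ : SVtx Ω) ⟨w, false⟩ x
  rw [rs_S S, rs_S S] at this
  exact this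

end B4pre

section B4

variable (S : SimsSetting G R a b) (hC : Nat.card (Cp G R a) = 2)
include S hC

theorem b4_card_Cp (u : Ω) : Nat.card (Cp G R u) = 2 := (card_Cp_eq S u a).trans hC

theorem b4_cEl_spec (u : Ω) : cEl G R u ∈ Cp G R u ∧ cEl G R u ≠ 1 := by
  obtain ⟨r, hr, hr1, -⟩ := b4_card_two (b4_card_Cp S hC u)
  have h : ∃ x ∈ Cp G R u, x ≠ 1 := ⟨r, hr, hr1⟩
  unfold cEl
  rw [dif_pos h]
  exact h.choose_spec

theorem cEl_mem (u : Ω) : cEl G R u ∈ Cp G R u := (b4_cEl_spec S hC u).1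

theorem cEl_ne_one (u : Ω) : cEl G R u ≠ 1 := (b4_cEl_spec S hC u).2

theorem eq_cEl {u : Ω} {x : G} (hx : x ∈ Cp G R u) (hne : x ≠ 1) : x = cEl G R u := by
  obtain ⟨r, hr, hr1, hall⟩ := b4_card_two (b4_card_Cp S hC u)
  have h1 : x = r := by
    rcases (hall x).mp hx with h | h
    · exact absurd h hne
    · exact h
  have h2 : cEl G R u = r := by
    rcases (hall _).mp (cEl_mem S hC u) with h | h
    · exact absurd h (cEl_ne_one S hC u)
    · exact h
  rw [h1, h2]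

theorem cEl_sq (u : Ω) : cEl G R u ^ 2 = 1 := by
  by_contra hne
  have hmem : cEl G R u ^ 2 ∈ Cp G R u := Subgroup.pow_mem _ (cEl_mem S hC u) 2
  have := eq_cEl S hC hmem hne
  rw [pow_two] at this
  have h1 : cEl G R u = 1 := by
    have := mul_left_cancel (this.trans (mul_one _).symm)
    exact this
  exact cEl_ne_one S hC u h1

theorem cEl_smul (g : G) (u : Ω) : cEl G R (g • u) = g * cEl G R u * g⁻¹ := by
  symm
  apply eq_cEl S hC
  · exact (b4_conj_Cp S g u _).mpr (cEl_mem S hC u)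
  · intro hh
    exact cEl_ne_one S hC u (conj_eq_one_iff.mp hh)

theorem comm_cEl_of_mem_Gs {u : Ω} {g : G} (hg : g ∈ MulAction.stabilizer G u) :
    g * cEl G R u = cEl G R u * g := by
  have hc := cEl_mem S hC u
  unfold Cp at hc
  exact Subgroup.mem_centralizer_iff.mp (Subgroup.mem_inf.mp hc).2 g hg

theorem b4_cEl_mem_Gs (u : Ω) : cEl G R u ∈ MulAction.stabilizer G u := by
  have hc := cEl_mem S hC u
  unfold Cp at hc
  exact b4_Zp_le_Gs u (Subgroup.mem_inf.mp hc).1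

theorem cEl_injective {u w : Ω} (h : cEl G R u = cEl G R w) : u = w := by
  by_contra hne
  have htop := Gs_sup_eq_top S hne
  -- c_u is central in G
  have hcen : cEl G R u ∈ Subgroup.center G := by
    have hle : MulAction.stabilizer G u ⊔ MulAction.stabilizer G w ≤
        Subgroup.centralizer ({cEl G R u} : Set G) := by
      refine sup_le ?_ ?_
      · intro g hg
        rw [Subgroup.mem_centralizer_iff]
        intro x hx
        rw [Set.mem_singleton_iff] at hx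
        rw [hx]
        exact (comm_cEl_of_mem_Gs S hC hg).symm
      · intro g hg
        rw [Subgroup.mem_centralizer_iff]
        intro x hx
        rw [Set.mem_singleton_iff] at hx
        rw [hx, h]
        exact (comm_cEl_of_mem_Gs S hC hg).symm
    rw [htop] at hle
    rw [Subgroup.mem_center_iff]
    intro g
    have := Subgroup.mem_centralizer_iff.mp (hle (Subgroup.mem_top g)) (cEl G R u) rfl
    exact this.symm
  let N : Subgroup G := Subgroup.center G ⊓ MulAction.stabilizer G u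
  have hN : N.Normal := by
    refine ⟨fun n hn g => ?_⟩
    have hnc := Subgroup.mem_center_iff.mp (Subgroup.mem_inf.mp hn).1
    have : g * n * g⁻¹ = n := by
      rw [hnc g, mul_assoc, mul_inv_cancel, mul_one]
    rw [this]
    exact hn
  have hbot := corefree_all S u N hN inf_le_right
  have hmem : cEl G R u ∈ N := Subgroup.mem_inf.mpr ⟨hcen, b4_cEl_mem_Gs S hC u⟩
  rw [hbot, Subgroup.mem_bot] at hmem
  exact cEl_ne_one S hC u hmem

/-- `C_G(c_u) = G_u`. -/
theorem mem_Gs_of_comm_cEl {u : Ω} {g : G} (hg : g * cEl G R u = cEl G R u * g) :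
    g ∈ MulAction.stabilizer G u := by
  rw [MulAction.mem_stabilizer_iff]
  apply cEl_injective S hC
  rw [cEl_smul S hC, hg, mul_assoc, mul_inv_cancel, mul_one]

theorem mem_Cp_iff (u : Ω) (x : G) : x ∈ Cp G R u ↔ (x = 1 ∨ x = cEl G R u) := by
  constructor
  · intro hx
    by_cases h1 : x = 1
    · exact Or.inl h1
    · exact Or.inr (eq_cEl S hC hx h1)
  · rintro (rfl | rfl)
    · exact Subgroup.one_mem _
    · exact cEl_mem S hC u

theorem b4_Cp_le_OZ_left {u w : Ω} (h : R u w) : Cp G R u ≤ OZ (Ts G u w) := by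
  have := Cs_le_OZ (ls3 S) (b4_adj (R := R) h)
  rw [Cs_S S, Ts_S] at this
  exact this

theorem b4_Cp_le_OZ_right {u w : Ω} (h : R u w) : Cp G R w ≤ OZ (Ts G u w) := by
  have := Cs_le_OZ (ls3 S) (b4_adj' (R := R) h)
  rw [Cs_S S, Ts_S] at this
  rw [Ts_comm u w]
  exact this

theorem b4_Cp_inf {u w : Ω} (h : R u w) : Cp G R u ⊓ Cp G R w = ⊥ := by
  have := Cs_inf_Cs (ls3 S) (b4_adj (R := R) h)
  rw [Cs_S S, Cs_S S] at this
  exact this

theorem b4_card_OZ {u w : Ω} (h : R u w) : Nat.card (OZ (Ts G u w)) = 4 := by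
  have := card_OZ (ls3 S) (quad_S S (⟨u, true⟩ : SVtx Ω)) (b4_adj (R := R) h)
  rw [Cs_S S, Ts_S] at this
  rw [this]
  show 2 * Nat.card (Cp G R u) = 4
  rw [b4_card_Cp S hC u]

/-- `Ω₁Z(T_uw) = {1, c_u, c_w, c_u c_w}`. -/
theorem mem_OZ_iff_S {u w : Ω} (h : R u w) (x : G) :
    x ∈ OZ (Ts G u w) ↔ (x = 1 ∨ x = cEl G R u ∨ x = cEl G R w ∨ x = cEl G R u * cEl G R w) := by
  have hcu : cEl G R u ∈ OZ (Ts G u w) := b4_Cp_le_OZ_left S hC h (cEl_mem S hC u)
  have hcw : cEl G R w ∈ OZ (Ts G u w) := b4_Cp_le_OZ_right S hC h (cEl_mem S hC w)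
  constructor
  · intro hx
    have hfin : Finite (OZ (Ts G u w)) :=
      Nat.finite_of_card_ne_zero (by rw [b4_card_OZ S hC h]; norm_num)
    let f : (Cp G R u) × (Cp G R w) → OZ (Ts G u w) := fun p =>
      ⟨(p.1 : G) * (p.2 : G), Subgroup.mul_mem _ (b4_Cp_le_OZ_left S hC h p.1.2)
        (b4_Cp_le_OZ_right S hC h p.2.2)⟩
    have hinj : Function.Injective f := by
      rintro ⟨⟨x₁, hx₁⟩, ⟨y₁, hy₁⟩⟩ ⟨⟨x₂, hx₂⟩, ⟨y₂, hy₂⟩⟩ hf
      have hf' : x₁ * y₁ = x₂ * y₂ := congrArg Subtype.val hf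
      have hz : x₂⁻¹ * x₁ = y₂ * y₁⁻¹ := by
        calc x₂⁻¹ * x₁ = x₂⁻¹ * (x₁ * y₁) * y₁⁻¹ := by group
          _ = x₂⁻¹ * (x₂ * y₂) * y₁⁻¹ := by rw [hf']
          _ = y₂ * y₁⁻¹ := by group
      have hmem : x₂⁻¹ * x₁ ∈ Cp G R u ⊓ Cp G R w := by
        refine Subgroup.mem_inf.mpr ⟨Subgroup.mul_mem _ (Subgroup.inv_mem _ hx₂) hx₁, ?_⟩
        rw [hz]
        exact Subgroup.mul_mem _ hy₂ (Subgroup.inv_mem _ hy₁)
      rw [b4_Cp_inf S hC h, Subgroup.mem_bot] at hmem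
      have hx12 : x₁ = x₂ := by
        have := inv_mul_eq_one.mp hmem
        exact this.symm
      have hy12 : y₁ = y₂ := by
        rw [hx12] at hf'
        exact mul_left_cancel hf'
      subst hx12
      subst hy12
      rfl
    have hcard : Nat.card (OZ (Ts G u w)) ≤ Nat.card ((Cp G R u) × (Cp G R w)) := by
      rw [Nat.card_prod, b4_card_Cp S hC u, b4_card_Cp S hC w, b4_card_OZ S hC h]
    have hbij := hinj.bijective_of_nat_card_le hcard
    obtain ⟨⟨⟨x₁, hx₁⟩, ⟨y₁, hy₁⟩⟩, hxy⟩ := hbij.2 ⟨x, hx⟩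
    have hxy' : x₁ * y₁ = x := congrArg Subtype.val hxy
    rcases (mem_Cp_iff S hC u x₁).mp hx₁ with rfl | rfl <;>
      rcases (mem_Cp_iff S hC w y₁).mp hy₁ with rfl | rfl
    · left
      rw [← hxy', one_mul]
    · right; right; left
      rw [← hxy', one_mul]
    · right; left
      rw [← hxy', mul_one]
    · right; right; right
      exact hxy'.symm
  · rintro (rfl | rfl | rfl | rfl)
    · exact Subgroup.one_mem _
    · exact hcu
    · exact hcw
    · exact Subgroup.mul_mem _ hcu hcw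

/-- `r(u;w) = ⟨c_w⟩` or `⟨c_u c_w⟩`. -/
theorem rp_cases_out {u w : Ω} (h : R u w) :
    (∀ x, x ∈ rp G R u w ↔ (x = 1 ∨ x = cEl G R w)) ∨
    (∀ x, x ∈ rp G R u w ↔ (x = 1 ∨ x = cEl G R u * cEl G R w)) := by
  have hq := quad_S S (⟨u, true⟩ : SVtx Ω)
  have hadj := b4_adj (R := R) h
  have hcard : Nat.card (rp G R u w) = 2 := by
    have := rs_card (ls3 S) hq hadj
    rw [rs_S S] at this
    exact this
  have hle : rp G R u w ≤ OZ (Ts G u w) := by
    have := rs_le_OZ (ls3 S) hq hadj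
    rw [rs_S S, Ts_S] at this
    exact this
  have hinf : rp G R u w ⊓ Cp G R u = ⊥ := by
    have := rs_inf_Cs (ls3 S) hq hadj
    rw [rs_S S, Cs_S S] at this
    exact this
  obtain ⟨r, hr, hr1, hall⟩ := b4_card_two hcard
  have hrne : r ≠ cEl G R u := by
    intro hh
    have hmem : r ∈ rp G R u w ⊓ Cp G R u :=
      Subgroup.mem_inf.mpr ⟨hr, by rw [hh]; exact cEl_mem S hC u⟩
    rw [hinf, Subgroup.mem_bot] at hmem
    exact hr1 hmem
  rcases (mem_OZ_iff_S S hC h r).mp (hle hr) with h1 | h1 | h1 | h1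
  · exact absurd h1 hr1
  · exact absurd h1 hrne
  · left
    intro x
    rw [hall x, h1]
  · right
    intro x
    rw [hall x, h1]

/-- `r(w;u) = ⟨c_u⟩` or `⟨c_u c_w⟩`. -/
theorem rp_cases_in {u w : Ω} (h : R u w) :
    (∀ x, x ∈ rp G R w u ↔ (x = 1 ∨ x = cEl G R u)) ∨
    (∀ x, x ∈ rp G R w u ↔ (x = 1 ∨ x = cEl G R u * cEl G R w)) := by
  have hq := quad_S S (⟨w, false⟩ : SVtx Ω)
  have hadj := b4_adj' (R := R) h
  have hcard : Nat.card (rp G R w u) = 2 := by
    have := rs_card (ls3 S) hq hadj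
    rw [rs_S S] at this
    exact this
  have hle : rp G R w u ≤ OZ (Ts G u w) := by
    have := rs_le_OZ (ls3 S) hq hadj
    rw [rs_S S, Ts_S] at this
    rw [Ts_comm u w]
    exact this
  have hinf : rp G R w u ⊓ Cp G R w = ⊥ := by
    have := rs_inf_Cs (ls3 S) hq hadj
    rw [rs_S S, Cs_S S] at this
    exact this
  obtain ⟨r, hr, hr1, hall⟩ := b4_card_two hcard
  have hrne : r ≠ cEl G R w := by
    intro hh
    have hmem : r ∈ rp G R w u ⊓ Cp G R w :=
      Subgroup.mem_inf.mpr ⟨hr, by rw [hh]; exact cEl_mem S hC w⟩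
    rw [hinf, Subgroup.mem_bot] at hmem
    exact hr1 hmem
  rcases (mem_OZ_iff_S S hC h r).mp (hle hr) with h1 | h1 | h1 | h1
  · exact absurd h1 hr1
  · left
    intro x
    rw [hall x, h1]
  · exact absurd h1 hrne
  · right
    intro x
    rw [hall x, h1]

/-- if `Pin` fails, then `r(u;w) = ⟨c_u c_w⟩` for every arc. -/
theorem rp_of_not_pin (hP : ¬ Pin G R) {u w : Ω} (h : R u w) (x : G) :
    x ∈ rp G R u w ↔ (x = 1 ∨ x = cEl G R u * cEl G R w) := by
  unfold Pin at hP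
  push Not at hP
  obtain ⟨u₀, w₀, h₀, hne⟩ := hP
  have h2 : ∀ y, y ∈ rp G R u₀ w₀ ↔ (y = 1 ∨ y = cEl G R u₀ * cEl G R w₀) := by
    rcases rp_cases_out S hC h₀ with h1 | h1
    · exfalso
      apply hne
      ext y
      rw [h1 y, mem_Cp_iff S hC w₀ y]
    · exact h1
  obtain ⟨g, hgu, hgw⟩ := arc_trans S h₀ h
  have hconj := b4_conj_rp S g u₀ w₀ (g⁻¹ * x * g)
  rw [hgu, hgw] at hconj
  have hx : g * (g⁻¹ * x * g) * g⁻¹ = x := by group
  rw [hx] at hconj
  rw [hconj, h2]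
  have hcu : cEl G R u = g * cEl G R u₀ * g⁻¹ := by rw [← hgu, cEl_smul S hC]
  have hcw : cEl G R w = g * cEl G R w₀ * g⁻¹ := by rw [← hgw, cEl_smul S hC]
  constructor
  · rintro (h1 | h1)
    · left
      have : x = g * (g⁻¹ * x * g) * g⁻¹ := hx.symm
      rw [this, h1]
      group
    · right
      have : x = g * (g⁻¹ * x * g) * g⁻¹ := hx.symm
      rw [this, h1, hcu, hcw]
      group
  · rintro (h1 | h1)
    · left
      rw [h1]
      group
    · right
      rw [h1, hcu, hcw]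
      group

end B4

end Cfsg.Agent.Lib.Helper19.SW
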