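import Mathlib
import Cfsg.Agent.Lib.Helper24.APF.Defs

set_option autoImplicit false

/-! APF-NPP: criteria for a permutation not to have prime power order. -/

namespace Cfsg.Agent.Lib.Helper24.APF

open Equiv

theorem not_ppow_of_fixed {α : Type*} [Fintype α] [DecidableEq α] (p : ℕ) (hp : p.Prime)
    (g : Perm α)
    (h : ¬ (Fintype.card α ≡ (Finset.univ.filter (fun x : α => g x = x)).card [MOD p])) :
    ¬ ∃ k : ℕ, orderOf g = p ^ k := by
  rintro ⟨k, hk⟩
  have : Fact p.Prime := ⟨hp⟩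
  have h1 : g ^ p ^ k = 1 := by rw [← hk]; exact pow_orderOf_eq_one g
  have h2 := Equiv.Perm.card_compl_support_modEq h1
  have h3 : g.supportᶜ = Finset.univ.filter (fun x : α => g x = x) := by
    ext x
    simp [Equiv.Perm.mem_support]
  rw [h3] at h2
  exact h h2.symm

theorem not_ppow_of_odd_pow {α : Type*} [Fintype α] [DecidableEq α] (p : ℕ) (hp : Odd p)
    (g : Perm α) (x : α) (h : ∀ m : ℕ, Odd m → (g ^ m) x ≠ x) :
    ¬ ∃ k : ℕ, orderOf g = p ^ k := by
  rintro ⟨k, hk⟩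
  apply h (p ^ k) hp.pow
  rw [← hk, pow_orderOf_eq_one]
  rfl

end Cfsg.Agent.Lib.Helper24.APF
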