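import Mathlib
import Cfsg.Agent.Lib.Helper24.APF.Defs

set_option autoImplicit false

/-! APF-CYC: the translation by one on `ZMod ℓ` is an `ℓ`-cycle. -/

namespace Cfsg.Agent.Lib.Helper24.APF

open Equiv

theorem cycleType_addRight_one (ℓ : ℕ) [NeZero ℓ] (h2 : 2 ≤ ℓ) :
    (Equiv.addRight (1 : ZMod ℓ)).cycleType = {ℓ} := by
  have : Fact (1 < ℓ) := ⟨h2⟩
  have hsupp : (Equiv.addRight (1 : ZMod ℓ)).support = Finset.univ := by
    ext x
    simp only [Equiv.Perm.mem_support, Finset.mem_univ, iff_true, Equiv.coe_addRight]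
    intro h
    exact one_ne_zero (add_eq_left.mp h)
  have hcyc : (Equiv.addRight (1 : ZMod ℓ)).IsCycle := by
    refine ⟨0, ?_, fun y _ => ⟨(y.val : ℤ), ?_⟩⟩
    · simp
    · rw [zpow_natCast, Equiv.nsmul_addRight]
      simp
  rw [hcyc.cycleType, hsupp, Finset.card_univ, ZMod.card]

end Cfsg.Agent.Lib.Helper24.APF
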