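import Mathlib
import Cfsg.Agent.Lib.helper3.BSZ.Defs

/-!
# Project BSZ, row B04 (`zs_ti`), verbatim vs `helper3/BSZ/Skel.lean.txt`.
-/

set_option autoImplicit false

namespace Cfsg.Agent.Lib.helper3.BSZ

open Cfsg Cfsg.Agent.Lib.helper3

variable {F : Type*} [Field F] [Fintype F] {m : ℕ}

/-- B04 [S]: `h = gT 0 β`, `a⁻¹ * h * a = gT 0 β'`; if `β ≠ 0` then `β' ≠ 0` and `gT 0 β'` fixes only `oInf` (`gT_fixed`), but it fixes `a⁻¹ • oInf`; so `a • oInf = oInf`. -/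
theorem zs_ti (hF : Fintype.card F = 2 ^ (2 * m + 1)) (hm : 1 ≤ m) {a : Sz F m}
    (ha : a • oInf F m ≠ oInf F m) {h : Sz F m} (hh : h ∈ Zs hF) (hh' : a⁻¹ * h * a ∈ Zs hF) : h = 1 := by
  obtain ⟨β, rfl⟩ := (mem_Zs hF).1 hh
  obtain ⟨β', hβ'⟩ := (mem_Zs hF).1 hh'
  by_cases hβ : β = 0
  · rw [hβ, gT_zero]
  exfalso
  -- `gT 0 β` fixes `oInf`
  have hfix : gT hF 0 β • oInf F m = oInf F m := gT_oInf hF 0 β
  have hβ'0 : β' ≠ 0 := by
    intro h0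
    rw [h0, gT_zero] at hβ'
    have : gT hF 0 β = 1 := by
      have h1 : a * (a⁻¹ * gT hF 0 β * a) * a⁻¹ = a * 1 * a⁻¹ := by rw [hβ']
      have h2 : a * (a⁻¹ * gT hF 0 β * a) * a⁻¹ = gT hF 0 β := by group
      rw [h2] at h1
      simpa using h1
    exact gT_zero_ne_one hF hβ this
  -- `gT 0 β'` fixes `a⁻¹ • oInf`
  have hfix' : gT hF 0 β' • (a⁻¹ • oInf F m) = a⁻¹ • oInf F m := by
    rw [← hβ', ← mul_smul]
    have : a⁻¹ * gT hF 0 β * a * a⁻¹ = a⁻¹ * gT hF 0 β := by group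
    rw [this, mul_smul, hfix]
  have hinf : a⁻¹ • oInf F m = oInf F m :=
    gT_fixed hF (a := 0) (b := β') (fun hc => hβ'0 hc.2) hfix'
  apply ha
  have := congrArg (fun p => a • p) hinf
  simp only [smul_inv_smul] at this
  exact this.symm

end Cfsg.Agent.Lib.helper3.BSZ
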