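import Mathlib
import Cfsg.Agent.Lib.helper3.C6U.Defs
import Cfsg.Agent.Lib.Lead.Unitary

/-!
# C6U row B1 (helper25): `gu_iff`, verbatim: membership in `GU 4 F p` in matrix form.
-/

set_option autoImplicit false
set_option linter.unusedVariables false
set_option linter.unusedSectionVars false

namespace Cfsg.Agent.Lib.helper3.C6U

open Polynomial Matrix
open Cfsg.Agent.Lib.Helper10.C6P
open scoped MatrixGroups

variable {F : Type*} [Field F]

section fin

variable [Fintype F] {p : ℕ} [Fact p.Prime] [CharP F p]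

/-- general `n`, any matrix: preserving `hermForm n F p` is `Mᵀ * M.map (· ^ p) = 1` (no cardinality hypothesis). -/
theorem c6ub1_preserves {n : ℕ} (M : Matrix (Fin n) (Fin n) F) :
    (∀ u v, Cfsg.hermForm n F p (M *ᵥ u) (M *ᵥ v) = Cfsg.hermForm n F p u v) ↔
      Mᵀ * M.map (fun a => a ^ p) = 1 := by
  rw [Cfsg.Agent.Lib.Lead.preserves_iff (frobenius F p) (fun x => frobenius_def p x) M]
  have h : M.map (frobenius F p) = M.map (fun a => a ^ p) := by
    ext a b
    simp [frobenius_def]
  rw [h]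

/-- general `n`: membership in `GU n F p` in matrix form. -/
theorem c6ub1_mem {n : ℕ} (g : GL (Fin n) F) :
    g ∈ Cfsg.GU n F p ↔
      (g : Matrix (Fin n) (Fin n) F)ᵀ * (g : Matrix (Fin n) (Fin n) F).map (fun a => a ^ p) = 1 := by
  rw [← c6ub1_preserves]
  exact Iff.rfl

/-- B1 [S-M] : membership in `GU 4 F p` in matrix form (Lead `Unitary.preserves_iff` with `σ = frobenius`; helper6 `HermFrames.mem_GU`). -/
theorem gu_iff (hF : Fintype.card F = p ^ 2) (g : GL (Fin 4) F) : g ∈ Cfsg.GU 4 F p ↔ IsU p (g : M4 F) := by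
  exact c6ub1_mem g

end fin

end Cfsg.Agent.Lib.helper3.C6U
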