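import Mathlib
import Cfsg.Agent.Lib.helper3.C6U.Defs
import Cfsg.Agent.Lib.helper15.C6UW1

/-!
# C6U row B4, second copy (helper25): `c6ub4_h25` has the statement of `pauli_unitary`.
-/

set_option autoImplicit false
set_option linter.unusedVariables false
set_option linter.unusedSectionVars false

namespace Cfsg.Agent.Lib.helper3.C6U

open Polynomial Matrix
open Cfsg.Agent.Lib.Helper10.C6P
open scoped MatrixGroups

variable {F : Type*} [Field F]

section fin

variable [Fintype F] {p : ℕ} [Fact p.Prime] [CharP F p]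

theorem c6ub4h25_neg_one : ((-1 : F)) ^ p = -1 := by
  have h := map_neg (frobenius F p) 1
  rw [map_one, frobenius_def] at h
  exact h

theorem c6ub4h25_zero : ((0 : F)) ^ p = 0 := zero_pow (Fact.out : p.Prime).ne_zero

/-- the identity is unitary -/
theorem c6ub4h25_isU_one : IsU p (1 : M4 F) := by
  unfold IsU gram
  rw [Matrix.transpose_one, Matrix.one_mul]
  ext a b
  by_cases hab : a = b
  · subst hab; simp
  · simp [Matrix.one_apply_ne hab, c6ub4h25_zero (F := F) (p := p)]

/-- powers of unitary matrices are unitary -/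
theorem c6ub4h25_isU_pow (A : M4 F) (hA : IsU p A) (n : ℕ) : IsU p (A ^ n) := by
  induction n with
  | zero => rw [pow_zero]; exact c6ub4h25_isU_one
  | succ n ih => rw [pow_succ]; exact c6uw1_isU_mul _ _ ih hA

/-- scalars of norm one times unitary matrices are unitary -/
theorem c6ub4h25_isU_smul (s : F) (hs : s ^ (p + 1) = 1) (A : M4 F) (hA : IsU p A) : IsU p (s • A) := by
  unfold IsU gram at hA ⊢
  have h1 : (s • A).map (fun a => a ^ p) = s ^ p • A.map (fun a => a ^ p) := by
    ext a b
    simp [mul_pow]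
  rw [h1, Matrix.transpose_smul, Matrix.smul_mul, Matrix.mul_smul, smul_smul, hA]
  have h2 : s * s ^ p = 1 := by rw [← hs, pow_succ]; ring
  rw [h2, one_smul]

/-- a matrix with entries fixed by Frobenius is unitary iff it is orthogonal -/
theorem c6ub4h25_isU_of_fixed (A : M4 F) (hfix : ∀ a b, A a b ^ p = A a b) (hAA : A.transpose * A = 1) : IsU p A := by
  unfold IsU gram
  have h1 : A.map (fun a => a ^ p) = A := by
    ext a b
    exact hfix a b
  rw [h1, hAA]

theorem c6ub4h25_pD1 : IsU p (pD1 : M4 F) := by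
  apply c6ub4h25_isU_of_fixed
  · intro a b
    fin_cases a <;> fin_cases b <;>
      simp [pD1, c6ub4h25_neg_one (F := F) (p := p), c6ub4h25_zero (F := F) (p := p)]
  · ext a b
    fin_cases a <;> fin_cases b <;> simp [pD1, Matrix.mul_apply, Fin.sum_univ_four]

theorem c6ub4h25_pD2 : IsU p (pD2 : M4 F) := by
  apply c6ub4h25_isU_of_fixed
  · intro a b
    fin_cases a <;> fin_cases b <;>
      simp [pD2, c6ub4h25_neg_one (F := F) (p := p), c6ub4h25_zero (F := F) (p := p)]
  · ext a b
    fin_cases a <;> fin_cases b <;> simp [pD2, Matrix.mul_apply, Fin.sum_univ_four]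

theorem c6ub4h25_pX1 : IsU p (pX1 : M4 F) := by
  apply c6ub4h25_isU_of_fixed
  · intro a b
    fin_cases a <;> fin_cases b <;>
      simp [pX1, c6ub4h25_neg_one (F := F) (p := p), c6ub4h25_zero (F := F) (p := p)]
  · ext a b
    fin_cases a <;> fin_cases b <;> simp [pX1, Matrix.mul_apply, Fin.sum_univ_four]

theorem c6ub4h25_pX2 : IsU p (pX2 : M4 F) := by
  apply c6ub4h25_isU_of_fixed
  · intro a b
    fin_cases a <;> fin_cases b <;>
      simp [pX2, c6ub4h25_neg_one (F := F) (p := p), c6ub4h25_zero (F := F) (p := p)]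
  · ext a b
    fin_cases a <;> fin_cases b <;> simp [pX2, Matrix.mul_apply, Fin.sum_univ_four]

/-- B4 (second copy, helper25): the statement of `pauli_unitary`. -/
theorem c6ub4_h25 (i : F) (hi : i * i = -1) (hip : i ^ p = -i) (a b c d e : ℕ) : IsU p (pauliM i a b c d e) := by
  unfold pauliM
  apply c6ub4h25_isU_smul
  · have h1 : i ^ (p + 1) = 1 := by
      rw [pow_succ, hip]
      linear_combination -hi
    rw [← pow_mul, mul_comm, pow_mul, h1, one_pow]
  · exact c6uw1_isU_mul _ _ (c6uw1_isU_mul _ _ (c6uw1_isU_mul _ _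
      (c6ub4h25_isU_pow _ c6ub4h25_pD1 b) (c6ub4h25_isU_pow _ c6ub4h25_pX1 c))
      (c6ub4h25_isU_pow _ c6ub4h25_pD2 d)) (c6ub4h25_isU_pow _ c6ub4h25_pX2 e)

end fin

end Cfsg.Agent.Lib.helper3.C6U
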