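import Mathlib
import Cfsg.Agent.Lib.helper17.STM.Defs
import Cfsg.Agent.Lib.helper17.STM.Defs2
import Cfsg.Agent.Lib.helper17.STM.Defs3
import Cfsg.Agent.Lib.Helper24.STCI1
import Cfsg.Agent.Lib.Helper20.STCR1
import Cfsg.Agent.Lib.Helper20.STMR0
import Cfsg.Agent.Lib.Helper20.STMR3
import Cfsg.Agent.Lib.Helper16.STMR4
import Cfsg.Agent.Lib.Helper16.STMR6
import Cfsg.Agent.Lib.Helper20.STMN1

/-!
# STM (designer helper17), part 3, row J2 `SysM.Rep.Y_fix_eq_one` (helper25): the CORE (port of `Helper1.STBJ2core`).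
Hypotheses = the statements of N7 `Yg_decomp2` (at `o`, `o'`) and J1 `Yg_fix_phi_eq_one` (at `o`).
Cited from main: R0 (`Helper20.STMR0`), R3 (`Helper20.STMR3`), R4 `XQ_rowStab` (`Helper16.STMR4`), R6 `Yg_apply` (`Helper16.STMR6`), N1b (`Helper20.STMN1`).
-/

set_option autoImplicit false

namespace Cfsg.Agent.Lib.helper17.STM

open Matrix Cfsg.Agent.Lib.helper15.St2 Cfsg.Agent.Lib.helper3.STC Cfsg.Agent.Lib.Lead.STD

section R0
variable {l : Type*} [Fintype l] [DecidableEq l] {F : Type*} [Field F] {A B : F}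

/-- the coordinate `c` of the column `p` is the coordinate `p` of the row `c` -/
theorem stmj2_coord (M : Matrix (Im l) (Im l) F) (p c : Im l) : (M *ᵥ evm p) c = (evm c ᵥ* M) p := by
  unfold evm
  rw [Matrix.mulVec_single_one, Matrix.single_one_vecMul]
  rfl

/-- the coordinate computation of J2 -/
theorem stmj2_coords {p r : l ⊕ l} (hrp : r ≠ p) (hrnp : r ≠ ng p)
    (v₀ : Im l → F) (hp : v₀ (Sum.inl p) = 1) (hr : v₀ (Sum.inl r) = 0) (hnr : v₀ (Sum.inl (ng r)) = 0) (u u' : F)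
    (h : TmL r p u *ᵥ (TmL (ng r) p u' *ᵥ v₀) = Pi.single (Sum.inl p) 1) : u = 0 ∧ u' = 0 := by
  have f1 : p ≠ ng r := fun h => hrnp (by rw [h, ng_ng])
  have f3 : ng r ≠ r := ng_ne r
  have f4 : ng p ≠ r := fun h => hrnp h.symm
  have f5 : ng p ≠ ng r := fun h => hrp (ng_inj.1 h).symm
  have f6 : ng r ≠ p := fun h => f1 h.symm
  rw [TmL_mulVec (ng r) p, TmL_mulVec r p] at h
  have h1 := congrFun h (Sum.inl r)
  have h2 := congrFun h (Sum.inl (ng r))
  simp only [Pi.add_apply, Pi.sub_apply, Pi.single_apply, Sum.inl.injEq, ng_ng, hp, hr, hnr, if_neg f3, if_neg f3.symm,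
    if_neg f4.symm, if_neg f5.symm, if_neg f6, if_neg f6.symm, if_neg hrp,
    if_true, mul_one, mul_zero, add_zero, sub_zero, zero_add,
    ite_self] at h1 h2
  exact ⟨h1, h2⟩

end R0

namespace SysM

namespace Rep

variable {F : Type*} [Field F] {A B : F} [Fact (∀ r : F, r ^ 2 ≠ -B + A * r)] {ι : Type*} {G : Type*} [Group G] {S : SysM F A B ι G}
  {l : Type*} [Fintype l] [DecidableEq l] (R : S.Rep l)

variable (o : ι ⊕ ι)

/-- J2 core: hypotheses = the statements of N7 `Yg_decomp2` (at `o`, `o'`) and J1 `Yg_fix_phi_eq_one` (at `o`). -/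
theorem stmj2_core {o' : ι ⊕ ι} (ho' : o' ≠ o) (ho'' : o' ≠ ng o)
    (hN7 : ∀ y ∈ S.Yg o, ∃ u u' : F, ∃ y'' ∈ S.Yjj o o', y = S.x o' o u * S.x (ng o') o u' * y'')
    (hJ1 : ∀ y : G, y ∈ S.Yg o → R.M y *ᵥ evm (Ebm R.e o) = evm (Ebm R.e o) → R.φ y = 1)
    (IHo' : ∀ x ∈ S.Lg o', R.φ x = 1 → x = 1) {y : G} (hy : y ∈ S.Yg o)
    (h : R.M y *ᵥ evm (Ebm R.e o) = evm (Ebm R.e o)) : y = 1 := by
  obtain ⟨u, u', y'', hy'', rfl⟩ := hN7 y hy
  have hinj : Function.Injective (Ebm R.e) := fun a b e => Em_injective R.e (Sum.inl_injective e)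
  have hrp : Em R.e o' ≠ Em R.e o := fun h => ho' (Em_injective R.e h)
  have hrnp : Em R.e o' ≠ ng (Em R.e o) := by
    rw [← Em_ng]
    exact fun h => ho'' (Em_injective R.e h)
  have hno : ng o' ≠ o := fun h => ho'' (by rw [← h, ng_ng])
  have hno' : ng o' ≠ ng o := fun h => ho' (ng_inj.1 h)
  have hp : (R.M y'' *ᵥ evm (Ebm R.e o)) (Sum.inl (Em R.e o)) = 1 :=
    R.Yg_apply o (S.Yjj_le_Yg o o' hy'')
  have hr : (R.M y'' *ᵥ evm (Ebm R.e o)) (Sum.inl (Em R.e o')) = 0 := by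
    have hrow := R.XQ_rowStab (Q := fun a b => b = o ∧ (a ≠ o' ∧ a ≠ ng o')) (Qs := fun a => a = ng o)
      (c := Ebm R.e o') ?_ ?_ y'' hy''
    · rw [stmj2_coord, hrow]
      unfold evm
      rw [Pi.single_apply, if_neg (fun h => ho' (hinj h).symm)]
    · rintro a b - - ⟨rfl, ha1, -⟩
      exact ⟨fun h => ha1 (hinj h), fun h => ho'' (hinj h).symm⟩
    · rintro a rfl
      exact ⟨Sum.inr_ne_inl, Sum.inr_ne_inl, fun h => ho'' (hinj h).symm⟩
  have hnr : (R.M y'' *ᵥ evm (Ebm R.e o)) (Sum.inl (ng (Em R.e o'))) = 0 := by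
    have hrow := R.XQ_rowStab (Q := fun a b => b = o ∧ (a ≠ o' ∧ a ≠ ng o')) (Qs := fun a => a = ng o)
      (c := Ebm R.e (ng o')) ?_ ?_ y'' hy''
    · rw [← Em_ng, stmj2_coord, hrow]
      unfold evm
      rw [Pi.single_apply, if_neg (fun h => hno (hinj h).symm)]
    · rintro a b - - ⟨rfl, -, ha2⟩
      exact ⟨fun h => ha2 (hinj h), fun h => ho' (ng_inj.1 (hinj h)).symm⟩
    · rintro a rfl
      exact ⟨Sum.inr_ne_inl, Sum.inr_ne_inl, fun h => ho' (ng_inj.1 (hinj h)).symm⟩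
  have h' := h
  rw [R.M_mul, R.M_mul, R.M_x ho' ho'', R.M_x hno hno', ← Matrix.mulVec_mulVec,
    ← Matrix.mulVec_mulVec, Em_ng] at h'
  obtain ⟨hu, hu'⟩ := stmj2_coords hrp hrnp _ hp hr hnr u u' h'
  subst hu hu'
  have hx0 : ∀ a b : ι ⊕ ι, S.x a b 0 = 1 := by
    intro a b
    by_cases h1 : a = b
    · subst h1
      exact S.diag a 0
    by_cases h2 : a = ng b
    · subst h2
      have := S.opp (ng b) 0
      rwa [ng_ng] at this
    have := S.add a b h1 h2 0 0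
    rw [add_zero] at this
    exact mul_eq_left.1 this
  rw [hx0, hx0, one_mul, one_mul] at h ⊢
  exact IHo' y'' (S.Yjj_le_Lg o ho' ho'' hy'') (hJ1 y'' (S.Yjj_le_Yg o o' hy'') h)

end Rep

end SysM

end Cfsg.Agent.Lib.helper17.STM
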