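import Mathlib
import Cfsg.Agent.Lib.helper17.STM.Defs
import Cfsg.Agent.Lib.helper17.STM.Defs2
import Cfsg.Agent.Lib.helper17.STM.Defs3
import Cfsg.Agent.Lib.Helper25.STMJ2core
import Cfsg.Agent.Lib.Helper16.STMN7
import Cfsg.Agent.Lib.Helper16.STMJ1

/-!
# STM (designer helper17), part 3, row J2 `SysM.Rep.Y_fix_eq_one` (helper25), VERBATIM.
On `Helper25.STMJ2core`, N7 `Yg_decomp2` (`Helper16.STMN7`), J1 `Yg_fix_phi_eq_one` (`Helper16.STMJ1`).
-/

set_option autoImplicit false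

namespace Cfsg.Agent.Lib.helper17.STM

open Matrix Cfsg.Agent.Lib.helper15.St2 Cfsg.Agent.Lib.helper3.STC Cfsg.Agent.Lib.Lead.STD

universe v w

namespace SysM

namespace Rep

variable {F : Type*} [Field F] {A B : F} [Fact (∀ r : F, r ^ 2 ≠ -B + A * r)] {ι : Type*} {G : Type*} [Group G] {S : SysM F A B ι G}
  {l : Type*} [Fintype l] [DecidableEq l] (R : S.Rep l)

variable (o : ι ⊕ ι)

/-- J2 [M-L]  rank at least two: an element of `Yg o` fixing `e_o` is trivial (model STB J2). -/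
theorem Y_fix_eq_one {o' : ι ⊕ ι} (ho' : o' ≠ o) (ho'' : o' ≠ ng o) (IHo' : ∀ x ∈ S.Lg o', R.φ x = 1 → x = 1) {y : G} (hy : y ∈ S.Yg o)
    (h : R.M y *ᵥ evm (Ebm R.e o) = evm (Ebm R.e o)) : y = 1 :=
  R.stmj2_core o ho' ho'' (S.Yg_decomp2 o ho' ho'') (fun _ hy h => R.Yg_fix_phi_eq_one o hy h) IHo' hy h

end Rep

end SysM

end Cfsg.Agent.Lib.helper17.STM
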