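import Mathlib
import Cfsg.Agent.Lib.Helper20.GLO.Defs
import Cfsg.Agent.Lib.Helper20.GLEI2

/-!
# Project GLO (designer helper20), row I2 (helper25), VERBATIM: `xrs_add xrs_zero xrs_neg xrl_mul xrl_one xrl_inv` (port of GLE I2, `Helper20/GLEI2.lean`)
-/

set_option autoImplicit false
set_option linter.unusedSectionVars false

namespace Cfsg.Agent.Lib.Helper20.GLO

open Cfsg.Agent.Lib.helper3.STC (ng ab)
open Cfsg.Agent.Lib.helper3.SPM (Pts pe sgm sn sig2 ptsFin pe2)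
open Cfsg.Agent.Lib.Helper27.STU
open Cfsg.Agent.Lib.helper17.SLP (cm)
open Cfsg.Agent.Lib.Helper20.GLE (lamC lamP glei2_sn_ne)

universe u v w x v' y

section main
variable {F : Type u} [Field F] [StarRing F] {L : Type x} [Group L] {ι : Type w} [Fintype ι] [DecidableEq ι] {G : Type v} [Group G]
  (S₂ : SysU F True (Fin 2) L) (swL : L) (p : Pts ι) (ν : Equiv.Perm ι →* G) (lam : L →* G)

theorem xrs_add (a b : ι ⊕ ι) (t u : F) : xrs S₂ p ν lam a b t * xrs S₂ p ν lam a b u = xrs S₂ p ν lam a b (t + u) := by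
  unfold xrs
  rw [← map_mul, S₂.adds _ _ (glei2_sn_ne a b).1 (glei2_sn_ne a b).2]

theorem xrs_zero (a b : ι ⊕ ι) : xrs S₂ p ν lam a b (0 : F) = 1 := by
  have h := xrs_add S₂ p ν lam a b 0 0
  rw [add_zero] at h
  exact mul_left_cancel (h.trans (mul_one _).symm)

theorem xrs_neg (a b : ι ⊕ ι) (t : F) : xrs S₂ p ν lam a b (-t) = (xrs S₂ p ν lam a b t)⁻¹ := by
  have h := xrs_add S₂ p ν lam a b (-t) t
  rw [neg_add_cancel, xrs_zero] at h
  exact eq_inv_of_mul_eq_one_left h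

theorem xrl_mul (a : ι ⊕ ι) (ξ η : Lam F True) : xrl S₂ p ν lam a ξ * xrl S₂ p ν lam a η = xrl S₂ p ν lam a (ξ * η) := by
  unfold xrl
  rw [← map_mul, S₂.addl]

theorem xrl_one (a : ι ⊕ ι) : xrl S₂ p ν lam a (1 : Lam F True) = 1 := by
  have h := xrl_mul S₂ p ν lam a 1 1
  rw [mul_one] at h
  exact mul_left_cancel (h.trans (mul_one _).symm)

theorem xrl_inv (a : ι ⊕ ι) (ξ : Lam F True) : xrl S₂ p ν lam a ξ⁻¹ = (xrl S₂ p ν lam a ξ)⁻¹ := by
  have h := xrl_mul S₂ p ν lam a ξ⁻¹ ξ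
  rw [inv_mul_cancel, xrl_one] at h
  exact eq_inv_of_mul_eq_one_left h

end main

end Cfsg.Agent.Lib.Helper20.GLO
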