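import Mathlib
import Cfsg.Agent.Lib.Helper20.GLO.Defs
import Cfsg.Agent.Lib.Helper26.GLOT2
import Cfsg.Agent.Lib.Helper25.GLOI2

/-!
# Project GLO (designer helper20), rows T3 and T5 (helper25), CORES: `LB_norm_hl LB_norm_wl LB_norm_wl'`, `d3_base`

Hypotheses: `hT4` / `hW4` = the statements of T4 `hl_pair_l` / `wl_pair_l` for the pair `(i, k)`, `hact` = the statement of Λ1 `act_surj`;
for T5: `hratio` = Λ0 `exists_lam_ratio` (with `hF` applied), `hT4s` = T4 `hl_pair_s` for the pair `(o0, o1)` and the indices `inl o0`, `inl o1`, `hT3` = T3 `LB_norm_hl` for `(o0, o2)`.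
On T2 (`Helper26.GLOT2`: `xrl_mem_LB`, `LB_le`) and I2 (`Helper25.GLOI2`: `xrs_zero`).
-/

set_option autoImplicit false
set_option linter.unusedSectionVars false

namespace Cfsg.Agent.Lib.Helper20.GLO

open Cfsg.Agent.Lib.helper3.STC (ng ab)
open Cfsg.Agent.Lib.helper3.SPM (Pts pe sgm sn sig2 ptsFin pe2)
open Cfsg.Agent.Lib.Helper27.STU
open Cfsg.Agent.Lib.helper17.SLP (cm)
open Cfsg.Agent.Lib.Helper20.GLE (lamC lamP)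

universe u v w x v' y

section main
variable {F : Type u} [Field F] [StarRing F] {L : Type x} [Group L] {ι : Type w} [Fintype ι] [DecidableEq ι] {G : Type v} [Group G]
  (S₂ : SysU F True (Fin 2) L) (swL : L) (p : Pts ι) (ν : Equiv.Perm ι →* G) (lam : L →* G)

/-! ## T3 -/

theorem glot3_ne {i k : ι} (hik : i ≠ k) {a : ι ⊕ ι} (ha : ab a = k) :
    a ≠ Sum.inl i ∧ a ≠ Sum.inr i := by
  constructor
  · intro h
    rw [h] at ha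
    exact hik ha
  · intro h
    rw [h] at ha
    exact hik ha

theorem glot3_hl_core {i k : ι} {ξ η : Lam F True}
    (hT4 : ∀ {a : ι ⊕ ι}, (ab a = i ∨ ab a = k) → ∀ ξ' : Lam F True,
      hrl S₂ p ν lam (Sum.inl i) ξ η * xrl S₂ p ν lam a ξ' * (hrl S₂ p ν lam (Sum.inl i) ξ η)⁻¹ =
        xrl S₂ p ν lam a (Lam.act (dhl (Sum.inl i) (ξ.c / η.c) a * (d0h (ξ.c / η.c))⁻¹) ξ'))
    {g : G} (hg : g ∈ LB S₂ p ν lam k) :
    hrl S₂ p ν lam (Sum.inl i) ξ η * g * (hrl S₂ p ν lam (Sum.inl i) ξ η)⁻¹ ∈ LB S₂ p ν lam k := by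
  have hle : LB S₂ p ν lam k ≤
      (LB S₂ p ν lam k).comap ((MulAut.conj (hrl S₂ p ν lam (Sum.inl i) ξ η)).toMonoidHom) := by
    apply LB_le
    intro a ξ' ha
    rw [Subgroup.mem_comap]
    show hrl S₂ p ν lam (Sum.inl i) ξ η * xrl S₂ p ν lam a ξ' * (hrl S₂ p ν lam (Sum.inl i) ξ η)⁻¹ ∈ _
    rw [hT4 (Or.inr ha)]
    have := xrl_mem_LB S₂ p ν lam a (Lam.act (dhl (Sum.inl i) (ξ.c / η.c) a * (d0h (ξ.c / η.c))⁻¹) ξ')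
    rwa [ha] at this
  exact hle hg

theorem glot3_wl_core {i k : ι} (hik : i ≠ k) {ξ : Lam F True}
    (hW4 : ∀ {a : ι ⊕ ι}, (ab a = i ∨ ab a = k) → ∀ ξ' : Lam F True,
      wrl S₂ p ν lam (Sum.inl i) ξ * xrl S₂ p ν lam a ξ' * (wrl S₂ p ν lam (Sum.inl i) ξ)⁻¹ =
        xrl S₂ p ν lam (Equiv.swap (Sum.inl i) (Sum.inr i) a) (Lam.act (dwl (Sum.inl i) ξ a * (d0l ξ)⁻¹) ξ'))
    {g : G} (hg : g ∈ LB S₂ p ν lam k) :
    wrl S₂ p ν lam (Sum.inl i) ξ * g * (wrl S₂ p ν lam (Sum.inl i) ξ)⁻¹ ∈ LB S₂ p ν lam k := by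
  have hle : LB S₂ p ν lam k ≤
      (LB S₂ p ν lam k).comap ((MulAut.conj (wrl S₂ p ν lam (Sum.inl i) ξ)).toMonoidHom) := by
    apply LB_le
    intro a ξ' ha
    rw [Subgroup.mem_comap]
    show wrl S₂ p ν lam (Sum.inl i) ξ * xrl S₂ p ν lam a ξ' * (wrl S₂ p ν lam (Sum.inl i) ξ)⁻¹ ∈ _
    rw [hW4 (Or.inr ha), Equiv.swap_apply_of_ne_of_ne (glot3_ne hik ha).1 (glot3_ne hik ha).2]
    have := xrl_mem_LB S₂ p ν lam a (Lam.act (dwl (Sum.inl i) ξ a * (d0l ξ)⁻¹) ξ')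
    rwa [ha] at this
  exact hle hg

theorem glot3_wl'_core {i k : ι} (hik : i ≠ k) {ξ : Lam F True} (hξ : ξ.c ≠ 0)
    (hW4 : ∀ {a : ι ⊕ ι}, (ab a = i ∨ ab a = k) → ∀ ξ' : Lam F True,
      wrl S₂ p ν lam (Sum.inl i) ξ * xrl S₂ p ν lam a ξ' * (wrl S₂ p ν lam (Sum.inl i) ξ)⁻¹ =
        xrl S₂ p ν lam (Equiv.swap (Sum.inl i) (Sum.inr i) a) (Lam.act (dwl (Sum.inl i) ξ a * (d0l ξ)⁻¹) ξ'))
    (hact : ∀ {t : F}, t ≠ 0 → ∀ ξ' : Lam F True, ∃ η : Lam F True, Lam.act t η = ξ')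
    {g : G} (hg : g ∈ LB S₂ p ν lam k) :
    (wrl S₂ p ν lam (Sum.inl i) ξ)⁻¹ * g * wrl S₂ p ν lam (Sum.inl i) ξ ∈ LB S₂ p ν lam k := by
  have hle : LB S₂ p ν lam k ≤
      (LB S₂ p ν lam k).comap ((MulAut.conj (wrl S₂ p ν lam (Sum.inl i) ξ)⁻¹).toMonoidHom) := by
    apply LB_le
    intro a ξ'' ha
    rw [Subgroup.mem_comap]
    show (wrl S₂ p ν lam (Sum.inl i) ξ)⁻¹ * xrl S₂ p ν lam a ξ'' * (wrl S₂ p ν lam (Sum.inl i) ξ)⁻¹⁻¹ ∈ _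
    rw [inv_inv]
    have hs : star ξ.c ≠ 0 := fun h => hξ (by simpa using congrArg star h)
    have ht : dwl (Sum.inl i) ξ a * (d0l ξ)⁻¹ ≠ 0 := by
      have hd : dwl (Sum.inl i) ξ a = 1 := by
        unfold dwl
        have e2 : a ≠ ng (Sum.inl i) := (glot3_ne hik ha).2
        rw [if_neg (glot3_ne hik ha).1, if_neg e2]
      rw [hd, one_mul]
      unfold d0l
      exact inv_ne_zero (neg_ne_zero.mpr (div_ne_zero hs hξ))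
    obtain ⟨η, hη⟩ := hact ht ξ''
    have h1 := hW4 (Or.inr ha) η
    rw [Equiv.swap_apply_of_ne_of_ne (glot3_ne hik ha).1 (glot3_ne hik ha).2, hη] at h1
    rw [← h1]
    have e : (wrl S₂ p ν lam (Sum.inl i) ξ)⁻¹ *
        (wrl S₂ p ν lam (Sum.inl i) ξ * xrl S₂ p ν lam a η * (wrl S₂ p ν lam (Sum.inl i) ξ)⁻¹) *
        wrl S₂ p ν lam (Sum.inl i) ξ = xrl S₂ p ν lam a η := by
      group
    rw [e]
    have := xrl_mem_LB S₂ p ν lam a η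
    rwa [ha] at this
  have := hle hg
  rw [Subgroup.mem_comap] at this
  have e2 : (MulAut.conj (wrl S₂ p ν lam (Sum.inl i) ξ)⁻¹).toMonoidHom g =
      (wrl S₂ p ν lam (Sum.inl i) ξ)⁻¹ * g * wrl S₂ p ν lam (Sum.inl i) ξ := by
    show (wrl S₂ p ν lam (Sum.inl i) ξ)⁻¹ * g * (wrl S₂ p ν lam (Sum.inl i) ξ)⁻¹⁻¹ = _
    rw [inv_inv]
  rwa [e2] at this

/-! ## T5 -/

omit [Fintype ι] in
theorem glot5_sig2_base : sig2 p p.o0 p.o1 = 1 := by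
  unfold sig2
  rw [Equiv.swap_self, Equiv.refl_apply, Equiv.swap_self]
  rfl

omit [Fintype ι] in
theorem glot5_uA (t : F) : xrs S₂ p ν lam (Sum.inl p.o0) (Sum.inl p.o1) t = lam (uA S₂ t) := by
  unfold xrs
  show lamC ν lam (sig2 p p.o0 p.o1) (S₂.xs (Sum.inl 0) (Sum.inl 1) t) = lam (uA S₂ t)
  rw [glot5_sig2_base]
  show ν 1 * lam (uA S₂ t) * (ν 1)⁻¹ = lam (uA S₂ t)
  rw [map_one, one_mul, inv_one, mul_one]

omit [Fintype ι] [DecidableEq ι] in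
theorem glot5_hrl_inv (a : ι ⊕ ι) (ξ η : Lam F True) [DecidableEq ι] :
    (hrl S₂ p ν lam a ξ η)⁻¹ = hrl S₂ p ν lam a η ξ := by
  unfold hrl
  rw [mul_inv_rev, inv_inv]

theorem glot5_core (H : Glue S₂ swL p ν lam)
    (hratio : ∀ {r : F}, r ≠ 0 → ∃ ξ η : Lam F True, ξ.c ≠ 0 ∧ η.c ≠ 0 ∧ ξ.c / η.c = r)
    (hT4s : ∀ {ξ η : Lam F True}, ξ.c ≠ 0 → η.c ≠ 0 → ∀ t : F,
      hrl S₂ p ν lam (Sum.inl p.o0) ξ η * xrs S₂ p ν lam (Sum.inl p.o0) (Sum.inl p.o1) t *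
          (hrl S₂ p ν lam (Sum.inl p.o0) ξ η)⁻¹ =
        xrs S₂ p ν lam (Sum.inl p.o0) (Sum.inl p.o1)
          (dhl (Sum.inl p.o0) (ξ.c / η.c) (Sum.inl p.o0) * (dhl (Sum.inl p.o0) (ξ.c / η.c) (Sum.inl p.o1))⁻¹ * t))
    (hT3 : ∀ {ξ η : Lam F True}, ξ.c ≠ 0 → η.c ≠ 0 → ∀ {g : G}, g ∈ LB S₂ p ν lam p.o2 →
      hrl S₂ p ν lam (Sum.inl p.o0) ξ η * g * (hrl S₂ p ν lam (Sum.inl p.o0) ξ η)⁻¹ ∈ LB S₂ p ν lam p.o2)
    (t : F) {g : G} (hg : g ∈ LB S₂ p ν lam p.o2) :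
    Commute (xrs S₂ p ν lam (Sum.inl p.o0) (Sum.inl p.o1) t) g := by
  by_cases ht : t = 0
  · subst ht
    rw [xrs_zero]
    exact Commute.one_left g
  -- the parameter `1` commutes with all of `LB o2`
  have h1 : ∀ {g' : G}, g' ∈ LB S₂ p ν lam p.o2 → Commute (xrs S₂ p ν lam (Sum.inl p.o0) (Sum.inl p.o1) (1 : F)) g' := by
    intro g' hg'
    rw [glot5_uA]
    obtain ⟨g₀, hg₀, rfl⟩ := hg'
    exact H.d3 g₀ hg₀
  obtain ⟨ξ, η, hξ, hη, hrat⟩ := hratio ht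
  have hconj := hT4s hξ hη (1 : F)
  have hd1 : dhl (Sum.inl p.o0) (ξ.c / η.c) (Sum.inl p.o0 : ι ⊕ ι) = ξ.c / η.c := by
    unfold dhl
    rw [if_pos rfl]
  have hd2 : dhl (Sum.inl p.o0) (ξ.c / η.c) (Sum.inl p.o1 : ι ⊕ ι) = 1 := by
    unfold dhl
    have e1 : (Sum.inl p.o1 : ι ⊕ ι) ≠ Sum.inl p.o0 := fun h => p.h01 (Sum.inl.inj h).symm
    have e2 : (Sum.inl p.o1 : ι ⊕ ι) ≠ ng (Sum.inl p.o0) := by
      intro h
      cases h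
    rw [if_neg e1, if_neg e2]
  rw [hd1, hd2, inv_one, mul_one, mul_one, hrat] at hconj
  rw [← hconj]
  -- `Commute (h x h⁻¹) g` from `Commute x (h⁻¹ g h)`
  have hmem : (hrl S₂ p ν lam (Sum.inl p.o0) ξ η)⁻¹ * g * hrl S₂ p ν lam (Sum.inl p.o0) ξ η ∈ LB S₂ p ν lam p.o2 := by
    have := hT3 hη hξ hg
    rw [← glot5_hrl_inv S₂ p ν lam (Sum.inl p.o0) ξ η, inv_inv] at this
    exact this
  have hc := (h1 hmem).eq
  show _ * _ = _ * _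
  calc hrl S₂ p ν lam (Sum.inl p.o0) ξ η * xrs S₂ p ν lam (Sum.inl p.o0) (Sum.inl p.o1) 1 *
        (hrl S₂ p ν lam (Sum.inl p.o0) ξ η)⁻¹ * g
      = hrl S₂ p ν lam (Sum.inl p.o0) ξ η * (xrs S₂ p ν lam (Sum.inl p.o0) (Sum.inl p.o1) 1 *
        ((hrl S₂ p ν lam (Sum.inl p.o0) ξ η)⁻¹ * g * hrl S₂ p ν lam (Sum.inl p.o0) ξ η)) *
        (hrl S₂ p ν lam (Sum.inl p.o0) ξ η)⁻¹ := by group
    _ = hrl S₂ p ν lam (Sum.inl p.o0) ξ η * (((hrl S₂ p ν lam (Sum.inl p.o0) ξ η)⁻¹ * g * hrl S₂ p ν lam (Sum.inl p.o0) ξ η) *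
        xrs S₂ p ν lam (Sum.inl p.o0) (Sum.inl p.o1) 1) *
        (hrl S₂ p ν lam (Sum.inl p.o0) ξ η)⁻¹ := by rw [hc]
    _ = g * (hrl S₂ p ν lam (Sum.inl p.o0) ξ η * xrs S₂ p ν lam (Sum.inl p.o0) (Sum.inl p.o1) 1 *
        (hrl S₂ p ν lam (Sum.inl p.o0) ξ η)⁻¹) := by group

end main

end Cfsg.Agent.Lib.Helper20.GLO
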