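import Mathlib
import Cfsg.Agent.Lib.Helper18.PRL.Defs
import Cfsg.Agent.Lib.Helper21.MaxClassP
import Cfsg.Agent.Lib.helper23.PRLCH3
import Cfsg.Agent.Lib.helper23.PRLCH4
import Cfsg.Agent.Lib.helper23.PRLCH5

/-! PRL-GEN : `a ∉ H`, `b ∈ H ∖ G'` implies `[a, b] ∉ Z_{n-3}`. -/

set_option autoImplicit false

namespace Cfsg.Agent.Lib.Helper18.PRL

open scoped commutatorElement

universe u

section chain
variable {p : ℕ} [Fact p.Prime] {G : Type u} [Group G] [Finite G] {n : ℕ}

/-- PRL-GEN -/
theorem comm_notMem (h : MC p G n) (hn : 3 ≤ n) (H : Subgroup G) (hH : H.index = p) (a b : G)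
    (ha : a ∉ H) (hb : b ∈ H) (hb' : b ∉ commutator G) : ⁅a, b⁆ ∉ Z G (n - 3) := by
  intro hab
  have hp : p.Prime := Fact.out
  have hGH : commutator G ≤ H := commutator_le_of_index h H hH
  have hidx : (commutator G).index = p ^ 2 :=
    (Cfsg.Agent.Lib.Helper21.mc_p_index p n G hn h.1 h.2).1
  have hGZ : commutator G = Z G (n - 2) := commutator_eq_Z h hn
  have hn1 : n - 2 = (n - 3) + 1 := by omega
  -- the subgroup of the elements commuting with `b` modulo `Z_{n-3}`
  set D : Subgroup G :=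
    (Subgroup.centralizer {(QuotientGroup.mk' (Z G (n - 3))) b}).comap (QuotientGroup.mk' (Z G (n - 3)))
    with hDdef
  have hD : ∀ g : G, g ∈ D ↔ ⁅g, b⁆ ∈ Z G (n - 3) := by
    intro g
    rw [hDdef, Subgroup.mem_comap, Subgroup.mem_centralizer_iff]
    constructor
    · intro hg
      have h1 := hg _ (Set.mem_singleton _)
      rw [← QuotientGroup.eq_one_iff, commutatorElement_def]
      have h2 : ((g * b * g⁻¹ * b⁻¹ : G) : G ⧸ Z G (n - 3)) =
          (QuotientGroup.mk' (Z G (n - 3))) g * (QuotientGroup.mk' (Z G (n - 3))) b *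
            ((QuotientGroup.mk' (Z G (n - 3))) g)⁻¹ * ((QuotientGroup.mk' (Z G (n - 3))) b)⁻¹ := rfl
      rw [h2, ← h1]
      group
    · intro hg y hy
      rw [Set.mem_singleton_iff] at hy
      subst hy
      rw [← QuotientGroup.eq_one_iff, commutatorElement_def] at hg
      have h2 : ((g * b * g⁻¹ * b⁻¹ : G) : G ⧸ Z G (n - 3)) =
          (QuotientGroup.mk' (Z G (n - 3))) g * (QuotientGroup.mk' (Z G (n - 3))) b *
            ((QuotientGroup.mk' (Z G (n - 3))) g)⁻¹ * ((QuotientGroup.mk' (Z G (n - 3))) b)⁻¹ := rfl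
      rw [h2] at hg
      have h3 : (QuotientGroup.mk' (Z G (n - 3))) g * (QuotientGroup.mk' (Z G (n - 3))) b =
          (QuotientGroup.mk' (Z G (n - 3))) b * (QuotientGroup.mk' (Z G (n - 3))) g := by
        calc (QuotientGroup.mk' (Z G (n - 3))) g * (QuotientGroup.mk' (Z G (n - 3))) b
            = ((QuotientGroup.mk' (Z G (n - 3))) g * (QuotientGroup.mk' (Z G (n - 3))) b *
              ((QuotientGroup.mk' (Z G (n - 3))) g)⁻¹ * ((QuotientGroup.mk' (Z G (n - 3))) b)⁻¹) *
              ((QuotientGroup.mk' (Z G (n - 3))) b * (QuotientGroup.mk' (Z G (n - 3))) g) := by group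
          _ = (QuotientGroup.mk' (Z G (n - 3))) b * (QuotientGroup.mk' (Z G (n - 3))) g := by
              rw [hg, one_mul]
      exact h3.symm
  have haD : a ∈ D := (hD a).mpr hab
  have hbD : b ∈ D := by
    rw [hD, commutatorElement_self]
    exact Subgroup.one_mem _
  have hGD : commutator G ≤ D := by
    intro c hc
    rw [hGZ, hn1] at hc
    rw [hD, commutatorElement_def]
    exact (Subgroup.mem_upperCentralSeries_succ_iff.mp hc) b
  -- `H ≤ D`
  have hrel : (commutator G).relIndex H = p := by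
    have h1 := Subgroup.relIndex_mul_index hGH
    rw [hH, hidx, pow_two] at h1
    exact Nat.eq_of_mul_eq_mul_right hp.pos h1
  have hHD : H ≤ D := by
    have h1 := Subgroup.relIndex_mul_relIndex (commutator G) (D ⊓ H) H (le_inf hGD hGH) inf_le_right
    rw [hrel] at h1
    rcases (Nat.dvd_prime hp).mp (Dvd.intro_left _ h1) with h2 | h2
    · have h3 : H ≤ D ⊓ H := Subgroup.relIndex_eq_one.mp h2
      exact fun g hg => (h3 hg).1
    · rw [h2] at h1
      have h3 : (commutator G).relIndex (D ⊓ H) = 1 := by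
        have : (commutator G).relIndex (D ⊓ H) * p = 1 * p := by rw [h1, one_mul]
        exact Nat.eq_of_mul_eq_mul_right hp.pos this
      have h4 : D ⊓ H ≤ commutator G := Subgroup.relIndex_eq_one.mp h3
      exact absurd (h4 ⟨hbD, hb⟩) hb'
  -- `D = ⊤`
  have hDtop : D = ⊤ := by
    have h1 := Subgroup.relIndex_mul_index hHD
    rw [hH] at h1
    rcases (Nat.dvd_prime hp).mp (Dvd.intro_left _ h1) with h2 | h2
    · exact Subgroup.index_eq_one.mp h2
    · rw [h2] at h1
      have h3 : H.relIndex D = 1 := by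
        have : H.relIndex D * p = 1 * p := by rw [h1, one_mul]
        exact Nat.eq_of_mul_eq_mul_right hp.pos this
      have h4 : D ≤ H := Subgroup.relIndex_eq_one.mp h3
      exact absurd (h4 haD) ha
  -- so `b ∈ Z_{n-2} = G'`
  apply hb'
  rw [hGZ, hn1, Subgroup.mem_upperCentralSeries_succ_iff]
  intro g
  have hg : g ∈ D := by rw [hDtop]; exact Subgroup.mem_top g
  have h1 := (hD g).mp hg
  rw [← commutatorElement_inv g b]
  exact Subgroup.inv_mem _ h1

end chain

end Cfsg.Agent.Lib.Helper18.PRL
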