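import Mathlib
import Cfsg.Prelude.Def_Classical
import Cfsg.Agent.Lib.Helper19.SO8.Defs
import Cfsg.Agent.Lib.Helper27.SO8C1
import Cfsg.Agent.Lib.Helper11.SO8C2
import Cfsg.Agent.Lib.Helper22.SO8ARITH

set_option autoImplicit false
set_option linter.unusedVariables false

/-!
# Project SO8 (S3589), row UPPER, core (helper25): `sp_upper` with the Skel statement of STRUCT (`sr_struct`)
as a hypothesis; C1 (`charpoly_reverse`), C2 (`pow_eq_one_of_dvd`), ARITH (`arith`) are cited from main.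
-/

namespace Cfsg.Agent.Lib.Helper19.SO8

open Polynomial

theorem so8upper_core {F : Type*} [Field F] [Fintype F] [CharP F 2]
    (hS : ∀ (n : ℕ) (χ : F[X]) (hχ : χ ≠ 0)
      (hr : χ.reverse = χ) (hd : χ.natDegree = 2 * n),
      ∃ (k : ℕ) (w : ℕ → Bool → ℕ),
        (k + ∑ e ∈ Finset.range (n + 1), e * (w e true + w e false) = n) ∧
        (∀ e ε, w e ε ≠ 0 → 1 ≤ e ∧ e ≤ n) ∧
        ∀ m t : ℕ, (∀ e ε, w e ε ≠ 0 → tyN (Fintype.card F) e ε ∣ m) → 2 * k ≤ 2 ^ t →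
          (∀ e ε, w e ε ≤ 2 ^ t) → χ ∣ (X ^ m - 1 : F[X]) ^ (2 ^ t))
    (x : Matrix.symplecticGroup (Fin 4) F) :
    ∃ N ∈ T8 (Fintype.card F), orderOf x ∣ N := by
  classical
  obtain ⟨A, hA⟩ : ∃ A : Matrix (Fin 4 ⊕ Fin 4) (Fin 4 ⊕ Fin 4) F, A = (x : Matrix _ _ F) := ⟨_, rfl⟩
  have hmon : A.charpoly.Monic := Matrix.charpoly_monic A
  have hne : A.charpoly ≠ 0 := hmon.ne_zero
  have hdeg : A.charpoly.natDegree = 2 * 4 := by
    rw [Matrix.charpoly_natDegree_eq_dim]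
    simp
  have hrev : A.charpoly.reverse = A.charpoly := by
    rw [hA]
    exact charpoly_reverse 4 x
  obtain ⟨k, w, hsum, hsupp, hdiv⟩ := hS 4 A.charpoly hne hrev hdeg
  have hq : 2 ≤ Fintype.card F := Fintype.one_lt_card
  obtain ⟨N, hN, m, t, hNmt, h1, h2, h3⟩ := arith (Fintype.card F) hq k w hsum hsupp
  refine ⟨N, hN, ?_⟩
  have hdvd := hdiv m t h1 h2 h3
  have hpow : A ^ (m * 2 ^ t) = 1 := pow_eq_one_of_dvd A m t hdvd
  apply orderOf_dvd_of_pow_eq_one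
  apply Subtype.ext
  rw [hNmt, SubmonoidClass.coe_pow, ← hA, hpow]
  rfl

end Cfsg.Agent.Lib.Helper19.SO8
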