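import Mathlib
import Cfsg.Prelude.Def_Classical
import Cfsg.Agent.Lib.Helper19.SO8.Defs
import Cfsg.Agent.Lib.Helper25.SO8UPPERcore
import Cfsg.Agent.Lib.helper8.SO8STRUCT

set_option autoImplicit false

/-!
# Project SO8 (S3589), row UPPER (helper25): `sp_upper`, verbatim from `Helper19/SO8/Skel.lean.txt`
(= `so8upper_core` + row STRUCT `sr_struct` of helper8).
-/

namespace Cfsg.Agent.Lib.Helper19.SO8

open Polynomial

/-- UPPER [M] -/
theorem sp_upper {F : Type*} [Field F] [Fintype F] [CharP F 2] (x : Matrix.symplecticGroup (Fin 4) F) :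
    ∃ N ∈ T8 (Fintype.card F), orderOf x ∣ N :=
  so8upper_core (fun n χ hχ hr hd => sr_struct n χ hχ hr hd) x

end Cfsg.Agent.Lib.Helper19.SO8
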