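import Mathlib
import Cfsg.Agent.Lib.Helper11.GaloisConj
import Cfsg.Agent.Lib.Helper24.GaloisNorm
import Cfsg.Agent.Lib.Helper25.CharOrth
import Cfsg.Agent.Lib.Helper25.KnorrBound
import Cfsg.Agent.Lib.Helper25.DefectZeroCount
import Cfsg.Agent.Lib.helper2.CharNat
import Cfsg.Agent.Lib.helper7.CharTools
import Cfsg.Agent.S0581

/-!
Blichfeldt's theorem (Isaacs 14.x): a finite group with a faithful character of degree n has an abelian Hall pi-subgroup for pi = primes > n+1. Key identity blf_prod_zero / blf_key, abelian pi-subgroups blf_pi_abelian, central elements blf_central, induction blf_main, final blf_hall.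
-/

set_option autoImplicit false
set_option linter.style.haveILetI false
set_option linter.unusedVariables false
set_option linter.unusedSectionVars false
set_option warn.classDefReducibility false
set_option maxHeartbeats 1600000

namespace Cfsg.Agent.Lib.Helper25
open Cfsg.Agent.Lib.Helper11
open Cfsg.Agent.Lib.helper2
open Cfsg.Agent.Lib.helper7
open scoped ComplexConjugate
open scoped ComplexConjugate Pointwise
section

/-- Galois conjugate of an irreducible character by a power map. -/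
theorem blf_pow_char {G : Type*} [Group G] [Finite G] (χ : Cfsg.IrrCharacter G) (e : ℕ)
    (he : Nat.Coprime e (Nat.card G)) :
    ∃ ψ : Cfsg.IrrCharacter G, ∀ g : G, (ψ : G → ℂ) g = (χ : G → ℂ) (g ^ e) := by
  obtain ⟨τ, hτ⟩ := exists_ringAut_pow (Nat.card G) e Nat.card_pos he
  refine ⟨⟨fun g => τ ((χ : G → ℂ) g), isIrrCharacter_ringAut τ χ.2⟩, fun g => ?_⟩
  exact ringAut_character_apply τ e hτ (h7_irr_isCharacter χ.2) g

/-- The key vanishing product. -/
theorem blf_prod_zero {G : Type*} [Group G] [Fintype G] (χ : Cfsg.IrrCharacter G) (x y : G)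
    (k l : ℕ) (hk : Nat.Coprime k (Nat.card G)) (hl : Nat.Coprime l (Nat.card G))
    (hyk : y ^ k = y) (hxl : x ^ l = x)
    (hz : ∀ g : G, (g * y * g⁻¹ * x) ^ l = g * y * g⁻¹ * x ∨
      (g * y * g⁻¹ * x) ^ k = g * y * g⁻¹ * x) :
    ((χ : G → ℂ) x - (χ : G → ℂ) (x ^ k)) * ((χ : G → ℂ) y - (χ : G → ℂ) (y ^ l)) = 0 := by
  obtain ⟨ψk, hψk⟩ := blf_pow_char χ k hk
  obtain ⟨ψl, hψl⟩ := blf_pow_char χ l hl
  obtain ⟨ψkl, hψkl⟩ := blf_pow_char χ (l * k) (Nat.Coprime.mul_left hl hk)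
  have e1 := irr_sum_conj_mul χ y x
  have ek := irr_sum_conj_mul ψk y x
  have el := irr_sum_conj_mul ψl y x
  have ekl := irr_sum_conj_mul ψkl y x
  simp only [hψk, one_pow] at ek
  simp only [hψl, one_pow] at el
  simp only [hψkl, one_pow] at ekl
  have hx_lk : x ^ (l * k) = x ^ k := by rw [pow_mul, hxl]
  have hy_lk : y ^ (l * k) = y ^ l := by rw [mul_comm, pow_mul, hyk]
  rw [hyk] at ek
  rw [hxl] at el
  rw [hx_lk, hy_lk] at ekl
  have hterm : ∀ g : G, (χ : G → ℂ) (g * y * g⁻¹ * x) - (χ : G → ℂ) ((g * y * g⁻¹ * x) ^ k)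
      - (χ : G → ℂ) ((g * y * g⁻¹ * x) ^ l) + (χ : G → ℂ) ((g * y * g⁻¹ * x) ^ (l * k)) = 0 := by
    intro g
    rcases hz g with h | h
    · have h2 : (g * y * g⁻¹ * x) ^ (l * k) = (g * y * g⁻¹ * x) ^ k := by rw [pow_mul, h]
      rw [h2, h]; ring
    · have h2 : (g * y * g⁻¹ * x) ^ (l * k) = (g * y * g⁻¹ * x) ^ l := by
        rw [mul_comm, pow_mul, h]
      rw [h2, h]; ring
  have hsum : ∑ g : G, ((χ : G → ℂ) (g * y * g⁻¹ * x) - (χ : G → ℂ) ((g * y * g⁻¹ * x) ^ k)
      - (χ : G → ℂ) ((g * y * g⁻¹ * x) ^ l) + (χ : G → ℂ) ((g * y * g⁻¹ * x) ^ (l * k))) = 0 :=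
    Finset.sum_eq_zero (fun g _ => hterm g)
  rw [Finset.sum_add_distrib, Finset.sum_sub_distrib, Finset.sum_sub_distrib, e1, ek, el, ekl]
    at hsum
  have h1 : (χ : G → ℂ) 1 ≠ 0 := irr_one_ne_zero χ
  have hG : (Nat.card G : ℂ) ≠ 0 := by
    have : 0 < Nat.card G := Nat.card_pos
    exact_mod_cast this.ne'
  have h3 : (Nat.card G : ℂ) / (χ : G → ℂ) 1 * (((χ : G → ℂ) x - (χ : G → ℂ) (x ^ k)) *
      ((χ : G → ℂ) y - (χ : G → ℂ) (y ^ l))) = 0 := by
    rw [← hsum]; field_simp; ring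
  rcases mul_eq_zero.1 h3 with h | h
  · exact absurd h (div_ne_zero hG h1)
  · exact h

end

section

theorem blf_geom (p : ℕ) (u : ℂ) (hu : u ^ p = 1) (hu1 : u ≠ 1) :
    ∑ j ∈ Finset.range p, u ^ j = 0 := by
  have h := geom_sum_mul u p
  rw [hu, sub_self] at h
  rcases mul_eq_zero.1 h with h | h
  · exact h
  · exact absurd (sub_eq_zero.1 h) hu1

/-- Expansion of the values of a character on the powers of an element of order `p`. -/
theorem blf_expansion {G : Type*} [Group G] [Finite G] {ψ : G → ℂ} (hψ : Cfsg.IsCharacter G ψ)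
    (x : G) :
    ∃ (s : Finset ℂ) (c : ℂ → ℕ), (∀ z ∈ s, z ^ orderOf x = 1) ∧
      ∀ k : ℕ, ψ (x ^ k) = ∑ z ∈ s, (c z : ℂ) * z ^ k := by
  have hres := isCharacter_restrict hψ (Subgroup.zpowers x)
  obtain ⟨s, c, hs, hk⟩ := Cfsg.Agent.Lib.Helper24.gn_char_pow_expansion hres
    (⟨x, Subgroup.mem_zpowers x⟩ : Subgroup.zpowers x)
  refine ⟨s, c, ?_, ?_⟩
  · intro z hz
    have := hs z hz
    rwa [Nat.card_zpowers] at this
  · intro k
    have := hk k
    simpa using this

theorem blf_ker_of_const {G : Type*} [Group G] [Finite G] {ψ : G → ℂ} (hψ : Cfsg.IsCharacter G ψ)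
    (x : G) (p : ℕ) (hp : p.Prime) (hx : orderOf x = p) (n : ℕ) (hn : ψ 1 = (n : ℂ))
    (hnp : n + 2 ≤ p) (hconst : ∀ j : ℕ, 0 < j → j < p → ψ (x ^ j) = ψ x) : ψ x = ψ 1 := by
  classical
  obtain ⟨s, c, hs, hk⟩ := blf_expansion hψ x
  rw [hx] at hs
  -- the set of nontrivial p-th roots of unity
  have hprim : IsPrimitiveRoot (Complex.exp (2 * Real.pi * Complex.I / p)) p :=
    Complex.isPrimitiveRoot_exp p hp.ne_zero
  set W := (Polynomial.nthRootsFinset p (1 : ℂ)).erase 1 with hW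
  have hcardW : W.card = p - 1 := by
    rw [hW, Finset.card_erase_of_mem, hprim.card_nthRootsFinset]
    rw [Polynomial.mem_nthRootsFinset hp.pos]
    simp
  set s' := s.filter (fun z => c z ≠ 0) with hs'
  have hsum0 : (∑ z ∈ s, c z) = n := by
    have h0 := hk 0
    simp only [pow_zero, mul_one] at h0
    rw [hn] at h0
    have : ((n : ℕ) : ℂ) = ((∑ z ∈ s, c z : ℕ) : ℂ) := by rw [h0]; push_cast; rfl
    exact_mod_cast this.symm
  have hcard' : s'.card ≤ n := by
    rw [← hsum0]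
    calc s'.card = ∑ z ∈ s', 1 := by simp
      _ ≤ ∑ z ∈ s', c z := Finset.sum_le_sum (fun z hz => by
          have := (Finset.mem_filter.1 hz).2
          omega)
      _ ≤ ∑ z ∈ s, c z := Finset.sum_le_sum_of_subset (Finset.filter_subset _ _)
  have hex : ∃ w ∈ W, w ∉ s' := by
    by_contra hcon
    push Not at hcon
    have : W ⊆ s' := hcon
    have := Finset.card_le_card this
    omega
  obtain ⟨w, hwW, hws'⟩ := hex
  have hw1 : w ≠ 1 := (Finset.mem_erase.1 hwW).1
  have hwp : w ^ p = 1 := by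
    have := (Finset.mem_erase.1 hwW).2
    rwa [Polynomial.mem_nthRootsFinset hp.pos] at this
  have hw0 : w ≠ 0 := by
    intro h; rw [h, zero_pow hp.ne_zero] at hwp; exact zero_ne_one hwp
  -- the twisted sum
  have hA : ∑ j ∈ Finset.range p, ψ (x ^ j) * (w⁻¹) ^ j = (n : ℂ) - ψ x := by
    have hwi : (w⁻¹) ^ p = 1 := by rw [inv_pow, hwp, inv_one]
    have hwi1 : w⁻¹ ≠ 1 := by
      intro h; apply hw1; rw [← inv_inv w, h, inv_one]
    have h1 : ∑ j ∈ Finset.range p, ψ (x ^ j) * (w⁻¹) ^ j =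
        ∑ j ∈ Finset.range p, (ψ (x ^ j) - ψ x) * (w⁻¹) ^ j +
          ψ x * ∑ j ∈ Finset.range p, (w⁻¹) ^ j := by
      rw [Finset.mul_sum, ← Finset.sum_add_distrib]
      refine Finset.sum_congr rfl fun j _ => by ring
    rw [h1, blf_geom p _ hwi hwi1, mul_zero, add_zero]
    rw [Finset.sum_eq_single 0]
    · simp [hn]
    · intro j hj hj0
      have hjp := Finset.mem_range.1 hj
      rw [hconst j (Nat.pos_of_ne_zero hj0) hjp, sub_self, zero_mul]
    · intro h
      exact absurd (Finset.mem_range.2 hp.pos) h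
  have hB : ∑ j ∈ Finset.range p, ψ (x ^ j) * (w⁻¹) ^ j = 0 := by
    simp_rw [hk, Finset.sum_mul]
    rw [Finset.sum_comm]
    refine Finset.sum_eq_zero fun z hz => ?_
    have h2 : ∀ j : ℕ, (c z : ℂ) * z ^ j * (w⁻¹) ^ j = (c z : ℂ) * (z * w⁻¹) ^ j := by
      intro j; rw [mul_pow]; ring
    simp_rw [h2, ← Finset.mul_sum]
    by_cases hzw : z = w
    · have : c z = 0 := by
        by_contra hc
        apply hws'
        rw [← hzw]
        exact Finset.mem_filter.2 ⟨hz, hc⟩
      rw [this]; simp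
    · have hzp : (z * w⁻¹) ^ p = 1 := by
        rw [mul_pow, hs z hz, inv_pow, hwp, inv_one, mul_one]
      have hz1 : z * w⁻¹ ≠ 1 := by
        intro h
        apply hzw
        have := congrArg (· * w) h
        simpa [mul_assoc, inv_mul_cancel₀ hw0] using this
      rw [blf_geom p _ hzp hz1, mul_zero]
  rw [hB] at hA
  rw [hn]
  exact (sub_eq_zero.1 hA.symm).symm

/-- A CRT exponent. -/
theorem blf_crt (N p j : ℕ) (hN : 0 < N) (hp : p.Prime) (hpN : p ∣ N) (hj0 : 0 < j) (hjp : j < p) :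
    ∃ k : ℕ, Nat.Coprime k N ∧ k ≡ j [MOD p] ∧ ∀ m : ℕ, m ∣ N → ¬ p ∣ m → k ≡ 1 [MOD m] := by
  set a := N.factorization p with ha
  have hco : Nat.Coprime (p ^ a) (N / p ^ a) := by
    apply Nat.Coprime.pow_left
    exact Nat.coprime_ordCompl hp hN.ne'
  obtain ⟨k, hk1, hk2⟩ := Nat.chineseRemainder hco j 1
  have ha1 : 1 ≤ a := (hp.factorization_pos_of_dvd hN.ne' hpN)
  have hpa : p ∣ p ^ a := dvd_pow_self p (by omega)
  have hkp : k ≡ j [MOD p] := Nat.ModEq.of_dvd hpa hk1
  have hpk : ¬ p ∣ k := by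
    intro h
    have : p ∣ j := (Nat.modEq_zero_iff_dvd.1 ((hkp.symm).trans (Nat.modEq_zero_iff_dvd.2 h)))
    have := Nat.le_of_dvd hj0 this
    omega
  have hNeq : p ^ a * (N / p ^ a) = N := Nat.ordProj_mul_ordCompl_eq_self N p
  refine ⟨k, ?_, hkp, ?_⟩
  · rw [← hNeq]
    apply Nat.Coprime.mul_right
    · apply Nat.Coprime.pow_right
      exact ((Nat.Prime.coprime_iff_not_dvd hp).2 hpk).symm
    · have := hk2.gcd_eq
      rw [Nat.Coprime, this]
      simp
  · intro m hmN hpm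
    have hm : m ∣ N / p ^ a := by
      have h1 : m ∣ p ^ a * (N / p ^ a) := by rw [hNeq]; exact hmN
      have h2 : Nat.Coprime m (p ^ a) := by
        apply Nat.Coprime.pow_right
        exact ((Nat.Prime.coprime_iff_not_dvd hp).2 hpm).symm
      exact h2.dvd_of_dvd_mul_left h1
    exact Nat.ModEq.of_dvd hm hk2

end

section

theorem blf_key {G : Type*} [Group G] [Finite G] (χ : Cfsg.IrrCharacter G) (p q : ℕ)
    (hp : p.Prime) (hq : q.Prime) (hpq : p ≠ q) (n : ℕ) (hn : (χ : G → ℂ) 1 = (n : ℂ))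
    (hnp : n + 2 ≤ p) (hnq : n + 2 ≤ q) (x y : G) (hx : orderOf x = p) (hy : orderOf y = q)
    (hxk : (χ : G → ℂ) x ≠ (χ : G → ℂ) 1) (hyk : (χ : G → ℂ) y ≠ (χ : G → ℂ) 1) :
    ∃ g : G, p * q ∣ orderOf (g * y * g⁻¹ * x) := by
  classical
  haveI : Fintype G := Fintype.ofFinite G
  by_contra hcon
  push Not at hcon
  have hχc : Cfsg.IsCharacter G (χ : G → ℂ) := h7_irr_isCharacter χ.2
  -- exponents where the values move
  have hjx : ∃ j : ℕ, 0 < j ∧ j < p ∧ (χ : G → ℂ) (x ^ j) ≠ (χ : G → ℂ) x := by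
    by_contra h
    push Not at h
    exact hxk (blf_ker_of_const hχc x p hp hx n hn hnp h)
  have hjy : ∃ j : ℕ, 0 < j ∧ j < q ∧ (χ : G → ℂ) (y ^ j) ≠ (χ : G → ℂ) y := by
    by_contra h
    push Not at h
    exact hyk (blf_ker_of_const hχc y q hq hy n hn hnq h)
  obtain ⟨j, hj0, hjp, hjne⟩ := hjx
  obtain ⟨j', hj'0, hj'q, hj'ne⟩ := hjy
  have hN : 0 < Nat.card G := Nat.card_pos
  have hpN : p ∣ Nat.card G := by rw [← hx]; exact orderOf_dvd_natCard x
  have hqN : q ∣ Nat.card G := by rw [← hy]; exact orderOf_dvd_natCard y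
  obtain ⟨k, hkco, hkj, hk1⟩ := blf_crt (Nat.card G) p j hN hp hpN hj0 hjp
  obtain ⟨l, hlco, hlj, hl1⟩ := blf_crt (Nat.card G) q j' hN hq hqN hj'0 hj'q
  have hpq' : ¬ p ∣ q := by
    intro h
    exact hpq ((Nat.prime_dvd_prime_iff_eq hp hq).1 h)
  have hqp' : ¬ q ∣ p := by
    intro h
    exact hpq ((Nat.prime_dvd_prime_iff_eq hq hp).1 h).symm
  have hxk' : x ^ k = x ^ j := by
    rw [pow_eq_pow_iff_modEq, hx]; exact hkj
  have hyl' : y ^ l = y ^ j' := by
    rw [pow_eq_pow_iff_modEq, hy]; exact hlj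
  have hyk' : y ^ k = y := by
    have : y ^ k = y ^ 1 := by
      rw [pow_eq_pow_iff_modEq, hy]; exact hk1 q hqN hpq'
    rwa [pow_one] at this
  have hxl' : x ^ l = x := by
    have : x ^ l = x ^ 1 := by
      rw [pow_eq_pow_iff_modEq, hx]; exact hl1 p hpN hqp'
    rwa [pow_one] at this
  have hz : ∀ g : G, (g * y * g⁻¹ * x) ^ l = g * y * g⁻¹ * x ∨
      (g * y * g⁻¹ * x) ^ k = g * y * g⁻¹ * x := by
    intro g
    set w := g * y * g⁻¹ * x with hw
    have hwN : orderOf w ∣ Nat.card G := orderOf_dvd_natCard w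
    by_cases hpw : p ∣ orderOf w
    · left
      have hqw : ¬ q ∣ orderOf w := by
        intro hqw
        apply hcon g
        exact Nat.Coprime.mul_dvd_of_dvd_of_dvd ((Nat.coprime_primes hp hq).2 hpq) hpw hqw
      have : w ^ l = w ^ 1 := by
        rw [pow_eq_pow_iff_modEq]; exact hl1 _ hwN hqw
      rwa [pow_one] at this
    · right
      have : w ^ k = w ^ 1 := by
        rw [pow_eq_pow_iff_modEq]; exact hk1 _ hwN hpw
      rwa [pow_one] at this
  have h0 := blf_prod_zero χ x y k l hkco hlco hyk' hxl' hz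
  rw [hxk', hyl'] at h0
  rcases mul_eq_zero.1 h0 with h | h
  · exact hjne (sub_eq_zero.1 h).symm
  · exact hj'ne (sub_eq_zero.1 h).symm

end

section

/-- Data extracted from the decomposition of a character: each constituent has degree at most
the degree of the character. -/
theorem blf_decomp {G : Type*} [Group G] [Fintype G] [Fintype (Cfsg.IrrCharacter G)]
    {χ : G → ℂ} (hχ : Cfsg.IsCharacter G χ) (n : ℕ) (hn : χ 1 = (n : ℂ)) :
    ∃ m : Cfsg.IrrCharacter G → ℕ, (χ = ∑ ψ : Cfsg.IrrCharacter G, (m ψ : ℂ) • (ψ : G → ℂ)) ∧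
      ∀ ψ : Cfsg.IrrCharacter G, m ψ ≠ 0 → Cfsg.charDegree (ψ : G → ℂ) ≤ n := by
  classical
  obtain ⟨m, -, hm⟩ := isCharacter_expansion hχ
  refine ⟨m, hm, ?_⟩
  intro ψ hψ
  have h1 := congrFun hm 1
  simp only [Finset.sum_apply, Pi.smul_apply, smul_eq_mul] at h1
  rw [hn] at h1
  have h2 : (n : ℂ) = ((∑ φ : Cfsg.IrrCharacter G, m φ * Cfsg.charDegree (φ : G → ℂ) : ℕ) : ℂ) := by
    rw [h1]; push_cast
    refine Finset.sum_congr rfl fun φ _ => ?_
    rw [(charDegree_irr φ).1]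
  have h3 : n = ∑ φ : Cfsg.IrrCharacter G, m φ * Cfsg.charDegree (φ : G → ℂ) := by exact_mod_cast h2
  rw [h3]
  calc Cfsg.charDegree (ψ : G → ℂ) ≤ m ψ * Cfsg.charDegree (ψ : G → ℂ) :=
        Nat.le_mul_of_pos_left _ (Nat.pos_of_ne_zero hψ)
    _ ≤ ∑ φ : Cfsg.IrrCharacter G, m φ * Cfsg.charDegree (φ : G → ℂ) :=
        Finset.single_le_sum (f := fun φ : Cfsg.IrrCharacter G => m φ * Cfsg.charDegree (φ : G → ℂ))
          (fun _ _ => Nat.zero_le _) (Finset.mem_univ ψ)

/-- If every constituent takes its degree at `c`, so does the character. -/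
theorem blf_value_of_constituents {G : Type*} [Group G] [Fintype G] [Fintype (Cfsg.IrrCharacter G)]
    {χ : G → ℂ} (m : Cfsg.IrrCharacter G → ℕ)
    (hm : χ = ∑ ψ : Cfsg.IrrCharacter G, (m ψ : ℂ) • (ψ : G → ℂ)) (c : G)
    (hc : ∀ ψ : Cfsg.IrrCharacter G, m ψ ≠ 0 → (ψ : G → ℂ) c = (ψ : G → ℂ) 1) : χ c = χ 1 := by
  rw [hm]
  simp only [Finset.sum_apply, Pi.smul_apply, smul_eq_mul]
  refine Finset.sum_congr rfl fun ψ _ => ?_
  by_cases h : m ψ = 0
  · rw [h]; simp
  · rw [hc ψ h]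

theorem blf_irr_one_real {G : Type*} [Group G] (ψ : Cfsg.IrrCharacter G) :
    conj ((ψ : G → ℂ) 1) = (ψ : G → ℂ) 1 := by
  obtain ⟨n, -, h⟩ := irr_one_eq_finrank ψ
  rw [h]; simp

theorem blf_exists_pq {G : Type*} [Group G] [Finite G] (χ : G → ℂ) (hχ : Cfsg.IsCharacter G χ)
    (hfaith : ∀ g : G, χ g = χ 1 → g = 1) (n : ℕ) (hn : χ 1 = (n : ℂ))
    (p q : ℕ) (hp : p.Prime) (hq : q.Prime) (hpq : p ≠ q) (hnp : n + 2 ≤ p) (hnq : n + 2 ≤ q)
    (u y : G) (hu : orderOf u = p) (hy : orderOf y = q) :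
    ∃ g : G, p * q ∣ orderOf (g * y * g⁻¹ * u) := by
  classical
  haveI : Fintype G := Fintype.ofFinite G
  haveI : Fintype (Cfsg.IrrCharacter G) := Fintype.ofFinite _
  obtain ⟨m, hm, hdeg⟩ := blf_decomp hχ n hn
  by_cases h : ∃ ψ : Cfsg.IrrCharacter G, m ψ ≠ 0 ∧ (ψ : G → ℂ) u ≠ (ψ : G → ℂ) 1 ∧
      (ψ : G → ℂ) y ≠ (ψ : G → ℂ) 1
  · obtain ⟨ψ, hψ0, hψu, hψy⟩ := h
    have hd := hdeg ψ hψ0
    exact blf_key ψ p q hp hq hpq (Cfsg.charDegree (ψ : G → ℂ)) (charDegree_irr ψ).1.symm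
      (by omega) (by omega) u y hu hy hψu hψy
  · push Not at h
    have hc : y * u * y⁻¹ * u⁻¹ = 1 := by
      apply hfaith
      apply blf_value_of_constituents m hm
      intro ψ hψ0
      by_cases hψu : (ψ : G → ℂ) u = (ψ : G → ℂ) 1
      · have h1 : (ψ : G → ℂ) (y * u * y⁻¹) = (ψ : G → ℂ) 1 := by
          rw [irr_conj_invariant, hψu]
        have h2 := knb_ker_mul_left ψ (y * u * y⁻¹) u⁻¹ h1
        rw [h2, irr_inv, hψu, blf_irr_one_real]
      · have hψy := h ψ hψ0 hψu
        have h2 := knb_ker_mul_left ψ y (u * y⁻¹ * u⁻¹) hψy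
        have h3 : y * u * y⁻¹ * u⁻¹ = y * (u * y⁻¹ * u⁻¹) := by group
        rw [h3, h2, irr_conj_invariant, irr_inv, hψy, blf_irr_one_real]
    have hcomm : Commute y u := by
      have : y * u = u * y := by
        have h3 := congrArg (fun t => t * u * y) hc
        simpa [mul_assoc] using h3
      exact this
    refine ⟨1, ?_⟩
    have hcop : Nat.Coprime (orderOf y) (orderOf u) := by
      rw [hy, hu]; exact (Nat.coprime_primes hq hp).2 hpq.symm
    have := hcomm.orderOf_mul_eq_mul_orderOf_of_coprime hcop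
    rw [one_mul, inv_one, mul_one, this, hy, hu, mul_comm]

theorem blf_pi_abelian {G : Type*} [Group G] [Finite G] (χ : G → ℂ) (hχ : Cfsg.IsCharacter G χ)
    (hfaith : ∀ g : G, χ g = χ 1 → g = 1) (n : ℕ) (hn : χ 1 = (n : ℂ)) (H : Subgroup G)
    (hH : ∀ r : ℕ, r.Prime → r ∣ Nat.card H → n < r) : ∀ a ∈ H, ∀ b ∈ H, a * b = b * a := by
  classical
  intro a ha b hb
  haveI : Fintype H := Fintype.ofFinite H
  haveI : Fintype (Cfsg.IrrCharacter H) := Fintype.ofFinite _
  have hres := isCharacter_restrict hχ H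
  have hn' : (fun h : H => χ h) 1 = (n : ℂ) := by simpa using hn
  obtain ⟨m, hm, hdeg⟩ := blf_decomp hres n hn'
  have hlin : ∀ ψ : Cfsg.IrrCharacter H, m ψ ≠ 0 → (ψ : H → ℂ) 1 = 1 := by
    intro ψ hψ
    have hd := hdeg ψ hψ
    have hdvd := charDegree_dvd_card ψ
    have h1 : Cfsg.charDegree (ψ : H → ℂ) = 1 := by
      by_contra hne
      have hpr := Nat.minFac_prime hne
      have h2 := hH _ hpr ((Nat.minFac_dvd _).trans hdvd)
      have h3 := Nat.minFac_le (charDegree_irr ψ).2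
      omega
    rw [← (charDegree_irr ψ).1, h1]; simp
  let a' : H := ⟨a, ha⟩
  let b' : H := ⟨b, hb⟩
  have hc : a' * b' * (b' * a')⁻¹ = 1 := by
    have hfa : ∀ h : H, (fun h : H => χ h) h = (fun h : H => χ h) 1 → h = 1 := by
      intro h hh
      apply Subtype.ext
      apply hfaith
      simpa using hh
    apply hfa
    apply blf_value_of_constituents m hm
    intro ψ hψ0
    have h1 := hlin ψ hψ0
    rw [irr_linear_mul ψ h1, irr_linear_mul ψ h1 a' b', mul_comm ((ψ : H → ℂ) a'),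
      ← irr_linear_mul ψ h1 b' a', ← irr_linear_mul ψ h1, mul_inv_cancel]
  have h2 : a' * b' = b' * a' := by
    have := congrArg (fun t => t * (b' * a')) hc
    simpa [mul_assoc] using this
  have := congrArg (Subtype.val) h2
  simpa [a', b'] using this

end

section

/-- The subgroup of elements on which the `m`-th power of a multiplicative map is trivial. -/
def blf_powKer {G : Type*} [Group G] (μ : G →* ℂ) (m : ℕ) : Subgroup G where
  carrier := {g | μ g ^ m = 1}
  one_mem' := by simp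
  mul_mem' := by
    intro a b ha hb
    simp only [Set.mem_ofPred_eq] at ha hb ⊢
    rw [map_mul, mul_pow, ha, hb, mul_one]
  inv_mem' := by
    intro a ha
    simp only [Set.mem_ofPred_eq] at ha ⊢
    have h1 : μ a⁻¹ * μ a = 1 := by rw [← map_mul, inv_mul_cancel, map_one]
    have h2 : (μ a⁻¹) ^ m * (μ a) ^ m = 1 := by rw [← mul_pow, h1, one_pow]
    rwa [ha, mul_one] at h2

theorem blf_powKer_normal {G : Type*} [Group G] (μ : G →* ℂ) (m : ℕ) :
    (blf_powKer μ m).Normal := by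
  constructor
  intro a ha g
  change μ (g * a * g⁻¹) ^ m = 1
  have ha' : μ a ^ m = 1 := ha
  have h1 : μ (g * a * g⁻¹) = μ a := by
    rw [map_mul, map_mul, mul_comm (μ g), mul_assoc, ← map_mul, mul_inv_cancel, map_one, mul_one]
  rw [h1, ha']

theorem blf_central {G : Type*} [Group G] [Finite G] (χ : G → ℂ) (hχ : Cfsg.IsCharacter G χ)
    (hfaith : ∀ g : G, χ g = χ 1 → g = 1) (n : ℕ) (hn : χ 1 = (n : ℂ)) (q : ℕ) (hq : q.Prime)
    (hnq : n < q) (z : G) (hz : orderOf z = q) (hzc : ∀ g : G, g * z = z * g) :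
    ∃ M : Subgroup G, M.Normal ∧ M ≠ ⊤ ∧ ∃ c : ℕ, M.index = q ^ c := by
  classical
  haveI : Fact q.Prime := ⟨hq⟩
  haveI : Fintype G := Fintype.ofFinite G
  haveI : Fintype (Cfsg.IrrCharacter G) := Fintype.ofFinite _
  obtain ⟨m, hm, hdeg⟩ := blf_decomp hχ n hn
  have hz1 : z ≠ 1 := by
    intro h
    rw [h, orderOf_one] at hz
    exact hq.one_lt.ne hz
  have hex : ∃ ψ : Cfsg.IrrCharacter G, m ψ ≠ 0 ∧ (ψ : G → ℂ) z ≠ (ψ : G → ℂ) 1 := by
    by_contra h
    push Not at h
    exact hz1 (hfaith z (blf_value_of_constituents m hm z h))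
  obtain ⟨ψ, hψ0, hψz⟩ := hex
  have hd := hdeg ψ hψ0
  obtain ⟨d, ρ, hρ, hρψ⟩ := ψ.2
  haveI := hρ
  -- scalar action of z
  obtain ⟨c, hc⟩ := commuting_end_scalar ρ (ρ z) (by
    intro g
    rw [← Module.End.mul_eq_comp, ← Module.End.mul_eq_comp, ← map_mul, ← map_mul, ← hzc g])
  have hfr : Module.finrank ℂ (Fin d → ℂ) = d := by simp
  have hd0 : d ≠ 0 := by
    have := finrank_ne_zero_of_irr ρ
    rwa [hfr] at this
  have hψ1 : (ψ : G → ℂ) 1 = (d : ℂ) := by
    rw [← hρψ, Representation.char_one, hfr]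
  have hdn : d ≤ n := by
    have h1 := (charDegree_irr ψ).1
    rw [hψ1] at h1
    have : Cfsg.charDegree (ψ : G → ℂ) = d := by exact_mod_cast h1
    omega
  have hψz' : (ψ : G → ℂ) z = c * (d : ℂ) := by
    rw [← hρψ]
    change LinearMap.trace ℂ _ (ρ z) = _
    rw [hc, map_smul, LinearMap.trace_id, hfr, smul_eq_mul]
  have hc1 : c ≠ 1 := by
    intro h
    apply hψz
    rw [hψz', hψ1, h, one_mul]
  have hcq : c ^ q = 1 := by
    have h1 : (ρ z) ^ q = 1 := by
      rw [← map_pow, ← hz, pow_orderOf_eq_one, map_one]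
    rw [hc, smul_pow] at h1
    have h2 : (LinearMap.id : (Fin d → ℂ) →ₗ[ℂ] (Fin d → ℂ)) ^ q = LinearMap.id := by
      change (1 : Module.End ℂ (Fin d → ℂ)) ^ q = 1
      exact one_pow q
    rw [h2] at h1
    have h3 := congrArg (LinearMap.trace ℂ (Fin d → ℂ)) h1
    rw [map_smul, LinearMap.trace_id, hfr, smul_eq_mul] at h3
    have h4 : LinearMap.trace ℂ (Fin d → ℂ) (1 : Module.End ℂ (Fin d → ℂ)) = (d : ℂ) := by
      change LinearMap.trace ℂ (Fin d → ℂ) LinearMap.id = _
      rw [LinearMap.trace_id, hfr]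
    rw [h4] at h3
    have hdC : (d : ℂ) ≠ 0 := by exact_mod_cast hd0
    exact mul_right_cancel₀ hdC (by rw [h3, one_mul])
  have hordc : orderOf c = q := orderOf_eq_prime hcq hc1
  -- the determinant map
  let μ : G →* ℂ := (LinearMap.det : Module.End ℂ (Fin d → ℂ) →* ℂ).comp ρ
  have hμz : μ z = c ^ d := by
    change LinearMap.det (ρ z) = _
    rw [hc, LinearMap.det_smul, hfr]
    simp
  set N := Nat.card G with hN
  set a := N.factorization q with ha
  set m' := N / q ^ a with hm'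
  have hNeq : q ^ a * m' = N := Nat.ordProj_mul_ordCompl_eq_self N q
  have hNpos : 0 < N := Nat.card_pos
  have hqm' : ¬ q ∣ m' := Nat.not_dvd_ordCompl hq hNpos.ne'
  refine ⟨blf_powKer μ m', blf_powKer_normal μ m', ?_, ?_⟩
  · intro htop
    have hzmem : z ∈ blf_powKer μ m' := by rw [htop]; exact Subgroup.mem_top z
    have h1 : μ z ^ m' = 1 := hzmem
    rw [hμz, ← pow_mul] at h1
    have h2 : q ∣ d * m' := by
      rw [← hordc]; exact orderOf_dvd_of_pow_eq_one h1
    rcases (Nat.Prime.dvd_mul hq).1 h2 with h | h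
    · have := Nat.le_of_dvd (Nat.pos_of_ne_zero hd0) h
      omega
    · exact hqm' h
  · haveI := blf_powKer_normal μ m'
    have hp : IsPGroup q (G ⧸ blf_powKer μ m') := by
      intro x
      obtain ⟨g, rfl⟩ := QuotientGroup.mk_surjective x
      refine ⟨a, ?_⟩
      rw [← QuotientGroup.mk_pow, QuotientGroup.eq_one_iff]
      change μ (g ^ q ^ a) ^ m' = 1
      rw [map_pow, ← pow_mul, hNeq, ← map_pow, hN, pow_card_eq_one', map_one]
    obtain ⟨c', hc'⟩ := IsPGroup.iff_card.1 hp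
    exact ⟨c', by rw [Subgroup.index_eq_card]; exact hc'⟩

end

section

universe u

/-- `G` has an abelian Hall subgroup for the primes `> n + 1` (valuation form). -/
def blf_good (n : ℕ) (G : Type*) [Group G] : Prop :=
  ∃ A : Subgroup G, (∀ x ∈ A, ∀ y ∈ A, x * y = y * x) ∧
    (∀ q : ℕ, q.Prime → q ∣ Nat.card A → n + 1 < q) ∧
    ∀ q : ℕ, q.Prime → n + 1 < q → (Nat.card G).factorization q ≤ (Nat.card A).factorization q

/-- `G` has a faithful character of degree `n`. -/
def blf_lin (n : ℕ) (G : Type*) [Group G] : Prop :=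
  ∃ χ : G → ℂ, Cfsg.IsCharacter G χ ∧ (∀ g : G, χ g = χ 1 → g = 1) ∧ χ 1 = (n : ℂ)

theorem blf_lin_sub {G : Type*} [Group G] (n : ℕ) (h : blf_lin n G) (L : Subgroup G) :
    blf_lin n L := by
  obtain ⟨χ, hχ, hf, hn⟩ := h
  refine ⟨fun l : L => χ l, isCharacter_restrict hχ L, ?_, by simpa using hn⟩
  intro l hl
  apply Subtype.ext
  apply hf
  simpa using hl

/-- Relative form of `blf_good` for a subgroup. -/
def blf_goodIn (n : ℕ) {G : Type*} [Group G] (L : Subgroup G) : Prop :=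
  ∃ A : Subgroup G, A ≤ L ∧ (∀ x ∈ A, ∀ y ∈ A, x * y = y * x) ∧
    (∀ q : ℕ, q.Prime → q ∣ Nat.card A → n + 1 < q) ∧
    ∀ q : ℕ, q.Prime → n + 1 < q → (Nat.card L).factorization q ≤ (Nat.card A).factorization q

theorem blf_goodIn_of_good {G : Type*} [Group G] (n : ℕ) (L : Subgroup G) (h : blf_good n L) :
    blf_goodIn n L := by
  obtain ⟨A, hab, hpi, hhall⟩ := h
  have hcard : Nat.card (A.map L.subtype) = Nat.card A :=
    Subgroup.card_map_of_injective L.subtype_injective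
  refine ⟨A.map L.subtype, ?_, ?_, ?_, ?_⟩
  · intro x hx
    obtain ⟨a, -, rfl⟩ := hx
    exact a.2
  · intro x hx y hy
    obtain ⟨a, ha, rfl⟩ := hx
    obtain ⟨b, hb, rfl⟩ := hy
    have := hab a ha b hb
    have h2 := congrArg (L.subtype) this
    simpa using h2
  · intro q hq hdvd
    rw [hcard] at hdvd
    exact hpi q hq hdvd
  · intro q hq hnq
    rw [hcard]
    exact hhall q hq hnq

theorem blf_good_of_goodIn_top {G : Type*} [Group G] (n : ℕ)
    (h : blf_goodIn n (⊤ : Subgroup G)) : blf_good n G := by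
  obtain ⟨A, -, hab, hpi, hhall⟩ := h
  refine ⟨A, hab, hpi, ?_⟩
  intro q hq hnq
  have := hhall q hq hnq
  rwa [Subgroup.card_top] at this

theorem blf_nilpotent {G : Type*} [Group G] (A : Subgroup G)
    (h : ∀ x ∈ A, ∀ y ∈ A, x * y = y * x) : Group.IsNilpotent A := by
  letI : CommGroup A :=
    { (inferInstance : Group A) with
      mul_comm := fun a b => Subtype.ext (h a a.2 b b.2) }
  exact CommGroup.isNilpotent

theorem blf_card_rel {G : Type*} [Group G] {H L : Subgroup G} (hHL : H ≤ L) :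
    Nat.card H * H.relIndex L = Nat.card L := by
  have h1 := Subgroup.card_mul_index (H.subgroupOf L)
  have h2 : Nat.card (H.subgroupOf L) = Nat.card H :=
    Nat.card_congr (Subgroup.subgroupOfEquivOfLe hHL).toEquiv
  rw [h2] at h1
  exact h1

theorem blf_wielandt {G : Type u} [Group G] [Finite G] (n : ℕ) (L H K : Subgroup G)
    (hHL : H ≤ L) (hKL : K ≤ L) (hab : ∀ x ∈ H, ∀ y ∈ H, x * y = y * x)
    (hHpi : ∀ q : ℕ, q.Prime → q ∣ Nat.card H → n + 1 < q)
    (hHall : ∀ q : ℕ, q.Prime → n + 1 < q →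
      (Nat.card L).factorization q ≤ (Nat.card H).factorization q)
    (hKpi : ∀ q : ℕ, q.Prime → q ∣ Nat.card K → n + 1 < q) :
    ∃ x ∈ L, K ≤ MulAut.conj x • H := by
  have hnil := blf_nilpotent H hab
  have hcard := blf_card_rel hHL
  have hLpos : 0 < Nat.card L := Nat.card_pos
  have hHpos : 0 < Nat.card H := Nat.card_pos
  have hrel0 : H.relIndex L ≠ 0 := by
    intro h; rw [h, mul_zero] at hcard; omega
  have hcop : (Nat.card H).Coprime (H.relIndex L) := by
    apply Nat.coprime_of_dvd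
    intro r hr hrH hrI
    have hpi := hHpi r hr hrH
    have h1 := hHall r hr hpi
    rw [← hcard, Nat.factorization_mul hHpos.ne' hrel0] at h1
    simp only [Finsupp.coe_add, Pi.add_apply] at h1
    have h2 : 0 < (H.relIndex L).factorization r := hr.factorization_pos_of_dvd hrel0 hrI
    omega
  refine Cfsg.Agent.S0581.main_aux (Nat.card H) L H rfl hHL hnil hcop K hKL ?_
  intro q hq hqK
  have hpi := hKpi q hq hqK
  have hqL : q ∣ Nat.card L := hqK.trans (Subgroup.card_dvd_of_le hKL)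
  have h1 := hHall q hq hpi
  have h2 : 0 < (Nat.card L).factorization q := hq.factorization_pos_of_dvd hLpos.ne' hqL
  exact Nat.dvd_of_factorization_pos (by omega)

theorem blf_card_conj {G : Type*} [Group G] (x : G) (H : Subgroup G) :
    Nat.card (MulAut.conj x • H : Subgroup G) = Nat.card H := by
  have : (MulAut.conj x • H : Subgroup G) = H.map (MulAut.conj x).toMonoidHom := rfl
  rw [this]
  exact Subgroup.card_map_of_injective (MulAut.conj x).injective

theorem blf_mem_conj {G : Type*} [Group G] (x a : G) (H : Subgroup G) :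
    a ∈ (MulAut.conj x • H : Subgroup G) ↔ x⁻¹ * a * x ∈ H := by
  rw [Subgroup.mem_pointwise_smul_iff_inv_smul_mem]
  simp [MulAut.smul_def, MulAut.conj_inv_apply]

theorem blf_fact_le_of_dvd {a b : ℕ} (hb : b ≠ 0) (h : a ∣ b) (q : ℕ) :
    a.factorization q ≤ b.factorization q := by
  have ha : a ≠ 0 := fun h0 => hb (by rw [h0] at h; exact zero_dvd_iff.1 h)
  exact (Nat.factorization_le_iff_dvd ha hb).2 h q

end

section

universe u

theorem blf_mem_centralizer_singleton {G : Type*} [Group G] (u g : G) :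
    g ∈ Subgroup.centralizer ({u} : Set G) ↔ u * g = g * u := by
  rw [Subgroup.mem_centralizer_iff]
  constructor
  · intro h; exact h u rfl
  · intro h v hv
    rw [Set.mem_singleton_iff] at hv
    rw [hv]; exact h

theorem blf_caseB {G : Type u} [Group G] [Finite G] (n : ℕ) (χ : G → ℂ)
    (hχ : Cfsg.IsCharacter G χ) (hfaith : ∀ g : G, χ g = χ 1 → g = 1) (hn : χ 1 = (n : ℂ))
    (ih : ∀ L : Subgroup G, L ≠ ⊤ → blf_goodIn n L)
    (hnc : ∀ z : G, (∀ g : G, g * z = z * g) → ∀ q : ℕ, q.Prime → n + 1 < q → orderOf z ≠ q) :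
    blf_good n G := by
  classical
  haveI : Fintype (Subgroup G) := Fintype.ofFinite _
  let S : Finset (Subgroup G) :=
    Finset.univ.filter (fun H => ∀ q : ℕ, q.Prime → q ∣ Nat.card H → n + 1 < q)
  have hbot : (⊥ : Subgroup G) ∈ S := by
    simp only [S, Finset.mem_filter, Finset.mem_univ, true_and]
    intro q hq hdvd
    rw [Subgroup.card_bot] at hdvd
    exact absurd (Nat.dvd_one.1 hdvd) hq.one_lt.ne'
  obtain ⟨H, hHS, hHmax⟩ := Finset.exists_max_image S (fun H => Nat.card H) ⟨⊥, hbot⟩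
  have hHpi : ∀ q : ℕ, q.Prime → q ∣ Nat.card H → n + 1 < q := (Finset.mem_filter.1 hHS).2
  have hmax : ∀ K : Subgroup G, (∀ q : ℕ, q.Prime → q ∣ Nat.card K → n + 1 < q) →
      Nat.card K ≤ Nat.card H :=
    fun K hK => hHmax K (Finset.mem_filter.2 ⟨Finset.mem_univ _, hK⟩)
  have hpiab : ∀ K : Subgroup G, (∀ q : ℕ, q.Prime → q ∣ Nat.card K → n + 1 < q) →
      ∀ a ∈ K, ∀ b ∈ K, a * b = b * a :=
    fun K hK => blf_pi_abelian χ hχ hfaith n hn K (fun r hr hd => by
      have := hK r hr hd; omega)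
  have hHab := hpiab H hHpi
  have hGpos : 0 < Nat.card G := Nat.card_pos
  -- Claim 1
  have claim1 : ∀ u ∈ H, ∀ r : ℕ, r.Prime → orderOf u = r → ∀ q : ℕ, q.Prime → n + 1 < q →
      (Nat.card (Subgroup.centralizer ({u} : Set G))).factorization q ≤
        (Nat.card H).factorization q := by
    intro u hu r hr hur q hq hnq
    set C := Subgroup.centralizer ({u} : Set G) with hC
    have hrH : r ∣ Nat.card H := by rw [← hur]; exact Subgroup.orderOf_dvd_natCard H hu
    have hrpi := hHpi r hr hrH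
    have hCtop : C ≠ ⊤ := by
      intro htop
      apply hnc u _ r hr hrpi hur
      intro g
      have : g ∈ C := by rw [htop]; exact Subgroup.mem_top g
      rw [hC, blf_mem_centralizer_singleton] at this
      exact this.symm
    obtain ⟨A, hAC, hAab, hApi, hAhall⟩ := ih C hCtop
    have hHC : H ≤ C := by
      intro h hh
      rw [hC, blf_mem_centralizer_singleton]
      exact hHab u hu h hh
    obtain ⟨x, hxC, hHx⟩ := blf_wielandt n C A H hAC hHC hAab hApi hAhall hHpi
    have h1 : Nat.card H ≤ Nat.card A := by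
      have := Nat.le_of_dvd Nat.card_pos (Subgroup.card_dvd_of_le hHx)
      rwa [blf_card_conj] at this
    have h2 : Nat.card A ≤ Nat.card H := hmax A hApi
    have h3 : Nat.card A = Nat.card H := le_antisymm h2 h1
    have := hAhall q hq hnq
    rwa [h3] at this
  -- Claim 2
  have claim2 : ∀ q : ℕ, q.Prime → q ∣ Nat.card H →
      (Nat.card G).factorization q ≤ (Nat.card H).factorization q := by
    intro q hq hqH
    haveI : Fact q.Prime := ⟨hq⟩
    have hqpi := hHpi q hq hqH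
    obtain ⟨u', hu'⟩ := exists_prime_orderOf_dvd_card' q hqH
    have hu : (u' : G) ∈ H := u'.2
    have huq : orderOf (u' : G) = q := by rw [← hu']; exact Subgroup.orderOf_coe u'
    have hzp : IsPGroup q (Subgroup.zpowers (u' : G)) :=
      IsPGroup.of_card (n := 1) (by rw [Nat.card_zpowers, huq, pow_one])
    obtain ⟨Q, hQ⟩ := hzp.exists_le_sylow
    have hQcard := Q.card_eq_multiplicity
    have hQpi : ∀ r : ℕ, r.Prime → r ∣ Nat.card (Q : Subgroup G) → n + 1 < r := by
      intro r hr hrd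
      rw [hQcard] at hrd
      have := (Nat.prime_dvd_prime_iff_eq hr hq).1 (hr.dvd_of_dvd_pow hrd)
      rw [this]; exact hqpi
    have hQab := hpiab Q hQpi
    have huQ : (u' : G) ∈ (Q : Subgroup G) := hQ (Subgroup.mem_zpowers _)
    have hQC : (Q : Subgroup G) ≤ Subgroup.centralizer ({(u' : G)} : Set G) := by
      intro g hg
      rw [blf_mem_centralizer_singleton]
      exact hQab _ huQ g hg
    have h1 := claim1 _ hu q hq huq q hq hqpi
    have h2 := blf_fact_le_of_dvd (Nat.card_pos.ne') (Subgroup.card_dvd_of_le hQC) q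
    rw [hQcard, hq.factorization_pow, Finsupp.single_eq_same] at h2
    omega
  refine ⟨H, hHab, hHpi, ?_⟩
  intro q hq hnq
  by_contra hlt
  push Not at hlt
  have hqH : ¬ q ∣ Nat.card H := fun h => by have := claim2 q hq h; omega
  have hqG : q ∣ Nat.card G := Nat.dvd_of_factorization_pos (by omega)
  haveI : Fact q.Prime := ⟨hq⟩
  obtain ⟨y, hy⟩ := exists_prime_orderOf_dvd_card' q hqG
  have hHq : q ≤ Nat.card H := by
    have := hmax (Subgroup.zpowers y) (by
      intro r hr hrd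
      rw [Nat.card_zpowers, hy] at hrd
      rw [(Nat.prime_dvd_prime_iff_eq hr hq).1 hrd]; exact hnq)
    rwa [Nat.card_zpowers, hy] at this
  have hH1 : Nat.card H ≠ 1 := by have := hq.two_le; omega
  obtain ⟨p, hp, hpH⟩ := Nat.exists_prime_and_dvd hH1
  haveI : Fact p.Prime := ⟨hp⟩
  have hppi := hHpi p hp hpH
  have hpq : p ≠ q := fun h => hqH (h ▸ hpH)
  obtain ⟨u', hu'⟩ := exists_prime_orderOf_dvd_card' p hpH
  have hu : (u' : G) ∈ H := u'.2
  have hup : orderOf (u' : G) = p := by rw [← hu']; exact Subgroup.orderOf_coe u'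
  obtain ⟨g, hg⟩ := blf_exists_pq χ hχ hfaith n hn p q hp hq hpq (by omega) (by omega)
    (u' : G) y hup hy
  set w := g * y * g⁻¹ * (u' : G) with hw
  have hw0 : orderOf w ≠ 0 := (orderOf_pos w).ne'
  set e := orderOf w / (p * q) with he
  have hpq0 : p * q ≠ 0 := Nat.mul_ne_zero hp.ne_zero hq.ne_zero
  have hediv : e ∣ orderOf w := Nat.div_dvd_of_dvd hg
  have he0 : e ≠ 0 := by
    intro h0
    have h1 := Nat.div_mul_cancel hg
    rw [← he, h0, zero_mul] at h1
    exact hw0 h1.symm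
  set t := w ^ e with ht
  have hto : orderOf t = p * q := by
    rw [ht, orderOf_pow_of_dvd he0 hediv, he, Nat.div_div_self hg hw0]
  have hu2 : orderOf (t ^ q) = p := by
    rw [orderOf_pow_of_dvd hq.ne_zero (by rw [hto]; exact dvd_mul_left q p), hto,
      Nat.mul_div_cancel _ hq.pos]
  have hy2 : orderOf (t ^ p) = q := by
    rw [orderOf_pow_of_dvd hp.ne_zero (by rw [hto]; exact dvd_mul_right p q), hto,
      Nat.mul_div_cancel_left _ hp.pos]
  have hcomm : t ^ q * t ^ p = t ^ p * t ^ q := by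
    rw [← pow_add, ← pow_add, add_comm]
  -- a Sylow p-subgroup of G inside H
  obtain ⟨P⟩ : Nonempty (Sylow p H) := inferInstance
  set B := (P : Subgroup H).map H.subtype with hB
  have hBcard : Nat.card B = p ^ (Nat.card G).factorization p := by
    rw [hB, Subgroup.card_map_of_injective H.subtype_injective, P.card_eq_multiplicity]
    congr 1
    exact le_antisymm (blf_fact_le_of_dvd hGpos.ne' (Subgroup.card_subgroup_dvd_card H) p)
      (claim2 p hp hpH)
  have hBH : B ≤ H := by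
    intro b hb
    obtain ⟨a, -, rfl⟩ := hb
    exact a.2
  have hzp : IsPGroup p (Subgroup.zpowers (t ^ q)) :=
    IsPGroup.of_card (n := 1) (by rw [Nat.card_zpowers, hu2, pow_one])
  obtain ⟨x, -, hx⟩ := Cfsg.Agent.S0581.conj_into (p := p) ⊤ (Subgroup.zpowers (t ^ q)) B
    le_top le_top hzp (by rw [Subgroup.card_top]; exact hBcard)
  have hu3 : x * t ^ q * x⁻¹ ∈ H := hBH (hx _ (Subgroup.mem_zpowers _))
  have hu3o : orderOf (x * t ^ q * x⁻¹) = p := by
    have := (MulAut.conj x).orderOf_eq (t ^ q)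
    rw [MulAut.conj_apply] at this
    rw [this, hu2]
  have hy3o : orderOf (x * t ^ p * x⁻¹) = q := by
    have := (MulAut.conj x).orderOf_eq (t ^ p)
    rw [MulAut.conj_apply] at this
    rw [this, hy2]
  have hy3C : x * t ^ p * x⁻¹ ∈ Subgroup.centralizer ({x * t ^ q * x⁻¹} : Set G) := by
    rw [blf_mem_centralizer_singleton]
    have h1 : x * t ^ q * x⁻¹ * (x * t ^ p * x⁻¹) = x * (t ^ q * t ^ p) * x⁻¹ := by group
    have h2 : x * t ^ p * x⁻¹ * (x * t ^ q * x⁻¹) = x * (t ^ p * t ^ q) * x⁻¹ := by group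
    rw [h1, h2, hcomm]
  have hqC : q ∣ Nat.card (Subgroup.centralizer ({x * t ^ q * x⁻¹} : Set G)) := by
    have := Subgroup.orderOf_dvd_natCard _ hy3C
    rwa [hy3o] at this
  have h1 := claim1 _ hu3 p hp hu3o q hq hnq
  have h2 : 0 < (Nat.card (Subgroup.centralizer ({x * t ^ q * x⁻¹} : Set G))).factorization q :=
    hq.factorization_pos_of_dvd Nat.card_pos.ne' hqC
  have h3 : (Nat.card H).factorization q = 0 := Nat.factorization_eq_zero_of_not_dvd hqH
  omega

end

section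

universe u

theorem blf_caseA {G : Type u} [Group G] [Finite G] (n : ℕ) (χ : G → ℂ)
    (hχ : Cfsg.IsCharacter G χ) (hfaith : ∀ g : G, χ g = χ 1 → g = 1) (hn : χ 1 = (n : ℂ))
    (ih : ∀ L : Subgroup G, L ≠ ⊤ → blf_goodIn n L)
    (M : Subgroup G) (hMn : M.Normal) (hM : M ≠ ⊤) (q : ℕ) (hq : q.Prime) (hnq : n + 1 < q)
    (c : ℕ) (hidx : M.index = q ^ c) : blf_good n G := by
  classical
  haveI := hMn
  haveI : Fact q.Prime := ⟨hq⟩
  obtain ⟨H0, hH0M, hab, hpi, hhall⟩ := ih M hM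
  have hGpos : 0 < Nat.card G := Nat.card_pos
  have hMpos : 0 < Nat.card M := Nat.card_pos
  have hcardG : Nat.card M * q ^ c = Nat.card G := by rw [← hidx]; exact Subgroup.card_mul_index M
  have hvr : ∀ r : ℕ, r.Prime → r ≠ q →
      (Nat.card G).factorization r = (Nat.card M).factorization r := by
    intro r hr hrq
    rw [← hcardG, Nat.factorization_mul hMpos.ne' (pow_ne_zero c hq.ne_zero)]
    simp [hq.factorization_pow, hrq, Ne.symm hrq]
  set T := Subgroup.normalizer (H0 : Set G) with hT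
  have hH0T : H0 ≤ T := Subgroup.le_normalizer
  have hfrat : ∀ g : G, ∃ m ∈ M, m⁻¹ * g ∈ T := by
    intro g
    have hconjM : (MulAut.conj g • H0 : Subgroup G) ≤ M := by
      intro a ha
      rw [blf_mem_conj] at ha
      have h1 : g * (g⁻¹ * a * g) * g⁻¹ ∈ M := hMn.conj_mem _ (hH0M ha) g
      have h2 : g * (g⁻¹ * a * g) * g⁻¹ = a := by group
      rwa [h2] at h1
    have hKpi : ∀ r : ℕ, r.Prime → r ∣ Nat.card (MulAut.conj g • H0 : Subgroup G) →
        n + 1 < r := by
      intro r hr hrd; rw [blf_card_conj] at hrd; exact hpi r hr hrd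
    obtain ⟨m, hmM, hle⟩ :=
      blf_wielandt n M H0 (MulAut.conj g • H0) hH0M hconjM hab hpi hhall hKpi
    have heq : (MulAut.conj g • H0 : Subgroup G) = MulAut.conj m • H0 :=
      Subgroup.eq_of_le_of_card_ge hle (by rw [blf_card_conj, blf_card_conj])
    refine ⟨m, hmM, ?_⟩
    rw [hT, Subgroup.mem_normalizer_iff]
    intro h
    have key : g * h * g⁻¹ ∈ (MulAut.conj g • H0 : Subgroup G) ↔
        g * h * g⁻¹ ∈ (MulAut.conj m • H0 : Subgroup G) := by rw [heq]
    rw [blf_mem_conj, blf_mem_conj] at key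
    have e1 : g⁻¹ * (g * h * g⁻¹) * g = h := by group
    have e2 : m⁻¹ * (g * h * g⁻¹) * m = m⁻¹ * g * h * (m⁻¹ * g)⁻¹ := by group
    rw [e1, e2] at key
    exact key
  have hsup : T ⊔ M = ⊤ := by
    rw [eq_top_iff]; intro g _
    obtain ⟨m, hmM, hmT⟩ := hfrat g
    have : g = m * (m⁻¹ * g) := by group
    rw [this]
    exact Subgroup.mul_mem _ (Subgroup.mem_sup_right hmM) (Subgroup.mem_sup_left hmT)
  have hidxT : M.index = M.relIndex T := by
    rw [← Subgroup.relIndex_top_right, ← hsup, Subgroup.relIndex_sup_right]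
  have hcardT : Nat.card (M ⊓ T : Subgroup G) * M.index = Nat.card T := by
    rw [hidxT, ← Subgroup.inf_relIndex_right]
    exact blf_card_rel inf_le_right
  have hTpos : 0 < Nat.card T := Nat.card_pos
  have hMTpos : 0 < Nat.card (M ⊓ T : Subgroup G) := Nat.card_pos
  have hvT : ∀ r : ℕ, r.Prime → n + 1 < r →
      (Nat.card G).factorization r ≤ (Nat.card T).factorization r := by
    intro r hr hnr
    have h1 : Nat.card G * Nat.card (M ⊓ T : Subgroup G) = Nat.card M * Nat.card T := by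
      rw [← hcardT, ← Subgroup.card_mul_index M]; ring
    have h2 := congrArg (fun k => k.factorization r) h1
    simp only [Nat.factorization_mul hGpos.ne' hMTpos.ne',
      Nat.factorization_mul hMpos.ne' hTpos.ne', Finsupp.coe_add, Pi.add_apply] at h2
    have h3 : (Nat.card H0).factorization r ≤ (Nat.card (M ⊓ T : Subgroup G)).factorization r :=
      blf_fact_le_of_dvd hMTpos.ne' (Subgroup.card_dvd_of_le (le_inf hH0M hH0T)) r
    have h4 := hhall r hr hnr
    omega
  by_cases hTtop : T = ⊤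
  · have hH0n : H0.Normal := Subgroup.normalizer_eq_top_iff.1 hTtop
    obtain ⟨Q⟩ : Nonempty (Sylow q G) := inferInstance
    set A := H0 ⊔ (Q : Subgroup G) with hA
    have hcardA : Nat.card A = Nat.card H0 * H0.relIndex (Q : Subgroup G) := by
      rw [← blf_card_rel (le_sup_left : H0 ≤ A), Subgroup.relIndex_sup_left]
    have hApi : ∀ r : ℕ, r.Prime → r ∣ Nat.card A → n + 1 < r := by
      intro r hr hrd
      rw [hcardA] at hrd
      rcases (Nat.Prime.dvd_mul hr).1 hrd with h | h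
      · exact hpi r hr h
      · have h2 : r ∣ Nat.card (Q : Subgroup G) := h.trans (Subgroup.relIndex_dvd_card _ _)
        rw [Q.card_eq_multiplicity] at h2
        rw [(Nat.prime_dvd_prime_iff_eq hr hq).1 (hr.dvd_of_dvd_pow h2)]; exact hnq
    refine ⟨A, blf_pi_abelian χ hχ hfaith n hn A (fun r hr hd => by
      have := hApi r hr hd; omega), hApi, ?_⟩
    intro r hr hnr
    by_cases hrq : r = q
    · have := blf_fact_le_of_dvd Nat.card_pos.ne'
        (Subgroup.card_dvd_of_le (le_sup_right : (Q : Subgroup G) ≤ A)) q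
      rw [Q.card_eq_multiplicity, hq.factorization_pow, Finsupp.single_eq_same] at this
      rw [hrq]
      exact this
    · rw [hvr r hr hrq]
      exact (hhall r hr hnr).trans
        (blf_fact_le_of_dvd Nat.card_pos.ne' (Subgroup.card_dvd_of_le le_sup_left) r)
  · obtain ⟨A, hAT, hAab, hApi, hAhall⟩ := ih T hTtop
    exact ⟨A, hAab, hApi, fun r hr hnr => (hvT r hr hnr).trans (hAhall r hr hnr)⟩

end

section

universe u

theorem blf_main (n : ℕ) : ∀ N : ℕ, ∀ (G : Type u) [Group G] [Finite G], Nat.card G = N →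
    blf_lin n G → blf_good n G := by
  intro N
  induction N using Nat.strong_induction_on with
  | _ N IH =>
    intro G _ _ hN hlin
    obtain ⟨χ, hχ, hfaith, hn⟩ := hlin
    have ih : ∀ L : Subgroup G, L ≠ ⊤ → blf_goodIn n L := by
      intro L hL
      have hlt : Nat.card L < N := by
        rw [← hN]
        exact lt_of_le_of_ne (Subgroup.card_le_card_group L)
          (fun h => hL (Subgroup.eq_top_of_card_eq L h))
      exact blf_goodIn_of_good n L (IH _ hlt L rfl (blf_lin_sub n ⟨χ, hχ, hfaith, hn⟩ L))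
    by_cases hc : ∃ z : G, (∀ g : G, g * z = z * g) ∧
        ∃ q : ℕ, q.Prime ∧ n + 1 < q ∧ orderOf z = q
    · obtain ⟨z, hzc, q, hq, hnq, hzq⟩ := hc
      obtain ⟨M, hMn, hM, c, hidx⟩ := blf_central χ hχ hfaith n hn q hq (by omega) z hzq hzc
      exact blf_caseA n χ hχ hfaith hn ih M hMn hM q hq hnq c hidx
    · push Not at hc
      exact blf_caseB n χ hχ hfaith hn ih (fun z hz q hq hnq => hc z hz q hq hnq)

theorem blf_char_one {G : Type*} [Group G] {χ : G → ℂ} (hχ : Cfsg.IsCharacter G χ) (n : ℕ)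
    (hn : Cfsg.charDegree χ = n) : χ 1 = (n : ℂ) := by
  obtain ⟨k, hk⟩ := isCharacter_one_eq_nat hχ
  have : Cfsg.charDegree χ = k := by
    unfold Cfsg.charDegree
    rw [hk]; simp
  rw [hk, ← hn, this]

/-- Blichfeldt: a linear group of degree `n` has an abelian Hall subgroup for the primes
greater than `n + 1`. -/
theorem blf_hall {G : Type u} [Group G] [Finite G] (χ : G → ℂ) (hχ : Cfsg.IsCharacter G χ)
    (hfaith : ∀ g : G, χ g = χ 1 → g = 1) (n : ℕ) (hn : Cfsg.charDegree χ = n) :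
    ∃ A : Subgroup G, (∀ x ∈ A, ∀ y ∈ A, x * y = y * x) ∧
      (∀ q : ℕ, q.Prime → q ∣ Nat.card A → n + 1 < q) ∧
      (∀ q : ℕ, q.Prime → n + 1 < q →
        (Nat.card G).factorization q ≤ (Nat.card A).factorization q) ∧
      ∀ q : ℕ, q.Prime → q ∣ A.index → q ≤ n + 1 := by
  obtain ⟨A, hab, hpi, hhall⟩ := blf_main n (Nat.card G) G rfl
    ⟨χ, hχ, hfaith, blf_char_one hχ n hn⟩
  refine ⟨A, hab, hpi, hhall, ?_⟩
  intro q hq hqi
  by_contra hlt
  push Not at hlt
  have h1 := hhall q hq hlt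
  have hApos : 0 < Nat.card A := Nat.card_pos
  have hGpos : 0 < Nat.card G := Nat.card_pos
  have h2 := Subgroup.card_mul_index A
  have hi0 : A.index ≠ 0 := by
    intro h; rw [h, mul_zero] at h2; omega
  rw [← h2, Nat.factorization_mul hApos.ne' hi0] at h1
  simp only [Finsupp.coe_add, Pi.add_apply] at h1
  have h3 : 0 < A.index.factorization q := hq.factorization_pos_of_dvd hi0 hqi
  omega

end

end Cfsg.Agent.Lib.Helper25
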