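import Cfsg.Agent.Lib.Helper25.SLMA1

set_option autoImplicit false
set_option linter.unusedSectionVars false
set_option linter.unusedVariables false

/-! Project SLM (S2332), piece A5 (+A6): conjugation of the Fourier idempotents, vanishing of
the off-diagonal traces, and the character as a sum over the idempotents. -/

namespace Cfsg.Agent.Lib.helper15.SLM

open Matrix

section A

variable {F : Type*} [Field F] [Fintype F] [DecidableEq F]
  {κ : Type*} [Fintype κ] [DecidableEq κ]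
  {H : Type*} [Group H] {W : Type*} [AddCommGroup W] [Module ℂ W] [FiniteDimensional ℂ W]

/-- multiplication by an invertible matrix as an equivalence of the vector space -/
noncomputable def h25_mulVecEquiv (M : Matrix κ κ F) (hM : IsUnit M.det) :
    (κ → F) ≃ (κ → F) where
  toFun v := M *ᵥ v
  invFun v := M⁻¹ *ᵥ v
  left_inv v := by
    show M⁻¹ *ᵥ (M *ᵥ v) = v
    rw [Matrix.mulVec_mulVec, Matrix.nonsing_inv_mul M hM, Matrix.one_mulVec]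
  right_inv v := by
    show M *ᵥ (M⁻¹ *ᵥ v) = v
    rw [Matrix.mulVec_mulVec, Matrix.mul_nonsing_inv M hM, Matrix.one_mulVec]

/-- A5 -/
theorem eIdem_conj (χ₀ : AddChar F ℂ) (σ : Representation ℂ H W) (ξ : (κ → F) → H)
    (t : H) (M : Matrix κ κ F) (hM : IsUnit M.det) (ht : ∀ u, t * ξ u = ξ (M *ᵥ u) * t)
    (w : κ → F) : σ t * eIdem χ₀ σ ξ (w ᵥ* M) = eIdem χ₀ σ ξ w * σ t := by
  unfold eIdem
  refine Cfsg.Agent.Lib.helper15.FourierIdem.conj_idem χ₀ (fun u => σ (ξ u)) (σ t)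
    (h25_mulVecEquiv M hM) ?_ (w ᵥ* M) w ?_
  · intro v
    show σ t * σ (ξ v) = σ (ξ (M *ᵥ v)) * σ t
    rw [← map_mul, ← map_mul, ht]
  · intro v
    show w ⬝ᵥ (M *ᵥ v) = (w ᵥ* M) ⬝ᵥ v
    rw [Matrix.dotProduct_mulVec]

theorem trace_mul_eIdem_eq_zero (χ₀ : AddChar F ℂ) (hχ₀ : χ₀.IsPrimitive)
    (σ : Representation ℂ H W) (ξ : (κ → F) → H) (hξ : ∀ u u', ξ (u + u') = ξ u * ξ u')
    (t : H) (M : Matrix κ κ F) (hM : IsUnit M.det) (ht : ∀ u, t * ξ u = ξ (M *ᵥ u) * t)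
    (w : κ → F) (hw : w ᵥ* M ≠ w) :
    LinearMap.trace ℂ W (σ t * eIdem χ₀ σ ξ w) = 0 := by
  have h1 : eIdem χ₀ σ ξ w = eIdem χ₀ σ ξ w * eIdem χ₀ σ ξ w := by
    rw [eIdem_mul_self χ₀ hχ₀ σ ξ hξ, if_pos rfl]
  have h2 : σ t * eIdem χ₀ σ ξ w = (σ t * eIdem χ₀ σ ξ w) * eIdem χ₀ σ ξ w := by
    rw [mul_assoc, ← h1]
  rw [h2, LinearMap.trace_mul_comm, ← mul_assoc, ← eIdem_conj χ₀ σ ξ t M hM ht w, mul_assoc,
    eIdem_mul_self χ₀ hχ₀ σ ξ hξ, if_neg hw, mul_zero, map_zero]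

/-- A6 -/
theorem character_eq_sum (χ₀ : AddChar F ℂ) (hχ₀ : χ₀.IsPrimitive)
    (σ : Representation ℂ H W) (ξ : (κ → F) → H) (hξ : ∀ u u', ξ (u + u') = ξ u * ξ u') (t : H) :
    σ.character t = ∑ w : κ → F, LinearMap.trace ℂ W (σ t * eIdem χ₀ σ ξ w) := by
  rw [← map_sum, ← Finset.mul_sum, sum_eIdem χ₀ hχ₀ σ ξ hξ, mul_one]
  rfl

end A

end Cfsg.Agent.Lib.helper15.SLM
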