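import Mathlib
import Cfsg.Prelude.Def_LieTypeChar
import Cfsg.Agent.Lib.helper14.SQD.Defs
import Cfsg.Agent.Lib.helper14.SQD.DefsU
import Cfsg.Agent.Lib.Helper24.SQD.DefsO

/-!
Project SQD = S4625, row OP2 (`sieg_mem_iso_plus`): `siegHom S` is an isometry of `quadFormPlus` for `S` alternating,
characteristic 2.  Self-contained (own copies of the OA1 / OW3 facts under `sqdop2_` names).
-/

set_option autoImplicit false

namespace Cfsg.Agent.Lib.helper14.SQD

open Cfsg Cfsg.Lie Matrix

universe u v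

/-- own copy of OA1: the quadratic form of an alternating matrix vanishes in characteristic 2. -/
theorem sqdop2_alt_quad_zero {k : ℕ} {R : Type u} [CommRing R] [CharP R 2] (S : Matrix (Fin k) (Fin k) R)
    (hS : S ∈ altAdd k R) (y : Fin k → R) : y ⬝ᵥ (S *ᵥ y) = 0 := by
  obtain ⟨hT, hD⟩ := hS
  have hsym : ∀ i j, S j i = S i j := by
    intro i j
    have := congrFun (congrFun hT i) j
    rwa [Matrix.transpose_apply] at this
  have e : y ⬝ᵥ (S *ᵥ y) = ∑ p : Fin k × Fin k, y p.1 * S p.1 p.2 * y p.2 := by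
    rw [Fintype.sum_prod_type]
    unfold dotProduct mulVec dotProduct
    apply Finset.sum_congr rfl
    intro i _
    rw [Finset.mul_sum]
    apply Finset.sum_congr rfl
    intro j _
    ring
  rw [e]
  apply Finset.sum_involution (fun p _ => (p.2, p.1))
  · intro p _
    show y p.1 * S p.1 p.2 * y p.2 + y p.2 * S p.2 p.1 * y p.1 = 0
    rw [hsym p.1 p.2]
    have : y p.2 * S p.1 p.2 * y p.1 = y p.1 * S p.1 p.2 * y p.2 := by ring
    rw [this]
    exact CharTwo.add_self_eq_zero _
  · intro p _ hne heq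
    apply hne
    have h12 : p.2 = p.1 := by
      have := congrArg Prod.fst heq
      simpa using this
    rw [h12, hD, mul_zero, zero_mul]
  · intro p _
    exact Finset.mem_univ _
  · intro p _
    rfl

/-- own copy of OW3: membership in the isometry group. -/
theorem sqdop2_mem_iso {ι : Type} [Fintype ι] [DecidableEq ι] {F : Type u} [Field F] (Q : (ι → F) → F)
    (g : GL ι F) : g ∈ isometryGroup F Q ↔ ∀ v : ι → F, Q ((g : Matrix ι ι F) *ᵥ v) = Q v := by
  unfold isometryGroup preserving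
  constructor
  · intro h v
    exact h v v
  · intro h u _
    exact h u

section OP
variable {k : ℕ}

/-- OP2 [M]. As OP1: `(x + S *ᵥ y) ⬝ᵥ y = x ⬝ᵥ y + y ⬝ᵥ S *ᵥ y` and OA1. -/
theorem sieg_mem_iso_plus {F : Type u} [Field F] [CharP F 2] (S : Matrix (Fin k) (Fin k) F) (hS : S ∈ altAdd k F) :
    siegHom (Multiplicative.ofAdd S) ∈ isometryGroup F (quadFormPlus k F) := by
  rw [sqdop2_mem_iso]
  intro v
  rw [siegHom_coe, Matrix.fromBlocks_mulVec]
  have h0 := sqdop2_alt_quad_zero S hS (v ∘ Sum.inr)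
  unfold quadFormPlus
  simp only [Sum.elim_inl, Sum.elim_inr, toAdd_ofAdd, Matrix.one_mulVec, Matrix.zero_mulVec, zero_add,
    Pi.add_apply, Function.comp_apply]
  have e : ∑ i : Fin k, (v (Sum.inl i) + (S *ᵥ (v ∘ Sum.inr)) i) * v (Sum.inr i) =
      ∑ i : Fin k, v (Sum.inl i) * v (Sum.inr i) + (v ∘ Sum.inr) ⬝ᵥ (S *ᵥ (v ∘ Sum.inr)) := by
    unfold dotProduct
    rw [← Finset.sum_add_distrib]
    apply Finset.sum_congr rfl
    intro i _
    simp only [Function.comp_apply]
    ring
  rw [e, h0, add_zero]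

end OP

end Cfsg.Agent.Lib.helper14.SQD
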