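import Mathlib
import Cfsg.Agent.Lib.helper15.St2
import Cfsg.Agent.Lib.helper7.StA
import Cfsg.Agent.Lib.helper7.StC
import Cfsg.Agent.Lib.helper7.StE
import Cfsg.Agent.Lib.helper3.STC.Defs
import Cfsg.Agent.Lib.helper3.STC.Defs2
import Cfsg.Agent.Lib.helper3.STC.Defs3
import Cfsg.Agent.Lib.helper23.STCH1
import Cfsg.Agent.Lib.Helper26.STCN1
import Cfsg.Agent.Lib.Helper26.STCN4

/-!
# Project STC (designer helper3, S2292), row F7 (helper25), VERBATIM: `Zg_eq`, `lemA_Z`

The centre `Zg o` of the Heisenberg group `Yg o` is the long root group `{zz o c}`; the long root element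
`x o (ng o) s` on `zz o c * p` (rank one computation `lu` / `lu0` for the pair `(o, ng o)`).
-/

set_option autoImplicit false

namespace Cfsg.Agent.Lib.helper3.STC

open Cfsg.Agent.Lib.helper15.St2 Cfsg.Agent.Lib.helper7.St

namespace SysC

variable {K : Type*} [Field K] {ι : Type*} {G : Type*} [Group G] (S : SysC K ι G)

section F
variable [DecidableEq ι] (o : ι ⊕ ι)

/-- F7 [S-M] -/
theorem Zg_eq : ∀ y ∈ S.Zg o, ∃ c : K, y = S.zz o c := by
  have hne : ng o ≠ o := stcn4_ng_ne o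
  intro y hy
  unfold Zg XQ at hy
  induction hy using Subgroup.closure_induction with
  | mem g hg =>
    obtain ⟨a, b, t, _, ⟨rfl, rfl⟩, rfl⟩ := hg
    exact ⟨t, rfl⟩
  | one => exact ⟨0, (S.stcn4_x_zero _ _).symm⟩
  | mul g g' _ _ ih ih' =>
    obtain ⟨c, rfl⟩ := ih
    obtain ⟨c', rfl⟩ := ih'
    exact ⟨c + c', S.add _ _ hne c c'⟩
  | inv g _ ih =>
    obtain ⟨c, rfl⟩ := ih
    exact ⟨-c, (S.stcn4_x_neg _ _ c).symm⟩

theorem lemA_Z [Finite K] (s c : K) {p : G} (hp : p ∈ S.Phat o) :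
    S.x o (ng o) s * (S.zz o c * p) ∈ S.cell0 o ∨ S.x o (ng o) s * (S.zz o c * p) ∈ S.cell o (ng o) := by
  have hne : ng o ≠ o := stcn4_ng_ne o
  have hab : o ≠ ng o := hne.symm
  unfold zz
  by_cases hd : 1 + s * c = 0
  · -- degenerate case: the cell of `ng o`
    right
    have hs : s ≠ 0 := by
      rintro rfl
      simp at hd
    have hc : c = -s⁻¹ := by
      field_simp
      linear_combination hd
    subst hc
    have hh : S.h o (ng o) s⁻¹ ∈ S.Phat o := S.h_mem_Phat o hne (inv_ne_zero hs)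
    have hx : S.x o (ng o) (-s) ∈ S.Phat o := S.Pg_le_Phat o (S.x_mem_Pg o hab hne hab (-s))
    refine ⟨1, one_mem _, S.h o (ng o) s⁻¹ * S.x o (ng o) (-s) * p, mul_mem (mul_mem hh hx) hp, ?_⟩
    calc S.x o (ng o) s * (S.x (ng o) o (-s⁻¹) * p)
        = (S.x o (ng o) s * S.x (ng o) o (-s⁻¹)) * p := by group
      _ = (S.w o (ng o) 1 * S.h o (ng o) s⁻¹ * S.x o (ng o) (-s)) * p := by
          rw [S.lu0 hab, S.w_eq_w_one_mul_h hab s hs]
      _ = S.w o (ng o) 1 * 1 * (S.h o (ng o) s⁻¹ * S.x o (ng o) (-s) * p) := by group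
  · left
    have hh : S.h o (ng o) (1 + s * c) ∈ S.Phat o := S.h_mem_Phat o hne hd
    have hx : S.x o (ng o) (s / (1 + s * c)) ∈ S.Phat o :=
      S.Pg_le_Phat o (S.x_mem_Pg o hab hne hab _)
    refine ⟨S.x (ng o) o (c / (1 + s * c)), S.x_mem_Yg o hne _,
      S.h o (ng o) (1 + s * c) * S.x o (ng o) (s / (1 + s * c)) * p, mul_mem (mul_mem hh hx) hp, ?_⟩
    calc S.x o (ng o) s * (S.x (ng o) o c * p)
        = (S.x o (ng o) s * S.x (ng o) o c) * p := by group
      _ = (S.x (ng o) o (c / (1 + s * c)) * S.h o (ng o) (1 + s * c) *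
            S.x o (ng o) (s / (1 + s * c))) * p := by rw [S.lu hab s c hd]
      _ = S.x (ng o) o (c / (1 + s * c)) *
            (S.h o (ng o) (1 + s * c) * S.x o (ng o) (s / (1 + s * c)) * p) := by group

end F

end SysC

end Cfsg.Agent.Lib.helper3.STC
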