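import Cfsg.Agent.Lib.Helper25.SAPGL2core
import Cfsg.Agent.Lib.helper23.SAPGL1
import Cfsg.Agent.Lib.helper23.SAPBASE5core
import Cfsg.Agent.Lib.Helper21.SAPBASE3
import Cfsg.Agent.Lib.helper4.SAPCAR3
import Cfsg.Agent.Lib.Helper13.SAPPERM3core
import Cfsg.Agent.Lib.Helper26.SAPALT3

/-!
# SAP GL2 (verbatim): `ψ` is injective on the old subgroup.
Express wrapper: `base_card` through helper23's core + BASE3 + CAR3, `card_closure_zh_old`
through helper13's core + ALT3.
-/

namespace Cfsg.Agent.Lib.helper7.SAP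

open Equiv

universe u

section glue
variable {p k l : ℕ} {G : Type u} [Group G]

/-- GL2 [M]: `ψ` is injective on the old subgroup (counting: `base_card`, `card_closure_zh_old`). -/
theorem glue_injOn_old [Fact p.Prime] (H : GlueHyp p k l G) :
    Set.InjOn H.ψ (Subgroup.closure (Set.range (zo H.a H.z : ZMod p → G)) : Set G) :=
  sapgl2_core H (glue_psi_zo H)
    (sapbase5_card_core H.a H.z (base_carRel H.toBaseHyp) (fun h => car_card_le _ h))
    (sapperm3b_card_core p k (altgen (Sum.inr 0) (Sum.inr 1) (by simp)))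

end glue

end Cfsg.Agent.Lib.helper7.SAP
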