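import Mathlib
import Cfsg.Prelude.Def_Classical
import Cfsg.Prelude.Def_KGroupFacts
import Cfsg.Agent.Lib.Lead.SPM2.Defs
import Cfsg.Agent.Lib.Helper1.SPNT10core

/-!
# Project SPM2 (designer lead; S2099), row T10 core (helper25): `sig` is a stem extension

`spm2t10_core`: `CovM.stem` with the STATEMENTS of T2 `zel_central`, T5 `ker_pi`, T6 `pi_surj`, T7 `perfect` as hypotheses
(port of helper1's `spnt10_core`; the group-theoretic lemma `spnt10_comm_of_central_comm` is cited from `Helper1/SPNT10core.lean`).
-/

set_option autoImplicit false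

namespace Cfsg.Agent.Lib.Lead.SPM2

open Cfsg.Agent.Lib.helper15.St2 Cfsg.Agent.Lib.helper3.STC Cfsg.Agent.Lib.Lead.STD Cfsg.Agent.Lib.helper17.STM
  Cfsg.Agent.Lib.Lead.SPN Cfsg.Agent.Lib.Helper16
open Cfsg.Agent.Lib.Helper12.OMN (omatM oglM omatM_mul omatM_one omatM_injective oglM_coe oglM_injective)

universe u v w

open scoped commutatorElement

namespace CovM

variable {m : ℕ} {F : Type u} [Field F] {A B : F} [Fact (∀ r : F, r ^ 2 ≠ -B + A * r)] {G : Type v} [Group G] (C : CovM m F A B G)

theorem spm2t10_core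
    (hcent : ∀ g : G, g * C.zel = C.zel * g)
    (hker : ∀ g : G, C.π g = 1 → g = 1 ∨ g = C.zel)
    (hsurj : Function.Surjective C.π)
    (hperf : commutator G = ⊤) : Cfsg.IsStemExtension C.sig := by
  refine ⟨?_, ?_, ?_⟩
  · unfold CovM.sig
    exact (QuotientGroup.mk'_surjective _).comp hsurj
  · intro g hg
    have hgc : C.π g ∈ Subgroup.center ↥(Cfsg.Omega F (Cfsg.quadFormMinus m F A B)) := by
      have : C.sig g = 1 := hg
      unfold CovM.sig at this
      rw [MonoidHom.comp_apply] at this
      exact (QuotientGroup.eq_one_iff _).1 this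
    -- the commutators of `g` are central
    have hcc : ∀ y : G, ∀ x : G, x * (g * y * g⁻¹ * y⁻¹) = (g * y * g⁻¹ * y⁻¹) * x := by
      intro y x
      have h1 : C.π (g * y * g⁻¹ * y⁻¹) = 1 := by
        rw [map_mul, map_mul, map_mul, map_inv, map_inv]
        have := Subgroup.mem_center_iff.1 hgc (C.π y)
        rw [← this]
        group
      rcases hker _ h1 with h | h
      · rw [h, mul_one, one_mul]
      · rw [h]
        exact hcent x
    rw [Subgroup.mem_center_iff]
    intro x
    have hx : x ∈ commutator G := by rw [hperf]; exact Subgroup.mem_top x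
    rw [commutator_def, Subgroup.commutator_def] at hx
    have hle : Subgroup.closure {z | ∃ a ∈ (⊤ : Subgroup G), ∃ b ∈ (⊤ : Subgroup G), ⁅a, b⁆ = z} ≤
        Subgroup.centralizer {g} := by
      rw [Subgroup.closure_le]
      rintro z ⟨a, -, b, -, rfl⟩
      rw [SetLike.mem_coe, Subgroup.mem_centralizer_iff]
      intro h hh
      rw [Set.mem_singleton_iff] at hh
      subst hh
      exact spnt10_comm_of_central_comm h hcc a b
    have := hle hx
    rw [Subgroup.mem_centralizer_iff] at this
    exact (this g rfl).symm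
  · rw [hperf]
    exact le_top

end CovM

end Cfsg.Agent.Lib.Lead.SPM2
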