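import Mathlib
import Cfsg.Prelude.Def_Classical
import Cfsg.Prelude.Def_KGroupFacts
import Cfsg.Agent.Lib.Lead.SPM2.Defs
import Cfsg.Agent.Lib.Helper20.SPM2T0
import Cfsg.Agent.Lib.Helper11.SPM2T5
import Cfsg.Agent.Lib.Helper13.SPM2T6
import Cfsg.Agent.Lib.Helper11.SPM2T7
import Cfsg.Agent.Lib.Helper25.SPM2T10core

/-!
# Project SPM2 (designer lead; S2099), row T10 `CovM.stem`, VERBATIM (helper25).
`sig` is a stem extension: `spm2t10_core` on T2 `zel_central` (helper20), T5 `ker_pi` + T7 `perfect` (helper11), T6 `pi_surj` (helper13).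
-/

set_option autoImplicit false

namespace Cfsg.Agent.Lib.Lead.SPM2

open Cfsg.Agent.Lib.helper15.St2 Cfsg.Agent.Lib.helper3.STC Cfsg.Agent.Lib.Lead.STD Cfsg.Agent.Lib.helper17.STM
  Cfsg.Agent.Lib.Lead.SPN Cfsg.Agent.Lib.Helper16
open Cfsg.Agent.Lib.Helper12.OMN (omatM oglM omatM_mul omatM_one omatM_injective oglM_coe oglM_injective)

universe u v w

namespace CovM

variable {m : ℕ} {F : Type u} [Field F] [Fintype F] {A B : F} [Fact (∀ r : F, r ^ 2 ≠ -B + A * r)] {G : Type v} [Group G] (C : CovM m F A B G)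

/-- T10 [M]  **`sig` is a stem extension** (model SPN T10 `Cov.stem`).  Onto: T6.  `ker sig ≤ commutator G`: T7.  Central: for `g ∈ ker sig` and any `y`, `π ⁅g, y⁆ = 1` (T11), so `⁅g, y⁆ ∈ {1, zel}` is central (T5, T2);
hence `y ↦ ⁅g, y⁆` is a homomorphism `G → G` with commutative range, so it kills `commutator G = ⊤` (T7). -/
theorem stem (hstm : ∀ (H : Type v) [Group H], StmInjAt m F A B H) (homn : OmnSys m F A B) : Cfsg.IsStemExtension C.sig :=
  C.spm2t10_core C.zel_central (C.ker_pi hstm) (C.pi_surj homn) (CovM.perfect C)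

end CovM

end Cfsg.Agent.Lib.Lead.SPM2
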