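import Mathlib
import Cfsg.Prelude.Def_Classical
import Cfsg.Prelude.Def_KGroupFacts
import Cfsg.Agent.Lib.Lead.SPN.Defs
import Cfsg.Agent.Lib.Lead.SPN.Defs2

/-!
# Project SPN (designer lead; S2096 + S2097), row K6 (helper25), VERBATIM: `Cov.gcd_facts` (arithmetic of `gcd 4 (q^l - 1)`, `gcd 2 (q^l - 1)`)
-/

set_option autoImplicit false

namespace Cfsg.Agent.Lib.Lead.SPN

open Cfsg.Agent.Lib.helper15.St2 Cfsg.Agent.Lib.helper3.STC Cfsg.Agent.Lib.Lead.STD Cfsg.Agent.Lib.Helper16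
  Cfsg.Agent.Lib.Helper1.OMP

universe u v w

theorem spnk6_three (l : ℕ) : 3 ^ l % 4 = if l % 2 = 0 then 1 else 3 := by
  induction l with
  | zero => rfl
  | succ k ih =>
    rw [pow_succ, Nat.mul_mod, ih]
    split_ifs with h1 h2 h2 <;> omega

theorem spnk6_one (l : ℕ) : 1 ^ l % 4 = 1 := by
  rw [one_pow]
  rfl

namespace Cov

variable {l : ℕ} {F : Type u} [Field F] [Fintype F] {G : Type v} [Group G] (C : Cov l F G)

/-- K6 [S-M]  arithmetic (`hq`, `hl` are only needed for the first part). -/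
theorem gcd_facts (q l : ℕ) (hq : 0 < q) (hl : 0 < l) :
    (Even q → Nat.gcd 4 (q ^ l - 1) = 1 ∧ Nat.gcd 2 (q ^ l - 1) = 1) ∧
    (Odd q → Nat.gcd 2 (q ^ l - 1) = 2) ∧
    (Odd q → q ^ l % 4 = 1 → Nat.gcd 4 (q ^ l - 1) = 4) ∧
    (Odd q → q ^ l % 4 ≠ 1 → Nat.gcd 4 (q ^ l - 1) = 2) ∧
    (Odd q → Even l → q ^ l % 4 = 1) ∧
    (Odd q → Odd l → q ^ l % 4 = 1 → q % 4 = 1) := by
  have hn : 0 < q ^ l := Nat.pow_pos hq
  have hmod4 : q ^ l % 4 = (q % 4) ^ l % 4 := Nat.pow_mod q l 4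
  have hmod2 : q ^ l % 2 = (q % 2) ^ l % 2 := Nat.pow_mod q l 2
  -- the parity of `q ^ l`
  have hodd2 : Odd q → q ^ l % 2 = 1 := by
    intro ho
    rw [hmod2, Nat.odd_iff.1 ho, one_pow]
    rfl
  refine ⟨?_, ?_, ?_, ?_, ?_, ?_⟩
  · intro he
    have h2 : q ^ l % 2 = 0 := by
      rw [hmod2, Nat.even_iff.1 he, zero_pow (by omega)]
      rfl
    have h4 : (q ^ l - 1) % 4 = 1 ∨ (q ^ l - 1) % 4 = 3 := by omega
    have h2' : (q ^ l - 1) % 2 = 1 := by omega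
    constructor
    · rw [Nat.gcd_rec]
      rcases h4 with h | h <;> rw [h] <;> rfl
    · rw [Nat.gcd_rec, h2']
      rfl
  · intro ho
    have h2 := hodd2 ho
    have h2' : (q ^ l - 1) % 2 = 0 := by omega
    rw [Nat.gcd_rec, h2']
    rfl
  · intro _ h1
    have h4 : (q ^ l - 1) % 4 = 0 := by omega
    rw [Nat.gcd_rec, h4]
    rfl
  · intro ho h1
    have h2 := hodd2 ho
    have h4 : (q ^ l - 1) % 4 = 2 := by omega
    rw [Nat.gcd_rec, h4]
    rfl
  · intro ho he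
    have hq4 : q % 4 = 1 ∨ q % 4 = 3 := by
      have := Nat.odd_iff.1 ho
      omega
    rcases hq4 with h | h
    · rw [hmod4, h, one_pow]
      rfl
    · rw [hmod4, h, spnk6_three, if_pos (Nat.even_iff.1 he)]
  · intro ho hol h1
    have hq4 : q % 4 = 1 ∨ q % 4 = 3 := by
      have := Nat.odd_iff.1 ho
      omega
    rcases hq4 with h | h
    · exact h
    · exfalso
      rw [hmod4, h, spnk6_three, if_neg (by have := Nat.odd_iff.1 hol; omega)] at h1
      omega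

end Cov

end Cfsg.Agent.Lib.Lead.SPN
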