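import Cfsg.Agent.Lib.Lead.SLn
import Cfsg.Agent.Lib.helper17.SLN.Defs

/-!
# SLN S5: `SL₂(F)` is generated by the upper and lower unipotents.
-/

set_option autoImplicit false

namespace Cfsg.Agent.Lib.helper17.SLN

open Cfsg.Agent.Lib.helper17.SLP

universe u v w v'

section S

variable {F : Type u} [Field F]

theorem slns5_transvection_01 (h : (0 : Fin 2) ≠ 1) (c : F) :
    Matrix.SpecialLinearGroup.transvection h c = xM c := by
  apply Subtype.ext
  rw [Matrix.SpecialLinearGroup.transvection_coe]
  ext a b
  fin_cases a <;> fin_cases b <;> simp [xM, Matrix.single]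

theorem slns5_transvection_10 (h : (1 : Fin 2) ≠ 0) (c : F) :
    Matrix.SpecialLinearGroup.transvection h c = yM c := by
  apply Subtype.ext
  rw [Matrix.SpecialLinearGroup.transvection_coe]
  ext a b
  fin_cases a <;> fin_cases b <;> simp [yM, Matrix.single]

/-- S5 [S-M]  `SL₂(F)` is generated by the upper and lower unipotents: `Cfsg.Agent.Lib.Lead.SL_closure_transvections` for `ι = Fin 2`; a transvection `(i, j)` of `Fin 2` is `xM c` (`i = 0`, `j = 1`) or `yM c`
(`fin_cases`; `Matrix.SpecialLinearGroup.transvection`, `Matrix.transvection`, `Matrix.single`). -/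
theorem closure_xy :
    Subgroup.closure (Set.range (xM : F → Matrix.SpecialLinearGroup (Fin 2) F) ∪ Set.range yM) = ⊤ := by
  rw [eq_top_iff, ← Cfsg.Agent.Lib.Lead.SL_closure_transvections (ι := Fin 2) (F := F),
    Subgroup.closure_le]
  rintro A ⟨i, j, h, c, rfl⟩
  apply Subgroup.subset_closure
  fin_cases i <;> fin_cases j
  · exact absurd rfl h
  · left
    exact ⟨c, (slns5_transvection_01 h c).symm⟩
  · right
    exact ⟨c, (slns5_transvection_10 h c).symm⟩
  · exact absurd rfl h

end S

end Cfsg.Agent.Lib.helper17.SLN
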