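import Mathlib
import Cfsg.Agent.Lib.Helper24.SU3M.Defs
import Cfsg.Agent.Lib.helper7.CeA
import Cfsg.Agent.Lib.helper14.SU3MU1
import Cfsg.Agent.Lib.helper14.SU3MU4
import Cfsg.Agent.Lib.Helper20.SU3MFL3

/-!
# Project SU3M (designer helper24; rank one half of S2089), row P5b (helper25), CORE: `Vg_inter`

Hypotheses: `hVeq` = the statement of P5a `Vg_eq`, `hA0` = the statement of P2b `A0_inter`.
On U1 U2 (`helper14.SU3MU1`: `mem_Ug`, `mem_Ag`), U5 (`helper14.SU3MU4`: `hz_conj`), FL3 (`Helper20.SU3MFL3`: `al_facts`).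
Extras: `su3mp5b_Ag_conj` (`hz` normalises `Ag D`), `su3mp5b_A0_le` (`A0 ≤ π⁻¹ A`), `su3mp5b_Ag_of_cm` (`cm hz X ∈ A`, `X ∈ U` ⟹ `X ∈ A`).
-/

set_option autoImplicit false
set_option linter.unusedVariables false

namespace Cfsg.Agent.Lib.Helper24.SU3M

open Cfsg.Agent.Lib.Helper19.U3P Cfsg.Agent.Lib.Helper25.SU3P Cfsg.Agent.Lib.helper14.SU3J Cfsg.Agent.Lib.helper7.Ce Matrix Polynomial

universe u

section P

variable {F : Type u} [Field F] [Fintype F] {K : Type u} [Field K] [Fintype K] {q : ℕ} {Γ : Type*} [Group Γ] {π : Γ →* ↥(Cfsg.SU 3 F q)}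

/-- `hz` normalises `Ag D` -/
theorem su3mp5b_Ag_conj (D : Par F K q) (hF : Fintype.card F = q ^ 2) {hz : ↥(Cfsg.SU 3 F q)} (hhz : D.c.cj hz = dd D.σ (D.ζ : F))
    {Y : ↥(Cfsg.SU 3 F q)} (hY : Y ∈ Ag D) : hz * Y * hz⁻¹ ∈ Ag D := by
  rw [mem_Ag] at hY ⊢
  obtain ⟨e, he⟩ := hY
  refine ⟨D.bl * e, ?_⟩
  rw [hz_conj D hF hhz Y 0 e he, mul_zero]

/-- `A0 ≤ π⁻¹ A` -/
theorem su3mp5b_A0_le (D : Par F K q) (hF : Fintype.card F = q ^ 2) {hz : ↥(Cfsg.SU 3 F q)} (hhz : D.c.cj hz = dd D.σ (D.ζ : F))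
    {t : Γ} (ht : π t = hz) : A0 D π t ≤ (Ag D).comap π := by
  unfold A0
  rw [Subgroup.closure_le]
  rintro g ⟨y, hy, rfl⟩
  rw [Subgroup.mem_comap] at hy
  show π (t * y * t⁻¹ * y⁻¹) ∈ Ag D
  rw [map_mul, map_mul, map_mul, map_inv, map_inv, ht]
  exact (Ag D).mul_mem (su3mp5b_Ag_conj D hF hhz hy) ((Ag D).inv_mem hy)

/-- `cm hz X ∈ A`, `X ∈ U` ⟹ `X ∈ A` -/
theorem su3mp5b_Ag_of_cm (D : Par F K q) (hF : Fintype.card F = q ^ 2) (hq : 3 ≤ q) {hz : ↥(Cfsg.SU 3 F q)}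
    (hhz : D.c.cj hz = dd D.σ (D.ζ : F)) {X : ↥(Cfsg.SU 3 F q)} (hX : X ∈ Ug D) (hc : hz * X * hz⁻¹ * X⁻¹ ∈ Ag D) : X ∈ Ag D := by
  have hσσ : ∀ x, D.σ (D.σ x) = x := Cfsg.Agent.Lib.Lead.frob_frob hF D.σ D.hσ
  obtain ⟨-, hal1, -⟩ := al_facts D hF hq
  rw [mem_Ug, isUT_iff D hσσ] at hX
  obtain ⟨α, β, hv, hXc⟩ := hX
  rw [mem_Ag] at hc
  obtain ⟨e, he⟩ := hc
  rw [D.c.cj_mul, hz_conj D hF hhz X α β hXc, u3px1_cj_inv X α β hXc hv, uu_mul] at he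
  obtain ⟨h1, -⟩ := u3px1_uu_inj D.σ he
  have hα : α = 0 := by
    have h2 : (D.al - 1) * α = 0 := by linear_combination h1
    rcases mul_eq_zero.1 h2 with h3 | h3
    · exact absurd (sub_eq_zero.1 h3) hal1
    · exact h3
  rw [mem_Ag]
  exact ⟨β, by rw [hXc, hα]⟩

/-- P5b core -/
theorem su3mp5b_core (D : Par F K q) (hF : Fintype.card F = q ^ 2) (hq : 3 ≤ q) (h : IsCE π) {hz : ↥(Cfsg.SU 3 F q)} (hhz : D.c.cj hz = dd D.σ (D.ζ : F))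
    {t : Γ} (ht : π t = hz)
    (hVeq : ∀ g ∈ Vg D π t, ∃ x ∈ (Ug D).comap π, ∃ a ∈ A0 D π t, g = cm t x * a)
    (hA0 : ∀ g ∈ A0 D π t, π g = 1 → g = 1) :
    ∀ g ∈ Vg D π t, π g = 1 → g = 1 := by
  intro g hg hπ
  obtain ⟨x, hx, a, ha, rfl⟩ := hVeq g hg
  rw [Subgroup.mem_comap] at hx
  have hYa : π a ∈ Ag D := su3mp5b_A0_le D hF hhz ht ha
  -- `cm hz (π x) = (π a)⁻¹ ∈ A`
  have hcm : hz * π x * hz⁻¹ * (π x)⁻¹ ∈ Ag D := by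
    have e1 : π (cm t x * a) = hz * π x * hz⁻¹ * (π x)⁻¹ * π a := by
      unfold cm
      rw [map_mul, map_mul, map_mul, map_mul, map_inv, map_inv, ht]
    rw [e1] at hπ
    have e2 : hz * π x * hz⁻¹ * (π x)⁻¹ = (π a)⁻¹ := eq_inv_of_mul_eq_one_left hπ
    rw [e2]
    exact (Ag D).inv_mem hYa
  have hxA : π x ∈ Ag D := su3mp5b_Ag_of_cm D hF hq hhz hx hcm
  -- `cm t x ∈ A0`
  have hgen : cm t x ∈ A0 D π t := by
    unfold A0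
    exact Subgroup.subset_closure ⟨x, hxA, rfl⟩
  exact hA0 _ ((A0 D π t).mul_mem hgen ha) hπ

end P

end Cfsg.Agent.Lib.Helper24.SU3M
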