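import Mathlib
import Cfsg.Agent.Lib.helper3.CEUO.Defs2
import Cfsg.Agent.Lib.Helper27.STU.Defs3
import Cfsg.Agent.Lib.Helper27.STU.Frob
import Cfsg.Agent.Lib.Helper27.STUH8

/-!
# Project CEUO (sub-designer helper3), row X1 core (helper25): `Xo_map Xo_add Xo_zero Xo_neg` with the STATEMENTS of K1 `Kb_map`, K2 `Kb_mul_left`, K3 `Kb_v`
(at the pair `(a, b)`) as hypotheses.
-/

set_option autoImplicit false

namespace Cfsg.Agent.Lib.helper3.CEUO

open Cfsg.Agent.Lib.helper15.St2 Cfsg.Agent.Lib.helper7.Ce Cfsg.Agent.Lib.helper3.STC Cfsg.Agent.Lib.Helper27.STU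
  Cfsg.Agent.Lib.helper7.CEU

open Cfsg.Agent.Lib.helper7.CEC (I2 I3 I4 U2 U3)

section X

variable {F : Type*} [Field F] [StarRing F] {od : Prop} {ι : Type*} {Γ G : Type*} [Group Γ] [Group G] {S : SysU F od ι G} {σ : Γ →* G}

theorem ceuox1_map_core (h : IsCE σ) (hF : Hyp F) (hod : od) {a b : ι ⊕ ι}
    (hK1 : ∀ ξ η : Lam F od, σ (Kb S h a b ξ η) = S.xs a b (-(ξ.v * star η.v))) (t : F) :
    σ (Xo S h hF hod a b t) = S.xs a b t := by
  unfold Xo
  rw [hK1, ofV_v, ofV_v, star_one, mul_one, neg_neg]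

theorem ceuox1_add_core (h : IsCE σ) (hF : Hyp F) (hod : od) {a b : ι ⊕ ι}
    (hK2 : ∀ ξ ξ' η : Lam F od, Kb S h a b (ξ * ξ') η = Kb S h a b ξ η * Kb S h a b ξ' η)
    (hK3 : ∀ {ξ ξ' η η' : Lam F od}, ξ.v = ξ'.v → η.v = η'.v → Kb S h a b ξ η = Kb S h a b ξ' η') (t u : F) :
    Xo S h hF hod a b (t + u) = Xo S h hF hod a b t * Xo S h hF hod a b u := by
  unfold Xo
  rw [← hK2]
  apply hK3
  · rw [Lam.mul_v, ofV_v, ofV_v, ofV_v]
    ring
  · rfl

theorem ceuox1_zero_core (h : IsCE σ) (hF : Hyp F) (hod : od) {a b : ι ⊕ ι}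
    (hadd : ∀ t u : F, Xo S h hF hod a b (t + u) = Xo S h hF hod a b t * Xo S h hF hod a b u) :
    Xo S h hF hod a b 0 = 1 := by
  have := hadd 0 0
  rw [add_zero] at this
  exact (mul_eq_left).1 this.symm

theorem ceuox1_neg_core (h : IsCE σ) (hF : Hyp F) (hod : od) {a b : ι ⊕ ι}
    (hadd : ∀ t u : F, Xo S h hF hod a b (t + u) = Xo S h hF hod a b t * Xo S h hF hod a b u) (t : F) :
    Xo S h hF hod a b (-t) = (Xo S h hF hod a b t)⁻¹ := by
  have h0 := ceuox1_zero_core h hF hod hadd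
  have := hadd (-t) t
  rw [neg_add_cancel, h0] at this
  exact eq_inv_of_mul_eq_one_left this.symm

end X

end Cfsg.Agent.Lib.helper3.CEUO
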