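import Mathlib
import Cfsg.Agent.Lib.helper3.CEUO.Defs2
import Cfsg.Agent.Lib.Helper27.STU.Defs3
import Cfsg.Agent.Lib.Helper27.STU.Frob
import Cfsg.Agent.Lib.Helper27.STUH8
import Cfsg.Agent.Lib.helper4.CEUG2
import Cfsg.Agent.Lib.Helper24.STCI1
import Cfsg.Agent.Lib.Helper24.STUM0
import Cfsg.Agent.Lib.helper8.STULA1

/-!
# Project CEUO (sub-designer helper3), row B2 (`t5_odd`), VERBATIM (helper25).
-/

set_option autoImplicit false

namespace Cfsg.Agent.Lib.helper3.CEUO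

open Cfsg.Agent.Lib.helper15.St2 Cfsg.Agent.Lib.helper7.Ce Cfsg.Agent.Lib.helper3.STC Cfsg.Agent.Lib.Helper27.STU
  Cfsg.Agent.Lib.helper7.CEU

open Cfsg.Agent.Lib.helper7.CEC (I2 I3 I4 U2 U3)

section B

variable {F : Type*} [Field F] [StarRing F] {od : Prop} {ι : Type*} {Γ G : Type*} [Group Γ] [Group G] {S : SysU F od ι G} {σ : Γ →* G}

/-- B2 [S-M]  torus: `g, d', d0` from `htb d a` (`ab d ≠ ab a`): `d' d * d0⁻¹ ≠ 1`, `d' a * d0⁻¹ = 1`.  `g` fixes `w := xl a ξ` (`hg.2.2`, `Equiv.Perm.one_apply`, `Lam.act_one`) and scales `xs a d` by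
`d' a * (d' d)⁻¹ = (d' d * d0⁻¹)⁻¹ ≠ 1` (`d0 ≠ 0`: `hg.1.d0_ne`); `xs a d u` and `xl a ξ` commute (`S.comm_ls a a d`); helper7's `CL_tor_s` (`helper4.CEUG3`), then `CL.symm`. -/
theorem t5_odd (h : IsCE σ) (htb : TorB S) :
    ∀ a d : ι ⊕ ι, ab a ≠ ab d → ∀ (ξ : Lam F od) (u : F), CL σ (S.xl a ξ) (S.xs a d u) := by
  intro a d had ξ u
  have had1 : a ≠ d := by
    intro he
    apply had
    rw [he]
  have had2 : a ≠ ng d := by
    intro he
    apply had
    rw [he, ab_ng]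
  obtain ⟨g, d', d0, hg, hne, heq⟩ := htb d a (fun e => had e.symm)
  have hfix : cj g (S.xl a ξ) = S.xl a ξ := by
    have := hg.2.2 a ξ
    rw [heq, Lam.act_one] at this
    simpa using this
  have hd0 : d0 ≠ 0 := hg.1.d0_ne
  have hdd : d' d ≠ 0 := hg.1.d_ne d
  have hda : d' a = d0 := by
    have := congrArg (fun z => z * d0) heq
    simpa [mul_assoc, inv_mul_cancel₀ hd0] using this
  have hsc : d' a * (d' d)⁻¹ ≠ 1 := by
    intro he
    apply hne
    rw [hda] at he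
    have h1 : d0 = d' d := by
      have := congrArg (fun z => z * d' d) he
      simpa [mul_assoc, inv_mul_cancel₀ hdd] using this
    rw [← h1, mul_inv_cancel₀ hd0]
  have hcomm : ∀ u, S.xs a d u * S.xl a ξ = S.xl a ξ * S.xs a d u := fun u =>
    (S.comm_ls a a d had1 had2 (ne_ng a) (fun e => had1 e.symm) ξ u).symm
  exact (CL_tor_s h had hg hsc hfix hcomm u).symm

end B

end Cfsg.Agent.Lib.helper3.CEUO
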