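import Mathlib
import Cfsg.Agent.Lib.helper3.CEUO.Defs2
import Cfsg.Agent.Lib.Helper27.STU.Defs3
import Cfsg.Agent.Lib.Helper27.STU.Frob
import Cfsg.Agent.Lib.Helper27.STUH8
import Cfsg.Agent.Lib.Helper13.CEUT6b
import Cfsg.Agent.Lib.Helper29.CEUT9b
import Cfsg.Agent.Lib.Helper25.CEUOB2

/-!
# Project CEUO (sub-designer helper3), row B3 (`HCl_odd`), VERBATIM (helper25), on B2 `t5_odd` (helper25), CEU T6 `t6_torus` (helper13), CEU T9 `HCl_of_HTl` (helper29).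
-/

set_option autoImplicit false

namespace Cfsg.Agent.Lib.helper3.CEUO

open Cfsg.Agent.Lib.helper15.St2 Cfsg.Agent.Lib.helper7.Ce Cfsg.Agent.Lib.helper3.STC Cfsg.Agent.Lib.Helper27.STU
  Cfsg.Agent.Lib.helper7.CEU

open Cfsg.Agent.Lib.helper7.CEC (I2 I3 I4 U2 U3)

section B

variable {F : Type*} [Field F] [StarRing F] {od : Prop} {ι : Type*} {Γ G : Type*} [Group Γ] [Group G] {S : SysU F od ι G} {σ : Γ →* G}

/-- B3 [S]  `HCl_of_HTl ⟨t5_odd h htb, t6_torus h hH hs0 hs2⟩` (helper7's T9 and T6). -/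
theorem HCl_odd [DecidableEq ι] (h : IsCE σ) (htb : TorB S) (hH : S.HH) {s : F} (hs0 : s ≠ 0) (hs2 : s ^ 2 ≠ 1) : HCl S σ :=
  HCl_of_HTl ⟨t5_odd h htb, t6_torus h hH hs0 hs2⟩

end B

end Cfsg.Agent.Lib.helper3.CEUO
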