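import Mathlib
import Cfsg.Agent.Lib.helper14.OBNd
import Cfsg.Agent.Lib.helper14.DBN.Defs

set_option autoImplicit false
set_option linter.unusedVariables false
set_option linter.unusedSectionVars false

/-!
# Project DBN (S2548), row QBASIC (helper25): the quadratic form `Qh`, verbatim from `helper14/DBN/Skel.lean.txt`.
-/

namespace Cfsg.Agent.Lib.helper14.DBN

open Matrix DoubleCoset
open Cfsg.Agent.Lib.helper3 Cfsg.Agent.Lib.helper14
open Cfsg.Agent.Lib.helper14.UBN Cfsg.Agent.Lib.helper14.OBN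

universe u
variable {F : Type u} [Field F] {n : ℕ}

/-- for even `n` a sum over `Fin n` splits into the pairs `(pa k, rv (pa k))` -/
theorem dbnqbasic_sum_split (hn : n % 2 = 0) (f : Fin n → F) :
    ∑ i, f i = ∑ k : Fin (n / 2), (f (pa k) + f (rv (pa k))) := by
  classical
  rw [Finset.sum_add_distrib,
    ← Finset.sum_filter_add_sum_filter_not Finset.univ (fun i : Fin n => rk i < n / 2)]
  have h1 : ∑ i ∈ Finset.univ.filter (fun i : Fin n => rk i < n / 2), f i =
      ∑ k : Fin (n / 2), f (pa k) := by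
    symm
    apply Finset.sum_bij (fun k _ => pa k)
    · intro k _
      rw [Finset.mem_filter]
      exact ⟨Finset.mem_univ _, by rw [rk_pa]; exact k.2⟩
    · intro a _ b _ h
      apply Fin.ext
      have := congrArg rk h
      rwa [rk_pa, rk_pa] at this
    · intro i hi
      rw [Finset.mem_filter] at hi
      exact ⟨⟨rk i, hi.2⟩, Finset.mem_univ _, Fin.ext rfl⟩
    · intro k _
      rfl
  have h2 : ∑ i ∈ Finset.univ.filter (fun i : Fin n => ¬ rk i < n / 2), f i =
      ∑ k : Fin (n / 2), f (rv (pa k)) := by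
    symm
    apply Finset.sum_bij (fun k _ => rv (pa k))
    · intro k _
      rw [Finset.mem_filter]
      refine ⟨Finset.mem_univ _, ?_⟩
      have h3 := rk_add_rv (pa k)
      rw [rk_pa] at h3
      have h4 := k.2
      omega
    · intro a _ b _ h
      have h3 := rv_inj h
      apply Fin.ext
      have := congrArg rk h3
      rwa [rk_pa, rk_pa] at this
    · intro i hi
      rw [Finset.mem_filter] at hi
      have h3 := rk_add_rv i
      have h4 := rk_lt i
      refine ⟨⟨rk (rv i), by omega⟩, Finset.mem_univ _, ?_⟩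
      have h5 : pa (⟨rk (rv i), by omega⟩ : Fin (n / 2)) = rv i := Fin.ext rfl
      rw [h5, rv_rv]
    · intro k _
      rfl
  rw [h1, h2]

theorem dbnqbasic_hJ (hn : n % 2 = 0) (u v : Fin n → F) :
    hJ (Sid F) u v = ∑ k : Fin (n / 2), (u (pa k) * v (rv (pa k)) + u (rv (pa k)) * v (pa k)) := by
  have h : hJ (Sid F) u v = ∑ i, u i * v (rv i) := rfl
  rw [h, dbnqbasic_sum_split hn]
  apply Finset.sum_congr rfl
  intro k _
  rw [rv_rv]

theorem Qh_bV (x : Fin n) : Qh n (bV x : Fin n → F) = 0 := by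
  unfold Qh
  apply Finset.sum_eq_zero
  intro k _
  rw [bV_apply, bV_apply]
  by_cases h : pa k = x
  · have h' : rv (pa k) ≠ x := by
      intro e
      exact rv_pa_ne k (e.trans h.symm)
    rw [if_neg h', mul_zero]
  · rw [if_neg h, zero_mul]

theorem Qh_smul (c : F) (v : Fin n → F) : Qh n (c • v) = c * c * Qh n v := by
  unfold Qh
  rw [Finset.mul_sum]
  apply Finset.sum_congr rfl
  intro k _
  rw [Pi.smul_apply, Pi.smul_apply, smul_eq_mul, smul_eq_mul]
  ring

theorem Qh_add (hn : n % 2 = 0) (u v : Fin n → F) :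
    Qh n (u + v) = Qh n u + Qh n v + hJ (Sid F) u v := by
  rw [dbnqbasic_hJ hn]
  unfold Qh
  rw [← Finset.sum_add_distrib, ← Finset.sum_add_distrib]
  apply Finset.sum_congr rfl
  intro k _
  rw [Pi.add_apply, Pi.add_apply]
  ring

theorem hJ_self (hn : n % 2 = 0) (v : Fin n → F) : hJ (Sid F) v v = 2 * Qh n v := by
  rw [dbnqbasic_hJ hn]
  unfold Qh
  rw [Finset.mul_sum]
  apply Finset.sum_congr rfl
  intro k _
  ring

/-- the defect `Qh (g v) - Qh v` is additive -/
theorem dbnqbasic_defect_add (hn : n % 2 = 0) (g : GS n F) (u v : Fin n → F) :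
    Qh n (mt g *ᵥ (u + v)) - Qh n (u + v) =
      (Qh n (mt g *ᵥ u) - Qh n u) + (Qh n (mt g *ᵥ v) - Qh n v) := by
  rw [Matrix.mulVec_add, Qh_add hn, Qh_add hn, mt_form]
  ring

theorem dbnqbasic_defect_sum (hn : n % 2 = 0) (g : GS n F)
    (h : ∀ x : Fin n, Qh n (mt g *ᵥ bV x) = 0) (c : Fin n → F) (s : Finset (Fin n)) :
    Qh n (mt g *ᵥ (∑ i ∈ s, c i • (bV i : Fin n → F))) -
      Qh n (∑ i ∈ s, c i • (bV i : Fin n → F)) = 0 := by
  classical
  induction s using Finset.induction_on with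
  | empty =>
    rw [Finset.sum_empty, Matrix.mulVec_zero]
    have h0 : Qh n (0 : Fin n → F) = 0 := by
      unfold Qh
      apply Finset.sum_eq_zero
      intro k _
      rw [Pi.zero_apply, zero_mul]
    rw [h0, sub_zero]
  | insert a s ha ih =>
    rw [Finset.sum_insert ha, dbnqbasic_defect_add hn, ih, add_zero, Matrix.mulVec_smul, Qh_smul,
      Qh_smul, h a, Qh_bV, mul_zero, sub_zero]

theorem mem_OQ_iff (hn : n % 2 = 0) (g : GS n F) :
    g ∈ OQ n F ↔ ∀ x : Fin n, Qh n (mt g *ᵥ bV x) = 0 := by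
  constructor
  · intro hg x
    rw [hg (bV x), Qh_bV]
  · intro h v
    have h1 := dbnqbasic_defect_sum hn g h v Finset.univ
    rw [← vec_eq_sum v] at h1
    exact sub_eq_zero.1 h1

theorem OQ_eq_top (hn : n % 2 = 0) (h2 : (2 : F) ≠ 0) : OQ n F = ⊤ := by
  rw [eq_top_iff]
  intro g _ v
  have h1 := hJ_self hn (mt g *ᵥ v)
  rw [mt_form, hJ_self hn] at h1
  exact (mul_left_cancel₀ h2 h1).symm

end Cfsg.Agent.Lib.helper14.DBN
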