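import Mathlib
import Cfsg.Agent.Lib.Helper13.O459.Defs

/-!
# Project O459, piece INVOL: `invol_dichotomy`

`C = C_G(P)` of order `76` with `P` (order 19) central: the Sylow 2-subgroup `K` of `C` is normal in `C`,
contains all involutions of `C`, and `N_G(P)` permutes these involutions.
-/

set_option autoImplicit false
set_option linter.unusedVariables false
set_option linter.unusedSectionVars false
set_option linter.style.haveILetI false
set_option linter.deprecated false

namespace Cfsg.Agent.Lib.Helper13.O459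

open Classical
open Cfsg.Agent.Lib.helper7.BR

universe u

theorem o459invol_fact76 : (76 : ℕ).factorization 2 = 2 := by
  rw [Nat.factorization_def _ Nat.prime_two]
  have : (76:ℕ) = 2^2 * 19 := by norm_num
  rw [this, padicValNat.mul (by norm_num) (by norm_num), padicValNat.prime_pow]
  simp [padicValNat.eq_zero_of_not_dvd]

/-- A group of order 76 with a central subgroup of order 19 has a normal Sylow 2-subgroup (of order 4). -/
theorem o459invol_sylow_normal {C : Type*} [Group C] [Finite C] (hC : Nat.card C = 76)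
    (Z : Subgroup C) (hZ : Nat.card Z = 19) (hZc : Z ≤ Subgroup.center C) (S : Sylow 2 C) :
    Nat.card (S : Subgroup C) = 4 ∧ (S : Subgroup C).Normal := by
  have h4 : Nat.card (S : Subgroup C) = 4 := by
    rw [Sylow.card_eq_multiplicity, hC, o459invol_fact76]; norm_num
  refine ⟨h4, ?_⟩
  rw [← Subgroup.normalizer_eq_top_iff, ← Subgroup.card_eq_iff_eq_top]
  have hd4 : 4 ∣ Nat.card (Subgroup.normalizer ((S : Subgroup C) : Set C)) := by
    rw [← h4]
    exact Subgroup.card_dvd_of_le Subgroup.le_normalizer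
  have hd19 : 19 ∣ Nat.card (Subgroup.normalizer ((S : Subgroup C) : Set C)) := by
    rw [← hZ]
    exact Subgroup.card_dvd_of_le (hZc.trans (Subgroup.center_le_normalizer _))
  have hd76 : 4 * 19 ∣ Nat.card (Subgroup.normalizer ((S : Subgroup C) : Set C)) :=
    Nat.Coprime.mul_dvd_of_dvd_of_dvd (by norm_num) hd4 hd19
  have hle : Nat.card (Subgroup.normalizer ((S : Subgroup C) : Set C)) ∣ Nat.card C :=
    Subgroup.card_subgroup_dvd_card _
  rw [hC] at hle ⊢
  exact Nat.dvd_antisymm hle (by simpa using hd76)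

variable {G : Type u} [Group G] [Fintype G]

/-- `P ≤ C_G(P)` for `P` of prime order. -/
theorem o459invol_P_le_cen (P : Sylow 19 G) (hP : Nat.card ↥(P : Subgroup G) = 19) :
    (P : Subgroup G) ≤ cen P := by
  have hcomm : ∀ a b : ↥(P : Subgroup G), a * b = b * a := by
    haveI : IsCyclic ↥(P : Subgroup G) := isCyclic_of_prime_card hP
    intro a b
    exact IsCyclic.commGroup.mul_comm a b
  intro x hx
  rw [Subgroup.mem_centralizer_iff]
  intro h hh
  have := hcomm ⟨h, hh⟩ ⟨x, hx⟩
  exact congrArg Subtype.val this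

/-- `N_G(P)` normalises `C_G(P)`. -/
theorem o459invol_conj_mem_cen (P : Sylow 19 G) (g y : G) (hg : g ∈ nrm P) (hy : y ∈ cen P) :
    g * y * g⁻¹ ∈ cen P := by
  rw [Subgroup.mem_centralizer_iff] at hy ⊢
  intro h hh
  have hg' : g⁻¹ ∈ nrm P := inv_mem hg
  have h1 : g⁻¹ * h * g⁻¹⁻¹ ∈ (P : Subgroup G) := (Subgroup.mem_normalizer_iff.mp hg' h).mp hh
  have h2 := hy _ h1
  -- (g⁻¹ h g) y = y (g⁻¹ h g)
  have : h * (g * y * g⁻¹) = g * ((g⁻¹ * h * g⁻¹⁻¹) * y) * g⁻¹ := by group
  rw [this, h2]
  group

theorem o459invol_orderOf_conj (g y : G) : orderOf (g * y * g⁻¹) = orderOf y := by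
  have : g * y * g⁻¹ = MulAut.conj g y := by simp [MulAut.conj_apply]
  rw [this, MulEquiv.orderOf_eq]

/-- INVOL -/
theorem invol_dichotomy (P : Sylow 19 G) (hP : Nat.card ↥(P : Subgroup G) = 19)
    (hcen : Nat.card ↥(cen P) = 76) :
    (∃ y : G, y ∈ cen P ∧ orderOf y = 2 ∧ ∀ g ∈ nrm P, g * y = y * g) ∨
    (∃ (K : Subgroup G) (y : G), Nat.card ↥K = 4 ∧ y ∈ K ∧ y ∈ cen P ∧ orderOf y = 2 ∧
      ∀ k ∈ K, k ≠ 1 → IsConj y k) := by
  haveI : Fact (Nat.Prime 2) := ⟨Nat.prime_two⟩
  -- the centre part
  have hPC : (P : Subgroup G) ≤ cen P := o459invol_P_le_cen P hP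
  set C : Subgroup G := cen P with hCdef
  let Z : Subgroup ↥C := (P : Subgroup G).subgroupOf C
  have hZcard : Nat.card Z = 19 := by
    rw [← hP]
    exact Nat.card_congr (Subgroup.subgroupOfEquivOfLe hPC).toEquiv
  have hZc : Z ≤ Subgroup.center ↥C := by
    intro z hz
    rw [Subgroup.mem_center_iff]
    intro c
    have hz' : (z : G) ∈ (P : Subgroup G) := Subgroup.mem_subgroupOf.mp hz
    have hc : (c : G) ∈ Subgroup.centralizer (((P : Subgroup G)) : Set G) := c.2
    rw [Subgroup.mem_centralizer_iff] at hc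
    have := hc _ hz'
    apply Subtype.ext
    simpa using this.symm
  obtain S : Sylow 2 ↥C := default
  obtain ⟨hS4, hSn⟩ := o459invol_sylow_normal hcen Z hZcard hZc S
  haveI : Finite (Sylow 2 ↥C) := inferInstance
  have huniq : ∀ Q : Sylow 2 ↥C, Q = S := by
    intro Q
    haveI := Sylow.unique_of_normal S hSn
    exact Subsingleton.elim _ _
  -- K
  let K : Subgroup G := (S : Subgroup ↥C).map C.subtype
  have hK4 : Nat.card ↥K = 4 := by
    rw [← hS4]
    exact Nat.card_congr
      ((S : Subgroup ↥C).equivMapOfInjective C.subtype C.subtype_injective).symm.toEquiv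
  have hKC : K ≤ C := by
    intro k hk
    obtain ⟨c, _, rfl⟩ := Subgroup.mem_map.mp hk
    exact c.2
  -- involutions of C lie in K
  have hIK : ∀ y : G, y ∈ C → orderOf y = 2 → y ∈ K := by
    intro y hyC hy2
    have hpg : IsPGroup 2 ↥(Subgroup.zpowers (⟨y, hyC⟩ : ↥C)) := by
      apply IsPGroup.of_card (n := 1)
      rw [Nat.card_zpowers, pow_one]
      rw [← hy2]
      exact (Subgroup.orderOf_mk y hyC)
    obtain ⟨Q, hQ⟩ := hpg.exists_le_sylow
    rw [huniq Q] at hQ
    have : (⟨y, hyC⟩ : ↥C) ∈ (S : Subgroup ↥C) := hQ (Subgroup.mem_zpowers _)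
    exact Subgroup.mem_map.mpr ⟨⟨y, hyC⟩, this, rfl⟩
  -- K is commutative
  have hKcomm : ∀ a b : ↥K, a * b = b * a :=
    IsPGroup.commutative_of_card_eq_prime_sq (p := 2) (by rw [hK4]; norm_num)
  -- an involution exists
  obtain ⟨y0', hy0'⟩ := exists_prime_orderOf_dvd_card' (G := ↥C) 2 (by rw [hcen]; norm_num)
  have hy0C : (y0' : G) ∈ C := y0'.2
  have hy0o : orderOf (y0' : G) = 2 := by rw [Subgroup.orderOf_coe]; exact hy0'
  by_cases hfix : ∃ y : G, y ∈ C ∧ orderOf y = 2 ∧ ∀ g ∈ nrm P, g * y = y * g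
  · exact Or.inl hfix
  · right
    push Not at hfix
    set y0 : G := (y0' : G) with hy0def
    obtain ⟨g0, hg0N, hg0⟩ := hfix y0 hy0C hy0o
    set y1 : G := g0 * y0 * g0⁻¹ with hy1def
    have hy1C : y1 ∈ C := o459invol_conj_mem_cen P g0 y0 hg0N hy0C
    have hy1o : orderOf y1 = 2 := by rw [hy1def, o459invol_orderOf_conj]; exact hy0o
    have hy01 : y1 ≠ y0 := by
      intro h
      apply hg0
      rw [hy1def] at h
      calc g0 * y0 = g0 * y0 * g0⁻¹ * g0 := by group
        _ = y0 * g0 := by rw [h]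
    have hy0K : y0 ∈ K := hIK y0 hy0C hy0o
    have hy1K : y1 ∈ K := hIK y1 hy1C hy1o
    have hy0ne : y0 ≠ 1 := by
      intro h; rw [h, orderOf_one] at hy0o; norm_num at hy0o
    have hy1ne : y1 ≠ 1 := by
      intro h; rw [h, orderOf_one] at hy1o; norm_num at hy1o
    have hy0sq : y0 * y0 = 1 := by
      have := pow_orderOf_eq_one y0; rw [hy0o, pow_two] at this; exact this
    have hy1sq : y1 * y1 = 1 := by
      have := pow_orderOf_eq_one y1; rw [hy1o, pow_two] at this; exact this
    have hcomm01 : y0 * y1 = y1 * y0 := by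
      have := hKcomm ⟨y0, hy0K⟩ ⟨y1, hy1K⟩
      exact congrArg Subtype.val this
    obtain ⟨z, hzdef⟩ : ∃ z : G, z = y0 * y1 := ⟨_, rfl⟩
    have hzK : z ∈ K := by rw [hzdef]; exact mul_mem hy0K hy1K
    have hzne1 : z ≠ 1 := by
      intro h
      apply hy01
      -- y0 * y1 = 1 → y1 = y0⁻¹ = y0
      have h1 : y1 = y0⁻¹ := by
        rw [hzdef] at h
        exact (eq_inv_of_mul_eq_one_right h)
      have h2 : y0⁻¹ = y0 := by
        exact inv_eq_of_mul_eq_one_right hy0sq
      rw [h1, h2]
    have hzne0 : z ≠ y0 := by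
      intro h
      apply hy1ne
      rw [hzdef] at h
      exact mul_left_cancel (a := y0) (by rw [h, mul_one])
    have hzne1' : z ≠ y1 := by
      intro h
      apply hy0ne
      rw [hzdef] at h
      exact mul_right_cancel (b := y1) (by rw [h, one_mul])
    have hzsq : z * z = 1 := by
      rw [hzdef]
      calc y0 * y1 * (y0 * y1) = y0 * (y1 * y0) * y1 := by group
        _ = y0 * (y0 * y1) * y1 := by rw [hcomm01]
        _ = (y0 * y0) * (y1 * y1) := by group
        _ = 1 := by rw [hy0sq, hy1sq, one_mul]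
    have hzo : orderOf z = 2 := by
      apply orderOf_eq_prime
      · rw [pow_two]; exact hzsq
      · exact hzne1
    have hzC : z ∈ C := hKC hzK
    -- K = {1, y0, y1, z}
    have hKelts : ∀ k ∈ K, k = 1 ∨ k = y0 ∨ k = y1 ∨ k = z := by
      intro k hk
      by_contra hcon
      push Not at hcon
      obtain ⟨hk1, hk0, hk1', hkz⟩ := hcon
      -- five distinct elements of K
      haveI : Fintype ↥K := Fintype.ofFinite _
      have hcard : Fintype.card ↥K = 4 := by rw [← Nat.card_eq_fintype_card]; exact hK4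
      let s : Finset ↥K := {⟨1, K.one_mem⟩, ⟨y0, hy0K⟩, ⟨y1, hy1K⟩, ⟨z, hzK⟩, ⟨k, hk⟩}
      have hs : s.card = 5 := by
        simp only [s]
        rw [Finset.card_insert_of_notMem, Finset.card_insert_of_notMem,
          Finset.card_insert_of_notMem, Finset.card_insert_of_notMem, Finset.card_singleton]
        · simp only [Finset.mem_singleton, Subtype.mk.injEq]; exact fun h => hkz h.symm
        · simp only [Finset.mem_insert, Finset.mem_singleton, Subtype.mk.injEq]
          rintro (h | h)
          · exact hzne1' h.symm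
          · exact hk1' h.symm
        · simp only [Finset.mem_insert, Finset.mem_singleton, Subtype.mk.injEq]
          rintro (h | h | h)
          · exact hy01 h.symm
          · exact hzne0 h.symm
          · exact hk0 h.symm
        · simp only [Finset.mem_insert, Finset.mem_singleton, Subtype.mk.injEq]
          rintro (h | h | h | h)
          · exact hy0ne h.symm
          · exact hy1ne h.symm
          · exact hzne1 h.symm
          · exact hk1 h.symm
      have := Finset.card_le_univ s
      omega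
    -- z is moved by some g ∈ N
    obtain ⟨g1, hg1N, hg1⟩ := hfix z hzC hzo
    set z' : G := g1 * z * g1⁻¹ with hz'def
    have hz'C : z' ∈ C := o459invol_conj_mem_cen P g1 z hg1N hzC
    have hz'o : orderOf z' = 2 := by rw [hz'def, o459invol_orderOf_conj]; exact hzo
    have hz'K : z' ∈ K := hIK z' hz'C hz'o
    have hz'ne : z' ≠ z := by
      intro h
      apply hg1
      rw [hz'def] at h
      calc g1 * z = g1 * z * g1⁻¹ * g1 := by group
        _ = z * g1 := by rw [h]
    have hz'ne1 : z' ≠ 1 := by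
      intro h; rw [h, orderOf_one] at hz'o; norm_num at hz'o
    have hconj01 : IsConj y0 y1 := isConj_iff.mpr ⟨g0, rfl⟩
    have hconjzz' : IsConj z z' := isConj_iff.mpr ⟨g1, rfl⟩
    have hconj0z : IsConj y0 z := by
      rcases hKelts z' hz'K with h | h | h | h
      · exact absurd h hz'ne1
      · rw [h] at hconjzz'; exact hconjzz'.symm
      · rw [h] at hconjzz'; exact hconj01.trans hconjzz'.symm
      · exact absurd h hz'ne
    refine ⟨K, y0, hK4, hy0K, hy0C, hy0o, ?_⟩
    intro k hk hk1
    rcases hKelts k hk with h | h | h | h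
    · exact absurd h hk1
    · rw [h]
    · rw [h]; exact hconj01
    · rw [h]; exact hconj0z

end Cfsg.Agent.Lib.Helper13.O459
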