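import Mathlib
import Cfsg.Agent.Lib.Helper13.OTS.Defs

/-!
# OTS row ARITHS (helper25): `q_arith_suff`, the arithmetic of the sufficiency direction.
Choice: `s = min (m / i) (tdim / i)`, `w1 = m - s * i`.
-/

set_option autoImplicit false
set_option linter.unusedVariables false
set_option maxHeartbeats 1600000

namespace Cfsg.Agent.Lib.Helper13.OTS

/-- the case `i` odd (`c = 2 i`, `2 tdim = g`, `sf = ε`) -/
theorem otsariths_odd (i d m f k M μ n' rem : ℕ) (ε : ℤ) (hi : 1 ≤ i) (hm : m + 1 ≤ d)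
    (hε : ε = 1 ∨ ε = -1) (hsum : f + 2 * (i * k) = 2 * d) (hdiv : 2 * (i * n') + rem = 2 * d)
    (hrem : rem < 2 * i) (hmM : i * M + μ = m) (hμ : μ < i) (hf0 : f = 0 → ε = 1)
    (hC : (ε = 1 ∧ 2 * μ ≤ rem) ∨ (ε = -1 ∧ (rem = 0 ∨ 2 * μ < rem))) :
    ∃ w1 s : ℕ, (2 * w1 : ℤ) + (1 - ε) ≤ f ∧ s * i ≤ i * k ∧ m = w1 + s * i := by
  have hkn : k ≤ n' := by
    have h1 : i * k < i * (n' + 1) := by
      rw [Nat.mul_add, Nat.mul_one]
      omega
    have := Nat.lt_of_mul_lt_mul_left h1
    omega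
  have hP : i * k ≤ i * n' := Nat.mul_le_mul_left i hkn
  have hP1 : k + 1 ≤ n' → i * k + i ≤ i * n' := by
    intro h
    have := Nat.mul_le_mul_left i h
    rw [Nat.mul_add, Nat.mul_one] at this
    exact this
  rcases le_or_gt M k with hMk | hMk
  · refine ⟨μ, M, ?_, ?_, ?_⟩
    · have hMi : i * M ≤ i * k := Nat.mul_le_mul_left i hMk
      rcases hC with ⟨rfl, hC⟩ | ⟨rfl, hC | hC⟩
      · push_cast
        omega
      · have hf : f ≠ 0 := by
          intro h0
          have := hf0 h0
          omega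
        have hk1 : k + 1 ≤ n' := by
          by_contra hcon
          have hkeq : k = n' := by omega
          subst hkeq
          omega
        have := hP1 hk1
        push_cast
        omega
      · push_cast
        omega
    · rw [Nat.mul_comm M i]
      exact Nat.mul_le_mul_left i hMk
    · rw [Nat.mul_comm M i]
      omega
  · have hkM : i * k ≤ i * M := Nat.mul_le_mul_left i (le_of_lt hMk)
    obtain ⟨w1, hw1⟩ : ∃ w1, m = w1 + k * i := ⟨m - k * i, by rw [Nat.mul_comm k i]; omega⟩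
    refine ⟨w1, k, ?_, ?_, hw1⟩
    · rw [Nat.mul_comm k i] at hw1
      rcases hε with rfl | rfl <;> push_cast <;> omega
    · rw [Nat.mul_comm k i]

/-- the case `i` even (`c = i`) -/
theorem otsariths_even (i i2 d m f k t R M μ n' rem : ℕ) (ε sf : ℤ) (hi2 : i = 2 * i2) (hi : 1 ≤ i)
    (hm : m + 1 ≤ d) (hε : ε = 1 ∨ ε = -1) (hsum : f + i * k = 2 * d)
    (hdiv : i * n' + rem = 2 * d) (hrem : rem < i) (hmM : i * M + μ = m) (hμ : μ < i)
    (hT2 : 2 * t ≤ k) (hT : k ≤ 2 * t + R)
    (hsf : sf = ε * (if k % 2 = 0 then 1 else -1)) (hf0 : f = 0 → sf = 1)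
    (hC1 : R + 2 * M ≤ n')
    (hC : (2 * μ ≤ i ∧ rem = 0 ∧ (ε = 1 ↔ n' % 2 = 1) ∧ R + 2 * M < n') ∨
      (2 * μ ≤ rem ∧ (ε = 1 ↔ n' % 2 = 0)) ∨ (2 * μ < rem ∧ (ε = 1 ↔ n' % 2 = 1))) :
    ∃ w1 s : ℕ, (2 * w1 : ℤ) + (1 - sf) ≤ f ∧ s * i ≤ i * t ∧ m = w1 + s * i := by
  have hkn : k ≤ n' := by
    have h1 : i * k < i * (n' + 1) := by
      rw [Nat.mul_add, Nat.mul_one]
      omega
    have := Nat.lt_of_mul_lt_mul_left h1
    omega
  have hP : i * k ≤ i * n' := Nat.mul_le_mul_left i hkn
  have hP1 : k + 1 ≤ n' → i * k + i ≤ i * n' := by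
    intro h
    have := Nat.mul_le_mul_left i h
    rw [Nat.mul_add, Nat.mul_one] at this
    exact this
  have hP2 : k + 2 ≤ n' → i * k + 2 * i ≤ i * n' := by
    intro h
    have := Nat.mul_le_mul_left i h
    rw [Nat.mul_add] at this
    omega
  have hev : i * n' = 2 * (i2 * n') := by rw [hi2]; ring
  -- the iff's as facts on the parity of `n'`
  have hiffO : ∀ e : ℤ, (e = 1 ∨ e = -1) → (e = 1 ↔ n' % 2 = 1) →
      (e = 1 ∧ n' % 2 = 1) ∨ (e = -1 ∧ n' % 2 = 0) := by
    intro e he h
    rcases he with rfl | rfl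
    · exact Or.inl ⟨rfl, h.mp rfl⟩
    · refine Or.inr ⟨rfl, ?_⟩
      by_contra hcon
      have h1 : n' % 2 = 1 := by omega
      have := h.mpr h1
      omega
  have hiffE : ∀ e : ℤ, (e = 1 ∨ e = -1) → (e = 1 ↔ n' % 2 = 0) →
      (e = 1 ∧ n' % 2 = 0) ∨ (e = -1 ∧ n' % 2 = 1) := by
    intro e he h
    rcases he with rfl | rfl
    · exact Or.inl ⟨rfl, h.mp rfl⟩
    · refine Or.inr ⟨rfl, ?_⟩
      by_contra hcon
      have h1 : n' % 2 = 0 := by omega
      have := h.mpr h1
      omega
  -- the value of `sf`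
  have hsfv : (ε = 1 ∧ k % 2 = 0 ∧ sf = 1) ∨ (ε = 1 ∧ k % 2 = 1 ∧ sf = -1) ∨
      (ε = -1 ∧ k % 2 = 0 ∧ sf = -1) ∨ (ε = -1 ∧ k % 2 = 1 ∧ sf = 1) := by
    rcases hε with rfl | rfl
    · by_cases hk : k % 2 = 0
      · rw [if_pos hk] at hsf
        exact Or.inl ⟨rfl, hk, by rw [hsf]; ring⟩
      · rw [if_neg hk] at hsf
        exact Or.inr (Or.inl ⟨rfl, by omega, by rw [hsf]; ring⟩)
    · by_cases hk : k % 2 = 0
      · rw [if_pos hk] at hsf
        exact Or.inr (Or.inr (Or.inl ⟨rfl, hk, by rw [hsf]; ring⟩))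
      · rw [if_neg hk] at hsf
        exact Or.inr (Or.inr (Or.inr ⟨rfl, by omega, by rw [hsf]; ring⟩))
  rcases le_or_gt M t with hMt | hMt
  · refine ⟨μ, M, ?_, ?_, ?_⟩
    · rcases hC with ⟨hA1, hA2, hA3, hA4⟩ | ⟨hB1, hB2⟩ | ⟨hC1', hC2⟩
      · -- (A)
        have hf : f = 0 → sf = 1 := hf0
        rcases hiffO ε hε hA3 with ⟨he, hn⟩ | ⟨he, hn⟩ <;>
          rcases hsfv with ⟨he', hk, hs⟩ | ⟨he', hk, hs⟩ | ⟨he', hk, hs⟩ | ⟨he', hk, hs⟩ <;>
          first
            | (exfalso; omega)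
            | (subst hs
               by_cases hk1 : k + 1 ≤ n'
               · have h5 := hP1 hk1
                 by_cases hk2 : k + 2 ≤ n'
                 · have h6 := hP2 hk2
                   push_cast
                   omega
                 · exfalso
                   omega
               · exfalso
                 have hkeq : k = n' := by omega
                 subst hkeq
                 have hf00 : f = 0 := by omega
                 have := hf hf00
                 omega)
            | (subst hs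
               by_cases hk1 : k + 1 ≤ n'
               · have h5 := hP1 hk1
                 push_cast
                 omega
               · exfalso
                 have hkeq : k = n' := by omega
                 subst hkeq
                 have hf00 : f = 0 := by omega
                 have := hf hf00
                 omega)
      · -- (B)
        rcases hiffE ε hε hB2 with ⟨he, hn⟩ | ⟨he, hn⟩ <;>
          rcases hsfv with ⟨he', hk, hs⟩ | ⟨he', hk, hs⟩ | ⟨he', hk, hs⟩ | ⟨he', hk, hs⟩ <;>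
          first
            | (exfalso; omega)
            | (subst hs
               push_cast
               omega)
            | (subst hs
               have hk1 : k + 1 ≤ n' := by omega
               have h5 := hP1 hk1
               push_cast
               omega)
      · -- (C)
        rcases hsfv with ⟨he', hk, hs⟩ | ⟨he', hk, hs⟩ | ⟨he', hk, hs⟩ | ⟨he', hk, hs⟩ <;>
          (subst hs
           push_cast
           omega)
    · rw [Nat.mul_comm M i]
      exact Nat.mul_le_mul_left i hMt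
    · rw [Nat.mul_comm M i]
      omega
  · have htM : i * t ≤ i * M := Nat.mul_le_mul_left i (le_of_lt hMt)
    obtain ⟨w1, hw1⟩ : ∃ w1, m = w1 + t * i := ⟨m - t * i, by rw [Nat.mul_comm t i]; omega⟩
    refine ⟨w1, t, ?_, ?_, hw1⟩
    · rw [Nat.mul_comm t i] at hw1
      obtain ⟨δ, hδ⟩ : ∃ δ, n' + 2 * t = k + 2 * M + δ := ⟨n' + 2 * t - (k + 2 * M), by omega⟩
      have hδm : i * n' + 2 * (i * t) = i * k + 2 * (i * M) + i * δ := by
        have := congrArg (fun z => i * z) hδ
        simp only [Nat.mul_add] at this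
        rw [← Nat.mul_assoc i 2 t, ← Nat.mul_assoc i 2 M, Nat.mul_comm i 2, Nat.mul_assoc,
          Nat.mul_assoc] at this
        exact this
      have hδ1 : 1 ≤ δ → i ≤ i * δ := fun h => by
        have := Nat.mul_le_mul_left i h
        rwa [Nat.mul_one] at this
      have hδ2 : 2 ≤ δ → 2 * i ≤ i * δ := fun h => by
        have := Nat.mul_le_mul_left i h
        omega
      rcases hC with ⟨hA1, hA2, hA3, hA4⟩ | ⟨hB1, hB2⟩ | ⟨hC1', hC2⟩
      · -- (A): `δ ≥ 1`, and `δ ≥ 2` when `sf = -1`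
        have hd1 : 1 ≤ δ := by omega
        have h7 := hδ1 hd1
        rcases hiffO ε hε hA3 with ⟨he, hn⟩ | ⟨he, hn⟩ <;>
          rcases hsfv with ⟨he', hk, hs⟩ | ⟨he', hk, hs⟩ | ⟨he', hk, hs⟩ | ⟨he', hk, hs⟩ <;>
          first
            | (exfalso; omega)
            | (subst hs
               push_cast
               omega)
            | (subst hs
               have hd2 : 2 ≤ δ := by omega
               have h8 := hδ2 hd2
               push_cast
               omega)
      · -- (B)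
        rcases hiffE ε hε hB2 with ⟨he, hn⟩ | ⟨he, hn⟩ <;>
          rcases hsfv with ⟨he', hk, hs⟩ | ⟨he', hk, hs⟩ | ⟨he', hk, hs⟩ | ⟨he', hk, hs⟩ <;>
          first
            | (exfalso; omega)
            | (subst hs
               push_cast
               omega)
            | (subst hs
               have hd1 : 1 ≤ δ := by omega
               have h7 := hδ1 hd1
               push_cast
               omega)
      · -- (C)
        rcases hsfv with ⟨he', hk, hs⟩ | ⟨he', hk, hs⟩ | ⟨he', hk, hs⟩ | ⟨he', hk, hs⟩ <;>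
          (subst hs
           push_cast
           omega)
    · rw [Nat.mul_comm t i]

/-- ARITHS [M]: the arithmetic of the sufficiency direction (brute-force checked, /tmp/ots/arith.py of helper13: `i ≤ 8`, `t ≤ 5`, `d ≤ 12`).
`f = dim fixS`, `g = dim cycS`, `tdim = dim T`, `sf = type fixS`. -/
theorem q_arith_suff (i c d m f g tdim r : ℕ) (ε sf : ℤ) (hi : 1 ≤ i)
    (hc : c = if Even i then i else 2 * i) (hm : m + 1 ≤ d) (hε : ε = 1 ∨ ε = -1)
    (hsum : f + g = 2 * d) (hcg : c ∣ g) (hit : i ∣ tdim) (hir : i ∣ r - 1) (hT2 : 2 * tdim ≤ g)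
    (hT : (Odd i ∧ 2 * tdim = g) ∨ (Even i ∧ g ≤ 2 * tdim + (r - 1)))
    (hsf : sf = ε * SCy i g) (hf0 : f = 0 → sf = 1)
    (hC : TSC i c d m ((r - 1) / i) ε) :
    ∃ w1 s : ℕ, (2 * w1 : ℤ) + (1 - sf) ≤ f ∧ s * i ≤ tdim ∧ m = w1 + s * i := by
  obtain ⟨hC0, hC⟩ := hC
  have hmM := Nat.div_add_mod m i
  have hμ := Nat.mod_lt m hi
  rcases Nat.even_or_odd i with hie | hio
  · -- `i` even
    have hno : ¬ Odd i := Nat.not_odd_iff_even.mpr hie
    rw [if_pos hie] at hc
    have hc' : i = c := hc.symm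
    subst hc'
    obtain ⟨i2, hi2⟩ := hie
    obtain ⟨k, hk⟩ := hcg
    obtain ⟨t, ht⟩ := hit
    obtain ⟨R, hR⟩ := hir
    have hRdiv : (r - 1) / i = R := by rw [hR]; exact Nat.mul_div_cancel_left R hi
    have hgdiv : g / i = k := by rw [hk]; exact Nat.mul_div_cancel_left k hi
    rcases hT with ⟨hio, _⟩ | ⟨_, hT⟩
    · exact absurd hio hno
    rcases hC with ⟨hio, _⟩ | ⟨_, hC1, hC⟩
    · exact absurd hio hno
    have hdiv := Nat.div_add_mod (2 * d) i
    have hrem := Nat.mod_lt (2 * d) hi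
    have hSCy : SCy i g = if k % 2 = 0 then 1 else -1 := by
      unfold SCy
      rw [hgdiv]
      simp only [hno, false_or, Nat.even_iff]
    rw [hRdiv] at hC1 hC
    subst hk ht
    have hT2' : 2 * t ≤ k := by
      have h1 : i * (2 * t) ≤ i * k := by
        rw [← Nat.mul_assoc, Nat.mul_comm i 2, Nat.mul_assoc]
        exact hT2
      exact Nat.le_of_mul_le_mul_left h1 hi
    have hT' : k ≤ 2 * t + R := by
      have h1 : i * k ≤ i * (2 * t + R) := by
        rw [Nat.mul_add, ← Nat.mul_assoc, Nat.mul_comm i 2, Nat.mul_assoc, ← hR]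
        exact hT
      exact Nat.le_of_mul_le_mul_left h1 hi
    simp only [Nat.odd_iff, Nat.even_iff] at hC
    exact otsariths_even i i2 d m f k t R (m / i) (m % i) (2 * d / i) (2 * d % i) ε sf (by omega) hi
      hm hε hsum hdiv hrem hmM hμ hT2' hT' (by rw [hsf, hSCy]) hf0 hC1 hC
  · -- `i` odd
    have hne : ¬ Even i := Nat.not_even_iff_odd.mpr hio
    rw [if_neg hne] at hc
    subst hc
    obtain ⟨k, hk⟩ := hcg
    rcases hT with ⟨_, hT⟩ | ⟨hie, _⟩
    swap
    · exact absurd hie hne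
    rcases hC with ⟨_, hC⟩ | ⟨hie, _⟩
    swap
    · exact absurd hie hne
    have hSCy : SCy i g = 1 := by
      unfold SCy
      rw [if_pos (Or.inl hio)]
    rw [hSCy, mul_one] at hsf
    have hsf' : ε = sf := hsf.symm
    subst hsf'
    have hg : g = 2 * (i * k) := by rw [hk]; ring
    have htd : tdim = i * k := by omega
    have hdiv := Nat.div_add_mod (2 * d) (2 * i)
    rw [Nat.mul_assoc] at hdiv
    have hrem := Nat.mod_lt (2 * d) (show 0 < 2 * i by omega)
    rw [htd]
    exact otsariths_odd i d m f k (m / i) (m % i) (2 * d / (2 * i)) (2 * d % (2 * i)) ε hi hm hε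
      (by omega) hdiv hrem hmM hμ hf0 hC

end Cfsg.Agent.Lib.Helper13.OTS
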