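import Mathlib
import Cfsg.Agent.Lib.helper15.SQM.Defs

/-!
# SQM row D4 (helper25), core: block diagonal sum of an isometry of the standard plus space and an isometry of the binary form,
both of square `-1`, is an isometry of the standard minus space of square `-1`.
-/

set_option autoImplicit false

namespace Cfsg.Agent.Lib.helper15.SQM

open Matrix Module

variable {F : Type*} [Field F]

/-- the minus form is the plus form on the `inl` coordinates plus the binary form on the `inr` coordinates -/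
theorem sqmd4_minus_eq (m : ℕ) (a b : F) (w : (Fin m ⊕ Fin m) ⊕ Fin 2 → F) :
    Cfsg.quadFormMinus m F a b w = Cfsg.quadFormPlus m F (w ∘ Sum.inl) +
      ((w ∘ Sum.inr) 0 ^ 2 + a * (w ∘ Sum.inr) 0 * (w ∘ Sum.inr) 1 + b * (w ∘ Sum.inr) 1 ^ 2) := rfl

theorem sqmd4_neg_one {α β : Type*} [DecidableEq α] [DecidableEq β] :
    Matrix.fromBlocks (-1 : Matrix α α F) 0 0 (-1 : Matrix β β F) = -1 := by
  have h : (1 : Matrix (α ⊕ β) (α ⊕ β) F) = Matrix.fromBlocks 1 0 0 1 := Matrix.fromBlocks_one.symm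
  rw [h, Matrix.fromBlocks_neg]
  simp only [neg_zero]

/-- D4 core (any `m`) -/
theorem sqmd4_core (m : ℕ) (a b : F)
    (x : Matrix.GeneralLinearGroup (Fin m ⊕ Fin m) F)
    (hx : x ∈ Cfsg.isometryGroup F (Cfsg.quadFormPlus m F))
    (hx2 : (x : Matrix (Fin m ⊕ Fin m) (Fin m ⊕ Fin m) F) * (x : Matrix (Fin m ⊕ Fin m) (Fin m ⊕ Fin m) F) = -1)
    (y : Matrix (Fin 2) (Fin 2) F) (hy2 : y * y = -1)
    (hy : ∀ z : Fin 2 → F, (y *ᵥ z) 0 ^ 2 + a * (y *ᵥ z) 0 * (y *ᵥ z) 1 + b * (y *ᵥ z) 1 ^ 2 =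
        z 0 ^ 2 + a * z 0 * z 1 + b * z 1 ^ 2) :
    ∃ X : Matrix.GeneralLinearGroup ((Fin m ⊕ Fin m) ⊕ Fin 2) F,
      X ∈ Cfsg.isometryGroup F (Cfsg.quadFormMinus m F a b) ∧
      (X : Matrix ((Fin m ⊕ Fin m) ⊕ Fin 2) ((Fin m ⊕ Fin m) ⊕ Fin 2) F) *
        (X : Matrix ((Fin m ⊕ Fin m) ⊕ Fin 2) ((Fin m ⊕ Fin m) ⊕ Fin 2) F) = -1 := by
  classical
  set M : Matrix ((Fin m ⊕ Fin m) ⊕ Fin 2) ((Fin m ⊕ Fin m) ⊕ Fin 2) F :=
    Matrix.fromBlocks (x : Matrix (Fin m ⊕ Fin m) (Fin m ⊕ Fin m) F) 0 0 y with hM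
  have hsq : M * M = -1 := by
    rw [hM, Matrix.fromBlocks_multiply]
    simp only [Matrix.mul_zero, Matrix.zero_mul, add_zero, zero_add, hx2, hy2]
    exact sqmd4_neg_one
  obtain ⟨X, hX⟩ : ∃ X : Matrix.GeneralLinearGroup ((Fin m ⊕ Fin m) ⊕ Fin 2) F,
      (X : Matrix ((Fin m ⊕ Fin m) ⊕ Fin 2) ((Fin m ⊕ Fin m) ⊕ Fin 2) F) = M := by
    refine ⟨⟨M, -M, ?_, ?_⟩, rfl⟩
    · rw [mul_neg, hsq, neg_neg]
    · rw [neg_mul, hsq, neg_neg]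
  refine ⟨X, ?_, by rw [hX]; exact hsq⟩
  intro u v
  change Cfsg.quadFormMinus m F a b
    ((X : Matrix ((Fin m ⊕ Fin m) ⊕ Fin 2) ((Fin m ⊕ Fin m) ⊕ Fin 2) F) *ᵥ u) =
      Cfsg.quadFormMinus m F a b u
  rw [hX, sqmd4_minus_eq, sqmd4_minus_eq]
  have h1 : (M *ᵥ u) ∘ Sum.inl =
      (x : Matrix (Fin m ⊕ Fin m) (Fin m ⊕ Fin m) F) *ᵥ (u ∘ Sum.inl) := by
    rw [hM, Matrix.fromBlocks_mulVec]
    ext j
    simp
  have h2 : (M *ᵥ u) ∘ Sum.inr = y *ᵥ (u ∘ Sum.inr) := by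
    rw [hM, Matrix.fromBlocks_mulVec]
    ext j
    simp
  rw [h1, h2, hy]
  congr 1
  exact hx (u ∘ Sum.inl) (u ∘ Sum.inl)

end Cfsg.Agent.Lib.helper15.SQM
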