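import Mathlib
import Cfsg.Agent.Lib.helper15.SQM.Defs
import Cfsg.Agent.Lib.Helper25.SQMD4core

/-!
# SQM row D3 (helper25): `sqm_ex_plus3`, an isometry of square `-1` of the standard plus space of dimension `4k` (any field):
`x = diag(A, -Aᵀ)` with `A * A = -1`, `A = J ⊗ 1` reindexed to `Fin (2 * k)`.
-/

set_option autoImplicit false

namespace Cfsg.Agent.Lib.helper15.SQM

open Matrix Module

variable {F : Type*} [Field F]

open Kronecker in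
/-- a matrix of square `-1` in even dimension -/
theorem sqmd3_A (k : ℕ) : ∃ A : Matrix (Fin (2 * k)) (Fin (2 * k)) F, A * A = -1 := by
  classical
  let J : Matrix (Fin 2) (Fin 2) F := !![0, -1; 1, 0]
  have hJ : J * J = -1 := by
    ext i j
    fin_cases i <;> fin_cases j <;> simp [J, Matrix.mul_apply, Fin.sum_univ_two]
  have hK : (J ⊗ₖ (1 : Matrix (Fin k) (Fin k) F)) * (J ⊗ₖ (1 : Matrix (Fin k) (Fin k) F)) = -1 := by
    rw [← Matrix.mul_kronecker_mul, hJ, mul_one]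
    have h1 : (-1 : Matrix (Fin 2) (Fin 2) F) = (-1 : F) • (1 : Matrix (Fin 2) (Fin 2) F) := by simp
    rw [h1, Matrix.smul_kronecker, Matrix.one_kronecker_one]
    simp
  refine ⟨Matrix.reindexAlgEquiv F F finProdFinEquiv (J ⊗ₖ (1 : Matrix (Fin k) (Fin k) F)), ?_⟩
  rw [← map_mul, hK, map_neg, map_one]

/-- the plus form is a dot product -/
theorem sqmd3_plus_eq (m : ℕ) (w : Fin m ⊕ Fin m → F) :
    Cfsg.quadFormPlus m F w = (w ∘ Sum.inl) ⬝ᵥ (w ∘ Sum.inr) := rfl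

/-- D3 core: `diag(A, -Aᵀ)` for `A * A = -1` -/
theorem sqmd3_core (m : ℕ) (A : Matrix (Fin m) (Fin m) F) (hA : A * A = -1) :
    ∃ x : Matrix.GeneralLinearGroup (Fin m ⊕ Fin m) F,
      x ∈ Cfsg.isometryGroup F (Cfsg.quadFormPlus m F) ∧
      (x : Matrix (Fin m ⊕ Fin m) (Fin m ⊕ Fin m) F) * (x : Matrix (Fin m ⊕ Fin m) (Fin m ⊕ Fin m) F) = -1 := by
  classical
  have hAT : Aᵀ * Aᵀ = -1 := by
    rw [← Matrix.transpose_mul, hA, Matrix.transpose_neg, Matrix.transpose_one]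
  set M : Matrix (Fin m ⊕ Fin m) (Fin m ⊕ Fin m) F := Matrix.fromBlocks A 0 0 (-Aᵀ) with hM
  have hsq : M * M = -1 := by
    rw [hM, Matrix.fromBlocks_multiply]
    simp only [Matrix.mul_zero, Matrix.zero_mul, add_zero, zero_add, hA, neg_mul, mul_neg, neg_neg,
      hAT, neg_zero]
    exact sqmd4_neg_one (F := F) (α := Fin m) (β := Fin m)
  obtain ⟨x, hx⟩ : ∃ x : Matrix.GeneralLinearGroup (Fin m ⊕ Fin m) F,
      (x : Matrix (Fin m ⊕ Fin m) (Fin m ⊕ Fin m) F) = M := by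
    refine ⟨⟨M, -M, ?_, ?_⟩, rfl⟩
    · rw [mul_neg, hsq, neg_neg]
    · rw [neg_mul, hsq, neg_neg]
  refine ⟨x, ?_, by rw [hx]; exact hsq⟩
  intro u v
  change Cfsg.quadFormPlus m F ((x : Matrix (Fin m ⊕ Fin m) (Fin m ⊕ Fin m) F) *ᵥ u) =
    Cfsg.quadFormPlus m F u
  rw [hx, sqmd3_plus_eq, sqmd3_plus_eq]
  have h1 : (M *ᵥ u) ∘ Sum.inl = A *ᵥ (u ∘ Sum.inl) := by
    rw [hM, Matrix.fromBlocks_mulVec]
    ext j
    simp
  have h2 : (M *ᵥ u) ∘ Sum.inr = (-Aᵀ) *ᵥ (u ∘ Sum.inr) := by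
    rw [hM, Matrix.fromBlocks_mulVec]
    ext j
    simp
  rw [h1, h2, Matrix.dotProduct_mulVec, ← Matrix.vecMul_transpose, Matrix.vecMul_vecMul,
    Matrix.mul_neg, hAT, neg_neg, Matrix.vecMul_one]

/-- D3 [M]: any field, `d = 2k` even, standard plus space: `x (x₁, x₂, y₁, y₂) = (-x₂, x₁, -y₂, y₁)` on consecutive pairs of coordinates. -/
theorem sqm_ex_plus3 (k : ℕ) :
    ∃ x : Matrix.GeneralLinearGroup (Fin (2 * k) ⊕ Fin (2 * k)) F,
      x ∈ Cfsg.isometryGroup F (Cfsg.quadFormPlus (2 * k) F) ∧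
      (x : Matrix (Fin (2 * k) ⊕ Fin (2 * k)) (Fin (2 * k) ⊕ Fin (2 * k)) F) *
        (x : Matrix (Fin (2 * k) ⊕ Fin (2 * k)) (Fin (2 * k) ⊕ Fin (2 * k)) F) = -1 := by
  obtain ⟨A, hA⟩ := sqmd3_A (F := F) k
  exact sqmd3_core (2 * k) A hA

end Cfsg.Agent.Lib.helper15.SQM
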