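import Mathlib
import Cfsg.Agent.Lib.helper15.SQM.Defs

/-!
# SQM row D1 (helper25): `sqm_ex_plus1`, the element `diag(i0, -i0)` of the standard plus space with its hyperbolic eigen-frame.
-/

set_option autoImplicit false

namespace Cfsg.Agent.Lib.helper15.SQM

open Matrix Module

variable {F : Type*} [Field F]

/-- the diagonal entries `(i0, …, i0, -i0, …, -i0)` -/
def sqmd1_c (d : ℕ) (i0 : F) : Fin d ⊕ Fin d → F := Sum.elim (fun _ => i0) (fun _ => -i0)

theorem sqmd1_sq (d : ℕ) (i0 : F) (hi0 : i0 * i0 = -1) :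
    (Matrix.diagonal (sqmd1_c d i0)) * (Matrix.diagonal (sqmd1_c d i0)) = -1 := by
  rw [Matrix.diagonal_mul_diagonal]
  ext a b
  rcases a with a | a <;> rcases b with b | b <;>
    simp [Matrix.diagonal_apply, Matrix.one_apply, sqmd1_c, hi0] <;> split_ifs <;> simp

theorem sqmd1_mulVec (d : ℕ) (i0 : F) (u : Fin d ⊕ Fin d → F) (k : Fin d ⊕ Fin d) :
    ((Matrix.diagonal (sqmd1_c d i0)) *ᵥ u) k = sqmd1_c d i0 k * u k :=
  Matrix.mulVec_diagonal _ _ _

theorem sqmd1_pres (d : ℕ) (i0 : F) (hi0 : i0 * i0 = -1) (u : Fin d ⊕ Fin d → F) :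
    Cfsg.quadFormPlus d F ((Matrix.diagonal (sqmd1_c d i0)) *ᵥ u) = Cfsg.quadFormPlus d F u := by
  unfold Cfsg.quadFormPlus
  apply Finset.sum_congr rfl
  intro i _
  rw [sqmd1_mulVec, sqmd1_mulVec]
  simp only [sqmd1_c, Sum.elim_inl, Sum.elim_inr]
  linear_combination (-(u (Sum.inl i) * u (Sum.inr i))) * hi0

/-- D1 [M]: case 1 on the standard plus space: `x = diag(i0, -i0)`, with its frame `e i = single (inl i) 1`, `f i = single (inr i) 1`. -/
theorem sqm_ex_plus1 (d : ℕ) (i0 : F) (hi0 : i0 * i0 = -1) :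
    ∃ x : Matrix.GeneralLinearGroup (Fin d ⊕ Fin d) F,
      x ∈ Cfsg.isometryGroup F (Cfsg.quadFormPlus d F) ∧
      (x : Matrix (Fin d ⊕ Fin d) (Fin d ⊕ Fin d) F) * (x : Matrix (Fin d ⊕ Fin d) (Fin d ⊕ Fin d) F) = -1 ∧
      Frame1 (Cfsg.Agent.Lib.Helper16.qfPlus d F) (x : Matrix (Fin d ⊕ Fin d) (Fin d ⊕ Fin d) F) i0 d
        (fun i => Pi.single (Sum.inl i) 1) (fun i => Pi.single (Sum.inr i) 1) := by
  classical
  have hsq := sqmd1_sq d i0 hi0
  obtain ⟨x, hx⟩ : ∃ x : Matrix.GeneralLinearGroup (Fin d ⊕ Fin d) F,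
      (x : Matrix (Fin d ⊕ Fin d) (Fin d ⊕ Fin d) F) = Matrix.diagonal (sqmd1_c d i0) := by
    refine ⟨⟨Matrix.diagonal (sqmd1_c d i0), -Matrix.diagonal (sqmd1_c d i0), ?_, ?_⟩, rfl⟩
    · rw [mul_neg, hsq, neg_neg]
    · rw [neg_mul, hsq, neg_neg]
  refine ⟨x, ?_, by rw [hx]; exact hsq, ?_⟩
  · intro u v
    change Cfsg.quadFormPlus d F ((x : Matrix (Fin d ⊕ Fin d) (Fin d ⊕ Fin d) F) *ᵥ u) =
      Cfsg.quadFormPlus d F u
    rw [hx]
    exact sqmd1_pres d i0 hi0 u
  · rw [hx]
    refine ⟨?_, ?_, ?_, ?_, ?_, ?_, ?_, ?_⟩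
    · intro i
      change Cfsg.quadFormPlus d F _ = 0
      unfold Cfsg.quadFormPlus
      apply Finset.sum_eq_zero
      intro j _
      simp
    · intro i
      change Cfsg.quadFormPlus d F _ = 0
      unfold Cfsg.quadFormPlus
      apply Finset.sum_eq_zero
      intro j _
      simp
    · intro i j
      change QuadraticMap.polar (Cfsg.quadFormPlus d F) _ _ = 0
      rw [Cfsg.Agent.Lib.Helper16.polar_plus]
      apply Finset.sum_eq_zero
      intro k _
      simp
    · intro i j
      change QuadraticMap.polar (Cfsg.quadFormPlus d F) _ _ = 0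
      rw [Cfsg.Agent.Lib.Helper16.polar_plus]
      apply Finset.sum_eq_zero
      intro k _
      simp
    · intro i j
      change QuadraticMap.polar (Cfsg.quadFormPlus d F) _ _ = _
      rw [Cfsg.Agent.Lib.Helper16.polar_plus]
      simp only [Pi.single_apply, Sum.inl.injEq, Sum.inr.injEq, reduceCtorEq, if_false, mul_zero,
        add_zero]
      by_cases hij : i = j
      · subst hij
        rw [if_pos rfl, Finset.sum_eq_single i]
        · simp
        · intro b _ hb
          simp [hb]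
        · intro h
          exact absurd (Finset.mem_univ i) h
      · rw [if_neg hij]
        apply Finset.sum_eq_zero
        intro k _
        by_cases hki : k = i
        · subst hki
          simp [hij]
        · simp [hki]
    · intro i
      ext k
      rw [sqmd1_mulVec]
      rcases k with k | k <;> simp [sqmd1_c, Pi.single_apply]
    · intro i
      ext k
      rw [sqmd1_mulVec]
      rcases k with k | k <;> simp [sqmd1_c, Pi.single_apply]
    · simp [two_mul]

end Cfsg.Agent.Lib.helper15.SQM
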