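import Mathlib
import Cfsg.Prelude.Def_Classical
import Cfsg.Agent.Lib.helper23.P4V.Defs

/-!
# Project P4V (S2460, designer helper23), row FR1, second copy by helper25 under own names:
`p4vfr1_h25_frameMat_mem` is the EXACT Skel statement of `frameMat_mem`.
-/

set_option autoImplicit false

namespace Cfsg.Agent.Lib.helper23.P4V

open Matrix

universe u

section Field

variable {F : Type u} [Field F]

/-- **FR1**, second copy (helper25): EXACT Skel statement of `frameMat_mem`. -/
theorem p4vfr1_h25_frameMat_mem (e₁ e₂ f₁ f₂ : V F) (h : IsFrame e₁ e₂ f₁ f₂) :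
    frameMat e₁ e₂ f₁ f₂ ∈ Matrix.symplecticGroup (Fin 2) F := by
  obtain ⟨h1, h2, h3, h4, h5, h6⟩ := h
  unfold om at h1 h2 h3 h4 h5 h6
  rw [SymplecticGroup.mem_iff']
  ext a b
  rcases a with a | a <;> rcases b with b | b <;> fin_cases a <;> fin_cases b <;>
    simp [Matrix.mul_apply, Fintype.sum_sum_type, Fin.sum_univ_two, Matrix.J, frameMat,
      Matrix.transpose_apply, Matrix.fromBlocks_apply₁₁, Matrix.fromBlocks_apply₁₂,
      Matrix.fromBlocks_apply₂₁, Matrix.fromBlocks_apply₂₂]
  · ring
  · linear_combination -h1
  · linear_combination h1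
  · ring
  · linear_combination -h3
  · linear_combination -h5
  · linear_combination -h6
  · linear_combination -h4
  · linear_combination h3
  · linear_combination h6
  · linear_combination h5
  · linear_combination h4
  · ring
  · linear_combination -h2
  · linear_combination h2
  · ring

end Field

end Cfsg.Agent.Lib.helper23.P4V
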