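import Mathlib
import Cfsg.Agent.Lib.helper17.SLP.Defs
import Cfsg.Agent.Lib.helper3.SP4.Defs
import Cfsg.Agent.Lib.helper7.SLPP1

/-!
# SP4 row H3 (`pres_hom`), helper25.  Verbatim statement of `helper3/SP4/Skel.lean.txt`.
-/

set_option autoImplicit false

namespace Cfsg.Agent.Lib.helper3.SP4

open Cfsg.Agent.Lib.helper17.SLP
open Polynomial

universe u v

/-- H3 [M]. -/
theorem pres_hom {S : Type u} [Group S] [Finite S] (L : List (FreeGroup (Fin 3))) (a b c : S)
    (hgen : Subgroup.closure {a, b, c} = ⊤) (hrel : ∀ r ∈ L, ev a b c r = 1)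
    (hcard : ∀ (G : Type) [Group G] (u h w : G), Subgroup.closure {u, h, w} = ⊤ →
      (∀ r ∈ L, ev u h w r = 1) → Finite G ∧ Nat.card G ≤ Nat.card S)
    (G : Type v) [Group G] (u h w : G) (hL : ∀ r ∈ L, ev u h w r = 1) :
    ∃ φ : S →* G, φ a = u ∧ φ b = h ∧ φ c = w := by
  classical
  set rels : Set (FreeGroup (Fin 3)) := (↑L.toFinset : Set (FreeGroup (Fin 3))) with hrels
  have hmem : ∀ r, r ∈ rels ↔ r ∈ L := by
    intro r
    simp [hrels]
  have hr : ∀ r ∈ rels, FreeGroup.lift ![a, b, c] r = 1 := by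
    intro r hr
    exact hrel r ((hmem r).1 hr)
  let φ₀ : PresentedGroup rels →* S := PresentedGroup.toGroup hr
  have hφ₀ : ∀ i, φ₀ (PresentedGroup.of i) = ![a, b, c] i := fun i => PresentedGroup.toGroup.of hr
  have hsurj : Function.Surjective φ₀ := by
    rw [← MonoidHom.range_eq_top, eq_top_iff, ← hgen, Subgroup.closure_le]
    intro x hx
    simp only [Set.mem_insert_iff, Set.mem_singleton_iff] at hx
    rcases hx with rfl | rfl | rfl
    · exact ⟨PresentedGroup.of 0, by rw [hφ₀]; rfl⟩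
    · exact ⟨PresentedGroup.of 1, by rw [hφ₀]; rfl⟩
    · exact ⟨PresentedGroup.of 2, by rw [hφ₀]; rfl⟩
  obtain ⟨hfin, hle⟩ := hcard (PresentedGroup rels) (PresentedGroup.of 0) (PresentedGroup.of 1)
    (PresentedGroup.of 2) (slpp1_closure rels) (by
      intro r hr'
      rw [slpp1_ev_of]
      exact (PresentedGroup.mk_eq_one_iff).2 (Subgroup.subset_normalClosure ((hmem r).2 hr')))
  have hbij : Function.Bijective φ₀ := hsurj.bijective_of_nat_card_le hle
  let e : PresentedGroup rels ≃* S := MulEquiv.ofBijective φ₀ hbij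
  have hL' : ∀ r ∈ rels, FreeGroup.lift ![u, h, w] r = 1 := by
    intro r hr
    exact hL r ((hmem r).1 hr)
  let ψ : PresentedGroup rels →* G := PresentedGroup.toGroup hL'
  have hψ : ∀ i, ψ (PresentedGroup.of i) = ![u, h, w] i := fun i => PresentedGroup.toGroup.of hL'
  have he : ∀ i, e.symm (![a, b, c] i) = PresentedGroup.of i := by
    intro i
    rw [MulEquiv.symm_apply_eq]
    exact (hφ₀ i).symm
  refine ⟨ψ.comp e.symm.toMonoidHom, ?_, ?_, ?_⟩
  · have h0' : e.symm a = PresentedGroup.of 0 := he 0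
    have h1' : ψ (PresentedGroup.of 0) = u := hψ 0
    simp only [MonoidHom.comp_apply, MulEquiv.coe_toMonoidHom]
    rw [h0', h1']
  · have h0' : e.symm b = PresentedGroup.of 1 := he 1
    have h1' : ψ (PresentedGroup.of 1) = h := hψ 1
    simp only [MonoidHom.comp_apply, MulEquiv.coe_toMonoidHom]
    rw [h0', h1']
  · have h0' : e.symm c = PresentedGroup.of 2 := he 2
    have h1' : ψ (PresentedGroup.of 2) = w := hψ 2
    simp only [MonoidHom.comp_apply, MulEquiv.coe_toMonoidHom]
    rw [h0', h1']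

end Cfsg.Agent.Lib.helper3.SP4
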