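import Mathlib
import Cfsg.Agent.Lib.Helper19.U3P.Defs
import Cfsg.Agent.Lib.helper7.U3PF5
import Cfsg.Agent.Lib.helper7.U3PF7
import Cfsg.Agent.Lib.helper7.U3PF8
import Cfsg.Agent.Lib.Helper5.U3PF10
import Cfsg.Agent.Lib.helper7.U3PF11
import Cfsg.Agent.Lib.helper4.U3PX2
import Cfsg.Agent.Lib.Helper19.U3PX7
import Cfsg.Agent.Lib.helper4.U3PX8
import Cfsg.Agent.Lib.Helper11.U3PX9
import Cfsg.Agent.Lib.Helper5.U3PX13
import Cfsg.Agent.Lib.Helper12.U3PX21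
import Cfsg.Agent.Lib.helper15.U3PX22core
import Cfsg.Agent.Lib.Helper20.U3PX23
import Cfsg.Agent.Lib.Helper5.U3PB11
import Cfsg.Agent.Lib.helper23.U3PFIN1
import Cfsg.Agent.Lib.Helper20.U3PFIN2core
import Cfsg.Agent.Lib.Helper18.U3PFIN3
import Cfsg.Agent.Lib.helper15.SP4H6
import Cfsg.Agent.Lib.Helper9.SP4H1
import Cfsg.Agent.Lib.helper6.SLPM4

/-!
# Project U3P (designer helper19), row FIN4 (helper25): `su3_list`, verbatim.
Assembly of F5 F7 F8 F10 F11 X2 X7 X8 X9 X21 X22(core + X13) X23 FIN1 FIN2(core + B11) FIN3 + SP4 `sl_hom`, `exists_word`, SLP `closure_M`.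
-/

set_option autoImplicit false

namespace Cfsg.Agent.Lib.Helper19.U3P

open Cfsg.Agent.Lib.helper17.SLP Cfsg.Agent.Lib.helper14.SU3J Cfsg.Agent.Lib.Helper25.SU3P
open Polynomial Matrix

universe u v

section FIN2

variable {F : Type u} [Field F] [Fintype F] {q : ℕ}

theorem su3_list (hF : Fintype.card F = q ^ 2) (hq : 4 ≤ q) (h5 : q ≠ 5) :
    ∃ (a b c : ↥(Cfsg.SU 3 F q)) (L : List (FreeGroup (Fin 3))), L.length ≤ 22 ∧
      Subgroup.closure {a, b, c} = ⊤ ∧ (∀ r ∈ L, ev a b c r = 1) ∧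
      (∀ (G : Type) [Group G] (u h w : G) (π : G →* ↥(Cfsg.SU 3 F q)), π u = a → π h = b → π w = c →
        Subgroup.closure {u, h, w} = ⊤ → (∀ r ∈ L, ev u h w r = 1) →
        Finite G ∧ Nat.card G ≤ Nat.card ↥(Cfsg.SU 3 F q)) ∧
      b ^ ((q ^ 2 - 1) / Nat.gcd 3 (q + 1)) ∈ Subgroup.center ↥(Cfsg.SU 3 F q) ∧
      Subgroup.center ↥(Cfsg.SU 3 F q) ≤ Subgroup.zpowers (b ^ ((q ^ 2 - 1) / Nat.gcd 3 (q + 1))) := by
  classical
  obtain ⟨K, _, _, hK, ⟨D⟩⟩ := exists_par hF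
  obtain ⟨hσσ, hal, -, -, hγσ, -, -, -⟩ := par_basic D hF hK hq
  obtain ⟨-, -, hγ⟩ := nu_ne D hF hK hq h5
  obtain ⟨a, b, c, ρ, hG⟩ := exists_gens D hF hγ hγσ
  have hq2 : 2 ≤ q := by omega
  have hRM := relM_S hG hF hK hq2 hγ
  obtain ⟨US, CO, hRO, hMod⟩ := model_S hG hF hK hq h5
  have hgen := u3px22_core hG hF hq hγ (fun X hX => gen_U hG hF hK hq hγ X hX)
  obtain ⟨hc1, hc2⟩ := center_S hG hF hq2
  obtain ⟨Lsl, az, hL9, hL5, hLrel, haz, hLhom⟩ := Cfsg.Agent.Lib.helper3.SP4.sl_hom D.bK D.hbKgen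
  have hcl := closure_M D.bK D.hbKgen
  have word : ∀ m : SL2 K, ∃ r, ev (xM (1 : K)) (hM D.bK) wM r = m :=
    fun m => Cfsg.Agent.Lib.helper3.SP4.exists_word _ _ _ hcl m
  obtain ⟨rc, hrc⟩ := word CO.gc
  obtain ⟨r1, hr1⟩ := word CO.g1
  obtain ⟨r2, hr2⟩ := word CO.g2
  have hWO : OkO D.bK CO ⟨rc, r1, r2⟩ := ⟨hrc, hr1, hr2⟩
  obtain ⟨hrelG, hrel8⟩ := hrel_all hG hRM Lsl az hLrel haz CO ⟨rc, r1, r2⟩ hWO hRO
  obtain ⟨p, hp⟩ := CharP.exists F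
  haveI : Fact p.Prime := ⟨CharP.char_is_prime F p⟩
  by_cases h8 : q = 8
  · have hp2 : p = 2 := by
      obtain ⟨n, hpp, hn⟩ := FiniteField.card F p
      have h64 : p ^ (n : ℕ) = 2 ^ 6 := by rw [← hn, hF, h8]; norm_num
      have hd : p ∣ 2 ^ 6 := by
        rw [← h64]; exact dvd_pow_self p n.ne_zero
      exact (Nat.prime_dvd_prime_iff_eq hpp Nat.prime_two).mp (hpp.dvd_of_dvd_pow hd)
    subst hp2
    letI := ZMod.algebra F 2
    have hsurj := al_surj D hF hK hq 2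
    obtain ⟨CB, hRB, hCB1⟩ := relB8_S hG hF hK h8
    obtain ⟨x4, hx4⟩ := word (xM CB.t4)
    obtain ⟨y1, hy1⟩ := word (xM CB.s1)
    obtain ⟨y2, hy2⟩ := word (xM CB.s2)
    obtain ⟨y3, hy3⟩ := word (xM CB.s3)
    obtain ⟨y4, hy4⟩ := word (xM CB.s4)
    obtain ⟨y5, hy5⟩ := word (xM CB.s5)
    obtain ⟨x8, hx8⟩ := word (xM CB.t8)
    have hWB : OkB8 D.bK CB ⟨x4, y1, y2, y3, y4, y5, x8⟩ := ⟨hx4, hy1, hy2, hy3, hy4, hy5, hx8⟩
    have h2K : (2 : K) = 0 := by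
      apply D.ι.injective
      rw [map_ofNat, map_zero]
      exact CharTwo.two_eq_zero
    have hlen := hL5 h2K
    refine ⟨a, b, c, relsAll8 q Lsl az CB ⟨x4, y1, y2, y3, y4, y5, x8⟩ CO ⟨rc, r1, r2⟩, ?_, hgen,
      hrel8 CB _ hWB hRB,
      u3pfin2_core hG hF hK h8 hsurj US CB CO hCB1 hMod hγ Lsl az haz hLhom _ _ hWB hWO
        (fun {G} _ hK8 hF64 bK hbK hspan φ u h w R C hB al hal hmα hsurj' =>
          card_B_eight hK8 hF64 bK hbK hspan φ u h w R C hB al hal hmα hsurj'), hc1, hc2⟩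
    simp only [relsAll8, relsM, relsB8, relsO, List.length_append, List.length_map, List.length_cons,
      List.length_nil]
    omega
  · letI := ZMod.algebra F p
    have hsurj := nu_surj D hF hK hq h5 h8 p
    obtain ⟨CB, hRB, hCB1, hCB2, hCB3⟩ := relB_S hG hF hK hq h5 p hsurj
    obtain ⟨x4, hx4⟩ := word (xM CB.t4)
    obtain ⟨x6, hx6⟩ := word (xM CB.t6)
    obtain ⟨x7, hx7⟩ := word (xM CB.t7)
    obtain ⟨x8, hx8⟩ := word (xM CB.t8)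
    have hWB : OkB D.bK CB ⟨x4, x6, x7, x8⟩ := ⟨hx4, hx6, hx7, hx8⟩
    refine ⟨a, b, c, relsAll p q Lsl az CB ⟨x4, x6, x7, x8⟩ CO ⟨rc, r1, r2⟩, ?_, hgen,
      hrelG p CB _ hWB hRB,
      hcard_generic hG hF hK hq h5 p hsurj US CB CO hCB1 hCB2 hCB3 hMod hγ Lsl az haz hLhom _ _
        hWB hWO, hc1, hc2⟩
    simp only [relsAll, relsM, relsB, relsO, List.length_append, List.length_map, List.length_cons,
      List.length_nil]
    omega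

end FIN2

end Cfsg.Agent.Lib.Helper19.U3P
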