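import Cfsg.Agent.Lib.Helper19.U3P.Defs
import Cfsg.Agent.Lib.helper7.SLPP1

/-!
# U3P FIN6 (core): `PSU₃(q)` has a presentation with 3 generators and at most 24 relators.
Hypotheses: the conclusion of FIN4 (`su3_list`) and the statement of P3 (`pres_hom_hom`) at
`S = SU₃(q)`; `pres_of_card` (SLP P1) is cited from main.
-/

set_option autoImplicit false

namespace Cfsg.Agent.Lib.Helper19.U3P

open Cfsg.Agent.Lib.helper17.SLP

universe u v

theorem u3pfin6_ev_map {G : Type u} {H : Type v} [Group G] [Group H] (φ : G →* H) (a b c : G)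
    (r : FreeGroup (Fin 3)) : φ (ev a b c r) = ev (φ a) (φ b) (φ c) r := by
  have h : φ.comp (ev a b c) = ev (φ a) (φ b) (φ c) := by
    apply FreeGroup.ext_hom
    intro i
    fin_cases i <;> simp [ev]
  exact DFunLike.congr_fun h r

theorem u3pfin6_gen_map {G : Type u} {H : Type v} [Group G] [Group H] (φ : G →* H)
    (hφ : Function.Surjective φ) (a b c : G) (h : Subgroup.closure {a, b, c} = ⊤) :
    Subgroup.closure {φ a, φ b, φ c} = ⊤ := by
  have h1 := congrArg (Subgroup.map φ) h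
  rw [MonoidHom.map_closure, Subgroup.map_top_of_surjective φ hφ] at h1
  rw [← h1]
  congr 1
  simp only [Set.image_insert_eq, Set.image_singleton]

section FIN2

variable {F : Type u} [Field F] [Fintype F] {q : ℕ}

theorem u3pfin6_core
    (hFIN4 : ∃ (a b c : ↥(Cfsg.SU 3 F q)) (L : List (FreeGroup (Fin 3))), L.length ≤ 22 ∧
      Subgroup.closure {a, b, c} = ⊤ ∧ (∀ r ∈ L, ev a b c r = 1) ∧
      (∀ (G : Type) [Group G] (u h w : G) (π : G →* ↥(Cfsg.SU 3 F q)), π u = a → π h = b →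
        π w = c → Subgroup.closure {u, h, w} = ⊤ → (∀ r ∈ L, ev u h w r = 1) →
        Finite G ∧ Nat.card G ≤ Nat.card ↥(Cfsg.SU 3 F q)) ∧
      b ^ ((q ^ 2 - 1) / Nat.gcd 3 (q + 1)) ∈ Subgroup.center ↥(Cfsg.SU 3 F q) ∧
      Subgroup.center ↥(Cfsg.SU 3 F q) ≤
        Subgroup.zpowers (b ^ ((q ^ 2 - 1) / Nat.gcd 3 (q + 1))))
    (hP3 : ∀ (L : List (FreeGroup (Fin 3))) (a b c : ↥(Cfsg.SU 3 F q)),
      Subgroup.closure {a, b, c} = ⊤ → (∀ r ∈ L, ev a b c r = 1) →
      (∀ (G : Type) [Group G] (u h w : G) (π : G →* ↥(Cfsg.SU 3 F q)), π u = a → π h = b →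
        π w = c → Subgroup.closure {u, h, w} = ⊤ → (∀ r ∈ L, ev u h w r = 1) →
        Finite G ∧ Nat.card G ≤ Nat.card ↥(Cfsg.SU 3 F q)) →
      ∀ (G : Type) [Group G] (u h w : G), (∀ r ∈ L, ev u h w r = 1) →
        ∃ ψ : ↥(Cfsg.SU 3 F q) →* G, ψ a = u ∧ ψ b = h ∧ ψ c = w) :
    ∃ rels : Finset (FreeGroup (Fin 3)), rels.card ≤ 24 ∧
      Nonempty (PresentedGroup (↑rels : Set (FreeGroup (Fin 3))) ≃* Cfsg.PSU 3 F q) := by
  classical
  obtain ⟨a, b, c, L, hLlen, hgen, hrel, hcard, hbn, hcen⟩ := hFIN4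
  set n := (q ^ 2 - 1) / Nat.gcd 3 (q + 1) with hn
  let mk : ↥(Cfsg.SU 3 F q) →* Cfsg.PSU 3 F q :=
    QuotientGroup.mk' (Subgroup.center ↥(Cfsg.SU 3 F q))
  have hmk : Function.Surjective mk := QuotientGroup.mk'_surjective _
  have hfinS : Finite ↥(Cfsg.SU 3 F q) := inferInstance
  have hfinP : Finite (Cfsg.PSU 3 F q) := Finite.of_surjective mk hmk
  refine ⟨(L ++ [gH ^ n]).toFinset, ?_, ?_⟩
  · calc (L ++ [gH ^ n]).toFinset.card ≤ (L ++ [gH ^ n]).length := List.toFinset_card_le _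
      _ = L.length + 1 := by rw [List.length_append]; rfl
      _ ≤ 24 := by omega
  · apply pres_of_card (L ++ [gH ^ n]) (mk a) (mk b) (mk c) (u3pfin6_gen_map mk hmk a b c hgen)
    · intro r hr
      rw [List.mem_append] at hr
      rcases hr with hr | hr
      · rw [← u3pfin6_ev_map, hrel r hr, map_one]
      · rw [List.mem_singleton] at hr
        rw [hr, map_pow, ev_gH, ← map_pow]
        exact (QuotientGroup.eq_one_iff _).mpr hbn
    · intro G _ u h w hgenG hrelG
      have hrelL : ∀ r ∈ L, ev u h w r = 1 := fun r hr => hrelG r (List.mem_append_left _ hr)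
      have hhn : h ^ n = 1 := by
        have h1 := hrelG (gH ^ n) (List.mem_append_right _ (List.mem_singleton.mpr rfl))
        rwa [map_pow, ev_gH] at h1
      obtain ⟨ψ, hψa, hψb, hψc⟩ := hP3 L a b c hgen hrel hcard G u h w hrelL
      have hψsurj : Function.Surjective ψ := by
        rw [← MonoidHom.range_eq_top, eq_top_iff, ← hgenG, Subgroup.closure_le]
        intro x hx
        simp only [Set.mem_insert_iff, Set.mem_singleton_iff] at hx
        rcases hx with rfl | rfl | rfl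
        · exact ⟨a, hψa⟩
        · exact ⟨b, hψb⟩
        · exact ⟨c, hψc⟩
      have hker : Subgroup.center ↥(Cfsg.SU 3 F q) ≤ ψ.ker := by
        refine hcen.trans ?_
        rw [Subgroup.zpowers_le, MonoidHom.mem_ker, map_pow, hψb, hhn]
      let ψq : Cfsg.PSU 3 F q →* G :=
        QuotientGroup.lift (Subgroup.center ↥(Cfsg.SU 3 F q)) ψ hker
      have hψq : Function.Surjective ψq := by
        intro g
        obtain ⟨s, rfl⟩ := hψsurj g
        exact ⟨mk s, QuotientGroup.lift_mk _ _ _⟩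
      exact ⟨Finite.of_surjective ψq hψq, Nat.card_le_card_of_surjective ψq hψq⟩

end FIN2

end Cfsg.Agent.Lib.Helper19.U3P
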