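import Mathlib
import Cfsg.Agent.Lib.Helper19.U3P.Defs
import Cfsg.Agent.Lib.Helper25.U3PFIN6core
import Cfsg.Agent.Lib.Helper25.U3PFIN4
import Cfsg.Agent.Lib.Helper18.U3PP2

/-!
# Project U3P (designer helper19), row FIN6 (helper25): `psu3_pres`, verbatim (wrapper of `u3pfin6_core`)
-/

set_option autoImplicit false

namespace Cfsg.Agent.Lib.Helper19.U3P

open Cfsg.Agent.Lib.helper17.SLP Cfsg.Agent.Lib.helper14.SU3J Cfsg.Agent.Lib.Helper25.SU3P
open Polynomial Matrix

universe u v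

section FIN2

variable {F : Type u} [Field F] [Fintype F] {q : ℕ}

theorem psu3_pres (hF : Fintype.card F = q ^ 2) (hq : 4 ≤ q) (h5 : q ≠ 5) :
    ∃ rels : Finset (FreeGroup (Fin 3)), rels.card ≤ 24 ∧
      Nonempty (PresentedGroup (↑rels : Set (FreeGroup (Fin 3))) ≃* Cfsg.PSU 3 F q) :=
  u3pfin6_core (su3_list hF hq h5)
    (fun L a b c hgen hrel hcard G _ u h w hL => pres_hom_hom L a b c hgen hrel hcard G u h w hL)

end FIN2

end Cfsg.Agent.Lib.Helper19.U3P
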