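import Cfsg.Agent.Lib.helper15.SLM.Defs

set_option autoImplicit false
set_option linter.unusedSectionVars false
set_option linter.unusedVariables false

/-! Project SLM (S2332), piece A1: basic properties of the Fourier idempotents `eIdem`. -/

namespace Cfsg.Agent.Lib.helper15.SLM

open Matrix

section A

variable {F : Type*} [Field F] [Fintype F] [DecidableEq F]
  {κ : Type*} [Fintype κ] [DecidableEq κ]
  {H : Type*} [Group H] {W : Type*} [AddCommGroup W] [Module ℂ W] [FiniteDimensional ℂ W]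

theorem h25_card_ne_zero : ((Fintype.card (κ → F) : ℕ) : ℂ) ≠ 0 := by
  exact_mod_cast Fintype.card_ne_zero

theorem h25_xi_zero (ξ : (κ → F) → H) (hξ : ∀ u u', ξ (u + u') = ξ u * ξ u') : ξ 0 = 1 := by
  have h := hξ 0 0
  rw [add_zero] at h
  exact (mul_eq_left.1 h.symm)

theorem h25_sigma_add (σ : Representation ℂ H W) (ξ : (κ → F) → H)
    (hξ : ∀ u u', ξ (u + u') = ξ u * ξ u') (v w : κ → F) :
    (fun u => σ (ξ u)) (v + w) = (fun u => σ (ξ u)) v * (fun u => σ (ξ u)) w := by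
  show σ (ξ (v + w)) = σ (ξ v) * σ (ξ w)
  rw [hξ, map_mul]

/-- A1 -/
theorem trace_eIdem (χ₀ : AddChar F ℂ) (σ : Representation ℂ H W) (ξ : (κ → F) → H) (w : κ → F) :
    LinearMap.trace ℂ W (eIdem χ₀ σ ξ w) =
      ((Fintype.card (κ → F) : ℂ))⁻¹ * ∑ u : κ → F, χ₀ (-(w ⬝ᵥ u)) * σ.character (ξ u) := by
  unfold eIdem Cfsg.Agent.Lib.helper15.FourierIdem.idem
  rw [map_smul, map_sum, smul_eq_mul]
  congr 1
  refine Finset.sum_congr rfl fun u _ => ?_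
  rw [map_smul, smul_eq_mul]
  rfl

/-- A2 -/
theorem eIdem_mul_self (χ₀ : AddChar F ℂ) (hχ₀ : χ₀.IsPrimitive) (σ : Representation ℂ H W)
    (ξ : (κ → F) → H) (hξ : ∀ u u', ξ (u + u') = ξ u * ξ u') (w w' : κ → F) :
    eIdem χ₀ σ ξ w * eIdem χ₀ σ ξ w' = if w = w' then eIdem χ₀ σ ξ w' else 0 := by
  unfold eIdem
  exact Cfsg.Agent.Lib.helper15.FourierIdem.idem_mul_idem χ₀ hχ₀ (fun u => σ (ξ u))
    h25_card_ne_zero (h25_sigma_add σ ξ hξ) w w'

theorem sum_eIdem (χ₀ : AddChar F ℂ) (hχ₀ : χ₀.IsPrimitive) (σ : Representation ℂ H W)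
    (ξ : (κ → F) → H) (hξ : ∀ u u', ξ (u + u') = ξ u * ξ u') :
    ∑ w : κ → F, eIdem χ₀ σ ξ w = 1 := by
  unfold eIdem
  refine Cfsg.Agent.Lib.helper15.FourierIdem.sum_idem χ₀ hχ₀ (fun u => σ (ξ u))
    h25_card_ne_zero ?_
  show σ (ξ 0) = 1
  rw [h25_xi_zero ξ hξ, map_one]

theorem h25_trace_idem (e : Module.End ℂ W) (he : e * e = e) :
    LinearMap.trace ℂ W e = (Module.finrank ℂ (LinearMap.range e) : ℂ) := by
  have hproj : LinearMap.IsProj (LinearMap.range e) e := by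
    refine ⟨fun x => LinearMap.mem_range_self e x, ?_⟩
    rintro x ⟨y, rfl⟩
    show (e * e) y = e y
    rw [he]
  exact hproj.trace

theorem trace_eIdem_eq_finrank (χ₀ : AddChar F ℂ) (hχ₀ : χ₀.IsPrimitive)
    (σ : Representation ℂ H W) (ξ : (κ → F) → H) (hξ : ∀ u u', ξ (u + u') = ξ u * ξ u')
    (w : κ → F) :
    LinearMap.trace ℂ W (eIdem χ₀ σ ξ w) =
      (Module.finrank ℂ (LinearMap.range (eIdem χ₀ σ ξ w)) : ℂ) := by
  apply h25_trace_idem
  rw [eIdem_mul_self χ₀ hχ₀ σ ξ hξ, if_pos rfl]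

/-- `σ (ξ u) * e_w = χ₀ (w · u) e_w` -/
theorem h25_xi_mul_eIdem (χ₀ : AddChar F ℂ) (σ : Representation ℂ H W)
    (ξ : (κ → F) → H) (hξ : ∀ u u', ξ (u + u') = ξ u * ξ u') (u w : κ → F) :
    σ (ξ u) * eIdem χ₀ σ ξ w = χ₀ (w ⬝ᵥ u) • eIdem χ₀ σ ξ w := by
  unfold eIdem
  exact Cfsg.Agent.Lib.helper15.FourierIdem.r_mul_idem χ₀ (fun u => σ (ξ u))
    (h25_sigma_add σ ξ hξ) u w

/-- A3 -/
theorem range_eIdem_zero (χ₀ : AddChar F ℂ) (σ : Representation ℂ H W)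
    (ξ : (κ → F) → H) (hξ : ∀ u u', ξ (u + u') = ξ u * ξ u') :
    LinearMap.range (eIdem χ₀ σ ξ 0) = fixSp σ ξ := by
  apply le_antisymm
  · rintro x ⟨y, rfl⟩
    intro u
    have h := h25_xi_mul_eIdem χ₀ σ ξ hξ u 0
    rw [zero_dotProduct, AddChar.map_zero_eq_one, one_smul] at h
    have h2 := LinearMap.congr_fun h y
    exact h2
  · intro v hv
    refine ⟨v, ?_⟩
    unfold eIdem Cfsg.Agent.Lib.helper15.FourierIdem.idem
    rw [LinearMap.smul_apply, LinearMap.sum_apply]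
    have h1 : ∀ u : κ → F, (χ₀ (-((0 : κ → F) ⬝ᵥ u)) • σ (ξ u)) v = v := by
      intro u
      rw [zero_dotProduct, neg_zero, AddChar.map_zero_eq_one, one_smul]
      exact hv u
    rw [Finset.sum_congr rfl fun u _ => h1 u, Finset.sum_const, Finset.card_univ,
      ← Nat.cast_smul_eq_nsmul ℂ, smul_smul, inv_mul_cancel₀ h25_card_ne_zero, one_smul]

end A

end Cfsg.Agent.Lib.helper15.SLM
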