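import Mathlib
import Cfsg.Agent.Lib.helper3.SPM.Defs
import Cfsg.Agent.Lib.helper3.SPM.Defs2

/-!
# Project SPM (designer helper3, S2292/S2296), row E3 (helper25), VERBATIM: `lamC_congr`, `lamC_congr1`

Self-contained: own-name copies `spme3_lamC_apply` (E1) and `spme3_stab01_full` (E2).
-/

set_option autoImplicit false

namespace Cfsg.Agent.Lib.helper3.SPM

open Cfsg.Agent.Lib.helper3.STC Cfsg.Agent.Lib.helper3.STC.Mat Cfsg.Agent.Lib.helper17.SLP

universe u v w v'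

section main
variable {F : Type u} [Field F] {ι : Type w} [Fintype ι] [DecidableEq ι] {G : Type v} [Group G]
  (p : Pts ι) (ν : Equiv.Perm ι →* G) (lam : Sp4 F →* G)

omit [Fintype ι] in
/-- own-name copy of E1 `lamC_apply` -/
theorem spme3_lamC_apply (σ : Equiv.Perm ι) (g : Sp4 F) : lamC ν lam σ g = ν σ * lam g * (ν σ)⁻¹ := rfl

variable {p ν lam}

omit [Fintype ι] in
/-- a permutation fixing `o0` and `o1` commutes with the transposition `(o0 o1)` -/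
theorem spme3_comm_swap {σ : Equiv.Perm ι} (h0 : σ p.o0 = p.o0) (h1 : σ p.o1 = p.o1) :
    σ * Equiv.swap p.o0 p.o1 = Equiv.swap p.o0 p.o1 * σ := by
  have := Equiv.swap_mul_eq_mul_swap (f := σ) (x := p.o0) (y := p.o1)
  -- `swap x y * f = f * swap (f⁻¹ x) (f⁻¹ y)`
  have e0 : σ⁻¹ p.o0 = p.o0 := by rw [Equiv.Perm.inv_eq_iff_eq]; exact h0.symm
  have e1 : σ⁻¹ p.o1 = p.o1 := by rw [Equiv.Perm.inv_eq_iff_eq]; exact h1.symm
  rw [e0, e1] at this
  exact this.symm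

/-- own-name copy of E2 `stab01_full` -/
theorem spme3_stab01_full (H : Glue p ν lam) (hS : SpFacts F) {σ : Equiv.Perm ι} (h0 : σ p.o0 = p.o0) (h1 : σ p.o1 = p.o1)
    (g : Sp4 F) : ν σ * lam g * (ν σ)⁻¹ = lam g := by
  -- the subgroup of the `g` centralised by `ν σ`
  let C : Subgroup (Sp4 F) :=
    { carrier := {g | ν σ * lam g * (ν σ)⁻¹ = lam g}
      one_mem' := by
        show ν σ * lam 1 * (ν σ)⁻¹ = lam 1
        rw [map_one, mul_one, mul_inv_cancel]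
      mul_mem' := by
        intro a b ha hb
        show ν σ * lam (a * b) * (ν σ)⁻¹ = lam (a * b)
        have ha' : ν σ * lam a * (ν σ)⁻¹ = lam a := ha
        have hb' : ν σ * lam b * (ν σ)⁻¹ = lam b := hb
        rw [map_mul]
        calc ν σ * (lam a * lam b) * (ν σ)⁻¹
            = (ν σ * lam a * (ν σ)⁻¹) * (ν σ * lam b * (ν σ)⁻¹) := by group
          _ = lam a * lam b := by rw [ha', hb']
      inv_mem' := by
        intro a ha
        show ν σ * lam a⁻¹ * (ν σ)⁻¹ = lam a⁻¹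
        have ha' : ν σ * lam a * (ν σ)⁻¹ = lam a := ha
        rw [map_inv]
        calc ν σ * (lam a)⁻¹ * (ν σ)⁻¹ = (ν σ * lam a * (ν σ)⁻¹)⁻¹ := by group
          _ = (lam a)⁻¹ := by rw [ha'] }
  have hsw : swS ∈ C := by
    show ν σ * lam swS * (ν σ)⁻¹ = lam swS
    rw [← H.sw, ← map_mul, spme3_comm_swap h0 h1, map_mul, mul_inv_cancel_right]
  have hle : Subgroup.closure ({uA F, swS} ∪ (B1 F : Set (Sp4 F))) ≤ C := by
    rw [Subgroup.closure_le]
    rintro x (hx | hx)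
    · rcases hx with rfl | hx
      · exact H.stab01 σ h0 h1
      · rw [Set.mem_singleton_iff] at hx
        subst hx
        exact hsw
    · exact H.stab1 σ h1 x hx
  rw [hS.gen4] at hle
  exact hle (Subgroup.mem_top g)

variable (p ν lam)

/-- E3 [S-M]  `τ⁻¹ * σ` fixes `o0 o1` (resp. `o1`); `stab01_full` (resp. `H.stab1`); cf. SLN `phiC_congr`. -/
theorem lamC_congr (H : Glue p ν lam) (hS : SpFacts F) {σ τ : Equiv.Perm ι} (h0 : σ p.o0 = τ p.o0) (h1 : σ p.o1 = τ p.o1) (g : Sp4 F) :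
    lamC ν lam σ g = lamC ν lam τ g := by
  have e0 : (τ⁻¹ * σ) p.o0 = p.o0 := by
    rw [Equiv.Perm.mul_apply, h0]; exact τ.symm_apply_apply _
  have e1 : (τ⁻¹ * σ) p.o1 = p.o1 := by
    rw [Equiv.Perm.mul_apply, h1]; exact τ.symm_apply_apply _
  have hfix := spme3_stab01_full H hS e0 e1 g
  have hσ : σ = τ * (τ⁻¹ * σ) := by group
  rw [spme3_lamC_apply, spme3_lamC_apply]
  conv_lhs => rw [hσ, map_mul]
  calc ν τ * ν (τ⁻¹ * σ) * lam g * (ν τ * ν (τ⁻¹ * σ))⁻¹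
      = ν τ * (ν (τ⁻¹ * σ) * lam g * (ν (τ⁻¹ * σ))⁻¹) * (ν τ)⁻¹ := by group
    _ = ν τ * lam g * (ν τ)⁻¹ := by rw [hfix]

theorem lamC_congr1 (H : Glue p ν lam) {σ τ : Equiv.Perm ι} (h1 : σ p.o1 = τ p.o1) {g : Sp4 F} (hg : g ∈ B1 F) :
    lamC ν lam σ g = lamC ν lam τ g := by
  have e1 : (τ⁻¹ * σ) p.o1 = p.o1 := by
    rw [Equiv.Perm.mul_apply, h1]; exact τ.symm_apply_apply _
  have hfix := H.stab1 (τ⁻¹ * σ) e1 g hg
  have hσ : σ = τ * (τ⁻¹ * σ) := by group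
  rw [spme3_lamC_apply, spme3_lamC_apply]
  conv_lhs => rw [hσ, map_mul]
  calc ν τ * ν (τ⁻¹ * σ) * lam g * (ν τ * ν (τ⁻¹ * σ))⁻¹
      = ν τ * (ν (τ⁻¹ * σ) * lam g * (ν (τ⁻¹ * σ))⁻¹) * (ν τ)⁻¹ := by group
    _ = ν τ * lam g * (ν τ)⁻¹ := by rw [hfix]

end main

end Cfsg.Agent.Lib.helper3.SPM
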