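import Mathlib
import Cfsg.Agent.Lib.helper3.SPM.Defs
import Cfsg.Agent.Lib.helper3.SPM.Defs2
import Cfsg.Agent.Lib.Helper24.STCI1
import Cfsg.Agent.Lib.Helper20.SPMA1
import Cfsg.Agent.Lib.Helper25.SPME3

/-!
# Project SPM (designer helper3, S2292/S2296), row E6 (helper25), VERBATIM: `xr_pair_long`

On A1 (`Helper20.SPMA1`: `sig2_o0 sig2_o1`) and E3 (`Helper25.SPME3`: `lamC_congr1`); own-name copy `spme6_lamC_swap` of E4.
-/

set_option autoImplicit false

namespace Cfsg.Agent.Lib.helper3.SPM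

open Cfsg.Agent.Lib.helper3.STC Cfsg.Agent.Lib.helper3.STC.Mat Cfsg.Agent.Lib.helper17.SLP

universe u v w v'

section main
variable {F : Type u} [Field F] {ι : Type w} [Fintype ι] [DecidableEq ι] {G : Type v} [Group G]
  (p : Pts ι) (ν : Equiv.Perm ι →* G) (lam : Sp4 F →* G)

/-- own-name copy of E4 `lamC_swap` -/
theorem spme6_lamC_swap (H : Glue p ν lam) (σ : Equiv.Perm ι) (g : Sp4 F) :
    lamC ν lam (σ * Equiv.swap p.o0 p.o1) g = lamC ν lam σ (swS * g * (swS : Sp4 F)⁻¹) := by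
  rw [spme3_lamC_apply, spme3_lamC_apply, map_mul, H.sw, map_mul, map_mul, map_inv]
  group

/-- the long root elements on the index `1` of `Sp₄` lie in `B1` -/
theorem spme6_mem_B1 (a' : Fin 2 ⊕ Fin 2) (ha : ab a' = 1) (t : F) : tm a' (ng a') t ∈ B1 F := by
  unfold B1 SysC.XQ
  apply Subgroup.subset_closure
  exact ⟨a', ng a', t, ne_ng a', ⟨ha, by rw [ab_ng]; exact ha⟩, rfl⟩

/-- E6 [M]  the long root elements of a pair. -/
theorem xr_pair_long (H : Glue p ν lam) (hS : SpFacts F) {i j : ι} (hij : i ≠ j) (a' : Fin 2 ⊕ Fin 2) (t : F) :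
    lamP p ν lam i j (tm a' (ng a') t) = xr p ν lam (pe2 i j a') (ng (pe2 i j a')) t := by
  have hne : pe2 i j a' ≠ ng (pe2 i j a') := ne_ng _
  have hab : ab (pe2 i j a') = ab (ng (pe2 i j a')) := (ab_ng _).symm
  unfold xr
  rw [if_neg hne, if_pos hab]
  unfold lamP
  -- the case of the index `1`
  have case1 : ∀ b' : Fin 2 ⊕ Fin 2, ab b' = 1 →
      lamC ν lam (sig2 p i j) (tm b' (ng b') t) = lamC ν lam (Equiv.swap p.o1 j) (tm b' (ng b') t) := by
    intro b' hb'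
    apply lamC_congr1 p ν lam H _ (spme6_mem_B1 b' hb' t)
    rw [sig2_o1 p hij, Equiv.swap_apply_left]
  -- the case of the index `0`
  have case0 : ∀ b' : Fin 2 ⊕ Fin 2, ab b' = 1 →
      lamC ν lam (sig2 p i j) (swS * tm b' (ng b') t * (swS : Sp4 F)⁻¹) =
        lamC ν lam (Equiv.swap p.o1 i) (tm b' (ng b') t) := by
    intro b' hb'
    rw [← spme6_lamC_swap p ν lam H]
    apply lamC_congr1 p ν lam H _ (spme6_mem_B1 b' hb' t)
    rw [Equiv.Perm.mul_apply, Equiv.swap_apply_right, sig2_o0 p hij, Equiv.swap_apply_left]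
  have hsw01 : (Equiv.swap (0 : Fin 2) 1) 1 = 0 := Equiv.swap_apply_right _ _
  rcases a' with k | k
  · fin_cases k
    · -- `a' = inl 0`
      have e := hS.sw_tm (Sum.inl 1) (Sum.inr 1) t (by simp)
      have e' : swS * tm (Sum.inl (1 : Fin 2)) (Sum.inr 1) t * (swS : Sp4 F)⁻¹ =
          tm (Sum.inl (0 : Fin 2)) (Sum.inr 0) t := by
        rw [e]
        show tm (Sum.inl ((Equiv.swap (0 : Fin 2) 1) 1)) (Sum.inr ((Equiv.swap (0 : Fin 2) 1) 1)) t = _
        rw [hsw01]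
      have h0 : lamC ν lam (sig2 p i j) (swS * tm (Sum.inl (1 : Fin 2)) (Sum.inr 1) t * (swS : Sp4 F)⁻¹) =
          lamC ν lam (Equiv.swap p.o1 i) (tm (Sum.inl (1 : Fin 2)) (Sum.inr 1) t) := case0 (Sum.inl 1) rfl
      rw [e'] at h0
      exact h0
    · -- `a' = inl 1`
      exact case1 (Sum.inl 1) rfl
  · fin_cases k
    · -- `a' = inr 0`
      have e := hS.sw_tm (Sum.inr 1) (Sum.inl 1) t (by simp)
      have e' : swS * tm (Sum.inr (1 : Fin 2)) (Sum.inl 1) t * (swS : Sp4 F)⁻¹ =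
          tm (Sum.inr (0 : Fin 2)) (Sum.inl 0) t := by
        rw [e]
        show tm (Sum.inr ((Equiv.swap (0 : Fin 2) 1) 1)) (Sum.inl ((Equiv.swap (0 : Fin 2) 1) 1)) t = _
        rw [hsw01]
      have h0 : lamC ν lam (sig2 p i j) (swS * tm (Sum.inr (1 : Fin 2)) (Sum.inl 1) t * (swS : Sp4 F)⁻¹) =
          lamC ν lam (Equiv.swap p.o1 i) (tm (Sum.inr (1 : Fin 2)) (Sum.inl 1) t) := case0 (Sum.inr 1) rfl
      rw [e'] at h0
      exact h0
    · -- `a' = inr 1`
      exact case1 (Sum.inr 1) rfl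

end main

end Cfsg.Agent.Lib.helper3.SPM
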