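import Mathlib
import Cfsg.Prelude.Def_LieTypeChar
import Cfsg.Agent.Lib.helper14.SQD.Defs
import Cfsg.Agent.Lib.helper14.SQD.DefsU

/-!
Project SQD = S4625, row UE2 (`pev_gram`): `Pᵀ * P^τ = [[0, 1], [1, 0]]` for `P = pevU a`, `a ^ q + a = 1`.
-/

set_option autoImplicit false

namespace Cfsg.Agent.Lib.helper14.SQD

open Cfsg Cfsg.Lie Matrix

/-- helper for UE2: `frobE F e x = x ^ 2 ^ e`. -/
theorem sqdue2_frobE_apply {F : Type} [Field F] [CharP F 2] (e : ℕ) (x : F) :
    frobE F e x = x ^ 2 ^ e := by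
  simp [frobE, iterateFrobenius_def]

section UE
variable {F : Type} [Field F] [Fintype F] [CharP F 2] (e : ℕ) {k : ℕ}

/-- UE2 [E-M]. `Pᵀ * P^τ = [[0, 1], [1, 0]]` for `P = pevU a`, `a ^ q + a = 1` (`Matrix.fromBlocks_multiply`,
`Matrix.fromBlocks_transpose`, `Matrix.fromBlocks_map`; `(a + 1) ^ q = a ^ q + 1`). -/
theorem pev_gram (a : F) (ha : a ^ 2 ^ e + a = 1) :
    ((pevU a : GL (Fin k ⊕ Fin k) F) : Matrix (Fin k ⊕ Fin k) (Fin k ⊕ Fin k) F)ᵀ *
      ((pevU a : GL (Fin k ⊕ Fin k) F) : Matrix (Fin k ⊕ Fin k) (Fin k ⊕ Fin k) F).map (frobE F e) =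
      Matrix.fromBlocks 0 1 1 0 := by
  have h2 : (2 : F) = 0 := CharTwo.two_eq_zero
  have hfa : frobE F e a = a ^ 2 ^ e := sqdue2_frobE_apply e a
  have hfa1 : frobE F e (a + 1) = a ^ 2 ^ e + 1 := by
    rw [map_add, map_one, hfa]
  rw [pevU_coe, Matrix.fromBlocks_transpose, Matrix.fromBlocks_map, Matrix.fromBlocks_multiply]
  congr 1
  · ext i j
    by_cases hij : i = j
    · subst hij
      simp
      linear_combination h2
    · simp [Matrix.one_apply_ne hij]
  · ext i j
    by_cases hij : i = j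
    · subst hij
      simp [hfa, hfa1]
      linear_combination (a ^ 2 ^ e) * h2
    · simp [Matrix.one_apply_ne hij]
  · ext i j
    by_cases hij : i = j
    · subst hij
      simp
      linear_combination a * h2
    · simp [Matrix.one_apply_ne hij]
  · ext i j
    by_cases hij : i = j
    · subst hij
      simp [hfa, hfa1]
      linear_combination (a * a ^ 2 ^ e) * h2 + ha + h2
    · simp [Matrix.one_apply_ne hij]

end UE

end Cfsg.Agent.Lib.helper14.SQD
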