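import Mathlib
import Cfsg.Agent.Lib.Helper19.SU5.Defs

/-!
# SU5 (designer helper19), row T4 core: `HypU → HypT` for the pair `(φa, phiL P φb)`, with the statements of
T1 (`tor_commU`), T2 (`act_abU`), T3 (`wa_hbU`, first half) as hypotheses.  The needed part of T0 is proved here (`su5t4_rh`).
-/

set_option autoImplicit false

namespace Cfsg.Agent.Lib.Helper19.SU5

open Cfsg.Agent.Lib.helper17.SLP Cfsg.Agent.Lib.helper3.SP4 Cfsg.Agent.Lib.Helper22.SU4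
open Cfsg.Agent.Lib.Helper27.STU (Lam XpM XmM XpS XmS SUm XpU XmU)

universe u v

section T

variable {F : Type u} {K : Type u} [Field F] [Field K] [StarRing F] {D : Tw F K}
  {G : Type v} [Group G]

theorem su5t4_rh (P : RO D) (φb : ↥(SUm F True) →* G) (r : Kˣ) :
    rh (phiL P φb) r = hbF P φb (D.ιu r) := by
  unfold rh phiL hbF
  rw [MonoidHom.comp_apply, P.ιL_h]

theorem su5t4_hbF_inv (P : RO D) (φb : ↥(SUm F True) →* G) (r : Fˣ) :
    hbF P φb r⁻¹ = (hbF P φb r)⁻¹ := by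
  unfold hbF
  rw [map_inv, map_inv]

theorem su5t4_core (P : RO D) (φa : Matrix.SpecialLinearGroup (Fin 2) F →* G) (φb : ↥(SUm F True) →* G)
    (H : HypU P φa φb)
    (h1 : ∀ s r : Fˣ, Commute (rh φa s) (hbF P φb r))
    (h2 : ∀ r : Fˣ, Act (hbF P φb r) (rx φa) ((r⁻¹ : Fˣ) : F))
    (h3 : ∀ r : Fˣ, rn φa * hbF P φb r * (rn φa)⁻¹ = rh φa r * hbF P φb r) :
    HypT D P.ζ P.ζ₀ φa (phiL P φb) where
  T1 := by
    rw [su5t4_rh]
    exact h1 _ _
  T2 := by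
    rw [su5t4_rh]
    have h := h2 (D.ιu P.ζ₀)⁻¹ 1
    rw [su5t4_hbF_inv, inv_inv, inv_inv, mul_one, D.ιu_coe] at h
    exact h
  T3 := H.T3
  N4 := by
    rw [su5t4_rh, h3]
    exact (h1 _ _).eq
  N5 := H.N5
  N6 := H.N6
  W7 := H.W7
  W8 := H.W8
  C9 := H.C9
  C10 := H.C10
  C10b := H.C10b
  C11 := H.C11
  C12 := H.C12

end T

end Cfsg.Agent.Lib.Helper19.SU5
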