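import Mathlib
import Cfsg.Agent.Lib.Helper19.SU5.Defs
import Cfsg.Agent.Lib.Helper25.SU5T4core
import Cfsg.Agent.Lib.helper8.SU5T1

/-!
# SU5 (designer helper19), row T4 `hypT_of_hypU`, verbatim (helper25): `su5t4_core` + helper8's T1–T3.
-/

set_option autoImplicit false

namespace Cfsg.Agent.Lib.Helper19.SU5

open Cfsg.Agent.Lib.helper17.SLP Cfsg.Agent.Lib.helper3.SP4 Cfsg.Agent.Lib.Helper22.SU4
open Cfsg.Agent.Lib.Helper27.STU (Lam XpM XmM XpS XmS SUm XpU XmU)

universe u v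

section T

variable {F : Type u} {K : Type u} [Field F] [Field K] [StarRing F] [Fintype F] [Fintype K] {D : Tw F K}
  {G : Type v} [Group G]

/-- T4 [M]  deps T0–T3.  `HypT` for the pair `(φa, φb')`, `φb' = phiL P φb`. -/
theorem hypT_of_hypU (P : RO D) (φa : Matrix.SpecialLinearGroup (Fin 2) F →* G) (φb : ↥(SUm F True) →* G)
    (H : HypU P φa φb) : HypT D P.ζ P.ζ₀ φa (phiL P φb) :=
  su5t4_core P φa φb H (tor_commU P φa φb H) (act_abU P φa φb H) (wa_hbU P φa φb H).1

end T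

end Cfsg.Agent.Lib.Helper19.SU5
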