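import Mathlib
import Cfsg.Agent.Lib.Helper28.T9.Defs

/-!
# Project T9 (S5559), piece LA2 : `sum_fixed`

In characteristic 2, for commuting `x y` with `x³ = y³ = 1`, every vector is a sum of vectors fixed
by `x`, `y`, `x*y`, `x*y*y` respectively:
`1 = e_R + e_⟨x⟩ + e_⟨y⟩ + e_⟨xy⟩ + e_⟨xy²⟩` where `e_K = ∑_{k ∈ K} k`, `e_R = ∑ x^i y^j`.
-/

set_option autoImplicit false

namespace Cfsg.Agent.Lib.Helper28.T9

open Cfsg.Agent.Lib.Helper28.T9

universe u v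

section abstract

variable {X : Type u} [Group X] {V : Type v} [AddCommGroup V] [DistribMulAction X V] {E : Set X}

/-- the trace `v + g v + g² v` of an element with `g³ = 1` is fixed by `g` -/
theorem helper25_la2_fix (g : X) (hg : g ^ 3 = 1) (v : V) :
    g • (v + g • v + (g ^ 2) • v) = v + g • v + (g ^ 2) • v := by
  have h3 : g * g ^ 2 = 1 := by
    rw [← hg]
    group
  have h2 : g * g = g ^ 2 := (pow_two g).symm
  rw [smul_add, smul_add, ← mul_smul, ← mul_smul, h3, h2, one_smul]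
  abel

/-- PIECE LA2 : commuting `x y` with `x³ = y³ = 1`: every vector is a sum of vectors fixed by
`x`, `y`, `x*y`, `x*y*y` respectively.  (`e_K := ∑_{k ∈ K} k`; `1 = e_R + e_⟨x⟩ + e_⟨y⟩ + e_⟨xy⟩ +
e_⟨xy²⟩` in characteristic 2, where `e_R = ∑ x^i y^j`.) -/
theorem sum_fixed (two : ∀ v : V, v + v = 0) (x y : X) (hx : x ^ 3 = 1) (hy : y ^ 3 = 1)
    (hxy : x * y = y * x) (v : V) :
    ∃ v₁ v₂ v₃ v₄ : V, v = v₁ + v₂ + v₃ + v₄ ∧ x • v₁ = v₁ ∧ y • v₂ = v₂ ∧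
      (x * y) • v₃ = v₃ ∧ (x * y * y) • v₄ = v₄ := by
  have hc : Commute x y := hxy
  have hxy3 : (x * y) ^ 3 = 1 := by
    rw [hc.mul_pow, hx, hy, one_mul]
  have e0 : x * y * y = x * y ^ 2 := by
    rw [pow_two, mul_assoc]
  have hc2 : Commute x (y ^ 2) := hc.pow_right 2
  have hxyy3 : (x * y * y) ^ 3 = 1 := by
    rw [e0, hc2.mul_pow, hx, one_mul, ← pow_mul, pow_mul', hy, one_pow]
  have e1 : (x * y) ^ 2 = x ^ 2 * y ^ 2 := hc.mul_pow 2
  have e2 : (x * y * y) ^ 2 = x ^ 2 * y := by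
    rw [e0, hc2.mul_pow]
    have : (y ^ 2) ^ 2 = y := by
      calc (y ^ 2) ^ 2 = y ^ 3 * y := by group
        _ = y := by rw [hy, one_mul]
    rw [this]
  refine ⟨(y • v + (y ^ 2) • v) + x • (y • v + (y ^ 2) • v) + (x ^ 2) • (y • v + (y ^ 2) • v),
    v + y • v + (y ^ 2) • v, v + (x * y) • v + ((x * y) ^ 2) • v,
    v + (x * y * y) • v + ((x * y * y) ^ 2) • v, ?_, helper25_la2_fix x hx _,
    helper25_la2_fix y hy v, helper25_la2_fix (x * y) hxy3 v, helper25_la2_fix (x * y * y) hxyy3 v⟩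
  rw [e1, e2, e0]
  simp only [smul_add, ← mul_smul]
  obtain ⟨w, hw⟩ : ∃ w : V, w = v + y • v + (y ^ 2) • v + (x * y) • v + (x * y ^ 2) • v +
      (x ^ 2 * y) • v + (x ^ 2 * y ^ 2) • v := ⟨_, rfl⟩
  have e : y • v + (y ^ 2) • v + ((x * y) • v + (x * y ^ 2) • v) +
      ((x ^ 2 * y) • v + (x ^ 2 * y ^ 2) • v) + (v + y • v + (y ^ 2) • v) +
      (v + (x * y) • v + (x ^ 2 * y ^ 2) • v) + (v + (x * y ^ 2) • v + (x ^ 2 * y) • v) =
      v + (w + w) := by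
    rw [hw]
    abel
  rw [e, two w, add_zero]

end abstract

end Cfsg.Agent.Lib.Helper28.T9
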