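import Mathlib

set_option autoImplicit false

namespace Cfsg.Agent.Lib.Helper25.TT

variable {K : Type*} [Group K]

/-- In a group with `y^3 = (xy)^3 = (xy⁻¹)^3 = 1`, `x` commutes with `y⁻¹ x y`. -/
theorem b23_comm_conj (x y : K) (hy : y ^ 3 = 1) (hxy : (x * y) ^ 3 = 1)
    (hxy' : (x * y⁻¹) ^ 3 = 1) : x * (y⁻¹ * x * y) = (y⁻¹ * x * y) * x := by
  have hy3 : y * y * y = 1 := by rw [← pow_three']; exact hy
  have hyy : y * y = y⁻¹ := eq_inv_of_mul_eq_one_left hy3
  have hyyi : y⁻¹ * y⁻¹ = y := by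
    have : y⁻¹ * y⁻¹ = (y * y)⁻¹ := by group
    rw [this, hyy, inv_inv]
  have hA : x * y * x = y⁻¹ * x⁻¹ * y⁻¹ := by
    have h : x * y * (x * y) * (x * y) = 1 := by rw [← pow_three']; exact hxy
    have : x * y * x = (y * (x * y))⁻¹ := by
      apply eq_inv_of_mul_eq_one_left
      rw [← h]; group
    rw [this]; group
  have hB : x * y⁻¹ * x = y * x⁻¹ * y := by
    have h : x * y⁻¹ * (x * y⁻¹) * (x * y⁻¹) = 1 := by rw [← pow_three']; exact hxy'
    have : x * y⁻¹ * x = (y⁻¹ * (x * y⁻¹))⁻¹ := by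
      apply eq_inv_of_mul_eq_one_left
      rw [← h]; group
    rw [this]; group
  calc x * (y⁻¹ * x * y) = (x * y⁻¹ * x) * y := by group
    _ = (y * x⁻¹ * y) * y := by rw [hB]
    _ = y * x⁻¹ * (y * y) := by group
    _ = y * x⁻¹ * y⁻¹ := by rw [hyy]
    _ = (y⁻¹ * y⁻¹) * x⁻¹ * y⁻¹ := by rw [hyyi]
    _ = y⁻¹ * (y⁻¹ * x⁻¹ * y⁻¹) := by group
    _ = y⁻¹ * (x * y * x) := by rw [hA]
    _ = (y⁻¹ * x * y) * x := by group

/-- the commutator `x⁻¹ y⁻¹ x y` commutes with `x`. -/
theorem b23_comm_x (x y : K) (hy : y ^ 3 = 1) (hxy : (x * y) ^ 3 = 1)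
    (hxy' : (x * y⁻¹) ^ 3 = 1) : (x⁻¹ * y⁻¹ * x * y) * x = x * (x⁻¹ * y⁻¹ * x * y) := by
  have h := b23_comm_conj x y hy hxy hxy'
  calc (x⁻¹ * y⁻¹ * x * y) * x = x⁻¹ * ((y⁻¹ * x * y) * x) := by group
    _ = x⁻¹ * (x * (y⁻¹ * x * y)) := by rw [h]
    _ = x * (x⁻¹ * y⁻¹ * x * y) := by group

theorem b23_bound (x y : K) (hx : x ^ 3 = 1) (hy : y ^ 3 = 1) (hxy : (x * y) ^ 3 = 1)
    (hxy' : (x * y⁻¹) ^ 3 = 1) :
    ∃ s : Finset K, s.card ≤ 27 ∧ ∀ g ∈ Subgroup.closure ({x, y} : Set K), g ∈ s := by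
  classical
  -- z = y⁻¹ x⁻¹ y x, so that y x = x y z
  set z : K := y⁻¹ * x⁻¹ * y * x with hz
  -- z commutes with y  (apply comm_x with roles swapped)
  have hyx : (y * x) ^ 3 = 1 := by
    have : (y * x) ^ 3 = x⁻¹ * (x * y) ^ 3 * x := by
      rw [pow_three', pow_three']; group
    rw [this, hxy]; group
  have hyx' : (y * x⁻¹) ^ 3 = 1 := by
    have : (y * x⁻¹) ^ 3 = ((x * y⁻¹) ^ 3)⁻¹ := by
      rw [pow_three', pow_three']; group
    rw [this, hxy', inv_one]
  have hzy : z * y = y * z := by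
    have := b23_comm_x y x hx hyx hyx'
    simpa [hz] using this
  -- z commutes with x : z = (x⁻¹ y⁻¹ x y)⁻¹
  have hzx : z * x = x * z := by
    have h := b23_comm_x x y hy hxy hxy'
    have hzi : z = (x⁻¹ * y⁻¹ * x * y)⁻¹ := by rw [hz]; group
    have h2 : (x⁻¹ * y⁻¹ * x * y)⁻¹ * x = x * (x⁻¹ * y⁻¹ * x * y)⁻¹ := by
      calc (x⁻¹ * y⁻¹ * x * y)⁻¹ * x
          = (x⁻¹ * y⁻¹ * x * y)⁻¹ * (x * (x⁻¹ * y⁻¹ * x * y)) * (x⁻¹ * y⁻¹ * x * y)⁻¹ := by group
        _ = (x⁻¹ * y⁻¹ * x * y)⁻¹ * ((x⁻¹ * y⁻¹ * x * y) * x) * (x⁻¹ * y⁻¹ * x * y)⁻¹ := by rw [h]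
        _ = x * (x⁻¹ * y⁻¹ * x * y)⁻¹ := by group
    rw [hzi]; exact h2
  have hyxz : y * x = x * y * z := by rw [hz]; group
  -- z^3 = 1
  have hz3 : z ^ 3 = 1 := by
    have e1 : y * y * x = x * (y * y) * (z * z) := by
      calc y * y * x = y * (y * x) := by group
        _ = y * (x * y * z) := by rw [hyxz]
        _ = (y * x) * y * z := by group
        _ = (x * y * z) * y * z := by rw [hyxz]
        _ = x * y * (z * y) * z := by group
        _ = x * y * (y * z) * z := by rw [hzy]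
        _ = x * (y * y) * (z * z) := by group
    have e2 : (x * y) ^ 3 = x ^ 3 * y ^ 3 * z ^ 3 := by
      calc (x * y) ^ 3 = x * (y * x) * (y * x) * y := by rw [pow_three']; group
        _ = x * (x * y * z) * (x * y * z) * y := by rw [hyxz]
        _ = x * x * y * (z * x) * y * (z * y) := by group
        _ = x * x * y * (x * z) * y * (y * z) := by rw [hzx, hzy]
        _ = x * x * (y * x) * (z * y) * y * z := by group
        _ = x * x * (x * y * z) * (y * z) * y * z := by rw [hyxz, hzy]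
        _ = x * x * x * y * (z * y) * (z * y) * z := by group
        _ = x * x * x * y * (y * z) * (y * z) * z := by rw [hzy]
        _ = x * x * x * y * y * (z * y) * z * z := by group
        _ = x * x * x * y * y * (y * z) * z * z := by rw [hzy]
        _ = x ^ 3 * y ^ 3 * z ^ 3 := by rw [pow_three', pow_three', pow_three']; group
    rw [hxy, hx, hy] at e2
    simpa using e2.symm
  -- the set
  let f : (ℕ × ℕ) × ℕ → K := fun p => x ^ p.1.1 * y ^ p.1.2 * z ^ p.2
  refine ⟨((Finset.range 3 ×ˢ Finset.range 3) ×ˢ Finset.range 3).image f, ?_, ?_⟩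
  · refine le_trans Finset.card_image_le ?_
    simp
  · -- S := {x^i y^j z^k}
    have hmem : ∀ i j k : ℕ, x ^ i * y ^ j * z ^ k ∈
        ((Finset.range 3 ×ˢ Finset.range 3) ×ˢ Finset.range 3).image f := by
      intro i j k
      rw [Finset.mem_image]
      refine ⟨((i % 3, j % 3), k % 3), ?_, ?_⟩
      · simp [Nat.mod_lt]
      · simp only [f]
        rw [← pow_eq_pow_mod i hx, ← pow_eq_pow_mod j hy, ← pow_eq_pow_mod k hz3]
    let S : Set K := {g | ∃ i j k : ℕ, g = x ^ i * y ^ j * z ^ k}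
    -- commutation of z powers
    have hzkx : ∀ k : ℕ, z ^ k * x = x * z ^ k := fun k => by
      have : Commute z x := hzx
      exact (this.pow_left k).eq
    have hzky : ∀ k : ℕ, z ^ k * y = y * z ^ k := fun k => by
      have : Commute z y := hzy
      exact (this.pow_left k).eq
    have hyxi : ∀ i : ℕ, y * x ^ i = x ^ i * y * z ^ i := by
      intro i
      induction i with
      | zero => simp
      | succ i ih =>
        calc y * x ^ (i + 1) = (y * x ^ i) * x := by rw [pow_succ]; group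
          _ = (x ^ i * y * z ^ i) * x := by rw [ih]
          _ = x ^ i * y * (z ^ i * x) := by group
          _ = x ^ i * y * (x * z ^ i) := by rw [hzkx]
          _ = x ^ i * (y * x) * z ^ i := by group
          _ = x ^ i * (x * y * z) * z ^ i := by rw [hyxz]
          _ = x ^ (i + 1) * y * z ^ (i + 1) := by rw [pow_succ, pow_succ']; group
    have hxS : ∀ s ∈ S, x * s ∈ S := by
      rintro s ⟨i, j, k, rfl⟩
      exact ⟨i + 1, j, k, by rw [pow_succ']; group⟩
    have hyS : ∀ s ∈ S, y * s ∈ S := by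
      rintro s ⟨i, j, k, rfl⟩
      refine ⟨i, j + 1, i + k, ?_⟩
      have hzyj : ∀ j : ℕ, z ^ i * y ^ j = y ^ j * z ^ i := fun j => by
        have : Commute z y := hzy
        exact ((this.pow_left i).pow_right j).eq
      calc y * (x ^ i * y ^ j * z ^ k) = (y * x ^ i) * y ^ j * z ^ k := by group
        _ = (x ^ i * y * z ^ i) * y ^ j * z ^ k := by rw [hyxi]
        _ = x ^ i * y * (z ^ i * y ^ j) * z ^ k := by group
        _ = x ^ i * y * (y ^ j * z ^ i) * z ^ k := by rw [hzyj]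
        _ = x ^ i * y ^ (j + 1) * z ^ (i + k) := by rw [pow_succ', pow_add]; group
    have hxinv : x⁻¹ = x * x := by
      have : x * x * x = 1 := by rw [← pow_three']; exact hx
      rw [eq_comm]; exact eq_inv_of_mul_eq_one_left this
    have hyinv : y⁻¹ = y * y := by
      have : y * y * y = 1 := by rw [← pow_three']; exact hy
      rw [eq_comm]; exact eq_inv_of_mul_eq_one_left this
    intro g hg
    have key : ∀ g ∈ Subgroup.closure ({x, y} : Set K),
        (∀ s ∈ S, g * s ∈ S) ∧ (∀ s ∈ S, g⁻¹ * s ∈ S) := by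
      intro g hg
      induction hg using Subgroup.closure_induction with
      | mem g hg =>
        rcases hg with rfl | rfl
        · refine ⟨hxS, fun s hs => ?_⟩
          rw [hxinv, mul_assoc]; exact hxS _ (hxS _ hs)
        · refine ⟨hyS, fun s hs => ?_⟩
          rw [hyinv, mul_assoc]; exact hyS _ (hyS _ hs)
      | one => simp
      | mul a b _ _ iha ihb =>
        refine ⟨fun s hs => ?_, fun s hs => ?_⟩
        · rw [mul_assoc]; exact iha.1 _ (ihb.1 _ hs)
        · rw [mul_inv_rev, mul_assoc]; exact ihb.2 _ (iha.2 _ hs)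
      | inv a _ iha =>
        exact ⟨iha.2, by simpa using iha.1⟩
    have h1 : (1 : K) ∈ S := ⟨0, 0, 0, by simp⟩
    obtain ⟨i, j, k, hgk⟩ : g ∈ S := by simpa using (key g hg).1 1 h1
    rw [hgk]; exact hmem i j k

end Cfsg.Agent.Lib.Helper25.TT
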