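import Mathlib
import Cfsg.Prelude.Def_GeometricClasses
import Cfsg.Agent.Lib.Helper27.ASC.Defs
import Cfsg.Agent.Lib.Helper19.ASG.Defs

set_option autoImplicit false
set_option linter.unusedVariables false

/-!
# Project ASG, block C, piece C-DET : `GL_2 ⊗ GL_2` preserves the determinant quadratic form up to scalars

`Q₀ x = x (0,0) * x (1,1) - x (0,1) * x (1,0)` on `Fin 2 × Fin 2 → F`;
`Q₀ ((a ⊗ₖ b) *ᵥ x) = det a * det b * Q₀ x`, and its polar form
`B₀ x y = x00 y11 + x11 y00 - x01 y10 - x10 y01` is non-degenerate in every characteristic.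
-/

namespace Cfsg.Agent.Lib.Helper19.ASG

open Cfsg Cfsg.Geo Cfsg.Agent.Lib.Helper27.ASC
open scoped MatrixGroups Matrix Kronecker

variable {n : ℕ} {F : Type*} [Field F]

/-- the determinant form on `2 × 2` "matrices" written as vectors. -/
def asgcdet_Q0 (x : Fin 2 × Fin 2 → F) : F := x (0, 0) * x (1, 1) - x (0, 1) * x (1, 0)

/-- its polar form. -/
def asgcdet_B0 (x y : Fin 2 × Fin 2 → F) : F :=
  x (0, 0) * y (1, 1) + x (1, 1) * y (0, 0) - x (0, 1) * y (1, 0) - x (1, 0) * y (0, 1)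

theorem asgcdet_polar (x y : Fin 2 × Fin 2 → F) :
    QuadraticMap.polar (asgcdet_Q0 (F := F)) x y = asgcdet_B0 x y := by
  unfold QuadraticMap.polar asgcdet_Q0 asgcdet_B0
  simp only [Pi.add_apply]
  ring

theorem asgcdet_kron (a b : Matrix (Fin 2) (Fin 2) F) (x : Fin 2 × Fin 2 → F) :
    asgcdet_Q0 ((a ⊗ₖ b) *ᵥ x) = a.det * b.det * asgcdet_Q0 x := by
  unfold asgcdet_Q0
  simp only [Matrix.mulVec, dotProduct, Fintype.sum_prod_type, Fin.sum_univ_two,
    Matrix.kroneckerMap_apply, Matrix.det_fin_two]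
  ring

/-- the coordinate change `v ↦ (P⁻¹ *ᵥ v) ∘ e.symm`. -/
def asgcdet_L (e : Fin n ≃ Fin 2 × Fin 2) (P : GL (Fin n) F) :
    (Fin n → F) ≃ₗ[F] (Fin 2 × Fin 2 → F) where
  toFun v := (((P⁻¹ : GL (Fin n) F) : Matrix (Fin n) (Fin n) F) *ᵥ v) ∘ e.symm
  invFun x := (P : Matrix (Fin n) (Fin n) F) *ᵥ (x ∘ e)
  map_add' u v := by
    rw [Matrix.mulVec_add]; rfl
  map_smul' c v := by
    rw [Matrix.mulVec_smul]; rfl
  left_inv v := by
    have : ((((P⁻¹ : GL (Fin n) F) : Matrix (Fin n) (Fin n) F) *ᵥ v) ∘ e.symm) ∘ e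
        = ((P⁻¹ : GL (Fin n) F) : Matrix (Fin n) (Fin n) F) *ᵥ v := by
      funext i; simp
    change (P : Matrix (Fin n) (Fin n) F) *ᵥ
      (((((P⁻¹ : GL (Fin n) F) : Matrix (Fin n) (Fin n) F) *ᵥ v) ∘ e.symm) ∘ e) = v
    rw [this, Matrix.mulVec_mulVec, ← Units.val_mul, mul_inv_cancel, Units.val_one,
      Matrix.one_mulVec]
  right_inv x := by
    change (((P⁻¹ : GL (Fin n) F) : Matrix (Fin n) (Fin n) F) *ᵥ
      ((P : Matrix (Fin n) (Fin n) F) *ᵥ (x ∘ e))) ∘ e.symm = x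
    rw [Matrix.mulVec_mulVec, ← Units.val_mul, inv_mul_cancel, Units.val_one,
      Matrix.one_mulVec]
    funext p; simp

theorem asgcdet_L_apply (e : Fin n ≃ Fin 2 × Fin 2) (P : GL (Fin n) F) (v : Fin n → F) :
    asgcdet_L e P v = (((P⁻¹ : GL (Fin n) F) : Matrix (Fin n) (Fin n) F) *ᵥ v) ∘ e.symm := rfl

theorem asgcdet_B0_nondeg (x : Fin 2 × Fin 2 → F) (hx : x ≠ 0) :
    (∃ y, asgcdet_B0 y x ≠ 0) ∧ (∃ y, asgcdet_B0 x y ≠ 0) := by
  classical
  have hsymm : ∀ u w : Fin 2 × Fin 2 → F, asgcdet_B0 u w = asgcdet_B0 w u := by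
    intro u w; unfold asgcdet_B0; ring
  have key : ∃ y, asgcdet_B0 x y ≠ 0 := by
    by_contra hcon
    push Not at hcon
    apply hx
    have h11 := hcon (Pi.single (1, 1) 1)
    have h00 := hcon (Pi.single (0, 0) 1)
    have h10 := hcon (Pi.single (1, 0) 1)
    have h01 := hcon (Pi.single (0, 1) 1)
    unfold asgcdet_B0 at h11 h00 h10 h01
    simp at h11 h00 h10 h01
    funext ⟨i, j⟩
    fin_cases i <;> fin_cases j <;> simp_all
  refine ⟨?_, key⟩
  obtain ⟨y, hy⟩ := key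
  exact ⟨y, by rwa [hsymm]⟩

/-- C-DET : `k = d = 2`; the tensor product subgroup `GL_2 ⊗ GL_2` lies in the similarity group of a non-degenerate
quadratic form. -/
theorem tensor_two_two_le_quad (e : Fin n ≃ Fin 2 × Fin 2) (P : GL (Fin n) F) :
    ∃ Q : (Fin n → F) → F, IsNondegenerateQuadraticForm Q ∧
      tensorProductSubgroup 2 2 e P ≤ quadSimilarityGroup Q := by
  classical
  refine ⟨fun v => asgcdet_Q0 (asgcdet_L e P v), ?_, ?_⟩
  · have hpol : ∀ u v : Fin n → F,
        QuadraticMap.polar (fun v => asgcdet_Q0 (asgcdet_L e P v)) u v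
          = asgcdet_B0 (asgcdet_L e P u) (asgcdet_L e P v) := by
      intro u v
      rw [← asgcdet_polar]
      unfold QuadraticMap.polar
      simp only [map_add]
    refine ⟨?_, ?_, ?_⟩
    · intro c v
      change asgcdet_Q0 (asgcdet_L e P (c • v)) = c ^ 2 * asgcdet_Q0 (asgcdet_L e P v)
      rw [map_smul]
      unfold asgcdet_Q0
      simp only [Pi.smul_apply, smul_eq_mul]
      ring
    · refine ⟨?_, ?_, ?_, ?_⟩
      · intro x y v
        rw [hpol, hpol, hpol, map_add]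
        unfold asgcdet_B0
        simp only [Pi.add_apply]
        ring
      · intro c x v
        rw [hpol, hpol, map_smul]
        unfold asgcdet_B0
        simp only [Pi.smul_apply, smul_eq_mul]
        ring
      · intro v x y
        rw [hpol, hpol, hpol, map_add]
        unfold asgcdet_B0
        simp only [Pi.add_apply]
        ring
      · intro c v x
        rw [hpol, hpol, map_smul]
        unfold asgcdet_B0
        simp only [Pi.smul_apply, smul_eq_mul]
        ring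
    · intro v hv
      have hLv : asgcdet_L e P v ≠ 0 := by
        intro h
        exact hv ((asgcdet_L e P).map_eq_zero_iff.mp h)
      obtain ⟨⟨y, hy⟩, ⟨y', hy'⟩⟩ := asgcdet_B0_nondeg _ hLv
      refine ⟨⟨(asgcdet_L e P).symm y, ?_⟩, ⟨(asgcdet_L e P).symm y', ?_⟩⟩
      · rw [hpol, LinearEquiv.apply_symm_apply]; exact hy
      · rw [hpol, LinearEquiv.apply_symm_apply]; exact hy'
  · rintro g ⟨h, ⟨k, ⟨a, b, hk⟩, rfl⟩, rfl⟩
    have hdet : (a : Matrix (Fin 2) (Fin 2) F).det * (b : Matrix (Fin 2) (Fin 2) F).det ≠ 0 := by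
      have ha : IsUnit (a : Matrix (Fin 2) (Fin 2) F).det :=
        (Matrix.isUnit_iff_isUnit_det _).mp a.isUnit
      have hb : IsUnit (b : Matrix (Fin 2) (Fin 2) F).det :=
        (Matrix.isUnit_iff_isUnit_det _).mp b.isUnit
      exact mul_ne_zero ha.ne_zero hb.ne_zero
    refine ⟨Units.mk0 _ hdet, fun v => ?_⟩
    change asgcdet_Q0 (asgcdet_L e P _) = _ * asgcdet_Q0 (asgcdet_L e P v)
    rw [Units.val_mk0, ← asgcdet_kron, ← hk]
    congr 1
    rw [asgcdet_L_apply, asgcdet_L_apply]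
    have hg : (((MulAut.conj P).toMonoidHom ((glReindex e.symm).toMonoidHom k) : GL (Fin n) F) :
        Matrix (Fin n) (Fin n) F)
        = (P : Matrix (Fin n) (Fin n) F) * (k : Matrix _ _ F).submatrix e e *
          ((P⁻¹ : GL (Fin n) F) : Matrix (Fin n) (Fin n) F) := by
      rfl
    rw [hg, Matrix.mulVec_mulVec, ← mul_assoc, ← mul_assoc, ← Units.val_mul, inv_mul_cancel,
      Units.val_one, one_mul, ← Matrix.mulVec_mulVec, Matrix.submatrix_mulVec_equiv]
    funext p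
    simp

end Cfsg.Agent.Lib.Helper19.ASG
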