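import Mathlib
import Cfsg.Prelude.Def_GeometricClasses
import Cfsg.Agent.Lib.Helper27.ASC.Defs
import Cfsg.Agent.Lib.Helper19.ASG.Defs

set_option autoImplicit false
set_option linter.unusedVariables false

/-!
# Project ASG (leader: helper19), piece C-FULL : `scalar_of_cent_full` (helper25)

If the centraliser algebra of `N` is isomorphic to the full matrix algebra `M_n(F)` then, by dimension, it IS the full
matrix algebra, so every element of `N` commutes with every matrix and is therefore scalar.
-/

namespace Cfsg.Agent.Lib.Helper19.ASG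

open Cfsg Cfsg.Geo Cfsg.Agent.Lib.Helper27.ASC
open scoped MatrixGroups Matrix

variable {n : ℕ} {F : Type*} [Field F] [Fintype F]

/-- extra: a subalgebra of `M_n(F)` which is isomorphic (as an algebra, even just linearly) to `M_n(F)` is everything. -/
theorem asgcfull_top {n : ℕ} {F : Type*} [Field F] (C : Subalgebra F (Matrix (Fin n) (Fin n) F))
    (φ : C ≃ₗ[F] Matrix (Fin n) (Fin n) F) : C = ⊤ := by
  have h1 : Module.finrank F C = Module.finrank F (Matrix (Fin n) (Fin n) F) := φ.finrank_eq
  have h2 : Subalgebra.toSubmodule C = ⊤ := by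
    apply Submodule.eq_top_of_finrank_eq
    exact h1
  apply Subalgebra.toSubmodule_injective
  rw [h2]
  rfl

/-- extra: a matrix commuting with every matrix is scalar. -/
theorem asgcfull_scalar {n : ℕ} {F : Type*} [Field F] (M : Matrix (Fin n) (Fin n) F)
    (h : ∀ A : Matrix (Fin n) (Fin n) F, A * M = M * A) : ∃ c : F, M = c • (1 : Matrix (Fin n) (Fin n) F) := by
  have h3 : M ∈ Set.range (Matrix.scalar (Fin n) : F → Matrix (Fin n) (Fin n) F) := by
    apply Matrix.mem_range_scalar_of_commute_single
    intro i j hij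
    exact (h (Matrix.single i j 1))
  obtain ⟨c, hc⟩ := h3
  refine ⟨c, ?_⟩
  rw [← hc]
  simp [Matrix.smul_one_eq_diagonal]

/-- C-FULL (helper19) : `k = n` -/
theorem scalar_of_cent_full {N : Subgroup (GL (Fin n) F)}
    (φ : centAlg N ≃ₐ[F] Matrix (Fin n) (Fin n) F) : N ≤ scalars (Fin n) F := by
  have htop : centAlg N = ⊤ := asgcfull_top (centAlg N) φ.toLinearEquiv
  intro x hx
  have hcomm : ∀ A : Matrix (Fin n) (Fin n) F,
      A * (x : Matrix (Fin n) (Fin n) F) = (x : Matrix (Fin n) (Fin n) F) * A := by
    intro A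
    have hA : A ∈ centAlg N := by rw [htop]; exact Algebra.mem_top
    have h1 := (Subalgebra.mem_centralizer_iff F).mp hA (x : Matrix (Fin n) (Fin n) F) ⟨x, hx, rfl⟩
    exact h1.symm
  obtain ⟨c, hc⟩ := asgcfull_scalar (x : Matrix (Fin n) (Fin n) F) hcomm
  rw [mem_scalars_iff]
  by_cases hc0 : c = 0
  · -- then the matrix of `x` is zero, so `0 = 1` in `M_n(F)` and `x = 1 • 1` as well
    rw [hc0, zero_smul] at hc
    have h01 : (0 : Matrix (Fin n) (Fin n) F) = 1 := by
      have h := x.val_inv
      rw [hc, zero_mul] at h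
      exact h
    refine ⟨1, ?_⟩
    rw [hc, Units.val_one, one_smul]
    exact h01
  · exact ⟨Units.mk0 c hc0, by simpa using hc⟩

end Cfsg.Agent.Lib.Helper19.ASG
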