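import Mathlib
import Cfsg.Prelude.Def_GeometricClasses
import Cfsg.Agent.Lib.Helper27.ASC.Defs
import Cfsg.Agent.Lib.helper23.ASCO.Defs
import Cfsg.Agent.Lib.Helper19.ASG.Defs
import Cfsg.Agent.Lib.Helper1.ASGCLIF3
import Cfsg.Agent.Lib.Helper25.ASO.Defs
import Cfsg.Agent.Lib.helper23.ASE.Defs

set_option autoImplicit false
set_option linter.unusedVariables false
set_option linter.unusedSectionVars false

/-!
# Project E10M (leader helper16), field block (sub-leader helper20) : piece F-KER (`efield_kernel_top`)

A subspace `W` stable under an irreducible group which is the kernel of an additive map into a finite group with fewer than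
`|F| ^ n` elements is the whole space: otherwise `W = ⊥`, the map is injective and `|F| ^ n ≤ |A|`.
-/

namespace Cfsg.Agent.Lib.Helper16.E10M

open Cfsg Cfsg.Geo Cfsg.Agent.Lib.Helper27.ASC Cfsg.Agent.Lib.helper23.ASCO Cfsg.Agent.Lib.Helper19.ASG
  Cfsg.Agent.Lib.Helper25.ASO
open scoped MatrixGroups Matrix Kronecker

variable {n : ℕ} {F : Type*} [Field F] [Fintype F]

/-- the counting core: an additive map from `F ^ n` into a finite group with fewer than `|F| ^ n` elements has a non-zero
element in its kernel. -/
theorem e10mfker_exists_ne_zero {A : Type*} [AddCommGroup A] [Fintype A] (Φ : (Fin n → F) →+ A)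
    (hcard : Fintype.card A < Fintype.card F ^ n) : ∃ v : Fin n → F, v ≠ 0 ∧ Φ v = 0 := by
  by_contra hcon
  push Not at hcon
  have hinj : Function.Injective Φ := by
    intro u v huv
    by_contra hne
    have h1 : u - v ≠ 0 := sub_ne_zero.mpr hne
    exact hcon (u - v) h1 (by rw [map_sub, huv, sub_self])
  have h2 := Fintype.card_le_of_injective Φ hinj
  rw [Fintype.card_fun, Fintype.card_fin] at h2
  omega

/-- F-KER : a proper "small" kernel is impossible: a subspace `W` normalised by an irreducible group which is the kernel of an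
additive map into a finite group with fewer than `|F| ^ n` elements is everything.  (`|W| = |V| / |range Φ| > 1`
(`AddMonoidHom` first isomorphism theorem / fibres of `Φ` are cosets of `W`; `Fintype.card (Fin n → F) = |F| ^ n`), so `W ≠ ⊥`; `hG`.) -/
theorem efield_kernel_top {G : Subgroup (GL (Fin n) F)} (hG : Irr G) (W : Submodule F (Fin n → F))
    (hinv : ∀ g ∈ G, ∀ v ∈ W, (g : Matrix (Fin n) (Fin n) F) *ᵥ v ∈ W) {A : Type*} [AddCommGroup A] [Fintype A]
    (Φ : (Fin n → F) →+ A) (hW : ∀ v, v ∈ W ↔ Φ v = 0) (hcard : Fintype.card A < Fintype.card F ^ n) :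
    W = ⊤ := by
  have hstab : ∀ s ∈ matrixSet G, W.map (Matrix.toLin' s) ≤ W := by
    rintro _ ⟨g, hg, rfl⟩
    rintro _ ⟨v, hv, rfl⟩
    rw [Matrix.toLin'_apply]
    exact hinv g hg v hv
  rcases hG W hstab with h | h
  · exfalso
    obtain ⟨v, hv0, hv⟩ := e10mfker_exists_ne_zero Φ hcard
    have hvW : v ∈ W := (hW v).mpr hv
    rw [h, Submodule.mem_bot] at hvW
    exact hv0 hvW
  · exact h

end Cfsg.Agent.Lib.Helper16.E10M
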