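import Mathlib
import Cfsg.Prelude.Def_GeometricClasses
import Cfsg.Agent.Lib.Helper27.ASC.Defs
import Cfsg.Agent.Lib.helper23.ASCO.Defs
import Cfsg.Agent.Lib.Helper19.ASG.Defs
import Cfsg.Agent.Lib.Helper1.ASGCLIF3
import Cfsg.Agent.Lib.Helper25.ASO.Defs
import Cfsg.Agent.Lib.helper23.ASE.Defs
import Cfsg.Agent.Lib.Helper25.ASOADJ

set_option autoImplicit false
set_option linter.unusedVariables false
set_option linter.unusedSectionVars false

/-!
# Project E10M (leader helper16), field block (sub-leader helper20) : piece F-NORM (`efield_norm`)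

`K` a subalgebra of dimension 2 closed under the adjoint `oadj`, not self-adjoint: the fixed space of `oadj` in `K` is a proper
subspace containing `1`, so it is `F • 1`; `oadj k * k` is fixed (if `K` is commutative), so it is a scalar.
-/

namespace Cfsg.Agent.Lib.Helper16.E10M

open Cfsg Cfsg.Geo Cfsg.Agent.Lib.Helper27.ASC Cfsg.Agent.Lib.helper23.ASCO Cfsg.Agent.Lib.Helper19.ASG
  Cfsg.Agent.Lib.Helper25.ASO
open scoped MatrixGroups Matrix Kronecker

variable {n : ℕ} {F : Type*} [Field F] [Fintype F]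

/-- the fixed space of the adjoint inside `K`, as a submodule of the matrix algebra -/
def e10mfnorm_fix (Q : QuadraticForm F (Fin n → F)) (K : Subalgebra F (Matrix (Fin n) (Fin n) F)) :
    Submodule F (Matrix (Fin n) (Fin n) F) where
  carrier := {k | k ∈ K ∧ oadj (⇑Q) k = k}
  add_mem' := by
    rintro a b ⟨ha, ha'⟩ ⟨hb, hb'⟩
    exact ⟨K.add_mem ha hb, by rw [oadj_add, ha', hb']⟩
  zero_mem' := by
    refine ⟨K.zero_mem, ?_⟩
    have h := oadj_smul Q (0 : F) (0 : Matrix (Fin n) (Fin n) F)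
    simpa using h
  smul_mem' := by
    rintro c a ⟨ha, ha'⟩
    exact ⟨K.smul_mem ha c, by rw [oadj_smul, ha']⟩

/-- the fixed space of the adjoint in a subalgebra of dimension 2 which is not self-adjoint consists of scalars
(no commutativity, no invertibility needed). -/
theorem e10mfnorm_fix_scalar (Q : QuadraticForm F (Fin n → F)) (hQ : (QuadraticMap.polarBilin Q).Nondegenerate)
    (K : Subalgebra F (Matrix (Fin n) (Fin n) F)) (h2 : Module.finrank F K = 2)
    (hnsa : ¬ ∀ k ∈ K, oadj (⇑Q) k = k) :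
    ∀ x ∈ K, oadj (⇑Q) x = x → ∃ c : F, x = c • (1 : Matrix (Fin n) (Fin n) F) := by
  classical
  set S := e10mfnorm_fix Q K with hS
  have hSK : S ≤ Subalgebra.toSubmodule K := fun x hx => hx.1
  have hne : S ≠ Subalgebra.toSubmodule K := by
    intro heq
    apply hnsa
    intro k hk
    have : k ∈ S := by rw [heq]; exact hk
    exact this.2
  have hlt : S < Subalgebra.toSubmodule K := lt_of_le_of_ne hSK hne
  have hfin : Module.finrank F S < Module.finrank F (Subalgebra.toSubmodule K) :=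
    Submodule.finrank_lt_finrank_of_lt hlt
  have h2' : Module.finrank F (Subalgebra.toSubmodule K) = 2 := h2
  have hle : Module.finrank F S ≤ 1 := by omega
  -- the matrix algebra is non-trivial
  have h10 : (1 : Matrix (Fin n) (Fin n) F) ≠ 0 := by
    intro h10
    have hsub : ∀ x : K, x = 0 := by
      intro x
      apply Subtype.ext
      have : (x : Matrix (Fin n) (Fin n) F) = (x : Matrix (Fin n) (Fin n) F) * 1 := (mul_one _).symm
      rw [this, h10, mul_zero]
      rfl
    have : Subsingleton K := ⟨fun a b => by rw [hsub a, hsub b]⟩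
    have h0 : Module.finrank F K = 0 := Module.finrank_zero_of_subsingleton
    omega
  have h1S : (1 : Matrix (Fin n) (Fin n) F) ∈ S := ⟨K.one_mem, oadj_one Q hQ⟩
  obtain ⟨v, hv⟩ := finrank_le_one_iff.mp hle
  obtain ⟨c1, hc1⟩ := hv ⟨1, h1S⟩
  have hc1' : c1 • (v : Matrix (Fin n) (Fin n) F) = 1 := by
    have := congrArg Subtype.val hc1
    simpa using this
  have hc10 : c1 ≠ 0 := by
    intro h0
    rw [h0, zero_smul] at hc1'
    exact h10 hc1'.symm
  intro x hxK hx
  obtain ⟨c, hc⟩ := hv ⟨x, ⟨hxK, hx⟩⟩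
  have hc' : c • (v : Matrix (Fin n) (Fin n) F) = x := by
    have := congrArg Subtype.val hc
    simpa using this
  refine ⟨c * c1⁻¹, ?_⟩
  rw [← hc1', smul_smul, mul_assoc, inv_mul_cancel₀ hc10, mul_one, hc']

/-- F-NORM : degree 2, adjoint-closed, not self-adjoint: `oadj k * k` is a scalar (the norm).  (`Fix = {k ∈ K | oadj k = k}` is a
subalgebra of `K`, proper, and `finrank K = 2`: `Fix = ⊥` (`Subalgebra.finrank_eq_one_iff` / `Subalgebra.eq_bot_of_finrank_one`);
`oadj (oadj k * k) = oadj k * k` by `oadj_mul`, `oadj_oadj` and commutativity.) -/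
theorem efield_norm (Q : QuadraticForm F (Fin n → F)) (hQ : (QuadraticMap.polarBilin Q).Nondegenerate)
    (K : Subalgebra F (Matrix (Fin n) (Fin n) F)) (hK : IsFieldSubalgebra 2 K)
    (hstar : ∀ k ∈ K, oadj (⇑Q) k ∈ K) (hnsa : ¬ ∀ k ∈ K, oadj (⇑Q) k = k) :
    ∀ k ∈ K, ∃ c : F, oadj (⇑Q) k * k = c • (1 : Matrix (Fin n) (Fin n) F) := by
  intro k hk
  apply e10mfnorm_fix_scalar Q hQ K hK.finrank_eq hnsa _ (K.mul_mem (hstar k hk) hk)
  rw [oadj_mul Q hQ, oadj_oadj Q hQ]

/-- companion: the trace `oadj k + k` is a scalar too. -/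
theorem e10mfnorm_trace (Q : QuadraticForm F (Fin n → F)) (hQ : (QuadraticMap.polarBilin Q).Nondegenerate)
    (K : Subalgebra F (Matrix (Fin n) (Fin n) F)) (hK : IsFieldSubalgebra 2 K)
    (hstar : ∀ k ∈ K, oadj (⇑Q) k ∈ K) (hnsa : ¬ ∀ k ∈ K, oadj (⇑Q) k = k) :
    ∀ k ∈ K, ∃ c : F, oadj (⇑Q) k + k = c • (1 : Matrix (Fin n) (Fin n) F) := by
  intro k hk
  apply e10mfnorm_fix_scalar Q hQ K hK.finrank_eq hnsa _ (K.add_mem (hstar k hk) hk)
  rw [oadj_add, oadj_oadj Q hQ, add_comm]

end Cfsg.Agent.Lib.Helper16.E10M
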