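import Mathlib
import Cfsg.Agent.Lib.helper15.S5972.Defs
import Cfsg.Agent.Lib.Helper18.OmegaOdd
import Cfsg.Agent.Lib.Helper16.OA25

set_option autoImplicit false

/-! S5972 row OMEGAODD: isometries of odd order of the standard odd-dimensional quadratic form lie in `Ω`. -/

namespace Cfsg.Agent.Lib.helper15.S5972

/-- in a finite field of odd cardinality `2 ≠ 0` -/
theorem s5972omegaodd_two_ne {F : Type*} [Field F] [Fintype F] (hodd : Odd (Fintype.card F)) :
    (2 : F) ≠ 0 := by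
  intro h2
  have hchar : ringChar F = 2 := by
    have hdvd : ringChar F ∣ 2 := by
      have : ((2 : ℕ) : F) = 0 := by exact_mod_cast h2
      exact (ringChar.spec F 2).1 this
    rcases (Nat.dvd_prime Nat.prime_two).1 hdvd with h | h
    · exact absurd h (CharP.ringChar_ne_one)
    · exact h
  have heven : Fintype.card F % 2 = 0 := FiniteField.even_card_of_char_two hchar
  rcases hodd with ⟨k, hk⟩
  omega

theorem omega_of_odd {F : Type*} [Field F] [Fintype F] (hodd : Odd (Fintype.card F)) (d : ℕ)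
    (hd : 3 ≤ d) (x : GL (Unit ⊕ (Fin d ⊕ Fin d)) F)
    (hx : x ∈ Cfsg.isometryGroup F (Cfsg.quadFormOdd d F)) (ho : Odd (orderOf x)) :
    x ∈ Cfsg.Geo.omegaGL (Cfsg.quadFormOdd d F) := by
  have h2 : (2 : F) ≠ 0 := s5972omegaodd_two_ne hodd
  have h := Cfsg.Agent.Lib.Helper18.OmegaOdd.omegaodd_mem h2 (Cfsg.Agent.Lib.Helper16.qfOdd d F)
    (Cfsg.Agent.Lib.Helper16.OA.qfOdd_nondeg d h2) x
    (by rw [Cfsg.Agent.Lib.Helper16.qfOdd_coe]; exact hx) (orderOf x) ho (pow_orderOf_eq_one x)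
  rw [Cfsg.Agent.Lib.Helper16.qfOdd_coe] at h
  exact h

end Cfsg.Agent.Lib.helper15.S5972
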