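import Mathlib
import Cfsg.Agent.Lib.Lead.BCG.Defs
import Cfsg.Agent.Lib.helper8.S5955X1
import Cfsg.Agent.Lib.helper6.Symp

set_option autoImplicit false

/-!
# BCG row X1 (`sp_ctx`), second copy (helper25): `bcgx1_h25` = the Skel statement.
-/

namespace Cfsg.Agent.Lib.Lead.BCG

open Polynomial Module Matrix Cfsg.Agent.Lib.Helper13.S5955 Cfsg.Agent.Lib.helper15.S5972
  Cfsg.Agent.Lib.Helper18.ONE Cfsg.Agent.Lib.Lead.BCS

theorem bcgx1_h25 {F : Type*} [Field F] (d : ℕ) (x : Matrix.symplecticGroup (Fin d) F) (N : ℕ)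
    (hx : x ^ N = 1) :
    SCtx N (stdB d F) (Matrix.toLin' (x : Matrix (Fin d ⊕ Fin d) (Fin d ⊕ Fin d) F)) := by
  obtain ⟨halt, hnd⟩ := stdB_alt_nd (F := F) d
  refine ⟨halt, hnd, ?_, ?_⟩
  · intro u v
    rw [stdB_apply, stdB_apply, Matrix.toLin'_apply, Matrix.toLin'_apply]
    exact (Cfsg.Agent.Lib.helper6.mem_symplecticGroup_iff_sympForm (m := d) (F := F)
      (x : Matrix (Fin d ⊕ Fin d) (Fin d ⊕ Fin d) F)).mp x.2 u v
  · have h1 : ((x ^ N : Matrix.symplecticGroup (Fin d) F) :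
        Matrix (Fin d ⊕ Fin d) (Fin d ⊕ Fin d) F) = 1 := by rw [hx]; rfl
    have h2 : (x : Matrix (Fin d ⊕ Fin d) (Fin d ⊕ Fin d) F) ^ N = 1 := by
      rw [← h1]; exact (SubmonoidClass.coe_pow x N).symm
    have h3 : ∀ (M : Matrix (Fin d ⊕ Fin d) (Fin d ⊕ Fin d) F) (k : ℕ),
        (Matrix.toLin' M) ^ k = Matrix.toLin' (M ^ k) := by
      intro M k
      induction k with
      | zero => simp [Matrix.toLin'_one]; rfl
      | succ k ih => rw [pow_succ, pow_succ, ih, Matrix.toLin'_mul]; rfl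
    rw [h3, h2, Matrix.toLin'_one]
    rfl

end Cfsg.Agent.Lib.Lead.BCG
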