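import Mathlib
import Cfsg.Agent.Lib.Lead.BCS.Defs
import Cfsg.Agent.Lib.helper6.Symp

/-!
# BCS row C2 (helper25): `bcs_sp_transv`, verbatim: the symplectic transvection along `u`.
-/

set_option autoImplicit false

namespace Cfsg.Agent.Lib.Lead.BCS

open Polynomial Module Matrix Cfsg.Agent.Lib.Helper13.S5955 Cfsg.Agent.Lib.helper15.S5972
  Cfsg.Agent.Lib.Helper18.ONE

/-- matrices equal on all vectors are equal -/
theorem bcsc2_ext {F : Type*} [Field F] {ι : Type*} [Fintype ι] [DecidableEq ι] (A B : Matrix ι ι F)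
    (h : ∀ x, A *ᵥ x = B *ᵥ x) : A = B := by
  apply Matrix.toLin'.injective
  apply LinearMap.ext
  intro x
  rw [Matrix.toLin'_apply, Matrix.toLin'_apply, h]

/-- `T_u(a) T_u(b) = T_u(a + b)` -/
theorem bcsc2_mul {F : Type*} [Field F] (n : ℕ) (u : Fin n ⊕ Fin n → F) (a b : F) :
    Cfsg.sympTransvection n u a * Cfsg.sympTransvection n u b = Cfsg.sympTransvection n u (a + b) := by
  apply bcsc2_ext
  intro x
  rw [← Matrix.mulVec_mulVec, Cfsg.Agent.Lib.helper6.sympTransvection_mulVec,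
    Cfsg.Agent.Lib.helper6.sympTransvection_mulVec, Cfsg.Agent.Lib.helper6.sympTransvection_mulVec,
    Cfsg.Agent.Lib.helper6.sympForm_add_left, Cfsg.Agent.Lib.helper6.sympForm_smul_left,
    Cfsg.Agent.Lib.helper6.sympForm_self, mul_zero, add_zero, add_assoc, ← add_smul]
  congr 2
  ring

theorem bcsc2_zero {F : Type*} [Field F] (n : ℕ) (u : Fin n ⊕ Fin n → F) :
    Cfsg.sympTransvection n u 0 = 1 := by
  unfold Cfsg.sympTransvection
  rw [zero_smul, add_zero]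

/-- C2 [M]: `t = ⟨Cfsg.sympTransvection n u 1, _⟩` (`Cfsg.Agent.Lib.helper6.sympTransvection_mem`, `sympTransvection_mulVec`: `t x = x + ⟨x, u⟩ u`).
`t ^ k = T_u(k)` (induction; `⟨u, u⟩ = 0`), so `t ^ p = 1`; `t ≠ 1`: `⟨x, u⟩ ≠ 0` for some `x` (`sympForm_nondeg`, `sympForm_swap`); `t u = u`.
`g u = u`, `g` symplectic (`mem_symplecticGroup_iff_sympForm`): `g t x = g x + ⟨x, u⟩ u = g x + ⟨g x, g u⟩ u = t g x`; matrices equal when equal on all vectors. -/
theorem bcs_sp_transv {F : Type*} [Field F] {p : ℕ} [Fact p.Prime] [CharP F p] (n : ℕ)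
    (u : Fin n ⊕ Fin n → F) (hu : u ≠ 0) :
    ∃ t : Matrix.symplecticGroup (Fin n) F, t ≠ 1 ∧ t ^ p = 1 ∧
      (t : Matrix (Fin n ⊕ Fin n) (Fin n ⊕ Fin n) F) *ᵥ u = u ∧
      ∀ g : Matrix.symplecticGroup (Fin n) F,
        (g : Matrix (Fin n ⊕ Fin n) (Fin n ⊕ Fin n) F) *ᵥ u = u → Commute g t := by
  set t : Matrix.symplecticGroup (Fin n) F :=
    ⟨Cfsg.sympTransvection n u 1, Cfsg.Agent.Lib.helper6.sympTransvection_mem n u 1⟩ with ht
  have htval : (t : Matrix (Fin n ⊕ Fin n) (Fin n ⊕ Fin n) F) = Cfsg.sympTransvection n u 1 := rfl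
  have hpow : ∀ k : ℕ, ((t ^ k : Matrix.symplecticGroup (Fin n) F) :
      Matrix (Fin n ⊕ Fin n) (Fin n ⊕ Fin n) F) = Cfsg.sympTransvection n u (k : F) := by
    intro k
    induction k with
    | zero =>
      rw [pow_zero, Nat.cast_zero, bcsc2_zero]
      rfl
    | succ k ih =>
      rw [pow_succ]
      show ((t ^ k : Matrix.symplecticGroup (Fin n) F) :
        Matrix (Fin n ⊕ Fin n) (Fin n ⊕ Fin n) F) * (t : Matrix (Fin n ⊕ Fin n) (Fin n ⊕ Fin n) F) = _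
      rw [ih, htval, bcsc2_mul, Nat.cast_succ]
  refine ⟨t, ?_, ?_, ?_, ?_⟩
  · intro h1
    obtain ⟨x, hx⟩ := Cfsg.Agent.Lib.helper6.sympForm_nondeg n u hu
    have hx' : Cfsg.sympForm n F x u ≠ 0 := by
      rw [Cfsg.Agent.Lib.helper6.sympForm_swap]
      exact neg_ne_zero.mpr hx
    have h2 : (t : Matrix (Fin n ⊕ Fin n) (Fin n ⊕ Fin n) F) *ᵥ x = x := by
      rw [h1]
      show (1 : Matrix (Fin n ⊕ Fin n) (Fin n ⊕ Fin n) F) *ᵥ x = x
      rw [Matrix.one_mulVec]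
    rw [htval, Cfsg.Agent.Lib.helper6.sympTransvection_mulVec, one_mul, add_eq_left] at h2
    exact (smul_ne_zero hx' hu) h2
  · apply Subtype.ext
    rw [hpow, CharP.cast_eq_zero, bcsc2_zero]
    rfl
  · rw [htval, Cfsg.Agent.Lib.helper6.sympTransvection_mulVec,
      Cfsg.Agent.Lib.helper6.sympForm_self, mul_zero, zero_smul, add_zero]
  · intro g hg
    apply Subtype.ext
    show (g : Matrix (Fin n ⊕ Fin n) (Fin n ⊕ Fin n) F) * (t : Matrix (Fin n ⊕ Fin n) (Fin n ⊕ Fin n) F) =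
      (t : Matrix (Fin n ⊕ Fin n) (Fin n ⊕ Fin n) F) * (g : Matrix (Fin n ⊕ Fin n) (Fin n ⊕ Fin n) F)
    apply bcsc2_ext
    intro x
    have hgs := (Cfsg.Agent.Lib.helper6.mem_symplecticGroup_iff_sympForm n
      (g : Matrix (Fin n ⊕ Fin n) (Fin n ⊕ Fin n) F)).mp g.2 x u
    rw [hg] at hgs
    rw [← Matrix.mulVec_mulVec, ← Matrix.mulVec_mulVec, htval,
      Cfsg.Agent.Lib.helper6.sympTransvection_mulVec, Cfsg.Agent.Lib.helper6.sympTransvection_mulVec,
      Matrix.mulVec_add, Matrix.mulVec_smul, hg, hgs]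

end Cfsg.Agent.Lib.Lead.BCS
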