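import Mathlib
import Cfsg.Agent.Lib.Helper28.BP2.Defs
import Cfsg.Agent.Lib.helper3.BSZ.Defs
import Cfsg.Agent.Lib.helper6.BSZA09

/-!
# BP2 row T12 (`binS_of_prime_card`), verbatim vs `Helper28/BP2/Skel.lean.txt`,
through the landed BSZ criterion `binary_of_ti` (helper6.BSZA09) and the bridge `bp2t12_binS_of_binH`.
-/

set_option autoImplicit false

namespace Cfsg.Agent.Lib.Helper28.BP2

open Cfsg.Agent.Lib.helper14

universe u v w

section Toolbox

variable {G : Type u} [Group G]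

/-- the easy half of T1, from the BSZ form of binarity: `BinH H → BinS H`. -/
theorem bp2t12_binS_of_binH (H : Subgroup G) (h : Cfsg.Agent.Lib.helper3.BSZ.BinH H) : BinS H := by
  intro n x y hn hpair
  have key : ∀ (g a b : G), g • (QuotientGroup.mk a : G ⧸ H) = QuotientGroup.mk b ↔ b⁻¹ * g * a ∈ H := by
    intro g a b
    rw [MulAction.Quotient.smul_mk, QuotientGroup.eq, smul_eq_mul]
    constructor
    · intro h1
      have := H.inv_mem h1
      have e : ((g * a)⁻¹ * b)⁻¹ = b⁻¹ * g * a := by group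
      rwa [e] at this
    · intro h1
      have := H.inv_mem h1
      have e : (b⁻¹ * g * a)⁻¹ = (g * a)⁻¹ * b := by group
      rwa [e] at this
  obtain ⟨g, hg⟩ := h n (fun i => QuotientGroup.mk (x i)) (fun i => QuotientGroup.mk (y i)) hn
    (fun i j hij => by
      obtain ⟨g, h1, h2⟩ := hpair i j hij
      exact ⟨g, (key g (x i) (y i)).2 h1, (key g (x j) (y j)).2 h2⟩)
  exact ⟨g, fun i => (key g (x i) (y i)).1 (hg i)⟩

/-- in a subgroup of prime order every element is a power of a given nontrivial element -/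
theorem bp2t12_exists_zpow (H : Subgroup G) (hp : (Nat.card H).Prime) {h : G} (hh : h ∈ H) (h1 : h ≠ 1)
    {x : G} (hx : x ∈ H) : ∃ k : ℤ, x = h ^ k := by
  have : Fact (Nat.card H).Prime := ⟨hp⟩
  have hne : (⟨h, hh⟩ : H) ≠ 1 := fun hc => h1 (congrArg Subtype.val hc)
  have htop := zpowers_eq_top_of_prime_card (G := H) rfl hne
  have hmem : (⟨x, hx⟩ : H) ∈ Subgroup.zpowers (⟨h, hh⟩ : H) := by rw [htop]; trivial
  obtain ⟨k, hk⟩ := Subgroup.mem_zpowers_iff.1 hmem
  refine ⟨k, ?_⟩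
  have := congrArg Subtype.val hk
  simpa using this.symm

/-- a subgroup of prime order is TI: `h ∈ H ∩ a H a⁻¹`, `h ≠ 1` forces `a ∈ N(H)` -/
theorem bp2t12_ti (H : Subgroup G) (hp : (Nat.card H).Prime) {a : G}
    (ha : a ∉ Subgroup.normalizer (H : Set G)) {h : G} (hh : h ∈ H) (hh' : a⁻¹ * h * a ∈ H) : h = 1 := by
  by_contra h1
  apply ha
  have h1' : a⁻¹ * h * a ≠ 1 := by
    intro hc
    apply h1
    have : h = a * (a⁻¹ * h * a) * a⁻¹ := by group
    rw [this, hc]; group
  have hconj : ∀ k : ℤ, a⁻¹ * h ^ k * a = (a⁻¹ * h * a) ^ k := by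
    intro k
    have := (conj_zpow (a := a⁻¹) (b := h) (i := k))
    rw [inv_inv] at this
    exact this.symm
  rw [Subgroup.mem_normalizer_iff]
  intro x
  constructor
  · intro hx
    -- `x = a⁻¹ * (a * x * a⁻¹) * a`
    obtain ⟨k, hk⟩ := bp2t12_exists_zpow H hp hh' h1' hx
    have : a * x * a⁻¹ = h ^ k := by
      rw [hk, ← hconj]; group
    rw [this]
    exact H.zpow_mem hh k
  · intro hx
    obtain ⟨k, hk⟩ := bp2t12_exists_zpow H hp hh h1 hx
    have : x = (a⁻¹ * h * a) ^ k := by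
      rw [← hconj, ← hk]; group
    rw [this]
    exact H.zpow_mem hh' k

/-- **T12** (prime order).  WLOG `x 0 = y 0 = 1`; the sets `S j = {h ∈ H | (y j)⁻¹ h x j ∈ H}` are
cosets of `H ∩ x j H (x j)⁻¹`, which is `⊥` or `H`; two different singletons give
`a = h_j⁻¹ h_k = b c` forbidden by `hcrit`. -/
theorem binS_of_prime_card (H : Subgroup G) (hp : (Nat.card H).Prime)
    (hcrit : ∀ a b c x y : G, a ∈ H → a ≠ 1 → x⁻¹ * b * x ∈ H → y⁻¹ * c * y ∈ H → a = b * c →
      b ∈ H ∨ c ∈ H) : BinS H := by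
  apply bp2t12_binS_of_binH
  apply Cfsg.Agent.Lib.helper3.BSZ.binary_of_ti H (Subgroup.normalizer (H : Set G))
  · intro a ha h hh
    have ha' : a⁻¹ ∈ Subgroup.normalizer (H : Set G) := inv_mem ha
    have := (Subgroup.mem_normalizer_iff.1 ha' h).1 hh
    rwa [inv_inv] at this
  · intro a ha h hh hh'
    exact bp2t12_ti H hp ha hh hh'
  · intro a a' ha ha' z hz s s' hs hs' hzs
    by_contra hz1
    have hsinv : a⁻¹ * s⁻¹ * a ∈ H := by
      have := H.inv_mem hs
      have e : (a⁻¹ * s * a)⁻¹ = a⁻¹ * s⁻¹ * a := by group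
      rwa [e] at this
    rcases hcrit z s' s⁻¹ a' a hz hz1 hs' hsinv hzs with h | h
    · have hs'1 : s' = 1 := bp2t12_ti H hp ha' h hs'
      have hs_mem : s ∈ H := by
        have : s = z⁻¹ := by rw [hzs, hs'1]; group
        rw [this]; exact H.inv_mem hz
      have hs1 : s = 1 := bp2t12_ti H hp ha hs_mem hs
      apply hz1
      rw [hzs, hs'1, hs1]; group
    · have hs_mem : s ∈ H := by
        have := H.inv_mem h
        rwa [inv_inv] at this
      have hs1 : s = 1 := bp2t12_ti H hp ha hs_mem hs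
      have hzs' : z = s' := by rw [hzs, hs1]; group
      rw [← hzs'] at hs'
      exact hz1 (bp2t12_ti H hp ha' hz hs')

end Toolbox

end Cfsg.Agent.Lib.Helper28.BP2
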