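import Mathlib
import Cfsg.Agent.Lib.helper3.CEUO.Defs2
import Cfsg.Agent.Lib.Helper27.STU.Defs3
import Cfsg.Agent.Lib.Helper27.STU.Frob
import Cfsg.Agent.Lib.Helper27.STUH8

/-!
# Project CEUO (sub-designer helper3), row R1 (`Hm_cj_Xp Hm_cj_Xm`), VERBATIM (helper25).
-/

set_option autoImplicit false

namespace Cfsg.Agent.Lib.helper3.CEUO

open Cfsg.Agent.Lib.helper15.St2 Cfsg.Agent.Lib.helper7.Ce Cfsg.Agent.Lib.helper3.STC Cfsg.Agent.Lib.Helper27.STU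
  Cfsg.Agent.Lib.helper7.CEU

open Cfsg.Agent.Lib.helper7.CEC (I2 I3 I4 U2 U3)

section R

variable {F : Type*} [Field F] [StarRing F] {od : Prop}

theorem ceuor1_Dm_Xp {r : F} (hr : r ≠ 0) (ξ : Lam F od) :
    stuh8_Dm r * XpM ξ = XpM (Lam.act (r * r / star r) ξ) * stuh8_Dm r := by
  have hr' : star r ≠ 0 := stuh8_star_ne hr
  ext i j
  fin_cases i <;> fin_cases j <;>
    simp [XpM, stuh8_Dm, Matrix.mul_apply, Fin.sum_univ_three, star_div₀] <;> field_simp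

theorem ceuor1_Dm_Xm {r : F} (hr : r ≠ 0) (ξ : Lam F od) :
    stuh8_Dm r * XmM ξ = XmM (Lam.act (r / (star r * star r)) ξ) * stuh8_Dm r := by
  have hr' : star r ≠ 0 := stuh8_star_ne hr
  ext i j
  fin_cases i <;> fin_cases j <;>
    simp [XmM, stuh8_Dm, Matrix.mul_apply, Fin.sum_univ_three, star_div₀] <;> field_simp

/-- R1 [S-M]  in the rank one group (`cj g x = g * x * g⁻¹`): it is enough to show `H * XpU ξ = XpU ξ' * H` (`mul_inv_eq_iff_eq_mul`); `SUm.mat_injective`, `SUm.mat_mul`, `SUm.mat_XpU`, `stuh8_mat_H h1 h2`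
(`SUm.mat H = stuh8_Dm r`, the diagonal matrix `r, star r / r, (star r)⁻¹`), then entrywise (`ext i j; fin_cases i <;> fin_cases j`; `XpM`, `stuh8_Dm`, `Lam.act_v`, `Lam.act_c`, `star_div₀`, `star_mul'`, `field_simp`). -/
theorem Hm_cj_Xp {ξ₁ ξ₂ : Lam F od} (h1 : ξ₁.c ≠ 0) (h2 : ξ₂.c ≠ 0) (ξ : Lam F od) :
    cj (stuh8_Wm ξ₁ * (stuh8_Wm ξ₂)⁻¹) (XpU ξ) =
      XpU (Lam.act ((ξ₁.c / ξ₂.c) * (ξ₁.c / ξ₂.c) / star (ξ₁.c / ξ₂.c)) ξ) := by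
  have hH := stuh8_mat_H h1 h2
  generalize stuh8_Wm ξ₁ * (stuh8_Wm ξ₂)⁻¹ = H at hH ⊢
  unfold cj
  rw [mul_inv_eq_iff_eq_mul]
  apply SUm.mat_injective
  rw [SUm.mat_mul, SUm.mat_mul, SUm.mat_XpU, SUm.mat_XpU, hH]
  exact ceuor1_Dm_Xp (div_ne_zero h1 h2) ξ

theorem Hm_cj_Xm {ξ₁ ξ₂ : Lam F od} (h1 : ξ₁.c ≠ 0) (h2 : ξ₂.c ≠ 0) (ξ : Lam F od) :
    cj (stuh8_Wm ξ₁ * (stuh8_Wm ξ₂)⁻¹) (XmU ξ) =
      XmU (Lam.act ((ξ₁.c / ξ₂.c) / (star (ξ₁.c / ξ₂.c) * star (ξ₁.c / ξ₂.c))) ξ) := by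
  have hH := stuh8_mat_H h1 h2
  generalize stuh8_Wm ξ₁ * (stuh8_Wm ξ₂)⁻¹ = H at hH ⊢
  unfold cj
  rw [mul_inv_eq_iff_eq_mul]
  apply SUm.mat_injective
  rw [SUm.mat_mul, SUm.mat_mul, SUm.mat_XmU, SUm.mat_XmU, hH]
  exact ceuor1_Dm_Xm (div_ne_zero h1 h2) ξ

end R

end Cfsg.Agent.Lib.helper3.CEUO
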