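import Mathlib
import Cfsg.Agent.Lib.Helper20.GLO.Defs
import Cfsg.Agent.Lib.Helper20.GLEI3

/-!
# Project GLO (designer helper20), rows I3 I5 I6 I7 I8 (helper25), CORES (port of GLE I3 - I7, `Helper20/GLEI3.lean`; I8 is new)

`hxs` is the statement of row E5 (`xrs_pair`), `hxl` the statement of row E6 (`xrl_pair`).
-/

set_option autoImplicit false
set_option linter.unusedSectionVars false

namespace Cfsg.Agent.Lib.Helper20.GLO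

open Cfsg.Agent.Lib.helper3.STC (ng ab ab_eq_iff ab_ng ng_ng)
open Cfsg.Agent.Lib.helper3.SPM (Pts pe sgm sn sig2 ptsFin pe2 pe2_injective pe2_ng ab_pe2 exists_pe2 pe2_sn_fst pe2_sn_snd
  sn_pe2_fst)
open Cfsg.Agent.Lib.Helper27.STU
open Cfsg.Agent.Lib.helper17.SLP (cm)
open Cfsg.Agent.Lib.Helper20.GLE (lamC lamP glei3_pair glei3_ab_ne glei3_ab_ne' glei2_sn_ne glei5_ab_ne glei5_ne_of_ab glei7_ab_pi)

universe u v w x v' y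

section main
variable {F : Type u} [Field F] [StarRing F] {L : Type x} [Group L] {ι : Type w} [Fintype ι] [DecidableEq ι] {G : Type v} [Group G]
  (S₂ : SysU F True (Fin 2) L) (swL : L) (p : Pts ι) (ν : Equiv.Perm ι →* G) (lam : L →* G)

/-! ## I3 -/

theorem gloi3_sym_core
    (hxs : ∀ {i j : ι}, i ≠ j → ∀ {a' b' : Fin 2 ⊕ Fin 2}, ab a' ≠ ab b' → ∀ t : F,
      lamP p ν lam i j (S₂.xs a' b' t) = xrs S₂ p ν lam (pe2 i j a') (pe2 i j b') t)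
    {a b : ι ⊕ ι} (hab : ab a ≠ ab b) (t : F) :
    xrs S₂ p ν lam a b t = xrs S₂ p ν lam (ng b) (ng a) (-(star t)) := by
  have h1 := hxs hab (glei3_ab_ne a b) t
  rw [glei3_pair.1, glei3_pair.2] at h1
  have h2 := hxs hab (a' := ng (sn b 1)) (b' := ng (sn a 0))
    (by rw [ab_ng, ab_ng]; exact glei3_ab_ne' a b) (-(star t))
  rw [pe2_ng, pe2_ng, glei3_pair.1, glei3_pair.2] at h2
  rw [← h1, ← h2, S₂.sym _ _ (glei2_sn_ne a b).1 (glei2_sn_ne a b).2]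

/-! ## I5 -/

theorem gloi5_ss_core
    (hxs : ∀ {i j : ι}, i ≠ j → ∀ {a' b' : Fin 2 ⊕ Fin 2}, ab a' ≠ ab b' → ∀ t : F,
      lamP p ν lam i j (S₂.xs a' b' t) = xrs S₂ p ν lam (pe2 i j a') (pe2 i j b') t)
    {i j : ι} (hij : i ≠ j) {a b c d : ι ⊕ ι}
    (ha : ab a = i ∨ ab a = j) (hb : ab b = i ∨ ab b = j) (hc : ab c = i ∨ ab c = j) (hd : ab d = i ∨ ab d = j)
    (hab : ab a ≠ ab b) (hcd : ab c ≠ ab d) (hbc : b ≠ c) (had : a ≠ d) (hbd : b ≠ ng d) (hac : a ≠ ng c) (t u : F) :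
    xrs S₂ p ν lam a b t * xrs S₂ p ν lam c d u = xrs S₂ p ν lam c d u * xrs S₂ p ν lam a b t := by
  obtain ⟨a', rfl⟩ := exists_pe2 i j ha
  obtain ⟨b', rfl⟩ := exists_pe2 i j hb
  obtain ⟨c', rfl⟩ := exists_pe2 i j hc
  obtain ⟨d', rfl⟩ := exists_pe2 i j hd
  have hab' := glei5_ab_ne hab
  have hcd' := glei5_ab_ne hcd
  rw [← hxs hij hab', ← hxs hij hcd', ← map_mul, ← map_mul]
  congr 1
  apply S₂.comm_ss a' b' c' d' (glei5_ne_of_ab hab').1 (glei5_ne_of_ab hab').2 (glei5_ne_of_ab hcd').1 (glei5_ne_of_ab hcd').2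
  · intro h
    exact hbc (by rw [h])
  · intro h
    exact had (by rw [h])
  · intro h
    exact hbd (by rw [h, pe2_ng])
  · intro h
    exact hac (by rw [h, pe2_ng])

theorem gloi5_ls_core
    (hxs : ∀ {i j : ι}, i ≠ j → ∀ {a' b' : Fin 2 ⊕ Fin 2}, ab a' ≠ ab b' → ∀ t : F,
      lamP p ν lam i j (S₂.xs a' b' t) = xrs S₂ p ν lam (pe2 i j a') (pe2 i j b') t)
    (hxl : ∀ {i j : ι}, i ≠ j → ∀ (a' : Fin 2 ⊕ Fin 2) (ξ : Lam F True),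
      lamP p ν lam i j (S₂.xl a' ξ) = xrl S₂ p ν lam (pe2 i j a') ξ)
    {i j : ι} (hij : i ≠ j) {a c d : ι ⊕ ι}
    (ha : ab a = i ∨ ab a = j) (hc : ab c = i ∨ ab c = j) (hd : ab d = i ∨ ab d = j)
    (hcd : ab c ≠ ab d) (hca : c ≠ ng a) (hda : d ≠ a) (ξ : Lam F True) (u : F) :
    xrl S₂ p ν lam a ξ * xrs S₂ p ν lam c d u = xrs S₂ p ν lam c d u * xrl S₂ p ν lam a ξ := by
  obtain ⟨a', rfl⟩ := exists_pe2 i j ha
  obtain ⟨c', rfl⟩ := exists_pe2 i j hc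
  obtain ⟨d', rfl⟩ := exists_pe2 i j hd
  have hcd' := glei5_ab_ne hcd
  rw [← hxl hij, ← hxs hij hcd', ← map_mul, ← map_mul]
  congr 1
  apply S₂.comm_ls a' c' d' (glei5_ne_of_ab hcd').1 (glei5_ne_of_ab hcd').2
  · intro h
    exact hca (by rw [h, pe2_ng])
  · intro h
    exact hda (by rw [h])

/-! ## I6 -/

theorem gloi6_wrl_core
    (hxl : ∀ {i j : ι}, i ≠ j → ∀ (a' : Fin 2 ⊕ Fin 2) (ξ : Lam F True),
      lamP p ν lam i j (S₂.xl a' ξ) = xrl S₂ p ν lam (pe2 i j a') ξ)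
    {i j : ι} (hij : i ≠ j) (a' : Fin 2 ⊕ Fin 2) (ξ : Lam F True) :
    lamP p ν lam i j (S₂.wl a' ξ) = wrl S₂ p ν lam (pe2 i j a') ξ := by
  unfold SysU.wl wrl
  rw [map_mul, map_mul, hxl hij, hxl hij, hxl hij, pe2_ng]

theorem gloi6_hrl_core
    (hxl : ∀ {i j : ι}, i ≠ j → ∀ (a' : Fin 2 ⊕ Fin 2) (ξ : Lam F True),
      lamP p ν lam i j (S₂.xl a' ξ) = xrl S₂ p ν lam (pe2 i j a') ξ)
    {i j : ι} (hij : i ≠ j) (a' : Fin 2 ⊕ Fin 2) (ξ η : Lam F True) :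
    lamP p ν lam i j (S₂.hl a' ξ η) = hrl S₂ p ν lam (pe2 i j a') ξ η := by
  unfold SysU.hl hrl
  rw [map_mul, map_inv, gloi6_wrl_core S₂ p ν lam hxl hij, gloi6_wrl_core S₂ p ν lam hxl hij]

/-! ## I7 -/

theorem gloi7_s_core
    (hxs : ∀ {i j : ι}, i ≠ j → ∀ {a' b' : Fin 2 ⊕ Fin 2}, ab a' ≠ ab b' → ∀ t : F,
      lamP p ν lam i j (S₂.xs a' b' t) = xrs S₂ p ν lam (pe2 i j a') (pe2 i j b') t)
    {i j : ι} (hij : i ≠ j) {g : L} {π' : Equiv.Perm (Fin 2 ⊕ Fin 2)}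
    {d' : Fin 2 ⊕ Fin 2 → F} {d0' : F} (hg : S₂.IsMon g π' d' d0') {a' b' : Fin 2 ⊕ Fin 2} (hab' : ab a' ≠ ab b') (t : F) :
    lamP p ν lam i j g * xrs S₂ p ν lam (pe2 i j a') (pe2 i j b') t * (lamP p ν lam i j g)⁻¹ =
      xrs S₂ p ν lam (pe2 i j (π' a')) (pe2 i j (π' b')) (d' a' * (d' b')⁻¹ * t) := by
  have h := hg.2.1 a' b' (glei5_ne_of_ab hab').1 (glei5_ne_of_ab hab').2 t
  unfold Cfsg.Agent.Lib.helper15.St2.cj at h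
  rw [← hxs hij hab', ← hxs hij (glei7_ab_pi hg.1 hab'),
    ← map_inv, ← map_mul, ← map_mul, h]

theorem gloi7_l_core
    (hxl : ∀ {i j : ι}, i ≠ j → ∀ (a' : Fin 2 ⊕ Fin 2) (ξ : Lam F True),
      lamP p ν lam i j (S₂.xl a' ξ) = xrl S₂ p ν lam (pe2 i j a') ξ)
    {i j : ι} (hij : i ≠ j) {g : L} {π' : Equiv.Perm (Fin 2 ⊕ Fin 2)}
    {d' : Fin 2 ⊕ Fin 2 → F} {d0' : F} (hg : S₂.IsMon g π' d' d0') (a' : Fin 2 ⊕ Fin 2) (ξ : Lam F True) :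
    lamP p ν lam i j g * xrl S₂ p ν lam (pe2 i j a') ξ * (lamP p ν lam i j g)⁻¹ =
      xrl S₂ p ν lam (pe2 i j (π' a')) (Lam.act (d' a' * d0'⁻¹) ξ) := by
  have h := hg.2.2 a' ξ
  unfold Cfsg.Agent.Lib.helper15.St2.cj at h
  rw [← hxl hij, ← hxl hij, ← map_inv, ← map_mul, ← map_mul, h]

/-! ## I8 -/

theorem gloi8_hh_core
    (hxs : ∀ {i j : ι}, i ≠ j → ∀ {a' b' : Fin 2 ⊕ Fin 2}, ab a' ≠ ab b' → ∀ t : F,
      lamP p ν lam i j (S₂.xs a' b' t) = xrs S₂ p ν lam (pe2 i j a') (pe2 i j b') t)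
    (hxl : ∀ {i j : ι}, i ≠ j → ∀ (a' : Fin 2 ⊕ Fin 2) (ξ : Lam F True),
      lamP p ν lam i j (S₂.xl a' ξ) = xrl S₂ p ν lam (pe2 i j a') ξ)
    {a b : ι ⊕ ι} (hab : ab a ≠ ab b) (ξ η : Lam F True) :
    xrl S₂ p ν lam a ξ * xrl S₂ p ν lam b η * (xrl S₂ p ν lam a ξ)⁻¹ * (xrl S₂ p ν lam b η)⁻¹ =
      xrs S₂ p ν lam a (ng b) (-(ξ.v * star η.v)) := by
  have h1 := hxl hab (sn a 0) ξ
  rw [glei3_pair.1] at h1
  have h2 := hxl hab (sn b 1) η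
  rw [glei3_pair.2] at h2
  have h3 := hxs hab (a' := sn a 0) (b' := ng (sn b 1))
    (by rw [ab_ng]; exact glei3_ab_ne a b) (-(ξ.v * star η.v))
  rw [pe2_ng, glei3_pair.1, glei3_pair.2] at h3
  rw [← h1, ← h2, ← h3, ← map_inv, ← map_inv, ← map_mul, ← map_mul, ← map_mul,
    S₂.hh _ _ (glei2_sn_ne a b).1 (glei2_sn_ne a b).2]

end main

end Cfsg.Agent.Lib.Helper20.GLO
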