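import Mathlib
import Cfsg.Agent.Lib.Helper20.GLO.Defs
import Cfsg.Agent.Lib.Helper20.GLEI3

/-!
# Project GLO (designer helper20), row I4 (helper25), CORE: `xrs_ssl`, `xr_ls`, `xrs_rel` (port of GLE I4, `Helper20/GLEI3.lean`)

`hxs` is the statement of row E5 (`xrs_pair`), `hxl` the statement of row E6 (`xrl_pair`).
-/

set_option autoImplicit false
set_option linter.unusedSectionVars false

namespace Cfsg.Agent.Lib.Helper20.GLO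

open Cfsg.Agent.Lib.helper3.STC (ng ab ab_eq_iff ab_ng ng_ng)
open Cfsg.Agent.Lib.helper3.SPM (Pts pe sgm sn sig2 ptsFin pe2 pe2_injective pe2_ng ab_pe2 exists_pe2 pe2_sn_fst pe2_sn_snd
  sn_pe2_fst)
open Cfsg.Agent.Lib.Helper27.STU
open Cfsg.Agent.Lib.helper17.SLP (cm)
open Cfsg.Agent.Lib.Helper20.GLE (lamC lamP glei3_pair glei3_ab_ne glei3_ab_ne' glei2_sn_ne)

universe u v w x v' y

section main
variable {F : Type u} [Field F] [StarRing F] {L : Type x} [Group L] {ι : Type w} [Fintype ι] [DecidableEq ι] {G : Type v} [Group G]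
  (S₂ : SysU F True (Fin 2) L) (swL : L) (p : Pts ι) (ν : Equiv.Perm ι →* G) (lam : L →* G)

theorem gloi4_ssl_core
    (hxs : ∀ {i j : ι}, i ≠ j → ∀ {a' b' : Fin 2 ⊕ Fin 2}, ab a' ≠ ab b' → ∀ t : F,
      lamP p ν lam i j (S₂.xs a' b' t) = xrs S₂ p ν lam (pe2 i j a') (pe2 i j b') t)
    (hxl : ∀ {i j : ι}, i ≠ j → ∀ (a' : Fin 2 ⊕ Fin 2) (ξ : Lam F True),
      lamP p ν lam i j (S₂.xl a' ξ) = xrl S₂ p ν lam (pe2 i j a') ξ)
    {a b : ι ⊕ ι} (hab : ab a ≠ ab b) (t u : F) :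
    xrs S₂ p ν lam a b t * xrs S₂ p ν lam b (ng a) u * (xrs S₂ p ν lam a b t)⁻¹ * (xrs S₂ p ν lam b (ng a) u)⁻¹ =
      xrl S₂ p ν lam a (Lam.tr (t * u)) := by
  have h1 := hxs hab (glei3_ab_ne a b) t
  rw [glei3_pair.1, glei3_pair.2] at h1
  have h2 := hxs hab (a' := sn b 1) (b' := ng (sn a 0))
    (by rw [ab_ng]; exact glei3_ab_ne' a b) u
  rw [pe2_ng, glei3_pair.1, glei3_pair.2] at h2
  have h3 := hxl hab (sn a 0) (Lam.tr (t * u))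
  rw [glei3_pair.1] at h3
  rw [← h1, ← h2, ← h3, ← map_inv, ← map_inv, ← map_mul, ← map_mul, ← map_mul,
    S₂.ssl _ _ (glei2_sn_ne a b).1 (glei2_sn_ne a b).2]

theorem gloi4_ls_core
    (hxs : ∀ {i j : ι}, i ≠ j → ∀ {a' b' : Fin 2 ⊕ Fin 2}, ab a' ≠ ab b' → ∀ t : F,
      lamP p ν lam i j (S₂.xs a' b' t) = xrs S₂ p ν lam (pe2 i j a') (pe2 i j b') t)
    (hxl : ∀ {i j : ι}, i ≠ j → ∀ (a' : Fin 2 ⊕ Fin 2) (ξ : Lam F True),
      lamP p ν lam i j (S₂.xl a' ξ) = xrl S₂ p ν lam (pe2 i j a') ξ)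
    {a b : ι ⊕ ι} (hab : ab a ≠ ab b) (ξ : Lam F True) (u : F) :
    xrl S₂ p ν lam a ξ * xrs S₂ p ν lam (ng a) b u * (xrl S₂ p ν lam a ξ)⁻¹ * (xrs S₂ p ν lam (ng a) b u)⁻¹ =
      xrs S₂ p ν lam a b (ξ.c * u) * xrl S₂ p ν lam (ng b) (Lam.act (star u) (Lam.bar ξ)) := by
  have h1 := hxl hab (sn a 0) ξ
  rw [glei3_pair.1] at h1
  have h2 := hxs hab (a' := ng (sn a 0)) (b' := sn b 1)
    (by rw [ab_ng]; exact glei3_ab_ne a b) u
  rw [pe2_ng, glei3_pair.1, glei3_pair.2] at h2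
  have h3 := hxs hab (glei3_ab_ne a b) (ξ.c * u)
  rw [glei3_pair.1, glei3_pair.2] at h3
  have h4 := hxl hab (ng (sn b 1)) (Lam.act (star u) (Lam.bar ξ))
  rw [pe2_ng, glei3_pair.2] at h4
  rw [← h1, ← h2, ← h3, ← h4, ← map_inv, ← map_inv, ← map_mul, ← map_mul, ← map_mul, ← map_mul,
    S₂.ls _ _ (glei2_sn_ne a b).1 (glei2_sn_ne a b).2]

theorem gloi4_rel_core
    (hxs : ∀ {i j : ι}, i ≠ j → ∀ {a' b' : Fin 2 ⊕ Fin 2}, ab a' ≠ ab b' → ∀ t : F,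
      lamP p ν lam i j (S₂.xs a' b' t) = xrs S₂ p ν lam (pe2 i j a') (pe2 i j b') t)
    {a b : ι ⊕ ι} (hab : ab a ≠ ab b) (t u : F) (ht : t ≠ 0) :
    Cfsg.Agent.Lib.helper15.St2.cj (xrs S₂ p ν lam a b t * xrs S₂ p ν lam b a (-t⁻¹) * xrs S₂ p ν lam a b t) (xrs S₂ p ν lam a b u) =
      xrs S₂ p ν lam b a (-(t⁻¹ ^ 2 * u)) := by
  have h1 : ∀ s, lamP p ν lam (ab a) (ab b) (S₂.xs (sn a 0) (sn b 1) s) = xrs S₂ p ν lam a b s := by
    intro s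
    have := hxs hab (glei3_ab_ne a b) s
    rwa [glei3_pair.1, glei3_pair.2] at this
  have h2 : ∀ s, lamP p ν lam (ab a) (ab b) (S₂.xs (sn b 1) (sn a 0) s) = xrs S₂ p ν lam b a s := by
    intro s
    have := hxs hab (glei3_ab_ne' a b) s
    rwa [glei3_pair.1, glei3_pair.2] at this
  unfold Cfsg.Agent.Lib.helper15.St2.cj
  have h := S₂.rel _ _ (glei2_sn_ne a b).1 (glei2_sn_ne a b).2 t u ht
  unfold Cfsg.Agent.Lib.helper15.St2.cj at h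
  rw [← h1, ← h1, ← h2, ← h2, ← map_mul, ← map_mul, ← map_inv, ← map_mul, ← map_mul, h]

end main

end Cfsg.Agent.Lib.Helper20.GLO
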