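import Mathlib
import Cfsg.Agent.Lib.Helper20.GLO.Defs
import Cfsg.Agent.Lib.Helper9.GLOE5
import Cfsg.Agent.Lib.Helper25.GLOI3core
import Cfsg.Agent.Lib.Helper25.GLOI4core

/-!
# Project GLO (designer helper20), rows I3 I4 I5 I6 I7 I8 (helper25), VERBATIM:
`xrs_sym`, `xrs_ssl xr_ls xrs_rel`, `xrs_comm_pair xr_comm_ls_pair`, `wrl_pair hrl_pair`, `pmon_pair_s pmon_pair_l`, `xrl_hh`

The cores of `Helper25.GLOI3core`, `Helper25.GLOI4core` applied to the landed rows E5 / E6 (`Helper9.GLOE5`: `xrs_pair`, `xrl_pair`).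
-/

set_option autoImplicit false
set_option linter.unusedSectionVars false
set_option linter.unusedVariables false

namespace Cfsg.Agent.Lib.Helper20.GLO

open Cfsg.Agent.Lib.helper3.STC (ng ab)
open Cfsg.Agent.Lib.helper3.SPM (Pts pe sgm sn sig2 ptsFin pe2)
open Cfsg.Agent.Lib.Helper27.STU
open Cfsg.Agent.Lib.helper17.SLP (cm)
open Cfsg.Agent.Lib.Helper20.GLE (lamC lamP)

universe u v w x v' y

section main
variable {F : Type u} [Field F] [StarRing F] {L : Type x} [Group L] {ι : Type w} [Fintype ι] [DecidableEq ι] {G : Type v} [Group G]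
  (S₂ : SysU F True (Fin 2) L) (swL : L) (p : Pts ι) (ν : Equiv.Perm ι →* G) (lam : L →* G)

/-- I3 -/
theorem xrs_sym (H : Glue S₂ swL p ν lam) (hU : UFacts S₂ swL) {a b : ι ⊕ ι} (hab : ab a ≠ ab b) (t : F) :
    xrs S₂ p ν lam a b t = xrs S₂ p ν lam (ng b) (ng a) (-(star t)) :=
  gloi3_sym_core S₂ p ν lam (fun hij _ _ hab' t => xrs_pair S₂ swL p ν lam H hU hij hab' t) hab t

/-- I4 -/
theorem xrs_ssl (H : Glue S₂ swL p ν lam) (hU : UFacts S₂ swL) {a b : ι ⊕ ι} (hab : ab a ≠ ab b) (t u : F) :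
    xrs S₂ p ν lam a b t * xrs S₂ p ν lam b (ng a) u * (xrs S₂ p ν lam a b t)⁻¹ * (xrs S₂ p ν lam b (ng a) u)⁻¹ =
      xrl S₂ p ν lam a (Lam.tr (t * u)) :=
  gloi4_ssl_core S₂ p ν lam (fun hij _ _ hab' t => xrs_pair S₂ swL p ν lam H hU hij hab' t)
    (fun hij a' ξ => xrl_pair S₂ swL p ν lam H hU hij a' ξ) hab t u

theorem xr_ls (H : Glue S₂ swL p ν lam) (hU : UFacts S₂ swL) {a b : ι ⊕ ι} (hab : ab a ≠ ab b) (ξ : Lam F True) (u : F) :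
    xrl S₂ p ν lam a ξ * xrs S₂ p ν lam (ng a) b u * (xrl S₂ p ν lam a ξ)⁻¹ * (xrs S₂ p ν lam (ng a) b u)⁻¹ =
      xrs S₂ p ν lam a b (ξ.c * u) * xrl S₂ p ν lam (ng b) (Lam.act (star u) (Lam.bar ξ)) :=
  gloi4_ls_core S₂ p ν lam (fun hij _ _ hab' t => xrs_pair S₂ swL p ν lam H hU hij hab' t)
    (fun hij a' ξ => xrl_pair S₂ swL p ν lam H hU hij a' ξ) hab ξ u

theorem xrs_rel (H : Glue S₂ swL p ν lam) (hU : UFacts S₂ swL) {a b : ι ⊕ ι} (hab : ab a ≠ ab b) (t u : F) (ht : t ≠ 0) :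
    Cfsg.Agent.Lib.helper15.St2.cj (xrs S₂ p ν lam a b t * xrs S₂ p ν lam b a (-t⁻¹) * xrs S₂ p ν lam a b t) (xrs S₂ p ν lam a b u) =
      xrs S₂ p ν lam b a (-(t⁻¹ ^ 2 * u)) :=
  gloi4_rel_core S₂ p ν lam (fun hij _ _ hab' t => xrs_pair S₂ swL p ν lam H hU hij hab' t) hab t u ht

/-- I5 -/
theorem xrs_comm_pair (H : Glue S₂ swL p ν lam) (hU : UFacts S₂ swL) {i j : ι} (hij : i ≠ j) {a b c d : ι ⊕ ι}
    (ha : ab a = i ∨ ab a = j) (hb : ab b = i ∨ ab b = j) (hc : ab c = i ∨ ab c = j) (hd : ab d = i ∨ ab d = j)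
    (hab : ab a ≠ ab b) (hcd : ab c ≠ ab d) (hbc : b ≠ c) (had : a ≠ d) (hbd : b ≠ ng d) (hac : a ≠ ng c) (t u : F) :
    xrs S₂ p ν lam a b t * xrs S₂ p ν lam c d u = xrs S₂ p ν lam c d u * xrs S₂ p ν lam a b t :=
  gloi5_ss_core S₂ p ν lam (fun hij _ _ hab' t => xrs_pair S₂ swL p ν lam H hU hij hab' t)
    hij ha hb hc hd hab hcd hbc had hbd hac t u

theorem xr_comm_ls_pair (H : Glue S₂ swL p ν lam) (hU : UFacts S₂ swL) {i j : ι} (hij : i ≠ j) {a c d : ι ⊕ ι}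
    (ha : ab a = i ∨ ab a = j) (hc : ab c = i ∨ ab c = j) (hd : ab d = i ∨ ab d = j)
    (hcd : ab c ≠ ab d) (hca : c ≠ ng a) (hda : d ≠ a) (ξ : Lam F True) (u : F) :
    xrl S₂ p ν lam a ξ * xrs S₂ p ν lam c d u = xrs S₂ p ν lam c d u * xrl S₂ p ν lam a ξ :=
  gloi5_ls_core S₂ p ν lam (fun hij _ _ hab' t => xrs_pair S₂ swL p ν lam H hU hij hab' t)
    (fun hij a' ξ => xrl_pair S₂ swL p ν lam H hU hij a' ξ) hij ha hc hd hcd hca hda ξ u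

/-- I6 -/
theorem wrl_pair (H : Glue S₂ swL p ν lam) (hU : UFacts S₂ swL) {i j : ι} (hij : i ≠ j) (a' : Fin 2 ⊕ Fin 2) (ξ : Lam F True) :
    lamP p ν lam i j (S₂.wl a' ξ) = wrl S₂ p ν lam (pe2 i j a') ξ :=
  gloi6_wrl_core S₂ p ν lam (fun hij a' ξ => xrl_pair S₂ swL p ν lam H hU hij a' ξ) hij a' ξ

theorem hrl_pair (H : Glue S₂ swL p ν lam) (hU : UFacts S₂ swL) {i j : ι} (hij : i ≠ j) (a' : Fin 2 ⊕ Fin 2) (ξ η : Lam F True) :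
    lamP p ν lam i j (S₂.hl a' ξ η) = hrl S₂ p ν lam (pe2 i j a') ξ η :=
  gloi6_hrl_core S₂ p ν lam (fun hij a' ξ => xrl_pair S₂ swL p ν lam H hU hij a' ξ) hij a' ξ η

/-- I7 -/
theorem pmon_pair_s (H : Glue S₂ swL p ν lam) (hU : UFacts S₂ swL) {i j : ι} (hij : i ≠ j) {g : L} {π' : Equiv.Perm (Fin 2 ⊕ Fin 2)}
    {d' : Fin 2 ⊕ Fin 2 → F} {d0' : F} (hg : S₂.IsMon g π' d' d0') {a' b' : Fin 2 ⊕ Fin 2} (hab' : ab a' ≠ ab b') (t : F) :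
    lamP p ν lam i j g * xrs S₂ p ν lam (pe2 i j a') (pe2 i j b') t * (lamP p ν lam i j g)⁻¹ =
      xrs S₂ p ν lam (pe2 i j (π' a')) (pe2 i j (π' b')) (d' a' * (d' b')⁻¹ * t) :=
  gloi7_s_core S₂ p ν lam (fun hij _ _ hab' t => xrs_pair S₂ swL p ν lam H hU hij hab' t) hij hg hab' t

theorem pmon_pair_l (H : Glue S₂ swL p ν lam) (hU : UFacts S₂ swL) {i j : ι} (hij : i ≠ j) {g : L} {π' : Equiv.Perm (Fin 2 ⊕ Fin 2)}
    {d' : Fin 2 ⊕ Fin 2 → F} {d0' : F} (hg : S₂.IsMon g π' d' d0') (a' : Fin 2 ⊕ Fin 2) (ξ : Lam F True) :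
    lamP p ν lam i j g * xrl S₂ p ν lam (pe2 i j a') ξ * (lamP p ν lam i j g)⁻¹ =
      xrl S₂ p ν lam (pe2 i j (π' a')) (Lam.act (d' a' * d0'⁻¹) ξ) :=
  gloi7_l_core S₂ p ν lam (fun hij a' ξ => xrl_pair S₂ swL p ν lam H hU hij a' ξ) hij hg a' ξ

/-- I8 -/
theorem xrl_hh (H : Glue S₂ swL p ν lam) (hU : UFacts S₂ swL) {a b : ι ⊕ ι} (hab : ab a ≠ ab b) (ξ η : Lam F True) :
    xrl S₂ p ν lam a ξ * xrl S₂ p ν lam b η * (xrl S₂ p ν lam a ξ)⁻¹ * (xrl S₂ p ν lam b η)⁻¹ =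
      xrs S₂ p ν lam a (ng b) (-(ξ.v * star η.v)) :=
  gloi8_hh_core S₂ p ν lam (fun hij _ _ hab' t => xrs_pair S₂ swL p ν lam H hU hij hab' t)
    (fun hij a' ξ => xrl_pair S₂ swL p ν lam H hU hij a' ξ) hab ξ η

end main

end Cfsg.Agent.Lib.Helper20.GLO
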