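import Mathlib
import Cfsg.Agent.Lib.Helper18.OPE.Defs
import Cfsg.Agent.Lib.Helper28.OPEEBASIC

/-!
# OPE row EFIXED (helper25), core: `e_fixed` with the instance of QTYEX (`qty_ex`) as a hypothesis.
`K = ker N`, `I = range N = K^⊥`, a complement `C` of `I` in `K` is nondegenerate of dimension `dim V - 2 rank N`.
-/

set_option autoImplicit false
set_option linter.unusedVariables false

namespace Cfsg.Agent.Lib.Helper18.OPE

open Polynomial Module Cfsg.Agent.Lib.Helper13.S5955 Cfsg.Agent.Lib.helper15.S5972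

/-- the nondegenerate complement of `range N` in `ker N` (`N = x - 1`, `x` an involutory isometry, any characteristic in which EBASIC's relations hold) -/
theorem opeefixed_compl {F : Type*} [Field F]
    {V : Type*} [AddCommGroup V] [Module F V] [FiniteDimensional F V]
    (B : LinearMap.BilinForm F V) (hsymm : ∀ u v, B u v = B v u) (hnd : ∀ u, (∀ v, B u v = 0) → u = 0)
    (N : Module.End F V) (hNN : N * N = 0) (hadj : ∀ u v, B (N u) v = B u (N v)) :
    ∃ C : Submodule F V, C ≤ LinearMap.ker N ∧ SND B C ∧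
      finrank F C + 2 * finrank F (LinearMap.range N) = finrank F V := by
  have hBnd : B.Nondegenerate :=
    ⟨fun u hu => hnd u hu, fun v hv => hnd v (fun u => by rw [hsymm]; exact hv u)⟩
  have hIK : LinearMap.range N ≤ LinearMap.ker N := by
    rintro _ ⟨w, rfl⟩
    rw [LinearMap.mem_ker, ← Module.End.mul_apply, hNN]
    rfl
  have hIperp : LinearMap.range N ≤ B.orthogonal (LinearMap.ker N) := by
    rintro _ ⟨w, rfl⟩ k hk
    change B k (N w) = 0
    rw [← hadj, LinearMap.mem_ker.mp hk]
    simp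
  have hrn := LinearMap.finrank_range_add_finrank_ker N
  have hdim : finrank F (B.orthogonal (LinearMap.ker N)) = finrank F (LinearMap.range N) := by
    rw [LinearMap.BilinForm.finrank_orthogonal hBnd]
    omega
  have hIeq : LinearMap.range N = B.orthogonal (LinearMap.ker N) :=
    Submodule.eq_of_le_of_finrank_eq hIperp hdim.symm
  obtain ⟨C', hC'⟩ := Submodule.exists_isCompl (LinearMap.range N)
  have hdisj : LinearMap.range N ⊓ (C' ⊓ LinearMap.ker N) = ⊥ := by
    apply le_bot_iff.mp
    calc LinearMap.range N ⊓ (C' ⊓ LinearMap.ker N) ≤ LinearMap.range N ⊓ C' :=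
          inf_le_inf_left _ inf_le_left
      _ = ⊥ := hC'.inf_eq_bot
  have hsup : LinearMap.range N ⊔ (C' ⊓ LinearMap.ker N) = LinearMap.ker N := by
    rw [← sup_inf_assoc_of_le C' hIK, hC'.sup_eq_top, top_inf_eq]
  have hfr := Submodule.finrank_sup_add_finrank_inf_eq (LinearMap.range N) (C' ⊓ LinearMap.ker N)
  rw [hsup, hdisj, finrank_bot, add_zero] at hfr
  refine ⟨C' ⊓ LinearMap.ker N, inf_le_right, ?_, by omega⟩
  intro u hu hall
  have huK : u ∈ LinearMap.ker N := hu.2
  have hu1 : u ∈ B.orthogonal (LinearMap.ker N) := by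
    intro k hk
    change B k u = 0
    rw [← hsup] at hk
    obtain ⟨a, ha, c, hc, rfl⟩ := Submodule.mem_sup.mp hk
    obtain ⟨w, rfl⟩ := ha
    rw [map_add, LinearMap.add_apply, hadj, LinearMap.mem_ker.mp huK, map_zero, zero_add, hsymm]
    exact hall c hc
  rw [← hIeq] at hu1
  have : u ∈ LinearMap.range N ⊓ (C' ⊓ LinearMap.ker N) := ⟨hu1, hu⟩
  rw [hdisj] at this
  exact (Submodule.mem_bot F).mp this

/-- EFIXED core: `e_fixed` with the instance of QTYEX as hypothesis -/
theorem opeefixed_core {F : Type*} [Field F] [Fintype F] (h2 : (2 : F) = 0)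
    {V : Type*} [AddCommGroup V] [Module F V] [FiniteDimensional F V]
    {Q : QuadraticForm F V} {x : Module.End F V} (h : QCtx 2 Q x) (hVe : Even (finrank F V))
    (e : ℕ) (he : Even e) (he0 : 0 < e)
    (hlt : e + 2 * finrank F (LinearMap.range (x - 1)) < finrank F V)
    (s : ℤ) (hs : s = 1 ∨ s = -1)
    (hEX : ∀ N : Submodule F V, SND (QuadraticMap.polarBilin Q) N → Even (finrank F N) →
      e < finrank F N → ∃ W : Submodule F V, W ≤ N ∧ SND (QuadraticMap.polarBilin Q) W ∧
        finrank F W = e ∧ QTy Q W s) : QNDt Q x e s := by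
  obtain ⟨hNN, hadj, -, -⟩ := e_basic h2 h
  obtain ⟨C, hCK, hCnd, hCdim⟩ := opeefixed_compl (QuadraticMap.polarBilin Q)
    (opeebasic_polar_symm Q) h.nd (x - 1) hNN hadj
  have hCev : Even (finrank F C) := by
    rcases hVe with ⟨a, ha⟩
    exact ⟨a - finrank F (LinearMap.range (x - 1)), by omega⟩
  obtain ⟨W, hWC, hWnd, hWe, hWty⟩ := hEX C hCnd hCev (by omega)
  refine ⟨W, ?_, hWnd, hWe, hWty⟩
  intro w hw
  have h1 : (x - 1) w = 0 := LinearMap.mem_ker.mp (hCK (hWC hw))
  rw [LinearMap.sub_apply, Module.End.one_apply, sub_eq_zero] at h1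
  rw [h1]
  exact hw

end Cfsg.Agent.Lib.Helper18.OPE
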