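import Mathlib
import Cfsg.Agent.Lib.Helper19.ORE.Defs
import Cfsg.Agent.Lib.helper14.RuB

/-! # ORE row H1 (`peel`): Sourour's step. (helper25) -/

set_option autoImplicit false

namespace Cfsg.Agent.Lib.Helper19.ORE

open Polynomial Module

universe u v

section
variable {F : Type u} [Field F] {V : Type v} [AddCommGroup V] [Module F V]

theorem oreh1_mem_left (v u : V) : v ∈ Submodule.span F (Set.range ![v, u]) :=
  Submodule.subset_span ⟨0, rfl⟩

theorem oreh1_mem_right (v u : V) : u ∈ Submodule.span F (Set.range ![v, u]) :=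
  Submodule.subset_span ⟨1, rfl⟩

/-- functional with values 1, 1 on the span of an independent pair -/
theorem oreh1_dual_pair {v u : V} (hli : LinearIndependent F ![v, u]) :
    ∃ f : (Submodule.span F (Set.range ![v, u])) →ₗ[F] F,
      f ⟨v, oreh1_mem_left v u⟩ = 1 ∧ f ⟨u, oreh1_mem_right v u⟩ = 1 := by
  refine ⟨(Module.Basis.span hli).constr F (fun _ => (1 : F)), ?_, ?_⟩
  · have h0 := (Module.Basis.span hli).constr_basis F (fun _ => (1 : F)) 0
    have e0 : Module.Basis.span hli 0 = ⟨v, oreh1_mem_left v u⟩ := by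
      rw [Module.Basis.span_apply]; rfl
    rw [e0] at h0; exact h0
  · have h0 := (Module.Basis.span hli).constr_basis F (fun _ => (1 : F)) 1
    have e0 : Module.Basis.span hli 1 = ⟨u, oreh1_mem_right v u⟩ := by
      rw [Module.Basis.span_apply]; rfl
    rw [e0] at h0; exact h0

theorem oreh1_exists_w {v u : V} (hli : LinearIndependent F ![v, u]) :
    ∃ w : Dual F V, w v = 1 ∧ w u = 1 := by
  obtain ⟨f, hf1, hf2⟩ := oreh1_dual_pair hli
  obtain ⟨w, hw⟩ := LinearMap.exists_extend f
  refine ⟨w, ?_, ?_⟩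
  · have := LinearMap.congr_fun hw ⟨v, oreh1_mem_left v u⟩
    simp only [LinearMap.comp_apply, Submodule.subtype_apply] at this
    rw [this]; exact hf1
  · have := LinearMap.congr_fun hw ⟨u, oreh1_mem_right v u⟩
    simp only [LinearMap.comp_apply, Submodule.subtype_apply] at this
    rw [this]; exact hf2

theorem oreh1_exists_w' {v u x : V} (hli : LinearIndependent F ![v, u])
    (hx : x ∉ Submodule.span F (Set.range ![v, u])) :
    ∃ w : Dual F V, w v = 1 ∧ w u = 1 ∧ w x = 0 := by
  obtain ⟨f, hf1, hf2⟩ := oreh1_dual_pair hli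
  obtain ⟨w, hw, hwx⟩ := LinearMap.exists_extend_of_notMem f hx (0 : F)
  refine ⟨w, ?_, ?_, hwx⟩
  · have := LinearMap.congr_fun hw ⟨v, oreh1_mem_left v u⟩
    simp only [LinearMap.comp_apply, Submodule.subtype_apply] at this
    rw [this]; exact hf1
  · have := LinearMap.congr_fun hw ⟨u, oreh1_mem_right v u⟩
    simp only [LinearMap.comp_apply, Submodule.subtype_apply] at this
    rw [this]; exact hf2

theorem oreh1_S_aux (g : V ≃ₗ[F] V) (v : V) (w : Dual F V) (h2 : w (g v) = 1)
    (x : LinearMap.ker w) : g (x : V) - w (g (x : V)) • g v ∈ LinearMap.ker w := by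
  rw [LinearMap.mem_ker, map_sub, map_smul, h2, smul_eq_mul, mul_one, sub_self]

/-- the Schur complement `x ↦ g x - w (g x) • g v` on `ker w` -/
noncomputable def oreh1_S (g : V ≃ₗ[F] V) (v : V) (w : Dual F V) (h2 : w (g v) = 1) :
    LinearMap.ker w →ₗ[F] LinearMap.ker w where
  toFun x := ⟨g (x : V) - w (g (x : V)) • g v, oreh1_S_aux g v w h2 x⟩
  map_add' x y := by
    apply Subtype.ext
    simp only [Submodule.coe_add, map_add, add_smul]
    abel
  map_smul' c x := by
    apply Subtype.ext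
    simp only [Submodule.coe_smul, map_smul, RingHom.id_apply, smul_eq_mul, smul_sub, mul_smul]

theorem oreh1_S_coe (g : V ≃ₗ[F] V) (v : V) (w : Dual F V) (h2 : w (g v) = 1)
    (x : LinearMap.ker w) :
    ((oreh1_S g v w h2 x : LinearMap.ker w) : V) = g (x : V) - w (g (x : V)) • g v := rfl

theorem oreh1_S_inj (g : V ≃ₗ[F] V) (v : V) (w : Dual F V) (h1 : w v = 1) (h2 : w (g v) = 1) :
    Function.Injective (oreh1_S g v w h2) := by
  rw [← LinearMap.ker_eq_bot, LinearMap.ker_eq_bot']
  intro x hx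
  have hx' : g (x : V) - w (g (x : V)) • g v = 0 := by
    have := congrArg (fun y : LinearMap.ker w => (y : V)) hx
    simpa [oreh1_S_coe] using this
  have h3 : g (x : V) = g (w (g (x : V)) • v) := by
    rw [map_smul]; exact sub_eq_zero.mp hx'
  have h4 : (x : V) = w (g (x : V)) • v := g.injective h3
  have h5 : w (x : V) = 0 := LinearMap.mem_ker.mp x.2
  have h6 : w (g (x : V)) = 0 := by
    have := congrArg w h4
    rw [h5, map_smul, h1, smul_eq_mul, mul_one] at this
    exact this.symm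
  apply Subtype.ext
  rw [h4, h6, zero_smul]; rfl

theorem oreh1_sub_mem (g : V ≃ₗ[F] V) (v : V) (w : Dual F V) (h1 : w v = 1) (h2 : w (g v) = 1) :
    g v - v ∈ LinearMap.ker w := by
  rw [LinearMap.mem_ker, map_sub, h1, h2, sub_self]

/-- the block form of `g` relative to `V ≃ F × ker w` -/
theorem oreh1_split [FiniteDimensional F V] (g : V ≃ₗ[F] V) (v : V) (w : Dual F V) (h1 : w v = 1)
    (h2 : w (g v) = 1) :
    Split g (1 : F ≃ₗ[F] F)
      (LinearEquiv.ofInjectiveEndo (oreh1_S g v w h2) (oreh1_S_inj g v w h1 h2)) := by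
  refine ⟨(Cfsg.Agent.Lib.helper14.RuB.eqv v w h1).symm,
    (w ∘ₗ (g : V →ₗ[F] V)) ∘ₗ (LinearMap.ker w).subtype,
    LinearMap.toSpanSingleton F (LinearMap.ker w) ⟨g v - v, oreh1_sub_mem g v w h1 h2⟩, ?_⟩
  intro x₁ x₂
  have hsymm : ((Cfsg.Agent.Lib.helper14.RuB.eqv v w h1).symm).symm (x₁, x₂) = x₁ • v + (x₂ : V) := by
    rw [LinearEquiv.symm_symm]; rfl
  rw [hsymm]
  have hw2 : w (x₂ : V) = 0 := LinearMap.mem_ker.mp x₂.2
  have happ : ∀ y : V, (Cfsg.Agent.Lib.helper14.RuB.eqv v w h1).symm y =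
      (w y, Cfsg.Agent.Lib.helper14.RuB.pW v w h1 y) := fun y => rfl
  rw [happ]
  refine Prod.ext ?_ ?_
  · show w (g (x₁ • v + (x₂ : V))) = (1 : F ≃ₗ[F] F) x₁ + w (g (x₂ : V))
    rw [map_add, map_smul, map_add, map_smul, h2, smul_eq_mul, mul_one]; rfl
  · apply Subtype.ext
    rw [Cfsg.Agent.Lib.helper14.RuB.pW_coe]
    simp only [Submodule.coe_add, LinearMap.toSpanSingleton_apply, Submodule.coe_smul,
      LinearEquiv.coe_ofInjectiveEndo, oreh1_S_coe, LinearMap.comp_apply, Submodule.subtype_apply,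
      LinearEquiv.coe_coe]
    have e1 : ((1 : F ≃ₗ[F] F).symm (w (g (x₂ : V)))) = w (g (x₂ : V)) := rfl
    rw [e1, map_add, map_smul, map_add, map_smul, h2, smul_eq_mul, mul_one]
    module

/-- if `dim V ≥ 3` some admissible `w` has a non-scalar Schur complement -/
theorem oreh1_nonscalar [FiniteDimensional F V] (g : V ≃ₗ[F] V) (v : V)
    (hli : LinearIndependent F ![v, g v]) (h3 : 3 ≤ finrank F V) :
    ∃ (w : Dual F V) (_ : w v = 1) (h2 : w (g v) = 1),
      ¬ ∃ c : F, ∀ x : LinearMap.ker w, oreh1_S g v w h2 x = c • x := by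
  by_contra hcon
  push Not at hcon
  have hpair := LinearIndependent.pair_iff.mp hli
  have key : ∀ w : Dual F V, w v = 1 → w (g v) = 1 →
      ∃ c : F, ∀ x : V, w x = 0 → g x - w (g x) • g v = c • x := by
    intro w h1 h2
    obtain ⟨c, hc⟩ := hcon w h1 h2
    refine ⟨c, fun x hx => ?_⟩
    have := congrArg (fun y : LinearMap.ker w => (y : V)) (hc ⟨x, LinearMap.mem_ker.mpr hx⟩)
    simpa [oreh1_S_coe] using this
  obtain ⟨w₀, h01, h02⟩ := oreh1_exists_w hli
  obtain ⟨c, hc⟩ := key w₀ h01 h02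
  have hrel : ∀ w : Dual F V, w v = 1 → w (g v) = 1 → ∀ c' : F,
      (∀ x : V, w x = 0 → g x - w (g x) • g v = c' • x) →
      g (g v) = (w (g (g v)) + c') • g v - c' • v := by
    intro w h1 h2 c' hc'
    have hx0 : w (g v - v) = 0 := by rw [map_sub, h1, h2, sub_self]
    have h := hc' (g v - v) hx0
    rw [map_sub, map_sub, h2] at h
    generalize w (g (g v)) = a at h ⊢
    have h' : g (g v) = c' • (g v - v) + g v + (a - 1) • g v := by rw [← h]; abel
    rw [h']; module
  have hc_uniq : ∀ w : Dual F V, w v = 1 → w (g v) = 1 → ∀ c' : F,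
      (∀ x : V, w x = 0 → g x - w (g x) • g v = c' • x) → c' = c := by
    intro w h1 h2 c' hc'
    have r1 := hrel w h1 h2 c' hc'
    have r2 := hrel w₀ h01 h02 c hc
    have h0 : (c - c') • v + ((w (g (g v)) + c') - (w₀ (g (g v)) + c)) • g v = 0 := by
      calc (c - c') • v + ((w (g (g v)) + c') - (w₀ (g (g v)) + c)) • g v
          = ((w (g (g v)) + c') • g v - c' • v) - ((w₀ (g (g v)) + c) • g v - c • v) := by module
        _ = 0 := by rw [← r1, ← r2, sub_self]
    exact (sub_eq_zero.mp (hpair _ _ h0).1).symm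
  have hc0 : c ≠ 0 := by
    intro h0
    have r2 := hrel w₀ h01 h02 c hc
    rw [h0, add_zero, zero_smul, sub_zero] at r2
    generalize w₀ (g (g v)) = a at r2
    have h4 : g v = a • v := g.injective (by rw [map_smul]; exact r2)
    have hh : (-a) • v + (1 : F) • g v = 0 := by
      rw [one_smul, neg_smul, ← h4]; abel
    exact one_ne_zero (hpair _ _ hh).2
  have hout : ∀ y : V, y ∉ Submodule.span F (Set.range ![v, g v]) →
      ∃ α : F, g y - c • y = α • g v := by
    intro y hy
    obtain ⟨w, h1, h2, hwy⟩ := oreh1_exists_w' hli hy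
    obtain ⟨c', hc'⟩ := key w h1 h2
    have hcc := hc_uniq w h1 h2 c' hc'
    rw [hcc] at hc'
    refine ⟨w (g y), ?_⟩
    have h := hc' y hwy
    calc g y - c • y = (g y - w (g y) • g v) - c • y + w (g y) • g v := by abel
      _ = w (g y) • g v := by rw [h, sub_self, zero_add]
  obtain ⟨x, hx⟩ : ∃ x, x ∉ Submodule.span F (Set.range ![v, g v]) := by
    by_contra hall
    push Not at hall
    have htop : Submodule.span F (Set.range ![v, g v]) = ⊤ := Submodule.eq_top_iff'.mpr hall
    have hle := finrank_range_le_card (R := F) ![v, g v]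
    rw [Set.finrank, htop, finrank_top, Fintype.card_fin] at hle
    omega
  have hxv : x + v ∉ Submodule.span F (Set.range ![v, g v]) := by
    intro h
    exact hx ((Submodule.add_mem_iff_left _ (oreh1_mem_left v (g v))).mp h)
  obtain ⟨α, hα⟩ := hout x hx
  obtain ⟨β, hβ⟩ := hout (x + v) hxv
  have e : g v - c • v = (β - α) • g v := by
    have e1 : g (x + v) - c • (x + v) - (g x - c • x) = g v - c • v := by
      rw [map_add]; module
    rw [← e1, hα, hβ]; module
  have hfin : (-c) • v + (1 - (β - α)) • g v = 0 := by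
    calc (-c) • v + (1 - (β - α)) • g v = (g v - c • v) - (β - α) • g v := by module
      _ = 0 := by rw [e, sub_self]
  exact hc0 (neg_eq_zero.mp (hpair _ _ hfin).1)

end

section
variable {F : Type u} [Field F]

/-- **H1** (Sourour's step, any field). -/
theorem peel {V : Type v} [AddCommGroup V] [Module F V] [FiniteDimensional F V]
    (g : V ≃ₗ[F] V) (hg : NonScalar g) :
    ∃ (w : Module.Dual F V) (S : LinearMap.ker w ≃ₗ[F] LinearMap.ker w),
      Split g (1 : F ≃ₗ[F] F) S ∧ (3 ≤ finrank F V → NonScalar S) := by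
  obtain ⟨v, hli⟩ : ∃ v, LinearIndependent F ![v, g v] := by
    by_contra hcon
    push Not at hcon
    obtain ⟨a, ha⟩ := LinearMap.exists_eq_smul_id_of_forall_notLinearIndependent
      (f := (g : V →ₗ[F] V)) (fun v => by simpa using hcon v)
    exact hg ⟨a, fun x => by have := LinearMap.congr_fun ha x; simpa using this⟩
  by_cases h3 : 3 ≤ finrank F V
  · obtain ⟨w, h1, h2, hns⟩ := oreh1_nonscalar g v hli h3
    refine ⟨w, LinearEquiv.ofInjectiveEndo (oreh1_S g v w h2) (oreh1_S_inj g v w h1 h2),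
      oreh1_split g v w h1 h2, fun _ => ?_⟩
    rintro ⟨c, hc⟩
    exact hns ⟨c, fun x => by simpa using hc x⟩
  · obtain ⟨w, h1, h2⟩ := oreh1_exists_w hli
    exact ⟨w, LinearEquiv.ofInjectiveEndo (oreh1_S g v w h2) (oreh1_S_inj g v w h1 h2),
      oreh1_split g v w h1 h2, fun h => absurd h h3⟩

end

end Cfsg.Agent.Lib.Helper19.ORE
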