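import Mathlib
import Cfsg.Prelude.Def_GeometricClasses
import Cfsg.Agent.Lib.Helper27.ASC.Defs

/-!
# Project ASC, piece ARITH : residues of `p` modulo `r ∈ {3, 5, 7, 11}` when the order of `p` mod `r` is odd
-/

set_option autoImplicit false
set_option linter.unusedVariables false

namespace Cfsg.Agent.Lib.Helper27.ASC

open Cfsg Cfsg.Geo
open scoped MatrixGroups Matrix

/-- `r ∣ p ^ d - 1` in terms of the residue of `p` -/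
theorem ascarith_key (r p d : ℕ) (hr : 2 ≤ r) (hp : 0 < p) :
    r ∣ p ^ d - 1 ↔ (p % r) ^ d % r = 1 := by
  have h1 : 1 ≤ p ^ d := Nat.one_le_pow _ _ hp
  have h1r : 1 % r = 1 := Nat.mod_eq_of_lt (by omega)
  rw [← Nat.pow_mod]
  constructor
  · intro h
    obtain ⟨c, hc⟩ := h
    have h2 : p ^ d = r * c + 1 := by omega
    rw [h2, Nat.add_mod, Nat.mul_mod_right, zero_add, Nat.mod_mod, h1r]
  · intro h
    apply Nat.dvd_of_mod_eq_zero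
    apply Nat.sub_mod_eq_zero_of_mod_eq
    rw [h, h1r]

/-- the residue of a prime `p ≠ r` modulo the prime `r` is non-zero -/
theorem ascarith_res_ne_zero (r p : ℕ) (hr : r.Prime) (hp : p.Prime) (h : r ≠ p) : p % r ≠ 0 := by
  intro h0
  have h1 : r ∣ p := Nat.dvd_of_mod_eq_zero h0
  exact h ((Nat.prime_dvd_prime_iff_eq hr hp).mp h1)

/-- the common reduction: the data `(a, e)` with `a = p % r`, `e < r` -/
theorem ascarith_reduce (r p e : ℕ) (hr : r.Prime) (hp : p.Prime) (he : Odd e) (h3 : r ≠ p)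
    (hdvd : r ∣ p ^ e - 1) (hmin : ∀ d : ℕ, 0 < d → d < e → ¬ r ∣ p ^ d - 1)
    (hfermat : ∀ a : ℕ, a < r → a ≠ 0 → a ^ (r - 1) % r = 1) :
    p % r < r ∧ p % r ≠ 0 ∧ e < r ∧ e % 2 = 1 ∧ (p % r) ^ e % r = 1 ∧
      ∀ d : ℕ, d < e → 0 < d → (p % r) ^ d % r ≠ 1 := by
  have hr2 : 2 ≤ r := hr.two_le
  have hp0 : 0 < p := hp.pos
  have ha : p % r < r := Nat.mod_lt _ (by omega)
  have ha0 := ascarith_res_ne_zero r p hr hp h3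
  refine ⟨ha, ha0, ?_, Nat.odd_iff.mp he, (ascarith_key r p e hr2 hp0).mp hdvd, ?_⟩
  · by_contra hcon
    push Not at hcon
    have h1 := hfermat (p % r) ha ha0
    exact hmin (r - 1) (by omega) (by omega) ((ascarith_key r p (r - 1) hr2 hp0).mpr h1)
  · intro d hd hd0 h
    exact hmin d hd0 hd ((ascarith_key r p d hr2 hp0).mpr h)

theorem ascarith_fin3 : ∀ a : Fin 3, ∀ e : Fin 3, a.val ≠ 0 → e.val % 2 = 1 → a.val ^ e.val % 3 = 1 →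
    (∀ d : Fin 3, d.val < e.val → 0 < d.val → a.val ^ d.val % 3 ≠ 1) → e.val = 1 ∧ a.val = 1 := by
  decide

theorem ascarith_table3 : ∀ a : ℕ, a < 3 → ∀ e : ℕ, e < 3 → a ≠ 0 → e % 2 = 1 → a ^ e % 3 = 1 →
    (∀ d : ℕ, d < e → 0 < d → a ^ d % 3 ≠ 1) → e = 1 ∧ a = 1 := by
  intro a ha e he h1 h2 h3 h4
  exact ascarith_fin3 ⟨a, ha⟩ ⟨e, he⟩ h1 h2 h3 (fun d hd hd0 => h4 d.val hd hd0)

theorem ascarith_fin5 : ∀ a : Fin 5, ∀ e : Fin 5, a.val ≠ 0 → e.val % 2 = 1 → a.val ^ e.val % 5 = 1 →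
    (∀ d : Fin 5, d.val < e.val → 0 < d.val → a.val ^ d.val % 5 ≠ 1) → e.val = 1 ∧ a.val = 1 := by
  decide

theorem ascarith_table5 : ∀ a : ℕ, a < 5 → ∀ e : ℕ, e < 5 → a ≠ 0 → e % 2 = 1 → a ^ e % 5 = 1 →
    (∀ d : ℕ, d < e → 0 < d → a ^ d % 5 ≠ 1) → e = 1 ∧ a = 1 := by
  intro a ha e he h1 h2 h3 h4
  exact ascarith_fin5 ⟨a, ha⟩ ⟨e, he⟩ h1 h2 h3 (fun d hd hd0 => h4 d.val hd hd0)

theorem ascarith_fin7 : ∀ a : Fin 7, ∀ e : Fin 7, a.val ≠ 0 → e.val % 2 = 1 → a.val ^ e.val % 7 = 1 →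
    (∀ d : Fin 7, d.val < e.val → 0 < d.val → a.val ^ d.val % 7 ≠ 1) → (e.val = 1 ∧ a.val = 1) ∨ (e.val = 3 ∧ (a.val = 2 ∨ a.val = 4)) := by
  decide

theorem ascarith_table7 : ∀ a : ℕ, a < 7 → ∀ e : ℕ, e < 7 → a ≠ 0 → e % 2 = 1 → a ^ e % 7 = 1 →
    (∀ d : ℕ, d < e → 0 < d → a ^ d % 7 ≠ 1) → (e = 1 ∧ a = 1) ∨ (e = 3 ∧ (a = 2 ∨ a = 4)) := by
  intro a ha e he h1 h2 h3 h4
  exact ascarith_fin7 ⟨a, ha⟩ ⟨e, he⟩ h1 h2 h3 (fun d hd hd0 => h4 d.val hd hd0)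

set_option maxRecDepth 100000 in
set_option synthInstance.maxSize 100000 in
set_option synthInstance.maxHeartbeats 2000000 in
theorem ascarith_fin11 : ∀ a : Fin 11, ∀ e : Fin 11, a.val ≠ 0 → e.val % 2 = 1 → a.val ^ e.val % 11 = 1 →
    (∀ d : Fin 11, d.val < e.val → 0 < d.val → a.val ^ d.val % 11 ≠ 1) → (e.val = 1 ∧ a.val = 1) ∨ (e.val = 5 ∧ (a.val = 3 ∨ a.val = 4 ∨ a.val = 5 ∨ a.val = 9)) := by
  decide

theorem ascarith_table11 : ∀ a : ℕ, a < 11 → ∀ e : ℕ, e < 11 → a ≠ 0 → e % 2 = 1 → a ^ e % 11 = 1 →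
    (∀ d : ℕ, d < e → 0 < d → a ^ d % 11 ≠ 1) → (e = 1 ∧ a = 1) ∨ (e = 5 ∧ (a = 3 ∨ a = 4 ∨ a = 5 ∨ a = 9)) := by
  intro a ha e he h1 h2 h3 h4
  exact ascarith_fin11 ⟨a, ha⟩ ⟨e, he⟩ h1 h2 h3 (fun d hd hd0 => h4 d.val hd hd0)

/-- ARITH3 -/
theorem arith3 (p e : ℕ) (hp : p.Prime) (he : Odd e) (h3 : 3 ≠ p) (hdvd : 3 ∣ p ^ e - 1)
    (hmin : ∀ d : ℕ, 0 < d → d < e → ¬ 3 ∣ p ^ d - 1) : e = 1 ∧ p % 3 = 1 := by
  obtain ⟨h1, h2, h4, h5, h6, h7⟩ := ascarith_reduce 3 p e Nat.prime_three hp he h3 hdvd hmin (by decide)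
  exact ascarith_table3 _ h1 e h4 h2 h5 h6 h7

/-- ARITH5 -/
theorem arith5 (p e : ℕ) (hp : p.Prime) (he : Odd e) (h3 : 5 ≠ p) (hdvd : 5 ∣ p ^ e - 1)
    (hmin : ∀ d : ℕ, 0 < d → d < e → ¬ 5 ∣ p ^ d - 1) : e = 1 ∧ p % 5 = 1 := by
  obtain ⟨h1, h2, h4, h5, h6, h7⟩ := ascarith_reduce 5 p e Nat.prime_five hp he h3 hdvd hmin (by decide)
  exact ascarith_table5 _ h1 e h4 h2 h5 h6 h7

/-- ARITH7 -/
theorem arith7 (p e : ℕ) (hp : p.Prime) (he : Odd e) (h3 : 7 ≠ p) (hdvd : 7 ∣ p ^ e - 1)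
    (hmin : ∀ d : ℕ, 0 < d → d < e → ¬ 7 ∣ p ^ d - 1) :
    (e = 1 ∧ p % 7 = 1) ∨ (e = 3 ∧ (p % 7 = 2 ∨ p % 7 = 4)) := by
  obtain ⟨h1, h2, h4, h5, h6, h7⟩ := ascarith_reduce 7 p e (by norm_num) hp he h3 hdvd hmin (by decide)
  exact ascarith_table7 _ h1 e h4 h2 h5 h6 h7

/-- ARITH11 -/
theorem arith11 (p e : ℕ) (hp : p.Prime) (he : Odd e) (h3 : 11 ≠ p) (hdvd : 11 ∣ p ^ e - 1)
    (hmin : ∀ d : ℕ, 0 < d → d < e → ¬ 11 ∣ p ^ d - 1) :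
    (e = 1 ∧ p % 11 = 1) ∨ (e = 5 ∧ (p % 11 = 3 ∨ p % 11 = 4 ∨ p % 11 = 5 ∨ p % 11 = 9)) := by
  obtain ⟨h1, h2, h4, h5, h6, h7⟩ := ascarith_reduce 11 p e (by norm_num) hp he h3 hdvd hmin (by decide)
  exact ascarith_table11 _ h1 e h4 h2 h5 h6 h7

end Cfsg.Agent.Lib.Helper27.ASC
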