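import Mathlib

/-!
# `x ∈ SL_r(q)`, `x ^ r = z`, `(q - 1)_r = r`, `r` odd: `z = 1`
(common core of S5981 row F1 and U82 row E8)
-/

set_option autoImplicit false

namespace Cfsg.Agent.Lib.Helper25.EXCZ

open Polynomial

/-- an element `z ≠ 1` with `z ^ r = 1` is not an `r`-th power when `r² ∤ q - 1` -/
theorem excz_not_pow {F : Type*} [Field F] [Fintype F] (r : ℕ) (hr : r.Prime)
    (hv : padicValNat r (Fintype.card F - 1) = 1) (z : F) (hzr : z ^ r = 1) (hz1 : z ≠ 1) :
    ∀ b : F, b ^ r ≠ z := by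
  classical
  have hfact : Fact r.Prime := ⟨hr⟩
  intro b hb
  have hb0 : b ≠ 0 := by
    intro h0
    rw [h0, zero_pow hr.ne_zero] at hb
    rw [← hb, zero_pow hr.ne_zero] at hzr
    exact zero_ne_one hzr
  let u : Fˣ := Units.mk0 b hb0
  have hu1 : ¬ u ^ r ^ 1 = 1 := by
    intro h
    apply hz1
    have : ((u ^ r ^ 1 : Fˣ) : F) = 1 := by rw [h]; rfl
    rw [pow_one, Units.val_pow_eq_pow_val] at this
    rw [← hb]
    exact this
  have hu2 : u ^ r ^ (1 + 1) = 1 := by
    apply Units.ext
    rw [Units.val_pow_eq_pow_val, Units.val_one]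
    change b ^ r ^ (1 + 1) = 1
    rw [pow_succ, pow_one, pow_mul, hb, hzr]
  have hord : orderOf u = r ^ (1 + 1) := orderOf_eq_prime_pow hu1 hu2
  have hdvd : r ^ 2 ∣ Fintype.card F - 1 := by
    have h := orderOf_dvd_card (x := u)
    rw [Fintype.card_units, hord] at h
    exact h
  have hne : Fintype.card F - 1 ≠ 0 := by
    intro h0
    rw [h0] at hv
    simp at hv
  have := (padicValNat_dvd_iff_le (p := r) hne).mp hdvd
  omega

/-- the core: a matrix of determinant `1` and size `r` with `x ^ r = z • 1` has `z = 1` -/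
theorem excz_core {F : Type*} [Field F] [Fintype F] (r : ℕ) (hr : r.Prime) (hr2 : r ≠ 2)
    (hv : padicValNat r (Fintype.card F - 1) = 1)
    (x : Matrix (Fin r) (Fin r) F) (hdet : x.det = 1) (z : F)
    (hz : x ^ r = z • (1 : Matrix (Fin r) (Fin r) F)) : z = 1 := by
  classical
  have hne : Nonempty (Fin r) := ⟨⟨0, hr.pos⟩⟩
  have hzr : z ^ r = 1 := by
    have h := congrArg Matrix.det hz
    rw [Matrix.det_pow, hdet, one_pow, Matrix.det_smul, Matrix.det_one, mul_one,
      Fintype.card_fin] at h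
    exact h.symm
  by_contra hz1
  have hirr : Irreducible (X ^ r - C z : F[X]) :=
    X_pow_sub_C_irreducible_of_prime hr (excz_not_pow r hr hv z hzr hz1)
  have hkill : aeval x (X ^ r - C z : F[X]) = 0 := by
    rw [map_sub, map_pow, aeval_X, aeval_C, hz, Algebra.algebraMap_eq_smul_one, sub_self]
  have hmd : minpoly F x ∣ X ^ r - C z := minpoly.dvd F x hkill
  have hmon : (X ^ r - C z : F[X]).Monic := monic_X_pow_sub_C z hr.ne_zero
  have hmm : (minpoly F x).Monic := minpoly.monic (Matrix.isIntegral x)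
  have hnu : ¬ IsUnit (minpoly F x) := minpoly.not_isUnit F x
  have hassoc : Associated (minpoly F x) (X ^ r - C z) :=
    (hirr.dvd_iff.mp hmd).resolve_left hnu |>.symm
  have hmeq : minpoly F x = X ^ r - C z := eq_of_monic_of_associated hmm hmon hassoc
  have hdeg : (X ^ r - C z : F[X]).natDegree = r := natDegree_X_pow_sub_C
  have hchar : x.charpoly = minpoly F x := by
    apply eq_of_monic_of_dvd_of_natDegree_le hmm (Matrix.charpoly_monic x)
      (Matrix.minpoly_dvd_charpoly x)
    rw [Matrix.charpoly_natDegree_eq_dim, Fintype.card_fin, hmeq, hdeg]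
  have hd := Matrix.det_eq_sign_charpoly_coeff x
  rw [hchar, hmeq, hdet, Fintype.card_fin, coeff_sub, coeff_C_zero, coeff_X_pow,
    if_neg (Ne.symm hr.ne_zero), zero_sub] at hd
  have hodd : Odd r := hr.odd_of_ne_two hr2
  rw [hodd.neg_one_pow, neg_mul_neg, one_mul] at hd
  exact hz1 hd.symm

/-- the same for an element of `GL_r` of determinant `1` -/
theorem excz_gl {F : Type*} [Field F] [Fintype F] (r : ℕ) (hr : r.Prime) (hr2 : r ≠ 2)
    (hv : padicValNat r (Fintype.card F - 1) = 1)
    (x : GL (Fin r) F) (hx : Matrix.GeneralLinearGroup.det x = 1) (z : F)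
    (hz : ((x ^ r : GL (Fin r) F) : Matrix (Fin r) (Fin r) F) = z • (1 : Matrix (Fin r) (Fin r) F)) :
    z = 1 := by
  apply excz_core r hr hr2 hv (x : Matrix (Fin r) (Fin r) F) _ z
  · rw [← hz, Units.val_pow_eq_pow_val]
  · have h := congrArg (fun u : Fˣ => (u : F)) hx
    simpa using h

end Cfsg.Agent.Lib.Helper25.EXCZ
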