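import Mathlib
import Cfsg.Agent.Lib.Helper16.U82.Defs
import Cfsg.Agent.Lib.Helper25.EXCZcore

set_option autoImplicit false

/-! # Project U82, row E8 (`u82_exc_z`) -/

namespace Cfsg.Agent.Lib.Helper16.U82

open Matrix Cfsg.Agent.Lib.Helper16
open scoped MatrixGroups

/-- E8 EXCZ [M]: `n = r` odd prime, `(q-1)_r = r`: `x ∈ SL_r`, `x^r = z` forces `z = 1`. -/
theorem u82_exc_z {F : Type*} [Field F] [Fintype F] (r : ℕ) (hr : r.Prime) (hr2 : r ≠ 2)
    (hv : padicValNat r (Fintype.card F - 1) = 1)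
    (x : GL (Fin r) F) (hx : x ∈ Cfsg.Geo.specialLinear (Fin r) F) (z : F)
    (hz : ((x ^ r : GL (Fin r) F) : Matrix (Fin r) (Fin r) F) = z • (1 : Matrix (Fin r) (Fin r) F)) :
    z = 1 :=
  Cfsg.Agent.Lib.Helper25.EXCZ.excz_gl r hr hr2 hv x (MonoidHom.mem_ker.mp hx) z hz

end Cfsg.Agent.Lib.Helper16.U82
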