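import Mathlib
import Cfsg.Prelude.Def_CaseTheorems
import Cfsg.Agent.Lib.helper7.BR.Defs
import Cfsg.Agent.Lib.Helper18.BRF.Defs
import Cfsg.Agent.Lib.helper15.BRBRM

/-!
# Project BRF (S4700), piece NN: a Sylow subgroup of prime order of a perfect group is not normal
-/

set_option autoImplicit false
set_option linter.unusedVariables false
set_option linter.unusedSectionVars false

namespace Cfsg.Agent.Lib.Helper18.BRF

open Classical
open Cfsg.Agent.Lib.Helper25
open Cfsg.Agent.Lib.helper7.BR

universe u

/-- NN : a Sylow subgroup of prime order of a perfect group is not normal. -/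
theorem sylow_not_normal {G : Type u} [Group G] [Finite G] (hperf : commutator G = ⊤) (p : ℕ)
    [Fact p.Prime] (P : Sylow p G) (hP : Nat.card ↥(P : Subgroup G) = p) :
    ¬ (P : Subgroup G).Normal := by
  intro hn
  exact brbrm_perfect_no_normal_sylow hperf P hP hn

end Cfsg.Agent.Lib.Helper18.BRF
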