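import Mathlib
import Cfsg.Prelude.Def_CaseTheorems
import Cfsg.Agent.Lib.helper7.BR.Defs
import Cfsg.Agent.Lib.Helper18.BRF.Defs

/-!
# Project BRF (S4700), piece QPERF: a quotient of a perfect group is perfect
-/

set_option autoImplicit false
set_option linter.unusedVariables false
set_option linter.unusedSectionVars false

namespace Cfsg.Agent.Lib.Helper18.BRF

open Classical
open Cfsg.Agent.Lib.Helper25
open Cfsg.Agent.Lib.helper7.BR

universe u

/-- QPERF : a quotient of a perfect group is perfect. -/
theorem quot_perfect {G : Type u} [Group G] (K : Subgroup G) [K.Normal] (hperf : commutator G = ⊤) :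
    commutator (G ⧸ K) = ⊤ := by
  have hsurj : Function.Surjective (QuotientGroup.mk' K) := QuotientGroup.mk'_surjective _
  rw [commutator_def, ← Subgroup.map_top_of_surjective (QuotientGroup.mk' K) hsurj,
    ← Subgroup.map_commutator, ← commutator_def, hperf]

end Cfsg.Agent.Lib.Helper18.BRF
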