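import Mathlib
import Cfsg.Prelude.Def_CaseTheorems
import Cfsg.Agent.Lib.helper7.BR.Defs
import Cfsg.Agent.Lib.Helper18.BRF.Defs
import Cfsg.Agent.Lib.helper7.BD.Char
import Cfsg.Agent.Lib.helper23.BRCLS
import Cfsg.Agent.Lib.Helper29.ScGroup
import Cfsg.Agent.Lib.Helper25.CharAbelian
import Cfsg.Agent.S4508

/-!
# Project BRF (S4700), piece T1F: with `C_G(P) = P` and `|N_G(P) : C_G(P)| = p - 1` a perfect group has no
irreducible character of degree `p - 1` (S4508: one class of elements of order `p`)
-/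

set_option autoImplicit false
set_option linter.unusedVariables false
set_option linter.unusedSectionVars false
set_option linter.style.haveILetI false

namespace Cfsg.Agent.Lib.Helper18.BRF

open Classical
open Cfsg.Agent.Lib.Helper25
open Cfsg.Agent.Lib.helper7.BR

universe u

section main

variable {G : Type u} [Group G] [Fintype G] {p : ℕ} [Fact p.Prime]

/-- T1F : with `C_G(P) = P` and `q = p - 1` there is no irreducible character of degree `p - 1`. -/
theorem top_false (hperf : commutator G = ⊤) (P : Sylow p G) (hP : Nat.card ↥(P : Subgroup G) = p)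
    (hcen : cen P = (P : Subgroup G)) (hrel : (cen P).relIndex (nrm P) = p - 1)
    (χ : Cfsg.IrrCharacter G) (hdeg : (χ : G → ℂ) 1 = (p : ℂ) - 1) : False := by
  have hpp := (Fact.out : p.Prime)
  have hp2 : 2 ≤ p := hpp.two_le
  -- a non-trivial element
  obtain ⟨x₀', hx₀'⟩ := exists_prime_orderOf_dvd_card' (G := (P : Subgroup G)) p (by rw [hP])
  have hx₀ : (x₀' : G) ∈ (P : Subgroup G) := x₀'.2
  have hx₀1 : (x₀' : G) ≠ 1 := by
    intro h
    have : x₀' = 1 := Subtype.ext h
    rw [this, orderOf_one] at hx₀'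
    omega
  set x₀ : G := (x₀' : G) with hx₀def
  have hord : orderOf x₀ = p :=
    Cfsg.Agent.Lib.helper7.BD.h2_orderOf_of_card_prime p (P : Subgroup G) hP x₀ hx₀ hx₀1
  -- orders
  have hCN : cen P ≤ nrm P := Subgroup.centralizer_le_normalizer _
  have hcardC : Nat.card ↥(cen P) = p := by rw [hcen, hP]
  have hcardN : Nat.card ↥(nrm P) = (p - 1) * p := by
    have h1 := Subgroup.relIndex_mul_relIndex (⊥ : Subgroup G) (cen P) (nrm P) bot_le hCN
    rw [Subgroup.relIndex_bot_left, Subgroup.relIndex_bot_left, hrel, hcardC] at h1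
    rw [← h1, mul_comm]
  have hcx : Subgroup.centralizer ({x₀} : Set G) = cen P := centralizer_eq_cen P hP x₀ hx₀ hx₀1
  have hzp : Subgroup.zpowers x₀ = (P : Subgroup G) := by
    apply Subgroup.eq_of_le_of_card_ge
    · exact Subgroup.zpowers_le.mpr hx₀
    · rw [Nat.card_zpowers, hord, hP]
  -- the degree
  have hu : Cfsg.charDegree (χ : G → ℂ) + 1 = p := by
    have h1 := (charDegree_irr χ).1
    rw [hdeg] at h1
    have h2 : ((Cfsg.charDegree (χ : G → ℂ) + 1 : ℕ) : ℂ) = (p : ℂ) := by
      push_cast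
      rw [h1]
      ring
    exact_mod_cast h2
  -- S4508
  have hC : Subgroup.centralizer ({x₀} : Set G) = Subgroup.zpowers x₀ := by
    rw [hcx, hcen, hzp]
  have hcount := Cfsg.Agent.Lib.Helper29.scg_count (x := x₀) hord hC _ rfl (p - 1)
    (by rw [hzp]; exact hcardN)
  have ht1 : Nat.card {C : ConjClasses G // ∃ g ∈ C.carrier, orderOf g = p} = 1 := by
    have hp1 : 0 < p - 1 := by omega
    exact Nat.eq_of_mul_eq_mul_right hp1 (by rw [hcount, one_mul])
  rcases Cfsg.Agent.S4508.result p hpp x₀ hord hC 1 ht1 χ hu with h | h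
  · exact absurd h (by decide)
  · rw [hperf, Subgroup.index_top] at h
    exact absurd h (by decide)

end main

end Cfsg.Agent.Lib.Helper18.BRF
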