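import Mathlib
import Cfsg.Agent.Lib.helper7.CED.Defs
import Cfsg.Agent.Lib.Helper24.STCI1

/-!
# Project CED (designer helper7; S2096 + S2097), row Y8 (helper25), VERBATIM: `Xs_eq` (model CEC Y8, `Helper16.CECY8`)
-/

set_option autoImplicit false

namespace Cfsg.Agent.Lib.helper7.CED

open Cfsg.Agent.Lib.helper15.St2 Cfsg.Agent.Lib.helper7.Ce Cfsg.Agent.Lib.helper3.STC Cfsg.Agent.Lib.Lead.STD
  Cfsg.Agent.Lib.helper7.CEC

section Y

variable {K : Type*} [Field K] {ι : Type*} {Γ G : Type*} [Group Γ] [Group G] {S : SysD K ι G} {σ : Γ →* G}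

/-- the chosen middle index of `Xs` -/
theorem cedy8_choose (h3 : I3 ι) (a b : ι ⊕ ι) :
    ab (Classical.choose (h3 a b)) ≠ ab a ∧ ab (Classical.choose (h3 a b)) ≠ ab b :=
  Classical.choose_spec (h3 a b)

/-- Y8 [S]  model CEC Y8 (`Helper16.CECY8`): `hB`, `hI`, `Classical.choose_spec`. -/
theorem Xs_eq (h : IsCE σ) (h3 : I3 ι) (hB : PB S h) (hI : PI S h) {a c b : ι ⊕ ι} (hac : ab a ≠ ab c) (hcb : ab c ≠ ab b) (hab : ab a ≠ ab b) (t u : K) :
    Ys S h a c b t u = Xs S h h3 a b (t * u) := by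
  obtain ⟨h1, h2⟩ := cedy8_choose h3 a b
  unfold Xs
  rw [hB a c b hac hcb hab t u]
  exact hI a c _ b hac hcb (fun x => h1 x.symm) h2 hab (t * u)

end Y

end Cfsg.Agent.Lib.helper7.CED
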