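import Mathlib
import Cfsg.Agent.Lib.helper7.CED.Defs
import Cfsg.Agent.Lib.Helper24.STCI1
import Cfsg.Agent.Lib.Helper25.CEDY8

/-!
# Project CED (designer helper7; S2096 + S2097), row Y9 (helper25), VERBATIM: `Xs_sym` (the two names of a root; model `Helper25.CECY9`, no signs)

Self-contained: own-name copies `cedy9_Ys_eq`, `cedy9_Ys_map` (Y1), `cedy9_Ys_add_left`, `cedy9_Ys_zero_left`, `cedy9_Ys_neg_left` (Y2) of the rows it depends on; Y8 `Xs_eq` from `Helper25.CEDY8`.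
-/

set_option autoImplicit false

namespace Cfsg.Agent.Lib.helper7.CED

open Cfsg.Agent.Lib.helper15.St2 Cfsg.Agent.Lib.helper7.Ce Cfsg.Agent.Lib.helper3.STC Cfsg.Agent.Lib.Lead.STD
  Cfsg.Agent.Lib.helper7.CEC

section Y

variable {K : Type*} [Field K] {ι : Type*} {Γ G : Type*} [Group Γ] [Group G] {S : SysD K ι G} {σ : Γ →* G}

theorem cedy9_ne_of_ab {a b : ι ⊕ ι} (hab : ab a ≠ ab b) : a ≠ b ∧ a ≠ ng b := by
  constructor
  · intro hh; exact hab (by rw [hh])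
  · intro hh; exact hab (by rw [hh, ab_ng])

/-- own-name copy of Y1 `Ys_eq` -/
theorem cedy9_Ys_eq (h : IsCE σ) {a c b : ι ⊕ ι} {t u : K} {p q : Γ} (hp : σ p = S.x a c t) (hq : σ q = S.x c b u) :
    cm p q = Ys S h a c b t u := by
  unfold Ys
  exact h.cm_congr (by rw [hp, map_lf]) (by rw [hq, map_lf])

/-- own-name copy of Y1 `Ys_map` -/
theorem cedy9_Ys_map (h : IsCE σ) {a c b : ι ⊕ ι} (hac : ab a ≠ ab c) (hcb : ab c ≠ ab b) (hab : ab a ≠ ab b) (t u : K) :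
    σ (Ys S h a c b t u) = S.x a b (t * u) := by
  obtain ⟨hac1, hac2⟩ := cedy9_ne_of_ab hac
  obtain ⟨hcb1, hcb2⟩ := cedy9_ne_of_ab hcb
  obtain ⟨hab1, hab2⟩ := cedy9_ne_of_ab hab
  unfold Ys
  rw [map_cm, map_lf, map_lf]
  exact S.comm3 a c b hac1 hac2 hcb1 hcb2 hab1 hab2 t u

/-- own-name copy of Y2 `Ys_add_left` -/
theorem cedy9_Ys_add_left (h : IsCE σ) (hC : HC S σ) {a c b : ι ⊕ ι} (hac : ab a ≠ ab c) (hcb : ab c ≠ ab b)
    (hab : ab a ≠ ab b) (s s' t : K) :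
    Ys S h a c b (s + s') t = Ys S h a c b s t * Ys S h a c b s' t := by
  obtain ⟨hac1, hac2⟩ := cedy9_ne_of_ab hac
  obtain ⟨hcb1, hcb2⟩ := cedy9_ne_of_ab hcb
  obtain ⟨hab1, hab2⟩ := cedy9_ne_of_ab hab
  have e1 : σ (lf h (S.x a c s) * lf h (S.x a c s')) = S.x a c (s + s') := by
    rw [map_mul, map_lf, map_lf, S.add a c hac1 hac2]
  rw [← cedy9_Ys_eq h e1 (map_lf h (S.x c b t)), cm_mul_left]
  have hrow : CL σ (S.x a c s) (S.x a b (s' * t)) :=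
    hC a c a b hac1 hac2 hab1 hab2 hac1.symm hab1 hcb2 (ne_ng a) s (s' * t)
  have e2 : lf h (S.x a c s) * cm (lf h (S.x a c s')) (lf h (S.x c b t)) =
      cm (lf h (S.x a c s')) (lf h (S.x c b t)) * lf h (S.x a c s) :=
    hrow _ _ (map_lf h _) (cedy9_Ys_map h hac hcb hab s' t)
  rw [e2, mul_inv_cancel_right]
  have hsame : CL σ (S.x a b (s' * t)) (S.x a b (s * t)) :=
    hC a b a b hab1 hab2 hab1 hab2 hab1.symm hab1 (ne_ng b) (ne_ng a) (s' * t) (s * t)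
  exact hsame _ _ (cedy9_Ys_map h hac hcb hab s' t) (cedy9_Ys_map h hac hcb hab s t)

theorem cedy9_Ys_zero_left (h : IsCE σ) (hC : HC S σ) {a c b : ι ⊕ ι} (hac : ab a ≠ ab c) (hcb : ab c ≠ ab b)
    (hab : ab a ≠ ab b) (t : K) : Ys S h a c b 0 t = 1 := by
  have := cedy9_Ys_add_left h hC hac hcb hab 0 0 t
  rw [add_zero] at this
  exact mul_eq_left.1 this.symm

theorem cedy9_Ys_neg_left (h : IsCE σ) (hC : HC S σ) {a c b : ι ⊕ ι} (hac : ab a ≠ ab c) (hcb : ab c ≠ ab b)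
    (hab : ab a ≠ ab b) (s t : K) : Ys S h a c b (-s) t = (Ys S h a c b s t)⁻¹ := by
  have := cedy9_Ys_add_left h hC hac hcb hab (-s) s t
  rw [neg_add_cancel, cedy9_Ys_zero_left h hC hac hcb hab] at this
  exact eq_inv_of_mul_eq_one_left this.symm

/-- Y9 [M] -/
theorem Xs_sym (h : IsCE σ) (hC : HC S σ) (h3 : I3 ι) (hB : PB S h) (hI : PI S h) {a b : ι ⊕ ι} (hab : ab a ≠ ab b) (t : K) :
    Xs S h h3 a b t = Xs S h h3 (ng b) (ng a) (-t) := by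
  classical
  obtain ⟨hab1, hab2⟩ := cedy9_ne_of_ab hab
  -- the chosen middle index for `(ng b, ng a)`
  obtain ⟨h1, h2⟩ := Classical.choose_spec (h3 (ng b) (ng a))
  set c' := Classical.choose (h3 (ng b) (ng a)) with hc'
  rw [ab_ng] at h1 h2
  -- `h1 : ab c' ≠ ab b`, `h2 : ab c' ≠ ab a`
  obtain ⟨hcb1, hcb2⟩ := cedy9_ne_of_ab h1
  obtain ⟨hca1, hca2⟩ := cedy9_ne_of_ab h2
  have hnbc : ng b ≠ c' := fun hh => hcb2 hh.symm
  have hnbc' : ng b ≠ ng c' := fun hh => hcb1 (ng_inj.1 hh).symm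
  have hcna : c' ≠ ng a := hca2
  have hcna' : c' ≠ ng (ng a) := by rw [ng_ng]; exact hca1
  -- the two root elements, renamed
  have e1 : S.x (ng b) c' (-t) = S.x (ng c') b (- -t) := by
    rw [S.sym (ng b) c' hnbc hnbc' (-t), ng_ng]
  have e2 : S.x c' (ng a) 1 = S.x a (ng c') (-1) := by
    rw [S.sym c' (ng a) hcna hcna' 1, ng_ng]
  have hp : σ (lf h (S.x (ng b) c' (-t))) = S.x (ng c') b (- -t) := by
    rw [map_lf, e1]
  have hq : σ (lf h (S.x c' (ng a) 1)) = S.x a (ng c') (-1) := by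
    rw [map_lf, e2]
  have hR : Xs S h h3 (ng b) (ng a) (-t) =
      cm (lf h (S.x (ng b) c' (-t))) (lf h (S.x c' (ng a) 1)) := rfl
  rw [hR, ← inv_inv (cm (lf h (S.x (ng b) c' (-t))) (lf h (S.x c' (ng a) 1))), cm_inv_swap,
    cedy9_Ys_eq h hq hp]
  have hanc : ab a ≠ ab (ng c') := by rw [ab_ng]; exact Ne.symm h2
  have hncb : ab (ng c') ≠ ab b := by rw [ab_ng]; exact h1
  rw [Xs_eq h h3 hB hI hanc hncb hab]
  have hval : ((-1 : K) * (- -t)) = -t := by ring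
  rw [hval]
  -- `Xs a b (-t) = (Xs a b t)⁻¹`
  obtain ⟨k1, k2⟩ := Classical.choose_spec (h3 a b)
  have hneg : Xs S h h3 a b (-t) = (Xs S h h3 a b t)⁻¹ := by
    unfold Xs
    exact cedy9_Ys_neg_left h hC (Ne.symm k1) k2 hab t 1
  rw [hneg, inv_inv]

end Y

end Cfsg.Agent.Lib.helper7.CED
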