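import Mathlib
import Cfsg.Agent.Lib.Helper18.PRL.Defs
import Cfsg.Agent.Lib.helper23.PRLCH3
import Cfsg.Agent.Lib.helper23.PRLCH4
import Cfsg.Agent.Lib.helper23.PRLCH5

/-! PRL-KEYd : an element of `H` commutes with the cube of an element of `Z_4`. -/

set_option autoImplicit false

namespace Cfsg.Agent.Lib.Helper18.PRL

open scoped commutatorElement

universe u

section key
variable {G : Type u} [Group G] [Finite G] {n : ℕ}

/-- PRL-KEYd -/
theorem comm_cube_of_hyp (h : MC 3 G n) (hn : 6 ≤ n) (H : Subgroup G) (hyp : Hyp G n H)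
    (hexp : ∀ u ∈ Z G 2, u ^ 3 = 1) (x k : G) (hx : x ∈ Z G 4) (hk : k ∈ H) :
    k * x ^ 3 = x ^ 3 * k := by
  have : Fact (Nat.Prime 3) := ⟨Nat.prime_three⟩
  -- `u = [x, k] ∈ Z_2`
  have h1 : ⁅k, x⁆ ∈ Z G 2 := hyp 4 (by norm_num) (by omega) k hk x hx
  set u : G := ⁅x, k⁆ with hu
  have hu2 : u ∈ Z G 2 := by
    have e : u = ⁅k, x⁆⁻¹ := by rw [hu, commutatorElement_inv]
    rw [e]
    exact Subgroup.inv_mem _ h1
  -- `x` centralizes `Z_2`
  have hx1 : x ∈ G1 G := by
    apply commutator_le_G1 G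
    rw [commutator_eq_Z h (by omega)]
    exact Subgroup.upperCentralSeries_mono G (by omega : 4 ≤ n - 2) hx
  have hxu : Commute x u := by
    have := (Subgroup.mem_centralizer_iff.mp hx1) u hu2
    exact this.symm
  have hs1 : SemiconjBy x k (u * k) := by
    show x * k = u * k * x
    rw [hu, commutatorElement_def]
    group
  have hs2 : SemiconjBy x (u * k) (u * (u * k)) := SemiconjBy.mul_right hxu hs1
  have hs3 : SemiconjBy x (u * (u * k)) (u * (u * (u * k))) := SemiconjBy.mul_right hxu hs2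
  have hs : SemiconjBy (x * (x * x)) k (u * (u * (u * k))) := hs3.mul_left (hs2.mul_left hs1)
  have hu3 : u * (u * (u * k)) = k := by
    have := hexp u hu2
    calc u * (u * (u * k)) = u ^ 3 * k := by rw [pow_succ, pow_two]; group
      _ = k := by rw [this, one_mul]
  rw [hu3] at hs
  have hx3 : x ^ 3 = x * (x * x) := by rw [pow_succ, pow_two]; group
  rw [hx3]
  exact hs.eq.symm

end key

end Cfsg.Agent.Lib.Helper18.PRL
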