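import Mathlib
import Cfsg.Agent.Lib.Helper18.PRL.Defs
import Cfsg.Agent.Lib.helper23.PRLCH1
import Cfsg.Agent.Lib.helper23.PRLCH3
import Cfsg.Agent.Lib.helper23.PRLCH4
import Cfsg.Agent.Lib.helper23.PRLCH5
import Cfsg.Agent.Lib.Helper12.PRLG1a
import Cfsg.Agent.Lib.Helper11.PRLUNI
import Cfsg.Agent.Lib.Helper18.PRLZS
import Cfsg.Agent.Lib.Helper16.PRLCS

/-! PRL-CB : cubes of the elements of `G₁ ∩ Z_j` lie in `Z_{j-2}`. -/

set_option autoImplicit false

namespace Cfsg.Agent.Lib.Helper18.PRL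

open scoped commutatorElement

universe u

section three
variable {G : Type u} [Group G] [Finite G] {n : ℕ}

/-- an element outside `G₁` exists and is uniform together with its translates by `G'` -/
theorem h25_exists_unif (h : MC 3 G n) (hn : 5 ≤ n) (hyp : Hyp G n (G1 G)) :
    ∃ s : G, s ∉ G1 G ∧ Unif G n s ∧ ∀ g ∈ commutator G, Unif G n (s * g) := by
  have : Fact (Nat.Prime 3) := ⟨Nat.prime_three⟩
  have hidx : (G1 G).index = 3 := G1_index h (by omega)
  have hne : G1 G ≠ ⊤ := by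
    intro htop
    rw [htop, Subgroup.index_top] at hidx
    omega
  obtain ⟨s, hs⟩ : ∃ s : G, s ∉ G1 G := by
    by_contra hcon
    push Not at hcon
    exact hne ((Subgroup.eq_top_iff' _).mpr hcon)
  refine ⟨s, hs, unif_of_notMem h (by omega) (G1 G) hidx hyp s hs hs, fun g hg => ?_⟩
  have hg1 : g ∈ G1 G := commutator_le_G1 G hg
  have hsg : s * g ∉ G1 G := by
    intro hcon
    apply hs
    have := Subgroup.mul_mem _ hcon (Subgroup.inv_mem _ hg1)
    simpa using this
  exact unif_of_notMem h (by omega) (G1 G) hidx hyp (s * g) hsg hsg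

/-- `[s, x] ∈ Z_{j-1}` for `x ∈ Z_j` -/
theorem h25_comm_mem (s x : G) (j : ℕ) (hx : x ∈ Z G (j + 1)) : ⁅s, x⁆ ∈ Z G j := by
  have h1 := (Subgroup.mem_upperCentralSeries_succ_iff.mp hx) s
  rw [← commutatorElement_inv x s]
  exact Subgroup.inv_mem _ h1

/-- PRL-CB -/
theorem cube_mem (h : MC 3 G n) (hn : 5 ≤ n) (hyp : Hyp G n (G1 G)) :
    ∀ j : ℕ, j ≤ n - 1 → ∀ x ∈ G1 G, x ∈ Z G j → x ^ 3 ∈ Z G (j - 2) := by
  obtain ⟨s, hs, hu, hug⟩ := h25_exists_unif h hn hyp
  obtain ⟨hexp, hcube, -⟩ := Z2_exp_Z3_cube h hn s hu hug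
  intro j
  induction j using Nat.strong_induction_on with
  | _ j ih =>
    intro hj x hx1 hx
    by_cases hj2 : j ≤ 2
    · have hx2 : x ∈ Z G 2 := Subgroup.upperCentralSeries_mono G hj2 hx
      rw [hexp x hx2]
      exact Subgroup.one_mem _
    · by_cases hj3 : j = 3
      · subst hj3
        exact hcube x hx
      · have hj4 : 4 ≤ j := by omega
        have hstep := cube_step h hn hyp s hs j hj4 hj x hx1 hx
        have hy : ⁅s, x⁆ ∈ Z G (j - 1) := by
          apply h25_comm_mem s x (j - 1)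
          have : j - 1 + 1 = j := by omega
          rw [this]
          exact hx
        have hy1 : ⁅s, x⁆ ∈ G1 G :=
          commutator_le_G1 G (Subgroup.commutator_mem_commutator (Subgroup.mem_top s)
            (Subgroup.mem_top x))
        have hy3 : ⁅s, x⁆ ^ 3 ∈ Z G (j - 1 - 2) := ih (j - 1) (by omega) (by omega) _ hy1 hy
        have hz : ⁅s, ⁅s, x⁆⁆ ∈ Z G (j - 2) := by
          apply h25_comm_mem s _ (j - 2)
          have : j - 2 + 1 = j - 1 := by omega
          rw [this]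
          exact hy
        have hle : Z G (j - 3) ≤ Z G (j - 2) := Subgroup.upperCentralSeries_mono G (by omega)
        have hy3' : ⁅s, x⁆ ^ 3 ∈ Z G (j - 2) := by
          have e : j - 1 - 2 = j - 3 := by omega
          rw [e] at hy3
          exact hle hy3
        have e : x ^ 3 = (x ^ 3 * ⁅s, x⁆ ^ 3 * ⁅s, ⁅s, x⁆⁆) * ⁅s, ⁅s, x⁆⁆⁻¹ * (⁅s, x⁆ ^ 3)⁻¹ := by
          group
        rw [e]
        exact Subgroup.mul_mem _ (Subgroup.mul_mem _ (hle hstep) (Subgroup.inv_mem _ hz))
          (Subgroup.inv_mem _ hy3')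

end three

end Cfsg.Agent.Lib.Helper18.PRL
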