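import Mathlib
import Cfsg.Agent.Lib.Helper18.PRL.Defs
import Cfsg.Agent.Lib.helper23.PRLCH1
import Cfsg.Agent.Lib.helper23.PRLCH3
import Cfsg.Agent.Lib.helper23.PRLCH4
import Cfsg.Agent.Lib.helper23.PRLCH5
import Cfsg.Agent.Lib.Helper12.PRLG1a
import Cfsg.Agent.Lib.Helper11.PRLUNI
import Cfsg.Agent.Lib.Helper18.PRLZS
import Cfsg.Agent.Lib.Helper16.PRLCS
import Cfsg.Agent.Lib.Helper25.PRLGEN
import Cfsg.Agent.Lib.Helper25.PRLCB

/-! PRL-CN : cubes of the elements of `(G₁ ∩ Z_j) ∖ Z_{j-1}` lie outside `Z_{j-3}`. -/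

set_option autoImplicit false
set_option linter.unusedSectionVars false

namespace Cfsg.Agent.Lib.Helper18.PRL

open scoped commutatorElement

universe u

section three
variable {G : Type u} [Group G] [Finite G] {n : ℕ}

/-- PRL-CN -/
theorem cube_notMem (h : MC 3 G n) (hn : 5 ≤ n) (hyp : Hyp G n (G1 G)) :
    ∀ j : ℕ, 4 ≤ j → j ≤ n - 1 → ∀ x ∈ G1 G, x ∈ Z G j → x ∉ Z G (j - 1) →
      x ^ 3 ∉ Z G (j - 3) := by
  have : Fact (Nat.Prime 3) := ⟨Nat.prime_three⟩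
  obtain ⟨s, hs, hu, hug⟩ := h25_exists_unif h hn hyp
  have hidx : (G1 G).index = 3 := G1_index h (by omega)
  intro j hj4 hj x hx1 hx hxn hx3
  -- `y = [s, x] ∈ Z_{j-1} ∖ Z_{j-2}`
  have hy : ⁅s, x⁆ ∈ Z G (j - 1) := by
    apply h25_comm_mem s x (j - 1)
    have : j - 1 + 1 = j := by omega
    rw [this]
    exact hx
  have hyn : ⁅s, x⁆ ∉ Z G (j - 2) := by
    by_cases hjn : j ≤ n - 2
    · have h1 := hu j (by omega) hjn x hx hxn
      intro hcon
      apply h1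
      rw [← commutatorElement_inv s x]
      exact Subgroup.inv_mem _ hcon
    · have hjeq : j = n - 1 := by omega
      have hxG : x ∉ commutator G := by
        rw [commutator_eq_Z h (by omega)]
        have : n - 2 = j - 1 := by omega
        rw [this]
        exact hxn
      have h1 := comm_notMem h (by omega) (G1 G) hidx s x hs hx1 hxG
      have : n - 3 = j - 2 := by omega
      rw [this] at h1
      exact h1
  -- `z = [s, y] ∉ Z_{j-3}`
  have hzn : ⁅s, ⁅s, x⁆⁆ ∉ Z G (j - 3) := by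
    have h1 := hu (j - 1) (by omega) (by omega) ⁅s, x⁆ hy (by
      have : j - 1 - 1 = j - 2 := by omega
      rw [this]
      exact hyn)
    have e : j - 1 - 2 = j - 3 := by omega
    rw [e] at h1
    intro hcon
    apply h1
    rw [← commutatorElement_inv s ⁅s, x⁆]
    exact Subgroup.inv_mem _ hcon
  -- the cube relation
  have hstep := cube_step h hn hyp s hs j hj4 hj x hx1 hx
  have hy1 : ⁅s, x⁆ ∈ G1 G :=
    commutator_le_G1 G (Subgroup.commutator_mem_commutator (Subgroup.mem_top s)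
      (Subgroup.mem_top x))
  have hy3 : ⁅s, x⁆ ^ 3 ∈ Z G (j - 1 - 2) := cube_mem h hn hyp (j - 1) (by omega) _ hy1 hy
  have e : j - 1 - 2 = j - 3 := by omega
  rw [e] at hy3
  apply hzn
  have e2 : ⁅s, ⁅s, x⁆⁆ = (⁅s, x⁆ ^ 3)⁻¹ * (x ^ 3)⁻¹ * (x ^ 3 * ⁅s, x⁆ ^ 3 * ⁅s, ⁅s, x⁆⁆) := by
    group
  rw [e2]
  exact Subgroup.mul_mem _ (Subgroup.mul_mem _ (Subgroup.inv_mem _ hy3) (Subgroup.inv_mem _ hx3))
    hstep

end three

end Cfsg.Agent.Lib.Helper18.PRL
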