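import Mathlib
import Cfsg.Agent.Lib.Helper18.SDM.Defs
import Cfsg.Agent.Lib.Helper18.SDM.Defs2
import Cfsg.Agent.Lib.Helper10.SDMB3

/-!
# Project SDM (S2549), row CONJ (helper25): `conj_torus_mem`, verbatim from `Helper18/SDM/Skel.lean.txt`.
Only `mem_TQ_iff` (row B3, Helper10/SDMB3) is needed: `g⁻¹` is monomial and `t` is diagonal on the frame.
-/

set_option autoImplicit false
set_option linter.unusedSectionVars false
set_option linter.unusedVariables false

namespace Cfsg.Agent.Lib.Helper18.QBN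

open Cfsg.Agent.Lib.helper14.UBN QuadraticMap

universe u v

variable {F : Type u} [Field F] {W : Type v} [AddCommGroup W] [Module F W] {n : ℕ}

/-- conjugating a frame-diagonal element by an element whose inverse is monomial gives a frame-diagonal element -/
theorem sdmconj_diag {Q₀ : QuadraticForm F W} (g t : GQ n Q₀) (hg : IsMonoQ g⁻¹)
    (ht : IsPermOf t 1) : IsPermOf (g * t * g⁻¹) 1 := by
  intro j
  obtain ⟨i, c₁, h1⟩ := hg j
  obtain ⟨c₂, h2⟩ := ht i
  refine ⟨c₂, ?_⟩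
  rw [Equiv.Perm.one_apply] at h2 ⊢
  have h3 : le (g * t * g⁻¹) (xv W j) = le g (le t (le g⁻¹ (xv W j))) := rfl
  have h4 : le g (le g⁻¹ (xv W j)) = xv W j := by
    have h5 : le (g * g⁻¹) (xv W j) = le g (le g⁻¹ (xv W j)) := rfl
    rw [← h5, mul_inv_cancel]
    rfl
  rw [h3, h1, map_smul, h2, smul_comm, map_smul, ← h4, h1, map_smul]

/-- [ROW CONJ] -/
theorem conj_torus_mem (hn : Even n) {Q₀ : QuadraticForm F W} (g t : GQ n Q₀) (hg : g ∈ NQ n Q₀)
    (ht : t ∈ BQ n Q₀ ⊓ NQ n Q₀) : g * t * g⁻¹ ∈ BQ n Q₀ := by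
  have h1 : IsPermOf t 1 := (mem_TQ_iff hn t).1 ht
  have h2 : g * t * g⁻¹ ∈ TQ n Q₀ := (mem_TQ_iff hn _).2 (sdmconj_diag g t hg.2 h1)
  exact h2.1

end Cfsg.Agent.Lib.Helper18.QBN
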