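import Mathlib
import Cfsg.Agent.Lib.Helper18.SDM.Defs
import Cfsg.Agent.Lib.Helper18.SDM.Defs2
import Cfsg.Agent.Lib.helper14.UBNh
import Cfsg.Agent.Lib.Helper10.SDMB3

/-!
# Project SDM (S2549), row W1, core (helper25): `closure_SQ_sup` with the Skel statements of row B2
(`mem_NQ_iff`, `isPermOf_mul`, `isPermOf_permG`) as hypotheses; B3 (`mem_TQ_iff`, `sQ_mem_NQ`) is cited from main.
Port of `mono_mem_closure_aux` / `closure_SSet_sup` of helper14/UBNf (potential `gphi`).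
-/

set_option autoImplicit false
set_option linter.unusedSectionVars false
set_option linter.unusedVariables false

namespace Cfsg.Agent.Lib.Helper18.QBN

open Cfsg.Agent.Lib.helper14.UBN QuadraticMap

universe u v

variable {F : Type u} [Field F] {W : Type v} [AddCommGroup W] [Module F W] {n : ℕ}

theorem sdmw1_aux (hn : Even n) (Q₀ : QuadraticForm F W)
    (hmul : ∀ {g h : GQ n Q₀} {π ρ : Equiv.Perm (Fin n)}, IsPermOf g π → IsPermOf h ρ →
      IsPermOf (g * h) (π * ρ))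
    (hperm : ∀ (π : Equiv.Perm (Fin n)) (hπ : RvC π), IsPermOf (permG hn Q₀ π hπ) π) :
    ∀ d : ℕ, ∀ (m : GQ n Q₀) (π : Equiv.Perm (Fin n)), RvC π → IsPermOf m π →
      (gbound n - gphi π).toNat < d →
      m ∈ Subgroup.closure (SQ hn Q₀) ⊔ (BQ n Q₀ ⊓ NQ n Q₀) := by
  intro d
  induction d with
  | zero => intro m π _ _ h; exact absurd h (Nat.not_lt_zero _)
  | succ d ih =>
    intro m π hπ hm hd
    by_cases hall : ∀ k : Fin (n / 2), rk (π.symm (pa k)) < rk (π.symm (pc k))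
    · have h1 : π.symm = 1 := perm_eq_one_of_simple π.symm (RvC_inv hπ) hall
      have h2 : π = 1 := by
        have := congrArg Equiv.symm h1
        rwa [Equiv.symm_symm] at this
      rw [h2] at hm
      have h3 : m ∈ TQ n Q₀ := (mem_TQ_iff hn m).2 hm
      exact Subgroup.mem_sup_right h3
    · rw [not_forall] at hall
      obtain ⟨k, hk⟩ := hall
      rw [not_lt] at hk
      have hne : rk (π.symm (pc k)) ≠ rk (π.symm (pa k)) := by
        intro e
        exact pa_ne_pc k (π.symm.injective (rk_injective e)).symm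
      have hneg : rk (π.symm (pc k)) < rk (π.symm (pa k)) := lt_of_le_of_ne hk hne
      have hlt := gphi_lt k π hπ hneg
      have hle := gphi_le (tauS k * π)
      have hs : IsPermOf (sQ hn Q₀ k) (tauS k) := hperm (tauS k) (RvC_tauS k)
      have hmono : IsPermOf (sQ hn Q₀ k * m) (tauS k * π) := hmul hs hm
      have hmeas : (gbound n - gphi (tauS k * π)).toNat < d := by omega
      have h3 := ih (sQ hn Q₀ k * m) (tauS k * π) (RvC_mul (RvC_tauS k) hπ) hmono hmeas
      have h4 : sQ hn Q₀ k ∈ Subgroup.closure (SQ hn Q₀) ⊔ (BQ n Q₀ ⊓ NQ n Q₀) :=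
        Subgroup.mem_sup_left (Subgroup.subset_closure ⟨k, rfl⟩)
      have e : m = (sQ hn Q₀ k)⁻¹ * (sQ hn Q₀ k * m) := by group
      rw [e]
      exact Subgroup.mul_mem _ (Subgroup.inv_mem _ h4) h3

/-- [ROW W1], core: hypotheses = the Skel statements of `mem_NQ_iff`, `isPermOf_mul`, `isPermOf_permG` (row B2) -/
theorem sdmw1_core (hn : Even n) (Q₀ : QuadraticForm F W)
    (hNQ : ∀ g : GQ n Q₀, g ∈ NQ n Q₀ ↔ ∃ π : Equiv.Perm (Fin n), RvC π ∧ IsPermOf g π)
    (hmul : ∀ {g h : GQ n Q₀} {π ρ : Equiv.Perm (Fin n)}, IsPermOf g π → IsPermOf h ρ →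
      IsPermOf (g * h) (π * ρ))
    (hperm : ∀ (π : Equiv.Perm (Fin n)) (hπ : RvC π), IsPermOf (permG hn Q₀ π hπ) π) :
    Subgroup.closure (SQ hn Q₀) ⊔ (BQ n Q₀ ⊓ NQ n Q₀) = NQ n Q₀ := by
  apply le_antisymm
  · apply sup_le
    · rw [Subgroup.closure_le]
      rintro _ ⟨k, rfl⟩
      exact sQ_mem_NQ hn Q₀ k
    · exact inf_le_right
  · intro m hm
    obtain ⟨π, hπ, hmπ⟩ := (hNQ m).1 hm
    exact sdmw1_aux hn Q₀ hmul hperm _ m π hπ hmπ (Nat.lt_succ_self _)

end Cfsg.Agent.Lib.Helper18.QBN
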