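import Mathlib
import Cfsg.Agent.Lib.Helper18.SDM.Defs2
import Cfsg.Agent.Lib.helper8.SDMB2
import Cfsg.Agent.Lib.Helper25.SDMW1core

/-!
# Project SDM (S2549), row W1 (helper25): `closure_SQ_sup`, verbatim from `Helper18/SDM/Skel.lean.txt`
(= `sdmw1_core` + row B2 of helper8).
-/

set_option autoImplicit false
set_option linter.unusedSectionVars false
set_option linter.unusedVariables false

namespace Cfsg.Agent.Lib.Helper18.QBN

open Cfsg.Agent.Lib.helper14.UBN QuadraticMap

universe u v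

variable {F : Type u} [Field F] {W : Type v} [AddCommGroup W] [Module F W] {n : ℕ}

/-- [ROW W1] -/
theorem closure_SQ_sup (hn : Even n) (Q₀ : QuadraticForm F W) :
    Subgroup.closure (SQ hn Q₀) ⊔ (BQ n Q₀ ⊓ NQ n Q₀) = NQ n Q₀ :=
  sdmw1_core hn Q₀ (fun g => mem_NQ_iff hn g) (fun hg hh => isPermOf_mul hg hh)
    (fun π hπ => isPermOf_permG hn Q₀ π hπ)

end Cfsg.Agent.Lib.Helper18.QBN
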