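import Mathlib
import Cfsg.Agent.Lib.Helper18.SDM.Defs3
import Cfsg.Agent.Lib.Helper10.SDMB3

/-!
# Project SDM (S2549), row L1 (helper25): the longest element `nLongQ` and the enumeration `sigmaQ`,
verbatim from `Helper18/SDM/Skel2.lean.txt`.  Needs only row B3 (Helper10/SDMB3: `permG_mul`, `permG_one`).
-/

set_option autoImplicit false
set_option linter.unusedSectionVars false
set_option linter.unusedVariables false

namespace Cfsg.Agent.Lib.Helper18.QBN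

open Cfsg.Agent.Lib.helper14.UBN QuadraticMap

universe u v

variable {F : Type u} [Field F] {W : Type v} [AddCommGroup W] [Module F W] {n : ℕ}

/-- [ROW L1] -/
theorem isPermOf_nLongQ (hn : Even n) (Q₀ : QuadraticForm F W) : IsPermOf (nLongQ hn Q₀) (rvPerm n) := by
  intro j
  refine ⟨1, ?_⟩
  rw [one_smul]
  exact permG_xv hn Q₀ (rvPerm n) RvC_rvPerm j

/-- [ROW L1] -/
theorem nLongQ_mul_self (hn : Even n) (Q₀ : QuadraticForm F W) : nLongQ hn Q₀ * nLongQ hn Q₀ = 1 := by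
  unfold nLongQ
  rw [permG_mul, sdmb3_permG_congr hn Q₀ (RvC_mul RvC_rvPerm RvC_rvPerm) RvC_one rvPerm_mul_self,
    permG_one]

theorem sdml1_nLongQ_inv (hn : Even n) (Q₀ : QuadraticForm F W) :
    (nLongQ hn Q₀)⁻¹ = nLongQ hn Q₀ :=
  inv_eq_of_mul_eq_one_right (nLongQ_mul_self hn Q₀)

/-- [ROW L1] -/
theorem nLongQ_mem_NQ (hn : Even n) (Q₀ : QuadraticForm F W) : nLongQ hn Q₀ ∈ NQ n Q₀ := by
  have h : IsMonoQ (nLongQ hn Q₀) := by
    intro j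
    refine ⟨rvPerm n j, 1, ?_⟩
    rw [one_smul]
    exact permG_xv hn Q₀ (rvPerm n) RvC_rvPerm j
  refine ⟨h, ?_⟩
  rw [sdml1_nLongQ_inv]
  exact h

/-- [ROW L1] -/
theorem sigmaQ_mem (hn : Even n) (Q₀ : QuadraticForm F W) :
    ∀ i < n / 2, sigmaQ hn Q₀ i ∈ SQ hn Q₀ := by
  intro i hi
  unfold sigmaQ
  rw [dif_pos hi]
  exact ⟨⟨i, hi⟩, rfl⟩

/-- [ROW L1] -/
theorem sigmaQ_surj (hn : Even n) (Q₀ : QuadraticForm F W) :
    ∀ s ∈ SQ hn Q₀, ∃ i < n / 2, sigmaQ hn Q₀ i = s := by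
  rintro _ ⟨k, rfl⟩
  refine ⟨k.val, k.2, ?_⟩
  unfold sigmaQ
  rw [dif_pos k.2]

end Cfsg.Agent.Lib.Helper18.QBN
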