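import Mathlib
import Cfsg.Agent.Lib.Helper18.SDM.Defs3
import Cfsg.Agent.Lib.Helper25.SDMCONJ
import Cfsg.Agent.Lib.Helper25.SDML1

/-!
# Project SDM (S2549), row C1 (helper25): `nLongQ_conj_torus`, verbatim from `Helper18/SDM/Skel2.lean.txt`
(= CONJ `conj_torus_mem` with `g = n₀⁻¹ ∈ N`).
-/

set_option autoImplicit false
set_option linter.unusedSectionVars false
set_option linter.unusedVariables false

namespace Cfsg.Agent.Lib.Helper18.QBN

open Cfsg.Agent.Lib.helper14.UBN QuadraticMap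

universe u v

variable {F : Type u} [Field F] {W : Type v} [AddCommGroup W] [Module F W] {n : ℕ}

/-- [ROW C1] -/
theorem nLongQ_conj_torus (hn : Even n) (Q₀ : QuadraticForm F W) (h : GQ n Q₀) (hh : h ∈ TQ n Q₀) :
    (nLongQ hn Q₀)⁻¹ * h * nLongQ hn Q₀ ∈ BQ n Q₀ := by
  have h1 := conj_torus_mem hn (nLongQ hn Q₀)⁻¹ h ((NQ n Q₀).inv_mem (nLongQ_mem_NQ hn Q₀)) hh
  rwa [inv_inv] at h1

end Cfsg.Agent.Lib.Helper18.QBN
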