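import Mathlib
import Cfsg.Agent.Lib.Helper18.SDM.Defs3
import Cfsg.Agent.Lib.Helper20.SDMB0
import Cfsg.Agent.Lib.Helper20.SDMB1
import Cfsg.Agent.Lib.Helper22.SDMB4
import Cfsg.Agent.Lib.Helper10.SDMB3
import Cfsg.Agent.Lib.Helper25.SDML1

/-!
# Project SDM (S2549), row C2 (helper25): `mem_torus_of_nLongQ_conj` (`B ∩ n₀ B n₀⁻¹ = T`),
verbatim from `Helper18/SDM/Skel2.lean.txt`.  Uses B0/B1 (`xv_mem_Vfl`, `mem_BQ_iff`), B4 (`BQ_perp`), B3 (`mem_TQ_iff`), L1.
-/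

set_option autoImplicit false
set_option linter.unusedSectionVars false
set_option linter.unusedVariables false

namespace Cfsg.Agent.Lib.Helper18.QBN

open Cfsg.Agent.Lib.helper14.UBN QuadraticMap

universe u v

variable {F : Type u} [Field F] {W : Type v} [AddCommGroup W] [Module F W] {n : ℕ}

/-- a vector supported on the single frame coordinate `i` is a multiple of `x_i` -/
theorem sdmc2_eq_smul (v : QV F n W) (i : Fin n) (h2 : v.2 = 0) (h1 : ∀ l, l ≠ i → v.1 l = 0) :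
    v = v.1 i • xv W i := by
  apply Prod.ext
  · funext l
    rw [Prod.smul_fst, Pi.smul_apply, xv_fst, smul_eq_mul]
    by_cases h : l = i
    · rw [if_pos h, mul_one, h]
    · rw [if_neg h, mul_zero, h1 l h]
  · rw [Prod.smul_snd, xv_snd, smul_zero, h2]

theorem sdmc2_nLong_fst (hn : Even n) (Q₀ : QuadraticForm F W) (v : QV F n W) (l : Fin n) :
    (le (nLongQ hn Q₀) v).1 l = v.1 (rv l) := rfl

theorem sdmc2_nLong_snd (hn : Even n) (Q₀ : QuadraticForm F W) (v : QV F n W) :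
    (le (nLongQ hn Q₀) v).2 = v.2 := rfl

theorem sdmc2_nLong_xv (hn : Even n) (Q₀ : QuadraticForm F W) (i : Fin n) :
    le (nLongQ hn Q₀) (xv W i) = xv W (rv i) :=
  permG_xv hn Q₀ (rvPerm n) RvC_rvPerm i

theorem sdmc2_nLong_sq (hn : Even n) (Q₀ : QuadraticForm F W) (v : QV F n W) :
    le (nLongQ hn Q₀) (le (nLongQ hn Q₀) v) = v := by
  rw [← le_mul, nLongQ_mul_self, le_one]

/-- `β = n₀ γ n₀` for `γ = n₀⁻¹ β n₀` -/
theorem sdmc2_conj (hn : Even n) (Q₀ : QuadraticForm F W) (β : GQ n Q₀) (v : QV F n W) :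
    le β v = le (nLongQ hn Q₀) (le ((nLongQ hn Q₀)⁻¹ * β * nLongQ hn Q₀) (le (nLongQ hn Q₀) v)) := by
  rw [le_mul, le_mul, sdmc2_nLong_sq, le_inv_apply]

/-- [ROW C2] -/
theorem mem_torus_of_nLongQ_conj (hn : Even n) (Q₀ : QuadraticForm F W) (β : GQ n Q₀)
    (hβ : β ∈ BQ n Q₀) (hc : (nLongQ hn Q₀)⁻¹ * β * nLongQ hn Q₀ ∈ BQ n Q₀) : β ∈ TQ n Q₀ := by
  rw [mem_TQ_iff hn]
  obtain ⟨m, hm⟩ := hn
  have hn' : Even n := ⟨m, hm⟩
  obtain ⟨γ, hγ⟩ : ∃ γ : GQ n Q₀, γ = (nLongQ hn' Q₀)⁻¹ * β * nLongQ hn' Q₀ := ⟨_, rfl⟩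
  rw [← hγ] at hc
  have hconj : ∀ v, le β v = le (nLongQ hn' Q₀) (le γ (le (nLongQ hn' Q₀) v)) := by
    intro v
    rw [hγ]
    exact sdmc2_conj hn' Q₀ β v
  have hUβ : IsUpQ β := (mem_BQ_iff β).1 hβ
  have hUγ : IsUpQ γ := (mem_BQ_iff γ).1 hc
  intro i
  rw [Equiv.Perm.one_apply]
  refine ⟨(le β (xv W i)).1 i, ?_⟩
  have hri := rk_add_rv i
  have hlt := rk_lt i
  by_cases hlow : rk i < n / 2
  · -- lower half
    have h1 : le β (xv W i) ∈ Vfl F n W (rk i + 1) :=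
      hUβ (rk i + 1) (by omega) _ (xv_mem_Vfl i (rk i + 1) (by omega))
    apply sdmc2_eq_smul _ i h1.1
    intro l hl
    have hne : rk l ≠ rk i := fun e => hl (rk_injective e)
    rcases Nat.lt_or_gt_of_ne hne with h | h
    · -- rk l < rk i : use γ and BQ_perp
      rw [hconj, sdmc2_nLong_fst, sdmc2_nLong_xv]
      apply BQ_perp hn' γ hc (rk i) (by omega) (xv W (rv i))
      · intro k hk
        rw [xv_fst, if_neg]
        intro e
        rw [e, rv_rv] at hk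
        exact lt_irrefl _ hk
      · rw [rv_rv]
        exact h
    · exact h1.2 l (by omega)
  · -- upper half
    have hr : rk (rv i) < n / 2 := by omega
    have h1 : le γ (xv W (rv i)) ∈ Vfl F n W (rk (rv i) + 1) :=
      hUγ (rk (rv i) + 1) (by omega) _ (xv_mem_Vfl (rv i) (rk (rv i) + 1) (by omega))
    have h2 : (le β (xv W i)).2 = 0 := by
      rw [hconj, sdmc2_nLong_snd, sdmc2_nLong_xv]
      exact h1.1
    apply sdmc2_eq_smul _ i h2
    intro l hl
    have hne : rk (rv l) ≠ rk (rv i) := fun e => hl (rv_inj (rk_injective e))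
    rcases Nat.lt_or_gt_of_ne hne with h | h
    · -- rk (rv l) < rk (rv i) : BQ_perp for β
      apply BQ_perp hn' β hβ (rk (rv i)) (by omega) (xv W i)
      · intro k hk
        rw [xv_fst, if_neg]
        intro e
        rw [e] at hk
        exact lt_irrefl _ hk
      · exact h
    · rw [hconj, sdmc2_nLong_fst, sdmc2_nLong_xv]
      exact h1.2 (rv l) (by omega)

end Cfsg.Agent.Lib.Helper18.QBN
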