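import Mathlib
import Cfsg.Agent.Lib.Helper18.SDM.Defs3
import Cfsg.Agent.Lib.helper3.BNLen

/-!
# Project SDM (S2549), row P1, core (helper25): `qbn_pp_of_pos` with the Skel statements of R1a, R1b, R2a, R2b
as hypotheses: `b = b' u`, `s b g = (s b' s⁻¹) (s g) (g⁻¹ u g)`.
-/

set_option autoImplicit false
set_option linter.unusedSectionVars false
set_option linter.unusedVariables false

namespace Cfsg.Agent.Lib.Helper18.QBN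

open Cfsg.Agent.Lib.helper14.UBN QuadraticMap
open Cfsg.Agent.Lib.helper3

universe u v

variable {F : Type u} [Field F] {W : Type v} [AddCommGroup W] [Module F W] {n : ℕ}

/-- [ROW P1], core -/
theorem sdmp1_core (hn : Even n) (Q₀ : QuadraticForm F W)
    (hR1a : ∀ (k : Fin (n / 2)) (hk : pc k ≠ rv (pa k)) (b : GQ n Q₀) (hb : b ∈ BQ n Q₀),
      ∃ u ∈ Uk hn Q₀ k, sQ hn Q₀ k * (b * u⁻¹) * (sQ hn Q₀ k)⁻¹ ∈ BQ n Q₀)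
    (hR1b : ∀ (k : Fin (n / 2)) (hk : pc k = rv (pa k)) (b : GQ n Q₀) (hb : b ∈ BQ n Q₀),
      ∃ u ∈ Uk hn Q₀ k, sQ hn Q₀ k * (b * u⁻¹) * (sQ hn Q₀ k)⁻¹ ∈ BQ n Q₀)
    (hR2a : ∀ (k : Fin (n / 2)) (hk : pc k ≠ rv (pa k)) (g : GQ n Q₀) (π : Equiv.Perm (Fin n))
      (hπ : RvC π) (hg : IsPermOf g π) (hpos : rk (π.symm (pa k)) < rk (π.symm (pc k)))
      (u : GQ n Q₀) (hu : u ∈ Uk hn Q₀ k), g⁻¹ * u * g ∈ BQ n Q₀)
    (hR2b : ∀ (k : Fin (n / 2)) (hk : pc k = rv (pa k)) (g : GQ n Q₀) (π : Equiv.Perm (Fin n))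
      (hπ : RvC π) (hg : IsPermOf g π) (hpos : rk (π.symm (pa k)) < rk (π.symm (pc k)))
      (u : GQ n Q₀) (hu : u ∈ Uk hn Q₀ k), g⁻¹ * u * g ∈ BQ n Q₀)
    (P : Cfsg.BNPair (GQ n Q₀)) (hB : P.B = BQ n Q₀)
    (k : Fin (n / 2)) (g : GQ n Q₀) (π : Equiv.Perm (Fin n)) (hπ : RvC π) (hg : IsPermOf g π)
    (hpos : rk (π.symm (pa k)) < rk (π.symm (pc k))) : Pp P (sQ hn Q₀ k) g := by
  intro b hb
  rw [hB] at hb
  have h1 : ∃ u ∈ Uk hn Q₀ k, sQ hn Q₀ k * (b * u⁻¹) * (sQ hn Q₀ k)⁻¹ ∈ BQ n Q₀ := by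
    by_cases hk : pc k = rv (pa k)
    · exact hR1b k hk b hb
    · exact hR1a k hk b hb
  obtain ⟨u, hu, hsb⟩ := h1
  have h2 : g⁻¹ * u * g ∈ BQ n Q₀ := by
    by_cases hk : pc k = rv (pa k)
    · exact hR2b k hk g π hπ hg hpos u hu
    · exact hR2a k hk g π hπ hg hpos u hu
  rw [mem_dc]
  refine ⟨sQ hn Q₀ k * (b * u⁻¹) * (sQ hn Q₀ k)⁻¹, by rw [hB]; exact hsb, g⁻¹ * u * g,
    by rw [hB]; exact h2, ?_⟩
  group

end Cfsg.Agent.Lib.Helper18.QBN
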