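import Mathlib
import Cfsg.Agent.Lib.Helper18.SDM.Defs3
import Cfsg.Agent.Lib.helper3.BNLen
import Cfsg.Agent.Lib.Helper11.SDMR1a
import Cfsg.Agent.Lib.Helper5.SDMR1b
import Cfsg.Agent.Lib.Helper18.SDMR2a
import Cfsg.Agent.Lib.Helper10.SDMR2bcd
import Cfsg.Agent.Lib.Helper25.SDMP1core

/-!
# Project SDM (S2549), row P1 (helper25): `qbn_pp_of_pos`, verbatim from `Helper18/SDM/Skel2.lean.txt`
(= `sdmp1_core` + rows R1a (Helper11), R1b (Helper5), R2a (Helper18), R2b (Helper10)).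
-/

set_option autoImplicit false
set_option linter.unusedSectionVars false
set_option linter.unusedVariables false

namespace Cfsg.Agent.Lib.Helper18.QBN

open Cfsg.Agent.Lib.helper14.UBN QuadraticMap
open Cfsg.Agent.Lib.helper3 Cfsg.Agent.Lib.helper14

universe u v

variable {F : Type u} [Field F] {W : Type v} [AddCommGroup W] [Module F W] {n : ℕ}

/-- [ROW P1] positive position ⇒ `s B g ⊆ B s g B` -/
theorem qbn_pp_of_pos (hn : Even n) (Q₀ : QuadraticForm F W) (hQ₀ : ∀ w : W, Q₀ w = 0 → w = 0)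
    (P : Cfsg.BNPair (GQ n Q₀)) (hB : P.B = BQ n Q₀) (hN : P.N = NQ n Q₀) (hS : P.S = SQ hn Q₀)
    (k : Fin (n / 2)) (g : GQ n Q₀) (π : Equiv.Perm (Fin n)) (hπ : RvC π) (hg : IsPermOf g π)
    (hpos : rk (π.symm (pa k)) < rk (π.symm (pc k))) : Pp P (sQ hn Q₀ k) g :=
  sdmp1_core hn Q₀ (fun k hk b hb => root_split_A hn Q₀ k hk b hb)
    (fun k hk b hb => root_split_last hn Q₀ hQ₀ k hk b hb)
    (fun k hk g π hπ hg hpos u hu => root_conj_pos_A hn Q₀ k hk g π hπ hg hpos u hu)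
    (fun k hk g π hπ hg hpos u hu => root_conj_pos_last hn Q₀ k hk g π hπ hg hpos u hu)
    P hB k g π hπ hg hpos

end Cfsg.Agent.Lib.Helper18.QBN
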