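import Mathlib
import Cfsg.Agent.Lib.Helper18.SNA.Defs

/-!
# Project SNA (S2222), piece TR : transport of a self-normalizing 2-subgroup of `Alt α` to `Alt (Fin n)`
-/

set_option autoImplicit false

namespace Cfsg.Agent.Lib.Helper25.SNA

open Cfsg.Agent.Lib.Helper18.SNA Equiv

/-! ## TR: transport to `Fin n` -/
theorem transport_alt {α : Type} [Fintype α] [DecidableEq α] (n : ℕ) (hα : Fintype.card α = n)
    (H : Subgroup (Perm α)) (h2 : IsPGroup 2 H) (hle : H ≤ alternatingGroup α)
    (hs : SelfNormIn (alternatingGroup α) H) :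
    ∃ Q : Subgroup (alternatingGroup (Fin n)), IsPGroup 2 Q ∧
      Subgroup.normalizer (Q : Set (alternatingGroup (Fin n))) ≤ Q := by
  classical
  obtain ⟨e⟩ : Nonempty (α ≃ Fin n) := ⟨Fintype.equivFinOfCardEq hα⟩
  obtain ⟨φ, hφ⟩ : ∃ φ : Perm α ≃* Perm (Fin n), φ = e.permCongrHom := ⟨_, rfl⟩
  have hsign : ∀ σ : Perm α, Perm.sign (φ σ) = Perm.sign σ := fun σ => by
    rw [hφ]
    exact Perm.sign_permCongr e σ
  have halt : ∀ σ : Perm α, φ σ ∈ alternatingGroup (Fin n) ↔ σ ∈ alternatingGroup α := by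
    intro σ
    rw [Perm.mem_alternatingGroup, Perm.mem_alternatingGroup, hsign]
  have hmap : ∀ x : Perm (Fin n), x ∈ H.map φ.toMonoidHom ↔ φ.symm x ∈ H :=
    fun x => Subgroup.mem_map_equiv
  refine ⟨(H.map φ.toMonoidHom).subgroupOf (alternatingGroup (Fin n)),
    (h2.map _).comap_subtype, ?_⟩
  intro g hg
  rw [Subgroup.mem_normalizer_iff] at hg
  rw [Subgroup.mem_subgroupOf, hmap]
  have hg0 : φ.symm (g : Perm (Fin n)) ∈ alternatingGroup α := by
    rw [← halt, φ.apply_symm_apply]
    exact g.2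
  apply hs _ hg0
  intro h
  have key : ∀ h : Perm α, h ∈ alternatingGroup α →
      (h ∈ H ↔ φ.symm (g : Perm (Fin n)) * h * (φ.symm (g : Perm (Fin n)))⁻¹ ∈ H) := by
    intro h hh
    have := hg ⟨φ h, (halt h).2 hh⟩
    rw [Subgroup.mem_subgroupOf, Subgroup.mem_subgroupOf, hmap, hmap] at this
    simpa using this
  by_cases hh : h ∈ alternatingGroup α
  · exact key h hh
  · constructor
    · intro h1
      exact absurd (hle h1) hh
    · intro h1
      exfalso
      apply hh
      have h3 := (alternatingGroup α).inv_mem hg0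
      have := (alternatingGroup α).mul_mem ((alternatingGroup α).mul_mem h3 (hle h1)) hg0
      simpa [mul_assoc] using this

end Cfsg.Agent.Lib.Helper25.SNA
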