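import Mathlib
import Cfsg.Agent.Lib.Helper18.SNA.Defs

/-!
# Project SNA (S2222), piece SL : a subgroup of index prime to `p` contains a Sylow `p`-subgroup
-/

set_option autoImplicit false

namespace Cfsg.Agent.Lib.Helper25.SNA

open Cfsg.Agent.Lib.Helper18.SNA Equiv

/-! ## SL -/
theorem exists_sylow_le_of_not_dvd_index {G : Type*} [Group G] [Finite G] (p : ℕ) [Fact p.Prime]
    (H : Subgroup G) (hH : ¬ p ∣ H.index) : ∃ P : Sylow p G, (P : Subgroup G) ≤ H := by
  obtain ⟨Q⟩ : Nonempty (Sylow p H) := Sylow.nonempty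
  have hcard : Nat.card ((Q : Subgroup H).map H.subtype) = p ^ (Nat.card G).factorization p := by
    have h1 : Nat.card ((Q : Subgroup H).map H.subtype) = Nat.card (Q : Subgroup H) :=
      Subgroup.card_map_of_injective H.subtype_injective
    have hidx : H.index ≠ 0 := Subgroup.index_ne_zero_of_finite
    have hc : Nat.card H ≠ 0 := Nat.card_pos.ne'
    have h2 : (Nat.card G).factorization p = (Nat.card H).factorization p := by
      rw [← H.card_mul_index, Nat.factorization_mul hc hidx, Finsupp.add_apply,
        Nat.factorization_eq_zero_of_not_dvd hH, add_zero]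
    rw [h1, h2]
    exact Q.card_eq_multiplicity
  refine ⟨Sylow.ofCard _ hcard, ?_⟩
  rw [Sylow.coe_ofCard]
  exact Subgroup.map_subtype_le _

end Cfsg.Agent.Lib.Helper25.SNA
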