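import Mathlib
import Cfsg.Prelude.Def_GeometricClasses
import Cfsg.Agent.Lib.Helper27.ASC.Defs
import Cfsg.Agent.Lib.Helper19.ASG.Defs
import Cfsg.Agent.Lib.Helper19.ASU.Defs
import Cfsg.Agent.Lib.Helper26.ASUC.Defs
import Cfsg.Agent.Lib.Helper22.ASCONORMS

set_option autoImplicit false
set_option linter.unusedVariables false
set_option linter.unusedSectionVars false

/-!
# Project ASU, block C, piece C-22FIX (helper25) : `uc_fixed_subfield`
-/

namespace Cfsg.Agent.Lib.Helper19.ASU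

open Cfsg Cfsg.Geo Cfsg.Agent.Lib.Helper27.ASC Cfsg.Agent.Lib.Helper19.ASG
open scoped MatrixGroups Matrix Kronecker

variable {n : ℕ} {F : Type*} [Field F]

/-- `q` is a power of the characteristic -/
theorem asuc22fix_pow [Fintype F] (q : ℕ) (hF : Fintype.card F = q ^ 2) (p : ℕ) [Fact p.Prime] [CharP F p] :
    ∃ j : ℕ, q = p ^ j := by
  obtain ⟨k, hp, hk⟩ := FiniteField.card F p
  have hdvd : q ∣ p ^ (k : ℕ) := by
    rw [← hk, hF]
    exact Dvd.intro_left (q ^ 1) (by ring)
  obtain ⟨j, -, hj⟩ := (Nat.dvd_prime_pow hp).mp hdvd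
  exact ⟨j, hj⟩

/-- the involution `a ↦ a ^ q` of a field with `q²` elements -/
noncomputable def asuc22fixSigma [Fintype F] (q : ℕ) (hF : Fintype.card F = q ^ 2) : F ≃+* F where
  toFun a := a ^ q
  invFun a := a ^ q
  left_inv a := by
    show (a ^ q) ^ q = a
    rw [← pow_mul, ← sq, ← hF, FiniteField.pow_card]
  right_inv a := by
    show (a ^ q) ^ q = a
    rw [← pow_mul, ← sq, ← hF, FiniteField.pow_card]
  map_mul' a b := mul_pow a b q
  map_add' a b := by
    obtain ⟨p, hp⟩ := CharP.exists F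
    haveI := hp
    haveI : Fact p.Prime := ⟨CharP.char_is_prime F p⟩
    obtain ⟨j, hj⟩ := asuc22fix_pow q hF p
    show (a + b) ^ q = a ^ q + b ^ q
    rw [hj]
    exact add_pow_char_pow a b p j

theorem asuc22fixSigma_apply [Fintype F] (q : ℕ) (hF : Fintype.card F = q ^ 2) (a : F) :
    asuc22fixSigma q hF a = a ^ q := rfl

/-- C-22FIX -/
theorem uc_fixed_subfield [Fintype F] (q : ℕ) (hF : Fintype.card F = q ^ 2) :
    ∃ F₀ : Subfield F, Fintype.card F = Nat.card F₀ ^ 2 ∧ ∀ a : F, a ∈ F₀ ↔ a ^ q = a := by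
  classical
  have hq2 : 2 ≤ q := by
    have h1 : 1 < Fintype.card F := Fintype.one_lt_card
    rw [hF] at h1
    by_contra hlt
    have : q ≤ 1 := by omega
    have : q ^ 2 ≤ 1 ^ 2 := Nat.pow_le_pow_left this 2
    omega
  set σ := asuc22fixSigma q hF with hσdef
  have hσσ : ∀ a : F, σ (σ a) = a := fun a => (asuc22fixSigma q hF).left_inv a
  have hσ1 : σ ≠ RingEquiv.refl F := by
    intro h
    obtain ⟨g, hg⟩ := IsCyclic.exists_generator (α := Fˣ)
    have hord : orderOf g = q ^ 2 - 1 := by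
      rw [orderOf_eq_card_of_forall_mem_zpowers hg, Nat.card_eq_fintype_card, Fintype.card_units, hF]
    have h1 : ((g : Fˣ) : F) ^ q = (g : F) := by
      have := congrArg (fun τ : F ≃+* F => τ (g : F)) h
      simpa [hσdef, asuc22fixSigma_apply] using this
    have h2 : g ^ (q - 1) = 1 := by
      apply Units.ext
      rw [Units.val_pow_eq_pow_val, Units.val_one]
      have hg0 : (g : F) ≠ 0 := g.ne_zero
      have : (g : F) ^ (q - 1) * (g : F) = 1 * (g : F) := by
        rw [← pow_succ, Nat.sub_add_cancel (by omega), one_mul, h1]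
      exact mul_right_cancel₀ hg0 this
    have h3 : q ^ 2 - 1 ∣ q - 1 := by
      rw [← hord]
      exact orderOf_dvd_of_pow_eq_one h2
    have h4 : q ^ 2 - 1 ≤ q - 1 := Nat.le_of_dvd (by omega) h3
    have h5 : q * 2 ≤ q ^ 2 := by nlinarith
    omega
  refine ⟨Cfsg.Agent.Lib.helper23.ASCO.asconormsFix σ, ?_, fun a => ?_⟩
  · rw [← Nat.card_eq_fintype_card]
    exact Cfsg.Agent.Lib.helper23.ASCO.asconorms_card σ hσ1 hσσ
  · rw [Cfsg.Agent.Lib.helper23.ASCO.asconorms_mem_fix]
    rfl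

end Cfsg.Agent.Lib.Helper19.ASU
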