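import Mathlib
import Cfsg.Prelude.Def_Characters
import Cfsg.Prelude.Def_Blocks
import Cfsg.Prelude.Def_Local
import Cfsg.Agent.Lib.Helper25.ItoSolvable

/-!
Ito's theorem for `p`-solvable groups: a normal abelian Sylow `p`-subgroup exists iff all
irreducible character degrees are prime to `p` (S4713).
-/

set_option autoImplicit false

namespace Cfsg.Agent.Lib.Helper25
open Cfsg.Agent.Lib.helper7 Cfsg.Agent.Lib.Helper24 Cfsg.Agent.Lib.Helper11
open scoped ComplexConjugate commutatorElement

theorem pit_invariant_of_index_ppow {G : Type*} [Group G] [Finite G] (p : ℕ) (hp : p.Prime)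
    (N : Subgroup G) [N.Normal] (m : ℕ) (hidx : N.index = p ^ m)
    (h : ∀ χ : Cfsg.IrrCharacter G, ¬ p ∣ Cfsg.charDegree (χ : G → ℂ))
    (θ : Cfsg.IrrCharacter N) (g : G) : cj N θ.1 g = θ.1 := by
  classical
  haveI := Fintype.ofFinite G
  haveI : Fintype N := Fintype.ofFinite N
  obtain ⟨χ, hχ⟩ := itn_exists_over N θ
  obtain ⟨e, he⟩ := itn_degree_dvd N χ θ hχ
  have ht := knb_orbit_card_dvd N θ
  rw [hidx] at ht
  obtain ⟨j, hj, hcard⟩ := (Nat.dvd_prime_pow hp).mp ht
  rcases Nat.eq_zero_or_pos j with h0 | h0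
  · rw [h0, pow_zero] at hcard
    obtain ⟨a, ha⟩ := Finset.card_eq_one.mp hcard
    have m1 : cj N θ.1 g ∈ Finset.univ.image (fun g : G => cj N θ.1 g) :=
      Finset.mem_image.mpr ⟨g, Finset.mem_univ _, rfl⟩
    have m2 : cj N θ.1 1 ∈ Finset.univ.image (fun g : G => cj N θ.1 g) :=
      Finset.mem_image.mpr ⟨1, Finset.mem_univ _, rfl⟩
    rw [ha, Finset.mem_singleton] at m1 m2
    rw [m1, ← m2, cj_one]
  · exfalso
    apply h χ
    rw [he, hcard]
    exact dvd_mul_of_dvd_right (dvd_mul_of_dvd_left (dvd_pow_self p h0.ne') _) _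

/-- a `p`-element fixing all irreducible characters of a normal `p'`-subgroup centralizes it -/
theorem pit_centralizes {G : Type*} [Group G] [Finite G] (p : ℕ) [hp : Fact p.Prime]
    (N : Subgroup G) [hN : N.Normal] (hcop : ¬ p ∣ Nat.card N) (s : G) (k : ℕ)
    (hs : s ^ p ^ k = 1)
    (hinv : ∀ θ : Cfsg.IrrCharacter N, cj N θ.1 s = θ.1) (n : N) : s * (n : G) = (n : G) * s := by
  classical
  haveI := Fintype.ofFinite G
  haveI : Fintype N := Fintype.ofFinite N
  -- the conjugation automorphism of N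
  let σ : N ≃* N := MulAut.conjNormal s
  have hσ : ∀ x : N, ((σ x : N) : G) = s * x * s⁻¹ := fun x => rfl
  have hσpow : ∀ (k : ℕ) (x : N), (((σ ^ k) x : N) : G) = s ^ k * x * (s ^ k)⁻¹ := by
    intro k
    induction k with
    | zero => intro x; simp
    | succ k ih =>
      intro x
      rw [pow_succ', MulAut.mul_apply, hσ, ih, pow_succ']
      group
  -- each class is stable
  have hclass : ∀ x : N, IsConj x (σ x) := by
    intro x
    apply isConj_of_irr_eq
    intro θ
    have h1 := congrFun (hinv θ) x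
    rw [cj_apply] at h1
    exact h1
  have hσp : ∀ x : N, (σ ^ p ^ k) x = x := by
    intro x
    apply Subtype.ext
    rw [hσpow, hs]
    simp
  -- fixed points meet every class
  have hmeet : ∀ x : N, ∃ m : N, m * x * m⁻¹ ∈ MonoidHom.eqLocus σ.toMonoidHom (MonoidHom.id N) := by
    intro x
    let f : Function.End {y : N // IsConj x y} := fun y => ⟨σ y.1, y.2.trans (hclass y.1)⟩
    have hfiter : ∀ (k : ℕ) (y : {y : N // IsConj x y}), ((f^[k]) y).1 = (σ ^ k) y.1 := by
      intro k
      induction k with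
      | zero => intro y; rfl
      | succ k ih =>
        intro y
        rw [Function.iterate_succ_apply', pow_succ', MulAut.mul_apply, ← ih]
    have hf : f ^ p ^ k = 1 := by
      funext y
      show (f^[p ^ k]) y = y
      apply Subtype.ext
      rw [hfiter, hσp]
    have hmod := Equiv.Perm.card_fixedPoints_modEq (p := p) (n := k) hf
    have hdvd : Fintype.card {y : N // IsConj x y} ∣ Nat.card N := by
      rw [← card_conj_mul_card_centralizer x, Nat.card_eq_fintype_card]
      exact dvd_mul_right _ _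
    have hnp : ¬ p ∣ Fintype.card {y : N // IsConj x y} := fun h => hcop (dvd_trans h hdvd)
    have hpos : 0 < Fintype.card (Function.fixedPoints f) := by
      rcases Nat.eq_zero_or_pos (Fintype.card (Function.fixedPoints f)) with h | h
      · exfalso
        rw [h] at hmod
        exact hnp (Nat.modEq_zero_iff_dvd.mp hmod)
      · exact h
    obtain ⟨⟨y, hy⟩⟩ := Fintype.card_pos_iff.mp hpos
    obtain ⟨m, hm⟩ := isConj_iff.mp y.2
    refine ⟨m, ?_⟩
    rw [hm]
    show σ y.1 = y.1
    have h1 : f y = y := hy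
    exact congrArg Subtype.val h1
  have htop := itn_eq_top_of_conj_cover _ hmeet
  have hn : n ∈ MonoidHom.eqLocus σ.toMonoidHom (MonoidHom.id N) := by
    rw [htop]; exact Subgroup.mem_top n
  have h2 : σ n = n := hn
  have h3 := congrArg Subtype.val h2
  rw [hσ] at h3
  calc s * (n : G) = (s * n * s⁻¹) * s := by group
    _ = n * s := by rw [h3]

/-- a normal `p'`-subgroup of `p`-power index, all degrees prime to `p`: normal Sylow -/
theorem pit_case_ppow {G : Type*} [Group G] [Finite G] (p : ℕ) [hp : Fact p.Prime]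
    (N : Subgroup G) [hN : N.Normal] (m : ℕ) (hidx : N.index = p ^ m) (hcop : ¬ p ∣ Nat.card N)
    (h : ∀ χ : Cfsg.IrrCharacter G, ¬ p ∣ Cfsg.charDegree (χ : G → ℂ)) :
    ∃ P : Subgroup G, P.Normal ∧ IsPGroup p P ∧ ¬ p ∣ P.index := by
  obtain ⟨P⟩ : Nonempty (Sylow p G) := inferInstance
  have hcent : ∀ s ∈ (P : Subgroup G), ∀ n : N, s * (n : G) = (n : G) * s := by
    intro s hs n
    obtain ⟨k, hk⟩ := P.isPGroup' ⟨s, hs⟩
    have hk' : s ^ p ^ k = 1 := by
      have := congrArg Subtype.val hk
      simpa using this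
    exact pit_centralizes p N hcop s k hk'
      (fun θ => pit_invariant_of_index_ppow p hp.out N m hidx h θ s) n
  have hNle : N ≤ Subgroup.normalizer ((P : Subgroup G) : Set G) := by
    intro n hn
    rw [Subgroup.mem_normalizer_iff]
    intro x
    constructor
    · intro hx
      have h1 := hcent x hx ⟨n, hn⟩
      have : n * x * n⁻¹ = x := by
        change x * n = n * x at h1
        rw [← h1]; group
      rw [this]; exact hx
    · intro hx
      have h1 := hcent _ hx ⟨n, hn⟩
      change n * x * n⁻¹ * n = n * (n * x * n⁻¹) at h1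
      have : x = n * x * n⁻¹ := by
        have h2 : n * x = n * (n * x * n⁻¹) := by rw [← h1]; group
        exact mul_left_cancel h2
      rw [this]; exact hx
  have h1 : (Subgroup.normalizer ((P : Subgroup G) : Set G)).index ∣ p ^ m := by
    rw [← hidx]; exact Subgroup.index_dvd_of_le hNle
  have h2 : (Subgroup.normalizer ((P : Subgroup G) : Set G)).index ∣ (P : Subgroup G).index :=
    Subgroup.index_dvd_of_le Subgroup.le_normalizer
  have h3 : (Subgroup.normalizer ((P : Subgroup G) : Set G)).index = 1 := by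
    obtain ⟨j, hj, hcard⟩ := (Nat.dvd_prime_pow hp.out).mp h1
    rcases Nat.eq_zero_or_pos j with h0 | h0
    · rw [hcard, h0, pow_zero]
    · exfalso
      apply P.not_dvd_index
      rw [hcard] at h2
      exact dvd_trans (dvd_pow_self p h0.ne') h2
  have h4 : (P : Subgroup G).Normal := by
    rw [← Subgroup.normalizer_eq_top_iff]
    exact Subgroup.index_eq_one.mp h3
  exact ⟨P, h4, P.isPGroup', P.not_dvd_index⟩

/-- the step along the `p`-series -/
theorem pit_step {G : Type*} [Group G] [Finite G] (p : ℕ) [hp : Fact p.Prime]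
    (K S : Subgroup G) [K.Normal] [S.Normal] (hKS : K ≤ S) (hcop : ¬ p ∣ Nat.card K) (m : ℕ)
    (hidx : K.relIndex S = p ^ m)
    (h : ∀ χ : Cfsg.IrrCharacter G, ¬ p ∣ Cfsg.charDegree (χ : G → ℂ)) :
    ∃ P : Subgroup G, P.Normal ∧ P ≤ S ∧ IsPGroup p P ∧ ¬ p ∣ P.relIndex S := by
  have hS := itn_allPrime_normal p S h
  have hcard : Nat.card (K.subgroupOf S) = Nat.card K :=
    Nat.card_congr (Subgroup.subgroupOfEquivOfLe hKS).toEquiv
  obtain ⟨P₀, hP₀n, hP₀p, hP₀i⟩ := pit_case_ppow p (K.subgroupOf S) m hidx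
    (by rw [hcard]; exact hcop) hS
  have hchar : P₀.Characteristic := by
    have hQn : ((hP₀p.toSylow hP₀i : Sylow p S) : Subgroup S).Normal := by
      rw [IsPGroup.toSylow_coe]; exact hP₀n
    have := Sylow.characteristic_of_normal (hP₀p.toSylow hP₀i) hQn
    rwa [IsPGroup.toSylow_coe] at this
  haveI := hchar
  have hPn : (P₀.map S.subtype).Normal := ConjAct.normal_of_characteristic_of_normal
  refine ⟨P₀.map S.subtype, hPn, Subgroup.map_subtype_le P₀, hP₀p.map S.subtype, ?_⟩
  have : (P₀.map S.subtype).relIndex S = P₀.index := by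
    unfold Subgroup.relIndex
    congr 1
    ext x
    rw [Subgroup.mem_subgroupOf]
    constructor
    · rintro ⟨y, hy, hyx⟩
      have : y = x := Subtype.ext hyx
      rw [← this]; exact hy
    · intro hx
      exact ⟨x, hx, rfl⟩
  rw [this]
  exact hP₀i

theorem pit_normal_sylow {G : Type*} [Group G] [Finite G] (p : ℕ) [hp : Fact p.Prime]
    (hsolv : Cfsg.IsPSolvable p G)
    (h : ∀ χ : Cfsg.IrrCharacter G, ¬ p ∣ Cfsg.charDegree (χ : G → ℂ)) :
    ∃ P : Subgroup G, P.Normal ∧ IsPGroup p P ∧ ¬ p ∣ P.index := by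
  obtain ⟨n, H, h0, hlast, hmono, hnorm, hfac⟩ := hsolv
  have key : ∀ i : Fin (n + 1), ∃ Q : Subgroup G, Q.Normal ∧ Q ≤ H i ∧ IsPGroup p Q ∧
      ¬ p ∣ Q.relIndex (H i) := by
    intro i
    induction i using Fin.induction with
    | zero =>
      refine ⟨⊥, inferInstance, bot_le, IsPGroup.of_bot, ?_⟩
      rw [h0, Subgroup.relIndex_bot_left]
      simp only [Subgroup.mem_bot, Nat.card_unique, Nat.dvd_one]
      exact hp.out.one_lt.ne'
    | succ i ih =>
      obtain ⟨Q, hQn, hQle, hQp, hQi⟩ := ih
      have hle : H i.castSucc ≤ H i.succ := hmono (Fin.castSucc_lt_succ).le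
      rcases hfac i with ⟨m, hm⟩ | hc
      · -- p-power factor: pass to G ⧸ Q
        haveI := hQn
        haveI := hnorm i.castSucc
        haveI := hnorm i.succ
        let f := QuotientGroup.mk' Q
        have hf : Function.Surjective f := QuotientGroup.mk'_surjective Q
        have hker : f.ker = Q := QuotientGroup.ker_mk' Q
        haveI : ((H i.castSucc).map f).Normal := Subgroup.Normal.map inferInstance f hf
        haveI : ((H i.succ).map f).Normal := Subgroup.Normal.map inferInstance f hf
        have hcomap : ((H i.castSucc).map f).comap f = H i.castSucc := by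
          rw [Subgroup.comap_map_eq, hker, sup_eq_left]; exact hQle
        have hcardK : Nat.card ((H i.castSucc).map f) = Q.relIndex (H i.castSucc) := by
          rw [← Subgroup.relIndex_bot_left, ← Subgroup.relIndex_comap, MonoidHom.comap_bot, hker]
        have hrel : ((H i.castSucc).map f).relIndex ((H i.succ).map f) = p ^ m := by
          rw [← Subgroup.relIndex_comap, hcomap]; exact hm
        obtain ⟨P, hPn, hPle, hPp, hPi⟩ := pit_step p ((H i.castSucc).map f) ((H i.succ).map f)
          (Subgroup.map_mono hle) (by rw [hcardK]; exact hQi) m hrel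
          (itn_allPrime_quotient p Q h)
        haveI := hPn
        refine ⟨P.comap f, inferInstance, ?_, ?_, ?_⟩
        · have := Subgroup.comap_mono (f := f) hPle
          rw [Subgroup.comap_map_eq, hker, sup_eq_left.mpr (hQle.trans hle)] at this
          exact this
        · apply hPp.comap_of_ker_isPGroup
          rw [hker]; exact hQp
        · rw [Subgroup.relIndex_comap]; exact hPi
      · refine ⟨Q, hQn, hQle.trans hle, hQp, ?_⟩
        rw [← Subgroup.relIndex_mul_relIndex Q (H i.castSucc) (H i.succ) hQle hle]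
        intro hdvd
        rcases (Nat.Prime.dvd_mul hp.out).mp hdvd with h1 | h1
        · exact hQi h1
        · exact (Nat.Prime.coprime_iff_not_dvd hp.out).mp hc.symm h1
  obtain ⟨Q, hQn, _, hQp, hQi⟩ := key (Fin.last n)
  rw [hlast, Subgroup.relIndex_top_right] at hQi
  exact ⟨Q, hQn, hQp, hQi⟩

theorem pit_main {G : Type*} [Group G] [Finite G] (p : ℕ) [Fact p.Prime]
    (hsolv : Cfsg.IsPSolvable p G) (P : Sylow p G) :
    ((P : Subgroup G).Normal ∧ IsMulCommutative P) ↔
      ∀ χ : Cfsg.IrrCharacter G, ¬ p ∣ Cfsg.charDegree (χ : G → ℂ) := by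
  classical
  haveI := Fintype.ofFinite G
  constructor
  · rintro ⟨hPn, hab⟩ χ hdvd
    haveI := hPn
    have hab' : ∀ x ∈ (P : Subgroup G), ∀ y ∈ (P : Subgroup G), x * y = y * x := by
      intro x hx y hy
      have := hab.is_comm.comm (⟨x, hx⟩ : P) ⟨y, hy⟩
      exact congrArg Subtype.val this
    obtain ⟨d, hd, hddvd⟩ := Cfsg.Agent.Lib.helper2.ito_aux (Fintype.card G) le_rfl χ.1 χ.2
      (P : Subgroup G) hab'
    obtain ⟨hd', _⟩ := charDegree_irr χ
    have : Cfsg.charDegree (χ : G → ℂ) = d := by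
      have : ((Cfsg.charDegree (χ : G → ℂ) : ℕ) : ℂ) = (d : ℂ) := by rw [hd', ← hd]
      exact_mod_cast this
    rw [this] at hdvd
    exact P.not_dvd_index (dvd_trans hdvd hddvd)
  · intro h
    obtain ⟨Q, hQn, hQp, hQi⟩ := pit_normal_sylow p hsolv h
    haveI := hQn
    have hQS : ((hQp.toSylow hQi : Sylow p G) : Subgroup G).Normal := by
      rw [IsPGroup.toSylow_coe]; exact hQn
    haveI := Sylow.unique_of_normal (hQp.toSylow hQi) hQS
    have hPQ : P = hQp.toSylow hQi := Subsingleton.elim _ _
    have hPQ' : (P : Subgroup G) = Q := by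
      rw [hPQ, IsPGroup.toSylow_coe]
    have hPn : (P : Subgroup G).Normal := by rw [hPQ']; exact hQn
    refine ⟨hPn, ?_⟩
    have hab := itn_abelian p (P : Subgroup G) P.isPGroup' h
    exact ⟨⟨fun a b => Subtype.ext (hab a.1 a.2 b.1 b.2)⟩⟩

end Cfsg.Agent.Lib.Helper25
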