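import Mathlib
import Cfsg.Agent.Lib.Helper25.Laradji
import Cfsg.Agent.Lib.Helper25.ExtraspecialUnique
import Cfsg.Agent.Lib.Helper25.CharBound
import Cfsg.Agent.Lib.helper2.MGroup2
import Cfsg.Agent.S0887

/-!
# Brauer pairs carrying a weight (S4694): wt_cover (constituents of a covering block with the idempotent of a stable block), wt_ker_constituent (kernels pass to constituents), wt_degree_sq_le, wt_Op_le (defect zero modulo Q forces O_p = Q), wt_constituent_defect_zero, wt_main
-/

set_option autoImplicit false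
set_option linter.style.haveILetI false
set_option linter.unusedVariables false
set_option warn.classDefReducibility false
set_option maxHeartbeats 1600000

namespace Cfsg.Agent.Lib.Helper25
open Cfsg.Agent.Lib.Helper24
open Cfsg.Agent.Lib.Helper11
open Cfsg.Agent.Lib.helper2
open Cfsg.Agent.Lib.helper7
open scoped ComplexConjugate
section

/-- if the block `B` of `G` has the idempotent of the `G`-stable block `c` of the normal subgroup
`N`, then every constituent of the restriction of a member of `B` lies in `c` -/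
theorem wt_cover {G : Type*} [Group G] [Fintype G] (p : ℕ) [hp : Fact p.Prime]
    (M : Ideal Cfsg.AlgInt) (hM : Cfsg.IsPModular p M)
    (N : Subgroup G) [hNn : N.Normal] [Fintype N] (c : Set (Cfsg.IrrCharacter N))
    (hst : ∀ x : G, Cfsg.StabilizesBlock N c x)
    (B : Set (Cfsg.IrrCharacter G))
    (hBc : ∀ g : G, Cfsg.blockCoeff B g = Cfsg.subgroupBlockCoeff N c g)
    (χ : Cfsg.IrrCharacter G) (hχ : χ ∈ B) (θ : Cfsg.IrrCharacter N)
    (hcon : Cfsg.classInner (fun n : N => (χ : G → ℂ) n) (θ : N → ℂ) ≠ 0) : θ ∈ c := by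
  classical
  haveI : Fintype (Cfsg.IrrCharacter G) := Fintype.ofFinite _
  haveI : Fintype (Cfsg.IrrCharacter N) := Fintype.ofFinite _
  have hinv := fp_inv_of_stab N c hst
  have hcoef : ∀ g : G, Cfsg.blockCoeff (h7_over N c) g = Cfsg.subgroupBlockCoeff N c g := by
    intro g
    rw [fp_subgroupBlockCoeff_eq, h7_cover_coef N c (fc_gstable N c hinv)]
  have hBeq : B = h7_over N c := fp_eq_of_blockCoeff_eq B _ (fun g => by rw [hBc, hcoef])
  rw [hBeq] at hχ
  obtain ⟨θ₀, hθ₀, hne⟩ := hχ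
  obtain ⟨g, hg⟩ := h7_clifford_conj N (χ : G → ℂ) χ.2 (θ₀ : N → ℂ) (θ : N → ℂ) θ₀.2 θ.2 hne hcon
  have h1 := hinv g θ₀ hθ₀
  have e : fr_cj N g θ₀ = θ := Subtype.ext hg.symm
  rwa [e] at h1

/-- a complex number with real part `r` and norm at most `r` equals `r` -/
theorem wt_eq_of_re_eq (z : ℂ) (r : ℝ) (h1 : z.re = r) (h2 : ‖z‖ ≤ r) : z = (r : ℂ) := by
  have h3 : ‖z‖ ^ 2 = z.re ^ 2 + z.im ^ 2 := by
    rw [← Complex.normSq_eq_norm_sq, Complex.normSq_apply]
    ring
  have hr : 0 ≤ r := le_trans (norm_nonneg z) h2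
  have h4 : ‖z‖ ^ 2 ≤ r ^ 2 := pow_le_pow_left₀ (norm_nonneg z) h2 2
  have h5 : z.im ^ 2 ≤ 0 := by
    rw [h3, h1] at h4
    linarith
  have h6 : z.im = 0 := by
    have := sq_nonneg z.im
    have h7 : z.im ^ 2 = 0 := le_antisymm h5 this
    exact pow_eq_zero_iff (two_ne_zero) |>.mp h7
  apply Complex.ext
  · rw [h1]
    simp
  · rw [h6]
    simp

/-- **kernels pass to constituents**: if `χ x = χ 1` for a character `χ` of `G` and `x ∈ H`, then
every irreducible constituent `μ` of `χ|_H` has `μ x = μ 1` -/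
theorem wt_ker_constituent {G : Type*} [Group G] [Fintype G] (H : Subgroup G) [Fintype H] (χ : G → ℂ)
    (hχ : Cfsg.IsCharacter G χ) (lam : Cfsg.IrrCharacter H)
    (hcon : Cfsg.classInner (fun h : H => χ h) (lam : H → ℂ) ≠ 0) (x : H)
    (hx : χ (x : G) = χ 1) : (lam : H → ℂ) x = (lam : H → ℂ) 1 := by
  classical
  haveI : Fintype (Cfsg.IrrCharacter H) := Fintype.ofFinite _
  have hR := isCharacter_restrict hχ H
  obtain ⟨m, hm, hexp⟩ := isCharacter_expansion hR
  have hdeg : ∀ μ : Cfsg.IrrCharacter H,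
      (μ : H → ℂ) 1 = ((Cfsg.charDegree (μ : H → ℂ) : ℕ) : ℂ) :=
    fun μ => ((h7_charDegree_props μ).2.2).symm
  have hval : ∀ y : H, χ (y : G) = ∑ μ : Cfsg.IrrCharacter H, (m μ : ℂ) * (μ : H → ℂ) y := by
    intro y
    have := congrFun hexp y
    simp only [Finset.sum_apply, Pi.smul_apply, smul_eq_mul] at this
    exact this
  have h1 : ∑ μ : Cfsg.IrrCharacter H, (m μ : ℂ) * ((μ : H → ℂ) 1 - (μ : H → ℂ) x) = 0 := by
    simp only [mul_sub]
    rw [Finset.sum_sub_distrib, ← hval, ← hval, hx]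
    simp
  have h2 := congrArg Complex.re h1
  rw [Complex.re_sum] at h2
  have hterm : ∀ μ : Cfsg.IrrCharacter H,
      ((m μ : ℂ) * ((μ : H → ℂ) 1 - (μ : H → ℂ) x)).re =
        (m μ : ℝ) * ((Cfsg.charDegree (μ : H → ℂ) : ℝ) - ((μ : H → ℂ) x).re) := by
    intro μ
    rw [hdeg μ]
    simp
  simp only [hterm, Complex.zero_re] at h2
  have hle : ∀ μ : Cfsg.IrrCharacter H,
      ‖(μ : H → ℂ) x‖ ≤ (Cfsg.charDegree (μ : H → ℂ) : ℝ) := by
    intro μ
    have := irr_norm_le μ x
    rw [hdeg μ] at this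
    simpa using this
  have hnn : ∀ μ ∈ (Finset.univ : Finset (Cfsg.IrrCharacter H)),
      0 ≤ (m μ : ℝ) * ((Cfsg.charDegree (μ : H → ℂ) : ℝ) - ((μ : H → ℂ) x).re) := by
    intro μ _
    apply mul_nonneg (Nat.cast_nonneg _)
    have := Complex.re_le_norm ((μ : H → ℂ) x)
    linarith [hle μ]
  have h3 := (Finset.sum_eq_zero_iff_of_nonneg hnn).mp h2 lam (Finset.mem_univ _)
  have hmlam : (m lam : ℝ) ≠ 0 := by
    intro h0
    apply hcon
    rw [hm lam]
    have : m lam = 0 := by exact_mod_cast h0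
    rw [this]
    simp
  have h4 : ((lam : H → ℂ) x).re = (Cfsg.charDegree (lam : H → ℂ) : ℝ) := by
    rcases mul_eq_zero.mp h3 with h | h
    · exact absurd h hmlam
    · linarith
  rw [wt_eq_of_re_eq _ _ h4 (hle lam), hdeg lam]
  simp

end

section

/-- a character of `R₁` whose kernel contains `Q` has `|Q| · degree² ≤ |R₁|` -/
theorem wt_degree_sq_le {R : Type*} [Group R] [Fintype R] (S : Subgroup R)
    (lam : Cfsg.IrrCharacter R) (hS : ∀ x ∈ S, (lam : R → ℂ) x = (lam : R → ℂ) 1) :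
    Nat.card S * Cfsg.charDegree (lam : R → ℂ) ^ 2 ≤ Nat.card R := by
  classical
  haveI : Fintype S := Fintype.ofFinite _
  obtain ⟨he1, he2, he3⟩ := h7_charDegree_props lam
  set d := Cfsg.charDegree (lam : R → ℂ) with hd
  have hnorm : Cfsg.classInner (lam : R → ℂ) (lam : R → ℂ) = 1 := by
    rw [irr_classInner, if_pos rfl]
  have hR0 : (Nat.card R : ℂ) ≠ 0 := by exact_mod_cast Nat.card_pos.ne'
  have h1 : ∑ x : R, ((Complex.normSq ((lam : R → ℂ) x) : ℝ) : ℂ) = (Nat.card R : ℂ) := by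
    unfold Cfsg.classInner at hnorm
    have h2 : ∑ x : R, (lam : R → ℂ) x * conj ((lam : R → ℂ) x) = (Nat.card R : ℂ) := by
      field_simp at hnorm
      exact hnorm
    rw [← h2]
    refine Finset.sum_congr rfl fun x _ => ?_
    rw [Complex.mul_conj]
  have h1' : ∑ x : R, Complex.normSq ((lam : R → ℂ) x) = (Nat.card R : ℝ) := by
    have : ((∑ x : R, Complex.normSq ((lam : R → ℂ) x) : ℝ) : ℂ) = ((Nat.card R : ℝ) : ℂ) := by
      push_cast
      exact h1
    exact_mod_cast this
  have h3 : ∑ x ∈ Finset.univ.filter (fun x : R => x ∈ S), Complex.normSq ((lam : R → ℂ) x) ≤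
      ∑ x : R, Complex.normSq ((lam : R → ℂ) x) :=
    Finset.sum_le_sum_of_subset_of_nonneg (Finset.filter_subset _ _)
      (fun x _ _ => Complex.normSq_nonneg _)
  have h4 : ∑ x ∈ Finset.univ.filter (fun x : R => x ∈ S), Complex.normSq ((lam : R → ℂ) x) =
      (Nat.card S : ℝ) * (d : ℝ) ^ 2 := by
    have h5 : ∀ x ∈ Finset.univ.filter (fun x : R => x ∈ S),
        Complex.normSq ((lam : R → ℂ) x) = (d : ℝ) ^ 2 := by
      intro x hx
      rw [hS x (Finset.mem_filter.mp hx).2, ← he3]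
      rw [Complex.normSq_natCast]
      ring
    rw [Finset.sum_congr rfl h5, Finset.sum_const, nsmul_eq_mul]
    congr 1
    rw [Nat.card_eq_fintype_card, Fintype.card_subtype]
  rw [h4, h1'] at h3
  exact_mod_cast h3

/-- **a group with a character of defect zero modulo the normal `p`-subgroup `Q` has
`O_p = Q`** -/
theorem wt_Op_le {T : Type*} [Group T] [Fintype T] (p : ℕ) [hp : Fact p.Prime]
    (Q : Subgroup T) [hQn : Q.Normal] (hQ : IsPGroup p Q)
    (χ : Cfsg.IrrCharacter T) (hker : ∀ x ∈ Q, (χ : T → ℂ) x = (χ : T → ℂ) 1)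
    (hdeg : (Cfsg.charDegree (χ : T → ℂ)).factorization p + (Nat.card Q).factorization p =
      (Nat.card T).factorization p)
    (R : Subgroup T) [hRn : R.Normal] (hR : IsPGroup p R) : R ≤ Q := by
  classical
  set R₁ : Subgroup T := R ⊔ Q with hR₁
  haveI : R₁.Normal := Subgroup.sup_normal R Q
  have hR₁p : IsPGroup p R₁ := IsPGroup.to_sup_of_normal_right hR hQ
  haveI : Fintype R₁ := Fintype.ofFinite _
  have hQR : Q ≤ R₁ := le_sup_right
  have hχc := isCharacter_of_irr χ
  have hψ := isCharacter_restrict hχc R₁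
  have hψ1 : (fun r : R₁ => (χ : T → ℂ) r) 1 ≠ 0 := irr_one_ne_zero χ
  obtain ⟨lam, m, hm, hlam⟩ := isCharacter_exists_constituent hψ hψ1
  have hcon : Cfsg.classInner (fun r : R₁ => (χ : T → ℂ) r) (lam : R₁ → ℂ) ≠ 0 := by
    rw [hlam]
    exact_mod_cast hm.ne'
  obtain ⟨hd1, hd2, hd3⟩ := h7_charDegree_props χ
  obtain ⟨he1, he2, he3⟩ := h7_charDegree_props lam
  set c := Cfsg.charDegree (χ : T → ℂ) with hc
  set d := Cfsg.charDegree (lam : R₁ → ℂ) with hd
  obtain ⟨hdc, hk⟩ := Cfsg.Agent.S0887.result R₁ (χ : T → ℂ) χ.2 (lam : R₁ → ℂ) lam.2 hcon c d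
    hd3.symm he3.symm
  have hlamQ : ∀ x ∈ Q.subgroupOf R₁, (lam : R₁ → ℂ) x = (lam : R₁ → ℂ) 1 := by
    intro x hx
    exact wt_ker_constituent R₁ (χ : T → ℂ) hχc lam hcon x
      (hker (x : T) (Subgroup.mem_subgroupOf.mp hx))
  have hineq := wt_degree_sq_le (Q.subgroupOf R₁) lam hlamQ
  rw [← hd] at hineq
  have hcardS : Nat.card (Q.subgroupOf R₁) = Nat.card Q :=
    Nat.card_congr (Subgroup.subgroupOfEquivOfLe hQR).toEquiv
  rw [hcardS] at hineq
  obtain ⟨q, hq⟩ := hQ.exists_card_eq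
  obtain ⟨r₁, hr₁⟩ := hR₁p.exists_card_eq
  obtain ⟨l, hl⟩ : ∃ l : ℕ, d = p ^ l := by
    have hdvd : d ∣ p ^ r₁ := hr₁ ▸ he1
    obtain ⟨j, -, hj⟩ := (Nat.dvd_prime_pow hp.out).mp hdvd
    exact ⟨j, hj⟩
  have h1 : q + 2 * l ≤ r₁ := by
    rw [hq, hr₁, hl, ← pow_mul, ← pow_add] at hineq
    have := (Nat.pow_le_pow_iff_right hp.out.one_lt).mp hineq
    omega
  have hidx : R₁.index * Nat.card R₁ = Nat.card T := Subgroup.index_mul_card R₁
  have hI0 : R₁.index ≠ 0 := Subgroup.index_ne_zero_of_finite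
  have hR0 : Nat.card R₁ ≠ 0 := Nat.card_pos.ne'
  have f1 : (R₁.index).factorization p + r₁ = (Nat.card T).factorization p := by
    rw [← hidx, Nat.factorization_mul hI0 hR0, hr₁, Nat.Prime.factorization_pow hp.out]
    simp
  have hcd : c = d * (c / d) := (Nat.mul_div_cancel' hdc).symm
  have hcd0 : c / d ≠ 0 := by
    intro h0
    rw [h0, mul_zero] at hcd
    omega
  have f2 : c.factorization p = l + (c / d).factorization p := by
    conv_lhs => rw [hcd]
    rw [Nat.factorization_mul he2.ne' hcd0, hl, Nat.Prime.factorization_pow hp.out]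
    simp
  have f3 : (c / d).factorization p ≤ (R₁.index).factorization p :=
    (Nat.factorization_le_iff_dvd hcd0 hI0).mpr hk p
  have f4 : (Nat.card Q).factorization p = q := by
    rw [hq, Nat.Prime.factorization_pow hp.out]
    simp
  have h2 : r₁ ≤ q := by omega
  have hcard : Nat.card R₁ ≤ Nat.card Q := by
    rw [hq, hr₁]
    exact Nat.pow_le_pow_right hp.out.pos h2
  have heq : Q = R₁ := Subgroup.eq_of_le_of_card_ge hQR hcard
  rw [heq]
  exact le_sup_left

end

section

/-- **a character of defect zero modulo the normal subgroup `Q` has a constituent on each normal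
subgroup `N` of defect zero modulo `Q ∩ N`** -/
theorem wt_constituent_defect_zero {T : Type*} [Group T] [Fintype T] (p : ℕ) [hp : Fact p.Prime]
    (Q N : Subgroup T) [hQn : Q.Normal] [hNn : N.Normal] [Fintype N]
    (χ : Cfsg.IrrCharacter T) (hker : ∀ x ∈ Q, (χ : T → ℂ) x = (χ : T → ℂ) 1)
    (hdeg : (Cfsg.charDegree (χ : T → ℂ)).factorization p + (Nat.card Q).factorization p =
      (Nat.card T).factorization p) :
    ∃ θ : Cfsg.IrrCharacter N,
      Cfsg.classInner (fun n : N => (χ : T → ℂ) n) (θ : N → ℂ) ≠ 0 ∧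
      (∀ n : N, (n : T) ∈ Q → (θ : N → ℂ) n = (θ : N → ℂ) 1) ∧
      (Cfsg.charDegree (θ : N → ℂ)).factorization p +
        (Nat.card (Q ⊓ N : Subgroup T)).factorization p = (Nat.card N).factorization p := by
  classical
  haveI : Fintype (T ⧸ Q) := Fintype.ofFinite _
  set π := QuotientGroup.mk' Q with hπ
  set Nb : Subgroup (T ⧸ Q) := N.map π with hNb
  haveI : Nb.Normal := Subgroup.Normal.map hNn π (QuotientGroup.mk'_surjective Q)
  haveI : Fintype Nb := Fintype.ofFinite _
  obtain ⟨χb, hχb⟩ := h7_deflate Q χ hker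
  have hχbc := isCharacter_of_irr χb
  have hψ := isCharacter_restrict hχbc Nb
  have hψ1 : (fun r : Nb => (χb : T ⧸ Q → ℂ) r) 1 ≠ 0 := irr_one_ne_zero χb
  obtain ⟨ϑb, m, hm, hϑ⟩ := isCharacter_exists_constituent hψ hψ1
  have hcon : Cfsg.classInner (fun r : Nb => (χb : T ⧸ Q → ℂ) r) (ϑb : Nb → ℂ) ≠ 0 := by
    rw [hϑ]
    exact_mod_cast hm.ne'
  obtain ⟨hd1, hd2, hd3⟩ := h7_charDegree_props χb
  obtain ⟨he1, he2, he3⟩ := h7_charDegree_props ϑb
  set c := Cfsg.charDegree (χb : T ⧸ Q → ℂ) with hc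
  set d := Cfsg.charDegree (ϑb : Nb → ℂ) with hd
  obtain ⟨hdc, hk⟩ := Cfsg.Agent.S0887.result Nb (χb : T ⧸ Q → ℂ) χb.2 (ϑb : Nb → ℂ) ϑb.2 hcon c d
    hd3.symm he3.symm
  set fN : N →* Nb := π.subgroupMap N with hfN
  have hsurj : Function.Surjective fN := π.subgroupMap_surjective N
  set θ := xs_infl fN hsurj ϑb with hθ
  refine ⟨θ, ?_, ?_, ?_⟩
  · have h1 : (fun n : N => (χ : T → ℂ) n) =
        fun n : N => (fun r : Nb => (χb : T ⧸ Q → ℂ) r) (fN n) := by
      funext n
      exact (hχb (n : T)).symm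
    have h2 : (θ : N → ℂ) = fun n : N => (ϑb : Nb → ℂ) (fN n) := rfl
    have h3 := classInner_comp_surjective fN hsurj (fun r : Nb => (χb : T ⧸ Q → ℂ) r)
      (ϑb : Nb → ℂ)
    rw [h1, h2]
    exact h3 ▸ hcon
  · intro n hn
    have h1 : fN n = 1 := by
      apply Subtype.ext
      show π (n : T) = 1
      exact (QuotientGroup.eq_one_iff _).mpr hn
    rw [xs_infl_apply, xs_infl_apply, h1, map_one]
  · have hθd : Cfsg.charDegree (θ : N → ℂ) = d := by
      rw [hd]
      unfold Cfsg.charDegree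
      rw [xs_infl_apply, map_one]
    have hcχ : c = Cfsg.charDegree (χ : T → ℂ) := by
      unfold Cfsg.charDegree
      rw [← hχb 1]
      rfl
    have hTQ : Nat.card T = Nat.card (T ⧸ Q) * Nat.card Q :=
      Subgroup.card_eq_card_quotient_mul_card_subgroup Q
    have hidx : Nb.index * Nat.card Nb = Nat.card (T ⧸ Q) := Subgroup.index_mul_card Nb
    have hNbcard : Nat.card Nb = Q.relIndex N := by
      have := Subgroup.relIndex_ker (K := N) π
      rw [QuotientGroup.ker_mk'] at this
      exact this.symm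
    have hrel : Nat.card (Q ⊓ N : Subgroup T) * Q.relIndex N = Nat.card N := by
      have := Subgroup.relIndex_mul_relIndex (⊥ : Subgroup T) (Q ⊓ N) N bot_le inf_le_right
      rw [Subgroup.relIndex_bot_left, Subgroup.relIndex_bot_left,
        Subgroup.inf_relIndex_right] at this
      exact this
    have hI0 : Nb.index ≠ 0 := Subgroup.index_ne_zero_of_finite
    have hNb0 : Nat.card Nb ≠ 0 := Nat.card_pos.ne'
    have hTb0 : Nat.card (T ⧸ Q) ≠ 0 := Nat.card_pos.ne'
    have hQ0 : Nat.card Q ≠ 0 := Nat.card_pos.ne'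
    have hZ0 : Nat.card (Q ⊓ N : Subgroup T) ≠ 0 := Nat.card_pos.ne'
    have f1 : (Nat.card T).factorization p =
        (Nat.card (T ⧸ Q)).factorization p + (Nat.card Q).factorization p := by
      rw [hTQ, Nat.factorization_mul hTb0 hQ0]
      rfl
    have f2 : (Nat.card (T ⧸ Q)).factorization p =
        (Nb.index).factorization p + (Nat.card Nb).factorization p := by
      rw [← hidx, Nat.factorization_mul hI0 hNb0]
      rfl
    have hcd : c = d * (c / d) := (Nat.mul_div_cancel' hdc).symm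
    have hcd0 : c / d ≠ 0 := by
      intro h0
      rw [h0, mul_zero] at hcd
      omega
    have f3 : c.factorization p = d.factorization p + (c / d).factorization p := by
      conv_lhs => rw [hcd]
      rw [Nat.factorization_mul he2.ne' hcd0]
      rfl
    have f4 : (c / d).factorization p ≤ (Nb.index).factorization p :=
      (Nat.factorization_le_iff_dvd hcd0 hI0).mpr hk p
    have f5 : d.factorization p ≤ (Nat.card Nb).factorization p :=
      (Nat.factorization_le_iff_dvd he2.ne' hNb0).mpr he1 p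
    have f6 : (Nat.card N).factorization p =
        (Nat.card (Q ⊓ N : Subgroup T)).factorization p + (Nat.card Nb).factorization p := by
      rw [← hrel, hNbcard, Nat.factorization_mul hZ0 (hNbcard ▸ hNb0)]
      rfl
    rw [hθd, f6]
    rw [← hcχ] at hdeg
    omega

end

section

/-- **a Brauer pair carrying a weight**: `Z(Q)` is a defect group of `e` and `O_p(T) = Q` for the
stabilizer `T` of `(Q, e)` -/
theorem wt_main {G : Type*} [Group G] [Fintype G] (p : ℕ) [hp : Fact p.Prime]
    (M : Ideal Cfsg.AlgInt) (hM : Cfsg.IsPModular p M) (B : Set (Cfsg.IrrCharacter G))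
    (Q : Subgroup G) (e : Set (Cfsg.IrrCharacter (Subgroup.centralizer (Q : Set G))))
    (hQe : Cfsg.IsBrauerPairOf p M B Q e) (T : Subgroup G)
    (hT : ∀ y : G, y ∈ T ↔ y ∈ Subgroup.normalizer (Q : Set G) ∧
      Cfsg.StabilizesBlock (Subgroup.centralizer (Q : Set G)) e y)
    (F' : Set (Cfsg.IrrCharacter T)) (hF' : Cfsg.IsPBlock M F')
    (hF'e : ∀ t : T, Cfsg.blockCoeff F' t =
      Cfsg.subgroupBlockCoeff (Subgroup.centralizer (Q : Set G)) e (t : G))
    (χ : Cfsg.IrrCharacter T) (hχ : χ ∈ F')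
    (hχQ : ∀ q : G, q ∈ Q → ∀ t : T, ∀ t' : T, (t' : G) = q * (t : G) →
      (χ : T → ℂ) t' = (χ : T → ℂ) t)
    (hdeg : (Cfsg.charDegree (χ : T → ℂ)).factorization p + (Nat.card Q).factorization p =
      (Nat.card T).factorization p) :
    Cfsg.IsDefectGroup p M e ((Q ⊓ Subgroup.centralizer (Q : Set G)).subgroupOf
      (Subgroup.centralizer (Q : Set G))) ∧
    ∀ R : Subgroup G, R ≤ T → IsPGroup p R →
      (∀ t ∈ T, t ∈ Subgroup.normalizer (R : Set G)) → R ≤ Q := by
  classical
  haveI : Fintype T := Fintype.ofFinite _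
  haveI : Fintype (Subgroup.centralizer (Q : Set G)) := Fintype.ofFinite _
  haveI : Fintype (Cfsg.IrrCharacter (Subgroup.centralizer (Q : Set G))) := Fintype.ofFinite _
  have hPr := hM.2.1.isPrime
  obtain ⟨⟨hQp, he⟩, hB, hom⟩ := hQe
  have hTN : T ≤ Subgroup.normalizer (Q : Set G) := fun y hy => ((hT y).mp hy).1
  have hCT : Subgroup.centralizer (Q : Set G) ≤ T := fun y hy =>
    (hT y).mpr ⟨Subgroup.centralizer_le_normalizer (Q : Set G) hy, bq_inner_stabilizes _ e y hy⟩
  have hQT : Q ≤ T := fun y hy =>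
    (hT y).mpr ⟨Subgroup.le_normalizer hy, bq_self_stabilizes Q e y hy⟩
  have hTst : ∀ x ∈ T, Cfsg.StabilizesBlock (Subgroup.centralizer (Q : Set G)) e x :=
    fun x hx => ((hT x).mp hx).2
  set QT : Subgroup T := Q.subgroupOf T with hQTdef
  haveI hQTn : QT.Normal := by
    rw [hQTdef, Subgroup.normal_subgroupOf_iff_le_normalizer hQT]
    exact hTN
  have hQTp : IsPGroup p QT := hQp.comap_subtype
  set N : Subgroup T := (Subgroup.centralizer (Q : Set G)).subgroupOf T with hNdef
  haveI hNn : N.Normal := by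
    rw [hNdef, Subgroup.normal_subgroupOf_iff_le_normalizer hCT]
    exact fun x hx => bm_normalizer_centralizer Q x (hTN hx)
  haveI : Fintype N := Fintype.ofFinite _
  have hker : ∀ x ∈ QT, (χ : T → ℂ) x = (χ : T → ℂ) 1 := by
    intro x hx
    exact hχQ (x : G) (Subgroup.mem_subgroupOf.mp hx) 1 x (by simp)
  have hcardQ : Nat.card QT = Nat.card Q :=
    Nat.card_congr (Subgroup.subgroupOfEquivOfLe hQT).toEquiv
  have hdeg' : (Cfsg.charDegree (χ : T → ℂ)).factorization p + (Nat.card QT).factorization p =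
      (Nat.card T).factorization p := by
    rw [hcardQ]
    exact hdeg
  constructor
  · set σ : N ≃* Subgroup.centralizer (Q : Set G) := Subgroup.subgroupOfEquivOfLe hCT with hσ
    have hσc : ∀ k : N, ((σ k : Subgroup.centralizer (Q : Set G)) : G) = ((k : T) : G) :=
      fun k => rfl
    have hback : bq_trSet σ.symm (bq_trSet σ e) = e := by
      have := bq_trSet_symm σ.symm e
      rwa [MulEquiv.symm_symm] at this
    have hst : ∀ x : T, Cfsg.StabilizesBlock N (bq_trSet σ e) x := by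
      intro x
      rw [bq_rel_stabilizes T N _ σ hσc, hback]
      exact hTst x x.2
    have hBc : ∀ g : T, Cfsg.blockCoeff F' g = Cfsg.subgroupBlockCoeff N (bq_trSet σ e) g := by
      intro g
      rw [hF'e]
      by_cases hg : g ∈ N
      · have hgC : (g : G) ∈ Subgroup.centralizer (Q : Set G) := Subgroup.mem_subgroupOf.mp hg
        rw [bq_sbc_mem N _ g hg, bq_blockCoeff_trSet, bq_sbc_mem _ e _ hgC]
        rfl
      · have hgC : (g : G) ∉ Subgroup.centralizer (Q : Set G) :=
          fun h => hg (Subgroup.mem_subgroupOf.mpr h)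
        rw [bq_sbc_not_mem N _ g hg, bq_sbc_not_mem _ e _ hgC]
    obtain ⟨θN, hθcon, hθker, hθdeg⟩ := wt_constituent_defect_zero p QT N χ hker hdeg'
    have hθc : θN ∈ bq_trSet σ e := wt_cover p M hM N (bq_trSet σ e) hst F' hBc χ hχ θN hθcon
    set θ : Cfsg.IrrCharacter (Subgroup.centralizer (Q : Set G)) := bq_trIrr σ.symm θN with hθ
    have hθe : θ ∈ e := hθc
    set Z : Subgroup (Subgroup.centralizer (Q : Set G)) :=
      (Q ⊓ Subgroup.centralizer (Q : Set G)).subgroupOf (Subgroup.centralizer (Q : Set G))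
      with hZ
    have hZc : Z ≤ Subgroup.center (Subgroup.centralizer (Q : Set G)) := bq_center_sub_central Q
    have hZp : IsPGroup p Z := (hQp.to_le inf_le_left).comap_subtype
    have hcardN : Nat.card N = Nat.card (Subgroup.centralizer (Q : Set G)) :=
      Nat.card_congr σ.toEquiv
    have hcardZ : Nat.card Z = Nat.card (Q ⊓ Subgroup.centralizer (Q : Set G) : Subgroup G) :=
      Nat.card_congr (Subgroup.subgroupOfEquivOfLe inf_le_right).toEquiv
    have hinfeq : (QT ⊓ N : Subgroup T) =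
        (Q ⊓ Subgroup.centralizer (Q : Set G)).subgroupOf T := by
      ext x
      simp only [Subgroup.mem_inf, Subgroup.mem_subgroupOf, hQTdef, hNdef]
    have hcardI : Nat.card (QT ⊓ N : Subgroup T) =
        Nat.card (Q ⊓ Subgroup.centralizer (Q : Set G) : Subgroup G) := by
      rw [hinfeq]
      exact Nat.card_congr (Subgroup.subgroupOfEquivOfLe (inf_le_left.trans hQT)).toEquiv
    have hθ1 : Cfsg.charDegree (θ : Subgroup.centralizer (Q : Set G) → ℂ) =
        Cfsg.charDegree (θN : N → ℂ) := by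
      unfold Cfsg.charDegree
      rw [hθ, bq_trIrr_apply, map_one]
    have hidx : Z.index * Nat.card Z = Nat.card (Subgroup.centralizer (Q : Set G)) :=
      Subgroup.index_mul_card Z
    have hI0 : Z.index ≠ 0 := Subgroup.index_ne_zero_of_finite
    have hZ0 : Nat.card Z ≠ 0 := Nat.card_pos.ne'
    have f1 : (Nat.card (Subgroup.centralizer (Q : Set G))).factorization p =
        (Z.index).factorization p + (Nat.card Z).factorization p := by
      rw [← hidx, Nat.factorization_mul hI0 hZ0]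
      rfl
    have hdegθ : (Cfsg.charDegree (θ : Subgroup.centralizer (Q : Set G) → ℂ)).factorization p =
        Z.index.factorization p := by
      rw [hθ1]
      rw [hcardI, ← hcardZ, hcardN] at hθdeg
      omega
    have hmain := (ld_main p M hM Z hZp hZc θ hdegθ).1
    obtain ⟨θ₀, rfl⟩ := he
    rw [← h7_blockOf_eq_of_mem hPr θ₀ θ hθe] at hmain
    exact hmain
  · intro R hRT hRp hRn
    set RT : Subgroup T := R.subgroupOf T with hRTdef
    haveI : RT.Normal := by
      rw [hRTdef, Subgroup.normal_subgroupOf_iff_le_normalizer hRT]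
      exact hRn
    have hRTp : IsPGroup p RT := hRp.comap_subtype
    have hle := wt_Op_le p QT hQTp χ hker hdeg' RT hRTp
    intro r hr
    have h1 : (⟨r, hRT hr⟩ : T) ∈ RT := Subgroup.mem_subgroupOf.mpr hr
    exact Subgroup.mem_subgroupOf.mp (hle h1)

end

end Cfsg.Agent.Lib.Helper25
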