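import Mathlib
import Cfsg.Agent.Lib.Helper25.ItoPSolvable
import Cfsg.Agent.Lib.Helper25.WeightPair
import Cfsg.Agent.Lib.Helper25.CharLinear
import Cfsg.Agent.Lib.Helper25.CharOrth
import Cfsg.Agent.Lib.Helper1.Cores
import Cfsg.Agent.Lib.Helper5.PConstr

/-!
p-solvable groups: the derived length of a Sylow p-subgroup is at most the number of irreducible characters of degree divisible by p, plus one (S4768).
-/

set_option autoImplicit false
set_option linter.style.haveILetI false
set_option linter.unusedVariables false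
set_option warn.classDefReducibility false
set_option maxHeartbeats 1600000

namespace Cfsg.Agent.Lib.Helper25
open Cfsg.Agent.Lib.Helper24
open Cfsg.Agent.Lib.Helper11
open Cfsg.Agent.Lib.helper2
open Cfsg.Agent.Lib.helper7
open scoped ComplexConjugate commutatorElement
open Cfsg.Agent.Lib.Helper5
section

/-- a character of a normal subgroup of `p`-power index all of whose extensions to the group have
`p'`-degree is invariant -/
theorem sdl_invariant {G : Type*} [Group G] [Finite G] (p : ℕ) (hp : p.Prime)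
    (N : Subgroup G) [N.Normal] (m : ℕ) (hidx : N.index = p ^ m)
    (θ : Cfsg.IrrCharacter N)
    (h : ∀ χ : Cfsg.IrrCharacter G,
      @Cfsg.classInner N _ (Fintype.ofFinite N) (fun n : N => (χ : G → ℂ) n) (θ : N → ℂ) ≠ 0 →
        ¬ p ∣ Cfsg.charDegree (χ : G → ℂ)) (g : G) : cj N θ.1 g = θ.1 := by
  classical
  haveI := Fintype.ofFinite G
  haveI : Fintype N := Fintype.ofFinite N
  obtain ⟨χ, hχ⟩ := itn_exists_over N θ
  obtain ⟨e, he⟩ := itn_degree_dvd N χ θ hχ
  have ht := knb_orbit_card_dvd N θ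
  rw [hidx] at ht
  obtain ⟨j, hj, hcard⟩ := (Nat.dvd_prime_pow hp).mp ht
  rcases Nat.eq_zero_or_pos j with h0 | h0
  · rw [h0, pow_zero] at hcard
    obtain ⟨a, ha⟩ := Finset.card_eq_one.mp hcard
    have m1 : cj N θ.1 g ∈ Finset.univ.image (fun g : G => cj N θ.1 g) :=
      Finset.mem_image.mpr ⟨g, Finset.mem_univ _, rfl⟩
    have m2 : cj N θ.1 1 ∈ Finset.univ.image (fun g : G => cj N θ.1 g) :=
      Finset.mem_image.mpr ⟨1, Finset.mem_univ _, rfl⟩
    rw [ha, Finset.mem_singleton] at m1 m2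
    rw [m1, ← m2, cj_one]
  · exfalso
    apply h χ (by convert hχ)
    rw [he, hcard]
    exact dvd_mul_of_dvd_right (dvd_mul_of_dvd_left (dvd_pow_self p h0.ne') _) _

end

section

/-- a normal `p'`-subgroup `N` of `p`-power index such that all characters nontrivial on `N` have
`p'`-degree: normal Sylow -/
theorem sdl_case_ppow {G : Type*} [Group G] [Finite G] (p : ℕ) [hp : Fact p.Prime]
    (N : Subgroup G) [hN : N.Normal] (m : ℕ) (hidx : N.index = p ^ m) (hcop : ¬ p ∣ Nat.card N)
    (h : ∀ χ : Cfsg.IrrCharacter G, (∃ n ∈ N, (χ : G → ℂ) n ≠ (χ : G → ℂ) 1) →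
      ¬ p ∣ Cfsg.charDegree (χ : G → ℂ)) :
    ∃ P : Subgroup G, P.Normal ∧ IsPGroup p P ∧ ¬ p ∣ P.index := by
  classical
  haveI := Fintype.ofFinite G
  haveI : Fintype N := Fintype.ofFinite N
  obtain ⟨P⟩ : Nonempty (Sylow p G) := inferInstance
  have hinv : ∀ (θ : Cfsg.IrrCharacter N) (s : G), cj N θ.1 s = θ.1 := by
    intro θ s
    by_cases hθ : ∀ n : N, (θ : N → ℂ) n = (θ : N → ℂ) 1
    · funext n
      rw [cj_apply]
      exact (hθ _).trans (hθ n).symm
    · push Not at hθ
      obtain ⟨n, hn⟩ := hθ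
      apply sdl_invariant p hp.out N m hidx θ
      intro χ hχ
      apply h χ
      refine ⟨n, n.2, fun hx => hn ?_⟩
      exact wt_ker_constituent N (χ : G → ℂ) (isCharacter_of_irr χ) θ (by convert hχ) n hx
  have hcent : ∀ s ∈ (P : Subgroup G), ∀ n : N, s * (n : G) = (n : G) * s := by
    intro s hs n
    obtain ⟨k, hk⟩ := P.isPGroup' ⟨s, hs⟩
    have hk' : s ^ p ^ k = 1 := by
      have := congrArg Subtype.val hk
      simpa using this
    exact pit_centralizes p N hcop s k hk' (fun θ => hinv θ s) n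
  have hNle : N ≤ Subgroup.normalizer ((P : Subgroup G) : Set G) := by
    intro n hn
    rw [Subgroup.mem_normalizer_iff]
    intro x
    constructor
    · intro hx
      have h1 := hcent x hx ⟨n, hn⟩
      have : n * x * n⁻¹ = x := by
        change x * n = n * x at h1
        rw [← h1]; group
      rw [this]; exact hx
    · intro hx
      have h1 := hcent _ hx ⟨n, hn⟩
      change n * x * n⁻¹ * n = n * (n * x * n⁻¹) at h1
      have : x = n * x * n⁻¹ := by
        have h2 : n * x = n * (n * x * n⁻¹) := by rw [← h1]; group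
        exact mul_left_cancel h2
      rw [this]; exact hx
  have h1 : (Subgroup.normalizer ((P : Subgroup G) : Set G)).index ∣ p ^ m := by
    rw [← hidx]; exact Subgroup.index_dvd_of_le hNle
  have h2 : (Subgroup.normalizer ((P : Subgroup G) : Set G)).index ∣ (P : Subgroup G).index :=
    Subgroup.index_dvd_of_le Subgroup.le_normalizer
  have h3 : (Subgroup.normalizer ((P : Subgroup G) : Set G)).index = 1 := by
    obtain ⟨j, hj, hcard⟩ := (Nat.dvd_prime_pow hp.out).mp h1
    rcases Nat.eq_zero_or_pos j with h0 | h0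
    · rw [hcard, h0, pow_zero]
    · exfalso
      apply P.not_dvd_index
      rw [hcard] at h2
      exact dvd_trans (dvd_pow_self p h0.ne') h2
  have h4 : (P : Subgroup G).Normal := by
    rw [← Subgroup.normalizer_eq_top_iff]
    exact Subgroup.index_eq_one.mp h3
  exact ⟨P, h4, P.isPGroup', P.not_dvd_index⟩

/-- the step along the `p`-series with the weak hypothesis -/
theorem sdl_step {G : Type*} [Group G] [Finite G] (p : ℕ) [hp : Fact p.Prime]
    (K S : Subgroup G) [K.Normal] [S.Normal] (hKS : K ≤ S) (hcop : ¬ p ∣ Nat.card K) (m : ℕ)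
    (hidx : K.relIndex S = p ^ m)
    (h : ∀ χ : Cfsg.IrrCharacter G, (∃ k ∈ K, (χ : G → ℂ) k ≠ (χ : G → ℂ) 1) →
      ¬ p ∣ Cfsg.charDegree (χ : G → ℂ)) :
    ∃ P : Subgroup G, P.Normal ∧ P ≤ S ∧ IsPGroup p P ∧ ¬ p ∣ P.relIndex S := by
  classical
  haveI := Fintype.ofFinite G
  haveI : Fintype S := Fintype.ofFinite S
  have hS : ∀ ψ : Cfsg.IrrCharacter S,
      (∃ k ∈ K.subgroupOf S, (ψ : S → ℂ) k ≠ (ψ : S → ℂ) 1) →
        ¬ p ∣ Cfsg.charDegree (ψ : S → ℂ) := by
    rintro ψ ⟨k, hk, hne⟩ hdvd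
    obtain ⟨χ, hχ⟩ := itn_exists_over S ψ
    obtain ⟨e, he⟩ := itn_degree_dvd S χ ψ hχ
    apply h χ
    · refine ⟨(k : G), Subgroup.mem_subgroupOf.mp hk, fun hx => hne ?_⟩
      exact wt_ker_constituent S (χ : G → ℂ) (isCharacter_of_irr χ) ψ hχ k hx
    · rw [he]
      exact dvd_mul_of_dvd_right (dvd_mul_of_dvd_right hdvd _) _
  have hcard : Nat.card (K.subgroupOf S) = Nat.card K :=
    Nat.card_congr (Subgroup.subgroupOfEquivOfLe hKS).toEquiv
  obtain ⟨P₀, hP₀n, hP₀p, hP₀i⟩ := sdl_case_ppow p (K.subgroupOf S) m hidx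
    (by rw [hcard]; exact hcop) hS
  have hchar : P₀.Characteristic := by
    have hQn : ((hP₀p.toSylow hP₀i : Sylow p S) : Subgroup S).Normal := by
      rw [IsPGroup.toSylow_coe]; exact hP₀n
    have := Sylow.characteristic_of_normal (hP₀p.toSylow hP₀i) hQn
    rwa [IsPGroup.toSylow_coe] at this
  haveI := hchar
  have hPn : (P₀.map S.subtype).Normal := ConjAct.normal_of_characteristic_of_normal
  refine ⟨P₀.map S.subtype, hPn, Subgroup.map_subtype_le P₀, hP₀p.map S.subtype, ?_⟩
  have : (P₀.map S.subtype).relIndex S = P₀.index := by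
    unfold Subgroup.relIndex
    congr 1
    ext x
    rw [Subgroup.mem_subgroupOf]
    constructor
    · rintro ⟨y, hy, hyx⟩
      have : y = x := Subtype.ext hyx
      rw [← this]; exact hy
    · intro hx
      exact ⟨x, hx, rfl⟩
  rw [this]
  exact hP₀i

end

section

/-- a non-identity element of the derived subgroup of a normal `p`-subgroup is moved by some
irreducible character of degree divisible by `p` -/
theorem sdl_core2 {G : Type*} [Group G] [Finite G] (p : ℕ) [hp : Fact p.Prime]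
    (V : Subgroup G) [hV : V.Normal] (hVp : IsPGroup p V) (a : V) (ha1 : a ≠ 1)
    (hac : a ∈ commutator V) :
    ∃ χ : Cfsg.IrrCharacter G, p ∣ Cfsg.charDegree (χ : G → ℂ) ∧
      (χ : G → ℂ) (a : G) ≠ (χ : G → ℂ) 1 := by
  classical
  haveI := Fintype.ofFinite G
  haveI : Fintype V := Fintype.ofFinite V
  haveI : Fintype (Cfsg.IrrCharacter V) := Fintype.ofFinite _
  have hex : ∃ ξ : Cfsg.IrrCharacter V, (ξ : V → ℂ) a ≠ (ξ : V → ℂ) 1 := by
    by_contra hall
    push Not at hall
    have h1 := irr_column_orthogonality (G := V) a 1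
    have h2 := irr_column_orthogonality (G := V) 1 1
    rw [if_neg (by rw [isConj_one_right]; exact ha1)] at h1
    rw [if_pos (IsConj.refl _)] at h2
    have h3 : ∑ χ : Cfsg.IrrCharacter V, (χ : V → ℂ) a * conj ((χ : V → ℂ) 1) =
        ∑ χ : Cfsg.IrrCharacter V, (χ : V → ℂ) 1 * conj ((χ : V → ℂ) 1) :=
      Finset.sum_congr rfl fun χ _ => by rw [hall χ]
    rw [h1, h2] at h3
    have : (Nat.card (Subgroup.centralizer ({(1 : V)} : Set V)) : ℂ) ≠ 0 := by
      exact_mod_cast Nat.card_pos.ne'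
    exact this h3.symm
  obtain ⟨ξ, hξ⟩ := hex
  have hnl : (ξ : V → ℂ) 1 ≠ 1 := by
    intro h1
    apply hξ
    rw [irr_linear_commutator ξ h1 hac, h1]
  have hpξ : p ∣ Cfsg.charDegree (ξ : V → ℂ) := xs_p_dvd_of_nonlinear p hVp ξ hnl
  obtain ⟨χ, hχ⟩ := itn_exists_over V ξ
  obtain ⟨e, he⟩ := itn_degree_dvd V χ ξ hχ
  refine ⟨χ, ?_, fun hx => hξ ?_⟩
  · rw [he]
    exact dvd_mul_of_dvd_right (dvd_mul_of_dvd_right hpξ _) _
  · exact wt_ker_constituent V (χ : G → ℂ) (isCharacter_of_irr χ) ξ hχ a hx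

/-- the number of irreducible characters of degree divisible by `p` -/
noncomputable def sdl_n (p : ℕ) (G : Type*) [Group G] : ℕ :=
  Nat.card {χ : Cfsg.IrrCharacter G // p ∣ Cfsg.charDegree (χ : G → ℂ)}

/-- inflation of characters of degree divisible by `p` -/
noncomputable def sdl_inflMap {G : Type*} [Group G] (p : ℕ) (N : Subgroup G) [N.Normal] :
    {θ : Cfsg.IrrCharacter (G ⧸ N) // p ∣ Cfsg.charDegree (θ : G ⧸ N → ℂ)} →
      {χ : Cfsg.IrrCharacter G // p ∣ Cfsg.charDegree (χ : G → ℂ)} :=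
  fun θ => ⟨xs_infl (QuotientGroup.mk' N) (QuotientGroup.mk'_surjective N) θ.1, by
    have : Cfsg.charDegree ((xs_infl (QuotientGroup.mk' N) (QuotientGroup.mk'_surjective N) θ.1 :
        Cfsg.IrrCharacter G) : G → ℂ) = Cfsg.charDegree (θ.1 : G ⧸ N → ℂ) := by
      apply xs_charDegree_eq
      rw [xs_infl_apply]
      simp
    rw [this]
    exact θ.2⟩

theorem sdl_inflMap_injective {G : Type*} [Group G] (p : ℕ) (N : Subgroup G) [N.Normal] :
    Function.Injective (sdl_inflMap p N) := by
  intro θ₁ θ₂ h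
  apply Subtype.ext
  apply Subtype.ext
  funext q
  obtain ⟨g, rfl⟩ := QuotientGroup.mk'_surjective N q
  have h1 := congrArg (fun χ : {χ : Cfsg.IrrCharacter G // p ∣ Cfsg.charDegree (χ : G → ℂ)} =>
    (χ.1 : G → ℂ) g) h
  exact h1

theorem sdl_inflMap_ker {G : Type*} [Group G] (p : ℕ) (N : Subgroup G) [N.Normal]
    (θ : {θ : Cfsg.IrrCharacter (G ⧸ N) // p ∣ Cfsg.charDegree (θ : G ⧸ N → ℂ)}) (n : G)
    (hn : n ∈ N) : ((sdl_inflMap p N θ).1 : G → ℂ) n = ((sdl_inflMap p N θ).1 : G → ℂ) 1 := by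
  show (θ.1 : G ⧸ N → ℂ) (QuotientGroup.mk' N n) = (θ.1 : G ⧸ N → ℂ) (QuotientGroup.mk' N 1)
  rw [map_one]
  have : (QuotientGroup.mk' N) n = 1 := (QuotientGroup.eq_one_iff n).mpr hn
  rw [this]

theorem sdl_n_quot_le {G : Type*} [Group G] [Finite G] (p : ℕ) (N : Subgroup G) [N.Normal] :
    sdl_n p (G ⧸ N) ≤ sdl_n p G :=
  Nat.card_le_card_of_injective _ (sdl_inflMap_injective p N)

theorem sdl_n_quot_lt {G : Type*} [Group G] [Finite G] (p : ℕ) (N : Subgroup G) [N.Normal]
    (h : ∃ χ : Cfsg.IrrCharacter G, p ∣ Cfsg.charDegree (χ : G → ℂ) ∧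
      ∃ n ∈ N, (χ : G → ℂ) n ≠ (χ : G → ℂ) 1) :
    sdl_n p (G ⧸ N) < sdl_n p G := by
  by_contra hlt
  push Not at hlt
  have hbij := (sdl_inflMap_injective p N).bijective_of_nat_card_le hlt
  obtain ⟨χ, hχ, n, hn, hne⟩ := h
  obtain ⟨θ, hθ⟩ := hbij.2 ⟨χ, hχ⟩
  apply hne
  have := sdl_inflMap_ker p N θ n hn
  rw [hθ] at this
  exact this

end

section

theorem sdl_derived_le_ker {A B : Type*} [Group A] [Group B] (φ : A →* B)
    (hφ : Function.Surjective φ) (k : ℕ) (h : derivedSeries B k = ⊥) :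
    derivedSeries A k ≤ φ.ker := by
  have h1 := map_derivedSeries_eq hφ k
  rw [h, Subgroup.map_eq_bot_iff] at h1
  exact h1

/-- transfer of the derived length along a homomorphism injective on `P` -/
theorem sdl_transfer_inj {G Q : Type*} [Group G] [Group Q] (f : G →* Q) (P : Subgroup G)
    (hinj : ∀ x ∈ P, f x = 1 → x = 1) (k : ℕ) (h : derivedSeries ↥(P.map f) k = ⊥) :
    derivedSeries ↥P k = ⊥ := by
  have h1 := sdl_derived_le_ker (f.subgroupMap P) (f.subgroupMap_surjective P) k h
  rw [eq_bot_iff]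
  intro x hx
  have h2 := h1 hx
  rw [MonoidHom.mem_ker] at h2
  have h3 : f (x : G) = 1 := congrArg Subtype.val h2
  rw [Subgroup.mem_bot]
  exact Subtype.ext (hinj x x.2 h3)

/-- transfer of the derived length along a homomorphism with commutative kernel on `P` -/
theorem sdl_transfer_comm {G Q : Type*} [Group G] [Group Q] (f : G →* Q) (P : Subgroup G)
    (hcomm : ∀ x ∈ P, ∀ y ∈ P, f x = 1 → f y = 1 → x * y = y * x) (k : ℕ)
    (h : derivedSeries ↥(P.map f) k = ⊥) : derivedSeries ↥P (k + 1) = ⊥ := by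
  have h1 := sdl_derived_le_ker (f.subgroupMap P) (f.subgroupMap_surjective P) k h
  rw [derivedSeries_succ, eq_bot_iff]
  refine (Subgroup.commutator_mono h1 h1).trans ?_
  rw [le_bot_iff, Subgroup.commutator_eq_bot_iff_le_centralizer]
  intro x hx
  rw [Subgroup.mem_centralizer_iff]
  intro y hy
  rw [SetLike.mem_coe, MonoidHom.mem_ker] at hy
  rw [MonoidHom.mem_ker] at hx
  have hx' : f (x : G) = 1 := congrArg Subtype.val hx
  have hy' : f (y : G) = 1 := congrArg Subtype.val hy
  exact Subtype.ext (hcomm y y.2 x x.2 hy' hx')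

theorem sdl_derived_mono {A : Type*} [Group A] {j k : ℕ} (hjk : j ≤ k)
    (h : derivedSeries A j = ⊥) : derivedSeries A k = ⊥ := by
  rw [eq_bot_iff, ← h]
  exact derivedSeries_antitone A hjk

/-- `O_p(G / O_p(G)) = 1` -/
theorem sdl_pCore_quot {G : Type*} [Group G] [Finite G] (p : ℕ) [hp : Fact p.Prime] :
    Cfsg.pCore p (G ⧸ Cfsg.pCore p G) = ⊥ := by
  rw [eq_bot_iff]
  show sSup {N : Subgroup (G ⧸ Cfsg.pCore p G) | N.Normal ∧ IsPGroup p N} ≤ ⊥
  apply sSup_le
  rintro N ⟨hNn, hNp⟩
  haveI := hNn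
  have hker : (QuotientGroup.mk' (Cfsg.pCore p G)).ker = Cfsg.pCore p G := QuotientGroup.ker_mk' _
  have h1 : IsPGroup p (N.comap (QuotientGroup.mk' (Cfsg.pCore p G))) := by
    apply hNp.comap_of_ker_isPGroup
    rw [hker]
    exact Cfsg.Agent.Lib.Helper1.pCore_isPGroup p
  have h2 : N.comap (QuotientGroup.mk' (Cfsg.pCore p G)) ≤ Cfsg.pCore p G :=
    Cfsg.Agent.Lib.Helper1.le_pCore inferInstance h1
  intro q hq
  obtain ⟨g, rfl⟩ := QuotientGroup.mk'_surjective (Cfsg.pCore p G) q
  have h3 : g ∈ Cfsg.pCore p G := h2 hq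
  rw [Subgroup.mem_bot]
  exact (QuotientGroup.eq_one_iff g).mpr h3

/-- in a `p`-solvable group of order divisible by `p` there is a normal `p'`-subgroup `K` and a
normal subgroup `S ≥ K` with `S/K` a nontrivial `p`-group -/
theorem sdl_series_step {G : Type*} [Group G] [Finite G] (p : ℕ) [hp : Fact p.Prime]
    (hsolv : Cfsg.IsPSolvable p G) (hdvd : p ∣ Nat.card G) :
    ∃ K S : Subgroup G, K.Normal ∧ S.Normal ∧ K ≤ S ∧ ¬ p ∣ Nat.card K ∧
      ∃ m : ℕ, 1 ≤ m ∧ K.relIndex S = p ^ m := by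
  obtain ⟨n, H, h0, hlast, hmono, hnorm, hfac⟩ := hsolv
  have key : ∀ i : Fin (n + 1), p ∣ Nat.card (H i) →
      ∃ j : Fin n, ¬ p ∣ Nat.card (H j.castSucc) ∧ p ∣ Nat.card (H j.succ) := by
    intro i
    induction i using Fin.induction with
    | zero =>
      intro h
      exfalso
      rw [h0] at h
      simp only [Subgroup.mem_bot, Nat.card_unique, Nat.dvd_one] at h
      exact hp.out.one_lt.ne' h
    | succ i ih =>
      intro h
      by_cases hc : p ∣ Nat.card (H i.castSucc)
      · exact ih hc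
      · exact ⟨i, hc, h⟩
  obtain ⟨j, hj1, hj2⟩ := key (Fin.last n) (by
    rw [hlast]
    rw [Nat.card_congr Subgroup.topEquiv.toEquiv]
    exact hdvd)
  have hle : H j.castSucc ≤ H j.succ := hmono (Fin.castSucc_lt_succ).le
  have hcard : Nat.card (H j.castSucc) * (H j.castSucc).relIndex (H j.succ) =
      Nat.card (H j.succ) := by
    rw [← Subgroup.relIndex_bot_left, ← Subgroup.relIndex_bot_left]
    exact Subgroup.relIndex_mul_relIndex ⊥ _ _ bot_le hle
  have hdvd' : p ∣ (H j.castSucc).relIndex (H j.succ) := by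
    rw [← hcard] at hj2
    rcases (Nat.Prime.dvd_mul hp.out).mp hj2 with h | h
    · exact absurd h hj1
    · exact h
  refine ⟨H j.castSucc, H j.succ, hnorm _, hnorm _, hle, hj1, ?_⟩
  rcases hfac j with ⟨m, hm⟩ | hc
  · refine ⟨m, ?_, hm⟩
    rcases Nat.eq_zero_or_pos m with h0' | h0'
    · exfalso
      rw [hm, h0', pow_zero] at hdvd'
      exact hp.out.one_lt.ne' (Nat.dvd_one.mp hdvd')
    · exact h0'
  · exfalso
    exact (Nat.Prime.coprime_iff_not_dvd hp.out).mp hc.symm hdvd'

end

section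

universe u

theorem sdl_card_quot_le {G : Type*} [Group G] [Finite G] (N : Subgroup G) [N.Normal]
    (hN : N ≠ ⊥) (m : ℕ) (hcard : Nat.card G ≤ m + 1) : Nat.card (G ⧸ N) ≤ m := by
  have h1 : N.index * Nat.card N = Nat.card G := N.index_mul_card
  have h2 : 1 < Nat.card N := (Subgroup.one_lt_card_iff_ne_bot N).mpr hN
  have h3 : Nat.card (G ⧸ N) = N.index := (Subgroup.index_eq_card N).symm
  have h4 : 0 < N.index := Nat.pos_of_ne_zero Subgroup.index_ne_zero_of_finite
  rw [h3]
  nlinarith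

theorem sdl_trivial_of_not_dvd {G : Type*} [Group G] [Finite G] (p : ℕ) [hp : Fact p.Prime]
    (P : Subgroup G) (hP : IsPGroup p P) (hdvd : ¬ p ∣ Nat.card G) (k : ℕ) :
    derivedSeries ↥P k = ⊥ := by
  obtain ⟨j, hj⟩ := IsPGroup.iff_card.mp hP
  have h1 : Nat.card P ∣ Nat.card G := Subgroup.card_subgroup_dvd_card P
  have hj0 : j = 0 := by
    by_contra h0
    apply hdvd
    rw [hj] at h1
    exact (dvd_pow_self p h0).trans h1
  rw [hj0, pow_zero] at hj
  haveI : Subsingleton ↥P := (Nat.card_eq_one_iff_unique.mp hj).1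
  rw [eq_bot_iff]
  intro x _
  rw [Subgroup.mem_bot]
  exact Subsingleton.elim x 1

theorem sdl_aux (p : ℕ) [hp : Fact p.Prime] : ∀ (m : ℕ) (G : Type u) [Group G] [Finite G],
    Nat.card G ≤ m → Cfsg.IsPSolvable p G → ∀ P : Subgroup G, IsPGroup p P → ¬ p ∣ P.index →
    derivedSeries ↥P (sdl_n p G + 1) = ⊥ ∧
      (Cfsg.pCore p G = ⊥ → derivedSeries ↥P (sdl_n p G) = ⊥) := by
  intro m
  induction m with
  | zero =>
    intro G _ _ hcard
    exfalso
    have : 0 < Nat.card G := Nat.card_pos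
    omega
  | succ m ih =>
    intro G _ _ hcard hsolv P hP hPi
    classical
    -- the induction hypothesis for quotients
    have hIH : ∀ (N : Subgroup G) [N.Normal], N ≠ ⊥ →
        derivedSeries ↥(P.map (QuotientGroup.mk' N)) (sdl_n p (G ⧸ N) + 1) = ⊥ ∧
          (Cfsg.pCore p (G ⧸ N) = ⊥ →
            derivedSeries ↥(P.map (QuotientGroup.mk' N)) (sdl_n p (G ⧸ N)) = ⊥) := by
      intro N _ hN
      exact ih (G ⧸ N) (sdl_card_quot_le N hN m hcard)
        (h5_isPSolvable_of_surjective (QuotientGroup.mk' N) (QuotientGroup.mk'_surjective N) hsolv)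
        (P.map (QuotientGroup.mk' N)) (hP.map _)
        (fun h => hPi (h.trans (Subgroup.index_map_dvd P (QuotientGroup.mk'_surjective N))))
    -- (B)
    have hB : Cfsg.pCore p G = ⊥ → derivedSeries ↥P (sdl_n p G) = ⊥ := by
      intro hO
      by_cases hdvd : p ∣ Nat.card G
      · obtain ⟨K, S, hKn, hSn, hKS, hKp, m', hm', hidx⟩ := sdl_series_step p hsolv hdvd
        haveI := hKn
        haveI := hSn
        have hex : ∃ χ : Cfsg.IrrCharacter G, p ∣ Cfsg.charDegree (χ : G → ℂ) ∧
            ∃ k ∈ K, (χ : G → ℂ) k ≠ (χ : G → ℂ) 1 := by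
          by_contra hno
          push Not at hno
          obtain ⟨P₁, hP₁n, hP₁S, hP₁p, hP₁i⟩ := sdl_step p K S hKS hKp m' hidx
            (fun χ ⟨k, hk, hne⟩ hd => hne (hno χ hd k hk))
          have hle : P₁ ≤ Cfsg.pCore p G := Cfsg.Agent.Lib.Helper1.le_pCore hP₁n hP₁p
          rw [hO, le_bot_iff] at hle
          rw [hle, Subgroup.relIndex_bot_left] at hP₁i
          apply hP₁i
          have hcardS : Nat.card K * K.relIndex S = Nat.card S := by
            rw [← Subgroup.relIndex_bot_left, ← Subgroup.relIndex_bot_left]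
            exact Subgroup.relIndex_mul_relIndex ⊥ _ _ bot_le hKS
          rw [← hcardS, hidx]
          exact dvd_mul_of_dvd_right (dvd_pow_self p (by omega)) _
        have hK1 : K ≠ ⊥ := by
          rintro rfl
          obtain ⟨χ, _, k, hk, hne⟩ := hex
          rw [Subgroup.mem_bot] at hk
          subst hk
          exact hne rfl
        have hlt := sdl_n_quot_lt p K hex
        have h1 := (hIH K hK1).1
        have hKcop : (Nat.card K).Coprime p := by
          rw [Nat.coprime_comm, Nat.Prime.coprime_iff_not_dvd hp.out]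
          exact hKp
        have hinj : ∀ x ∈ P, (QuotientGroup.mk' K) x = 1 → x = 1 := by
          intro x hx h1
          have hxK : x ∈ K := (QuotientGroup.eq_one_iff x).mp h1
          exact h5_eq_one_of_mem_pgroup_of_mem_coprime hP hKcop hx hxK
        have h2 := sdl_transfer_inj (QuotientGroup.mk' K) P hinj _ h1
        exact sdl_derived_mono (by omega) h2
      · exact sdl_trivial_of_not_dvd p P hP hdvd _
    refine ⟨?_, hB⟩
    -- (A)
    by_cases hO : Cfsg.pCore p G = ⊥
    · exact sdl_derived_mono (Nat.le_succ _) (hB hO)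
    · have hVp : IsPGroup p (Cfsg.pCore p G) := Cfsg.Agent.Lib.Helper1.pCore_isPGroup p
      haveI : Group.IsNilpotent ↥(Cfsg.pCore p G) := hVp.isNilpotent
      have hsol : ∃ k, derivedSeries ↥(Cfsg.pCore p G) k = ⊥ :=
        (Group.isSolvable_def _).mp inferInstance
      have hk₀ := Nat.find_spec hsol
      have hmin := fun j => Nat.find_min hsol (m := j)
      rcases Nat.eq_zero_or_pos (Nat.find hsol) with h0 | h0
      · exfalso
        rw [h0, derivedSeries_zero] at hk₀
        apply hO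
        rw [eq_bot_iff]
        intro x hx
        have : (⟨x, hx⟩ : Cfsg.pCore p G) ∈ (⊤ : Subgroup (Cfsg.pCore p G)) := Subgroup.mem_top _
        rw [hk₀, Subgroup.mem_bot] at this
        rw [Subgroup.mem_bot]
        exact congrArg Subtype.val this
      · obtain ⟨j, hj⟩ : ∃ j, Nat.find hsol = j + 1 := ⟨Nat.find hsol - 1, by omega⟩
        rw [hj] at hk₀
        have hA₀ne : derivedSeries ↥(Cfsg.pCore p G) j ≠ ⊥ := hmin j (by omega)
        have hA₀comm : ∀ x ∈ derivedSeries ↥(Cfsg.pCore p G) j,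
            ∀ y ∈ derivedSeries ↥(Cfsg.pCore p G) j, x * y = y * x := by
          intro x hx y hy
          rw [derivedSeries_succ, Subgroup.commutator_eq_bot_iff_le_centralizer] at hk₀
          exact (Subgroup.mem_centralizer_iff.mp (hk₀ hx) y hy).symm
        rcases Nat.eq_zero_or_pos j with hj0 | hj0
        · -- `O_p(G)` is abelian
          subst hj0
          have hcommV : ∀ x ∈ Cfsg.pCore p G, ∀ y ∈ Cfsg.pCore p G, x * y = y * x := by
            intro x hx y hy
            have := hA₀comm ⟨x, hx⟩ (by rw [derivedSeries_zero]; exact Subgroup.mem_top _)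
              ⟨y, hy⟩ (by rw [derivedSeries_zero]; exact Subgroup.mem_top _)
            exact congrArg Subtype.val this
          have h1 := (hIH (Cfsg.pCore p G) hO).2 (sdl_pCore_quot p)
          have h2 := sdl_transfer_comm (QuotientGroup.mk' (Cfsg.pCore p G)) P (by
            intro x _ y _ hx hy
            exact hcommV x ((QuotientGroup.eq_one_iff x).mp hx) y ((QuotientGroup.eq_one_iff y).mp hy))
            _ h1
          exact sdl_derived_mono (by
            have := sdl_n_quot_le p (Cfsg.pCore p G)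
            omega) h2
        · -- `O_p(G)` is nonabelian
          obtain ⟨a₀, ha1⟩ := (Subgroup.ne_bot_iff_exists_ne_one).mp hA₀ne
          have ha₀' : (a₀ : ↥(Cfsg.pCore p G)) ∈ derivedSeries ↥(Cfsg.pCore p G) j := a₀.2
          have hac : (a₀ : ↥(Cfsg.pCore p G)) ∈ commutator ↥(Cfsg.pCore p G) := by
            rw [← derivedSeries_one]
            exact derivedSeries_antitone _ hj0 ha₀'
          have ha1' : (a₀ : ↥(Cfsg.pCore p G)) ≠ 1 := by
            intro h
            apply ha1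
            exact Subtype.ext h
          obtain ⟨χ, hχd, hχa⟩ := sdl_core2 p (Cfsg.pCore p G) hVp (a₀ : ↥(Cfsg.pCore p G)) ha1' hac
          haveI hAn : ((derivedSeries ↥(Cfsg.pCore p G) j).map (Cfsg.pCore p G).subtype).Normal :=
            h5_normal_map_of_characteristic (Cfsg.pCore p G) _
          have hmemA : ((a₀ : ↥(Cfsg.pCore p G)) : G) ∈
              (derivedSeries ↥(Cfsg.pCore p G) j).map (Cfsg.pCore p G).subtype :=
            ⟨a₀, ha₀', rfl⟩
          have hA1 : (derivedSeries ↥(Cfsg.pCore p G) j).map (Cfsg.pCore p G).subtype ≠ ⊥ := by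
            intro h
            rw [h, Subgroup.mem_bot] at hmemA
            apply ha1'
            exact Subtype.ext hmemA
          have hlt := sdl_n_quot_lt p
            ((derivedSeries ↥(Cfsg.pCore p G) j).map (Cfsg.pCore p G).subtype)
            ⟨χ, hχd, _, hmemA, hχa⟩
          have h1 := (hIH _ hA1).1
          have h2 := sdl_transfer_comm (QuotientGroup.mk'
            ((derivedSeries ↥(Cfsg.pCore p G) j).map (Cfsg.pCore p G).subtype)) P (by
            intro x _ y _ hx hy
            obtain ⟨x₀, hx₀, rfl⟩ := (QuotientGroup.eq_one_iff x).mp hx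
            obtain ⟨y₀, hy₀, rfl⟩ := (QuotientGroup.eq_one_iff y).mp hy
            exact congrArg Subtype.val (hA₀comm x₀ hx₀ y₀ hy₀)) _ h1
          exact sdl_derived_mono (by omega) h2

/-- S4768 -/
theorem sdl_main {G : Type u} [Group G] [Finite G] (p : ℕ) [hp : Fact p.Prime]
    (hG : Cfsg.IsPSolvable p G) (P : Sylow p G) :
    derivedSeries ↥(P : Subgroup G)
      (Nat.card {χ : Cfsg.IrrCharacter G // p ∣ Cfsg.charDegree (χ : G → ℂ)} + 1) = ⊥ :=
  (sdl_aux p (Nat.card G) G le_rfl hG (P : Subgroup G) P.isPGroup' P.not_dvd_index).1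

end

end Cfsg.Agent.Lib.Helper25
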