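import Mathlib
import Cfsg.Agent.Lib.helper3.S5953.Defs

/-!
# S5953 row A1 (helper25): `ord_sq`, `ord_r(q²) = bb (ord_r q)`.
-/

set_option autoImplicit false

namespace Cfsg.Agent.Lib.helper3.S5953

/-- the order of a square in any monoid -/
theorem s5953a1_sq {M : Type*} [Monoid M] (x : M) : orderOf (x ^ 2) = bb (orderOf x) := by
  rw [orderOf_pow' _ two_ne_zero]
  unfold bb
  split_ifs with h
  · have h2 : Nat.gcd (orderOf x) 2 = 2 := Nat.gcd_eq_right (even_iff_two_dvd.mp h)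
    rw [h2]
  · have h2 : Nat.gcd (orderOf x) 2 = 1 := by
      have h3 : Odd (orderOf x) := Nat.not_even_iff_odd.mp h
      exact Nat.coprime_two_right.mpr h3
    rw [h2, Nat.div_one]

/-- A1 [S-M] ORDSQ: `ord_r(q²) = b`. -/
theorem ord_sq (q r : ℕ) : orderOf (((q ^ 2 : ℕ) : ZMod r)) = bb (orderOf (q : ZMod r)) := by
  rw [Nat.cast_pow]
  exact s5953a1_sq _

end Cfsg.Agent.Lib.helper3.S5953
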