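import Mathlib
import Cfsg.Agent.Lib.helper3.S5953.Defs

/-!
# S5953 row T4 (helper25): `perp_inv`, the orthogonal of an invariant subspace is invariant.
-/

set_option autoImplicit false

namespace Cfsg.Agent.Lib.helper3.S5953

open Polynomial Module

/-- `x (z⁻¹ • x ^ (r - 1) w) = w` when `x ^ r = z • 1`, `z ≠ 0` -/
theorem s5953t4_inv {F : Type*} [Field F] {V : Type*} [AddCommGroup V] [Module F V] {r : ℕ} (hr : 0 < r)
    {z : F} (hz : z ≠ 0) {x : Module.End F V} (hpow : x ^ r = z • 1) (w : V) :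
    x (z⁻¹ • (x ^ (r - 1)) w) = w := by
  have h1 : x ((x ^ (r - 1)) w) = z • w := by
    rw [← Module.End.mul_apply, ← pow_succ', Nat.sub_add_cancel hr, hpow]
    rfl
  rw [map_smul, h1, smul_smul, inv_mul_cancel₀ hz, one_smul]

/-- T4 [S] PERPINV: the orthogonal of an invariant subspace is invariant (`x⁻¹ = z⁻¹ x ^ (r - 1)`). -/
theorem perp_inv {F : Type*} [Field F] {q : ℕ} {ι : Type*} [Fintype ι] {r : ℕ} (hr : 0 < r) {z : F}
    {x : Module.End F (ι → F)} (h : HCtx q r z x) (U : Submodule F (ι → F)) (hU : HInv x U) :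
    HInv x (hperp q U) := by
  intro u hu
  rw [mem_hperp] at hu ⊢
  intro w hw
  have hw' : z⁻¹ • (x ^ (r - 1)) w ∈ U :=
    U.smul_mem _ (Cfsg.Agent.Lib.Helper24.el_pow_mem hU (r - 1) hw)
  rw [← s5953t4_inv hr h.ne h.pow w, h.pres]
  exact hu _ hw'

end Cfsg.Agent.Lib.helper3.S5953
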