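import Mathlib
import Cfsg.Agent.Lib.helper3.SU5.Defs
import Cfsg.Agent.Lib.Helper24.STUM0

/-!
# Project SU5 (designer helper3), row G6 (helper25), VERBATIM: `Pre.Mon.rel` (the axiom `rel` transports along a monomial element)
-/

set_option autoImplicit false

namespace Cfsg.Agent.Lib.helper3.SU5

open Cfsg.Agent.Lib.helper15.St2 Cfsg.Agent.Lib.Helper27.STU
open Cfsg.Agent.Lib.helper3.STC (ng sws)

universe u v w w₀

namespace Pre

section G

variable {F : Type u} [Field F] [StarRing F] {od : Prop} {ι : Type v} {G : Type w} [Group G] (P : Pre F od ι G)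
  {g : G} {π : Equiv.Perm (ι ⊕ ι)} {d : ι ⊕ ι → F} {d0 : F}

omit [Field F] [StarRing F] in
theorem su5g6_cj_cj' (g x y : G) : cj g (cj x y) = cj (cj g x) (cj g y) := by
  unfold cj
  group

omit [Field F] [StarRing F] in
theorem su5g6_ne {a b : ι ⊕ ι} (hab' : a ≠ ng b) : b ≠ ng a := by
  intro h
  apply hab'
  rw [h]
  cases a <;> rfl

/-- G6 [M]  `rel` transports. -/
theorem Mon.rel (hg : P.Mon g π d d0) {a b : ι ⊕ ι} (hab : a ≠ b) (hab' : a ≠ ng b) (h : P.Rel a b) : P.Rel (π a) (π b) := by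
  intro t u ht
  have hda : d a ≠ 0 := SysU.MonData.d_ne hg.1 a
  have hdb : d b ≠ 0 := SysU.MonData.d_ne hg.1 b
  have hba : b ≠ a := fun h' => hab h'.symm
  have hba' : b ≠ ng a := su5g6_ne hab'
  have e1 : ∀ s : F, P.xs (π a) (π b) s = cj g (P.xs a b ((d a * (d b)⁻¹)⁻¹ * s)) := by
    intro s
    rw [hg.2.1 a b hab hab']
    congr 1
    field_simp
  have e2 : ∀ s : F, P.xs (π b) (π a) s = cj g (P.xs b a ((d a * (d b)⁻¹) * s)) := by
    intro s
    rw [hg.2.1 b a hba hba']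
    congr 1
    field_simp
  have ht' : (d a * (d b)⁻¹)⁻¹ * t ≠ 0 := by
    refine mul_ne_zero (inv_ne_zero (mul_ne_zero hda (inv_ne_zero hdb))) ht
  have hrel := h ((d a * (d b)⁻¹)⁻¹ * t) ((d a * (d b)⁻¹)⁻¹ * u) ht'
  have e3 : P.xs (π b) (π a) (-t⁻¹) = cj g (P.xs b a (-((d a * (d b)⁻¹)⁻¹ * t)⁻¹)) := by
    rw [e2]
    congr 2
    field_simp
  rw [e1 t, e3, e1 u, ← cj_mul, ← cj_mul, ← su5g6_cj_cj', hrel, e2]
  congr 2
  field_simp

end G

end Pre

end Cfsg.Agent.Lib.helper3.SU5
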