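import Mathlib
import Cfsg.Agent.Lib.helper3.SU5.Defs
import Cfsg.Agent.Lib.Helper24.STUM0

/-!
# Project SU5 (designer helper3), row M2 (helper25), CORE: `mon_A` (`nA` acts monomially on the eight root maps)

Hypotheses: `hM` = the statement of M1 `monData_A`, `h_xA h_yA` = I6 `nA_xA nA_yA`, `h_xC h_yC` = N0 `nA_xC nA_yC`, `h_yD` = N1 `nA_yD`.
-/

set_option autoImplicit false

namespace Cfsg.Agent.Lib.helper3.SU5

open Cfsg.Agent.Lib.helper15.St2 Cfsg.Agent.Lib.Helper27.STU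
open Cfsg.Agent.Lib.helper3.STC (ng sws)

universe u v w w₀

theorem su5m2_cases (k : Fin 2 ⊕ Fin 2) : k = Sum.inl 0 ∨ k = Sum.inl 1 ∨ k = Sum.inr 0 ∨ k = Sum.inr 1 := by
  revert k
  decide

namespace Dat

variable {F : Type u} [Field F] [StarRing F] {G : Type w} [Group G] (D : Dat F G)

theorem su5m2_core (hT : Tab5 D)
    (hM : SysU.MonData (sws (Sum.inl (0 : Fin 2)) (Sum.inl 1)) (dws (Sum.inl (0 : Fin 2)) (Sum.inl 1) (1 : F)) 1)
    (h_xA : ∀ t : F, cj D.nA (D.xA t) = D.yA (-t)) (h_yA : ∀ t : F, cj D.nA (D.yA t) = D.xA (-t))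
    (h_xC : ∀ ξ : Lam F True, cj D.nA (D.xC ξ) = D.xB (Lam.act (-1) ξ))
    (h_yC : ∀ ξ : Lam F True, cj D.nA (D.yC ξ) = D.yB (Lam.act (-1) ξ))
    (h_yD : ∀ t : F, cj D.nA (D.yD t) = D.yD (star t)) :
    D.pre.Mon D.nA (sws (Sum.inl 0) (Sum.inl 1)) (dws (Sum.inl 0) (Sum.inl 1) 1) 1 := by
  have p0 : sws (Sum.inl (0 : Fin 2)) (Sum.inl 1) (Sum.inl 0) = Sum.inl 1 := by decide
  have p1 : sws (Sum.inl (0 : Fin 2)) (Sum.inl 1) (Sum.inl 1) = Sum.inl 0 := by decide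
  have p2 : sws (Sum.inl (0 : Fin 2)) (Sum.inl 1) (Sum.inr 0) = Sum.inr 1 := by decide
  have p3 : sws (Sum.inl (0 : Fin 2)) (Sum.inl 1) (Sum.inr 1) = Sum.inr 0 := by decide
  have d0 : dws (Sum.inl (0 : Fin 2)) (Sum.inl 1) (1 : F) (Sum.inl 0) = -1 := by simp [dws]
  have d1 : dws (Sum.inl (0 : Fin 2)) (Sum.inl 1) (1 : F) (Sum.inl 1) = 1 := by simp [dws]
  have d2 : dws (Sum.inl (0 : Fin 2)) (Sum.inl 1) (1 : F) (Sum.inr 0) = -1 := by simp [dws, ng]
  have d3 : dws (Sum.inl (0 : Fin 2)) (Sum.inl 1) (1 : F) (Sum.inr 1) = 1 := by simp [dws, ng]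
  have act1 : ∀ ξ : Lam F True, Lam.act (1 : F) ξ = ξ := fun ξ => stum0_act_one ξ
  refine ⟨hM, ?_, ?_⟩
  · intro k l hkl hkl' t
    rcases su5m2_cases k with rfl | rfl | rfl | rfl <;> rcases su5m2_cases l with rfl | rfl | rfl | rfl
    · exact absurd rfl hkl
    · rw [p0, p1, d0, d1]
      show cj D.nA (D.xA t) = D.yA (-1 * (1)⁻¹ * t)
      rw [h_xA]
      congr 1
      simp
    · exact absurd rfl hkl'
    · rw [p0, p3, d0, d3]
      show cj D.nA (D.xD t) = D.xD (-(star (-1 * (1)⁻¹ * t)))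
      rw [hT.a_xD]
      congr 1
      simp
    · rw [p1, p0, d1, d0]
      show cj D.nA (D.yA t) = D.xA (1 * (-1)⁻¹ * t)
      rw [h_yA]
      congr 1
      simp
    · exact absurd rfl hkl
    · rw [p1, p2, d1, d2]
      show cj D.nA (D.xD (-(star t))) = D.xD (1 * (-1)⁻¹ * t)
      rw [hT.a_xD]
      congr 1
      simp
    · exact absurd rfl hkl'
    · exact absurd rfl hkl'
    · rw [p2, p1, d2, d1]
      show cj D.nA (D.yD (-(star t))) = D.yD (-1 * (1)⁻¹ * t)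
      rw [h_yD]
      congr 1
      simp
    · exact absurd rfl hkl
    · rw [p2, p3, d2, d3]
      show cj D.nA (D.yA (-(star t))) = D.xA (-(star (-1 * (1)⁻¹ * t)))
      rw [h_yA]
      congr 1
      simp
    · rw [p3, p0, d3, d0]
      show cj D.nA (D.yD t) = D.yD (-(star (1 * (-1)⁻¹ * t)))
      rw [h_yD]
      congr 1
      simp
    · exact absurd rfl hkl'
    · rw [p3, p2, d3, d2]
      show cj D.nA (D.xA (-(star t))) = D.yA (-(star (1 * (-1)⁻¹ * t)))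
      rw [h_xA]
      congr 1
      simp
    · exact absurd rfl hkl
  · intro k ξ
    rcases su5m2_cases k with rfl | rfl | rfl | rfl
    · rw [p0, d0]
      show cj D.nA (D.xC ξ) = D.xB (Lam.act (-1 * 1⁻¹) ξ)
      rw [h_xC, inv_one, mul_one]
    · rw [p1, d1]
      show cj D.nA (D.xB ξ) = D.xC (Lam.act (1 * 1⁻¹) ξ)
      rw [inv_one, mul_one, act1]
      rfl
    · rw [p2, d2]
      show cj D.nA (D.yC ξ) = D.yB (Lam.act (-1 * 1⁻¹) ξ)
      rw [h_yC, inv_one, mul_one]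
    · rw [p3, d3]
      show cj D.nA (D.yB ξ) = D.yC (Lam.act (1 * 1⁻¹) ξ)
      rw [inv_one, mul_one, act1]
      rfl

end Dat

end Cfsg.Agent.Lib.helper3.SU5
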