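import Mathlib
import Cfsg.Agent.Lib.helper3.SU5.Defs
import Cfsg.Agent.Lib.helper3.SU5I5
import Cfsg.Agent.Lib.helper3.SU5N0
import Cfsg.Agent.Lib.Helper18.SU5N1
import Cfsg.Agent.Lib.Helper18.SU5M1
import Cfsg.Agent.Lib.Helper25.SU5M2core

/-!
# Project SU5 (designer helper3), row M2 (helper25), VERBATIM: `Dat.mon_A`

`su5m2_core` applied to the landed rows M1 (`Helper18.SU5M1`), I6 (`helper3.SU5I5`), N0 (`helper3.SU5N0`), N1 (`Helper18.SU5N1`).
-/

set_option autoImplicit false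

namespace Cfsg.Agent.Lib.helper3.SU5

open Cfsg.Agent.Lib.helper15.St2 Cfsg.Agent.Lib.Helper27.STU
open Cfsg.Agent.Lib.helper3.STC (ng sws)

universe u v w w₀

namespace Dat

variable {F : Type u} [Field F] [StarRing F] {G : Type w} [Group G] (D : Dat F G)

/-- M2 [M]  `nA` acts monomially. -/
theorem mon_A (hT : Tab5 D) :
    D.pre.Mon D.nA (sws (Sum.inl 0) (Sum.inl 1)) (dws (Sum.inl 0) (Sum.inl 1) 1) 1 :=
  su5m2_core D hT monData_A (fun t => nA_xA D t) (fun t => nA_yA D t) (fun ξ => nA_xC D hT ξ)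
    (fun ξ => nA_yC D hT ξ) (fun t => nA_yD D hT t)

end Dat

end Cfsg.Agent.Lib.helper3.SU5
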