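import Mathlib
import Cfsg.Agent.Lib.Helper19.SU5.Defs
import Cfsg.Agent.Lib.Helper19.SU5.Defs2
import Cfsg.Agent.Lib.Helper27.STU.Defs2
import Cfsg.Agent.Lib.Helper24.STUM3
import Cfsg.Agent.Lib.Helper22.SU5F4
import Cfsg.Agent.Lib.helper8.STULA1

/-!
# SU5 (designer helper19), part 2, row Z4 core: `model_commHU` from the dictionary statements of Z1 (`match_dictU`) and Z2 (`match_rootsU`) as hypotheses.
-/

set_option autoImplicit false

namespace Cfsg.Agent.Lib.Helper19.SU5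

open Cfsg.Agent.Lib.helper17.SLP Cfsg.Agent.Lib.helper3.SP4 Cfsg.Agent.Lib.Helper22.SU4
open Cfsg.Agent.Lib.Helper27.STU (Lam XpM XmM XpS XmS SUm XpU XmU SysU)
open Cfsg.Agent.Lib.helper3.STC (ng sws)

universe u v w

section Z

variable {F : Type u} {K : Type u} [Field F] [Field K] [StarRing F] [Fintype F] [Fintype K] {D : Tw F K}

variable {G₀ : Type v} [Group G₀] (S : SysU F True (Fin 2) G₀)

omit [Fintype F] [Fintype K] in
/-- `xs 2 (-1) s = xs 1 (-2) (-(star s))` -/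
theorem su5z4_sym (s : F) :
    S.xs (Sum.inl 1) (Sum.inr 0) s = S.xs (Sum.inl 0) (Sum.inr 1) (-(star s)) :=
  S.sym (Sum.inl 1) (Sum.inr 0) (by simp) (by simp [ng]) s

omit [Fintype F] [Fintype K] in
/-- `xs (-2) (-1) u = xs 1 2 (-(star u))` -/
theorem su5z4_sym' (u : F) :
    S.xs (Sum.inr 1) (Sum.inr 0) u = S.xs (Sum.inl 0) (Sum.inl 1) (-(star u)) :=
  S.sym (Sum.inr 1) (Sum.inr 0) (by simp) (by simp [ng]) u

theorem su5z4_core (hFK : Fintype.card F = Fintype.card K ^ 2) (P : RO D)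
    (ψa : Matrix.SpecialLinearGroup (Fin 2) F →* G₀) (ψb : ↥(SUm F True) →* G₀)
    (hx : ∀ t, rx ψa t = S.xs (Sum.inl 0) (Sum.inl 1) t)
    (hyb : ∀ ξ, yb ψb ξ = S.xl (Sum.inl 1) ξ)
    (hwb : rn (phiL P ψb) = S.wl (Sum.inl 1) (Lam.tr (P.ζ : F)))
    (hxc : ∀ t, xcU P ψa ψb t = S.xs (Sum.inl 0) (Sum.inr 1) (P.kap * t))
    (hyd : ∀ ξ, ydU ψa ψb ξ = S.xl (Sum.inl 0) (Lam.act (-1) ξ)) :
    (∀ ξ, Commute (rn (phiL P ψb)) (ydU ψa ψb ξ)) ∧ (∀ ξ t, Commute (yb ψb ξ) (xcU P ψa ψb t)) ∧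
      (∀ t ξ, cm (rx ψa t) (yb ψb ξ) =
        xcU P ψa ψb (-(P.kap)⁻¹ * (t * star ξ.c)) * ydU ψa ψb (Lam.act (-t) ξ)) ∧
      ∀ ξ η, cm (yb ψb ξ) (ydU ψa ψb η) = xcU P ψa ψb (-(P.kap)⁻¹ * (star ξ.v * η.v)) := by
  have hκ : P.kap ≠ 0 := su5f4_kap_ne hFK P
  have hκs : star P.kap = -P.kap := su5f4_star_kap P
  have hc0 : (Lam.tr (P.ζ : F) : Lam F True).c = P.kap := rfl
  refine ⟨?_, ?_, ?_, ?_⟩
  · -- `w_b` centralises `y_d`
    intro ξ
    rw [hwb, hyd]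
    have hmon := S.isMon_wl (Sum.inl 1) (ξ := (Lam.tr (P.ζ : F) : Lam F True)) (by rw [hc0]; exact hκ)
    have h := hmon.2.2 (Sum.inl 0) (Lam.act (-1) ξ)
    have e1 : (Equiv.swap (Sum.inl 1 : Fin 2 ⊕ Fin 2) (ng (Sum.inl 1))) (Sum.inl 0) = Sum.inl 0 := by
      apply Equiv.swap_apply_of_ne_of_ne <;> simp [ng]
    have e2 : Cfsg.Agent.Lib.Helper27.STU.dwl (Sum.inl 1 : Fin 2 ⊕ Fin 2) (Lam.tr (P.ζ : F) : Lam F True) (Sum.inl 0) = 1 := by
      simp [Cfsg.Agent.Lib.Helper27.STU.dwl, ng]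
    have e3 : Cfsg.Agent.Lib.Helper27.STU.d0l (Lam.tr (P.ζ : F) : Lam F True) = 1 := by
      unfold Cfsg.Agent.Lib.Helper27.STU.d0l
      rw [hc0, hκs, neg_div, div_self hκ, neg_neg]
    rw [e1, e2, e3, inv_one, mul_one, Lam.act_one] at h
    unfold Cfsg.Agent.Lib.helper15.St2.cj at h
    exact mul_inv_eq_iff_eq_mul.mp h
  · intro ξ t
    rw [hyb, hxc]
    exact S.comm_ls (Sum.inl 1) (Sum.inl 0) (Sum.inr 1) (by simp) (by simp [ng]) (by simp [ng]) (by simp) ξ _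
  · intro t ξ
    rw [hx, hyb, hxc, hyd]
    have hls := S.ls (Sum.inl 1) (Sum.inr 0) (by simp) (by simp [ng]) ξ (-(star t))
    have e1 : ng (Sum.inl 1 : Fin 2 ⊕ Fin 2) = Sum.inr 1 := rfl
    have e2 : ng (Sum.inr 0 : Fin 2 ⊕ Fin 2) = Sum.inl 0 := rfl
    rw [e1, e2, su5z4_sym' S, su5z4_sym S, star_neg, star_star, neg_neg] at hls
    -- hls : xl 2 ξ * xs 1 2 t * (xl 2 ξ)⁻¹ * (xs 1 2 t)⁻¹ = xs 1 (-2) (-(star (ξ.c * -(star t)))) * xl 1 (act (-t) (bar ξ))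
    have hcomm : Commute (S.xl (Sum.inl 0) (Lam.act (-t) (Lam.bar ξ)))
        (S.xs (Sum.inl 0) (Sum.inr 1) (-star (ξ.c * -star t))) :=
      S.comm_ls (Sum.inl 0) (Sum.inl 0) (Sum.inr 1) (by simp) (by simp [ng]) (by simp [ng]) (by simp) _ _
    have hinv : cm (S.xs (Sum.inl 0) (Sum.inl 1) t) (S.xl (Sum.inl 1) ξ) =
        (S.xl (Sum.inl 1) ξ * S.xs (Sum.inl 0) (Sum.inl 1) t * (S.xl (Sum.inl 1) ξ)⁻¹ *
          (S.xs (Sum.inl 0) (Sum.inl 1) t)⁻¹)⁻¹ := by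
      unfold cm; group
    rw [hinv, hls, mul_inv_rev]
    -- inverses of root elements
    have hxsinv : ∀ s, (S.xs (Sum.inl 0) (Sum.inr 1) s)⁻¹ = S.xs (Sum.inl 0) (Sum.inr 1) (-s) := by
      intro s
      have h0 : S.xs (Sum.inl 0) (Sum.inr 1) 0 = 1 := by
        have h := S.adds (Sum.inl 0) (Sum.inr 1) (by simp) (by simp [ng]) 0 0
        rw [add_zero] at h
        exact mul_eq_left.mp h
      symm
      apply eq_inv_of_mul_eq_one_left
      rw [S.adds _ _ (by simp) (by simp [ng]), neg_add_cancel, h0]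
    have hxlinv : ∀ η, (S.xl (Sum.inl 0) η)⁻¹ = S.xl (Sum.inl 0) η⁻¹ := by
      intro η
      have h1 : S.xl (Sum.inl 0) (1 : Lam F True) = 1 := by
        have h := S.addl (Sum.inl 0) 1 1
        rw [mul_one] at h
        exact mul_eq_left.mp h
      symm
      apply eq_inv_of_mul_eq_one_left
      rw [S.addl, inv_mul_cancel, h1]
    rw [hxsinv, hxlinv]
    have e3 : (Lam.act (-t) (Lam.bar ξ))⁻¹ = Lam.act (-1) (Lam.act (-t) ξ) := by
      apply Lam.ext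
      · simp
      · simp only [Lam.inv_c, Lam.act_c, Lam.bar_c, star_mul', star_star, star_neg, star_one]
        ring
    have e4 : -(-star (ξ.c * -star t)) = P.kap * (-(P.kap)⁻¹ * (t * star ξ.c)) := by
      rw [star_mul', star_neg, star_star]
      field_simp
    rw [e3, e4]
    have hcomm' := S.comm_ls (Sum.inl 0) (Sum.inl 0) (Sum.inr 1) (by simp) (by simp [ng]) (by simp [ng]) (by simp)
      (Lam.act (-1) (Lam.act (-t) ξ)) (P.kap * (-(P.kap)⁻¹ * (t * star ξ.c)))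
    exact hcomm'
  · intro ξ η
    rw [hyb, hxc, hyd]
    have hhh := S.hh (Sum.inl 1) (Sum.inl 0) (by simp) (by simp [ng]) ξ (Lam.act (-1) η)
    have e2 : ng (Sum.inl 0 : Fin 2 ⊕ Fin 2) = Sum.inr 0 := rfl
    rw [e2, su5z4_sym S] at hhh
    unfold cm
    rw [hhh]
    congr 1
    simp only [Lam.act_v, star_neg, star_mul', star_one, star_star]
    field_simp

end Z

end Cfsg.Agent.Lib.Helper19.SU5
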