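import Mathlib
import Cfsg.Agent.Lib.Helper18.OCT.Defs
import Cfsg.Agent.Lib.Helper18.OCGG
import Cfsg.Agent.Lib.Helper29.OCGC0

/-!
# OCG row C5 (core): `MGL_props` with the statement of row C3 (`MFun_props`) as hypothesis `hC3`
-/

set_option autoImplicit false

namespace Cfsg.Agent.Lib.Helper18.OCT

open Cfsg.Lie Matrix
open scoped MatrixGroups

section C

variable {F : Type*} [Field F]

theorem ocgc5_isUnit_det (h : GL (Fin 2) F) : IsUnit (h : Matrix (Fin 2) (Fin 2) F).det :=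
  (Matrix.isUnit_iff_isUnit_det _).mp (Units.isUnit h)

theorem ocgc5_core
    (hC3 : ∀ (h h' : Matrix (Fin 2) (Fin 2) F), IsUnit h.det → IsUnit h'.det →
      IsLinearMap F (MFun h : Oct F → Oct F) ∧ (∀ x : Oct F, MFun h (MFun h' x) = MFun (h * h') x) ∧
      (∀ x : Oct F, MFun 1 x = x) ∧
      (∀ x y : Oct F, MFun h (zornMul x y) = zornMul (MFun h x) (MFun h y)))
    (h h' : GL (Fin 2) F) :
    (∀ x : Oct F, act (MGL h) x = MFun (h : Matrix (Fin 2) (Fin 2) F) x) ∧ MGL (h * h') = MGL h * MGL h' ∧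
      (MGL h = 1 ↔ h ∈ ZGrp F) ∧ MGL h ∈ G2 F := by
  -- generic facts for any `k : GL₂`
  have hlin : ∀ k : GL (Fin 2) F, IsLinearMap F (MFun (k : Matrix (Fin 2) (Fin 2) F) : Oct F → Oct F) :=
    fun k => (hC3 k k (ocgc5_isUnit_det k) (ocgc5_isUnit_det k)).1
  have hinv : ∀ k : GL (Fin 2) F, ∀ x : Oct F,
      MFun (k : Matrix (Fin 2) (Fin 2) F) (MFun ((k⁻¹ : GL (Fin 2) F) : Matrix (Fin 2) (Fin 2) F) x) = x := by
    intro k x
    obtain ⟨_, hcomp, hone, _⟩ := hC3 k (k⁻¹ : GL (Fin 2) F) (ocgc5_isUnit_det k) (ocgc5_isUnit_det k⁻¹)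
    rw [hcomp, ← Units.val_mul, mul_inv_cancel, Units.val_one, hone]
  have hact : ∀ k : GL (Fin 2) F, ∀ x : Oct F, act (MGL k) x = MFun (k : Matrix (Fin 2) (Fin 2) F) x := by
    intro k x
    exact act_glOf _ _ (hlin k) (hlin k⁻¹) (hinv k) x
  refine ⟨hact h, ?_, ?_, ?_⟩
  · -- multiplicative
    unfold MGL
    rw [glOf_mul _ _ _ _ (hlin h) (hlin h⁻¹) (hlin h') (hlin h'⁻¹) (hinv h) (hinv h')]
    congr 1
    funext x
    obtain ⟨_, hcomp, _, _⟩ := hC3 h h' (ocgc5_isUnit_det h) (ocgc5_isUnit_det h')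
    rw [Function.comp_apply, hcomp, Units.val_mul]
  · -- kernel
    constructor
    · intro h1
      have hfix : ∀ x : Oct F, MFun (h : Matrix (Fin 2) (Fin 2) F) x = x := by
        intro x
        rw [← hact h x, h1, (act_mul 1 1 x).2]
      unfold ZGrp
      rw [Subgroup.mem_center_iff]
      intro g
      have h2 := hfix (cdJoin (g : Matrix (Fin 2) (Fin 2) F) 0)
      have h3 := congrArg cdA h2
      unfold MFun at h3
      rw [ocgc0_cdA, ocgc0_cdA] at h3
      -- h3 : ↑h * ↑g * (↑h)⁻¹ = ↑g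
      apply Units.ext
      rw [Units.val_mul, Units.val_mul]
      have h4 : (h : Matrix (Fin 2) (Fin 2) F) * (g : Matrix (Fin 2) (Fin 2) F) *
          (h : Matrix (Fin 2) (Fin 2) F)⁻¹ * (h : Matrix (Fin 2) (Fin 2) F) =
          (g : Matrix (Fin 2) (Fin 2) F) * (h : Matrix (Fin 2) (Fin 2) F) := by rw [h3]
      rw [Matrix.nonsing_inv_mul_cancel_right _ _ (ocgc5_isUnit_det h)] at h4
      exact h4.symm
    · intro hz
      unfold ZGrp at hz
      obtain ⟨a, ha⟩ := Matrix.GeneralLinearGroup.mem_center_iff_val_mem_range_scalar.mp hz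
      have hconj : ∀ X : Matrix (Fin 2) (Fin 2) F,
          (h : Matrix (Fin 2) (Fin 2) F) * X * (h : Matrix (Fin 2) (Fin 2) F)⁻¹ = X := by
        intro X
        have hc : (h : Matrix (Fin 2) (Fin 2) F) * X = X * (h : Matrix (Fin 2) (Fin 2) F) := by
          have h1 : (h : Matrix (Fin 2) (Fin 2) F) = Matrix.scalar (Fin 2) a := ha.symm
          rw [h1]
          exact (Matrix.scalar_commute a (fun r => Commute.all a r) X).eq
        rw [hc, Matrix.mul_nonsing_inv_cancel_right _ _ (ocgc5_isUnit_det h)]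
      apply act_ext
      intro x
      rw [hact h x, (act_mul 1 1 x).2]
      unfold MFun
      rw [hconj, hconj, ocgc0_join]
  · -- membership in G2
    obtain ⟨_, _, _, hmul⟩ := hC3 h h (ocgc5_isUnit_det h) (ocgc5_isUnit_det h)
    exact glOf_mem_G2 _ _ (hlin h) (hlin h⁻¹) (hinv h) hmul

end C

end Cfsg.Agent.Lib.Helper18.OCT
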