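import Mathlib
import Cfsg.Agent.Lib.Helper18.OCT.Defs
import Cfsg.Agent.Lib.Helper25.OCGC5core
import Cfsg.Agent.Lib.Helper29.OCGC3

/-!
# OCG row C5 (verbatim): `MGL_props` = `ocgc5_core` on helper29's `MFun_props` (C3)
-/

set_option autoImplicit false

namespace Cfsg.Agent.Lib.Helper18.OCT

open Cfsg.Lie Matrix
open scoped MatrixGroups

section C

variable {F : Type*} [Field F]

/-- C5 [M]. -/
theorem MGL_props (h h' : GL (Fin 2) F) :
    (∀ x : Oct F, act (MGL h) x = MFun (h : Matrix (Fin 2) (Fin 2) F) x) ∧ MGL (h * h') = MGL h * MGL h' ∧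
      (MGL h = 1 ↔ h ∈ ZGrp F) ∧ MGL h ∈ G2 F :=
  ocgc5_core (fun k k' hk hk' => MFun_props k k' hk hk') h h'

end C

end Cfsg.Agent.Lib.Helper18.OCT
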