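import Mathlib
import Cfsg.Agent.Lib.Helper18.OCT.Defs
import Cfsg.Agent.Lib.Helper18.OCGG
import Cfsg.Agent.Lib.Helper29.OCGC0

/-!
# OCG rows C6 (`MGL_conj_LGL`) and C7 (`LGL_eq_MGL`): cores with the statements of C4 / C5 as hypotheses
-/

set_option autoImplicit false

namespace Cfsg.Agent.Lib.Helper18.OCT

open Cfsg.Lie Matrix
open scoped MatrixGroups

section C

variable {F : Type*} [Field F]

theorem ocgc6_isUnit_det (h : GL (Fin 2) F) : IsUnit (h : Matrix (Fin 2) (Fin 2) F).det :=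
  (Matrix.isUnit_iff_isUnit_det _).mp (Units.isUnit h)

/-- C6 core: only the two `act` formulas are needed. -/
theorem ocgc6_core
    (hC4 : ∀ (p : GL (Fin 2) F) (x : Oct F), act (LGL p) x = LFun (p : Matrix (Fin 2) (Fin 2) F) x)
    (hC5 : ∀ (h : GL (Fin 2) F) (x : Oct F), act (MGL h) x = MFun (h : Matrix (Fin 2) (Fin 2) F) x)
    (h p : GL (Fin 2) F) : MGL h * LGL p * (MGL h)⁻¹ = LGL (h * p * h⁻¹) := by
  have key : MGL h * LGL p = LGL (h * p * h⁻¹) * MGL h := by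
    apply act_ext
    intro x
    rw [(act_mul _ _ x).1, (act_mul _ _ x).1, hC4, hC5, hC5, hC4]
    unfold MFun LFun
    rw [ocgc0_cdA, ocgc0_cdB, ocgc0_cdA, ocgc0_cdB]
    congr 1
    rw [Units.val_mul, Units.val_mul, Matrix.coe_units_inv]
    have hu := ocgc6_isUnit_det h
    simp only [Matrix.mul_assoc]
    rw [Matrix.nonsing_inv_mul_cancel_left _ _ hu]
  rw [key, mul_inv_cancel_right]

/-- C7 core. -/
theorem ocgc7_core
    (hC4 : ∀ (p : GL (Fin 2) F) (x : Oct F), act (LGL p) x = LFun (p : Matrix (Fin 2) (Fin 2) F) x)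
    (hC4inj : ∀ p : GL (Fin 2) F, LGL p = 1 → p = 1)
    (hC5 : ∀ (h : GL (Fin 2) F) (x : Oct F), act (MGL h) x = MFun (h : Matrix (Fin 2) (Fin 2) F) x)
    (p h : GL (Fin 2) F) (hph : LGL p = MGL h) : p = 1 := by
  apply hC4inj
  -- h X h⁻¹ = X for all X
  have hconj : ∀ X : Matrix (Fin 2) (Fin 2) F,
      (h : Matrix (Fin 2) (Fin 2) F) * X * (h : Matrix (Fin 2) (Fin 2) F)⁻¹ = X := by
    intro X
    have h1 : act (LGL p) (cdJoin X 0) = act (MGL h) (cdJoin X 0) := by rw [hph]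
    rw [hC4, hC5] at h1
    unfold MFun LFun at h1
    rw [ocgc0_cdA, ocgc0_cdB] at h1
    have h2 := congrArg cdA h1
    rw [ocgc0_cdA, ocgc0_cdA] at h2
    exact h2.symm
  rw [hph]
  apply act_ext
  intro x
  rw [hC5, (act_mul 1 1 x).2]
  unfold MFun
  rw [hconj, hconj, ocgc0_join]

end C

end Cfsg.Agent.Lib.Helper18.OCT
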