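import Mathlib
import Cfsg.Agent.Lib.Helper18.OCT.Defs
import Cfsg.Agent.Lib.Helper25.OCGC67core
import Cfsg.Agent.Lib.Helper25.OCGC5
import Cfsg.Agent.Lib.Helper29.OCGC4

/-!
# OCG rows C6 (`MGL_conj_LGL`) and C7 (`LGL_eq_MGL`), verbatim: the cores on C4 (helper29) and C5
-/

set_option autoImplicit false

namespace Cfsg.Agent.Lib.Helper18.OCT

open Cfsg.Lie Matrix
open scoped MatrixGroups

section C

variable {F : Type*} [Field F]

/-- C6 [S-M]. -/
theorem MGL_conj_LGL (h p : GL (Fin 2) F) : MGL h * LGL p * (MGL h)⁻¹ = LGL (h * p * h⁻¹) :=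
  ocgc6_core (fun p x => (LGL_props p p).1 x) (fun h x => (MGL_props h h).1 x) h p

/-- C7 [S-M]. -/
theorem LGL_eq_MGL (p h : GL (Fin 2) F) (hph : LGL p = MGL h) : p = 1 :=
  ocgc7_core (fun p x => (LGL_props p p).1 x) (fun p => (LGL_props p p).2.2.1)
    (fun h x => (MGL_props h h).1 x) p h hph

end C

end Cfsg.Agent.Lib.Helper18.OCT
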