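import Mathlib
import Cfsg.Agent.Lib.Helper18.OCT.Defs
import Cfsg.Agent.Lib.Helper25.OCGC6
import Cfsg.Agent.Lib.Helper29.OCGC4

/-!
# OCG row P5 (core): `#P0 (delta F) = 2 ^ (2 v₂(q² - 1))`, with the statements of P2 (`card_closure_abs`, at `X = GL₂(F)`,
`G = GL₈(F)`) and D11 (`card_RD`) as hypotheses; C4 - C7 are imported.
-/

set_option autoImplicit false

namespace Cfsg.Agent.Lib.Helper18.OCT

open Cfsg.Lie Matrix
open scoped MatrixGroups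

section P

variable {F : Type*} [Field F]

/-- `RGrp δ` is normalised by `DGrp δ`. -/
theorem ocgp5_RGrp_normal (δ : F) : ∀ h ∈ DGrp δ, ∀ r ∈ RGrp δ, h * r * h⁻¹ ∈ RGrp δ := by
  intro h hh r hr
  have hr' : r ∈ DGrp δ ∧ r ∈ SLker F := Subgroup.mem_inf.mp hr
  refine Subgroup.mem_inf.mpr ⟨?_, ?_⟩
  · exact (DGrp δ).mul_mem ((DGrp δ).mul_mem hh hr'.1) ((DGrp δ).inv_mem hh)
  · have hn : (SLker F).Normal := by unfold SLker; infer_instance
    exact hn.conj_mem r hr'.2 h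

/-- the equation of P2 for `P0`, from the statement of P2. -/
theorem ocgp5_of_P2 [Finite F] (δ : F)
    (hP2 : ∀ (L M : GL (Fin 2) F → GL (Fin 8) F),
      (∀ p p', L (p * p') = L p * L p') → (∀ h h', M (h * h') = M h * M h') →
      (∀ h p, M h * L p * (M h)⁻¹ = L (h * p * h⁻¹)) →
      ∀ (D R Z : Subgroup (GL (Fin 2) F)), R ≤ D →
      (∀ h ∈ D, ∀ r ∈ R, h * r * h⁻¹ ∈ R) → (∀ p ∈ R, ∀ h ∈ D, L p = M h → p = 1) →
      (∀ h ∈ D, M h = 1 ↔ h ∈ Z) →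
      Nat.card (Subgroup.closure (L '' (R : Set (GL (Fin 2) F)) ∪ M '' (D : Set (GL (Fin 2) F)))) *
        Nat.card (D ⊓ Z : Subgroup (GL (Fin 2) F)) = Nat.card R * Nat.card D) :
    Nat.card (P0 δ) * Nat.card (DGrp δ ⊓ ZGrp F : Subgroup (GL (Fin 2) F)) =
      Nat.card (RGrp δ) * Nat.card (DGrp δ) := by
  unfold P0
  exact hP2 LGL MGL (fun p p' => (LGL_props p p').2.1) (fun h h' => (MGL_props h h').2.1)
    MGL_conj_LGL (DGrp δ) (RGrp δ) (ZGrp F) inf_le_left (ocgp5_RGrp_normal δ)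
    (fun p _ h _ hph => LGL_eq_MGL p h hph) (fun h _ => (MGL_props h h).2.2.1)

/-- P5 core. -/
theorem ocgp5_core [Fintype F] {q : ℕ}
    (hP2 : ∀ (L M : GL (Fin 2) F → GL (Fin 8) F),
      (∀ p p', L (p * p') = L p * L p') → (∀ h h', M (h * h') = M h * M h') →
      (∀ h p, M h * L p * (M h)⁻¹ = L (h * p * h⁻¹)) →
      ∀ (D R Z : Subgroup (GL (Fin 2) F)), R ≤ D →
      (∀ h ∈ D, ∀ r ∈ R, h * r * h⁻¹ ∈ R) → (∀ p ∈ R, ∀ h ∈ D, L p = M h → p = 1) →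
      (∀ h ∈ D, M h = 1 ↔ h ∈ Z) →
      Nat.card (Subgroup.closure (L '' (R : Set (GL (Fin 2) F)) ∪ M '' (D : Set (GL (Fin 2) F)))) *
        Nat.card (D ⊓ Z : Subgroup (GL (Fin 2) F)) = Nat.card R * Nat.card D)
    (hD11 : Nat.card (RGrp (delta F)) * Nat.card (DGrp (delta F)) =
      2 ^ (2 * (q ^ 2 - 1).factorization 2) *
        Nat.card (DGrp (delta F) ⊓ ZGrp F : Subgroup (GL (Fin 2) F))) :
    Nat.card (P0 (delta F)) = 2 ^ (2 * (q ^ 2 - 1).factorization 2) := by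
  have h1 := ocgp5_of_P2 (delta F) hP2
  rw [hD11] at h1
  have hpos : 0 < Nat.card (DGrp (delta F) ⊓ ZGrp F : Subgroup (GL (Fin 2) F)) := Nat.card_pos
  exact Nat.eq_of_mul_eq_mul_right hpos h1

end P

end Cfsg.Agent.Lib.Helper18.OCT
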