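import Mathlib
import Cfsg.Agent.Lib.Helper18.OCT.Defs

/-!
# OCG row D8 (core): `#DGrp δ = 2 * #ASet δ`, with the statements of D3 (`mem_DGrp_iff`), D1 (`TorSet_props`) and the last part of
D2 (`phiGL ∉ TorSet δ`) as hypotheses
-/

set_option autoImplicit false

namespace Cfsg.Agent.Lib.Helper18.OCT

open Cfsg.Lie Matrix
open scoped MatrixGroups

section D

variable {F : Type*} [Field F]

theorem ocgd8_core [Finite F] (δ : F)
    (hD3 : ∀ g : GL (Fin 2) F, g ∈ DGrp δ ↔ g ∈ ASet δ ∨ ∃ a ∈ ASet δ, g = a * phiGL)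
    (hD1 : ∀ g h : GL (Fin 2) F, g ∈ TorSet δ → h ∈ TorSet δ →
      g * h ∈ TorSet δ ∧ g⁻¹ ∈ TorSet δ ∧ (1 : GL (Fin 2) F) ∈ TorSet δ ∧ g * h = h * g)
    (hphi : (phiGL : GL (Fin 2) F) ∉ TorSet δ) :
    Nat.card (DGrp δ) = 2 * Nat.card (ASet δ) := by
  classical
  have hfin : Finite (GL (Fin 2) F) := inferInstance
  have hset : ((DGrp δ : Subgroup (GL (Fin 2) F)) : Set (GL (Fin 2) F)) =
      ASet δ ∪ (fun a => a * phiGL) '' ASet δ := by
    ext g
    rw [SetLike.mem_coe, hD3 g]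
    constructor
    · rintro (h | ⟨a, ha, rfl⟩)
      · exact Or.inl h
      · exact Or.inr ⟨a, ha, rfl⟩
    · rintro (h | ⟨a, ha, rfl⟩)
      · exact Or.inl h
      · exact Or.inr ⟨a, ha, rfl⟩
  have hdisj : Disjoint (ASet δ) ((fun a => a * phiGL) '' ASet δ) := by
    rw [Set.disjoint_left]
    rintro g hg ⟨a, ha, rfl⟩
    apply hphi
    -- phiGL = a⁻¹ * (a * phiGL)
    have h1 : a⁻¹ ∈ TorSet δ := (hD1 a a ha.1 ha.1).2.1
    have h2 := (hD1 a⁻¹ (a * phiGL) h1 hg.1).1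
    rwa [inv_mul_cancel_left] at h2
  have hinj : Function.Injective (fun a : GL (Fin 2) F => a * phiGL) := mul_left_injective _
  have hc : Nat.card (DGrp δ) = Set.ncard ((DGrp δ : Subgroup (GL (Fin 2) F)) : Set (GL (Fin 2) F)) :=
    _root_.Nat.card_coe_set_eq _
  rw [hc, hset, Set.ncard_union_eq hdisj (Set.toFinite _) (Set.toFinite _),
    Set.ncard_image_of_injective _ hinj, _root_.Nat.card_coe_set_eq]
  ring

end D

end Cfsg.Agent.Lib.Helper18.OCT
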