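import Mathlib
import Cfsg.Agent.Lib.Helper18.OCT.Defs
import Cfsg.Agent.Lib.Helper25.OCGD8core
import Cfsg.Agent.Lib.Helper29.OCGD1
import Cfsg.Agent.Lib.Helper29.OCGD2
import Cfsg.Agent.Lib.Helper29.OCGD3

/-!
# OCG row D8 (verbatim): `#DGrp δ = 2 * #ASet δ` = `ocgd8_core` on helper29's D1, D2, D3
-/

set_option autoImplicit false

namespace Cfsg.Agent.Lib.Helper18.OCT

open Cfsg.Lie Matrix
open scoped MatrixGroups

section D

variable {F : Type*} [Field F]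

/-- D8 [M]. -/
theorem card_DGrp [Finite F] (δ : F) (h2 : (2 : F) ≠ 0) :
    Nat.card (DGrp δ) = 2 * Nat.card (ASet δ) :=
  ocgd8_core δ (mem_DGrp_iff δ) (TorSet_props δ) (ocgd2_not_mem δ h2)

end D

end Cfsg.Agent.Lib.Helper18.OCT
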