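import Mathlib
import Cfsg.Agent.Lib.Helper18.OCT.Defs
import Cfsg.Agent.Lib.Helper25.OCGP5core
import Cfsg.Agent.Lib.Helper28.OCGP2
import Cfsg.Agent.Lib.helper15.OCGD11

/-!
# OCG row P5 (`card_P0`), verbatim: `ocgp5_core` on helper28's P2 (`card_closure_abs`) and helper15's D11 (`card_RD`).
-/

set_option autoImplicit false

namespace Cfsg.Agent.Lib.Helper18.OCT

open Cfsg.Lie Matrix
open scoped MatrixGroups

section P

variable {F : Type*} [Field F]

/-- P5 [S-M]. P2 (C4, C5, C6, C7) and D11; `Nat.card (D ⊓ Z) ≠ 0`. -/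
theorem card_P0 [Fintype F] {q : ℕ} (hq : Fintype.card F = q) (hodd : Odd q) :
    Nat.card (P0 (delta F)) = 2 ^ (2 * (q ^ 2 - 1).factorization 2) := by
  exact ocgp5_core
    (fun L M hL hM hLM D R Z hRD hRn hint hK => card_closure_abs L M hL hM hLM D R Z hRD hRn hint hK)
    (card_RD hq hodd)

end P

end Cfsg.Agent.Lib.Helper18.OCT
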