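import Mathlib

set_option autoImplicit false

namespace Cfsg.Agent.Lib.Helper20.SS

theorem h25_eight_pow_ge {k : ℕ} (hk : 18 ≤ k) : k ^ 12 ≤ 8 ^ (k - 1) := by
  induction k, hk using Nat.le_induction with
  | base => norm_num
  | succ k hk ih =>
    have h1 : 18 * (k + 1) ≤ 19 * k := by omega
    have h2 : (18 * (k + 1)) ^ 12 ≤ (19 * k) ^ 12 := Nat.pow_le_pow_left h1 12
    rw [mul_pow, mul_pow] at h2
    have h3 : (19:ℕ) ^ 12 ≤ 8 * 18 ^ 12 := by norm_num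
    have h4 : 18 ^ 12 * (k + 1) ^ 12 ≤ 18 ^ 12 * (8 * k ^ 12) := by
      calc 18 ^ 12 * (k + 1) ^ 12 ≤ 19 ^ 12 * k ^ 12 := h2
        _ ≤ (8 * 18 ^ 12) * k ^ 12 := Nat.mul_le_mul_right _ h3
        _ = 18 ^ 12 * (8 * k ^ 12) := by ring
    have h5 : (k + 1) ^ 12 ≤ 8 * k ^ 12 := Nat.le_of_mul_le_mul_left h4 (by positivity)
    have h6 : (8:ℕ) ^ (k + 1 - 1) = 8 * 8 ^ (k - 1) := by
      have : k + 1 - 1 = (k - 1) + 1 := by omega
      rw [this, pow_succ]; ring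
    rw [h6]
    exact h5.trans (Nat.mul_le_mul_left 8 ih)

/-- SS-A: arithmetic of the range `n > k^(3/2)`. -/
theorem arith_A {n k : ℕ} (hk : 18 ≤ k)
    (h : (4 * n) ^ (3 * k) ≤ n ^ (k + 6) * (2 * k) ^ (3 * k + 3)) : n ^ 2 ≤ k ^ 3 := by
  by_contra hcon
  have hlt : k ^ 3 < n ^ 2 := not_le.mp hcon
  have hn : 0 < n := by
    rcases Nat.eq_zero_or_pos n with h0 | h0
    · subst h0; simp at hlt
    · exact h0
  have e1 : 3 * k = (k + 6) + (2 * k - 6) := by omega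
  have e2 : 6 * k = (3 * k + 3) + (3 * k - 3) := by omega
  have e3 : 2 * k - 6 = 2 * (k - 3) := by omega
  have e4 : 3 * k + 3 = (3 * k - 9) + 12 := by omega
  have e5 : 3 * k - 9 = 3 * (k - 3) := by omega
  have e6 : 3 * k - 3 = 3 * (k - 1) := by omega
  -- rewrite h
  have h1 : n ^ (k + 6) * (2 ^ (3 * k + 3) * (2 ^ (3 * k - 3) * n ^ (2 * k - 6)))
      ≤ n ^ (k + 6) * (2 ^ (3 * k + 3) * k ^ (3 * k + 3)) := by
    calc n ^ (k + 6) * (2 ^ (3 * k + 3) * (2 ^ (3 * k - 3) * n ^ (2 * k - 6)))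
        = (4 * n) ^ (3 * k) := by
          have hA : (4:ℕ) ^ (3 * k) = 2 ^ (6 * k) := by
            rw [show (4:ℕ) = 2 ^ 2 by norm_num, ← pow_mul]; congr 1; ring
          have hB : n ^ (3 * k) = n ^ (k + 6) * n ^ (2 * k - 6) := by
            rw [← pow_add, ← e1]
          have hC : (2:ℕ) ^ (6 * k) = 2 ^ (3 * k + 3) * 2 ^ (3 * k - 3) := by
            rw [← pow_add, ← e2]
          rw [mul_pow, hA, hB, hC]
          ring
      _ ≤ n ^ (k + 6) * (2 * k) ^ (3 * k + 3) := h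
      _ = n ^ (k + 6) * (2 ^ (3 * k + 3) * k ^ (3 * k + 3)) := by rw [mul_pow]
  have h2 : 2 ^ (3 * k - 3) * n ^ (2 * k - 6) ≤ k ^ (3 * k + 3) :=
    Nat.le_of_mul_le_mul_left (Nat.le_of_mul_le_mul_left h1 (by positivity)) (by positivity)
  have h3 : k ^ (3 * k - 9) < n ^ (2 * k - 6) := by
    rw [e3, e5, pow_mul, pow_mul]
    exact Nat.pow_lt_pow_left hlt (by omega)
  have h4 : 2 ^ (3 * k - 3) * k ^ (3 * k - 9) < k ^ (3 * k - 9) * k ^ 12 := by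
    calc 2 ^ (3 * k - 3) * k ^ (3 * k - 9) < 2 ^ (3 * k - 3) * n ^ (2 * k - 6) :=
          Nat.mul_lt_mul_of_pos_left h3 (by positivity)
      _ ≤ k ^ (3 * k + 3) := h2
      _ = k ^ (3 * k - 9) * k ^ 12 := by rw [← pow_add, ← e4]
  have hkpos : 0 < k ^ (3 * k - 9) := by
    have : 0 < k := by omega
    positivity
  have h5 : 2 ^ (3 * k - 3) < k ^ 12 := by
    rw [mul_comm] at h4
    exact Nat.lt_of_mul_lt_mul_left h4
  have h6 : (2:ℕ) ^ (3 * k - 3) = 8 ^ (k - 1) := by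
    rw [e6, pow_mul]; norm_num
  rw [h6] at h5
  exact absurd (h25_eight_pow_ge hk) (not_le.mpr h5)

end Cfsg.Agent.Lib.Helper20.SS
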