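import Mathlib
import Cfsg.Agent.Lib.Helper19.S5954.Defs
import Cfsg.Agent.Lib.Helper19.S5956UADJ

set_option autoImplicit false

/-!
# S5954 row URADND: non-degeneracy of an invariant subspace is tested on fixed vectors (hermitian twin of S5956U RADND).
-/

namespace Cfsg.Agent.Lib.Helper19.S5954

open Polynomial Module Cfsg.Agent.Lib.Helper13.S5955 Cfsg.Agent.Lib.helper14.JTa Cfsg.Agent.Lib.Helper11.S5956U

variable {F : Type*} [Field F] {V : Type*} [AddCommGroup V] [Module F V]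

/-- the adjoint of an isometry `x` with `x ^ r = 1` is `x ^ (r - 1)` -/
theorem s5954uradnd_one {r : ℕ} (hr : 0 < r) {σ : F →+* F} {B : V →ₛₗ[σ] V →ₗ[F] F}
    {x : Module.End F V} (h : HCtx r σ B x) (u v : V) : B (x u) v = B u ((x ^ (r - 1)) v) := by
  have h1 : x * x ^ (r - 1) = 1 := by
    rw [← pow_succ', Nat.sub_add_cancel hr, h.pow]
  have h2 : v = x ((x ^ (r - 1)) v) := by
    rw [← Module.End.mul_apply, h1, Module.End.one_apply]
  conv_lhs => rw [h2]
  exact h.pres _ _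

/-- URADND [M] (copy of Helper19/S5956URADND.lean): non-degeneracy of an invariant subspace is tested on the fixed vectors. -/
theorem h_rad_nd {r : ℕ} (hr : 0 < r) {σ : F →+* F} {B : V →ₛₗ[σ] V →ₗ[F] F} {x : Module.End F V}
    (h : HCtx r σ B x) (p : ℕ) (hM : (x - 1) ^ p = 0) (U : Submodule F V) (hU : SInv x U)
    (hfix : ∀ w ∈ U, (x - 1) w = 0 → (∀ u ∈ U, B w u = 0) → w = 0) : HND B U := by
  have hXU : ∀ u ∈ U, (x ^ (r - 1)) u ∈ U := fun u hu => s5956uadj_pow_mem hU _ hu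
  have hP : ∀ w, (w ∈ U ∧ ∀ u ∈ U, B w u = 0) →
      ((x - 1) w ∈ U ∧ ∀ u ∈ U, B ((x - 1) w) u = 0) := by
    rintro w ⟨hwU, hw⟩
    refine ⟨s5956uadj_sub_one_mem hU hwU, ?_⟩
    intro u hu
    rw [LinearMap.sub_apply, Module.End.one_apply, map_sub, LinearMap.sub_apply,
      s5954uradnd_one hr h, hw _ (hXU u hu), hw u hu, sub_zero]
  have key : ∀ a : ℕ, ∀ w, (w ∈ U ∧ ∀ u ∈ U, B w u = 0) → ((x - 1) ^ a) w = 0 → w = 0 := by
    intro a
    induction a with
    | zero => intro w _ h0; simpa using h0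
    | succ a ih =>
      intro w hw h0
      have h1 : (x - 1) w = 0 :=
        ih _ (hP w hw) (by rw [← Module.End.mul_apply, ← pow_succ]; exact h0)
      exact hfix w hw.1 h1 hw.2
  intro u hu hu0
  exact key p u ⟨hu, hu0⟩ (by rw [hM]; rfl)

end Cfsg.Agent.Lib.Helper19.S5954
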