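import Mathlib
import Cfsg.Agent.Lib.helper3.S5956.Defs
import Cfsg.Agent.Lib.Helper5.S5955Alt
import Cfsg.Agent.Lib.Helper5.S5955T7

/-!
# Project S5956, row A1 (NDSUB): nondegenerate subspaces of every even dimension
-/

set_option autoImplicit false

namespace Cfsg.Agent.Lib.helper3.S5956

open Polynomial Module
open Cfsg.Agent.Lib.Helper13.S5955 Cfsg.Agent.Lib.Helper24

/-- peel `k` hyperbolic planes off a nondegenerate alternating space -/
theorem s5956a1_peel {F : Type*} [Field F] {V : Type*} [AddCommGroup V] [Module F V]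
    [FiniteDimensional F V] (B : LinearMap.BilinForm F V) (halt : ∀ v, B v v = 0)
    (j k : ℕ) (N : Submodule F V) (hN : SND B N) (hdim : finrank F N = 2 * j + 2 * k) :
    ∃ U : Submodule F V, U ≤ N ∧ SND B U ∧ finrank F U = 2 * j := by
  induction k generalizing N with
  | zero => exact ⟨N, le_rfl, hN, by omega⟩
  | succ k ih =>
    obtain ⟨e, -, N', hN'N, hnd, hd, -, -⟩ := h5_hyp B halt N hN (by omega)
    obtain ⟨U, hUN', hU, hUd⟩ := ih N' hnd (by omega)
    exact ⟨U, hUN'.trans hN'N, hU, hUd⟩

/-- A1 [M] NDSUB: a nondegenerate alternating space of dimension `≥ 2j` contains a nondegenerate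
`2j`-space (peel hyperbolic planes; helper5's `h5_hyp`, S5955 T5/T7). -/
theorem nd_sub {F : Type*} [Field F] {V : Type*} [AddCommGroup V] [Module F V]
    [FiniteDimensional F V] (B : LinearMap.BilinForm F V) (halt : ∀ v, B v v = 0)
    (N : Submodule F V) (hN : SND B N) (j : ℕ) (hj : 2 * j ≤ finrank F N) :
    ∃ U : Submodule F V, U ≤ N ∧ SND B U ∧ finrank F U = 2 * j := by
  obtain ⟨n, hn⟩ := nd_even B halt N hN
  exact s5956a1_peel B halt j (n - j) N hN (by omega)

end Cfsg.Agent.Lib.helper3.S5956
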