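import Cfsg.Agent.Lib.Helper25.SAPPRES5core
import Cfsg.Agent.Lib.Helper28.SAPPERM1
import Cfsg.Agent.Lib.Helper28.SAPPERM4
import Cfsg.Agent.Lib.helper8.SAPPERM5
import Cfsg.Agent.Lib.helper6.SAPPERM6
import Cfsg.Agent.Lib.Helper9.SAPPERM8core
import Cfsg.Agent.Lib.Helper9.SAPPERM9core
import Cfsg.Agent.Lib.Helper13.SAPPERM3core
import Cfsg.Agent.Lib.Helper22.SAPALT2
import Cfsg.Agent.Lib.Helper22.SAPPRES4core

/-!
# SAP PRES5 (verbatim): the common relators hold in `Perm (Pt p k)`.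
Express wrapper on `sappres5_core`, the landed PERM1 PERM2 PERM4 PERM5 PERM6 ALT2 rows and the
cores of PERM3 PERM8 PERM9 PRES4.
-/

namespace Cfsg.Agent.Lib.helper7.SAP

open Equiv

universe u

section pres
variable (p k l : ℕ)

/-- PRES5 [M]: the common relators hold in `Perm (Pt p k)` (PERM rows). -/
theorem rels_perm [Fact p.Prime] (hlp : l + 1 ≤ p) (hl : 1 ≤ l) (r : (ZMod p)ˣ) (ez et : ℕ)
    (hz3 : ez % 3 = 1) (hzm : (l + k) ∣ ez) (ht3 : 3 ∣ et) (htm : et % (l + k) = 1 % (l + k))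
    (Bw Nw : FreeGroup (Fin 2)) (hB : evP p k l Bw = bh k r) (hN : evP p k l Nw = nh p k l) :
    ∀ w ∈ relsCommon p l k ez et (r : ZMod p).val Bw Nw, evP p k l w = 1 := by
  have hcomm := th_comm_zh0 p k l hlp
  have hpow := th_pow p k l hlp
  have hez := sapperm9_gh_pow_ez_core p k l hcomm hpow ez hz3 hzm
  have het := sapperm9_gh_pow_et_core p k l hcomm hpow et ht3 htm
  have h4 := sappres4_core p k l ez et hez het (fun i x => ah_pow_conj_zh p k i x)
  have hp1 : (0 : ZMod p) ≠ 1 := by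
    have : Fact (1 < p) := ⟨(Fact.out : p.Prime).one_lt⟩
    exact zero_ne_one
  exact sappres5_core p k l hp1 r ez et Bw Nw hB hN h4.1 h4.2.1 h4.2.2.1
    (ah_pow p k) (fun y => ah_conj_zh p k y) (bh_conj_ah p k r) (fun x => bh_conj_zh p k r x)
    (sapperm3_zh_carRel_core p k (c3_carRel ps1 ps2 (sapperm3_ps_ne p k)))
    hpow
    (sapperm8_core p k l hlp hl r (fun y => th_pt p k l hlp hl y) (th_ps p k l)
      (fun x => nh_po p k l hlp hl x) (fun j => nh_pe p k l j) (nh_ps p k l))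
    (fun e => sapperm9_gh_pow_core p k l hcomm e)

end pres

end Cfsg.Agent.Lib.helper7.SAP
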