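import Mathlib
import Cfsg.Agent.Lib.helper23.TD4V.Defs
import Cfsg.Agent.Lib.helper8.ChevUp

/-!
# TD4V row U2 (`QmK_lower`), verbatim: the elements of `QmK` are block lower unitriangular for the grading `dg`.
-/

set_option autoImplicit false

namespace Cfsg.Agent.Lib.helper23.TD4V

open Cfsg.Lie Cfsg.Lie.ChevalleyDatum Matrix
open Cfsg.Agent.Lib.helper8 Cfsg.Agent.Lib.helper8.TD4
open Cfsg.Agent.Lib.helper23.P4V

universe u v

/-- the degree of the root with index `r` -/
def td4vu2_dgR (r : ℕ) : ℤ :=
  (chevD4.coroot.getD r #[]).getD 0 0 + (chevD4.coroot.getD r #[]).getD 2 0 +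
    (chevD4.coroot.getD r #[]).getD 3 0

theorem td4vu2_dg_inr (r : Fin chevD4.nroots) : dg (Sum.inr r) = td4vu2_dgR r.val := rfl

theorem td4vu2_dg_inl (i : Fin chevD4.rank) : dg (Sum.inl i) = 0 := rfl

theorem td4vu2_neg_deg : ∀ r : Fin 24, r.val ≤ 11 → r.val ≠ 9 → td4vu2_dgR r.val < 0 := by
  decide

theorem td4vu2_negIdx_deg : ∀ r : Fin 24, r.val ≤ 11 → r.val ≠ 9 → ∀ s : Fin 24,
    s.val = chevD4.negIdx.getD r.val 0 → 0 < td4vu2_dgR s.val := by
  decide

theorem td4vu2_chain : ∀ r : Fin 24, r.val ≤ 11 → r.val ≠ 9 → ∀ s u : Fin 24,
    td4vu2_dgR s.val ≤ td4vu2_dgR u.val → chevD4.chainCoeff r.val s.val u.val = [] := by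
  decide +kernel

/-- the generators of `QmK`: the negative roots other than `-β` -/
theorem td4vu2_gen (r : ℕ) (hr : chevD4.IsNegRoot r) (hn : ¬ chevD4.InRootSub ({1} : Set ℕ) r) :
    r ≤ 11 ∧ r ≠ 9 := by
  have h24 : r < 24 := hr.1
  have h9 : r ≠ 9 := by
    rintro rfl
    apply hn
    refine ⟨by decide, ?_⟩
    intro i hi hni
    have hi4 : i < 4 := hi
    interval_cases i
    · decide
    · exact absurd rfl hni
    · decide
    · decide
  refine ⟨?_, h9⟩
  by_contra hgt
  have h12 : 12 ≤ r := by omega
  interval_cases r <;> exact absurd hr (by decide)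

section

variable {K : Type u} [Field K]

/-- block lower unitriangular matrices -/
def td4vu2_Low (M : Matrix chevD4.Idx chevD4.Idx K) : Prop :=
  ∀ i j : chevD4.Idx, (dg j < dg i → M i j = 0) ∧ (dg i = dg j → M i j = if i = j then 1 else 0)

theorem td4vu2_Low_one : td4vu2_Low (1 : Matrix chevD4.Idx chevD4.Idx K) := by
  intro i j
  constructor
  · intro h
    have hne : i ≠ j := by
      rintro rfl
      exact lt_irrefl _ h
    exact Matrix.one_apply_ne hne
  · intro _
    exact Matrix.one_apply

theorem td4vu2_Low_mul {A B : Matrix chevD4.Idx chevD4.Idx K} (hA : td4vu2_Low A)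
    (hB : td4vu2_Low B) : td4vu2_Low (A * B) := by
  classical
  intro i j
  constructor
  · intro h
    rw [Matrix.mul_apply]
    apply Finset.sum_eq_zero
    intro k _
    by_cases h1 : dg k < dg i
    · rw [(hA i k).1 h1, zero_mul]
    · have h2 : dg j < dg k := lt_of_lt_of_le h (not_lt.mp h1)
      rw [(hB k j).1 h2, mul_zero]
  · intro h
    rw [Matrix.mul_apply]
    have hterm : ∀ k : chevD4.Idx, A i k * B k j = (if i = k then 1 else 0) * (if k = j then 1 else 0) := by
      intro k
      rcases lt_trichotomy (dg k) (dg i) with h1 | h1 | h1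
      · rw [(hA i k).1 h1, zero_mul]
        have hne : i ≠ k := by
          rintro rfl
          exact lt_irrefl _ h1
        rw [if_neg hne, zero_mul]
      · rw [(hA i k).2 h1.symm, (hB k j).2 (h1.trans h)]
      · have h2 : dg j < dg k := by rw [← h]; exact h1
        rw [(hB k j).1 h2, mul_zero]
        have hne : k ≠ j := by
          rintro rfl
          exact lt_irrefl _ h2
        rw [if_neg hne, mul_zero]
    rw [Finset.sum_congr rfl (fun k _ => hterm k)]
    by_cases hij : i = j
    · subst hij
      rw [if_pos rfl, Finset.sum_eq_single i]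
      · simp
      · intro k _ hk
        rw [if_neg (Ne.symm hk), zero_mul]
      · intro hi
        exact absurd (Finset.mem_univ i) hi
    · rw [if_neg hij]
      apply Finset.sum_eq_zero
      intro k _
      by_cases hik : i = k
      · subst hik
        rw [if_neg hij, mul_zero]
      · rw [if_neg hik, zero_mul]

/-- the root elements of negative degree are block lower unitriangular -/
theorem td4vu2_Low_x (r : ℕ) (hr : r ≤ 11) (hr9 : r ≠ 9) (t : K) : td4vu2_Low (chevD4.x K r t) := by
  have hr24 : r < chevD4.nroots := by
    show r < 24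
    omega
  have hdr : td4vu2_dgR r < 0 := td4vu2_neg_deg ⟨r, hr24⟩ hr hr9
  intro i j
  unfold ChevalleyDatum.x
  rw [dif_pos hr24]
  unfold ChevalleyDatum.xMat
  rw [Matrix.of_apply]
  rcases j with ji | s
  · -- column `h_i`
    rcases i with ii | uu
    · dsimp only
      constructor
      · intro h
        rw [td4vu2_dg_inl, td4vu2_dg_inl] at h
        exact absurd h (lt_irrefl _)
      · intro _
        by_cases e : ii = ji
        · rw [if_pos e, if_pos (by rw [e])]
        · rw [if_neg e, if_neg (fun h => e (Sum.inl.inj h))]
    · dsimp only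
      constructor
      · intro h
        rw [td4vu2_dg_inl, td4vu2_dg_inr] at h
        have hne : uu ≠ ⟨r, hr24⟩ := by
          rintro rfl
          exact absurd (lt_trans h hdr) (lt_irrefl _)
        rw [if_neg hne]
      · intro h
        rw [td4vu2_dg_inl, td4vu2_dg_inr] at h
        have hne : uu ≠ ⟨r, hr24⟩ := by
          rintro rfl
          rw [h] at hdr
          exact absurd hdr (lt_irrefl _)
        rw [if_neg hne, if_neg (fun h' => Sum.inr_ne_inl h')]
  · -- column `e_s`
    by_cases hsr : s = ⟨r, hr24⟩
    · dsimp only
      rw [if_pos hsr]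
      rcases i with ii | uu
      · dsimp only
        constructor
        · intro _; rfl
        · intro _
          rw [if_neg (fun h' => Sum.inl_ne_inr h')]
      · dsimp only
        constructor
        · intro h
          have hne : uu ≠ ⟨r, hr24⟩ := by
            rintro rfl
            rw [hsr] at h
            exact lt_irrefl _ h
          rw [if_neg hne]
        · intro _
          by_cases e : uu = ⟨r, hr24⟩
          · rw [if_pos e, if_pos (by rw [e, hsr])]
          · rw [if_neg e, if_neg (fun h' => e ((Sum.inr.inj h').trans hsr))]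
    · dsimp only
      rw [if_neg hsr]
      by_cases hneg : s.val = chevD4.negIdx.getD (⟨r, hr24⟩ : Fin chevD4.nroots).val 0
      · rw [if_pos hneg]
        have hds : 0 < td4vu2_dgR s.val := td4vu2_negIdx_deg ⟨r, hr24⟩ hr hr9 s hneg
        rcases i with ii | uu
        · dsimp only
          constructor
          · intro h
            rw [td4vu2_dg_inl, td4vu2_dg_inr] at h
            exact absurd (lt_trans hds h) (lt_irrefl _)
          · intro h
            rw [td4vu2_dg_inl, td4vu2_dg_inr] at h
            rw [← h] at hds
            exact absurd hds (lt_irrefl _)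
        · dsimp only
          constructor
          · intro h
            rw [td4vu2_dg_inr, td4vu2_dg_inr] at h
            have hne : uu ≠ s := by
              rintro rfl
              exact lt_irrefl _ h
            have hne' : uu ≠ ⟨r, hr24⟩ := by
              rintro rfl
              exact absurd (lt_trans (lt_trans hds h) hdr) (lt_irrefl _)
            rw [if_neg hne, if_neg hne']
          · intro h
            rw [td4vu2_dg_inr, td4vu2_dg_inr] at h
            by_cases e : uu = s
            · rw [if_pos e, if_pos (by rw [e])]
            · have hne' : uu ≠ ⟨r, hr24⟩ := by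
                rintro rfl
                have h0 : td4vu2_dgR r = td4vu2_dgR s.val := h
                rw [h0] at hdr
                exact absurd (lt_trans hds hdr) (lt_irrefl _)
              rw [if_neg e, if_neg hne', if_neg (fun h' => e (Sum.inr.inj h'))]
      · rw [if_neg hneg]
        rcases i with ii | uu
        · dsimp only
          constructor
          · intro _; rfl
          · intro _
            rw [if_neg (fun h' => Sum.inl_ne_inr h')]
        · dsimp only
          have hch : td4vu2_dgR s.val ≤ td4vu2_dgR uu.val →
              chevD4.chainCoeff (⟨r, hr24⟩ : Fin chevD4.nroots).val s.val uu.val = [] :=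
            td4vu2_chain ⟨r, hr24⟩ hr hr9 s uu
          constructor
          · intro h
            rw [td4vu2_dg_inr, td4vu2_dg_inr] at h
            have hne : uu ≠ s := by
              rintro rfl
              exact lt_irrefl _ h
            rw [hch (le_of_lt h), if_neg hne]
            simp
          · intro h
            rw [td4vu2_dg_inr, td4vu2_dg_inr] at h
            rw [hch (le_of_eq h.symm)]
            by_cases e : uu = s
            · rw [if_pos e, if_pos (by rw [e])]
              simp
            · rw [if_neg e, if_neg (fun h' => e (Sum.inr.inj h'))]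
              simp

/-- **U2** [M].  Closure induction over the generators `x_r(t)`, `r` negative, `r ≠ 9`, of `QmK K` (their degree is `< 0`): block lower
unitriangular matrices are closed under products and inverses (use `closure_induction''` with `x_r(-t)`). -/
theorem QmK_lower (g : GG K) (hg : g ∈ QmK K) (i j : chevD4.Idx) :
    (dg j < dg i → (g : Matrix chevD4.Idx chevD4.Idx K) i j = 0) ∧
    (dg i = dg j → (g : Matrix chevD4.Idx chevD4.Idx K) i j = if i = j then 1 else 0) := by
  have key : td4vu2_Low (g : Matrix chevD4.Idx chevD4.Idx K) := by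
    unfold QmK at hg
    induction hg using Subgroup.closure_induction'' with
    | one => exact td4vu2_Low_one
    | mem x hx =>
      obtain ⟨r, t, hr, hn, hx⟩ := hx
      obtain ⟨h11, h9⟩ := td4vu2_gen r hr hn
      rw [hx]
      exact td4vu2_Low_x r h11 h9 t
    | inv_mem x hx =>
      obtain ⟨r, t, hr, hn, hx⟩ := hx
      obtain ⟨h11, h9⟩ := td4vu2_gen r hr hn
      have hxe : x = h8xU chevD4 hB r t := Units.ext hx
      rw [hxe, h8xU_inv, h8xU_val]
      exact td4vu2_Low_x r h11 h9 (-t)
    | mul x y _ _ hx hy =>
      rw [Units.val_mul]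
      exact td4vu2_Low_mul hx hy
  exact key i j

end

end Cfsg.Agent.Lib.helper23.TD4V
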