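import Cfsg.Agent.Lib.Helper28.TOO.Defs
import Cfsg.Agent.Lib.helper6.TSSIEG
import Cfsg.Agent.Lib.Helper21.TOO.Transfer
import Cfsg.Agent.Lib.Helper28.OTrans

/-!
# Project TOO, rows TR1 + TR2: the isometry group of `x ↦ f(x,x)/2` is `Iso J`, and `omegaGL = Om J`
-/

set_option autoImplicit false
set_option linter.unusedVariables false
set_option linter.unusedSectionVars false

namespace Cfsg.Agent.Lib.Helper28.TOO

open Matrix
open scoped Kronecker
open Cfsg.Agent.Lib.helper7.TP Cfsg.Agent.Lib.Helper21.TS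

section bridge

variable {ι : Type} [Fintype ι] [DecidableEq ι] {F : Type*} [Field F] {J : Matrix ι ι F}

/-- polarisation -/
theorem tootr1_polar (hJ : Jᵀ = J) (x y : ι → F) :
    bf J (x + y) (x + y) = bf J x x + 2 * bf J x y + bf J y y := by
  rw [bf_add_left, bf_add_right, bf_add_right, bf_symm hJ y x]
  ring

/-- TR1 [S-M]. -/
theorem tr_iso_eq (h2 : (2 : F) ≠ 0) (hJ : Jᵀ = J) :
    Cfsg.isometryGroup F (fun x : ι → F => bf J x x / 2) = Iso J := by
  ext g
  rw [Cfsg.Agent.Lib.Helper21.TOO.too_mem_iso_iff, mem_Iso_iff_bf]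
  constructor
  · intro h x y
    have hq : ∀ v : ι → F, bf J ((g : Matrix ι ι F) *ᵥ v) ((g : Matrix ι ι F) *ᵥ v) = bf J v v := by
      intro v
      have := h v
      field_simp at this
      exact this
    have h1 := hq (x + y)
    rw [Matrix.mulVec_add, tootr1_polar hJ, tootr1_polar hJ, hq x, hq y] at h1
    have h3 : (2 : F) * bf J ((g : Matrix ι ι F) *ᵥ x) ((g : Matrix ι ι F) *ᵥ y) = 2 * bf J x y := by
      linear_combination h1
    exact mul_left_cancel₀ h2 h3
  · intro h x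
    rw [h x x]

/-- TR2 [S]. -/
theorem tr_omegaGL_eq_Om (h2 : (2 : F) ≠ 0) (hJ : Jᵀ = J) :
    Cfsg.Geo.omegaGL (fun x : ι → F => bf J x x / 2) = Om J := by
  rw [Cfsg.Agent.Lib.Helper28.OTrans.omegaGL_eq, tr_iso_eq h2 hJ]
  unfold Om
  rw [commutator_def, Subgroup.map_commutator, ← MonoidHom.range_eq_map, Subgroup.range_subtype]

end bridge

end Cfsg.Agent.Lib.Helper28.TOO
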