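import Cfsg.Agent.Lib.Helper25.UDQREFLcore
import Cfsg.Agent.Lib.Helper1.UDDIL
-- project UD (S5655), piece QREFL (verbatim): quasi-reflections.

set_option autoImplicit false
set_option linter.unusedVariables false
set_option linter.unusedSectionVars false

namespace Cfsg.Agent.Lib.helper15.UD

open Matrix Cfsg.Agent.Lib.Helper28 Cfsg.Agent.Lib.Helper29.ExtrL

variable {n q : ℕ} {F : Type*} [Field F] [Fintype F] {σ : F ≃+* F}

section blockB
variable {f : (Fin n → F) → (Fin n → F) → F}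

theorem qrefl (hf : Cfsg.Geo.IsUnitaryForm σ f) (r : Fin n → F) (hr : f r r ≠ 0) (ε : F)
    (hε : ε * σ ε = 1) :
    ∃ g : Matrix.GeneralLinearGroup (Fin n) F, (g : Matrix (Fin n) (Fin n) F).det = ε ∧
      (∀ x, (g : Matrix (Fin n) (Fin n) F) *ᵥ x = x + ((ε - 1) * f x r / f r r) • r) ∧
      (∀ x y, f ((g : Matrix (Fin n) (Fin n) F) *ᵥ x) ((g : Matrix (Fin n) (Fin n) F) *ᵥ y) = f x y) :=
  qrefl_core hf (fun w u h => dilGL hf w u h) r hr ε hε

end blockB

end Cfsg.Agent.Lib.helper15.UD
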