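import Mathlib
import Cfsg.Agent.Lib.Helper21.BSQ.Defs

/-!
# BSQ row E2 (second write, own names): an automorphism of odd order of `QuaternionGroup (2 ^ k)`, `k ≥ 2`, is trivial

`bsqe2_h25_quat_odd_aut` has the EXACT Skel statement of `quat_odd_aut`.
-/

set_option autoImplicit false

namespace Cfsg.Agent.Lib.Helper21.BSQ

open QuaternionGroup

theorem bsqe2_h25_a_pow {n : ℕ} (j : ZMod (2 * n)) (m : ℕ) :
    (a j : QuaternionGroup n) ^ m = a ((m : ZMod (2 * n)) * j) := by
  induction m with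
  | zero => rw [pow_zero, Nat.cast_zero, zero_mul, a_zero]
  | succ m ih =>
    rw [pow_succ, ih, a_mul_a]
    congr 1
    push_cast
    ring

/-- an odd power that is `1` in `ZMod (2 ^ (k+1))` forces the base to be `1`. -/
theorem bsqe2_h25_unit_odd (k : ℕ) (j : ZMod (2 ^ (k + 1))) (r : ℕ) (hr : Odd r) (hj : j ^ r = 1) :
    j = 1 := by
  have hr0 : r ≠ 0 := by
    rintro rfl
    simp at hr
  have hu : IsUnit j := IsUnit.of_pow_eq_one hj hr0
  obtain ⟨u, rfl⟩ := hu
  have h1 : u ^ r = 1 := by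
    apply Units.ext
    rw [Units.val_pow_eq_pow_val, hj, Units.val_one]
  have h2 : u ^ (2 ^ (k + 1)).totient = 1 := ZMod.pow_totient u
  have htot : (2 ^ (k + 1)).totient = 2 ^ k := by
    rw [Nat.totient_prime_pow_succ Nat.prime_two]; simp
  rw [htot] at h2
  have h3 : u ^ (r.gcd (2 ^ k)) = 1 := pow_gcd_eq_one.mpr ⟨h1, h2⟩
  have hcop : r.Coprime (2 ^ k) := Nat.Coprime.pow_right k (Odd.coprime_two_left hr).symm
  rw [hcop.gcd_eq_one, pow_one] at h3
  rw [h3, Units.val_one]

theorem bsqe2_h25_mul_odd (k : ℕ) (l : ZMod (2 ^ (k + 1))) (r : ℕ) (hr : Odd r)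
    (hl : (r : ZMod (2 ^ (k + 1))) * l = 0) : l = 0 := by
  have hcop : r.Coprime (2 ^ (k + 1)) :=
    Nat.Coprime.pow_right (k + 1) (Odd.coprime_two_left hr).symm
  have hu : IsUnit (r : ZMod (2 ^ (k + 1))) := (ZMod.isUnit_iff_coprime r (2 ^ (k + 1))).mpr hcop
  rw [mul_comm] at hl
  exact (hu.mul_left_eq_zero).mp hl

/-- General form with `n` and the arithmetic facts about `ZMod (2 * n)` as hypotheses. -/
theorem bsqe2_h25_aux {n : ℕ} [NeZero n] (hn4 : 2 * n ≠ 4)
    (hunit : ∀ (j : ZMod (2 * n)) (r : ℕ), Odd r → j ^ r = 1 → j = 1)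
    (hmul : ∀ (l : ZMod (2 * n)) (r : ℕ), Odd r → (r : ZMod (2 * n)) * l = 0 → l = 0)
    (φ : MulAut (QuaternionGroup n)) (hφ : Odd (orderOf φ)) : φ = 1 := by
  -- step 1
  obtain ⟨j, hj⟩ : ∃ j, φ (a 1) = a j := by
    rcases h : φ (a 1) with j | j
    · exact ⟨j, rfl⟩
    · exfalso
      have h1 : orderOf (φ (a 1)) = orderOf (a 1 : QuaternionGroup n) := MulEquiv.orderOf_eq φ _
      rw [h, orderOf_xa, orderOf_a_one] at h1
      exact hn4 h1.symm
  -- step 2
  have ha : ∀ i : ZMod (2 * n), φ (a i) = a (j * i) := by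
    intro i
    have h1 : (a i : QuaternionGroup n) = a 1 ^ i.val := by
      rw [a_one_pow, ZMod.natCast_zmod_val]
    rw [h1, map_pow, hj, bsqe2_h25_a_pow, ZMod.natCast_zmod_val, mul_comm]
  -- step 3
  obtain ⟨l, hl⟩ : ∃ l, φ (xa 0) = xa l := by
    rcases h : φ (xa 0) with l | l
    · exfalso
      obtain ⟨y, hy⟩ := φ.surjective (xa 0)
      rcases y with i | i
      · rw [ha] at hy
        cases hy
      · have h2 : (xa i : QuaternionGroup n) = xa 0 * a i := by
          rw [xa_mul_a, zero_add]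
        rw [h2, map_mul, h, ha, a_mul_a] at hy
        cases hy
    · exact ⟨l, rfl⟩
  have hxa : ∀ i : ZMod (2 * n), φ (xa i) = xa (l + j * i) := by
    intro i
    have h2 : (xa i : QuaternionGroup n) = xa 0 * a i := by
      rw [xa_mul_a, zero_add]
    rw [h2, map_mul, hl, ha, xa_mul_a]
  -- powers on the `a` part
  have hpa : ∀ (m : ℕ) (i : ZMod (2 * n)), (φ ^ m) (a i) = a (j ^ m * i) := by
    intro m
    induction m with
    | zero => intro i; simp
    | succ m ih =>
      intro i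
      rw [pow_succ, MulAut.mul_apply, ha, ih]
      congr 1
      ring
  have hr : φ ^ orderOf φ = 1 := pow_orderOf_eq_one φ
  have hj1 : j = 1 := by
    apply hunit j (orderOf φ) hφ
    have h1 := hpa (orderOf φ) 1
    rw [hr, MulAut.one_apply, mul_one] at h1
    have h2 : (1 : ZMod (2 * n)) = j ^ orderOf φ := by
      injection h1
    exact h2.symm
  subst hj1
  -- powers on the `xa` part
  have hpx : ∀ (m : ℕ) (i : ZMod (2 * n)), (φ ^ m) (xa i) = xa ((m : ZMod (2 * n)) * l + i) := by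
    intro m
    induction m with
    | zero => intro i; simp
    | succ m ih =>
      intro i
      rw [pow_succ, MulAut.mul_apply, hxa, ih]
      congr 1
      push_cast
      ring
  have hl0 : l = 0 := by
    apply hmul l (orderOf φ) hφ
    have h1 := hpx (orderOf φ) 0
    rw [hr, MulAut.one_apply, add_zero] at h1
    have h2 : (0 : ZMod (2 * n)) = (orderOf φ : ZMod (2 * n)) * l := by
      injection h1
    exact h2.symm
  subst hl0
  ext x
  rcases x with i | i
  · rw [ha, one_mul, MulAut.one_apply]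
  · rw [hxa, one_mul, zero_add, MulAut.one_apply]

/-- BSQ E2, EXACT Skel statement of `quat_odd_aut` (own name). -/
theorem bsqe2_h25_quat_odd_aut (k : ℕ) (hk : 2 ≤ k) (φ : MulAut (QuaternionGroup (2 ^ k)))
    (hφ : Odd (orderOf φ)) : φ = 1 := by
  have h2n : 2 * 2 ^ k = 2 ^ (k + 1) := by rw [pow_succ]; ring
  have : NeZero (2 ^ k) := ⟨by positivity⟩
  refine bsqe2_h25_aux ?_ ?_ ?_ φ hφ
  · rw [h2n]
    have : 2 ^ 3 ≤ 2 ^ (k + 1) := Nat.pow_le_pow_right (by norm_num) (by omega)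
    omega
  · rw [h2n]; exact bsqe2_h25_unit_odd k
  · rw [h2n]; exact bsqe2_h25_mul_odd k

end Cfsg.Agent.Lib.Helper21.BSQ
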