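import Mathlib
import Cfsg.Agent.Lib.Helper21.BSQ.Defs

/-!
# BSQ row E2' (core): elements of odd order centralise a normal subgroup isomorphic to `QuaternionGroup (2 ^ k)`

`bsqe2p_core` = the Skel statement `odd_centralizes_quat` with the conclusion of row E2 (`quat_odd_aut`) as the
hypothesis `hE2`.
-/

set_option autoImplicit false

namespace Cfsg.Agent.Lib.Helper21.BSQ

universe u

variable {G : Type u} [Group G]

/-- Abstract version: if every automorphism of odd order of `Q` is trivial, `P ⊴ G` and `e : P ≃* Q`, then every element of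
odd order of `G` centralises `P`. -/
theorem bsqe2p_abstract {Q : Type*} [Group Q]
    (hQ : ∀ φ : MulAut Q, Odd (orderOf φ) → φ = 1)
    (P : Subgroup G) [P.Normal] (e : ↥P ≃* Q) (g : G) (hg : Odd (orderOf g)) :
    ∀ x ∈ P, g * x = x * g := by
  intro x hx
  let Φ : G →* MulAut Q := (MulAut.congr e).toMonoidHom.comp (MulAut.conjNormal (H := P))
  have hdvd : orderOf (Φ g) ∣ orderOf g := orderOf_map_dvd Φ g
  have hodd : Odd (orderOf (Φ g)) := Odd.of_dvd_nat hg hdvd
  have h1 : Φ g = 1 := hQ _ hodd
  have h2 : (MulAut.congr e) (MulAut.conjNormal (H := P) g) = 1 := h1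
  have h3 : MulAut.conjNormal (H := P) g = 1 := by
    have := (MulAut.congr e).injective (a₁ := MulAut.conjNormal (H := P) g) (a₂ := 1)
    apply this
    rw [h2, map_one]
  have h4 : MulAut.conjNormal (H := P) g ⟨x, hx⟩ = ⟨x, hx⟩ := by
    rw [h3]; rfl
  have h5 : g * x * g⁻¹ = x := by
    have := congrArg Subtype.val h4
    simpa [MulAut.conjNormal_apply] using this
  calc g * x = g * x * g⁻¹ * g := by group
    _ = x * g := by rw [h5]

/-- BSQ E2' core: `odd_centralizes_quat` with the conclusion of E2 as hypothesis. -/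
theorem bsqe2p_core (k : ℕ)
    (hE2 : ∀ φ : MulAut (QuaternionGroup (2 ^ k)), Odd (orderOf φ) → φ = 1)
    (P : Subgroup G) [P.Normal]
    (e : ↥P ≃* QuaternionGroup (2 ^ k)) (g : G) (hg : Odd (orderOf g)) :
    ∀ x ∈ P, g * x = x * g :=
  bsqe2p_abstract hE2 P e g hg

end Cfsg.Agent.Lib.Helper21.BSQ
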