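import Mathlib
import Cfsg.Agent.Lib.Helper21.BSQ.Defs
import Cfsg.Agent.Lib.Helper25.BSQE2pcore
import Cfsg.Agent.Lib.Helper25.BSQE2h25

/-!
# BSQ row E2' (verbatim): elements of odd order centralise a normal subgroup isomorphic to `QuaternionGroup (2 ^ k)`, `k ≥ 2`

`bsqe2p_core` on the second-written E2 (`bsqe2_h25_quat_odd_aut`, exact Skel statement of `quat_odd_aut`).
-/

set_option autoImplicit false

namespace Cfsg.Agent.Lib.Helper21.BSQ

universe u

variable {G : Type u} [Group G]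

/-- E2' [M] (cites E2). -/
theorem odd_centralizes_quat [Finite G] (k : ℕ) (hk : 2 ≤ k) (P : Subgroup G) [P.Normal]
    (e : ↥P ≃* QuaternionGroup (2 ^ k)) (g : G) (hg : Odd (orderOf g)) :
    ∀ x ∈ P, g * x = x * g :=
  bsqe2p_core k (fun φ hφ => bsqe2_h25_quat_odd_aut k hk φ hφ) P e g hg

end Cfsg.Agent.Lib.Helper21.BSQ
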