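import Mathlib
import Cfsg.Agent.Lib.helper23.P4S.DefsC

set_option autoImplicit false

/-!
# P4C row OUT1 (helper25): `outer_sq`.
-/

namespace Cfsg.Agent.Lib.helper23.P4S

open Matrix
open scoped Kronecker

/-- own copy of R4 (entrywise) -/
theorem p4cout1_tau {R : Type} [CommRing R] (φ : R →+* R) (hφ : ∀ x, φ (φ x) = x) (A : Matrix (Fin 2) (Fin 2) R) :
    tauM * rho2M φ A * tauM = rho2M φ (A.map φ) := by
  ext ⟨i, j⟩ ⟨k, l⟩
  fin_cases i <;> fin_cases j <;> fin_cases k <;> fin_cases l <;>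
    simp [tauM, rho2M, Matrix.mul_apply, Fintype.sum_prod_type, hφ, Matrix.kroneckerMap_apply, mul_comm]

/-- `φ (tr M) = tr (M.map φ)` -/
theorem p4cout1_trace_map {R : Type} [CommRing R] (φ : R →+* R) (M : Matrix (Fin 2) (Fin 2) R) :
    φ M.trace = (M.map φ).trace := by
  simp [Matrix.trace]

/-- OUT1 [M]: `Tgl * ρ₂ A * Tgl = ρ₂ (A^φ)` (R4, `Units.ext`, `rho2_coe`, `Matrix.SpecialLinearGroup.map_apply_coe`), `Tgl * Tgl = 1`, `map_mul`.
Trace: `φ (tr (A * A^φ)) = tr (A^φ * (A^φ)^φ) = tr (A^φ * A) = tr (A * A^φ)` (`Matrix.trace_mul_comm`; `φ (tr M) = tr (M.map φ)`: `map_sum`). -/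
theorem outer_sq {R : Type} [CommRing R] (φ : R →+* R) (hφ : ∀ x, φ (φ x) = x) (A : Matrix.SpecialLinearGroup (Fin 2) R) :
    (rho2 φ A * Tgl) * (rho2 φ A * Tgl) = rho2 φ (A * Matrix.SpecialLinearGroup.map φ A) ∧
      φ (A * Matrix.SpecialLinearGroup.map φ A).1.trace = (A * Matrix.SpecialLinearGroup.map φ A).1.trace := by
  have hmm : (A.1.map φ).map φ = A.1 := by
    ext i j
    simp [hφ]
  constructor
  · apply Units.ext
    rw [Units.val_mul, Units.val_mul, rho2_coe, rho2_coe, Tgl_coe]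
    have h1 : (A * Matrix.SpecialLinearGroup.map φ A).1 = A.1 * A.1.map φ := by
      rw [Matrix.SpecialLinearGroup.coe_mul]
      rfl
    rw [h1, rho2M_mul, ← p4cout1_tau φ hφ A.1]
    simp only [Matrix.mul_assoc]
  · have h1 : (A * Matrix.SpecialLinearGroup.map φ A).1 = A.1 * A.1.map φ := by
      rw [Matrix.SpecialLinearGroup.coe_mul]
      rfl
    rw [h1, p4cout1_trace_map, Matrix.map_mul, hmm, Matrix.trace_mul_comm]

end Cfsg.Agent.Lib.helper23.P4S
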