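import Mathlib
import Cfsg.Agent.Lib.helper23.P4S.DefsC

set_option autoImplicit false

/-!
# P4C row R1 (helper25): `rho2M_map`.
-/

namespace Cfsg.Agent.Lib.helper23.P4S

open Matrix
open scoped Kronecker

/-- R1 [S-M]: entrywise: `(A ⊗ₖ B).map f = A.map f ⊗ₖ B.map f` (`Matrix.kroneckerMap_map`, `map_mul`), `(A.map φ).map f = (A.map f).map ψ`. -/
theorem rho2M_map {R S : Type} [CommRing R] [CommRing S] (f : R →+* S) (φ : R →+* R) (ψ : S →+* S)
    (hf : ∀ x, f (φ x) = ψ (f x)) (A : Matrix (Fin 2) (Fin 2) R) :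
    (rho2M φ A).map f = rho2M ψ (A.map f) := by
  ext ⟨i, j⟩ ⟨k, l⟩
  simp [rho2M, Matrix.kroneckerMap_apply, hf]

end Cfsg.Agent.Lib.helper23.P4S
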