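import Mathlib
import Cfsg.Agent.Lib.helper3.SPM.Defs
import Cfsg.Agent.Lib.helper3.SPM.Defs2
import Cfsg.Agent.Lib.Helper24.STCI1
import Cfsg.Agent.Lib.Helper29.SPMA4

/-!
# Project SPM (designer helper3, S2292/S2296), row I4 (helper25), CORE: `xr_ssl`, `xr_ls`, `xr_rel`

`hpair` is the statement of row E7 (`xr_pair`).  On A4 (`Helper29.SPMA4`: `pair_cover pe2_ng sg_pe2`).
-/

set_option autoImplicit false

namespace Cfsg.Agent.Lib.helper3.SPM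

open Cfsg.Agent.Lib.helper3.STC Cfsg.Agent.Lib.helper3.STC.Mat Cfsg.Agent.Lib.helper17.SLP

universe u v w v'

section main
variable {F : Type u} [Field F] {ι : Type w} [Fintype ι] [DecidableEq ι] {G : Type v} [Group G]
  (p : Pts ι) (ν : Equiv.Perm ι →* G) (lam : Sp4 F →* G)

theorem spmi4_ssl_core
    (hpair : ∀ {i j : ι}, i ≠ j → ∀ {a' b' : Fin 2 ⊕ Fin 2}, a' ≠ b' → ∀ t : F,
      lamP p ν lam i j (tm a' b' t) = xr p ν lam (pe2 i j a') (pe2 i j b') t)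
    {a b : ι ⊕ ι} (hab : a ≠ b) (hab' : a ≠ ng b) (t u : F) :
    xr p ν lam a b t * xr p ν lam b (ng a) u * (xr p ν lam a b t)⁻¹ * (xr p ν lam b (ng a) u)⁻¹ =
      xr p ν lam a (ng a) (2 * t * u) := by
  obtain ⟨i, j, hij, a', b', rfl, rfl⟩ := pair_cover p a b
  have h1 : a' ≠ b' := fun h => hab (by rw [h])
  have h2 : a' ≠ ng b' := fun h => hab' (by rw [h, pe2_ng])
  have h3 : b' ≠ ng a' := fun h => h2 (by rw [h, ng_ng])
  rw [← pe2_ng, ← hpair hij h1 t, ← hpair hij h3 u, ← hpair hij (ne_ng a') (2 * t * u),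
    ← map_inv, ← map_inv, ← map_mul, ← map_mul, ← map_mul]
  congr 1
  exact tm_ssl h1 h2 t u

theorem spmi4_ls_core
    (hpair : ∀ {i j : ι}, i ≠ j → ∀ {a' b' : Fin 2 ⊕ Fin 2}, a' ≠ b' → ∀ t : F,
      lamP p ν lam i j (tm a' b' t) = xr p ν lam (pe2 i j a') (pe2 i j b') t)
    {a b : ι ⊕ ι} (hab : a ≠ b) (hab' : a ≠ ng b) (t u : F) :
    xr p ν lam a (ng a) t * xr p ν lam (ng a) b u * (xr p ν lam a (ng a) t)⁻¹ * (xr p ν lam (ng a) b u)⁻¹ =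
      xr p ν lam a b (t * u) * xr p ν lam (ng b) b (sg a * sg b * t * u ^ 2) := by
  obtain ⟨i, j, hij, a', b', rfl, rfl⟩ := pair_cover p a b
  have h1 : a' ≠ b' := fun h => hab (by rw [h])
  have h2 : a' ≠ ng b' := fun h => hab' (by rw [h, pe2_ng])
  have h3 : ng a' ≠ b' := fun h => h2 (by rw [← h, ng_ng])
  rw [sg_pe2, sg_pe2, ← pe2_ng, ← pe2_ng, ← hpair hij (ne_ng a') t, ← hpair hij h3 u, ← hpair hij h1 (t * u),
    ← hpair hij (Cfsg.Agent.Lib.helper3.STC.ng_ne b') (sg a' * sg b' * t * u ^ 2),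
    ← map_inv, ← map_inv, ← map_mul, ← map_mul, ← map_mul, ← map_mul]
  congr 1
  exact tm_ls h1 h2 t u

theorem spmi4_rel_core
    (hpair : ∀ {i j : ι}, i ≠ j → ∀ {a' b' : Fin 2 ⊕ Fin 2}, a' ≠ b' → ∀ t : F,
      lamP p ν lam i j (tm a' b' t) = xr p ν lam (pe2 i j a') (pe2 i j b') t)
    {a b : ι ⊕ ι} (hab : a ≠ b) (t u : F) (ht : t ≠ 0) :
    Cfsg.Agent.Lib.helper15.St2.cj (xr p ν lam a b t * xr p ν lam b a (-t⁻¹) * xr p ν lam a b t) (xr p ν lam a b u) =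
      xr p ν lam b a (-(t⁻¹ ^ 2 * u)) := by
  obtain ⟨i, j, hij, a', b', rfl, rfl⟩ := pair_cover p a b
  have h1 : a' ≠ b' := fun h => hab (by rw [h])
  have hrel := tm_rel (F := F) h1 t u ht
  unfold Cfsg.Agent.Lib.helper15.St2.cj at hrel ⊢
  rw [← hpair hij h1 t, ← hpair hij h1.symm (-t⁻¹), ← hpair hij h1 u, ← hpair hij h1.symm (-(t⁻¹ ^ 2 * u)),
    ← map_mul, ← map_mul, ← map_inv, ← map_mul, ← map_mul, hrel]

end main

end Cfsg.Agent.Lib.helper3.SPM
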