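import Mathlib
import Cfsg.Agent.Lib.helper3.SPM.Defs
import Cfsg.Agent.Lib.helper3.SPM.Defs2
import Cfsg.Agent.Lib.Helper24.STCI1
import Cfsg.Agent.Lib.helper14.SPMI1
import Cfsg.Agent.Lib.Helper12.SPMT2

/-!
# Project SPM (designer helper3, S2292/S2296), row T5 (helper25), CORE: `d3_base`

Hypotheses: `hT3` = the statement of T3 `LB_comm` (for the indices `o0`, `o2`), `hT4` = the statement of T4 `hl_pair` (for `k = o0`, `j = o1`, `a = inl o0`, `b = inl o1`).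
On I2 (`helper14.SPMI1`: `spmi1_xr_zero`) and T2 (`Helper12.SPMT2`: `hr_mem_LB`).  `lam (uA F) = xr (inl o0) (inl o1) 1` is proved directly (`spmt5_uA`).
-/

set_option autoImplicit false

namespace Cfsg.Agent.Lib.helper3.SPM

open Cfsg.Agent.Lib.helper3.STC Cfsg.Agent.Lib.helper3.STC.Mat Cfsg.Agent.Lib.helper17.SLP

universe u v w v'

section main
variable {F : Type u} [Field F] {ι : Type w} [Fintype ι] [DecidableEq ι] {G : Type v} [Group G]
  (p : Pts ι) (ν : Equiv.Perm ι →* G) (lam : Sp4 F →* G)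

omit [Fintype ι] in
theorem spmt5_sig2_base : sig2 p p.o0 p.o1 = 1 := by
  unfold sig2
  rw [Equiv.swap_self, Equiv.refl_apply, Equiv.swap_self]
  rfl

omit [Fintype ι] in
/-- `lam (uA F) = xr (inl o0) (inl o1) 1` -/
theorem spmt5_uA : xr p ν lam (Sum.inl p.o0) (Sum.inl p.o1) (1 : F) = lam (uA F) := by
  have h1 : (Sum.inl p.o0 : ι ⊕ ι) ≠ Sum.inl p.o1 := fun h => p.h01 (Sum.inl.inj h)
  have h2 : ab (Sum.inl p.o0 : ι ⊕ ι) ≠ ab (Sum.inl p.o1 : ι ⊕ ι) := p.h01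
  unfold xr
  rw [if_neg h1, if_neg h2]
  show lamC ν lam (sig2 p p.o0 p.o1) (tm (Sum.inl 0) (Sum.inl 1) 1) = lam (uA F)
  rw [spmt5_sig2_base]
  show ν 1 * lam (uA F) * (ν 1)⁻¹ = lam (uA F)
  rw [map_one, one_mul, inv_one, mul_one]

/-- T5 core -/
theorem spmt5_core [Finite F] (H : Glue p ν lam)
    (hT3 : ∀ {g g' : G}, g ∈ LB p ν lam p.o0 → g' ∈ LB p ν lam p.o2 → Commute g g')
    (hT4 : ∀ {u : F}, u ≠ 0 → ∀ t : F,
      hr p ν lam (Sum.inl p.o0) (Sum.inr p.o0) u * xr p ν lam (Sum.inl p.o0) (Sum.inl p.o1) t *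
          (hr p ν lam (Sum.inl p.o0) (Sum.inr p.o0) u)⁻¹ =
        xr p ν lam (Sum.inl p.o0) (Sum.inl p.o1)
          (dhl (Sum.inl p.o0) u (Sum.inl p.o0) * (dhl (Sum.inl p.o0) u (Sum.inl p.o1))⁻¹ * t))
    (t : F) {g : G} (hg : g ∈ LB p ν lam p.o2) :
    Commute (xr p ν lam (Sum.inl p.o0) (Sum.inl p.o1) t) g := by
  by_cases ht : t = 0
  · subst ht
    rw [spmi1_xr_zero]
    exact Commute.one_left g
  -- the case `t = 1`
  have h1 : Commute (xr p ν lam (Sum.inl p.o0) (Sum.inl p.o1) (1 : F)) g := by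
    rw [spmt5_uA]
    obtain ⟨g₀, hg₀, rfl⟩ := hg
    exact H.d3 g₀ hg₀
  -- conjugate by the torus element
  set hh : G := hr p ν lam (Sum.inl p.o0) (Sum.inr p.o0) t with hhh
  have hmem : hh ∈ LB p ν lam p.o0 := hr_mem_LB p ν lam (Sum.inl p.o0) t
  have hcomm : Commute hh g := hT3 hmem hg
  have hconj := hT4 ht (1 : F)
  have hd1 : dhl (Sum.inl p.o0) t (Sum.inl p.o0 : ι ⊕ ι) = t := by
    unfold dhl
    rw [if_pos rfl]
  have hd2 : dhl (Sum.inl p.o0) t (Sum.inl p.o1 : ι ⊕ ι) = 1 := by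
    unfold dhl
    have e1 : (Sum.inl p.o1 : ι ⊕ ι) ≠ Sum.inl p.o0 := fun h => p.h01 (Sum.inl.inj h).symm
    have e2 : (Sum.inl p.o1 : ι ⊕ ι) ≠ ng (Sum.inl p.o0) := by
      intro h
      cases h
    rw [if_neg e1, if_neg e2]
  rw [hd1, hd2, inv_one, mul_one, mul_one] at hconj
  rw [← hconj]
  -- `hh * x * hh⁻¹` commutes with `g = hh * g * hh⁻¹`
  have hg' : hh * g * hh⁻¹ = g := by
    rw [hcomm.eq, mul_inv_cancel_right]
  have : Commute (hh * xr p ν lam (Sum.inl p.o0) (Sum.inl p.o1) (1 : F) * hh⁻¹) (hh * g * hh⁻¹) := by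
    show _ * _ = _ * _
    have e := h1.eq
    calc hh * xr p ν lam (Sum.inl p.o0) (Sum.inl p.o1) (1 : F) * hh⁻¹ * (hh * g * hh⁻¹)
        = hh * (xr p ν lam (Sum.inl p.o0) (Sum.inl p.o1) (1 : F) * g) * hh⁻¹ := by group
      _ = hh * (g * xr p ν lam (Sum.inl p.o0) (Sum.inl p.o1) (1 : F)) * hh⁻¹ := by rw [e]
      _ = hh * g * hh⁻¹ * (hh * xr p ν lam (Sum.inl p.o0) (Sum.inl p.o1) (1 : F) * hh⁻¹) := by group
  rwa [hg'] at this

end main

end Cfsg.Agent.Lib.helper3.SPM
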