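import Mathlib
import Cfsg.Agent.Lib.helper3.SPM.Defs
import Cfsg.Agent.Lib.helper3.SPM.Defs2

/-!
# Project SPM (designer helper3, S2292/S2296), row Y4 (helper25), VERBATIM: `map_xr` (naturality)
-/

set_option autoImplicit false

namespace Cfsg.Agent.Lib.helper3.SPM

open Cfsg.Agent.Lib.helper3.STC Cfsg.Agent.Lib.helper3.STC.Mat Cfsg.Agent.Lib.helper17.SLP

universe u v w v'

section main
variable {F : Type u} [Field F] {ι : Type w} [Fintype ι] [DecidableEq ι] {G : Type v} [Group G]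
  (p : Pts ι) (ν : Equiv.Perm ι →* G) (lam : Sp4 F →* G)

omit [Fintype ι] in
theorem spmy4_map_lamC {G' : Type v'} [Group G'] (f : G →* G') (σ : Equiv.Perm ι) (g : Sp4 F) :
    f (lamC ν lam σ g) = lamC (f.comp ν) (f.comp lam) σ g := by
  show f (ν σ * lam g * (ν σ)⁻¹) = f (ν σ) * f (lam g) * (f (ν σ))⁻¹
  rw [map_mul, map_mul, map_inv]

/-- Y4 [S-M]  naturality (`xr` unfolds; `lamC` of a composite: `map_mul`, `map_inv`). -/
theorem map_xr {G' : Type v'} [Group G'] (f : G →* G') (a b : ι ⊕ ι) (t : F) :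
    f (xr p ν lam a b t) = xr p (f.comp ν) (f.comp lam) a b t := by
  unfold xr
  split_ifs with h1 h2
  · exact map_one f
  · exact spmy4_map_lamC ν lam f _ _
  · exact spmy4_map_lamC ν lam f _ _

end main

end Cfsg.Agent.Lib.helper3.SPM
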