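import Mathlib
import Cfsg.Agent.Lib.Helper28.CD3.Defs
import Cfsg.Agent.S4493
import Cfsg.Agent.S4456

/-!
# CD3 piece QDIV, core: `q` divides exactly one of `m`, `n` (with the conclusions of the pieces BFAB
and BTOP as hypotheses).
-/

set_option autoImplicit false
open scoped commutatorElement

namespace Cfsg.Agent.Lib.Helper28.CD3

universe u

section partB
variable {G : Type u} [Group G] [Finite G]

/-- a normal `q`-subgroup of index prime to `q` contains every `q`-subgroup -/
theorem cd3qdiv_le_normal_sylow {q : ℕ} (hq : q.Prime) (P F : Subgroup G) (hPn : P.Normal)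
    (hPq : IsPGroup q P) (hPidx : ¬ q ∣ P.index) (hFq : IsPGroup q F) : F ≤ P := by
  haveI := Fact.mk hq
  obtain ⟨Q, hFQ⟩ := hFq.exists_le_sylow
  obtain ⟨x, hx⟩ := MulAction.exists_smul_eq G (hPq.toSylow hPidx) Q
  have hn : ((hPq.toSylow hPidx : Sylow q G) : Subgroup G).Normal := by
    rw [IsPGroup.toSylow_coe]
    exact hPn
  rw [Sylow.smul_eq_of_normal] at hx
  intro y hy
  have h1 : y ∈ (Q : Subgroup G) := hFQ hy
  rw [← hx] at h1
  exact (IsPGroup.mem_toSylow hPq hPidx).mp h1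

/-- QDIV, core -/
theorem cd3qdiv_core {m n q : ℕ} {F : Subgroup G} (h : BData G m n q F)
    (hBFAB : ¬ ∀ x ∈ F, ∀ y ∈ F, x * y = y * x) (hBTOP : F ≠ ⊤) :
    (q ∣ m ∧ ¬ q ∣ n) ∨ (¬ q ∣ m ∧ q ∣ n) := by
  have hmem : ∀ χ : Cfsg.IrrCharacter G, Cfsg.charDegree (χ : G → ℂ) = 1 ∨
      Cfsg.charDegree (χ : G → ℂ) = m ∨ Cfsg.charDegree (χ : G → ℂ) = n := by
    intro χ
    have h1 : Cfsg.charDegree (χ : G → ℂ) ∈ Cfsg.charDegrees G := ⟨χ, rfl⟩
    rw [h.hce.hcd] at h1
    simpa using h1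
  by_cases hm : q ∣ m <;> by_cases hn : q ∣ n
  · -- both: Thompson gives a normal `q`-complement, which is trivial
    exfalso
    obtain ⟨N, hNn, hcop, k, hk⟩ := Cfsg.Agent.S4456.result (G := G) q h.hq (by
      intro χ hχ
      rcases hmem χ with h1 | h1 | h1
      · exact absurd h1 hχ
      · rw [h1]; exact hm
      · rw [h1]; exact hn)
    have hN1 : N = ⊥ := h.hq' N hNn hcop
    have hcard : Nat.card G = q ^ k := by
      rw [← N.card_mul_index, hk, hN1, Subgroup.card_bot, one_mul]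
    have hG : IsPGroup q (⊤ : Subgroup G) := by
      apply IsPGroup.of_card (n := k)
      rw [Subgroup.card_top, hcard]
    have h2 : (⊤ : Subgroup G) ≤ F := h.hFmax ⊤ inferInstance hG
    exact hBTOP (top_le_iff.mp h2)
  · left; exact ⟨hm, hn⟩
  · right; exact ⟨hm, hn⟩
  · -- neither: Ito gives a normal abelian Sylow `q`-subgroup, which is `F`
    exfalso
    obtain ⟨P, hPn, hPab, hPq, hPidx⟩ :=
      (Cfsg.Agent.S4493.result (G := G) h.hs q h.hq).mpr (by
        intro χ hd
        rcases hmem χ with h1 | h1 | h1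
        · rw [h1] at hd
          exact h.hq.one_lt.ne' (Nat.dvd_one.mp hd)
        · rw [h1] at hd; exact hm hd
        · rw [h1] at hd; exact hn hd)
    have hFP : F ≤ P := cd3qdiv_le_normal_sylow h.hq P F hPn hPq hPidx h.hFq
    apply hBFAB
    intro x hx y hy
    exact hPab x (hFP hx) y (hFP hy)

end partB

end Cfsg.Agent.Lib.Helper28.CD3
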