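import Mathlib
import Cfsg.Agent.Lib.Helper28.CD3.Defs
import Cfsg.Agent.Lib.Helper25.CD3QDIVcore
import Cfsg.Agent.Lib.Helper16.CD3BTOP
import Cfsg.Agent.Lib.Helper19.CD3BFAB

/-!
# CD3 piece QDIV: `q` divides exactly one of `m`, `n`.
-/

set_option autoImplicit false
open scoped commutatorElement

namespace Cfsg.Agent.Lib.Helper28.CD3

universe u

section partB
variable {G : Type u} [Group G] [Finite G]

-- piece QDIV (uses Cfsg.Agent.S4493.result = Ito, Cfsg.Agent.S4456.result = Thompson)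
theorem q_dvd_one {m n q : ℕ} {F : Subgroup G} (h : BData G m n q F) :
    (q ∣ m ∧ ¬ q ∣ n) ∨ (¬ q ∣ m ∧ q ∣ n) :=
  cd3qdiv_core h (F_not_abelian h) (F_ne_top h)

end partB

end Cfsg.Agent.Lib.Helper28.CD3
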