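import Mathlib
import Cfsg.Agent.Lib.helper7.CED.Defs
import Cfsg.Agent.Lib.Helper24.CECM3

/-!
# Project CED (designer helper7; S2096 + S2097), row M7 (helper25), VERBATIM: `I5_fin` (model CEC M3, `Helper24.CECM3`)
-/

set_option autoImplicit false

namespace Cfsg.Agent.Lib.helper7.CED

open Cfsg.Agent.Lib.helper15.St2 Cfsg.Agent.Lib.helper7.Ce Cfsg.Agent.Lib.helper3.STC Cfsg.Agent.Lib.Lead.STD
  Cfsg.Agent.Lib.helper7.CEC

/-- M7 [S-M]  the index conditions for `Fin l`. -/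
theorem I5_fin {l : ℕ} (hl : 5 ≤ l) : I5 (Fin l) := by
  intro a b c d
  obtain ⟨i, hi⟩ := cecm3_exists ({ab a, ab b, ab c, ab d} : Finset (Fin l))
    (lt_of_le_of_lt Finset.card_le_four (by omega))
  refine ⟨Sum.inl i, ?_⟩
  rw [cecm3_ab_inl]
  simpa using hi

end Cfsg.Agent.Lib.helper7.CED
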