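import Mathlib
import Cfsg.Agent.Lib.Helper28.IPB.Defs
import Cfsg.Agent.Lib.helper7.BlockDefect2
import Cfsg.Agent.Lib.helper7.CharCentral
import Cfsg.Agent.Lib.Helper16.CD3KER
import Cfsg.Agent.Lib.helper23.CD3OVERQ
import Cfsg.Agent.Lib.Helper25.CharAbelian
import Cfsg.Agent.Lib.Helper25.ExtraspecialUnique

/-!
# Project IPB (S4463), piece A1: a `p`-group all of whose proper quotients are abelian has a fully ramified
character (Isaacs 12.3(a))
-/

set_option autoImplicit false
open scoped commutatorElement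

namespace Cfsg.Agent.Lib.Helper28.IPB

universe u

-- piece A1 (abstract `p`-group, Isaacs 12.3(a))
theorem pgroup_ramified (X : Type u) [Group X] [Finite X] (p : ℕ) (hp : p.Prime)
    (hX : IsPGroup p X) (hna : commutator X ≠ ⊥)
    (hq : ∀ N : Subgroup X, N.Normal → N ≠ ⊥ → commutator X ≤ N) :
    ∃ ψ : Cfsg.IrrCharacter X, (∀ x : X, x ∉ Subgroup.center X → (ψ : X → ℂ) x = 0) ∧
      (Subgroup.center X).index = Cfsg.charDegree (ψ : X → ℂ) ^ 2 ∧
      1 < Cfsg.charDegree (ψ : X → ℂ) := by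
  classical
  haveI : Fintype X := Fintype.ofFinite X
  haveI : Fact p.Prime := ⟨hp⟩
  haveI : Nontrivial X := by
    by_contra hnt
    rw [not_nontrivial_iff_subsingleton] at hnt
    exact hna (Subgroup.eq_bot_of_subsingleton _)
  have hZ : Subgroup.center X ≠ ⊥ := by
    haveI := IsPGroup.center_nontrivial hX
    exact (Subgroup.nontrivial_iff_ne_bot _).mp inferInstance
  have hcomm : commutator X ≤ Subgroup.center X := hq _ inferInstance hZ
  -- a nonlinear irreducible character
  have hnb : ¬ commutator X ≤ (⊥ : Subgroup X) := fun h => hna (le_bot_iff.mp h)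
  obtain ⟨d, ⟨ψ, -, hψd⟩, hd1⟩ := Cfsg.Agent.Lib.Helper28.CD3.exists_nonlinear_over (⊥ : Subgroup X) hnb
  have hdeg1 : 1 < Cfsg.charDegree (ψ : X → ℂ) := by rw [hψd]; exact hd1
  have hψp := Cfsg.Agent.Lib.helper7.h7_charDegree_props ψ
  -- `ψ` is faithful
  have hfaith : ∀ x : X, (ψ : X → ℂ) x = (ψ : X → ℂ) 1 → x = 1 := by
    obtain ⟨K, hKn, hKmem⟩ := Cfsg.Agent.Lib.Helper28.CD3.ker_normal ψ
    have hKbot : K = ⊥ := by
      by_contra hK
      have hle := hq K hKn hK
      have := Cfsg.Agent.Lib.Helper28.CD3.linear_of_commutator_le_ker ψ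
        (fun g hg => (hKmem g).mp (hle hg))
      omega
    intro x hx
    have : x ∈ K := (hKmem x).mpr hx
    rw [hKbot, Subgroup.mem_bot] at this
    exact this
  -- vanishing off the centre
  have hvan : ∀ x : X, x ∉ Subgroup.center X → (ψ : X → ℂ) x = 0 := by
    intro g hg
    rw [Subgroup.mem_center_iff] at hg
    push Not at hg
    obtain ⟨h, hh⟩ := hg
    -- `hh : h * g ≠ g * h`
    set z : X := ⁅g, h⁆ with hz
    have hz1 : z ≠ 1 := by
      intro h1
      rw [hz, commutatorElement_eq_one_iff_mul_comm] at h1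
      exact hh h1.symm
    have hzc : z ∈ Subgroup.center X :=
      hcomm (Subgroup.commutator_mem_commutator (Subgroup.mem_top g) (Subgroup.mem_top h))
    obtain ⟨c, hc⟩ := Cfsg.Agent.Lib.helper7.h7_central_char ψ.2 z hzc
    have hc1 : c ≠ 1 := by
      intro h1
      apply hz1
      apply hfaith
      have := hc 1
      rw [mul_one, h1, one_mul] at this
      exact this
    have hg' : g = z * (h * g * h⁻¹) := by
      rw [hz, commutatorElement_def]; group
    have hcl : (ψ : X → ℂ) (h * g * h⁻¹) = (ψ : X → ℂ) g :=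
      Cfsg.Agent.Lib.helper7.h7_irr_isClassFunction ψ.2 g h
    have h2 : (ψ : X → ℂ) g = c * (ψ : X → ℂ) g := by
      conv_lhs => rw [hg']
      rw [hc, hcl]
    have h3 : (1 - c) * (ψ : X → ℂ) g = 0 := by linear_combination h2
    rcases mul_eq_zero.mp h3 with h4 | h4
    · exact absurd (by linear_combination -h4 : c = 1) hc1
    · exact h4
  refine ⟨ψ, hvan, ?_, hdeg1⟩
  -- counting
  have hsum := Cfsg.Agent.Lib.Helper25.irr_sum_norm_sq ψ
  have hnorm1 : ‖(ψ : X → ℂ) 1‖ = (Cfsg.charDegree (ψ : X → ℂ) : ℝ) := by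
    rw [← hψp.2.2]
    simp
  have hterm : ∀ x : X, ‖(ψ : X → ℂ) x‖ ^ 2 =
      if x ∈ Subgroup.center X then (Cfsg.charDegree (ψ : X → ℂ) : ℝ) ^ 2 else 0 := by
    intro x
    split_ifs with hx
    · rw [Cfsg.Agent.Lib.Helper25.xs_center_norm ψ x hx, hnorm1]
    · rw [hvan x hx]; simp
  rw [Finset.sum_congr rfl (fun x _ => hterm x), Finset.sum_ite, Finset.sum_const,
    Finset.sum_const_zero, add_zero, nsmul_eq_mul] at hsum
  have hcardZ : (Finset.univ.filter (fun x : X => x ∈ Subgroup.center X)).card =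
      Nat.card ↥(Subgroup.center X) := by
    rw [Nat.card_eq_fintype_card, Fintype.card_subtype]
  rw [hcardZ] at hsum
  have hnat : Nat.card ↥(Subgroup.center X) * Cfsg.charDegree (ψ : X → ℂ) ^ 2 = Nat.card X := by
    exact_mod_cast hsum
  have hidx := Subgroup.card_mul_index (Subgroup.center X)
  have hZpos : 0 < Nat.card ↥(Subgroup.center X) := Nat.card_pos
  have : Nat.card ↥(Subgroup.center X) * (Subgroup.center X).index =
      Nat.card ↥(Subgroup.center X) * Cfsg.charDegree (ψ : X → ℂ) ^ 2 := by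
    rw [hidx, hnat]
  exact Nat.eq_of_mul_eq_mul_left hZpos this

end Cfsg.Agent.Lib.Helper28.IPB
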