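import Mathlib
import Cfsg.Agent.Lib.Helper28.IPB.Defs
import Cfsg.Agent.Lib.helper7.BlockDefect2
import Cfsg.Agent.Lib.helper7.CharMul
import Cfsg.Agent.Lib.helper2.CharNat
import Cfsg.Agent.Lib.Helper25.CharAbelian
import Cfsg.Agent.Lib.Helper25.CharBound

/-!
# Project IPB (S4463), piece A2, core (T0 and T1 as hypotheses)
-/

set_option autoImplicit false
open scoped commutatorElement ComplexConjugate

namespace Cfsg.Agent.Lib.Helper28.IPB

universe u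

section caseA
variable {G : Type u} [Group G]

/-- A2, core -/
theorem ipba2_core [Finite G] {b : ℕ} (hG : DegLe G b) (Z : Subgroup G)
    (ψ : Cfsg.IrrCharacter G) (hv : ∀ g : G, g ∉ Z → (ψ : G → ℂ) g = 0)
    (hidx : Z.index = Cfsg.charDegree (ψ : G → ℂ) ^ 2)
    (h1 : 1 < Cfsg.charDegree (ψ : G → ℂ))
    (hT0 : DegLe Z b)
    (hT1 : ∀ θ : Cfsg.IrrCharacter Z, Cfsg.charDegree (θ : Z → ℂ) = b →
      ∃ χ : Cfsg.IrrCharacter G, ∀ h : Z, (χ : G → ℂ) h = (θ : Z → ℂ) h) :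
    DegLe Z (b - 1) := by
  classical
  haveI : Fintype G := Fintype.ofFinite G
  haveI : Fintype Z := Fintype.ofFinite Z
  haveI : Fintype (Cfsg.IrrCharacter G) := Fintype.ofFinite _
  intro θ
  by_contra hcon
  have hθp := Cfsg.Agent.Lib.helper7.h7_charDegree_props θ
  have hθb : Cfsg.charDegree (θ : Z → ℂ) = b := by
    have := hT0 θ
    have := hθp.2.1
    omega
  have hb1 : 1 ≤ b := by have := hθp.2.1; omega
  obtain ⟨χ, hχ⟩ := hT1 θ hθb
  have hχp := Cfsg.Agent.Lib.helper7.h7_charDegree_props χ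
  have hψp := Cfsg.Agent.Lib.helper7.h7_charDegree_props ψ
  set d := Cfsg.charDegree (ψ : G → ℂ) with hd
  -- `χ(1) = b`
  have hχ1 : (χ : G → ℂ) 1 = (b : ℂ) := by
    have := hχ 1
    rw [Subgroup.coe_one] at this
    rw [this, ← hθp.2.2, hθb]
  -- the product character
  set Ψ : G → ℂ := (χ : G → ℂ) * (ψ : G → ℂ) with hΨdef
  have hΨ : Cfsg.IsCharacter G Ψ := Cfsg.Agent.Lib.helper7.h7_isCharacter_mul
    (Cfsg.Agent.Lib.helper2.isCharacter_of_irr χ) (Cfsg.Agent.Lib.helper2.isCharacter_of_irr ψ)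
  obtain ⟨m, hm, hexp⟩ := Cfsg.Agent.Lib.helper2.isCharacter_expansion hΨ
  have hcf : ∀ g h : G, Ψ (h * g * h⁻¹) = Ψ g :=
    Cfsg.Agent.Lib.helper2.isCharacter_isClassFunction hΨ
  have hpars := Cfsg.Agent.Lib.Helper25.classInner_parseval Ψ hcf
  -- the norm as a natural number
  have hM : Cfsg.classInner Ψ Ψ = ((∑ μ : Cfsg.IrrCharacter G, m μ ^ 2 : ℕ) : ℂ) := by
    rw [hpars]
    push_cast
    apply Finset.sum_congr rfl
    intro μ _
    rw [hm μ, Complex.conj_natCast]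
    ring
  -- the norm as a real number
  set R : ℝ := ∑ g : G, ‖(χ : G → ℂ) g‖ ^ 2 * ‖(ψ : G → ℂ) g‖ ^ 2 with hR
  have hS : Cfsg.classInner Ψ Ψ = ((R / (Nat.card G : ℝ) : ℝ) : ℂ) := by
    unfold Cfsg.classInner
    have : ∑ g : G, Ψ g * conj (Ψ g) = ((R : ℝ) : ℂ) := by
      rw [hR]
      push_cast
      apply Finset.sum_congr rfl
      intro g _
      rw [hΨdef, Pi.mul_apply, Complex.mul_conj, Complex.normSq_eq_norm_sq, norm_mul]
      push_cast
      ring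
    rw [this]
    push_cast
    field_simp
  -- the bound
  have hnorm1 : ‖(ψ : G → ℂ) 1‖ = (d : ℝ) := by
    rw [← hψp.2.2]
    simp
  have hle : R ≤ (d : ℝ) ^ 2 * (Nat.card Z : ℝ) := by
    have h2 : ∀ g : G, ‖(χ : G → ℂ) g‖ ^ 2 * ‖(ψ : G → ℂ) g‖ ^ 2 ≤
        if g ∈ Z then ‖(χ : G → ℂ) g‖ ^ 2 * (d : ℝ) ^ 2 else 0 := by
      intro g
      split_ifs with hg
      · have h3 := Cfsg.Agent.Lib.Helper25.irr_norm_le ψ g
        rw [hnorm1] at h3
        have h4 : ‖(ψ : G → ℂ) g‖ ^ 2 ≤ (d : ℝ) ^ 2 :=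
          pow_le_pow_left₀ (norm_nonneg _) h3 2
        exact mul_le_mul_of_nonneg_left h4 (by positivity)
      · rw [hv g hg]; simp
    have h5 : ∑ g : G, (if g ∈ Z then ‖(χ : G → ℂ) g‖ ^ 2 * (d : ℝ) ^ 2 else 0) =
        ∑ z : Z, ‖(θ : Z → ℂ) z‖ ^ 2 * (d : ℝ) ^ 2 := by
      rw [← Finset.sum_filter]
      rw [Finset.sum_subtype (Finset.univ.filter (fun g : G => g ∈ Z))
        (p := fun g : G => g ∈ Z) (by intro x; simp)
        (fun g => ‖(χ : G → ℂ) g‖ ^ 2 * (d : ℝ) ^ 2)]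
      apply Finset.sum_congr rfl
      intro z _
      rw [hχ z]
    have h6 := Cfsg.Agent.Lib.Helper25.irr_sum_norm_sq θ
    calc R ≤ ∑ g : G, (if g ∈ Z then ‖(χ : G → ℂ) g‖ ^ 2 * (d : ℝ) ^ 2 else 0) :=
          Finset.sum_le_sum (fun g _ => h2 g)
      _ = ∑ z : Z, ‖(θ : Z → ℂ) z‖ ^ 2 * (d : ℝ) ^ 2 := h5
      _ = (d : ℝ) ^ 2 * (Nat.card Z : ℝ) := by rw [← Finset.sum_mul, h6]; ring
  have hcard : (Nat.card G : ℝ) = (Nat.card Z : ℝ) * (d : ℝ) ^ 2 := by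
    have := Subgroup.card_mul_index Z
    rw [hidx] at this
    exact_mod_cast this.symm
  have hGpos : (0 : ℝ) < (Nat.card G : ℝ) := by exact_mod_cast Nat.card_pos
  have hMle : (∑ μ : Cfsg.IrrCharacter G, m μ ^ 2) ≤ 1 := by
    have h7 : ((∑ μ : Cfsg.IrrCharacter G, m μ ^ 2 : ℕ) : ℂ) = ((R / (Nat.card G : ℝ) : ℝ) : ℂ) := by
      rw [← hM, hS]
    have h8 : ((∑ μ : Cfsg.IrrCharacter G, m μ ^ 2 : ℕ) : ℝ) = R / (Nat.card G : ℝ) := by
      exact_mod_cast h7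
    have h9 : R / (Nat.card G : ℝ) ≤ 1 := by
      rw [div_le_one hGpos, hcard]
      linarith
    have : ((∑ μ : Cfsg.IrrCharacter G, m μ ^ 2 : ℕ) : ℝ) ≤ 1 := by rw [h8]; exact h9
    exact_mod_cast this
  -- the degree
  have hdegΨ : b * d = ∑ μ : Cfsg.IrrCharacter G, m μ * Cfsg.charDegree (μ : G → ℂ) := by
    have h10 := congrFun hexp 1
    rw [Finset.sum_apply] at h10
    simp only [Pi.smul_apply, smul_eq_mul] at h10
    have h11 : Ψ 1 = ((b * d : ℕ) : ℂ) := by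
      rw [hΨdef, Pi.mul_apply, hχ1, ← hψp.2.2]
      push_cast
      ring
    have h12 : ∑ μ : Cfsg.IrrCharacter G, (m μ : ℂ) * (μ : G → ℂ) 1 =
        ((∑ μ : Cfsg.IrrCharacter G, m μ * Cfsg.charDegree (μ : G → ℂ) : ℕ) : ℂ) := by
      push_cast
      apply Finset.sum_congr rfl
      intro μ _
      rw [(Cfsg.Agent.Lib.helper7.h7_charDegree_props μ).2.2]
    rw [h11, h12] at h10
    exact_mod_cast h10
  have hbound : ∑ μ : Cfsg.IrrCharacter G, m μ * Cfsg.charDegree (μ : G → ℂ) ≤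
      (∑ μ : Cfsg.IrrCharacter G, m μ ^ 2) * b := by
    rw [Finset.sum_mul]
    apply Finset.sum_le_sum
    intro μ _
    have h13 := hG μ
    calc m μ * Cfsg.charDegree (μ : G → ℂ) ≤ m μ * b := Nat.mul_le_mul_left _ h13
      _ ≤ m μ ^ 2 * b := by
          apply Nat.mul_le_mul_right
          rw [pow_two]
          exact Nat.le_mul_self _
  have hfin : b * d ≤ b := by
    rw [hdegΨ]
    calc _ ≤ (∑ μ : Cfsg.IrrCharacter G, m μ ^ 2) * b := hbound
      _ ≤ 1 * b := Nat.mul_le_mul_right _ hMle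
      _ = b := one_mul b
  have : b * 2 ≤ b * d := Nat.mul_le_mul_left _ h1
  omega

end caseA

end Cfsg.Agent.Lib.Helper28.IPB
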