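import Mathlib
import Cfsg.Agent.Lib.Helper28.IPB.Defs
import Cfsg.Agent.Lib.Helper28.IPB.Tools
import Cfsg.Agent.Lib.Helper25.IPBA2core

/-!
# Project IPB (S4463), piece A2
-/

set_option autoImplicit false
open scoped commutatorElement ComplexConjugate

namespace Cfsg.Agent.Lib.Helper28.IPB

universe u

section caseA
variable {G : Type u} [Group G]

-- piece A2
theorem degLt_of_ramified [Finite G] {b : ℕ} (hG : DegLe G b) (Z : Subgroup G)
    (ψ : Cfsg.IrrCharacter G) (hv : ∀ g : G, g ∉ Z → (ψ : G → ℂ) g = 0)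
    (hidx : Z.index = Cfsg.charDegree (ψ : G → ℂ) ^ 2)
    (h1 : 1 < Cfsg.charDegree (ψ : G → ℂ)) : DegLe Z (b - 1) := by
  classical
  haveI : Fintype G := Fintype.ofFinite G
  refine ipba2_core hG Z ψ hv hidx h1 (degLe_sub hG Z) ?_
  intro θ hθ
  have hb : 0 < b := by
    have := (Cfsg.Agent.Lib.helper7.h7_charDegree_props θ).2.1
    omega
  exact (ext_of_max hb hG Z θ hθ).1

end caseA

end Cfsg.Agent.Lib.Helper28.IPB
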