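import Mathlib
import Cfsg.Agent.Lib.Helper21.Zipper

/-!
Flavell's generalized zipper lemma (S3947): if A < G has normal closure G, then either G is generated by the proper subgroups H ≥ A with H = A^H, or A lies in a unique maximal subgroup. Main results: fz_main, fz_zipper. Tools: fzNcl (relative normal closure inside G), fz_sn_or_perfect, fz_eq_of_sn_of_perfect, FzData (maximal counterexample data), fzL6 (two distinct conjugates whose join lies in two coatoms normalize each other), fz_min_term (penultimate normal closure term), fz_contra.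
-/

set_option autoImplicit false

namespace Cfsg.Agent.Lib.Helper25
open scoped Pointwise
section

variable {G : Type*} [Group G]

/-- the normal closure of `B` under conjugation by elements of `H`, as a subgroup of `G` -/
def fzNcl (B H : Subgroup G) : Subgroup G :=
  Subgroup.closure {y | ∃ h ∈ H, ∃ b ∈ B, y = h * b * h⁻¹}

theorem le_fzNcl (B H : Subgroup G) : B ≤ fzNcl B H := by
  intro b hb
  exact Subgroup.subset_closure ⟨1, one_mem _, b, hb, by simp⟩

theorem fzNcl_le {B H : Subgroup G} (hBH : B ≤ H) : fzNcl B H ≤ H := by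
  unfold fzNcl
  rw [Subgroup.closure_le]
  rintro _ ⟨h, hh, b, hb, rfl⟩
  exact H.mul_mem (H.mul_mem hh (hBH hb)) (H.inv_mem hh)

theorem fzNcl_mono {B B' H H' : Subgroup G} (hB : B ≤ B') (hH : H ≤ H') :
    fzNcl B H ≤ fzNcl B' H' := by
  unfold fzNcl
  apply Subgroup.closure_mono
  rintro _ ⟨h, hh, b, hb, rfl⟩
  exact ⟨h, hH hh, b, hB hb, rfl⟩

theorem fzNcl_conj_mem {B H : Subgroup G} {h y : G} (hh : h ∈ H) (hy : y ∈ fzNcl B H) :
    h * y * h⁻¹ ∈ fzNcl B H := by
  unfold fzNcl at hy ⊢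
  refine Cfsg.Agent.Lib.Helper20.conj_mem_closure ?_ hy
  rintro _ ⟨k, hk, b, hb, rfl⟩
  refine Subgroup.subset_closure ⟨h * k, H.mul_mem hh hk, b, hb, ?_⟩
  simp [mul_assoc]

/-- if `N` contains `B` and is normalized by `H`, it contains `fzNcl B H` -/
theorem fzNcl_le_of_conj_mem {B H N : Subgroup G} (hBN : B ≤ N)
    (hN : ∀ h ∈ H, ∀ n ∈ N, h * n * h⁻¹ ∈ N) : fzNcl B H ≤ N := by
  unfold fzNcl
  rw [Subgroup.closure_le]
  rintro _ ⟨h, hh, b, hb, rfl⟩
  exact hN h hh b (hBN hb)

theorem fzNcl_top_eq (B : Subgroup G) : fzNcl B ⊤ = Subgroup.normalClosure (B : Set G) := by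
  apply le_antisymm
  · apply fzNcl_le_of_conj_mem Subgroup.le_normalClosure
    intro h _ n hn
    exact Subgroup.normalClosure_normal.conj_mem n hn h
  · have hn : (fzNcl B ⊤).Normal := by
      constructor
      intro n hn g
      exact fzNcl_conj_mem (Subgroup.mem_top g) hn
    exact Subgroup.normalClosure_le_normal (N := fzNcl B ⊤) (le_fzNcl B ⊤)

theorem fzNcl_top_normal (B : Subgroup G) : (fzNcl B ⊤).Normal := by
  rw [fzNcl_top_eq]; exact Subgroup.normalClosure_normal

theorem mem_conj_smul_iff {H : Subgroup G} {g y : G} :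
    y ∈ MulAut.conj g • H ↔ g⁻¹ * y * g ∈ H := by
  rw [Subgroup.mem_pointwise_smul_iff_inv_smul_mem]
  have : (MulAut.conj g)⁻¹ • y = g⁻¹ * y * g := by
    rw [← map_inv]; simp [MulAut.smul_def]
  rw [this]

theorem conj_mem_conj_smul {H : Subgroup G} {g y : G} (hy : y ∈ H) :
    g * y * g⁻¹ ∈ MulAut.conj g • H := by
  rw [mem_conj_smul_iff]
  have : g⁻¹ * (g * y * g⁻¹) * g = y := by group
  rw [this]; exact hy

theorem conj_smul_smul (q g : G) (A : Subgroup G) :
    MulAut.conj q • MulAut.conj g • A = MulAut.conj (q * g) • A := by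
  rw [smul_smul, ← map_mul]

theorem conj_one_smul (A : Subgroup G) : MulAut.conj (1 : G) • A = A := by
  rw [map_one, one_smul]

theorem conj_inv_smul_smul (g : G) (A : Subgroup G) :
    MulAut.conj g⁻¹ • MulAut.conj g • A = A := by
  rw [conj_smul_smul, inv_mul_cancel, conj_one_smul]

theorem conj_smul_inv_smul (g : G) (A : Subgroup G) :
    MulAut.conj g • MulAut.conj g⁻¹ • A = A := by
  rw [conj_smul_smul, mul_inv_cancel, conj_one_smul]

theorem conj_smul_le_iff (g : G) (A B : Subgroup G) :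
    MulAut.conj g • A ≤ B ↔ A ≤ MulAut.conj g⁻¹ • B := by
  constructor
  · intro h
    have := Subgroup.pointwise_smul_le_pointwise_smul_iff (a := MulAut.conj g⁻¹) |>.mpr h
    rwa [conj_inv_smul_smul] at this
  · intro h
    have := Subgroup.pointwise_smul_le_pointwise_smul_iff (a := MulAut.conj g) |>.mpr h
    rwa [conj_smul_inv_smul] at this

theorem conj_smul_mono (g : G) {A B : Subgroup G} (h : A ≤ B) :
    MulAut.conj g • A ≤ MulAut.conj g • B :=
  Subgroup.pointwise_smul_le_pointwise_smul_iff.mpr h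

theorem conj_smul_top (g : G) : MulAut.conj g • (⊤ : Subgroup G) = ⊤ := by
  rw [eq_top_iff]
  intro y _
  rw [mem_conj_smul_iff]; exact Subgroup.mem_top _

theorem fzNcl_conj (g : G) (B H : Subgroup G) :
    MulAut.conj g • fzNcl B H = fzNcl (MulAut.conj g • B) (MulAut.conj g • H) := by
  have key : ∀ (g : G) (B H : Subgroup G),
      MulAut.conj g • fzNcl B H ≤ fzNcl (MulAut.conj g • B) (MulAut.conj g • H) := by
    intro g B H
    rw [conj_smul_le_iff]
    unfold fzNcl
    rw [Subgroup.closure_le]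
    rintro _ ⟨h, hh, b, hb, rfl⟩
    show _ ∈ MulAut.conj g⁻¹ • fzNcl (MulAut.conj g • B) (MulAut.conj g • H)
    rw [mem_conj_smul_iff]
    unfold fzNcl
    refine Subgroup.subset_closure ⟨g * h * g⁻¹, conj_mem_conj_smul hh, g * b * g⁻¹,
      conj_mem_conj_smul hb, ?_⟩
    group
  apply le_antisymm (key g B H)
  have h2 := key g⁻¹ (MulAut.conj g • B) (MulAut.conj g • H)
  rw [conj_inv_smul_smul, conj_inv_smul_smul] at h2
  have h3 := conj_smul_mono g h2
  rwa [conj_smul_inv_smul] at h3

end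

section

variable {G : Type*} [Group G]

/-- restriction of relative subnormality to an intermediate subgroup -/
theorem fz_sn_restrict {B U X : Subgroup G} (hUX : U ≤ X)
    (hs : (B.subgroupOf X).IsSubnormal) : (B.subgroupOf U).IsSubnormal := by
  have h1 := hs.comap (Subgroup.inclusion hUX)
  have h2 : (B.subgroupOf X).comap (Subgroup.inclusion hUX) = B.subgroupOf U := by
    ext ⟨y, hy⟩
    simp [Subgroup.mem_subgroupOf]
  rwa [h2] at h1

/-- transitivity of relative subnormality through a relatively subnormal subgroup -/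
theorem fz_sn_trans {B X1 X : Subgroup G} (h1 : B ≤ X1) (h2 : X1 ≤ X)
    (hs1 : (B.subgroupOf X1).IsSubnormal) (hs2 : (X1.subgroupOf X).IsSubnormal) :
    (B.subgroupOf X).IsSubnormal := by
  have hle : B.subgroupOf X ≤ X1.subgroupOf X := by
    intro y hy
    exact h1 hy
  refine Subgroup.IsSubnormal.trans hle ?_ hs2
  have h3 := hs1.comap (Subgroup.subgroupOfEquivOfLe h2).toMonoidHom
  have h4 : (B.subgroupOf X1).comap (Subgroup.subgroupOfEquivOfLe h2).toMonoidHom
      = (B.subgroupOf X).subgroupOf (X1.subgroupOf X) := by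
    ext ⟨⟨y, hyX⟩, hy⟩
    simp [Subgroup.mem_subgroupOf]
  rwa [h4] at h3

/-- F-b: a relatively subnormal subgroup which normally generates an intermediate subgroup
equals it -/
theorem fz_eq_of_sn_of_perfect {B H X : Subgroup G} (hBH : B ≤ H) (hHX : H ≤ X)
    (hs : (B.subgroupOf X).IsSubnormal) (hp : fzNcl B H = H) : H = B := by
  by_contra hne
  have hsH : (B.subgroupOf H).IsSubnormal := fz_sn_restrict hHX hs
  have hnt : B.subgroupOf H ≠ ⊤ := by
    intro h
    apply hne
    apply le_antisymm _ hBH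
    intro y hy
    have : (⟨y, hy⟩ : H) ∈ B.subgroupOf H := by rw [h]; exact Subgroup.mem_top _
    exact this
  obtain ⟨N, hNn, hBN, hNlt⟩ := hsH.exists_normal_and_le_and_lt_top_of_ne hnt
  apply hNlt.ne
  rw [eq_top_iff]
  have h1 : fzNcl B H ≤ N.map H.subtype := by
    apply fzNcl_le_of_conj_mem
    · intro b hb
      exact ⟨⟨b, hBH hb⟩, hBN hb, rfl⟩
    · rintro h hh _ ⟨n, hn, rfl⟩
      exact ⟨⟨h, hh⟩ * n * ⟨h, hh⟩⁻¹, hNn.conj_mem n hn ⟨h, hh⟩, by simp⟩
  rintro ⟨y, hy⟩ _
  have hy' : y ∈ fzNcl B H := by rw [hp]; exact hy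
  obtain ⟨z, hz, hzy⟩ := h1 hy'
  have : z = ⟨y, hy⟩ := Subtype.ext hzy
  rw [← this]; exact hz

/-- F-a: either `B` is relatively subnormal in `X`, or some strictly larger subgroup of `X`
is normally generated by `B`. -/
theorem fz_sn_or_perfect [Finite G] : ∀ (n : ℕ) (B X : Subgroup G), Nat.card X = n → B ≤ X →
    (B.subgroupOf X).IsSubnormal ∨ ∃ H, B ≤ H ∧ H ≤ X ∧ H ≠ B ∧ fzNcl B H = H := by
  intro n
  induction n using Nat.strong_induction_on with
  | _ n ih =>
    intro B X hn hBX
    by_cases hBX' : B = X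
    · left
      rw [hBX', Subgroup.subgroupOf_self]
      exact Subgroup.IsSubnormal.top
    by_cases hX1 : fzNcl B X = X
    · right
      exact ⟨X, hBX, le_rfl, fun h => hBX' h.symm, hX1⟩
    have hX1le : fzNcl B X ≤ X := fzNcl_le hBX
    have hcard : Nat.card (fzNcl B X) < n := by
      rw [← hn]
      by_contra hcon
      exact hX1 (Subgroup.eq_of_le_of_card_ge hX1le (not_lt.mp hcon))
    rcases ih _ hcard B (fzNcl B X) rfl (le_fzNcl B X) with h | ⟨H, h1, h2, h3, h4⟩
    · left
      refine fz_sn_trans (le_fzNcl B X) hX1le h ?_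
      have hn' : ((fzNcl B X).subgroupOf X).Normal := by
        rw [Subgroup.normal_subgroupOf_iff_le_normalizer hX1le]
        intro x hx
        rw [Subgroup.mem_normalizer_iff]
        intro y
        constructor
        · intro hy
          exact fzNcl_conj_mem hx hy
        · intro hy
          have := fzNcl_conj_mem (X.inv_mem hx) hy
          have h5 : x⁻¹ * (x * y * x⁻¹) * x⁻¹⁻¹ = y := by group
          rwa [h5] at this
      exact hn'.isSubnormal
    · right
      exact ⟨H, h1, h2.trans hX1le, h3, h4⟩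

theorem isCoatom_conj_smul {M : Subgroup G} (hM : IsCoatom M) (g : G) :
    IsCoatom (MulAut.conj g • M) := by
  constructor
  · exact Cfsg.Agent.Lib.Helper21.conj_smul_ne_top M g hM.1
  · intro X hX
    have h1 : M < MulAut.conj g⁻¹ • X := by
      constructor
      · rw [← conj_smul_le_iff]; exact hX.le
      · intro h
        apply hX.not_ge
        have := conj_smul_mono g h
        rwa [conj_smul_inv_smul] at this
    have h2 := hM.2 _ h1
    have h3 : MulAut.conj g • MulAut.conj g⁻¹ • X = MulAut.conj g • ⊤ := by rw [h2]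
    rwa [conj_smul_inv_smul, conj_smul_top] at h3

theorem normalizer_conj_smul_le {A M : Subgroup G} (h : Subgroup.normalizer (A : Set G) ≤ M)
    (g : G) : Subgroup.normalizer ((MulAut.conj g • A : Subgroup G) : Set G) ≤ MulAut.conj g • M := by
  intro y hy
  rw [← Cfsg.Agent.Lib.Helper21.conj_smul_eq_iff_mem_normalizer] at hy
  rw [mem_conj_smul_iff]
  apply h
  rw [← Cfsg.Agent.Lib.Helper21.conj_smul_eq_iff_mem_normalizer]
  have h1 : MulAut.conj g⁻¹ • MulAut.conj y • MulAut.conj g • A = MulAut.conj g⁻¹ • MulAut.conj g • A := by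
    rw [hy]
  rw [conj_inv_smul_smul, conj_smul_smul, conj_smul_smul] at h1
  exact h1

theorem conj_smul_le_normalizer_conj {A P : Subgroup G}
    (h : P ≤ Subgroup.normalizer (A : Set G)) (g : G) :
    MulAut.conj g • P ≤ Subgroup.normalizer ((MulAut.conj g • A : Subgroup G) : Set G) := by
  intro y hy
  rw [mem_conj_smul_iff] at hy
  have h1 := h hy
  rw [← Cfsg.Agent.Lib.Helper21.conj_smul_eq_iff_mem_normalizer] at h1 ⊢
  have h2 : MulAut.conj g • MulAut.conj (g⁻¹ * y * g) • A = MulAut.conj g • A := by rw [h1]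
  rw [conj_smul_smul] at h2
  rw [conj_smul_smul]
  have : g * (g⁻¹ * y * g) = y * g := by group
  rwa [this] at h2

theorem card_conj_smul' [Finite G] (S : Subgroup G) (x : G) :
    Nat.card (MulAut.conj x • S : Subgroup G) = Nat.card S :=
  Cfsg.Agent.Lib.Helper21.card_conj_smul S x

/-- a coatom which is not normal is self-normalizing -/
theorem mem_of_conj_smul_eq {M : Subgroup G} (hM : IsCoatom M) (hn : ¬ M.Normal) {g : G}
    (hg : MulAut.conj g • M = M) : g ∈ M := by
  rw [Cfsg.Agent.Lib.Helper21.conj_smul_eq_iff_mem_normalizer] at hg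
  by_contra hgM
  have hlt : M < Subgroup.normalizer (M : Set G) := by
    refine lt_of_le_of_ne Subgroup.le_normalizer ?_
    intro h
    rw [← h] at hg
    exact hgM hg
  have := hM.2 _ hlt
  exact hn (Subgroup.normalizer_eq_top_iff.mp this)

end

section

variable {G : Type*} [Group G]

/-- the proper subgroups containing `B` that are normally generated by `B` -/
def fzH (B : Subgroup G) : Set (Subgroup G) := {H | B ≤ H ∧ H ≠ ⊤ ∧ fzNcl B H = H}

/-- the statement of the generalized zipper lemma for the subgroup `B` -/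
def fzT (B : Subgroup G) : Prop :=
  sSup (fzH B) = ⊤ ∨ ∃! M : Subgroup G, IsCoatom M ∧ B ≤ M

/-- the data available in a counterexample of maximal order -/
structure FzData (A M : Subgroup G) : Prop where
  coatom : IsCoatom M
  le : A ≤ M
  nle : Subgroup.normalizer (A : Set G) ≤ M
  sn : ∀ (g : G) (X : Subgroup G), IsCoatom X → MulAut.conj g • A ≤ X → X ≠ MulAut.conj g • M →
    ((MulAut.conj g • A : Subgroup G).subgroupOf X).IsSubnormal
  ncl : fzNcl A ⊤ = ⊤
  ih : ∀ B : Subgroup G, Nat.card A < Nat.card B → B ≠ ⊤ → fzNcl B ⊤ = ⊤ → fzT B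

theorem FzData.ncl_conj {A M : Subgroup G} (d : FzData A M) (g : G) :
    fzNcl (MulAut.conj g • A) ⊤ = ⊤ := by
  have := fzNcl_conj g A ⊤
  rw [d.ncl, conj_smul_top] at this
  exact this.symm

theorem FzData.ncl_of_le {A M : Subgroup G} (d : FzData A M) (g : G) {B : Subgroup G}
    (h : MulAut.conj g • A ≤ B) : fzNcl B ⊤ = ⊤ := by
  rw [eq_top_iff]
  calc (⊤ : Subgroup G) = fzNcl (MulAut.conj g • A) ⊤ := (d.ncl_conj g).symm
    _ ≤ fzNcl B ⊤ := fzNcl_mono h le_rfl

theorem FzData.not_normal {A M : Subgroup G} (d : FzData A M) : ¬ M.Normal := by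
  intro hn
  apply d.coatom.1
  rw [eq_top_iff, ← d.ncl]
  apply fzNcl_le_of_conj_mem d.le
  intro h _ n hn'
  exact hn.conj_mem n hn' h

theorem FzData.conj_le {A M : Subgroup G} (d : FzData A M) (g : G) :
    MulAut.conj g • A ≤ MulAut.conj g • M := conj_smul_mono g d.le

/-- two distinct coatoms over `B` with `fzT B` force `sSup (fzH B) = ⊤` -/
theorem fzT_two {B K1 K2 : Subgroup G} (hT : fzT B) (h1 : IsCoatom K1) (h2 : IsCoatom K2)
    (hne : K1 ≠ K2) (hB1 : B ≤ K1) (hB2 : B ≤ K2) : sSup (fzH B) = ⊤ := by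
  rcases hT with h | ⟨M, _, hu⟩
  · exact h
  · exact absurd ((hu K1 ⟨h1, hB1⟩).trans (hu K2 ⟨h2, hB2⟩).symm) hne

/-- key reduction: members of `fzH (P ⊔ Q)` inside a coatom where both `P` and `Q` are
relatively subnormal are trivial -/
theorem fz_join_trivial [Finite G] {P Q H X : Subgroup G} (hH : H ∈ fzH (P ⊔ Q)) (hHX : H ≤ X)
    (hP : (P.subgroupOf X).IsSubnormal) (hQ : (Q.subgroupOf X).IsSubnormal) : H = P ⊔ Q := by
  obtain ⟨hBH, _, hp⟩ := hH
  have hPX : P ≤ X := (le_sup_left.trans hBH).trans hHX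
  have hQX : Q ≤ X := (le_sup_right.trans hBH).trans hHX
  have hs : ((P ⊔ Q).subgroupOf X).IsSubnormal := by
    rw [Subgroup.subgroupOf_sup hPX hQX]
    exact Cfsg.Agent.Lib.Helper20.isSubnormal_sup hP hQ
  exact fz_eq_of_sn_of_perfect hBH hHX hs hp

/-- L5: the intersection of a coatom `K ≠ g•M` over `g•A` with `g•M` normalizes `g•A` -/
theorem FzData.L5 [Finite G] {A M : Subgroup G} (d : FzData A M) (g : G) {K : Subgroup G}
    (hK : IsCoatom K) (hAK : MulAut.conj g • A ≤ K) (hKM : K ≠ MulAut.conj g • M)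
    {q : G} (hqK : q ∈ K) (hqM : q ∈ MulAut.conj g • M) :
    MulAut.conj q • MulAut.conj g • A = MulAut.conj g • A := by
  by_contra hne
  set P := MulAut.conj g • A with hP
  set Q := MulAut.conj q • P with hQ
  have hQ' : Q = MulAut.conj (q * g) • A := by rw [hQ, hP, conj_smul_smul]
  have hcard : Nat.card A < Nat.card (P ⊔ Q : Subgroup G) := by
    have := Cfsg.Agent.Lib.Helper21.lt_sup_conj_smul P q hne
    rwa [hP, card_conj_smul'] at this
  have hqKK : MulAut.conj q • K = K := Subgroup.conj_smul_eq_self_of_mem hqK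
  have hqMM : MulAut.conj q • MulAut.conj g • M = MulAut.conj g • M :=
    Subgroup.conj_smul_eq_self_of_mem hqM
  have hPM : P ≤ MulAut.conj g • M := d.conj_le g
  have hQK : Q ≤ K := by rw [← hqKK]; exact conj_smul_mono q hAK
  have hQM : Q ≤ MulAut.conj g • M := by rw [← hqMM]; exact conj_smul_mono q hPM
  have hBK : P ⊔ Q ≤ K := sup_le hAK hQK
  have hBM : P ⊔ Q ≤ MulAut.conj g • M := sup_le hPM hQM
  have hMg : IsCoatom (MulAut.conj g • M) := isCoatom_conj_smul d.coatom g
  have hBtop : P ⊔ Q ≠ ⊤ := fun h => hK.1 (eq_top_iff.mpr (h ▸ hBK))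
  have hT := d.ih (P ⊔ Q) hcard hBtop (d.ncl_of_le g le_sup_left)
  have htop := fzT_two hT hK hMg hKM hBK hBM
  apply hMg.1
  rw [eq_top_iff, ← htop]
  apply sSup_le
  intro H hH
  obtain ⟨X, hX, hHX⟩ := (eq_top_or_exists_le_coatom H).resolve_left hH.2.1
  by_cases hXM : X = MulAut.conj g • M
  · rw [← hXM]; exact hHX
  · have hPX : P ≤ X := (le_sup_left.trans hH.1).trans hHX
    have hQX : Q ≤ X := (le_sup_right.trans hH.1).trans hHX
    have h1 := d.sn g X hX hPX hXM
    have h2 : (Q.subgroupOf X).IsSubnormal := by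
      rw [hQ']
      apply d.sn (q * g) X hX (by rw [← hQ']; exact hQX)
      rw [← conj_smul_smul, hqMM]
      exact hXM
    rw [fz_join_trivial hH hHX h1 h2]
    exact hBM

end

section

variable {G : Type*} [Group G]

theorem card_lt_sup_of_ne [Finite G] {A P Q : Subgroup G} (hP : Nat.card P = Nat.card A)
    (hQ : Nat.card Q = Nat.card A) (hne : P ≠ Q) : Nat.card A < Nat.card (P ⊔ Q : Subgroup G) := by
  by_contra hcon
  push Not at hcon
  have h1 : P = P ⊔ Q := Subgroup.eq_of_le_of_card_ge le_sup_left (by rw [hP]; exact hcon)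
  have h2 : Q ≤ P := by rw [h1]; exact le_sup_right
  exact hne (Subgroup.eq_of_le_of_card_ge h2 (by rw [hP, hQ])).symm

/-- L6a: the join of two distinct conjugates lying in two coatoms lies in the centre of the
first one. -/
theorem fzL6a [Finite G] {A M : Subgroup G} (d : FzData A M) (g h : G)
    (hne : MulAut.conj g • A ≠ MulAut.conj h • A) {X1 X2 : Subgroup G} (hX1 : IsCoatom X1)
    (hX2 : IsCoatom X2) (hX : X1 ≠ X2)
    (h1 : MulAut.conj g • A ⊔ MulAut.conj h • A ≤ X1)
    (h2 : MulAut.conj g • A ⊔ MulAut.conj h • A ≤ X2) :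
    MulAut.conj g • A ⊔ MulAut.conj h • A ≤ MulAut.conj g • M := by
  set P := MulAut.conj g • A with hP
  set Q := MulAut.conj h • A with hQ
  have hcard : Nat.card A < Nat.card (P ⊔ Q : Subgroup G) :=
    card_lt_sup_of_ne (card_conj_smul' A g) (card_conj_smul' A h) hne
  have hBtop : P ⊔ Q ≠ ⊤ := fun e => hX1.1 (eq_top_iff.mpr (e ▸ h1))
  have hT := d.ih (P ⊔ Q) hcard hBtop (d.ncl_of_le g le_sup_left)
  have htop := fzT_two hT hX1 hX2 hX h1 h2
  have hMg : IsCoatom (MulAut.conj g • M) := isCoatom_conj_smul d.coatom g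
  have hMh : IsCoatom (MulAut.conj h • M) := isCoatom_conj_smul d.coatom h
  -- members of fzH in a coatom different from both centres are trivial
  have key : ∀ H ∈ fzH (P ⊔ Q), ∀ X, IsCoatom X → H ≤ X → X ≠ MulAut.conj g • M →
      X ≠ MulAut.conj h • M → H = P ⊔ Q := by
    intro H hH X hXc hHX hXg hXh
    have hPX : P ≤ X := (le_sup_left.trans hH.1).trans hHX
    have hQX : Q ≤ X := (le_sup_right.trans hH.1).trans hHX
    exact fz_join_trivial hH hHX (d.sn g X hXc hPX hXg) (d.sn h X hXc hQX hXh)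
  by_contra hB
  by_cases hB2 : P ⊔ Q ≤ MulAut.conj h • M
  · apply hMh.1
    rw [eq_top_iff, ← htop]
    apply sSup_le
    intro H hH
    obtain ⟨X, hXc, hHX⟩ := (eq_top_or_exists_le_coatom H).resolve_left hH.2.1
    have hXg : X ≠ MulAut.conj g • M := by
      intro e
      apply hB
      rw [← e]
      exact hH.1.trans hHX
    by_cases hXh : X = MulAut.conj h • M
    · rw [← hXh]; exact hHX
    · rw [key H hH X hXc hHX hXg hXh]; exact hB2
  · apply hBtop
    rw [eq_top_iff, ← htop]
    apply sSup_le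
    intro H hH
    obtain ⟨X, hXc, hHX⟩ := (eq_top_or_exists_le_coatom H).resolve_left hH.2.1
    have hXg : X ≠ MulAut.conj g • M := by
      intro e
      apply hB
      rw [← e]
      exact hH.1.trans hHX
    have hXh : X ≠ MulAut.conj h • M := by
      intro e
      apply hB2
      rw [← e]
      exact hH.1.trans hHX
    rw [key H hH X hXc hHX hXg hXh]

/-- L6: two distinct conjugates of `A` whose join lies in two distinct coatoms: each lies in
the centre of the other, the centres are distinct, and they normalize each other. -/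
theorem fzL6 [Finite G] {A M : Subgroup G} (d : FzData A M) (g h : G)
    (hne : MulAut.conj g • A ≠ MulAut.conj h • A) {X1 X2 : Subgroup G} (hX1 : IsCoatom X1)
    (hX2 : IsCoatom X2) (hX : X1 ≠ X2)
    (h1 : MulAut.conj g • A ⊔ MulAut.conj h • A ≤ X1)
    (h2 : MulAut.conj g • A ⊔ MulAut.conj h • A ≤ X2) :
    MulAut.conj g • A ≤ MulAut.conj h • M ∧ MulAut.conj h • A ≤ MulAut.conj g • M ∧
      MulAut.conj g • M ≠ MulAut.conj h • M ∧
      MulAut.conj h • A ≤ Subgroup.normalizer ((MulAut.conj g • A : Subgroup G) : Set G) := by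
  have ha := fzL6a d g h hne hX1 hX2 hX h1 h2
  have hb := fzL6a d h g hne.symm hX1 hX2 hX (by rw [sup_comm]; exact h1) (by rw [sup_comm]; exact h2)
  rw [sup_comm] at hb
  set P := MulAut.conj g • A with hP
  set Q := MulAut.conj h • A with hQ
  have hMg : IsCoatom (MulAut.conj g • M) := isCoatom_conj_smul d.coatom g
  have hMh : IsCoatom (MulAut.conj h • M) := isCoatom_conj_smul d.coatom h
  have hcard : Nat.card A < Nat.card (P ⊔ Q : Subgroup G) :=
    card_lt_sup_of_ne (card_conj_smul' A g) (card_conj_smul' A h) hne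
  have hBtop : P ⊔ Q ≠ ⊤ := fun e => hX1.1 (eq_top_iff.mpr (e ▸ h1))
  have hT := d.ih (P ⊔ Q) hcard hBtop (d.ncl_of_le g le_sup_left)
  have htop := fzT_two hT hX1 hX2 hX h1 h2
  have hMne : MulAut.conj g • M ≠ MulAut.conj h • M := by
    intro e
    apply hMg.1
    rw [eq_top_iff, ← htop]
    apply sSup_le
    intro H hH
    obtain ⟨X, hXc, hHX⟩ := (eq_top_or_exists_le_coatom H).resolve_left hH.2.1
    by_cases hXg : X = MulAut.conj g • M
    · rw [← hXg]; exact hHX
    · have hXh : X ≠ MulAut.conj h • M := by rw [← e]; exact hXg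
      have hPX : P ≤ X := (le_sup_left.trans hH.1).trans hHX
      have hQX : Q ≤ X := (le_sup_right.trans hH.1).trans hHX
      rw [fz_join_trivial hH hHX (d.sn g X hXc hPX hXg) (d.sn h X hXc hQX hXh)]
      exact ha
  refine ⟨le_sup_left.trans hb, le_sup_right.trans ha, hMne, ?_⟩
  intro y hy
  rw [← Cfsg.Agent.Lib.Helper21.conj_smul_eq_iff_mem_normalizer]
  exact d.L5 g hMh (le_sup_left.trans hb) hMne.symm ((le_sup_right.trans hb) hy)
    ((le_sup_right.trans ha) hy)

end

section

variable {G : Type*} [Group G]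

/-- symmetric packaged form of L6 for subgroups given as conjugates -/
theorem fzL6' [Finite G] {A M : Subgroup G} (d : FzData A M) {P Q : Subgroup G} (g h : G)
    (hP : P = MulAut.conj g • A) (hQ : Q = MulAut.conj h • A) (hne : P ≠ Q)
    {X1 X2 : Subgroup G} (hX1 : IsCoatom X1) (hX2 : IsCoatom X2) (hX : X1 ≠ X2)
    (hP1 : P ≤ X1) (hQ1 : Q ≤ X1) (hP2 : P ≤ X2) (hQ2 : Q ≤ X2) :
    P ≤ MulAut.conj h • M ∧ Q ≤ MulAut.conj g • M ∧
      MulAut.conj g • M ≠ MulAut.conj h • M ∧
      Q ≤ Subgroup.normalizer (P : Set G) ∧ P ≤ Subgroup.normalizer (Q : Set G) := by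
  subst hP hQ
  obtain ⟨a1, a2, a3, a4⟩ := fzL6 d g h hne hX1 hX2 hX (sup_le hP1 hQ1) (sup_le hP2 hQ2)
  obtain ⟨_, _, _, b4⟩ := fzL6 d h g hne.symm hX1 hX2 hX (sup_le hQ1 hP1) (sup_le hQ2 hP2)
  exact ⟨a1, a2, a3, a4, b4⟩

/-- the penultimate term of the normal closure series of a relatively subnormal, non-normal
subgroup -/
theorem fz_min_term [Finite G] {A2 M : Subgroup G} (hsn : (A2.subgroupOf M).IsSubnormal) :
    ∀ (n : ℕ) (U : Subgroup G), Nat.card U = n → U ≤ M → A2 ≤ U →
      ¬ U ≤ Subgroup.normalizer (A2 : Set G) → (U = M ∨ ∃ V : Subgroup G, V ≤ M ∧ U = fzNcl A2 V) →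
      ∃ T : Subgroup G, T ≤ M ∧ A2 ≤ T ∧ ¬ T ≤ Subgroup.normalizer (A2 : Set G) ∧
        (∀ s ∈ T, MulAut.conj s • A2 ≤ Subgroup.normalizer (A2 : Set G)) ∧
        (T = M ∨ ∃ V : Subgroup G, V ≤ M ∧ T = fzNcl A2 V) := by
  intro n
  induction n using Nat.strong_induction_on with
  | _ n ih =>
    intro U hn hUM hAU hUn hU
    have hU'le : fzNcl A2 U ≤ U := fzNcl_le hAU
    by_cases hU' : fzNcl A2 U ≤ Subgroup.normalizer (A2 : Set G)
    · refine ⟨U, hUM, hAU, hUn, ?_, hU⟩
      intro s hs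
      refine le_trans ?_ hU'
      intro y hy
      rw [mem_conj_smul_iff] at hy
      have : y = s * (s⁻¹ * y * s) * s⁻¹ := by group
      rw [this]
      exact Subgroup.subset_closure ⟨s, hs, _, hy, rfl⟩
    · by_cases heq : fzNcl A2 U = U
      · exfalso
        have := fz_eq_of_sn_of_perfect hAU hUM hsn heq
        apply hUn
        rw [this]
        exact Subgroup.le_normalizer
      · have hcard : Nat.card (fzNcl A2 U) < n := by
          rw [← hn]
          by_contra hcon
          exact heq (Subgroup.eq_of_le_of_card_ge hU'le (not_lt.mp hcon))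
        exact ih _ hcard (fzNcl A2 U) rfl (hU'le.trans hUM) (le_fzNcl A2 U) hU'
          (Or.inr ⟨U, hUM, rfl⟩)

/-- invariance of the join of a conjugation-stable family -/
theorem fz_sSup_invariant [Finite G] (L : Set (Subgroup G)) (y : G)
    (h : ∀ P ∈ L, MulAut.conj y • P ∈ L) : MulAut.conj y • sSup L = sSup L := by
  have h1 : sSup L ≤ MulAut.conj y⁻¹ • sSup L := by
    apply sSup_le
    intro P hP
    rw [← conj_smul_le_iff]
    exact le_sSup (h P hP)
  have h2 : MulAut.conj y • sSup L ≤ sSup L := by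
    rw [conj_smul_le_iff]; exact h1
  exact Subgroup.eq_of_le_of_card_ge h2 (by rw [card_conj_smul'])

end

section

variable {G : Type*} [Group G]

theorem coatom_eq_of_le {K M : Subgroup G} (hK : IsCoatom K) (hM : IsCoatom M) (h : K ≤ M) :
    K = M := ((hK.le_iff_eq hM.1).mp h).symm

/-- the main contradiction: in a counterexample of maximal order there is no second coatom -/
theorem fz_contra [Finite G] {A M K : Subgroup G} (d : FzData A M) (hK : IsCoatom K)
    (hAK : A ≤ K) (hKM : K ≠ M) : False := by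
  have hM := d.coatom
  have hnn := d.not_normal
  -- step 1: A is subnormal, not normal, in K
  have hsnK : (A.subgroupOf K).IsSubnormal := by
    have := d.sn 1 K hK (by rw [conj_one_smul]; exact hAK) (by rw [conj_one_smul]; exact hKM)
    rwa [conj_one_smul] at this
  have hKn : ¬ K ≤ Subgroup.normalizer (A : Set G) := fun h =>
    hKM (coatom_eq_of_le hK hM (h.trans d.nle))
  obtain ⟨x, hxK, hx1, hx2⟩ :=
    Cfsg.Agent.Lib.Helper21.exists_conj_of_isSubnormal_subgroupOf A K hAK hsnK hKn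
  set A2 := MulAut.conj x • A with hA2
  set M2 := MulAut.conj x • M with hM2
  have hM2c : IsCoatom M2 := isCoatom_conj_smul hM x
  have hA2M : A2 ≤ M := hx2.trans d.nle
  have hxKK : MulAut.conj x • K = K := Subgroup.conj_smul_eq_self_of_mem hxK
  have hA2K : A2 ≤ K := by rw [← hxKK]; exact conj_smul_mono x hAK
  have hA2M2 : A2 ≤ M2 := conj_smul_mono x d.le
  have hA1 : A = MulAut.conj (1 : G) • A := (conj_one_smul A).symm
  obtain ⟨hAM2, -, hMM2', -, hAnA2⟩ := fzL6' d 1 x hA1 hA2 (Ne.symm hx1) hK hM hKM hAK hA2K d.le hA2M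
  have hMM2 : M ≠ M2 := by rwa [conj_one_smul] at hMM2'
  have hxM : x ∉ M := fun h => hMM2 (Subgroup.conj_smul_eq_self_of_mem h).symm
  have hnA2 : Subgroup.normalizer (A2 : Set G) ≤ M2 := normalizer_conj_smul_le d.nle x
  -- step 2: A2 is subnormal, not normal, in M
  have hA2sn : (A2.subgroupOf M).IsSubnormal := d.sn x M hM hA2M hMM2
  have hMn : ¬ M ≤ Subgroup.normalizer (A2 : Set G) := fun h =>
    hMM2 (coatom_eq_of_le hM hM2c (h.trans hnA2))
  obtain ⟨T, hTM, hA2T, hTn, hTs, hTgen⟩ :=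
    fz_min_term hA2sn _ M rfl le_rfl hA2M hMn (Or.inl rfl)
  -- step 3: the line through A and A2
  set L : Set (Subgroup G) := {P | (∃ g : G, P = MulAut.conj g • A) ∧ P ≤ M ∧ P ≤ M2} with hL
  have hAL : A ∈ L := ⟨⟨1, hA1⟩, d.le, hAM2⟩
  have hBlM : sSup L ≤ M := sSup_le (fun P hP => hP.2.1)
  have hABl : A ≤ sSup L := le_sSup hAL
  -- invariance under x
  have hKM2 : K ≠ M2 := by
    intro e
    apply hKM
    have h1 : MulAut.conj x⁻¹ • K = M := by rw [e, hM2, conj_inv_smul_smul]
    rw [← h1]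
    exact (Subgroup.conj_smul_eq_self_of_mem (K.inv_mem hxK)).symm
  set M4 := MulAut.conj x • M2 with hM4
  have hM4c : IsCoatom M4 := isCoatom_conj_smul hM2c x
  have hM4' : M4 = MulAut.conj (x * x) • M := by rw [hM4, hM2, conj_smul_smul]
  have hM2M4 : M2 ≠ M4 := by
    intro e
    apply hMM2
    have h1 : MulAut.conj x⁻¹ • M2 = MulAut.conj x⁻¹ • M4 := by rw [← e]
    rwa [hM4, conj_inv_smul_smul, hM2, conj_inv_smul_smul] at h1
  have hAM4 : A ≤ M4 := by
    set A4 := MulAut.conj x • A2 with hA4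
    have hA4' : A4 = MulAut.conj (x * x) • A := by rw [hA4, hA2, conj_smul_smul]
    by_cases hA4A : A4 = A
    · have hxx : x * x ∈ M := by
        apply d.nle
        rw [← Cfsg.Agent.Lib.Helper21.conj_smul_eq_iff_mem_normalizer, ← hA4']
        exact hA4A
      rw [hM4', Subgroup.conj_smul_eq_self_of_mem hxx]
      exact d.le
    · have hA4K : A4 ≤ K := by rw [← hxKK]; exact conj_smul_mono x hA2K
      have hA4M2 : A4 ≤ M2 := (conj_smul_le_normalizer_conj hx2 x).trans hnA2
      obtain ⟨h1, -, -, -, -⟩ := fzL6' d 1 (x * x) hA1 hA4' (Ne.symm hA4A) hK hM2c hKM2 hAK hA4K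
        hAM2 hA4M2
      rw [hM4']; exact h1
  have hxL : ∀ P ∈ L, MulAut.conj x • P ∈ L := by
    rintro P ⟨⟨g, hg⟩, hPM, hPM2⟩
    have hP' : MulAut.conj x • P = MulAut.conj (x * g) • A := by rw [hg, conj_smul_smul]
    have h2 : MulAut.conj x • P ≤ M2 := conj_smul_mono x hPM
    have h4 : MulAut.conj x • P ≤ M4 := conj_smul_mono x hPM2
    refine ⟨⟨x * g, hP'⟩, ?_, h2⟩
    by_cases hPA : MulAut.conj x • P = A
    · rw [hPA]; exact d.le
    · obtain ⟨-, h1, -, -, -⟩ := fzL6' d 1 (x * g) hA1 hP' (Ne.symm hPA) hM2c hM4c hM2M4 hAM2 h2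
        hAM4 h4
      rwa [conj_one_smul] at h1
  have hxBl : MulAut.conj x • sSup L = sSup L := fz_sSup_invariant L x hxL
  -- invariance under T
  have htL : ∀ t ∈ T, ∀ P ∈ L, MulAut.conj t • P ∈ L := by
    intro t ht
    rintro P ⟨⟨g, hg⟩, hPM, hPM2⟩
    have htM : t ∈ M := hTM ht
    have htMM : MulAut.conj t • M = M := Subgroup.conj_smul_eq_self_of_mem htM
    set M3 := MulAut.conj t • M2 with hM3
    have hM3c : IsCoatom M3 := isCoatom_conj_smul hM2c t
    have hM3' : M3 = MulAut.conj (t * x) • M := by rw [hM3, hM2, conj_smul_smul]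
    have hMM3 : M ≠ M3 := by
      intro e
      apply hMM2
      have h1 : MulAut.conj t⁻¹ • M = MulAut.conj t⁻¹ • M3 := by rw [← e]
      rw [hM3, conj_inv_smul_smul, Subgroup.conj_smul_eq_self_of_mem (M.inv_mem htM)] at h1
      exact h1
    have hA2M3 : A2 ≤ M3 := by
      set A3 := MulAut.conj t • A2 with hA3
      have hA3' : A3 = MulAut.conj (t * x) • A := by rw [hA3, hA2, conj_smul_smul]
      by_cases hA3A2 : A3 = A2
      · have htM2 : t ∈ M2 := by
          apply hnA2
          rw [← Cfsg.Agent.Lib.Helper21.conj_smul_eq_iff_mem_normalizer]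
          exact hA3A2
        rw [hM3, Subgroup.conj_smul_eq_self_of_mem htM2]
        exact hA2M2
      · have hA3M : A3 ≤ M := by rw [← htMM]; exact conj_smul_mono t hA2M
        have hA3M2 : A3 ≤ M2 := (hTs t ht).trans hnA2
        obtain ⟨h1, -, -, -, -⟩ := fzL6' d x (t * x) hA2 hA3' (Ne.symm hA3A2) hM hM2c hMM2 hA2M
          hA3M hA2M2 hA3M2
        rw [hM3']; exact h1
    have hP' : MulAut.conj t • P = MulAut.conj (t * g) • A := by rw [hg, conj_smul_smul]
    have h1 : MulAut.conj t • P ≤ M := by rw [← htMM]; exact conj_smul_mono t hPM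
    have h3 : MulAut.conj t • P ≤ M3 := conj_smul_mono t hPM2
    refine ⟨⟨t * g, hP'⟩, h1, ?_⟩
    by_cases hPA2 : MulAut.conj t • P = A2
    · rw [hPA2]; exact hA2M2
    · obtain ⟨-, h5, -, -, -⟩ := fzL6' d x (t * g) hA2 hP' (Ne.symm hPA2) hM hM3c hMM3 hA2M h1
        hA2M3 h3
      exact h5
  -- step 4: the normalizer of the join
  have hBlne : Subgroup.normalizer ((sSup L : Subgroup G) : Set G) ≠ ⊤ := by
    intro h
    have hn : (sSup L : Subgroup G).Normal := Subgroup.normalizer_eq_top_iff.mp h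
    apply hM.1
    rw [eq_top_iff, ← d.ncl]
    refine le_trans ?_ hBlM
    apply fzNcl_le_of_conj_mem hABl
    intro h _ n hn'
    exact hn.conj_mem n hn' h
  obtain ⟨X0, hX0, hNX0⟩ := (eq_top_or_exists_le_coatom _).resolve_left hBlne
  have hxX0 : x ∈ X0 := hNX0 ((Cfsg.Agent.Lib.Helper21.conj_smul_eq_iff_mem_normalizer _ x).mp hxBl)
  have hX0M : X0 ≠ M := fun e => hxM (e ▸ hxX0)
  have hTX0 : T ≤ X0 := by
    intro t ht
    apply hNX0
    rw [← Cfsg.Agent.Lib.Helper21.conj_smul_eq_iff_mem_normalizer]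
    exact fz_sSup_invariant L t (htL t ht)
  -- step 5: final contradiction
  rcases hTgen with hTeq | ⟨V, hVM, hTV⟩
  · rw [hTeq] at hTX0
    exact hX0M (coatom_eq_of_le hM hX0 hTX0).symm
  · apply hTn
    have hgen : ∀ v ∈ V, MulAut.conj v • A2 ≤ T := by
      intro v hv y hy
      rw [mem_conj_smul_iff] at hy
      have : y = v * (v⁻¹ * y * v) * v⁻¹ := by group
      rw [this, hTV]
      exact Subgroup.subset_closure ⟨v, hv, _, hy, rfl⟩
    have hTV' : T = fzNcl A2 V := hTV
    rw [hTV]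
    unfold fzNcl
    rw [Subgroup.closure_le]
    rintro _ ⟨v, hv, b, hb, rfl⟩
    have hvb : v * b * v⁻¹ ∈ MulAut.conj v • A2 := conj_mem_conj_smul hb
    by_cases hvA2 : MulAut.conj v • A2 = A2
    · rw [hvA2] at hvb
      exact Subgroup.le_normalizer hvb
    · have hv' : MulAut.conj v • A2 = MulAut.conj (v * x) • A := by rw [hA2, conj_smul_smul]
      have hvT := hgen v hv
      obtain ⟨-, -, -, h4, -⟩ := fzL6' d x (v * x) hA2 hv' (Ne.symm hvA2) hM hX0 hX0M.symm hA2M
        (hvT.trans hTM) (hA2T.trans hTX0) (hvT.trans hTX0)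
      exact h4 hvb

end

section

variable {G : Type*} [Group G]

theorem fzH_subset {A H : Subgroup G} (hH : H ∈ fzH A) : fzH H ⊆ fzH A := by
  intro H' hH'
  refine ⟨hH.1.trans hH'.1, hH'.2.1, ?_⟩
  apply le_antisymm (fzNcl_le (hH.1.trans hH'.1))
  -- H' = fzNcl H H' ≤ fzNcl A H'
  have h1 : H ≤ fzNcl A H' := by
    rw [← hH.2.2]
    exact fzNcl_mono le_rfl hH'.1
  have h2 : fzNcl H H' ≤ fzNcl A H' := by
    apply fzNcl_le_of_conj_mem h1
    intro h hh n hn
    exact fzNcl_conj_mem hh hn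
  rw [hH'.2.2] at h2
  exact h2

theorem not_isSubnormal_of_ncl [Finite G] {A : Subgroup G} (hA : A ≠ ⊤) (hncl : fzNcl A ⊤ = ⊤) :
    ¬ A.IsSubnormal := by
  intro hs
  obtain ⟨N, hNn, hAN, hNlt⟩ := hs.exists_normal_and_le_and_lt_top_of_ne hA
  apply hNlt.ne
  rw [eq_top_iff, ← hncl]
  apply fzNcl_le_of_conj_mem hAN
  intro h _ n hn
  exact hNn.conj_mem n hn h

theorem fzH_conj {A H : Subgroup G} (hH : H ∈ fzH A) {n : G}
    (hn : MulAut.conj n • A = A) : MulAut.conj n • H ∈ fzH A := by
  refine ⟨?_, Cfsg.Agent.Lib.Helper21.conj_smul_ne_top H n hH.2.1, ?_⟩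
  · rw [← hn]; exact conj_smul_mono n hH.1
  · have := fzNcl_conj n A H
    rw [hn, hH.2.2] at this
    exact this.symm

/-- the generalized zipper lemma (Flavell), in terms of `fzNcl` -/
theorem fz_main [Finite G] : ∀ (n : ℕ) (A : Subgroup G), Nat.card G - Nat.card A = n → A ≠ ⊤ →
    fzNcl A ⊤ = ⊤ → fzT A := by
  intro n
  induction n using Nat.strong_induction_on with
  | _ n ih =>
    intro A hn hAtop hncl
    by_contra hT
    unfold fzT at hT
    push Not at hT
    obtain ⟨hY, hnu⟩ := hT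
    -- the induction hypothesis
    have hih : ∀ B : Subgroup G, Nat.card A < Nat.card B → B ≠ ⊤ → fzNcl B ⊤ = ⊤ → fzT B := by
      intro B hB hBtop hBncl
      have hle : Nat.card B ≤ Nat.card G := Subgroup.card_le_card_group B
      exact ih (Nat.card G - Nat.card B) (by omega) B rfl hBtop hBncl
    -- two coatoms
    obtain ⟨K1, hK1, hAK1⟩ := (eq_top_or_exists_le_coatom A).resolve_left hAtop
    have hK2 : ∃ K2, IsCoatom K2 ∧ A ≤ K2 ∧ K2 ≠ K1 := by
      by_contra hcon
      push Not at hcon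
      exact hnu ⟨K1, ⟨hK1, hAK1⟩, fun K hK => hcon K hK.1 hK.2⟩
    obtain ⟨K2, hK2, hAK2, hK21⟩ := hK2
    -- a nontrivial member of fzH A (zipper lemma)
    have hH0 : ∃ H0 ∈ fzH A, H0 ≠ A := by
      by_contra hcon
      push Not at hcon
      have hz1 : ∀ H : Subgroup G, A ≤ H → H ≠ ⊤ → (A.subgroupOf H).IsSubnormal := by
        intro H hAH hHtop
        rcases fz_sn_or_perfect _ A H rfl hAH with h | ⟨H', h1, h2, h3, h4⟩
        · exact h
        · exfalso
          apply h3
          apply hcon H' ⟨h1, ?_, h4⟩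
          intro e
          apply hHtop
          rw [eq_top_iff, ← e]; exact h2
      obtain ⟨M0, _, _, hu⟩ := Cfsg.Agent.Lib.Helper21.zipper A hz1
        (not_isSubnormal_of_ncl hAtop hncl)
      exact hK21 ((hu K2 hK2 hAK2).trans (hu K1 hK1 hAK1).symm)
    obtain ⟨H0, hH0, hH0A⟩ := hH0
    -- the coatom M
    obtain ⟨M, hM, hYM⟩ := (eq_top_or_exists_le_coatom (sSup (fzH A))).resolve_left hY
    have hAM : A ≤ M := hH0.1.trans ((le_sSup hH0).trans hYM)
    -- uniqueness of M over nontrivial members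
    have huniq : ∀ H ∈ fzH A, H ≠ A → ∀ X, IsCoatom X → H ≤ X → X = M := by
      intro H hH hHA X hX hHX
      have hcard : Nat.card A < Nat.card H := by
        by_contra hcon
        exact hHA (Subgroup.eq_of_le_of_card_ge hH.1 (not_lt.mp hcon)).symm
      have hHncl : fzNcl H ⊤ = ⊤ := by
        rw [eq_top_iff]
        calc (⊤ : Subgroup G) = fzNcl A ⊤ := hncl.symm
          _ ≤ fzNcl H ⊤ := fzNcl_mono hH.1 le_rfl
      rcases hih H hcard hH.2.1 hHncl with h | ⟨M', hM', hu⟩
      · exfalso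
        apply hM.1
        rw [eq_top_iff, ← h]
        exact (sSup_le_sSup (fzH_subset hH)).trans hYM
      · have h1 := hu X ⟨hX, hHX⟩
        have h2 := hu M ⟨hM, (le_sSup hH).trans hYM⟩
        rw [h1, h2]
    have hMnn : ¬ M.Normal := by
      intro hn'
      apply hM.1
      rw [eq_top_iff, ← hncl]
      apply fzNcl_le_of_conj_mem hAM
      intro h _ n hn''
      exact hn'.conj_mem n hn'' h
    -- the data
    have d : FzData A M := by
      refine ⟨hM, hAM, ?_, ?_, hncl, hih⟩
      · intro y hy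
        rw [← Cfsg.Agent.Lib.Helper21.conj_smul_eq_iff_mem_normalizer] at hy
        have h1 := fzH_conj hH0 hy
        have h2 : MulAut.conj y • H0 ≠ A := by
          intro e
          apply hH0A
          have : MulAut.conj y⁻¹ • MulAut.conj y • H0 = MulAut.conj y⁻¹ • A := by rw [e]
          rw [conj_inv_smul_smul] at this
          rw [this]
          have h3 : MulAut.conj y⁻¹ • MulAut.conj y • A = MulAut.conj y⁻¹ • A := by rw [hy]
          rw [conj_inv_smul_smul] at h3
          exact h3.symm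
        have h3 := huniq _ h1 h2 (MulAut.conj y • M) (isCoatom_conj_smul hM y)
          (conj_smul_mono y ((le_sSup hH0).trans hYM))
        exact mem_of_conj_smul_eq hM hMnn h3
      · intro g X hX hgX hXg
        set X' := MulAut.conj g⁻¹ • X with hX'
        have hX'c : IsCoatom X' := isCoatom_conj_smul hX g⁻¹
        have hAX' : A ≤ X' := by
          rw [hX', ← conj_smul_le_iff]; exact hgX
        have hX'M : X' ≠ M := by
          intro e
          apply hXg
          rw [← e, hX', conj_smul_inv_smul]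
        have hsn : (A.subgroupOf X').IsSubnormal := by
          rcases fz_sn_or_perfect _ A X' rfl hAX' with h | ⟨H', h1, h2, h3, h4⟩
          · exact h
          · exfalso
            have hH' : H' ∈ fzH A := by
              refine ⟨h1, ?_, h4⟩
              intro e
              apply hX'c.1
              rw [eq_top_iff, ← e]; exact h2
            exact hX'M (huniq H' hH' h3 X' hX'c h2)
        have := Cfsg.Agent.Lib.Helper21.isSubnormal_subgroupOf_conj A X' g hsn
        rwa [hX', conj_smul_inv_smul] at this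
    -- a second coatom
    by_cases hK1M : K1 = M
    · exact fz_contra d hK2 hAK2 (by rw [← hK1M]; exact hK21)
    · exact fz_contra d hK1 hAK1 hK1M

/-- **Flavell's generalized zipper lemma.** -/
theorem fz_zipper [Finite G] (A : Subgroup G) (hA : Subgroup.normalClosure (A : Set G) = ⊤)
    (hAG : A ≠ ⊤) :
    sSup {H : Subgroup G | A ≤ H ∧ H ≠ ⊤ ∧
        Subgroup.normalClosure ((A.subgroupOf H : Subgroup ↥H) : Set ↥H) = ⊤} = ⊤ ∨
      ∃! M : Subgroup G, IsCoatom M ∧ A ≤ M := by
  have hncl : fzNcl A ⊤ = ⊤ := by rw [fzNcl_top_eq, hA]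
  rcases fz_main _ A rfl hAG hncl with h | h
  · left
    rw [eq_top_iff]
    refine le_trans (le_of_eq h.symm) (sSup_le_sSup ?_)
    rintro H ⟨hAH, hHtop, hp⟩
    refine ⟨hAH, hHtop, ?_⟩
    rw [eq_top_iff]
    rintro ⟨y, hy⟩ _
    have h1 : fzNcl A H ≤
        (Subgroup.normalClosure ((A.subgroupOf H : Subgroup ↥H) : Set ↥H)).map H.subtype := by
      apply fzNcl_le_of_conj_mem
      · intro b hb
        exact ⟨⟨b, hAH hb⟩, Subgroup.le_normalClosure hb, rfl⟩
      · rintro h hh _ ⟨n, hn, rfl⟩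
        exact ⟨⟨h, hh⟩ * n * ⟨h, hh⟩⁻¹,
          Subgroup.normalClosure_normal.conj_mem n hn ⟨h, hh⟩, by simp⟩
    have hy' : y ∈ fzNcl A H := by rw [hp]; exact hy
    obtain ⟨z, hz, hzy⟩ := h1 hy'
    have : z = ⟨y, hy⟩ := Subtype.ext hzy
    rw [← this]; exact hz
  · right
    exact h

end

end Cfsg.Agent.Lib.Helper25
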