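import Mathlib
import Cfsg.Agent.Lib.Helper25.FlavellZipper

/-!
Iterated commutators with an automorphism generate (S3927): if [G,α]=G then the k-fold iterated commutators generate G. Via Flavell's generalized zipper lemma in G ⋊ ⟨α⟩: ic_main (iterates of x ↦ x a x⁻¹ generate Γ when Γ = ⟨a^Γ⟩), ic_generate.
-/

set_option autoImplicit false

namespace Cfsg.Agent.Lib.Helper25
open scoped Pointwise
open SemidirectProduct
section

universe u

/-- the conjugation map `x ↦ x a x⁻¹`. -/
def icPsi {Γ : Type*} [Group Γ] (a : Γ) : Γ → Γ := fun x => x * a * x⁻¹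

theorem icPsi_self {Γ : Type*} [Group Γ] (a : Γ) : icPsi a a = a := by
  simp [icPsi]

theorem icPsi_iter_self {Γ : Type*} [Group Γ] (a : Γ) (k : ℕ) : (icPsi a)^[k] a = a :=
  Function.iterate_fixed (icPsi_self a) k

theorem icPsi_iter_subtype {Γ : Type*} [Group Γ] (H : Subgroup Γ) (a : H) (k : ℕ) (x : H) :
    (((icPsi a)^[k] x : H) : Γ) = (icPsi (a : Γ))^[k] (x : Γ) := by
  induction k generalizing x with
  | zero => rfl
  | succ k ih =>
    rw [Function.iterate_succ_apply, Function.iterate_succ_apply, ih]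
    rfl

theorem ic_aux (n : ℕ) : ∀ (Γ : Type u) [Group Γ] [Finite Γ], Nat.card Γ = n → ∀ (a : Γ),
    Subgroup.normalClosure ({a} : Set Γ) = ⊤ → ∀ k : ℕ,
    Subgroup.closure (Set.range ((icPsi a)^[k])) = ⊤ := by
  induction n using Nat.strong_induction_on with
  | _ n IH =>
  intro Γ _ _ hcard a ha k
  set B : Subgroup Γ := Subgroup.closure (Set.range ((icPsi a)^[k])) with hB
  have haB : a ∈ B := Subgroup.subset_closure ⟨a, icPsi_iter_self a k⟩
  set A : Subgroup Γ := Subgroup.zpowers a with hA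
  have hAB : A ≤ B := by
    rw [hA, Subgroup.zpowers_le]; exact haB
  by_cases hAtop : A = ⊤
  · rw [eq_top_iff, ← hAtop]; exact hAB
  have hAncl : Subgroup.normalClosure (A : Set Γ) = ⊤ := by
    rw [eq_top_iff, ← ha]
    apply Subgroup.normalClosure_mono
    rw [Set.singleton_subset_iff]
    exact Subgroup.mem_zpowers a
  rcases fz_zipper A hAncl hAtop with h | ⟨M, ⟨hM, hAM⟩, hMuniq⟩
  · -- join case
    rw [eq_top_iff, ← h]
    apply sSup_le
    rintro H ⟨hAH, hHtop, hHncl⟩
    have haH : a ∈ H := hAH (Subgroup.mem_zpowers a)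
    have hcardH : Nat.card H < n := by
      rw [← hcard]
      by_contra hcon
      push Not at hcon
      exact hHtop (Subgroup.eq_top_of_le_card H hcon)
    have hncl' : Subgroup.normalClosure ({(⟨a, haH⟩ : H)} : Set H) = ⊤ := by
      rw [eq_top_iff, ← hHncl]
      apply Subgroup.normalClosure_le_normal
      intro y hy
      rw [SetLike.mem_coe, Subgroup.mem_subgroupOf] at hy
      obtain ⟨m, hm⟩ := Subgroup.mem_zpowers_iff.mp hy
      have : y = (⟨a, haH⟩ : H) ^ m := by
        apply Subtype.ext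
        rw [Subgroup.coe_zpow]; exact hm.symm
      rw [this]
      exact Subgroup.zpow_mem _ (Subgroup.subset_normalClosure (Set.mem_singleton _)) m
    have hIH := IH (Nat.card H) hcardH H rfl ⟨a, haH⟩ hncl' k
    intro y hy
    have hy' : (⟨y, hy⟩ : H) ∈ Subgroup.closure (Set.range ((icPsi (⟨a, haH⟩ : H))^[k])) := by
      rw [hIH]; trivial
    have hmap : (Subgroup.closure (Set.range ((icPsi (⟨a, haH⟩ : H))^[k]))).map H.subtype ≤ B := by
      rw [MonoidHom.map_closure, hB]
      apply Subgroup.closure_mono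
      rintro _ ⟨_, ⟨x, rfl⟩, rfl⟩
      exact ⟨(x : Γ), (icPsi_iter_subtype H ⟨a, haH⟩ k x).symm⟩
    exact hmap ⟨⟨y, hy⟩, hy', rfl⟩
  · -- unique coatom case
    by_contra hBtop
    obtain ⟨M', hM', hBM'⟩ := (eq_top_or_exists_le_coatom B).resolve_left hBtop
    have hMM' : M' = M := hMuniq M' ⟨hM', hAB.trans hBM'⟩
    subst hMM'
    have haM : a ∈ M' := hAM (Subgroup.mem_zpowers a)
    have hnn : ¬ M'.Normal := by
      intro hn
      have : Subgroup.normalClosure ({a} : Set Γ) ≤ M' :=
        Subgroup.normalClosure_le_normal (by rwa [Set.singleton_subset_iff])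
      rw [ha] at this
      exact hM'.1 (eq_top_iff.mpr this)
    have key : ∀ x : Γ, icPsi a x ∈ M' → x ∈ M' := by
      intro x hx
      have h1 : IsCoatom (MulAut.conj x⁻¹ • M') := isCoatom_conj_smul hM' x⁻¹
      have h2 : A ≤ MulAut.conj x⁻¹ • M' := by
        rw [hA, Subgroup.zpowers_le, mem_conj_smul_iff]
        simpa [icPsi] using hx
      have h3 : MulAut.conj x⁻¹ • M' = M' := hMuniq _ ⟨h1, h2⟩
      have h4 := mem_of_conj_smul_eq hM' hnn h3
      simpa using M'.inv_mem h4
    obtain ⟨x, hx⟩ : ∃ x : Γ, x ∉ M' := by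
      by_contra hall
      push Not at hall
      exact hM'.1 (eq_top_iff.mpr fun y _ => hall y)
    have hiter : ∀ j : ℕ, (icPsi a)^[j] x ∉ M' := by
      intro j
      induction j with
      | zero => exact hx
      | succ j ih =>
        rw [Function.iterate_succ_apply']
        exact fun h => ih (key _ h)
    exact hiter k (hBM' (Subgroup.subset_closure ⟨x, rfl⟩))

theorem ic_main {Γ : Type u} [Group Γ] [Finite Γ] (a : Γ)
    (ha : Subgroup.normalClosure ({a} : Set Γ) = ⊤) (k : ℕ) :
    Subgroup.closure (Set.range ((icPsi a)^[k])) = ⊤ :=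
  ic_aux _ Γ rfl a ha k

end

section

variable {G : Type*} [Group G]

/-- `φ c = c (α c)⁻¹`. -/
def icPhi (α : MulAut G) : G → G := fun c => c * (α c)⁻¹

theorem icPhi_comm (α : MulAut G) (c : G) : α (icPhi α c) = icPhi α (α c) := by
  simp [icPhi]

theorem icPhi_iter_comm (α : MulAut G) (k : ℕ) (c : G) :
    α ((icPhi α)^[k] c) = (icPhi α)^[k] (α c) := by
  induction k generalizing c with
  | zero => rfl
  | succ k ih =>
    rw [Function.iterate_succ_apply, Function.iterate_succ_apply, ih, icPhi_comm]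

theorem icPhi_iter_comm_symm (α : MulAut G) (k : ℕ) (c : G) :
    α.symm ((icPhi α)^[k] c) = (icPhi α)^[k] (α.symm c) := by
  apply α.injective
  rw [icPhi_iter_comm]
  simp

/-- the ambient group `G ⋊ ⟨α⟩`. -/
abbrev IcGam (α : MulAut G) := G ⋊[(Subgroup.zpowers α).subtype] (Subgroup.zpowers α)

instance icGam_finite [Finite G] (α : MulAut G) : Finite (IcGam α) :=
  Finite.of_equiv _ SemidirectProduct.equivProd.symm

/-- the element of the ambient group inducing `α`. -/
def icA (α : MulAut G) : IcGam α := inr ⟨α, Subgroup.mem_zpowers α⟩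

theorem icPsi_eq (α : MulAut G) (x : IcGam α) :
    icPsi (icA α) x = inl (icPhi α x.left) * icA α := by
  obtain ⟨g, ⟨z, hz⟩⟩ := x
  obtain ⟨m, rfl⟩ := Subgroup.mem_zpowers_iff.mp hz
  have hc : ∀ y, (α ^ m) (α y) = α ((α ^ m) y) := fun y => by
    have := congrArg (fun f : MulAut G => f y) (Commute.zpow_self α m).eq
    simpa [MulAut.mul_apply] using this
  ext
  · simp [icPsi, icA, icPhi, mul_left, inv_left, hc]
  · simp [icPsi, icA, icPhi, mul_right, inv_right, hc]

theorem icPsi_iter_eq (α : MulAut G) (k : ℕ) (h : G) :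
    (icPsi (icA α))^[k] (inl h * icA α) = inl ((icPhi α)^[k] h) * icA α := by
  induction k generalizing h with
  | zero => rfl
  | succ k ih =>
    rw [Function.iterate_succ_apply, Function.iterate_succ_apply, icPsi_eq, ih]
    congr 3
    simp [icA]

theorem icPsi_iter_succ_eq (α : MulAut G) (k : ℕ) (x : IcGam α) :
    (icPsi (icA α))^[k + 1] x = inl ((icPhi α)^[k + 1] x.left) * icA α := by
  rw [Function.iterate_succ_apply, icPsi_eq, icPsi_iter_eq, Function.iterate_succ_apply]

theorem ic_normalClosure (α : MulAut G)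
    (hG : Subgroup.closure (Set.range (icPhi α)) = ⊤) :
    Subgroup.normalClosure ({icA α} : Set (IcGam α)) = ⊤ := by
  set N := Subgroup.normalClosure ({icA α} : Set (IcGam α)) with hN
  have haN : icA α ∈ N := Subgroup.subset_normalClosure (Set.mem_singleton _)
  have h1 : ∀ g : G, inl (icPhi α g) ∈ N := by
    intro g
    have h2 : icPsi (icA α) (inl g) ∈ N :=
      Subgroup.normalClosure_normal.conj_mem _ haN _
    rw [icPsi_eq] at h2
    have := N.mul_mem h2 (N.inv_mem haN)
    simpa using this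
  have h2 : ∀ g : G, (inl g : IcGam α) ∈ N := by
    intro g
    have h3 : (Subgroup.closure (Set.range (icPhi α))).map (inl : G →* IcGam α) ≤ N := by
      rw [MonoidHom.map_closure, Subgroup.closure_le]
      rintro _ ⟨_, ⟨c, rfl⟩, rfl⟩
      exact h1 c
    apply h3
    rw [hG]
    exact ⟨g, trivial, rfl⟩
  have h3 : ∀ z : Subgroup.zpowers α, (inr z : IcGam α) ∈ N := by
    rintro ⟨z, hz⟩
    obtain ⟨m, rfl⟩ := Subgroup.mem_zpowers_iff.mp hz
    have : (inr ⟨α ^ m, hz⟩ : IcGam α) = icA α ^ m := by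
      rw [icA, ← map_zpow]
      congr 1
    rw [this]
    exact N.zpow_mem haN m
  rw [eq_top_iff]
  intro x _
  rw [← inl_left_mul_inr_right x]
  exact N.mul_mem (h2 _) (h3 _)

theorem ic_generate [Finite G] (α : MulAut G)
    (hG : Subgroup.closure (Set.range (icPhi α)) = ⊤) (k : ℕ) (hk : 1 ≤ k) :
    Subgroup.closure (Set.range ((icPhi α)^[k])) = ⊤ := by
  obtain ⟨j, rfl⟩ : ∃ j, k = j + 1 := ⟨k - 1, by omega⟩
  set H := Subgroup.closure (Set.range ((icPhi α)^[j + 1])) with hH
  -- invariance of `H`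
  have hinv1 : ∀ h ∈ H, α h ∈ H := by
    intro h hh
    have : H.map α.toMonoidHom ≤ H := by
      rw [hH, MonoidHom.map_closure, Subgroup.closure_le]
      rintro _ ⟨_, ⟨c, rfl⟩, rfl⟩
      apply Subgroup.subset_closure
      exact ⟨α c, (icPhi_iter_comm α _ c).symm⟩
    exact this ⟨h, hh, rfl⟩
  have hinv2 : ∀ h ∈ H, α.symm h ∈ H := by
    intro h hh
    have : H.map α.symm.toMonoidHom ≤ H := by
      rw [hH, MonoidHom.map_closure, Subgroup.closure_le]
      rintro _ ⟨_, ⟨c, rfl⟩, rfl⟩
      apply Subgroup.subset_closure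
      exact ⟨α.symm c, (icPhi_iter_comm_symm α _ c).symm⟩
    exact this ⟨h, hh, rfl⟩
  let S : Subgroup (MulAut G) :=
    { carrier := {z | ∀ h, h ∈ H ↔ z h ∈ H}
      one_mem' := fun h => Iff.rfl
      mul_mem' := fun {z₁ z₂} h₁ h₂ h => (h₂ h).trans (h₁ (z₂ h))
      inv_mem' := fun {z} hz h => by
        have := hz (z⁻¹ h)
        rw [show z (z⁻¹ h) = h from MulEquiv.apply_symm_apply z h] at this
        exact this.symm }
  have hαS : α ∈ S := by
    intro h
    refine ⟨hinv1 h, fun hh => ?_⟩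
    have := hinv2 _ hh
    simpa using this
  have hZS : Subgroup.zpowers α ≤ S := by
    rw [Subgroup.zpowers_le]; exact hαS
  have hZ : ∀ z : Subgroup.zpowers α, ∀ h ∈ H, (z : MulAut G) h ∈ H :=
    fun z h hh => (hZS z.2 h).mp hh
  let K : Subgroup (IcGam α) :=
    { carrier := {x | x.left ∈ H}
      one_mem' := H.one_mem
      mul_mem' := fun {x y} hx hy => by
        show (x * y).left ∈ H
        rw [mul_left]
        exact H.mul_mem hx (hZ x.right _ hy)
      inv_mem' := fun {x} hx => by
        show (x⁻¹).left ∈ H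
        rw [inv_left]
        exact hZ x.right⁻¹ _ (H.inv_mem hx) }
  have hmain := ic_main (icA α) (ic_normalClosure α hG) (j + 1)
  have hK : (⊤ : Subgroup (IcGam α)) ≤ K := by
    rw [← hmain, Subgroup.closure_le]
    rintro _ ⟨x, rfl⟩
    show ((icPsi (icA α))^[j + 1] x).left ∈ H
    rw [icPsi_iter_succ_eq]
    have : (inl ((icPhi α)^[j + 1] x.left) * icA α : IcGam α).left = (icPhi α)^[j + 1] x.left := by
      simp [icA]
    rw [this]
    exact Subgroup.subset_closure ⟨_, rfl⟩
  rw [eq_top_iff]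
  intro g _
  have : (inl g : IcGam α) ∈ K := hK trivial
  exact this

end

end Cfsg.Agent.Lib.Helper25
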