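import Mathlib
import Cfsg.Agent.Lib.Helper24.APF.Defs

set_option autoImplicit false

/-! APF-FPA: splitting a `formPerm` of a concatenation. -/

namespace Cfsg.Agent.Lib.Helper24.APF

open Equiv

theorem h25_swap_swap {α : Type*} [DecidableEq α] {x x' y : α} (h1 : x ≠ x') (h2 : x ≠ y)
    (h3 : x' ≠ y) : swap x x' * swap x' y = swap x y * swap x x' := by
  ext z
  simp only [Equiv.Perm.mul_apply]
  by_cases hzx : z = x
  · subst hzx
    rw [swap_apply_of_ne_of_ne h1 h2, swap_apply_left, swap_apply_of_ne_of_ne h1.symm h3]
  · by_cases hzx' : z = x'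
    · subst hzx'
      rw [swap_apply_left, swap_apply_of_ne_of_ne h2.symm h3.symm, swap_apply_right,
        swap_apply_left]
    · by_cases hzy : z = y
      · subst hzy
        rw [swap_apply_right, swap_apply_right, swap_apply_of_ne_of_ne hzx hzx',
          swap_apply_right]
      · rw [swap_apply_of_ne_of_ne hzx' hzy, swap_apply_of_ne_of_ne hzx hzx',
          swap_apply_of_ne_of_ne hzx hzy]

theorem formPerm_append_eq {α : Type*} [DecidableEq α] (x y : α) (X Y : List α)
    (h : (x :: X ++ y :: Y).Nodup) :
    List.formPerm (x :: X ++ y :: Y) =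
      swap x y * List.formPerm (x :: X) * List.formPerm (y :: Y) := by
  induction X generalizing x with
  | nil =>
    rw [List.formPerm_singleton, mul_one]
    exact List.formPerm_cons_cons x y Y
  | cons x' X' ih =>
    have hnd : (x' :: X' ++ y :: Y).Nodup := (List.nodup_cons.mp h).2
    have hxx' : x ≠ x' := by
      intro e
      have := (List.nodup_cons.mp h).1
      apply this
      rw [e]
      simp
    have hxy : x ≠ y := by
      intro e
      have := (List.nodup_cons.mp h).1
      apply this
      rw [e]
      simp
    have hx'y : x' ≠ y := by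
      intro e
      have := (List.nodup_cons.mp hnd).1
      apply this
      rw [e]
      simp
    show List.formPerm (x :: x' :: (X' ++ y :: Y)) = _
    rw [List.formPerm_cons_cons, List.formPerm_cons_cons]
    have := ih x' hnd
    rw [List.cons_append] at this
    rw [this, ← mul_assoc, ← mul_assoc, ← mul_assoc, h25_swap_swap hxx' hxy hx'y]

end Cfsg.Agent.Lib.Helper24.APF
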