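import Mathlib
import Cfsg.Agent.Lib.Helper24.APF.Defs

set_option autoImplicit false

/-! APF-FPS: the translation by one on `ZMod ℓ` as a `formPerm`. -/

namespace Cfsg.Agent.Lib.Helper24.APF

open Equiv

theorem h25_nodup_range_cast (ℓ : ℕ) [NeZero ℓ] :
    ((List.range ℓ).map (fun i : ℕ => (i : ZMod ℓ))).Nodup := by
  apply List.Nodup.map_on _ List.nodup_range
  intro i hi j hj hij
  rw [List.mem_range] at hi hj
  have := (ZMod.natCast_eq_natCast_iff' i j ℓ).mp hij
  rwa [Nat.mod_eq_of_lt hi, Nat.mod_eq_of_lt hj] at this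

theorem addRight_one_eq_formPerm (ℓ : ℕ) [NeZero ℓ] :
    Equiv.addRight (1 : ZMod ℓ) =
      List.formPerm ((List.range ℓ).map (fun i : ℕ => (i : ZMod ℓ))) := by
  ext x
  have hlen : ((List.range ℓ).map (fun i : ℕ => (i : ZMod ℓ))).length = ℓ := by simp
  have hx : x.val < ((List.range ℓ).map (fun i : ℕ => (i : ZMod ℓ))).length := by
    rw [hlen]
    exact ZMod.val_lt x
  have hget : ((List.range ℓ).map (fun i : ℕ => (i : ZMod ℓ)))[x.val] = x := by
    simp
  have h1 := List.formPerm_apply_getElem _ (h25_nodup_range_cast ℓ) x.val hx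
  rw [hget] at h1
  rw [h1]
  simp only [List.getElem_map, List.getElem_range, List.length_map, List.length_range,
    Equiv.coe_addRight, ZMod.natCast_mod]
  push_cast
  rw [ZMod.natCast_zmod_val]

end Cfsg.Agent.Lib.Helper24.APF
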