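import Mathlib
import Cfsg.Agent.Lib.Lead.W2P.Defs
import Cfsg.Agent.Lib.Helper29.LeoFaithful
import Cfsg.Agent.Lib.helper7.BD.D1Defs2
import Cfsg.Agent.Lib.Helper13.BD4VALXY
import Cfsg.Agent.Lib.Helper25.BDTSUB
import Cfsg.Agent.Lib.Helper24.CyclicInertial3
import Cfsg.Agent.Lib.Helper10.BDCHARS
import Cfsg.Agent.Lib.helper2.BDREPS

/-!
# Project W2P (S0720), piece CLASSX : a non-exceptional character of a block of defect one is constant
(an integer) on `P ∖ 1` (helper25)
-/

set_option autoImplicit false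
set_option linter.unusedVariables false
set_option linter.unusedSectionVars false
open scoped ComplexConjugate
open Classical

namespace Cfsg.Agent.Lib.Lead.W2P

open MulAction Cfsg.Agent.Lib.helper6.PermChar Cfsg.Agent.Lib.Helper25

universe u v

section B

open Cfsg.Agent.Lib.helper7.BD

variable {G : Type u} [Group G] [Fintype G] {p : ℕ} [Fact p.Prime]

section root

variable {M : Ideal Cfsg.AlgInt} {P : Sylow p G} {B : Set (Cfsg.IrrCharacter G)}
  {b : Set (Cfsg.IrrCharacter (Subgroup.centralizer ((P : Subgroup G) : Set G)))}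
  {θ : Cfsg.IrrCharacter (Subgroup.centralizer ((P : Subgroup G) : Set G))} {T : Subgroup G}

/-- CLASSX : a non-exceptional character of a block of defect one is constant on `P ∖ 1` -/
theorem class_X (h : RootHyp p M P B b θ T) {t : ℕ}
    (r : Fin t → Cfsg.IrrCharacter (Subgroup.centralizer ((P : Subgroup G) : Set G)))
    (hr : IsReps P b θ T ((Subgroup.centralizer ((P : Subgroup G) : Set G)).relIndex T) t r)
    (χ : Cfsg.IrrCharacter G) (hχ : χ ∈ B) (ε : ℤ)
    (hmul : ∀ j,
      Cfsg.classInner (r j : ↥(Subgroup.centralizer ((P : Subgroup G) : Set G)) → ℂ)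
          (fun c : ↥(Subgroup.centralizer ((P : Subgroup G) : Set G)) => (χ : G → ℂ) (c : G)) -
        Cfsg.classInner (θ : ↥(Subgroup.centralizer ((P : Subgroup G) : Set G)) → ℂ)
          (fun c : ↥(Subgroup.centralizer ((P : Subgroup G) : Set G)) => (χ : G → ℂ) (c : G)) =
        ((ε : ℤ) : ℂ)) :
    TypeB (P : Subgroup G) (χ : G → ℂ) := by
  have hp := (Fact.out : p.Prime)
  obtain ⟨hCT, hTN⟩ := root_C_le_T h
  have hPC : (P : Subgroup G) ≤ Subgroup.centralizer ((P : Subgroup G) : Set G) :=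
    Cfsg.Agent.Lib.helper7.BD.bdchars_le_centralizer (P : Subgroup G) h.card_P
  refine ⟨- ε * ((T.relIndex (Subgroup.normalizer ((P : Subgroup G) : Set G)) : ℕ) : ℤ) *
    ((Cfsg.Agent.Lib.Helper29.leoDeg θ : ℕ) : ℤ), ?_⟩
  have hcardN : (Nat.card T : ℂ) *
      ((T.relIndex (Subgroup.normalizer ((P : Subgroup G) : Set G)) : ℕ) : ℂ) =
      (Nat.card (Subgroup.normalizer ((P : Subgroup G) : Set G)) : ℂ) := by
    have h1 := Subgroup.relIndex_mul_relIndex ⊥ T
      (Subgroup.normalizer ((P : Subgroup G) : Set G)) bot_le hTN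
    rw [Subgroup.relIndex_bot_left, Subgroup.relIndex_bot_left] at h1
    exact_mod_cast h1
  have hT0 : (Nat.card T : ℂ) ≠ 0 := by
    exact_mod_cast Nat.card_pos.ne'
  intro y hy hy1
  have hord : p ∣ orderOf (⟨y, hPC hy⟩ : ↥(Subgroup.centralizer ((P : Subgroup G) : Set G))) := by
    rw [← Subgroup.orderOf_coe]
    show p ∣ orderOf y
    rw [Cfsg.Agent.Lib.helper7.BD.h2_orderOf_of_card_prime p (P : Subgroup G) h.card_P y hy hy1]
  have hX := root_value_X h r hr χ hχ ε hmul ⟨y, hPC hy⟩ hord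
  have hterm : ∀ n : ↥(Subgroup.normalizer ((P : Subgroup G) : Set G)),
      (cjIrr (Subgroup.centralizer ((P : Subgroup G) : Set G)) (n : G) θ :
        ↥(Subgroup.centralizer ((P : Subgroup G) : Set G)) → ℂ) ⟨y, hPC hy⟩ =
      (θ : ↥(Subgroup.centralizer ((P : Subgroup G) : Set G)) → ℂ) 1 := by
    intro n
    have hnC : (n : G) ∈ Subgroup.normalizer
        ((Subgroup.centralizer ((P : Subgroup G) : Set G) : Subgroup G) : Set G) :=
      Cfsg.Agent.Lib.Helper24.ci_normalizer_le (P : Subgroup G) n.2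
    have hmem : (n : G)⁻¹ * y * (n : G) ∈ (P : Subgroup G) := by
      have h1 := (Subgroup.mem_normalizer_iff.mp (inv_mem n.2) y).mp hy
      rwa [inv_inv] at h1
    rw [cjIrr_conj _ hnC θ ⟨(n : G)⁻¹ * y * (n : G), hPC hmem⟩ ⟨y, hPC hy⟩ (by
      show y = (n : G) * ((n : G)⁻¹ * y * (n : G)) * (n : G)⁻¹
      group)]
    exact h.hθP _ hmem
  rw [Finset.sum_congr rfl (fun n _ => hterm n), Finset.sum_const, Finset.card_univ,
    ← Nat.card_eq_fintype_card, nsmul_eq_mul, ← hcardN, Cfsg.Agent.Lib.Helper29.leoDeg_spec θ] at hX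
  apply mul_left_cancel₀ hT0
  rw [hX]
  push_cast
  ring

end root

end B

end Cfsg.Agent.Lib.Lead.W2P
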