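import Mathlib
import Cfsg.Agent.Lib.Lead.W2P.Defs
import Cfsg.Agent.Lib.Helper29.LeoFaithful
import Cfsg.Agent.Lib.helper7.BD.D1Defs2
import Cfsg.Agent.Lib.Helper13.BD4VALXY
import Cfsg.Agent.Lib.Helper25.BDTSUB
import Cfsg.Agent.Lib.Helper24.CyclicInertial3
import Cfsg.Agent.Lib.Helper10.BDCHARS
import Cfsg.Agent.Lib.helper2.BDREPS
import Cfsg.Agent.Lib.Helper1.BD3FACTSaux
import Cfsg.Agent.Lib.Helper27.BD3LAM
import Cfsg.Agent.Lib.Helper11.LinChar
import Cfsg.Agent.Lib.helper8.Burnside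

/-!
# Project W2P (S0720), piece CLASSY : an exceptional character of a block of defect one is of type (b)
or of type (c) on `P` (helper25)
-/

set_option autoImplicit false
set_option linter.unusedVariables false
set_option linter.unusedSectionVars false
set_option linter.style.haveILetI false
open scoped ComplexConjugate
open Classical

namespace Cfsg.Agent.Lib.Lead.W2P

open MulAction Cfsg.Agent.Lib.helper6.PermChar Cfsg.Agent.Lib.Helper25

universe u v

/-- when `|N : C| = p - 1`, the normalizer is transitive on `P ∖ 1` and the orbit sum of a non-trivial linear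
character of `P` is `-|C|` there -/
theorem w2pclassy_trans {G : Type u} [Group G] [Fintype G] {p : ℕ} [Fact p.Prime] (P : Subgroup G)
    [Fintype ↥(Subgroup.normalizer (P : Set G))] [Fintype ↥P]
    (hP : Nat.card P = p)
    (hN : Nat.card (Subgroup.normalizer (P : Set G)) =
      (p - 1) * Nat.card (Subgroup.centralizer (P : Set G)))
    (L : ↥P →* ℂˣ) (hL : L ≠ 1) (x : ↥P) (hx : x ≠ 1) :
    ∑ n : ↥(Subgroup.normalizer (P : Set G)), ((L (P.normalizerMonoidHom n⁻¹ x) : ℂˣ) : ℂ) =
      - (Nat.card (Subgroup.centralizer (P : Set G)) : ℂ) := by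
  set g : ↥(Subgroup.normalizer (P : Set G)) → ↥P := fun n => P.normalizerMonoidHom n⁻¹ x with hg
  have hg1 : ∀ n, g n ≠ 1 := fun n h => hx ((MulEquiv.map_eq_one_iff _).mp h)
  have hmaps : ∀ n ∈ (Finset.univ : Finset ↥(Subgroup.normalizer (P : Set G))),
      g n ∈ (Finset.univ : Finset ↥P).erase 1 :=
    fun n _ => Finset.mem_erase.mpr ⟨hg1 n, Finset.mem_univ _⟩
  -- the fibres have at most `|C|` elements
  have hfib : ∀ y ∈ (Finset.univ : Finset ↥P).erase 1,
      (Finset.univ.filter (fun n : ↥(Subgroup.normalizer (P : Set G)) => g n = y)).card ≤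
        Nat.card (Subgroup.centralizer (P : Set G)) := by
    intro y _
    by_cases hne : (Finset.univ.filter
        (fun n : ↥(Subgroup.normalizer (P : Set G)) => g n = y)).Nonempty
    · obtain ⟨n₀, hn₀⟩ := hne
      have hn₀' : g n₀ = y := (Finset.mem_filter.mp hn₀).2
      rw [Nat.card_eq_fintype_card, ← Finset.card_univ]
      have key : ∀ n : ↥(Subgroup.normalizer (P : Set G)), g n = y →
          ((n : G) * (n₀ : G)⁻¹) ∈ Subgroup.centralizer (P : Set G) := by
        intro n hn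
        rw [← Cfsg.Agent.Lib.helper7.BD.h2_centralizer_singleton_eq p P hP (x : G) x.2
          (fun h => hx (Subtype.ext h)), Subgroup.mem_centralizer_iff]
        intro z hz
        rw [Set.mem_singleton_iff.mp hz]
        have h1 : ((g n : ↥P) : G) = ((g n₀ : ↥P) : G) := by rw [hn, hn₀']
        have h2 : (n : G)⁻¹ * (x : G) * ((n : G)⁻¹)⁻¹ =
            (n₀ : G)⁻¹ * (x : G) * ((n₀ : G)⁻¹)⁻¹ := h1
        rw [inv_inv, inv_inv] at h2
        calc (x : G) * ((n : G) * (n₀ : G)⁻¹)
            = (n : G) * ((n : G)⁻¹ * (x : G) * (n : G)) * (n₀ : G)⁻¹ := by group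
          _ = (n : G) * ((n₀ : G)⁻¹ * (x : G) * (n₀ : G)) * (n₀ : G)⁻¹ := by rw [h2]
          _ = (n : G) * (n₀ : G)⁻¹ * (x : G) := by group
      apply Finset.card_le_card_of_injOn
        (fun n => if h : g n = y then
          (⟨(n : G) * (n₀ : G)⁻¹, key n h⟩ : ↥(Subgroup.centralizer (P : Set G))) else 1)
      · intro n _
        exact Finset.mem_coe.mpr (Finset.mem_univ _)
      · intro n hn m hm hnm
        have hn' := (Finset.mem_filter.mp (Finset.mem_coe.mp hn)).2
        have hm' := (Finset.mem_filter.mp (Finset.mem_coe.mp hm)).2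
        simp only [dif_pos hn', dif_pos hm'] at hnm
        have h3 : (n : G) * (n₀ : G)⁻¹ = (m : G) * (n₀ : G)⁻¹ := congrArg Subtype.val hnm
        exact Subtype.ext (mul_right_cancel h3)
    · rw [Finset.not_nonempty_iff_eq_empty.mp hne, Finset.card_empty]
      exact Nat.zero_le _
  have hcardS : ((Finset.univ : Finset ↥P).erase 1).card = p - 1 := by
    rw [Finset.card_erase_of_mem (Finset.mem_univ _), Finset.card_univ, ← Nat.card_eq_fintype_card,
      hP]
  have htot : ∑ y ∈ (Finset.univ : Finset ↥P).erase 1,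
      (Finset.univ.filter (fun n : ↥(Subgroup.normalizer (P : Set G)) => g n = y)).card =
      ∑ y ∈ (Finset.univ : Finset ↥P).erase 1, Nat.card (Subgroup.centralizer (P : Set G)) := by
    rw [← Finset.card_eq_sum_card_fiberwise hmaps, Finset.card_univ, ← Nat.card_eq_fintype_card, hN,
      Finset.sum_const, hcardS, smul_eq_mul]
  have hall := (Finset.sum_eq_sum_iff_of_le hfib).mp htot
  rw [← Finset.sum_fiberwise_of_maps_to hmaps (fun n => ((L (g n) : ℂˣ) : ℂ))]
  have h3 : ∀ y ∈ (Finset.univ : Finset ↥P).erase 1,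
      ∑ n ∈ Finset.univ.filter (fun n : ↥(Subgroup.normalizer (P : Set G)) => g n = y),
        ((L (g n) : ℂˣ) : ℂ) =
      (Nat.card (Subgroup.centralizer (P : Set G)) : ℂ) * ((L y : ℂˣ) : ℂ) := by
    intro y hy
    have h4 : ∀ n ∈ Finset.univ.filter (fun n : ↥(Subgroup.normalizer (P : Set G)) => g n = y),
        ((L (g n) : ℂˣ) : ℂ) = ((L y : ℂˣ) : ℂ) := by
      intro n hn
      rw [(Finset.mem_filter.mp hn).2]
    rw [Finset.sum_congr rfl h4, Finset.sum_const, hall y hy, nsmul_eq_mul]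
  rw [Finset.sum_congr rfl h3, ← Finset.mul_sum, Finset.sum_erase_eq_sub (Finset.mem_univ _),
    Cfsg.Agent.Lib.Helper11.sum_linChar_eq_zero L hL, map_one, Units.val_one]
  ring

section B

open Cfsg.Agent.Lib.helper7.BD

variable {G : Type u} [Group G] [Fintype G] {p : ℕ} [Fact p.Prime]

section root

variable {M : Ideal Cfsg.AlgInt} {P : Sylow p G} {B : Set (Cfsg.IrrCharacter G)}
  {b : Set (Cfsg.IrrCharacter (Subgroup.centralizer ((P : Subgroup G) : Set G)))}
  {θ : Cfsg.IrrCharacter (Subgroup.centralizer ((P : Subgroup G) : Set G))} {T : Subgroup G}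

/-- the values of an exceptional character on `P ∖ 1` -/
theorem w2pclassy_val [Fintype ↥(Subgroup.centralizer ((P : Subgroup G) : Set G))]
    [Fintype ↥(Subgroup.normalizer ((P : Subgroup G) : Set G))]
    (h : RootHyp p M P B b θ T) {t : ℕ}
    (r : Fin t → Cfsg.IrrCharacter (Subgroup.centralizer ((P : Subgroup G) : Set G)))
    (hr : IsReps P b θ T ((Subgroup.centralizer ((P : Subgroup G) : Set G)).relIndex T) t r)
    (χ : Cfsg.IrrCharacter G) (hχ : χ ∈ B) (ε : ℤ) (j : Fin t)
    (hmul : ∀ j',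
      Cfsg.classInner (r j' : ↥(Subgroup.centralizer ((P : Subgroup G) : Set G)) → ℂ)
          (fun c : ↥(Subgroup.centralizer ((P : Subgroup G) : Set G)) => (χ : G → ℂ) (c : G)) -
        Cfsg.classInner (θ : ↥(Subgroup.centralizer ((P : Subgroup G) : Set G)) → ℂ)
          (fun c : ↥(Subgroup.centralizer ((P : Subgroup G) : Set G)) => (χ : G → ℂ) (c : G)) =
        if j = j' then ((ε : ℤ) : ℂ) else 0) :
    ∃ L : ↥(P : Subgroup G) →* ℂˣ, (∀ x : ↥(P : Subgroup G), L x = 1 → x = 1) ∧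
      ∀ x : ↥(P : Subgroup G), x ≠ 1 →
        (Nat.card (Subgroup.centralizer ((P : Subgroup G) : Set G)) : ℂ) * (χ : G → ℂ) (x : G) =
          ((ε : ℤ) : ℂ) * (θ : ↥(Subgroup.centralizer ((P : Subgroup G) : Set G)) → ℂ) 1 *
            ∑ n : ↥(Subgroup.normalizer ((P : Subgroup G) : Set G)),
              ((L ((P : Subgroup G).normalizerMonoidHom n⁻¹ x) : ℂˣ) : ℂ) := by
  have hp := (Fact.out : p.Prime)
  have hPC : (P : Subgroup G) ≤ Subgroup.centralizer ((P : Subgroup G) : Set G) :=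
    bdchars_le_centralizer (P : Subgroup G) h.card_P
  obtain ⟨Λ, hΛ1, hΛ2, hΛ3⟩ := root_exists_Lambda P h.card_P
  obtain ⟨a, hap, ha0, hξ⟩ := bd3facts_param h Λ hΛ1 hΛ2 hΛ3 (r j) (hr.mem j)
  have ha0' : 0 < a := ha0 (hr.ne j)
  set L : ↥(P : Subgroup G) →* ℂˣ :=
    (powMonoidHom a).comp (Λ.comp (Subgroup.inclusion hPC)) with hL
  have hLinj : ∀ x : ↥(P : Subgroup G), L x = 1 → x = 1 := by
    intro x hx
    have h1 := bd3facts_pow_ne_one Λ hΛ2 hΛ3 (Subgroup.inclusion hPC x) x.2 a ha0' hap hx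
    apply Subtype.ext
    exact congrArg (fun c : ↥(Subgroup.centralizer ((P : Subgroup G) : Set G)) => (c : G)) h1
  refine ⟨L, hLinj, ?_⟩
  intro x hx1
  have hxC : (x : G) ∈ Subgroup.centralizer ((P : Subgroup G) : Set G) := hPC x.2
  have hxG1 : (x : G) ≠ 1 := fun h1 => hx1 (Subtype.ext h1)
  have hord : p ∣ orderOf (⟨(x : G), hxC⟩ :
      ↥(Subgroup.centralizer ((P : Subgroup G) : Set G))) := by
    rw [← Subgroup.orderOf_coe]
    show p ∣ orderOf (x : G)
    rw [h2_orderOf_of_card_prime p (P : Subgroup G) h.card_P (x : G) x.2 hxG1]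
  have hY := root_value_Y h r hr χ hχ ε j hmul ⟨(x : G), hxC⟩ hord
  have hterm : ∀ n : ↥(Subgroup.normalizer ((P : Subgroup G) : Set G)),
      (cjIrr (Subgroup.centralizer ((P : Subgroup G) : Set G)) (n : G) (r j) :
        ↥(Subgroup.centralizer ((P : Subgroup G) : Set G)) → ℂ) ⟨(x : G), hxC⟩ =
      (θ : ↥(Subgroup.centralizer ((P : Subgroup G) : Set G)) → ℂ) 1 *
        ((L ((P : Subgroup G).normalizerMonoidHom n⁻¹ x) : ℂˣ) : ℂ) := by
    intro n
    have hnC : (n : G) ∈ Subgroup.normalizer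
        ((Subgroup.centralizer ((P : Subgroup G) : Set G) : Subgroup G) : Set G) :=
      Cfsg.Agent.Lib.Helper24.ci_normalizer_le (P : Subgroup G) n.2
    rw [cjIrr_conj _ hnC (r j)
      (Subgroup.inclusion hPC ((P : Subgroup G).normalizerMonoidHom n⁻¹ x)) ⟨(x : G), hxC⟩ (by
        show (x : G) = (n : G) * ((n : G)⁻¹ * (x : G) * ((n : G)⁻¹)⁻¹) * (n : G)⁻¹
        group)]
    rw [hξ, h.hθP _ ((P : Subgroup G).normalizerMonoidHom n⁻¹ x).2, mul_comm]
    congr 1
  rw [hY, Finset.sum_congr rfl (fun n _ => hterm n), ← Finset.mul_sum]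
  ring

/-- the sum over `P` of an exceptional character -/
theorem w2pclassy_sum [Fintype ↥(Subgroup.centralizer ((P : Subgroup G) : Set G))]
    [Fintype ↥(Subgroup.normalizer ((P : Subgroup G) : Set G))] [Fintype ↥(P : Subgroup G)]
    (h : RootHyp p M P B b θ T) {t : ℕ}
    (r : Fin t → Cfsg.IrrCharacter (Subgroup.centralizer ((P : Subgroup G) : Set G)))
    (hr : IsReps P b θ T ((Subgroup.centralizer ((P : Subgroup G) : Set G)).relIndex T) t r)
    (χ : Cfsg.IrrCharacter G) (hχ : χ ∈ B) (ε : ℤ) (j : Fin t)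
    (hmul : ∀ j',
      Cfsg.classInner (r j' : ↥(Subgroup.centralizer ((P : Subgroup G) : Set G)) → ℂ)
          (fun c : ↥(Subgroup.centralizer ((P : Subgroup G) : Set G)) => (χ : G → ℂ) (c : G)) -
        Cfsg.classInner (θ : ↥(Subgroup.centralizer ((P : Subgroup G) : Set G)) → ℂ)
          (fun c : ↥(Subgroup.centralizer ((P : Subgroup G) : Set G)) => (χ : G → ℂ) (c : G)) =
        if j = j' then ((ε : ℤ) : ℂ) else 0) :
    (Nat.card (Subgroup.centralizer ((P : Subgroup G) : Set G)) : ℂ) *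
      ∑ x : ↥(P : Subgroup G), (χ : G → ℂ) (x : G) =
    (Nat.card (Subgroup.centralizer ((P : Subgroup G) : Set G)) : ℂ) * (χ : G → ℂ) 1 -
      ((ε : ℤ) : ℂ) * (θ : ↥(Subgroup.centralizer ((P : Subgroup G) : Set G)) → ℂ) 1 *
        (Nat.card (Subgroup.normalizer ((P : Subgroup G) : Set G)) : ℂ) := by
  have hp := (Fact.out : p.Prime)
  obtain ⟨L, hLinj, hval⟩ := w2pclassy_val h r hr χ hχ ε j hmul
  have hcP : Nat.card ↥(P : Subgroup G) = p := h.card_P
  -- a non-trivial element of `P`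
  have hnt : Nontrivial ↥(P : Subgroup G) := by
    rw [← Finite.one_lt_card_iff_nontrivial, hcP]
    exact hp.one_lt
  obtain ⟨x0, hx0⟩ := exists_ne (1 : ↥(P : Subgroup G))
  have hLcne : ∀ n : ↥(Subgroup.normalizer ((P : Subgroup G) : Set G)),
      L.comp ((P : Subgroup G).normalizerMonoidHom n⁻¹).toMonoidHom ≠ 1 := by
    intro n hn
    have h1 : (L.comp ((P : Subgroup G).normalizerMonoidHom n⁻¹).toMonoidHom) x0 = 1 := by
      rw [hn]; rfl
    have h2 := hLinj _ h1
    exact hx0 ((MulEquiv.map_eq_one_iff _).mp h2)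
  have hsumLc : ∀ n : ↥(Subgroup.normalizer ((P : Subgroup G) : Set G)),
      ∑ x : ↥(P : Subgroup G), ((L ((P : Subgroup G).normalizerMonoidHom n⁻¹ x) : ℂˣ) : ℂ) = 0 :=
    fun n => Cfsg.Agent.Lib.Helper11.sum_linChar_eq_zero _ (hLcne n)
  have h1P : (1 : ↥(P : Subgroup G)) ∈ (Finset.univ : Finset ↥(P : Subgroup G)) := Finset.mem_univ _
  rw [← Finset.add_sum_erase Finset.univ _ h1P, mul_add, Finset.mul_sum]
  have h2 : ∀ x ∈ (Finset.univ : Finset ↥(P : Subgroup G)).erase 1,
      (Nat.card (Subgroup.centralizer ((P : Subgroup G) : Set G)) : ℂ) * (χ : G → ℂ) (x : G) =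
      ((ε : ℤ) : ℂ) * (θ : ↥(Subgroup.centralizer ((P : Subgroup G) : Set G)) → ℂ) 1 *
        ∑ n : ↥(Subgroup.normalizer ((P : Subgroup G) : Set G)),
          ((L ((P : Subgroup G).normalizerMonoidHom n⁻¹ x) : ℂˣ) : ℂ) :=
    fun x hx => hval x (Finset.ne_of_mem_erase hx)
  rw [Finset.sum_congr rfl h2, ← Finset.mul_sum, Finset.sum_comm]
  have h3 : ∀ n : ↥(Subgroup.normalizer ((P : Subgroup G) : Set G)),
      ∑ x ∈ (Finset.univ : Finset ↥(P : Subgroup G)).erase 1,
        ((L ((P : Subgroup G).normalizerMonoidHom n⁻¹ x) : ℂˣ) : ℂ) = -1 := by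
    intro n
    rw [Finset.sum_erase_eq_sub h1P, hsumLc n, map_one, map_one, Units.val_one]
    ring
  rw [Finset.sum_congr rfl (fun n _ => h3 n), Finset.sum_const, Finset.card_univ,
    ← Nat.card_eq_fintype_card, nsmul_eq_mul]
  have : ((1 : ↥(P : Subgroup G)) : G) = 1 := rfl
  rw [this]
  ring

/-- CLASSY : an exceptional character of a block of defect one is of type (b) or (c) -/
theorem class_Y (h : RootHyp p M P B b θ T) {t : ℕ}
    (r : Fin t → Cfsg.IrrCharacter (Subgroup.centralizer ((P : Subgroup G) : Set G)))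
    (hr : IsReps P b θ T ((Subgroup.centralizer ((P : Subgroup G) : Set G)).relIndex T) t r)
    (y : Fin t → Cfsg.IrrCharacter G) (hy : Function.Injective y) (hyB : ∀ j, y j ∈ B) (ε : ℤ)
    (hε : ε = 1 ∨ ε = -1)
    (hmul : ∀ j j',
      Cfsg.classInner (r j' : ↥(Subgroup.centralizer ((P : Subgroup G) : Set G)) → ℂ)
          (fun c : ↥(Subgroup.centralizer ((P : Subgroup G) : Set G)) => (y j : G → ℂ) (c : G)) -
        Cfsg.classInner (θ : ↥(Subgroup.centralizer ((P : Subgroup G) : Set G)) → ℂ)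
          (fun c : ↥(Subgroup.centralizer ((P : Subgroup G) : Set G)) => (y j : G → ℂ) (c : G)) =
        if j = j' then ((ε : ℤ) : ℂ) else 0)
    (hreg : ∀ j j', ∀ g : G, ¬ p ∣ orderOf g → (y j : G → ℂ) g = (y j' : G → ℂ) g) (j : Fin t) :
    TypeB (P : Subgroup G) (y j : G → ℂ) ∨ TypeC p (P : Subgroup G) (y j) := by
  have hp := (Fact.out : p.Prime)
  obtain ⟨hCT, hTN⟩ := root_C_le_T h
  have hCN : Subgroup.centralizer ((P : Subgroup G) : Set G) ≤
      Subgroup.normalizer ((P : Subgroup G) : Set G) := hCT.trans hTN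
  have hcP : Nat.card ↥(P : Subgroup G) = p := h.card_P
  have hC0 : (Nat.card (Subgroup.centralizer ((P : Subgroup G) : Set G)) : ℂ) ≠ 0 := by
    exact_mod_cast Nat.card_pos.ne'
  obtain ⟨L, hLinj, hval⟩ := w2pclassy_val h r hr (y j) (hyB j) ε j (hmul j)
  have hnt : Nontrivial ↥(P : Subgroup G) := by
    rw [← Finite.one_lt_card_iff_nontrivial, hcP]
    exact hp.one_lt
  obtain ⟨x0, hx0⟩ := exists_ne (1 : ↥(P : Subgroup G))
  have hLne : L ≠ 1 := by
    intro hL1
    have h1 : L x0 = 1 := by rw [hL1]; rfl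
    exact hx0 (hLinj x0 h1)
  have hθ1 := Cfsg.Agent.Lib.Helper29.leoDeg_spec θ
  have hθpos := Cfsg.Agent.Lib.Helper29.leoDeg_pos θ
  set φ : G → ℂ := fun g => if hg : g ∈ (P : Subgroup G) then ((L ⟨g, hg⟩ : ℂˣ) : ℂ) else 0 with hφ
  have hφP : ∀ (g : G) (hg : g ∈ (P : Subgroup G)), φ g = ((L ⟨g, hg⟩ : ℂˣ) : ℂ) :=
    fun g hg => dif_pos hg
  by_cases hex : ∃ j', j' ≠ j
  · -- type (c)
    right
    obtain ⟨j', hj'⟩ := hex
    refine ⟨ε * ((Cfsg.Agent.Lib.Helper29.leoDeg θ : ℕ) : ℤ), φ, ?_, ?_, ?_, ?_, ?_⟩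
    · rcases hε with h1 | h1 <;> rw [h1] <;> simp <;> omega
    · constructor
      · rw [hφP 1 (Subgroup.one_mem _)]
        have : (⟨1, Subgroup.one_mem _⟩ : ↥(P : Subgroup G)) = 1 := rfl
        rw [this, map_one, Units.val_one]
      · intro x hx z hz
        rw [hφP x hx, hφP z hz, hφP _ (Subgroup.mul_mem _ hx hz), ← Units.val_mul, ← map_mul]
        rfl
    · refine ⟨(x0 : G), x0.2, ?_⟩
      rw [hφP _ x0.2]
      intro h1
      apply hx0
      apply hLinj
      apply Units.ext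
      rw [Units.val_one, ← h1]
    · intro x hx hx1
      have hx1' : (⟨x, hx⟩ : ↥(P : Subgroup G)) ≠ 1 := fun h1 => hx1 (congrArg Subtype.val h1)
      have h1 := hval ⟨x, hx⟩ hx1'
      unfold per
      have h2 : ∀ n : ↥(Subgroup.normalizer ((P : Subgroup G) : Set G)),
          φ ((n : G)⁻¹ * x * (n : G)) =
          ((L ((P : Subgroup G).normalizerMonoidHom n⁻¹ ⟨x, hx⟩) : ℂˣ) : ℂ) := by
        intro n
        have hmem : (n : G)⁻¹ * x * (n : G) ∈ (P : Subgroup G) := by
          have h3 := (Subgroup.mem_normalizer_iff.mp (inv_mem n.2) x).mp hx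
          rwa [inv_inv] at h3
        have e : (⟨(n : G)⁻¹ * x * (n : G), hmem⟩ : ↥(P : Subgroup G)) =
            (P : Subgroup G).normalizerMonoidHom n⁻¹ ⟨x, hx⟩ := by
          apply Subtype.ext
          show (n : G)⁻¹ * x * (n : G) = (n : G)⁻¹ * x * ((n : G)⁻¹)⁻¹
          rw [inv_inv]
        rw [hφP _ hmem, e]
      rw [Finset.sum_congr rfl (fun n _ => h2 n)]
      apply mul_left_cancel₀ hC0
      rw [h1, hθ1]
      push_cast
      field_simp
    · refine ⟨y j', fun h1 => hj' (hy h1), fun g hg => hreg j' j g hg, ?_⟩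
      have hs1 := w2pclassy_sum h r hr (y j) (hyB j) ε j (hmul j)
      have hs2 := w2pclassy_sum h r hr (y j') (hyB j') ε j' (hmul j')
      have h11 : (y j' : G → ℂ) 1 = (y j : G → ℂ) 1 := by
        apply hreg
        rw [orderOf_one]
        exact fun hd => hp.one_lt.ne' (Nat.dvd_one.mp hd)
      rw [h11, ← hs1] at hs2
      exact mul_left_cancel₀ hC0 hs2
  · -- `t = 1` : type (b)
    left
    have ht : t = 1 := by
      have h1 : t ≤ 1 := by
        apply Fin.subsingleton_iff_le_one.mp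
        constructor
        intro a c
        by_contra hac
        push Not at hex
        exact hac ((hex a).trans (hex c).symm)
      have h2 : 0 < t := Fin.pos j
      omega
    have het := hr.et
    rw [ht, mul_one] at het
    -- `|N : C| = p - 1`
    have hrel := Subgroup.relIndex_mul_relIndex (Subgroup.centralizer ((P : Subgroup G) : Set G)) T
      (Subgroup.normalizer ((P : Subgroup G) : Set G)) hCT hTN
    have hfdvd : (Subgroup.centralizer ((P : Subgroup G) : Set G)).relIndex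
        (Subgroup.normalizer ((P : Subgroup G) : Set G)) ∣ p - 1 :=
      Cfsg.Agent.Lib.helper8.h8_relIndex_centralizer_normalizer_dvd_prime p hp (P : Subgroup G)
        h.card_P
    have hp1 : 0 < p - 1 := by have := hp.two_le; omega
    have hf : (Subgroup.centralizer ((P : Subgroup G) : Set G)).relIndex
        (Subgroup.normalizer ((P : Subgroup G) : Set G)) = p - 1 := by
      apply le_antisymm (Nat.le_of_dvd hp1 hfdvd)
      rw [← hrel, het]
      have hk : 0 < T.relIndex (Subgroup.normalizer ((P : Subgroup G) : Set G)) := by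
        rcases Nat.eq_zero_or_pos (T.relIndex (Subgroup.normalizer ((P : Subgroup G) : Set G)))
          with h0 | h0
        · exfalso
          rw [h0, mul_zero] at hrel
          rw [← hrel] at hfdvd
          have := Nat.eq_zero_of_zero_dvd hfdvd
          omega
        · exact h0
      exact Nat.le_mul_of_pos_right _ hk
    have hN : Nat.card (Subgroup.normalizer ((P : Subgroup G) : Set G)) =
        (p - 1) * Nat.card (Subgroup.centralizer ((P : Subgroup G) : Set G)) := by
      have h1 := Subgroup.relIndex_mul_relIndex ⊥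
        (Subgroup.centralizer ((P : Subgroup G) : Set G))
        (Subgroup.normalizer ((P : Subgroup G) : Set G)) bot_le hCN
      rw [Subgroup.relIndex_bot_left, Subgroup.relIndex_bot_left, hf] at h1
      rw [← h1, mul_comm]
    refine ⟨- ε * ((Cfsg.Agent.Lib.Helper29.leoDeg θ : ℕ) : ℤ), ?_⟩
    intro x hx hx1
    have hx1' : (⟨x, hx⟩ : ↥(P : Subgroup G)) ≠ 1 := fun h1 => hx1 (congrArg Subtype.val h1)
    have h1 := hval ⟨x, hx⟩ hx1'
    rw [w2pclassy_trans (P : Subgroup G) hcP hN L hLne ⟨x, hx⟩ hx1', hθ1] at h1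
    apply mul_left_cancel₀ hC0
    rw [h1]
    push_cast
    ring

end root

end B

end Cfsg.Agent.Lib.Lead.W2P
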