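import Mathlib
import Cfsg.Agent.Lib.helper7.CEU.Defs
import Cfsg.Agent.Lib.Helper24.STCI1

/-!
# CEU (designer helper7), row T6a `t6_milnor` (helper25), verbatim: orthogonal long / short pair, Milnor's trick with a fourth index.
-/

set_option autoImplicit false

namespace Cfsg.Agent.Lib.helper7.CEU

open Cfsg.Agent.Lib.helper15.St2 Cfsg.Agent.Lib.helper7.Ce Cfsg.Agent.Lib.helper3.STC Cfsg.Agent.Lib.Helper27.STU

open Cfsg.Agent.Lib.helper7.CEC (I2 I3 I4 U2 U3)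

section T

variable {F : Type*} [Field F] [StarRing F] {od : Prop} {ι : Type*} {Γ G : Type*} [Group Γ] [Group G] {S : SysU F od ι G} {σ : Γ →* G}

/-- `ab a ≠ ab b` unpacked -/
theorem ceut6a_ne {a b : ι ⊕ ι} (h : ab a ≠ ab b) : a ≠ b ∧ a ≠ ng b := by
  constructor
  · intro e; exact h (by rw [e])
  · intro e; exact h (by rw [e, ab_ng])

/-- T6 [S-M]  `xs c d u = cm (xs c e u) (xs e d 1)`, `e` from `h4 a c d`. -/
theorem t6_milnor (h : IsCE σ) (h4 : I4 ι) :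
    ∀ a c d : ι ⊕ ι, ab c ≠ ab d → ab a ≠ ab c → ab a ≠ ab d → ∀ (ξ : Lam F od) (u : F), CL σ (S.xl a ξ) (S.xs c d u) := by
  intro a c d hcd hac had ξ u
  obtain ⟨e, hea, hec, hed⟩ := h4 a c d
  obtain ⟨hcd1, hcd2⟩ := ceut6a_ne hcd
  obtain ⟨hac1, hac2⟩ := ceut6a_ne hac
  obtain ⟨had1, had2⟩ := ceut6a_ne had
  obtain ⟨hea1, hea2⟩ := ceut6a_ne hea
  obtain ⟨hec1, hec2⟩ := ceut6a_ne hec
  obtain ⟨hed1, hed2⟩ := ceut6a_ne hed
  have hce2 : c ≠ ng e := fun e' => hec2 (by rw [e', ng_ng])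
  have hcna : c ≠ ng a := fun e' => hac2 (by rw [e', ng_ng])
  have h3 := S.comm3 c e d hec1.symm hce2 hed1 hed2 hcd1 hcd2 u 1
  rw [mul_one] at h3
  have e1 : S.xs c d u = cm (S.xs c e u) (S.xs e d 1) := h3.symm
  rw [e1]
  apply CL.symm
  apply h.milnor
  · exact (S.comm_ls a c e hec1.symm hce2 hcna hea1 ξ u).symm
  · exact (S.comm_ls a e d hed1 hed2 hea2 had1.symm ξ 1).symm

end T

end Cfsg.Agent.Lib.helper7.CEU
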