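import Mathlib
import Cfsg.Agent.Lib.helper7.CEU.Defs
import Cfsg.Agent.Lib.Helper24.STUM0
import Cfsg.Agent.Lib.Helper24.STUB1
import Cfsg.Agent.Lib.helper8.STULA1

/-!
# CEU (designer helper7), row W8a (helper25), verbatim: `Zh_map`, `Zh_ker` (the torus lifts of the long root elements, two indices).
-/

set_option autoImplicit false

namespace Cfsg.Agent.Lib.helper7.CEU

open Cfsg.Agent.Lib.helper15.St2 Cfsg.Agent.Lib.helper7.Ce Cfsg.Agent.Lib.helper3.STC Cfsg.Agent.Lib.Helper27.STU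

open Cfsg.Agent.Lib.helper7.CEC (I2 I3 I4 U2 U3)

section W

variable {F : Type*} [Field F] [StarRing F] {od : Prop} {ι : Type*} {Γ G : Type*} [Group Γ] [Group G] {S : SysU F od ι G} {σ : Γ →* G} {h : IsCE σ}

/-- W8 [S-M]  (two indices) `σ (Zh a x) = xl a (tr x)`. -/
theorem Zh_map [DecidableEq ι] (h : IsCE σ) (hH : S.HH) {ξ₁ ξ₂ : Lam F od} (h1 : ξ₁.c ≠ 0) (h2 : ξ₂.c ≠ 0)
    (hN : (ξ₁.c / ξ₂.c) * star (ξ₁.c / ξ₂.c) ≠ 1) (a : ι ⊕ ι) (x : F) :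
    σ (Zh S h ξ₁ ξ₂ a x) = S.xl a (Lam.tr x) := by
  have hg := hH.2 a ξ₁ ξ₂ h1 h2
  set ρ : F := ξ₁.c / ξ₂.c with hρ
  have hρ0 : ρ ≠ 0 := div_ne_zero h1 h2
  have hsρ : star ρ ≠ 0 := fun e0 => hρ0 (by simpa using congrArg star e0)
  have hd0n : d0h ρ * star (d0h ρ) = 1 := hg.1.d0_norm
  have hda : Cfsg.Agent.Lib.Helper27.STU.dhl a ρ a = ρ := by simp [Cfsg.Agent.Lib.Helper27.STU.dhl]
  set δ : F := Cfsg.Agent.Lib.Helper27.STU.dhl a ρ a * (d0h ρ)⁻¹ with hδ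
  have hδδ : δ * star δ = ρ * star ρ := by
    rw [hδ, hda, star_mul', star_inv₀]
    have : (d0h ρ)⁻¹ * (star (d0h ρ))⁻¹ = 1 := by
      rw [← mul_inv, hd0n, inv_one]
    calc ρ * (d0h ρ)⁻¹ * (star ρ * (star (d0h ρ))⁻¹) = ρ * star ρ * ((d0h ρ)⁻¹ * (star (d0h ρ))⁻¹) := by ring
      _ = ρ * star ρ := by rw [this, mul_one]
  have hN1 : ρ * star ρ - 1 ≠ 0 := sub_ne_zero.mpr hN
  unfold Zh
  rw [map_cm, map_lf, map_lf]
  have hcj := hg.2.2 a (Lam.tr ((ρ * star ρ - 1)⁻¹ * x))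
  rw [Equiv.Perm.one_apply, Lam.act_tr, hδδ] at hcj
  have e1 : cm (S.hl a ξ₁ ξ₂) (S.xl a (Lam.tr ((ρ * star ρ - 1)⁻¹ * x))) =
      cj (S.hl a ξ₁ ξ₂) (S.xl a (Lam.tr ((ρ * star ρ - 1)⁻¹ * x))) * (S.xl a (Lam.tr ((ρ * star ρ - 1)⁻¹ * x)))⁻¹ := by
    unfold cm cj
    group
  rw [e1, hcj, ← S.xl_inv, ← Lam.tr_neg, S.addl, ← Lam.tr_add]
  congr 2
  field_simp
  ring

/-- W8 [S-M]  `Zh a x = 1` if `star x = x`. -/
theorem Zh_ker (h : IsCE σ) (ξ₁ ξ₂ : Lam F od) (a : ι ⊕ ι) {x : F} (hx : star x = x) : Zh S h ξ₁ ξ₂ a x = 1 := by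
  set ρ : F := ξ₁.c / ξ₂.c with hρ
  have hk : star ((ρ * star ρ - 1)⁻¹ * x) = (ρ * star ρ - 1)⁻¹ * x := by
    rw [star_mul', star_inv₀, star_sub, star_mul', star_star, star_one, hx, mul_comm (star ρ) ρ]
  have htr : (Lam.tr ((ρ * star ρ - 1)⁻¹ * x) : Lam F od) = 1 := by
    apply Lam.ext
    · rfl
    · show (ρ * star ρ - 1)⁻¹ * x - star ((ρ * star ρ - 1)⁻¹ * x) = 0
      rw [hk, sub_self]
  unfold Zh
  rw [htr, S.xl_one]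
  have hz : σ (lf h (1 : G)) = 1 := map_lf h 1
  rw [cm_eq_one_iff]
  exact (h.comm_of_map_one hz _).symm

end W

end Cfsg.Agent.Lib.helper7.CEU
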