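import Mathlib
import Cfsg.Agent.Lib.helper7.CEU.Defs
import Cfsg.Agent.Lib.helper23.CEUG5
import Cfsg.Agent.Lib.Helper24.STUM0
import Cfsg.Agent.Lib.Helper24.STUM1
import Cfsg.Agent.Lib.helper8.STULA1

/-!
# CEU (designer helper7), row W8c `Zh_eqv` (helper25), verbatim: equivariance of the torus lift `Zh` of the long root elements.
On G5 `hl_ratio` (`helper23.CEUG5`), `IsMon.cj_hl` (`Helper24.STUM1`), `Lam.act_tr` (`helper8.STULA1`).
-/

set_option autoImplicit false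

namespace Cfsg.Agent.Lib.helper7.CEU

open Cfsg.Agent.Lib.helper15.St2 Cfsg.Agent.Lib.helper7.Ce Cfsg.Agent.Lib.helper3.STC Cfsg.Agent.Lib.Helper27.STU

open Cfsg.Agent.Lib.helper7.CEC (I2 I3 I4 U2 U3)

section W

variable {F : Type*} [Field F] [StarRing F] {od : Prop} {ι : Type*} {Γ G : Type*} [Group Γ] [Group G] {S : SysU F od ι G} {σ : Γ →* G} {h : IsCE σ}

/-- W8 [M]  equivariance of `Zh`. -/
theorem Zh_eqv (h : IsCE σ) {ξ₁ ξ₂ : Lam F od} (h1 : ξ₁.c ≠ 0) (h2 : ξ₂.c ≠ 0) {g : G} {π : Equiv.Perm (ι ⊕ ι)} {d : ι ⊕ ι → F} {d0 : F}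
    (hg : S.IsMon g π d d0) {e : Γ} (he : σ e = g) (a : ι ⊕ ι) (x : F) :
    cj e (Zh S h ξ₁ ξ₂ a x) = Zh S h ξ₁ ξ₂ (π a) (d a * star (d a) * x) := by
  have hda : d a ≠ 0 := hg.1.d_ne a
  have hd0 : d0 ≠ 0 := hg.1.d0_ne
  have hd0n : d0 * star d0 = 1 := hg.1.d0_norm
  have hsd0 : star d0 ≠ 0 := fun e0 => hd0 (by simpa using congrArg star e0)
  have hsda : star (d a) ≠ 0 := fun e0 => hda (by simpa using congrArg star e0)
  set δ : F := d a * d0⁻¹ with hδ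
  have hδδ : δ * star δ = d a * star (d a) := by
    rw [hδ, star_mul', star_inv₀]
    have : d0⁻¹ * (star d0)⁻¹ = 1 := by
      rw [← mul_inv, hd0n, inv_one]
    calc d a * d0⁻¹ * (star (d a) * (star d0)⁻¹) = d a * star (d a) * (d0⁻¹ * (star d0)⁻¹) := by ring
      _ = d a * star (d a) := by rw [this, mul_one]
  have hN : d a * star (d a) ≠ 0 := mul_ne_zero hda hsda
  unfold Zh
  rw [cj_cm]
  apply h.cm_congr
  · rw [map_cj, map_lf, map_lf, he, SysU.IsMon.cj_hl S hg]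
    apply hl_ratio S (π a)
    · rw [Lam.act_c, hδδ]; exact mul_ne_zero hN h1
    · rw [Lam.act_c, hδδ]; exact mul_ne_zero hN h2
    · exact h1
    · exact h2
    · rw [Lam.act_c, Lam.act_c, hδδ, mul_div_mul_left _ _ hN]
  · rw [map_cj, map_lf, map_lf, he, hg.2.2, Lam.act_tr, hδδ]
    congr 2
    ring

end W

end Cfsg.Agent.Lib.helper7.CEU
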