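import Cfsg.Agent.Lib.helper17.SLN.Defs

/-!
# SLN S2: the swap automorphism `swM` on the standard elements of `SL₂`.
-/

set_option autoImplicit false

namespace Cfsg.Agent.Lib.helper17.SLN

open Cfsg.Agent.Lib.helper17.SLP

universe u v w v'

section S

variable {F : Type u} [Field F]

/-- S2 [S]  2×2 identities; the inverse of `wM` is `!![0,-1;1,0]` (`inv_eq_of_mul_eq_one_right`), of `hM s` is `hM s⁻¹` (`slpm1_hM_inv`). -/
theorem swM_xM (t : F) : swM (xM t) = yM t := by
  apply Subtype.ext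
  ext i j
  fin_cases i <;> fin_cases j <;> simp [swM, xM, yM]

theorem swM_yM (t : F) : swM (yM t) = xM t := by
  apply Subtype.ext
  ext i j
  fin_cases i <;> fin_cases j <;> simp [swM, xM, yM]

theorem swM_hM (s : Fˣ) : swM (hM s) = (hM s)⁻¹ := by
  symm
  apply inv_eq_of_mul_eq_one_right
  apply Subtype.ext
  show (hM s).1 * (swM (hM s)).1 = 1
  ext i j
  fin_cases i <;> fin_cases j <;> simp [swM, hM, Matrix.mul_apply, Fin.sum_univ_two]

theorem swM_wM : swM (wM : Matrix.SpecialLinearGroup (Fin 2) F) = wM⁻¹ := by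
  symm
  apply inv_eq_of_mul_eq_one_right
  apply Subtype.ext
  show (wM : Matrix.SpecialLinearGroup (Fin 2) F).1 * (swM wM).1 = 1
  ext i j
  fin_cases i <;> fin_cases j <;> simp [swM, wM, Matrix.mul_apply, Fin.sum_univ_two]

end S

end Cfsg.Agent.Lib.helper17.SLN
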