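import Cfsg.Agent.Lib.helper7.SPC.Defs

/-! SPC row E2B (`dual_vec`), helper25. -/

namespace Cfsg.Agent.Lib.helper7.SPC

universe u

open Module

variable {F : Type u} [Field F]

theorem spce2b_pow_pow {V : Type u} [AddCommGroup V] [Module F V] (N : V →ₗ[F] V) (a b : ℕ) (x : V) :
    (N ^ a) ((N ^ b) x) = (N ^ (a + b)) x := by
  rw [pow_add]; rfl

theorem spce2b_pow_ge {V : Type u} [AddCommGroup V] [Module F V] (N : V →ₗ[F] V) (k : ℕ) (x : V)
    (hxk : (N ^ k) x = 0) (a : ℕ) (ha : k ≤ a) : (N ^ a) x = 0 := by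
  obtain ⟨c, rfl⟩ := Nat.exists_eq_add_of_le ha
  rw [add_comm, ← spce2b_pow_pow, hxk, map_zero]

theorem spce2b_linindep {V : Type u} [AddCommGroup V] [Module F V] (N : V →ₗ[F] V) (k : ℕ) (x : V)
    (hx : (N ^ (k - 1)) x ≠ 0) (hxk : (N ^ k) x = 0) :
    LinearIndependent F (fun a : Fin k => (N ^ (a : ℕ)) x) := by
  rw [Fintype.linearIndependent_iff]
  intro g hg
  have key : ∀ n : ℕ, ∀ i : Fin k, (i : ℕ) < n → g i = 0 := by
    intro n
    induction n with
    | zero => intro i hi; omega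
    | succ n ih =>
      intro i hi
      by_cases hlt : (i : ℕ) < n
      · exact ih i hlt
      · have hin : (i : ℕ) = n := by omega
        have hik : (i : ℕ) < k := i.2
        have h1 := congrArg (N ^ (k - 1 - n)) hg
        rw [map_sum, map_zero, Finset.sum_eq_single i] at h1
        · rw [map_smul, spce2b_pow_pow, hin] at h1
          have : k - 1 - n + n = k - 1 := by omega
          rw [this] at h1
          rcases smul_eq_zero.mp h1 with h | h
          · exact h
          · exact absurd h hx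
        · intro j _ hji
          rw [map_smul, spce2b_pow_pow]
          by_cases hjn : (j : ℕ) < n
          · rw [ih j hjn, zero_smul]
          · have hjne : (j : ℕ) ≠ (i : ℕ) := fun h => hji (Fin.ext h)
            rw [spce2b_pow_ge N k x hxk _ (by omega), smul_zero]
        · intro h; exact absurd (Finset.mem_univ i) h
  intro i
  exact key (i + 1) i (Nat.lt_succ_self _)

theorem spce2b_flip_surj {V : Type u} [AddCommGroup V] [Module F V] [FiniteDimensional F V]
    (B : V →ₗ[F] V →ₗ[F] F) (hnd : ∀ x, (∀ y, B x y = 0) → x = 0) (f : V →ₗ[F] F) :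
    ∃ y : V, ∀ v : V, B v y = f v := by
  have hN : LinearMap.BilinForm.Nondegenerate B := LinearMap.BilinForm.Nondegenerate.ofSeparatingLeft hnd
  have hNf : LinearMap.BilinForm.Nondegenerate (LinearMap.flip B) := hN.flip
  refine ⟨(LinearMap.BilinForm.toDual (LinearMap.flip B) hNf).symm f, fun v => ?_⟩
  have := LinearMap.BilinForm.apply_toDual_symm_apply (hB := hNf) f v
  simpa using this

theorem spce2b_exists_functional {V : Type u} [AddCommGroup V] [Module F V] {ι : Type*}
    (v : ι → V) (hv : LinearIndependent F v) (c : ι → F) :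
    ∃ f : V →ₗ[F] F, ∀ i, f (v i) = c i := by
  obtain ⟨g, hg⟩ := LinearMap.exists_extend
    ((Finsupp.linearCombination F c).comp (hv.repr : Submodule.span F (Set.range v) →ₗ[F] ι →₀ F))
  refine ⟨g, fun i => ?_⟩
  have hmem : v i ∈ Submodule.span F (Set.range v) := Submodule.subset_span ⟨i, rfl⟩
  have h1 := LinearMap.congr_fun hg ⟨v i, hmem⟩
  simp only [LinearMap.comp_apply, Submodule.subtype_apply] at h1
  rw [h1]
  have h2 : hv.repr ⟨v i, hmem⟩ = Finsupp.single i 1 := hv.repr_eq_single i _ rfl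
  rw [h2]
  simp

theorem dual_vec {V : Type u} [AddCommGroup V] [Module F V] [FiniteDimensional F V] (B : V →ₗ[F] V →ₗ[F] F)
    (N : V →ₗ[F] V) (hnd : ∀ x, (∀ y, B x y = 0) → x = 0) (k : ℕ) (hk0 : 0 < k) (x : V)
    (hx : (N ^ (k - 1)) x ≠ 0) (hxk : (N ^ k) x = 0) :
    ∃ y : V, ∀ a : ℕ, B ((N ^ a) x) y = if a + 1 = k then (-1) ^ a else 0 := by
  obtain ⟨f, hf⟩ := spce2b_exists_functional (fun a : Fin k => (N ^ (a : ℕ)) x)
    (spce2b_linindep N k x hx hxk) (fun a : Fin k => if (a : ℕ) + 1 = k then (-1 : F) ^ (a : ℕ) else 0)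
  obtain ⟨y, hy⟩ := spce2b_flip_surj B hnd f
  refine ⟨y, fun a => ?_⟩
  rw [hy]
  by_cases hak : a < k
  · exact hf ⟨a, hak⟩
  · rw [spce2b_pow_ge N k x hxk a (by omega), map_zero, if_neg (by omega)]

end Cfsg.Agent.Lib.helper7.SPC
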