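import Cfsg.Agent.Lib.helper7.SPC.Defs

/-! SPC row C4 (`nil_list`), helper25. -/

namespace Cfsg.Agent.Lib.helper7.SPC

universe u

open Module

variable {F : Type u} [Field F]

/-- the entries of the powers of the shift matrix -/
theorem spcc4_shift_pow_entry (k j : ℕ) (a b : Fin k) :
    (shiftM k F ^ j) a b = if a.val = b.val + j then 1 else 0 := by
  induction j generalizing a b with
  | zero =>
    rw [pow_zero, Matrix.one_apply]
    simp only [add_zero, Fin.ext_iff]
  | succ n ih =>
    rw [pow_succ, Matrix.mul_apply]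
    by_cases hab : a.val = b.val + (n + 1)
    · rw [if_pos hab]
      have hb : b.val + 1 < k := by have := a.2; omega
      rw [Finset.sum_eq_single (⟨b.val + 1, hb⟩ : Fin k)]
      · rw [ih, if_pos (by simp only []; omega)]
        simp [shiftM]
      · intro c _ hc
        have : ¬ (c.val = b.val + 1) := fun h => hc (Fin.ext h)
        simp [shiftM, this]
      · intro h; exact absurd (Finset.mem_univ _) h
    · rw [if_neg hab]
      apply Finset.sum_eq_zero
      intro c _
      rw [ih]
      by_cases h1 : a.val = c.val + n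
      · have : ¬ (c.val = b.val + 1) := by omega
        simp [shiftM, this]
      · rw [if_neg h1, zero_mul]

theorem spcc4_shift_pow_zero (k e : ℕ) (h : k ≤ e) : shiftM k F ^ e = 0 := by
  ext a b
  rw [spcc4_shift_pow_entry, Matrix.zero_apply, if_neg]
  have := a.2
  omega

theorem spcc4_blkA_pow (k : ℕ) (c : F) (e : ℕ) (h : k ≤ e) : (blkA k c).N ^ e = 0 := by
  show (Matrix.toLin' (shiftM k F)) ^ e = 0
  rw [← Matrix.toLin'_pow, spcc4_shift_pow_zero k e h, map_zero]

theorem spcc4_blkH_pow (k : ℕ) (e : ℕ) (h : k ≤ e) : (blkH k F).N ^ e = 0 := by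
  show (Matrix.toLin' (Matrix.fromBlocks (shiftM k F) 0 0 (shiftM k F))) ^ e = 0
  rw [← Matrix.toLin'_pow, Matrix.fromBlocks_diagonal_pow, spcc4_shift_pow_zero k e h,
    Matrix.fromBlocks_zero, map_zero]

theorem spcc4_TSum_pow_apply (T T' : Trip F) (e : ℕ) (z : T.V × T'.V) :
    ((TSum T T').N ^ e) z = ((T.N ^ e) z.1, (T'.N ^ e) z.2) := by
  induction e generalizing z with
  | zero => rfl
  | succ n ih =>
    rw [pow_succ, pow_succ, pow_succ]
    exact (ih ((TSum T T').N z)).trans rfl

theorem spcc4_TSum_pow_zero (T T' : Trip F) (e : ℕ) (h : T.N ^ e = 0) (h' : T'.N ^ e = 0) :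
    (TSum T T').N ^ e = 0 := by
  apply LinearMap.ext
  intro z
  have := spcc4_TSum_pow_apply T T' e z
  rw [h, h'] at this
  exact this

theorem spcc4_TZero_pow (e : ℕ) : (TZero F).N ^ e = 0 := by
  apply LinearMap.ext
  intro z
  rfl

theorem nil_list (L : List (Blk F)) (e : ℕ) (h : ∀ b ∈ L, b.len ≤ e) : (sumList L).N ^ e = 0 := by
  induction L with
  | nil => exact spcc4_TZero_pow e
  | cons b L ih =>
    rw [sumList_cons]
    apply spcc4_TSum_pow_zero
    · have hb := h b List.mem_cons_self
      cases b with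
      | A k c => exact spcc4_blkA_pow k c e hb
      | H k => exact spcc4_blkH_pow k e hb
    · exact ih (fun b' hb' => h b' (List.mem_cons_of_mem _ hb'))

end Cfsg.Agent.Lib.helper7.SPC
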