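import Mathlib
import Cfsg.Agent.Lib.helper17.T3.DefsC
import Cfsg.Agent.Lib.helper17.T3CD2
import Cfsg.Agent.Lib.helper4.T3CH5
import Cfsg.Agent.Lib.Helper21.T3CA1a
import Cfsg.Agent.Lib.Helper22.T3CA1c

/-!
# Project T3C (designer helper17, for S2110), row D4a `Z2_diag` — CORE (helper25)

`t3cd4ah25_core`: the statement of `Z2_diag` with the output of [A3] `Cub.exists_nm_div_sq` (`u ≠ 0`, `algebraMap (nm u) * u⁻¹ ^ 2 = l`) as hypotheses.
Own-name copies: `t3cd4ah25_sharp_div` (= [A1d] `Cub.sharp_nm_div_sq`), `t3cd4ah25_Yeqv` (= [E1] `LongLift.eqv`).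
-/

set_option autoImplicit false

namespace Cfsg.Agent.Lib.helper17.T3

open Cfsg.Agent.Lib.helper15.St2 Cfsg.Agent.Lib.helper7.Ce

variable {F K : Type*} [Field F] [Field K] [Algebra F K]

/-- own-name copy of [A1d] `Cub.sharp_nm_div_sq` -/
theorem t3cd4ah25_sharp_div (C : Cub F K) {u : K} (hu : u ≠ 0) : C.sharp (algebraMap F K (C.nm u) * u⁻¹ ^ 2) = u ^ 2 := by
  have h1 : C.θ u ≠ 0 := (map_ne_zero C.θ).2 hu
  have h2 : C.θ (C.θ u) ≠ 0 := (map_ne_zero C.θ).2 h1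
  unfold Cub.sharp
  simp only [map_mul, map_pow, map_inv₀, C.hnm, C.θ3]
  field_simp

variable {C : Cub F K} {G Γ : Type*} [Group G] [Group Γ]

section D

variable {S : SysT C G} {σ : Γ →* G} {L : ShortLift S σ}

/-- own-name copy of [E1] `LongLift.eqv` -/
theorem t3cd4ah25_Yeqv (hC : C.Good) (M : LongLift S σ L) (e : Γ) (k k' : ZMod 6) {a b : K} {c0 : F} (ha : a ≠ 0) (hb : b ≠ 0) (hk : S.MapsPair (σ e) k k' a)
    (hk1 : S.MapsPair (σ e) (k + 1) (k' + 1) b) (hab : a * b = algebraMap F K c0) (c : F) : cj e (M.Y k c) = M.Y k' (c0 * c) := by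
  obtain ⟨s, hs⟩ := hC.tr_surj (-c)
  have h1 : M.Y k c = cm (L.X k s) (L.X (k + 1) 1) := by
    rw [M.ss1, mul_one, hs, neg_neg]
  rw [h1, cj_cm, L.eqv e k k' a ha hk, L.eqv e (k + 1) (k' + 1) b hb hk1, M.ss1]
  congr 1
  have h2 : a * s * (b * 1) = c0 • s := by
    rw [Algebra.smul_def, ← hab]; ring
  rw [h2, Cub.tr_smul, hs]; ring

/-- CORE of [D4a] `Z2_diag`: with `u` from [A3] given. -/
theorem t3cd4ah25_core (hC : C.Good) (h : IsCE σ) (M : LongLift S σ L) (k : ZMod 6) {l u : K} (hu : u ≠ 0)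
    (hul : algebraMap F K (C.nm u) * u⁻¹ ^ 2 = l) (s t : K) : Z2 L M k (l * s) (l * t) = Z2 L M k s t := by
  have hσe : σ (lf h (S.hs (k + 1) u)) = S.hs (k + 1) u := map_lf h _
  generalize lf h (S.hs (k + 1) u) = e at hσe
  have hu2 : u ^ 2 ≠ 0 := pow_ne_zero 2 hu
  have hlu : l * u ^ 2 = algebraMap F K (C.nm u) := by
    rw [← hul]; field_simp
  have hul' : u ^ 2 * l = algebraMap F K (C.nm u) := by rw [mul_comm, hlu]
  have hl : l ≠ 0 := by
    rw [← hul]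
    exact SysT.chs_ne_zero C 5 hu
  have hsl : C.sharp l = u ^ 2 := by rw [← hul]; exact t3cd4ah25_sharp_div C hu
  have e5 : k + 1 + 5 = k := by
    have : (1 : ZMod 6) + 5 = 0 := by decide
    rw [add_assoc, this, add_zero]
  have e1 : k + 1 + 1 = k + 2 := by
    have : (1 : ZMod 6) + 1 = 2 := by decide
    rw [add_assoc, this]
  have hp5 : S.MapsPair (σ e) k k l := by
    have h5 := S.hs_mapsPair (k + 1) 5 u hu
    rw [e5] at h5
    rw [hσe, ← hul]
    exact h5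
  have hp0 : S.MapsPair (σ e) (k + 1) (k + 1) (u ^ 2) := by
    have h0 := S.hs_mapsPair (k + 1) 0 u hu
    rw [add_zero] at h0
    rw [hσe]
    exact h0
  have hp1 : S.MapsPair (σ e) (k + 2) (k + 2) l := by
    have h1 := S.hs_mapsPair (k + 1) 1 u hu
    rw [e1] at h1
    rw [hσe, ← hul]
    exact h1
  have hp1' : S.MapsPair (σ e) (k + 1 + 1) (k + 1 + 1) l := by rw [e1]; exact hp1
  have hcen : cj e (Z2 L M k s t) = Z2 L M k s t := h.cj_of_map_one (Z2_map M k s t) e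
  have hY0 : ∀ c, cj e (M.Y k c) = M.Y k (C.nm u * c) := t3cd4ah25_Yeqv hC M e k k hl hu2 hp5 hp0 hlu
  have hY1 : ∀ c, cj e (M.Y (k + 1) c) = M.Y (k + 1) (C.nm u * c) := t3cd4ah25_Yeqv hC M e (k + 1) (k + 1) hu2 hl hp0 hp1' hul'
  rw [← hcen]
  unfold Z2 R2
  rw [cj_mul, cj_inv, cj_cm, cj_mul, cj_mul, L.eqv e k k l hl hp5, L.eqv e (k + 2) (k + 2) l hl hp1, L.eqv e (k + 1) (k + 1) (u ^ 2) hu2 hp0, hY0, hY1]
  have i1 : -(C.tr (C.sharp (l * s) * (l * t))) = C.nm u * -(C.tr (C.sharp s * t)) := by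
    have : C.sharp (l * s) * (l * t) = C.nm u • (C.sharp s * t) := by
      rw [Cub.sharp_mul, hsl, Algebra.smul_def, ← hul']; ring
    rw [this, Cub.tr_smul]; ring
  have i2 : C.cross (l * s) (l * t) = u ^ 2 * C.cross s t := by
    rw [Cub.cross_mul, hsl]
  have i3 : C.tr (l * s * C.sharp (l * t)) = C.nm u * C.tr (s * C.sharp t) := by
    have : l * s * C.sharp (l * t) = C.nm u • (s * C.sharp t) := by
      rw [Cub.sharp_mul, hsl, Algebra.smul_def, ← hlu]; ring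
    rw [this, Cub.tr_smul]
  rw [i1, i2, i3]

end D

end Cfsg.Agent.Lib.helper17.T3
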