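import Mathlib
import Cfsg.Agent.Lib.Helper25.T3CD4acore
import Cfsg.Agent.Lib.Helper13.T3CA3

/-!
# Project T3C (designer helper17, for S2110), row D4a `Z2_diag` — VERBATIM (helper25)
-/

set_option autoImplicit false

namespace Cfsg.Agent.Lib.helper17.T3

open Cfsg.Agent.Lib.helper15.St2 Cfsg.Agent.Lib.helper7.Ce

variable {F K : Type*} [Field F] [Field K] [Algebra F K]

variable {C : Cub F K} {G Γ : Type*} [Group G] [Group Γ]

section D

variable {S : SysT C G} {σ : Γ →* G} {L : ShortLift S σ}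

/-- [D4a] [M] invariance under the torus. -/
theorem Z2_diag [Finite K] (hC : C.Good) (h : IsCE σ) (hT : CLT S σ) (M : LongLift S σ L) (k : ZMod 6) {l : K} (hl : l ≠ 0) (s t : K) : Z2 L M k (l * s) (l * t) = Z2 L M k s t := by
  obtain ⟨u, hu, hul⟩ := Cub.exists_nm_div_sq C l hl
  exact t3cd4ah25_core hC h M k hu hul s t

end D

end Cfsg.Agent.Lib.helper17.T3
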