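import Mathlib
import Cfsg.Prelude.Def_GeometricClasses
import Cfsg.Agent.Lib.Helper27.ASC.Defs
import Cfsg.Agent.Lib.Lead.ASCU.Defs
import Cfsg.Agent.Lib.helper2.UXDefs
import Cfsg.Agent.Lib.Helper19.ASU.Defs
import Cfsg.Agent.Lib.Helper19.ASUADJ
import Cfsg.Agent.Lib.Helper24.UXFLD62.Defs
import Cfsg.Agent.Lib.Helper1.ASGCLIF4
import Cfsg.Agent.Lib.Helper24.UXFLD62K0A
import Cfsg.Agent.Lib.Helper24.UXFLD62K0B
import Cfsg.Agent.Lib.Helper20.UXFLD62COORD

set_option autoImplicit false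
set_option linter.unusedVariables false
set_option linter.unusedSectionVars false
set_option linter.style.haveILetI false

/-!
# Project UX, sub-project FLD62 (helper24), piece DETK (helper25) : `fld62_det_kappa`

`det κ = N_{K/F}(κ)²` (coordinates `F^6 ≃ K × K`, `LinearMap.det_conj`, `LinearMap.det_prodMap`), `N_{K/F}(κ) = κ^21`
(`FiniteField.algebraMap_norm_eq_pow`), `κ^9 = κ* κ = 1`, hence `κ³ = 1` and `κ` is a scalar.
Extras: `uxfld62detk_norm` (the norm formula, coordinates as hypotheses), `uxfld62detk_core` (the piece with the coordinate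
statements and the power formula for the adjoint as hypotheses).
-/

namespace Cfsg.Agent.Lib.helper2.UX

open Cfsg Cfsg.Geo Cfsg.Agent.Lib.Helper27.ASC Cfsg.Agent.Lib.Lead.ASCU Cfsg.Agent.Lib.Helper19.ASU
open scoped MatrixGroups Matrix

variable {F : Type*} [Field F] [Fintype F]

/-- the norm formula: for `κ` in a field subalgebra `K` of degree `3` over a field with `4` elements with `F^6 = K u ⊕ K w`,
`det κ = ν²` where `ν • 1 = κ^21`. -/
theorem uxfld62detk_norm (hF : Fintype.card F = 4) (K : Subalgebra F (Matrix (Fin 6) (Fin 6) F))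
    (hK : IsFieldSubalgebra 3 K) {u w : Fin 6 → F}
    (hinj : ∀ a ∈ K, ∀ b ∈ K, a *ᵥ u + b *ᵥ w = 0 → a = 0 ∧ b = 0)
    (hsurj : ∀ x : Fin 6 → F, ∃ a ∈ K, ∃ b ∈ K, x = a *ᵥ u + b *ᵥ w)
    (κ : Matrix (Fin 6) (Fin 6) F) (hκ : κ ∈ K) :
    ∃ ν : F, κ.det = ν ^ 2 ∧ κ ^ 21 = ν • (1 : Matrix (Fin 6) (Fin 6) F) := by
  classical
  have hfield := asgclif_isField K hK (by norm_num)
  letI : Field K := hfield.toField
  letI : Fintype K := Fintype.ofFinite K
  -- the coordinate isomorphism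
  let Φ : (K × K) →ₗ[F] (Fin 6 → F) :=
    { toFun := fun p => (p.1 : Matrix (Fin 6) (Fin 6) F) *ᵥ u + (p.2 : Matrix (Fin 6) (Fin 6) F) *ᵥ w
      map_add' := fun p p' => by
        simp only [Prod.fst_add, Prod.snd_add, Subalgebra.coe_add, Matrix.add_mulVec]
        abel
      map_smul' := fun c p => by
        simp only [Prod.smul_fst, Prod.smul_snd, Subalgebra.coe_smul, Matrix.smul_mulVec, RingHom.id_apply,
          smul_add] }
  have hΦinj : Function.Injective Φ := by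
    rw [← LinearMap.ker_eq_bot, LinearMap.ker_eq_bot']
    intro p hp
    obtain ⟨h1, h2⟩ := hinj p.1 p.1.2 p.2 p.2.2 hp
    exact Prod.ext (Subtype.ext h1) (Subtype.ext h2)
  have hΦsurj : Function.Surjective Φ := by
    intro x
    obtain ⟨a, ha, b, hb, hx⟩ := hsurj x
    exact ⟨(⟨a, ha⟩, ⟨b, hb⟩), hx.symm⟩
  let e : (K × K) ≃ₗ[F] (Fin 6 → F) := LinearEquiv.ofBijective Φ ⟨hΦinj, hΦsurj⟩
  let κK : K := ⟨κ, hκ⟩
  let L : K →ₗ[F] K := LinearMap.mulLeft F κK
  have hconj : Matrix.toLin' κ =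
      (e : (K × K) →ₗ[F] (Fin 6 → F)) ∘ₗ (L.prodMap L) ∘ₗ (e.symm : (Fin 6 → F) →ₗ[F] (K × K)) := by
    apply LinearMap.ext
    intro x
    obtain ⟨p, rfl⟩ := e.surjective x
    simp only [LinearMap.coe_comp, LinearEquiv.coe_coe, Function.comp_apply, LinearEquiv.symm_apply_apply,
      LinearMap.prodMap_apply, Matrix.toLin'_apply]
    show κ *ᵥ ((p.1 : Matrix (Fin 6) (Fin 6) F) *ᵥ u + (p.2 : Matrix (Fin 6) (Fin 6) F) *ᵥ w) =
      ((κK * p.1 : K) : Matrix (Fin 6) (Fin 6) F) *ᵥ u + ((κK * p.2 : K) : Matrix (Fin 6) (Fin 6) F) *ᵥ w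
    rw [Matrix.mulVec_add, Matrix.mulVec_mulVec, Matrix.mulVec_mulVec]
    rfl
  have hdet : κ.det = (LinearMap.det L) ^ 2 := by
    rw [← LinearMap.det_toLin', hconj, LinearMap.det_conj, LinearMap.det_prodMap, sq]
  refine ⟨LinearMap.det L, hdet, ?_⟩
  have hnorm : LinearMap.det L = Algebra.norm F κK := by
    rw [Algebra.norm_apply]
    rfl
  have hcardK : Nat.card K = 64 := by
    have h1 := Module.natCard_eq_pow_finrank (K := F) (V := K)
    rw [hK.finrank_eq, Nat.card_eq_fintype_card (α := F), hF] at h1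
    rw [h1]; norm_num
  have hcardF : Nat.card F = 4 := by rw [Nat.card_eq_fintype_card, hF]
  have hpow := FiniteField.algebraMap_norm_eq_pow (K := F) (K' := K) (x := κK)
  rw [hcardK, hcardF] at hpow
  have h21 : (64 - 1) / (4 - 1) = 21 := by norm_num
  rw [h21, ← hnorm] at hpow
  have h2 := congrArg (fun z : K => (z : Matrix (Fin 6) (Fin 6) F)) hpow
  rw [Subalgebra.coe_algebraMap, Algebra.algebraMap_eq_smul_one] at h2
  rw [h2]
  rfl

/-- a primitive cube root of unity in the field with four elements -/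
theorem uxfld62detk_omega (hF : Fintype.card F = 4) : ∃ ω : F, ω ^ 2 + ω + 1 = 0 := by
  classical
  have hex : ∃ x : F, x ≠ 0 ∧ x ≠ 1 := by
    by_contra h
    push Not at h
    have h1 : (Finset.univ : Finset F) ⊆ {0, 1} := by
      intro x _
      by_cases hx : x = 0
      · simp [hx]
      · simp [h x hx]
    have h2 := Finset.card_le_card h1
    have h3 : ({0, 1} : Finset F).card ≤ 2 := Finset.card_le_two
    rw [Finset.card_univ, hF] at h2
    omega
  obtain ⟨x, hx0, hx1⟩ := hex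
  refine ⟨x, ?_⟩
  have h3 : x ^ 3 = 1 := by
    have := FiniteField.pow_card_sub_one_eq_one x hx0
    rwa [hF] at this
  have h4 : (x - 1) * (x ^ 2 + x + 1) = 0 := by
    have : (x - 1) * (x ^ 2 + x + 1) = x ^ 3 - 1 := by ring
    rw [this, h3, sub_self]
  rcases mul_eq_zero.mp h4 with h | h
  · exact absurd (sub_eq_zero.mp h) hx1
  · exact h

/-- DET-K with the coordinate statements and the power formula for the adjoint as hypotheses. -/
theorem uxfld62detk_core (hF : Fintype.card F = 4) (K : Subalgebra F (Matrix (Fin 6) (Fin 6) F))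
    (hK : IsFieldSubalgebra 3 K) {u w : Fin 6 → F}
    (hinj : ∀ a ∈ K, ∀ b ∈ K, a *ᵥ u + b *ᵥ w = 0 → a = 0 ∧ b = 0)
    (hsurj : ∀ x : Fin 6 → F, ∃ a ∈ K, ∃ b ∈ K, x = a *ᵥ u + b *ᵥ w)
    (hstarpow : ∀ k ∈ K, uadj 2 k = k ^ 8)
    (κ : Matrix (Fin 6) (Fin 6) F) (hκ : κ ∈ K) (hκ1 : uadj 2 κ * κ = 1) (hdet : κ.det = 1) :
    ∃ c : F, κ = c • (1 : Matrix (Fin 6) (Fin 6) F) := by
  classical
  obtain ⟨ν, hν2, hν21⟩ := uxfld62detk_norm hF K hK hinj hsurj κ hκ
  rw [hdet] at hν2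
  have hν0 : ν ≠ 0 := by
    rintro rfl
    norm_num at hν2
  have hν3 : ν ^ 3 = 1 := by
    have := FiniteField.pow_card_sub_one_eq_one ν hν0
    rwa [hF] at this
  have hν : ν = 1 := by
    calc ν = ν * ν ^ 2 := by rw [← hν2, mul_one]
      _ = ν ^ 3 := by ring
      _ = 1 := hν3
  rw [hν, one_smul] at hν21
  have h9 : κ ^ 9 = 1 := by
    rw [hstarpow κ hκ] at hκ1
    rw [pow_succ, hκ1]
  have h3 : κ ^ 3 = 1 := by
    have h18 : κ ^ 21 = (κ ^ 9) ^ 2 * κ ^ 3 := by rw [← pow_mul, ← pow_add]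
    rw [h18, h9, one_pow, one_mul] at hν21
    exact hν21
  obtain ⟨ω, hω⟩ := uxfld62detk_omega hF
  have hfield := asgclif_isField K hK (by norm_num)
  letI : Field K := hfield.toField
  let κK : K := ⟨κ, hκ⟩
  let ωK : K := algebraMap F K ω
  have hωK : ωK ^ 2 + ωK + 1 = 0 := by
    have := congrArg (algebraMap F K) hω
    simpa [ωK] using this
  have hκK3 : κK ^ 3 = 1 := Subtype.ext h3
  have hprod : (κK - 1) * (κK - ωK) * (κK - ωK ^ 2) = 0 := by
    have : (κK - 1) * (κK - ωK) * (κK - ωK ^ 2) = κK ^ 3 - 1 := by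
      linear_combination (-κK ^ 2 + ωK * κK - ωK + 1) * hωK
    rw [this, hκK3, sub_self]
  have hval : ∀ c : F, ((algebraMap F K c : K) : Matrix (Fin 6) (Fin 6) F) = c • 1 := by
    intro c
    rw [Subalgebra.coe_algebraMap, Algebra.algebraMap_eq_smul_one]
  rcases mul_eq_zero.mp hprod with h | h
  · rcases mul_eq_zero.mp h with h | h
    · refine ⟨1, ?_⟩
      have h1 : κK = 1 := sub_eq_zero.mp h
      have := congrArg (fun z : K => (z : Matrix (Fin 6) (Fin 6) F)) h1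
      simpa [κK] using this
    · refine ⟨ω, ?_⟩
      have h1 : κK = ωK := sub_eq_zero.mp h
      have := congrArg (fun z : K => (z : Matrix (Fin 6) (Fin 6) F)) h1
      simp only [κK, ωK, hval] at this
      exact this
  · refine ⟨ω ^ 2, ?_⟩
    have h1 : κK = ωK ^ 2 := sub_eq_zero.mp h
    have h2 : ωK ^ 2 = algebraMap F K (ω ^ 2) := by rw [map_pow]
    rw [h2] at h1
    have := congrArg (fun z : K => (z : Matrix (Fin 6) (Fin 6) F)) h1
    simp only [κK, hval] at this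
    exact this

/-- DET-K : `det κ = N_{K/F}(κ)² = κ^42` (`F^6 ≃ K × K`, `LinearMap.det_conj`, `LinearMap.det_prodMap`, `Algebra.norm_apply`,
`FiniteField.algebraMap_norm_eq_pow`); `κ^9 = 1` (`fld62_star_pow`); so `κ³ = 1`, `(κ - 1)(κ - ω)(κ - ω²) = 0`. -/
theorem fld62_det_kappa (hF : Fintype.card F = 4) (K : Subalgebra F (Matrix (Fin 6) (Fin 6) F))
    (hK : IsFieldSubalgebra 3 K) (hstar : ∀ k ∈ K, uadj 2 k ∈ K) {u w : Fin 6 → F} (hp : Fld62Pair K u w)
    (κ : Matrix (Fin 6) (Fin 6) F) (hκ : κ ∈ K) (hκ1 : uadj 2 κ * κ = 1) (hdet : κ.det = 1) :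
    ∃ c : F, κ = c • (1 : Matrix (Fin 6) (Fin 6) F) :=
  uxfld62detk_core hF K hK (fun a ha b hb h => fld62_coord_inj hF K hK hstar hp a b ha hb h)
    (fun x => fld62_coord_surj hF K hK hstar hp x) (fld62_star_pow hF K hK hstar) κ hκ hκ1 hdet

end Cfsg.Agent.Lib.helper2.UX
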