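import Mathlib
import Cfsg.Agent.Lib.Helper9.A2S.Defs

set_option autoImplicit false

namespace Cfsg.Agent.Lib.Helper9.A2S

open Equiv

/-- A2S-W0 -/
theorem sign_sumComm (β : Type*) [Fintype β] [DecidableEq β] :
    Perm.sign (Equiv.sumComm β β : Perm (β ⊕ β)) = (-1) ^ Fintype.card β := by
  have h : (Equiv.sumComm β β : Perm (β ⊕ β)) =
      (Equiv.boolProdEquivSum β).permCongr
        (Equiv.prodCongrLeft (fun _ : β => (Equiv.swap false true : Perm Bool))) := by
    ext x
    rcases x with b | b <;> simp [Equiv.permCongr_apply, Equiv.boolProdEquivSum]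
  rw [h, Perm.sign_permCongr, Perm.sign_prodCongrLeft]
  simp

end Cfsg.Agent.Lib.Helper9.A2S
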