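import Mathlib
import Cfsg.Agent.Lib.Helper9.A2S.Defs
import Cfsg.Agent.Lib.Helper25.A2SW0
import Cfsg.Agent.Lib.Helper25.A2SW1

set_option autoImplicit false

namespace Cfsg.Agent.Lib.Helper9.A2S

open Equiv

theorem a2sW3_sumCongr_inj {β γ : Type*} {a a' : Perm β} {b b' : Perm γ}
    (h : Perm.sumCongr a b = Perm.sumCongr a' b') : a = a' ∧ b = b' := by
  have h1 : Perm.sumCongrHom β γ (a, b) = Perm.sumCongrHom β γ (a', b') := by
    simpa using h
  have h2 := Perm.sumCongrHom_injective h1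
  exact ⟨congrArg Prod.fst h2, congrArg Prod.snd h2⟩

/-- A2S-W3 -/
theorem center_even_wrSub {β : Type*} [Fintype β] [DecidableEq β] (T' : Subgroup (Perm β))
    (heven : Even (Fintype.card β)) (z p τ : Perm β)
    (hzc : ∀ c ∈ T', (∀ t ∈ T', c * t = t * c) → c = 1 ∨ c = z)
    (hp : p ∈ T') (hp1 : p ≠ 1) (hps : Perm.sign p = 1) (hτ : τ ∈ T') (hτs : Perm.sign τ = -1) :
    ∀ c ∈ wrSub T' ⊓ alternatingGroup (β ⊕ β),
      (∀ w ∈ wrSub T' ⊓ alternatingGroup (β ⊕ β), c * w = w * c) →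
        c = 1 ∨ c = Perm.sumCongr z z := by
  intro c hc hcen
  have hsE : (Equiv.sumComm β β : Perm (β ⊕ β)) ∈ wrSub T' ⊓ alternatingGroup (β ⊕ β) := by
    refine Subgroup.mem_inf.mpr ⟨a2sW1_s_mem T', Perm.mem_alternatingGroup.mpr ?_⟩
    rw [sign_sumComm, heven.neg_one_pow]
  have hmemE : ∀ {a b : Perm β}, a ∈ T' → b ∈ T' → Perm.sign a * Perm.sign b = 1 →
      Perm.sumCongr a b ∈ wrSub T' ⊓ alternatingGroup (β ⊕ β) := by
    intro a b ha hb hab
    refine Subgroup.mem_inf.mpr ⟨a2sW1_sumCongr_mem_wr T' ha hb, Perm.mem_alternatingGroup.mpr ?_⟩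
    rw [Perm.sign_sumCongr, hab]
  obtain ⟨a, ha, b, hb, h | h⟩ := (mem_wrSub_iff T' c).mp (Subgroup.mem_inf.mp hc).1
  · -- c = sumCongr a b
    have h1 := hcen _ hsE
    rw [h, a2sW1_s_mul] at h1
    obtain ⟨hab, -⟩ := a2sW3_sumCongr_inj (mul_right_cancel h1)
    subst hab
    have hcent : ∀ t ∈ T', a * t = t * a := by
      intro t ht
      rcases Int.units_eq_one_or (Perm.sign t) with hst | hst
      · have hw := hcen _ (hmemE ht T'.one_mem (by rw [hst, map_one, mul_one]))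
        rw [h, Perm.sumCongr_mul, Perm.sumCongr_mul] at hw
        exact (a2sW3_sumCongr_inj hw).1
      · have hw := hcen _ (hmemE ht hτ (by rw [hst, hτs]; norm_num))
        rw [h, Perm.sumCongr_mul, Perm.sumCongr_mul] at hw
        exact (a2sW3_sumCongr_inj hw).1
    rcases hzc a ha hcent with h1 | h1
    · left
      rw [h, h1]
      simp
    · right
      rw [h, h1]
  · -- c = sumCongr a b * s
    exfalso
    have hw := hcen _ (hmemE hp T'.one_mem (by rw [hps, map_one, mul_one]))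
    rw [h] at hw
    have e1 : Perm.sumCongr a b * (Equiv.sumComm β β : Perm (β ⊕ β)) * Perm.sumCongr p 1
        = Perm.sumCongr a (b * p) * (Equiv.sumComm β β : Perm (β ⊕ β)) := by
      rw [mul_assoc, a2sW1_s_mul, ← mul_assoc, Perm.sumCongr_mul, mul_one]
    have e2 : Perm.sumCongr p 1 * (Perm.sumCongr a b * (Equiv.sumComm β β : Perm (β ⊕ β)))
        = Perm.sumCongr (p * a) b * (Equiv.sumComm β β : Perm (β ⊕ β)) := by
      rw [← mul_assoc, Perm.sumCongr_mul, one_mul]
    rw [e1, e2] at hw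
    have h3 := (a2sW3_sumCongr_inj (mul_right_cancel hw)).1
    apply hp1
    have : p * a = 1 * a := by rw [one_mul]; exact h3.symm
    exact mul_right_cancel this

end Cfsg.Agent.Lib.Helper9.A2S
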