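import Mathlib
import Cfsg.Agent.Lib.helper8.A7R.Defs
import Cfsg.Agent.Lib.helper8.SylowBasic
import Cfsg.Agent.Lib.helper8.SubgroupCard

/-! A7R row B11 (`orders`), helper25: the possible element orders. -/

set_option autoImplicit false

namespace Cfsg.Agent.Lib.helper8.A7R

universe u

variable {G : Type u} [Group G]

open Cfsg.Agent.Lib.helper8

/-- a power of order `d` for every divisor `d` of the order -/
theorem a7rb11_pow_order [Finite G] (g : G) (d : ℕ) (hd : d ∣ orderOf g) :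
    orderOf (g ^ (orderOf g / d)) = d :=
  orderOf_pow_orderOf_div (orderOf_pos g).ne' hd

theorem a7rb11_mem_cz_pow (g : G) (k : ℕ) : g ∈ Cz (g ^ k) := by
  rw [Subgroup.mem_centralizer_iff]
  intro h hh
  rw [Set.mem_singleton_iff] at hh
  rw [hh, ← pow_succ, ← pow_succ']

/-- G2 (own copy): a self-centralizing prime -/
theorem a7rb11_selfc [Finite G] (p : ℕ) (h : SelfC G p) (g : G) (hg : p ∣ orderOf g) :
    orderOf g = p := by
  have h1 := a7rb11_pow_order g p hg
  have h2 : g ∈ Cz (g ^ (orderOf g / p)) := a7rb11_mem_cz_pow g _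
  rw [h _ h1] at h2
  have h3 := orderOf_dvd_of_mem_zpowers h2
  rw [h1] at h3
  exact Nat.dvd_antisymm h3 hg

/-- no elements of order 9 -/
theorem a7rb11_no9 (hS : Std G) (h3 : St3 G) : NoOrd G 9 := by
  intro y hy
  have hfin := hS.finite
  haveI : Fact (Nat.Prime 3) := ⟨Nat.prime_three⟩
  have hp : IsPGroup 3 (Subgroup.zpowers y) :=
    IsPGroup.of_card (n := 2) (by rw [Nat.card_zpowers, hy]; norm_num)
  obtain ⟨P, hP⟩ := hp.exists_le_sylow
  have h1 := h3.expP P y (hP (Subgroup.mem_zpowers y))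
  have h2 := orderOf_dvd_of_pow_eq_one h1
  rw [hy] at h2
  omega

/-- a 2-element of a group of order 36 with a normal subgroup of order 4 lies in that subgroup -/
theorem a7rb11_mem_V (C V : Subgroup G) (hVC : V ≤ C) (hnorm : ∀ g ∈ C, ∀ v ∈ V, g * v * g⁻¹ ∈ V)
    (hC : Nat.card C = 36) (hV : Nat.card V = 4) (u : G) (hu : u ∈ C) (hu4 : u ^ 4 = 1) : u ∈ V := by
  haveI : (V.subgroupOf C).Normal := by
    refine ⟨fun n hn g => ?_⟩
    rw [Subgroup.mem_subgroupOf] at hn ⊢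
    exact hnorm g.1 g.2 n.1 hn
  have hidx : (V.subgroupOf C).index = 9 := by
    have h1 := Subgroup.card_mul_index (V.subgroupOf C)
    rw [h8_card_subgroupOf hVC, hV, hC] at h1
    omega
  have hQ : Nat.card (↥C ⧸ V.subgroupOf C) = 9 := by
    rw [← hidx]; rfl
  have h9 : (QuotientGroup.mk (⟨u, hu⟩ : ↥C) : ↥C ⧸ V.subgroupOf C) ^ 9 = 1 := by
    rw [← hQ]; exact pow_card_eq_one'
  have h4 : (QuotientGroup.mk (⟨u, hu⟩ : ↥C) : ↥C ⧸ V.subgroupOf C) ^ 4 = 1 := by
    rw [← QuotientGroup.mk_pow]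
    have : (⟨u, hu⟩ : ↥C) ^ 4 = 1 := Subtype.ext (by simpa using hu4)
    rw [this, QuotientGroup.mk_one]
  have h1 : (QuotientGroup.mk (⟨u, hu⟩ : ↥C) : ↥C ⧸ V.subgroupOf C) = 1 := by
    have : (QuotientGroup.mk (⟨u, hu⟩ : ↥C) : ↥C ⧸ V.subgroupOf C) ^ 9 =
        ((QuotientGroup.mk (⟨u, hu⟩ : ↥C) : ↥C ⧸ V.subgroupOf C) ^ 4) ^ 2 *
          (QuotientGroup.mk (⟨u, hu⟩ : ↥C) : ↥C ⧸ V.subgroupOf C) := by
      rw [← pow_mul, ← pow_succ]
    rw [h9, h4, one_pow, one_mul] at this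
    exact this.symm
  rw [QuotientGroup.eq_one_iff, Subgroup.mem_subgroupOf] at h1
  exact h1

/-- no elements of order 12 -/
theorem a7rb11_no12 (hS : Std G) (h3 : St3 G) : NoOrd G 12 := by
  intro g hg
  have hfin := hS.finite
  have hx : orderOf (g ^ 4) = 3 := by
    have := a7rb11_pow_order g 3 (by rw [hg]; norm_num)
    rwa [hg] at this
  have hu : orderOf (g ^ 3) = 4 := by
    have := a7rb11_pow_order g 4 (by rw [hg]; norm_num)
    rwa [hg] at this
  have hgC : g ∈ Cz (g ^ 4) := a7rb11_mem_cz_pow g 4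
  have hdvd : 12 ∣ Nat.card (Cz (g ^ 4)) := by
    have h1 : orderOf (⟨g, hgC⟩ : ↥(Cz (g ^ 4))) ∣ Nat.card (Cz (g ^ 4)) := orderOf_dvd_natCard _
    rwa [Subgroup.orderOf_mk, hg] at h1
  rcases h3.cent3 _ hx with hA | hB
  · obtain ⟨V, hVle, hV4, hVexp, hVnorm, -⟩ := h3.cent3V _ hA
    have huC : g ^ 3 ∈ Cz (g ^ 4) := Subgroup.pow_mem _ hgC 3
    have hu4 : (g ^ 3) ^ 4 = 1 := by rw [← hu]; exact pow_orderOf_eq_one _
    have hmem := a7rb11_mem_V (Cz (g ^ 4)) V hVle hVnorm hA.2 hV4 (g ^ 3) huC hu4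
    have h2 := orderOf_dvd_of_pow_eq_one (hVexp _ hmem)
    rw [hu] at h2
    omega
  · rw [hB.2] at hdvd
    omega

/-- B11 -/
theorem orders (hS : Std G) (h1 : St1 G) (h2 : St2 G) (h3 : St3 G) (g : G) :
    orderOf g ∈ ({1, 2, 4, 8, 3, 6, 5, 10, 7} : Finset ℕ) := by
  have hfin := hS.finite
  have hdvd : orderOf g ∣ 2520 := by rw [← hS.card]; exact orderOf_dvd_natCard g
  have hno9 := a7rb11_no9 hS h3
  have hno12 := a7rb11_no12 hS h3
  by_cases h7 : 7 ∣ orderOf g
  · rw [a7rb11_selfc 7 h1.selfc7 g h7]; decide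
  have h360 : orderOf g ∣ 360 := by
    have hc : Nat.Coprime (orderOf g) 7 :=
      ((Nat.Prime.coprime_iff_not_dvd (by norm_num)).mpr h7).symm
    exact hc.dvd_of_dvd_mul_right (by norm_num at hdvd ⊢; exact hdvd)
  by_cases h5 : 5 ∣ orderOf g
  · by_cases h3' : 3 ∣ orderOf g
    · exfalso
      have h15 : 15 ∣ orderOf g := Nat.Coprime.mul_dvd_of_dvd_of_dvd (by norm_num) h3' h5
      exact h2.no15 _ (a7rb11_pow_order g 15 h15)
    have h40 : orderOf g ∣ 40 := by
      have hc : Nat.Coprime (orderOf g) 9 := by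
        have : Nat.Coprime (orderOf g) 3 :=
          ((Nat.Prime.coprime_iff_not_dvd Nat.prime_three).mpr h3').symm
        exact (Nat.Coprime.pow_right 2 this)
      exact hc.dvd_of_dvd_mul_right (by norm_num at h360 ⊢; exact h360)
    have hcases : orderOf g = 5 ∨ orderOf g = 10 ∨ orderOf g = 20 ∨ orderOf g = 40 := by
      have hle : orderOf g ≤ 40 := Nat.le_of_dvd (by norm_num) h40
      generalize orderOf g = n at *
      interval_cases n <;> omega
    rcases hcases with h | h | h | h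
    · rw [h]; decide
    · rw [h]; decide
    · exact absurd h (h2.no20 g)
    · exfalso
      have := a7rb11_pow_order g 20 (by rw [h]; norm_num)
      exact h2.no20 _ this
  have h72 : orderOf g ∣ 72 := by
    have hc : Nat.Coprime (orderOf g) 5 :=
      ((Nat.Prime.coprime_iff_not_dvd (by norm_num)).mpr h5).symm
    exact hc.dvd_of_dvd_mul_right (by norm_num at h360 ⊢; exact h360)
  have h9 : ¬ 9 ∣ orderOf g := fun h => hno9 _ (a7rb11_pow_order g 9 h)
  have h12 : ¬ 12 ∣ orderOf g := fun h => hno12 _ (a7rb11_pow_order g 12 h)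
  have hle : orderOf g ≤ 72 := Nat.le_of_dvd (by norm_num) h72
  have hcases : orderOf g = 1 ∨ orderOf g = 2 ∨ orderOf g = 4 ∨ orderOf g = 8 ∨ orderOf g = 3 ∨
      orderOf g = 6 := by
    generalize orderOf g = n at *
    interval_cases n <;> omega
  rcases hcases with h | h | h | h | h | h <;> rw [h] <;> decide

end Cfsg.Agent.Lib.helper8.A7R
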