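import Mathlib
import Cfsg.Agent.Lib.helper8.A7R.Defs
import Cfsg.Agent.Lib.helper8.SylowBasic
import Cfsg.Agent.Lib.helper8.SylowConj

/-! A7R row B19 (`has_four`), helper25: a Sylow 2-subgroup of a simple group of order 2520 (with the
counting hypotheses of the row) is not elementary abelian.

Route (a little shorter than the sketch): `S` elementary abelian; transfer into `S` shows that no involution of `S`
is central in `N(S)`; the `N(S)`-orbits on `S` have odd size (dividing 315), so `N(S)` is transitive on the 7 involutions;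
hence all involutions of `G` are conjugate and `cnt G 2` divides 2520, but `cnt G 2 ∈ {735, 231}`. -/

set_option autoImplicit false

namespace Cfsg.Agent.Lib.helper8.A7R

universe u

variable {G : Type u} [Group G]

open Cfsg.Agent.Lib.helper8

theorem a7rb19_card_S (hS : Std G) (S : Sylow 2 G) : Nat.card (S : Subgroup G) = 8 := by
  haveI := hS.finite
  have := h8_sylow_card 2 3 315 (by rw [hS.card]; norm_num) (by norm_num) S
  simpa using this

theorem a7rb19_index_S (hS : Std G) (S : Sylow 2 G) : (S : Subgroup G).index = 315 := by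
  haveI := hS.finite
  exact h8_sylow_index 2 3 315 (by rw [hS.card]; norm_num) (by norm_num) S

open scoped IsMulCommutative in
/-- transfer: an involution of an abelian Sylow 2-subgroup `S` of a simple group of order 2520 is not central in `N(S)` -/
theorem a7rb19_no_central (hS : Std G) (S : Sylow 2 G)
    (hab : ∀ a ∈ (S : Subgroup G), ∀ b ∈ (S : Subgroup G), a * b = b * a)
    (s0 : G) (hs0 : s0 ∈ (S : Subgroup G)) (h2 : orderOf s0 = 2)
    (hc : ∀ n ∈ Nz (S : Subgroup G), n * s0 = s0 * n) : False := by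
  have hfin := hS.finite
  have hsimple := hS.simple
  have hcomm : IsMulCommutative (S : Subgroup G) := ⟨⟨fun a b => Subtype.ext (hab a a.2 b b.2)⟩⟩
  have hcen : ∀ x ∈ (S : Subgroup G), x ∈ Subgroup.centralizer ((S : Subgroup G) : Set G) := by
    intro x hx y hy
    exact hab y hy x hx
  have key : ∀ (k : ℕ) (g₀ : G), g₀⁻¹ * s0 ^ k * g₀ ∈ (S : Subgroup G) →
      g₀⁻¹ * s0 ^ k * g₀ = s0 ^ k := by
    intro k g₀ h
    obtain ⟨n, hn, h'⟩ := S.conj_eq_normalizer_conj_of_mem_centralizer (s0 ^ k) g₀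
      (hcen _ (Subgroup.pow_mem _ hs0 k)) (hcen _ h)
    rw [h']
    have h1 : n * s0 ^ k = s0 ^ k * n := ((show Commute n s0 from hc n hn).pow_right k).eq
    rw [mul_assoc, ← h1, ← mul_assoc, inv_mul_cancel, one_mul]
  have hT := MonoidHom.transfer_eq_pow (MonoidHom.id (S : Subgroup G)) s0 key
  have hpow : s0 ^ (S : Subgroup G).index = s0 := by
    rw [a7rb19_index_S hS S]
    have : s0 ^ 2 = 1 := by rw [← h2]; exact pow_orderOf_eq_one s0
    calc s0 ^ 315 = (s0 ^ 2) ^ 157 * s0 := by rw [← pow_mul, ← pow_succ]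
      _ = s0 := by rw [this, one_pow, one_mul]
  have hne : s0 ≠ 1 := by
    intro h
    rw [h, orderOf_one] at h2
    omega
  rcases h8_simple_normal_eq (MonoidHom.transfer (MonoidHom.id (S : Subgroup G))).ker with hk | hk
  · have hinj : Function.Injective (MonoidHom.transfer (MonoidHom.id (S : Subgroup G))) :=
      (MonoidHom.ker_eq_bot_iff _).mp hk
    have := Nat.card_le_card_of_injective _ hinj
    rw [hS.card, a7rb19_card_S hS S] at this
    omega
  · have hmem : s0 ∈ (MonoidHom.transfer (MonoidHom.id (S : Subgroup G))).ker := by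
      rw [hk]; exact Subgroup.mem_top _
    rw [MonoidHom.mem_ker, hT] at hmem
    have := congrArg Subtype.val hmem
    simp only [MonoidHom.id_apply, Subgroup.coe_one] at this
    exact hne (hpow ▸ this)

/-- exponent 2 -/
theorem a7rb19_exp (hS : Std G) (hno8 : NoOrd G 8) (S : Sylow 2 G)
    (hcon : ∀ r ∈ (S : Subgroup G), orderOf r ≠ 4) : ∀ x ∈ (S : Subgroup G), x ^ 2 = 1 := by
  intro x hx
  have hfin := hS.finite
  have h1 : orderOf (⟨x, hx⟩ : (S : Subgroup G)) ∣ Nat.card (S : Subgroup G) := orderOf_dvd_natCard _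
  rw [a7rb19_card_S hS S, Subgroup.orderOf_mk] at h1
  have h8 : (8 : ℕ) = 2 ^ 3 := by norm_num
  rw [h8] at h1
  obtain ⟨j, hj, hjo⟩ := (Nat.dvd_prime_pow Nat.prime_two).mp h1
  have hj' : j = 0 ∨ j = 1 ∨ j = 2 ∨ j = 3 := by omega
  rcases hj' with rfl | rfl | rfl | rfl
  · rw [pow_zero, orderOf_eq_one_iff] at hjo
    rw [hjo, one_pow]
  · rw [pow_one] at hjo
    rw [← hjo]; exact pow_orderOf_eq_one x
  · exact absurd hjo (by simpa using hcon x hx)
  · exact absurd hjo (by simpa using hno8 x)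

theorem a7rb19_comm {S : Subgroup G} (hexp : ∀ x ∈ S, x ^ 2 = 1) :
    ∀ a ∈ S, ∀ b ∈ S, a * b = b * a := by
  intro a ha b hb
  have h1 := hexp a ha
  have h2 := hexp b hb
  have h3 := hexp (a * b) (S.mul_mem ha hb)
  have ha' : a⁻¹ = a := by rw [inv_eq_iff_mul_eq_one, ← sq, h1]
  have hb' : b⁻¹ = b := by rw [inv_eq_iff_mul_eq_one, ← sq, h2]
  have hab' : (a * b)⁻¹ = a * b := by rw [inv_eq_iff_mul_eq_one, ← sq, h3]
  rw [mul_inv_rev, ha', hb'] at hab'
  exact hab'.symm

/-- every 2-element of `G` is conjugate into `S` -/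
theorem a7rb19_conj_into (hS : Std G) (S : Sylow 2 G) (g : G) (k : ℕ) (hg : orderOf g = 2 ^ k) :
    ∃ c : G, c * g * c⁻¹ ∈ (S : Subgroup G) := by
  have hfin := hS.finite
  have hp : IsPGroup 2 (Subgroup.zpowers g) := IsPGroup.of_card (n := k) (by rw [Nat.card_zpowers, hg])
  obtain ⟨Q, hQ⟩ := hp.exists_le_sylow
  obtain ⟨c, hc⟩ := MulAction.exists_smul_eq G Q S
  refine ⟨c, ?_⟩
  rw [← hc, h8_mem_smul_sylow]
  have : c⁻¹ * (c * g * c⁻¹) * c = g := by group
  rw [this]
  exact hQ (Subgroup.mem_zpowers g)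

theorem a7rb19_two_elt (hS : Std G) (S : Sylow 2 G) (hexp : ∀ x ∈ (S : Subgroup G), x ^ 2 = 1)
    (g : G) (k : ℕ) (hg : orderOf g = 2 ^ k) : g ^ 2 = 1 := by
  obtain ⟨c, hc⟩ := a7rb19_conj_into hS S g k hg
  have h1 := hexp _ hc
  have h2 : (c * g * c⁻¹) ^ 2 = c * g ^ 2 * c⁻¹ := by
    rw [sq, sq]; group
  rw [h2] at h1
  have : g ^ 2 = c⁻¹ * (c * g ^ 2 * c⁻¹) * c := by group
  rw [this, h1]; group

/-- the conjugation action of `N(S)` on `S` -/
@[instance_reducible]
def a7rb19_act (S : Subgroup G) : MulAction ↥(Nz S) ↥S where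
  smul h s := ⟨h.1 * s.1 * h.1⁻¹, (Subgroup.mem_normalizer_iff.mp h.2 s.1).mp s.2⟩
  one_smul s := Subtype.ext (by show (1 : G) * s.1 * (1 : G)⁻¹ = s.1; group)
  mul_smul h h' s := Subtype.ext (by
    show (h.1 * h'.1) * s.1 * (h.1 * h'.1)⁻¹ = h.1 * (h'.1 * s.1 * h'.1⁻¹) * h.1⁻¹
    group)

theorem a7rb19_odd_ge (n : ℕ) (h : n ∣ 315) (h1 : n ≠ 1) : Odd n ∧ 3 ≤ n := by
  have hodd : Odd n := by
    rcases Nat.even_or_odd n with he | ho
    · exfalso
      have : 2 ∣ 315 := (even_iff_two_dvd.mp he).trans h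
      omega
    · exact ho
  refine ⟨hodd, ?_⟩
  obtain ⟨m, hm⟩ := hodd
  have : n ≠ 0 := by rintro rfl; simp at h
  omega

/-- `N(S)` is transitive on the involutions of an elementary abelian Sylow 2-subgroup -/
theorem a7rb19_trans (hS : Std G) (S : Sylow 2 G) (hexp : ∀ x ∈ (S : Subgroup G), x ^ 2 = 1) :
    ∃ s ∈ (S : Subgroup G), s ≠ 1 ∧ ∀ t ∈ (S : Subgroup G), t ≠ 1 →
      ∃ h ∈ Nz (S : Subgroup G), h * s * h⁻¹ = t := by
  have hfin := hS.finite
  have hab := a7rb19_comm hexp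
  letI := a7rb19_act (S : Subgroup G)
  have hsmul : ∀ (h : ↥(Nz (S : Subgroup G))) (s : ↥(S : Subgroup G)), (h • s).1 = h.1 * s.1 * h.1⁻¹ :=
    fun _ _ => rfl
  have hcard : Nat.card ↥(S : Subgroup G) = 8 := a7rb19_card_S hS S
  -- (a) the sizes of the orbits divide 315
  have ha : ∀ s : ↥(S : Subgroup G), (MulAction.orbit ↥(Nz (S : Subgroup G)) s).ncard ∣ 315 := by
    intro s
    rw [← MulAction.index_stabilizer]
    have hle : (S : Subgroup G).subgroupOf (Nz (S : Subgroup G)) ≤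
        MulAction.stabilizer ↥(Nz (S : Subgroup G)) s := by
      intro h hh
      rw [Subgroup.mem_subgroupOf] at hh
      rw [MulAction.mem_stabilizer_iff]
      apply Subtype.ext
      rw [hsmul, hab _ hh _ s.2, mul_inv_cancel_right]
    have h1 := Subgroup.index_dvd_of_le hle
    have h2 : ((S : Subgroup G).subgroupOf (Nz (S : Subgroup G))).index ∣ (S : Subgroup G).index :=
      Subgroup.relIndex_dvd_index_of_le Subgroup.le_normalizer
    rw [a7rb19_index_S hS S] at h2
    exact h1.trans h2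
  -- (b) no orbit of size one except `{1}`
  have hb : ∀ s : ↥(S : Subgroup G), s ≠ 1 → (MulAction.orbit ↥(Nz (S : Subgroup G)) s).ncard ≠ 1 := by
    intro s hs1 h1
    obtain ⟨a, ha'⟩ := Set.ncard_eq_one.mp h1
    have hsa : s = a := by
      have := MulAction.mem_orbit_self (M := ↥(Nz (S : Subgroup G))) s
      rw [ha'] at this
      exact this
    have hs1' : s.1 ≠ 1 := fun h => hs1 (Subtype.ext h)
    have ho : orderOf s.1 = 2 := orderOf_eq_prime (hexp _ s.2) hs1'
    refine a7rb19_no_central hS S hab s.1 s.2 ho ?_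
    intro n hn
    have hmem : (⟨n, hn⟩ : ↥(Nz (S : Subgroup G))) • s ∈ MulAction.orbit ↥(Nz (S : Subgroup G)) s :=
      MulAction.mem_orbit _ _
    rw [ha', Set.mem_singleton_iff, ← hsa] at hmem
    have h3 := congrArg Subtype.val hmem
    rw [hsmul] at h3
    have h4 : n * s.1 * n⁻¹ = s.1 := h3
    calc n * s.1 = n * s.1 * n⁻¹ * n := by group
      _ = s.1 * n := by rw [h4]
  -- (c) `1` lies in no other orbit
  have hc : ∀ s : ↥(S : Subgroup G), (1 : ↥(S : Subgroup G)) ∈ MulAction.orbit ↥(Nz (S : Subgroup G)) s → s = 1 := by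
    intro s ⟨h, hh⟩
    have := congrArg Subtype.val hh
    simp only [] at this
    rw [hsmul, Subgroup.coe_one] at this
    apply Subtype.ext
    rw [Subgroup.coe_one]
    have h2 : s.1 = h.1⁻¹ * (h.1 * s.1 * h.1⁻¹) * h.1 := by group
    rw [h2, this]; group
  -- (d) different orbits are disjoint
  have hd : ∀ s t : ↥(S : Subgroup G), t ∉ MulAction.orbit ↥(Nz (S : Subgroup G)) s →
      Disjoint (MulAction.orbit ↥(Nz (S : Subgroup G)) s) (MulAction.orbit ↥(Nz (S : Subgroup G)) t) := by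
    intro s t hts
    rw [Set.disjoint_left]
    intro x hxs hxt
    apply hts
    rw [← MulAction.orbit_eq_iff.mpr hxs, MulAction.orbit_eq_iff.mpr hxt]
    exact MulAction.mem_orbit_self t
  by_contra hcon
  push Not at hcon
  -- a first involution
  obtain ⟨s1, hs1⟩ : ∃ s1 : ↥(S : Subgroup G), s1 ≠ 1 := by
    by_contra hall
    push Not at hall
    have : Subsingleton ↥(S : Subgroup G) := ⟨fun a b => (hall a).trans (hall b).symm⟩
    have := Nat.card_of_subsingleton (1 : ↥(S : Subgroup G))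
    omega
  obtain ⟨t, htS, ht1, hto⟩ := hcon s1.1 s1.2 (fun h => hs1 (Subtype.ext h))
  have hs2o : (⟨t, htS⟩ : ↥(S : Subgroup G)) ∉ MulAction.orbit ↥(Nz (S : Subgroup G)) s1 := by
    rintro ⟨h, hh⟩
    exact hto h.1 h.2 (by have := congrArg Subtype.val hh; simpa only [hsmul] using this)
  obtain ⟨s2, hs2⟩ : ∃ s2 : ↥(S : Subgroup G), s2 = ⟨t, htS⟩ := ⟨_, rfl⟩
  rw [← hs2] at hs2o
  have hs21 : s2 ≠ 1 := by
    rw [hs2]; intro h; exact ht1 (congrArg Subtype.val h)
  obtain ⟨ho1, hg1⟩ := a7rb19_odd_ge _ (ha s1) (hb s1 hs1)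
  obtain ⟨ho2, hg2⟩ := a7rb19_odd_ge _ (ha s2) (hb s2 hs21)
  have hd12 := hd s1 s2 hs2o
  have hone1 : Disjoint ({1} : Set ↥(S : Subgroup G)) (MulAction.orbit ↥(Nz (S : Subgroup G)) s1) := by
    rw [Set.disjoint_singleton_left]; exact fun h => hs1 (hc s1 h)
  have hone2 : Disjoint ({1} : Set ↥(S : Subgroup G)) (MulAction.orbit ↥(Nz (S : Subgroup G)) s2) := by
    rw [Set.disjoint_singleton_left]; exact fun h => hs21 (hc s2 h)
  -- the union of `{1}` and the two orbits
  have hU : (({1} : Set ↥(S : Subgroup G)) ∪ MulAction.orbit ↥(Nz (S : Subgroup G)) s1 ∪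
      MulAction.orbit ↥(Nz (S : Subgroup G)) s2).ncard =
      1 + (MulAction.orbit ↥(Nz (S : Subgroup G)) s1).ncard +
        (MulAction.orbit ↥(Nz (S : Subgroup G)) s2).ncard := by
    rw [Set.ncard_union_eq (Set.disjoint_union_left.mpr ⟨hone2, hd12⟩) (Set.toFinite _) (Set.toFinite _),
      Set.ncard_union_eq hone1 (Set.toFinite _) (Set.toFinite _), Set.ncard_singleton]
  have hUle := Set.ncard_le_card (({1} : Set ↥(S : Subgroup G)) ∪
      MulAction.orbit ↥(Nz (S : Subgroup G)) s1 ∪ MulAction.orbit ↥(Nz (S : Subgroup G)) s2)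
  rw [hU, hcard] at hUle
  -- a third orbit
  obtain ⟨s3, hs3⟩ : ∃ s3 : ↥(S : Subgroup G), s3 ∉ (({1} : Set ↥(S : Subgroup G)) ∪
      MulAction.orbit ↥(Nz (S : Subgroup G)) s1 ∪ MulAction.orbit ↥(Nz (S : Subgroup G)) s2) := by
    by_contra hall
    push Not at hall
    have huniv : (({1} : Set ↥(S : Subgroup G)) ∪ MulAction.orbit ↥(Nz (S : Subgroup G)) s1 ∪
        MulAction.orbit ↥(Nz (S : Subgroup G)) s2) = Set.univ := Set.eq_univ_of_forall hall
    rw [huniv, Set.ncard_univ, hcard] at hU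
    obtain ⟨m1, hm1⟩ := ho1
    obtain ⟨m2, hm2⟩ := ho2
    omega
  simp only [Set.mem_union, Set.mem_singleton_iff, not_or] at hs3
  obtain ⟨⟨hs31, hs3o1⟩, hs3o2⟩ := hs3
  obtain ⟨ho3, hg3⟩ := a7rb19_odd_ge _ (ha s3) (hb s3 hs31)
  have hd13 := hd s1 s3 hs3o1
  have hd23 := hd s2 s3 hs3o2
  have hone3 : Disjoint ({1} : Set ↥(S : Subgroup G)) (MulAction.orbit ↥(Nz (S : Subgroup G)) s3) := by
    rw [Set.disjoint_singleton_left]; exact fun h => hs31 (hc s3 h)
  have hV : (({1} : Set ↥(S : Subgroup G)) ∪ MulAction.orbit ↥(Nz (S : Subgroup G)) s1 ∪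
      MulAction.orbit ↥(Nz (S : Subgroup G)) s2 ∪ MulAction.orbit ↥(Nz (S : Subgroup G)) s3).ncard =
      1 + (MulAction.orbit ↥(Nz (S : Subgroup G)) s1).ncard +
        (MulAction.orbit ↥(Nz (S : Subgroup G)) s2).ncard +
        (MulAction.orbit ↥(Nz (S : Subgroup G)) s3).ncard := by
    rw [Set.ncard_union_eq (Set.disjoint_union_left.mpr ⟨Set.disjoint_union_left.mpr ⟨hone3, hd13⟩, hd23⟩)
      (Set.toFinite _) (Set.toFinite _), hU]
  have hVle := Set.ncard_le_card (({1} : Set ↥(S : Subgroup G)) ∪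
      MulAction.orbit ↥(Nz (S : Subgroup G)) s1 ∪ MulAction.orbit ↥(Nz (S : Subgroup G)) s2 ∪
      MulAction.orbit ↥(Nz (S : Subgroup G)) s3)
  rw [hV, hcard] at hVle
  omega

/-- if all involutions are conjugate to `s`, their number divides the group order -/
theorem a7rb19_cnt_dvd [Finite G] (s : G) (hs : orderOf s = 2)
    (hconj : ∀ v : G, orderOf v = 2 → ∃ c : G, c * s * c⁻¹ = v) : cnt G 2 ∣ Nat.card G := by
  have hset : {g : G | orderOf g = 2} = MulAction.orbit (ConjAct G) s := by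
    ext g
    rw [Set.mem_setOf_eq, ConjAct.mem_orbit_conjAct, isConj_comm, isConj_iff]
    constructor
    · intro hg; exact hconj g hg
    · rintro ⟨c, rfl⟩
      have := h8_orderOf_conj c⁻¹ s
      rw [inv_inv] at this
      rw [this, hs]
  have h1 : cnt G 2 = (MulAction.orbit (ConjAct G) s).ncard := by
    unfold cnt
    rw [← hset]
    exact Nat.card_coe_set_eq {g : G | orderOf g = 2}
  rw [h1, ← MulAction.index_stabilizer]
  have h2 := (MulAction.stabilizer (ConjAct G) s).index_dvd_card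
  have h3 : Nat.card (ConjAct G) = Nat.card G := Nat.card_congr ConjAct.ofConjAct.toEquiv
  rw [h3] at h2
  exact h2

/-- B19 -/
theorem has_four (hS : Std G) (h1 : St1 G) (h2 : St2 G) (h3 : St3 G) (hno8 : NoOrd G 8)
    (hT : cnt G 2 + cnt G 4 + cnt G 8 + cnt G 10 = 735) (h10 : cnt G 10 = 0 ∨ cnt G 10 = 504) (S : Sylow 2 G) :
    ∃ r : G, r ∈ (S : Subgroup G) ∧ orderOf r = 4 := by
  by_contra hcon
  push Not at hcon
  have hfin := hS.finite
  have hexp := a7rb19_exp hS hno8 S hcon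
  have h2e := a7rb19_two_elt hS S hexp
  have hc4 : cnt G 4 = 0 := by
    unfold cnt
    rw [Nat.card_eq_zero]
    left
    refine ⟨fun ⟨g, hg⟩ => ?_⟩
    have := h2e g 2 (by rw [hg]; norm_num)
    have hd := orderOf_dvd_of_pow_eq_one this
    rw [hg] at hd
    omega
  have hc8 : cnt G 8 = 0 := by
    unfold cnt
    rw [Nat.card_eq_zero]
    left
    exact ⟨fun ⟨g, hg⟩ => hno8 g hg⟩
  obtain ⟨s, hsS, hs1, horb⟩ := a7rb19_trans hS S hexp
  have hso : orderOf s = 2 := orderOf_eq_prime (hexp s hsS) hs1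
  have hconj : ∀ v : G, orderOf v = 2 → ∃ c : G, c * s * c⁻¹ = v := by
    intro v hv
    obtain ⟨c, hc⟩ := a7rb19_conj_into hS S v 1 (by rw [hv, pow_one])
    have hne : c * v * c⁻¹ ≠ 1 := by
      intro h
      have : v = 1 := by
        have h' : v = c⁻¹ * (c * v * c⁻¹) * c := by group
        rw [h', h]; group
      rw [this, orderOf_one] at hv
      omega
    obtain ⟨h, -, hh⟩ := horb _ hc hne
    refine ⟨c⁻¹ * h, ?_⟩
    have : c⁻¹ * h * s * (c⁻¹ * h)⁻¹ = c⁻¹ * (h * s * h⁻¹) * c := by group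
    rw [this, hh]; group
  have hdvd := a7rb19_cnt_dvd s hso hconj
  rw [hS.card] at hdvd
  rcases h10 with h | h
  · have : cnt G 2 = 735 := by omega
    rw [this] at hdvd
    norm_num at hdvd
  · have : cnt G 2 = 231 := by omega
    rw [this] at hdvd
    norm_num at hdvd

end Cfsg.Agent.Lib.helper8.A7R
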