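import Mathlib
import Cfsg.Agent.Lib.helper8.A7R.Defs
import Cfsg.Agent.Lib.helper8.SylowBasic
import Cfsg.Agent.Lib.helper8.SubgroupCard

/-! A7R row B24 (`inv_three`), helper25: `C(u)` (order 24) has a unique subgroup of order 3, of type 3A.

Local route (no global pair count, `hconj` unused): an element `x` of order 3 of `C(u)` has `|C(x)|` even, so it is 3A;
`u ∈ V = O_2(C(x))`, `V ≤ C(u)` and `V` centralizes `x`, so `12 ∣ |N_{C(u)}(⟨x⟩)|` and `n_3(C(u)) = 1`. -/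

set_option autoImplicit false

namespace Cfsg.Agent.Lib.helper8.A7R

universe u

variable {G : Type u} [Group G]

open Cfsg.Agent.Lib.helper8

theorem a7rb24_mem_cz_symm (a b : G) (h : a ∈ Cz b) : b ∈ Cz a := by
  rw [Subgroup.mem_centralizer_iff] at h ⊢
  intro c hc
  rw [Set.mem_singleton_iff] at hc
  rw [hc]
  exact (h b (Set.mem_singleton b)).symm

theorem a7rb24_comm_of_mem (a b : G) (h : a ∈ Cz b) : a * b = b * a := by
  rw [Subgroup.mem_centralizer_iff] at h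
  exact (h b (Set.mem_singleton b)).symm

/-- B24 -/
theorem inv_three (hS : Std G) (h1 : St1 G) (h2 : St2 G) (h3 : St3 G)
    (hconj : ∀ u v : G, orderOf u = 2 → orderOf v = 2 → ∃ g : G, g * u * g⁻¹ = v)
    (h24 : ∀ u : G, orderOf u = 2 → Nat.card (Cz u) = 24) (u : G) (hu : orderOf u = 2) :
    ∃ x ∈ Cz u, Is3A x ∧ ∀ y ∈ Cz u, orderOf y = 3 → y = x ∨ y = x⁻¹ := by
  have hfin := hS.finite
  haveI : Fact (Nat.Prime 3) := ⟨Nat.prime_three⟩
  have hC : Nat.card (Cz u) = 24 := h24 u hu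
  -- an element of order 3 of `C(u)`
  obtain ⟨x', hx'⟩ := exists_prime_orderOf_dvd_card' (G := ↥(Cz u)) 3 (by rw [hC]; norm_num)
  have hx3 : orderOf x'.1 = 3 := by rw [Subgroup.orderOf_coe, hx']
  have hux : u ∈ Cz x'.1 := a7rb24_mem_cz_symm _ _ x'.2
  -- it is of type 3A
  have hA : Is3A x'.1 := by
    rcases h3.cent3 _ hx3 with hA | hB
    · exact hA
    · exfalso
      have h1' : orderOf (⟨u, hux⟩ : ↥(Cz x'.1)) ∣ Nat.card (Cz x'.1) := orderOf_dvd_natCard _
      rw [Subgroup.orderOf_mk, hu, hB.2] at h1'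
      omega
  obtain ⟨V, hVle, hV4, hVexp, hVnorm, hVinv⟩ := h3.cent3V _ hA
  have huV : u ∈ V := hVinv u hux hu
  -- `V` is abelian
  have hVab : ∀ a ∈ V, ∀ b ∈ V, a * b = b * a := by
    intro a ha b hb
    have e1 := hVexp a ha
    have e2 := hVexp b hb
    have e3 := hVexp (a * b) (V.mul_mem ha hb)
    have ha' : a⁻¹ = a := by rw [inv_eq_iff_mul_eq_one, ← sq, e1]
    have hb' : b⁻¹ = b := by rw [inv_eq_iff_mul_eq_one, ← sq, e2]
    have hab' : (a * b)⁻¹ = a * b := by rw [inv_eq_iff_mul_eq_one, ← sq, e3]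
    rw [mul_inv_rev, ha', hb'] at hab'
    exact hab'.symm
  have hVC : V ≤ Cz u := by
    intro v hv
    rw [Subgroup.mem_centralizer_iff]
    intro c hc
    rw [Set.mem_singleton_iff] at hc
    rw [hc]
    exact hVab u huV v hv
  -- a Sylow 3-subgroup of `C(u)` containing `x'`
  have hp : IsPGroup 3 (Subgroup.zpowers x') :=
    IsPGroup.of_card (n := 1) (by rw [Nat.card_zpowers, hx']; norm_num)
  obtain ⟨P, hP⟩ := hp.exists_le_sylow
  have hPcard : Nat.card (P : Subgroup ↥(Cz u)) = 3 := by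
    have := h8_sylow_card 3 1 8 (by rw [hC]; norm_num) (by norm_num) P
    simpa using this
  have hPeq : Subgroup.zpowers x' = (P : Subgroup ↥(Cz u)) :=
    Subgroup.eq_of_le_of_card_ge hP (by rw [hPcard, Nat.card_zpowers, hx'])
  -- the normalizer of `P` in `C(u)` has order divisible by 12
  have hVN : V.subgroupOf (Cz u) ≤ Subgroup.normalizer ((P : Subgroup ↥(Cz u)) : Set ↥(Cz u)) := by
    refine le_trans ?_ (Subgroup.centralizer_le_normalizer _)
    intro v hv
    rw [Subgroup.mem_subgroupOf] at hv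
    rw [Subgroup.mem_centralizer_iff]
    intro p hp
    rw [SetLike.mem_coe, ← hPeq, Subgroup.mem_zpowers_iff] at hp
    obtain ⟨k, rfl⟩ := hp
    have hc : Commute x' v := by
      apply Subtype.ext
      have := a7rb24_comm_of_mem v.1 x'.1 (hVle hv)
      exact this.symm
    exact (hc.zpow_left k).eq
  have h4 : 4 ∣ Nat.card (Subgroup.normalizer ((P : Subgroup ↥(Cz u)) : Set ↥(Cz u))) := by
    have := Subgroup.card_dvd_of_le hVN
    rwa [h8_card_subgroupOf hVC, hV4] at this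
  have h3' : 3 ∣ Nat.card (Subgroup.normalizer ((P : Subgroup ↥(Cz u)) : Set ↥(Cz u))) := by
    have := Subgroup.card_dvd_of_le (Subgroup.le_normalizer (H := (P : Subgroup ↥(Cz u))))
    rwa [hPcard] at this
  have hN := h8_card_normalizer_sylow 3 P
  rw [hC] at hN
  have hmod := h8_nsylow_mod (G := ↥(Cz u)) 3
  have hn1 : Nat.card (Sylow 3 ↥(Cz u)) = 1 := by
    have h12 : 12 ∣ Nat.card (Subgroup.normalizer ((P : Subgroup ↥(Cz u)) : Set ↥(Cz u))) :=
      Nat.Coprime.mul_dvd_of_dvd_of_dvd (by norm_num) h4 h3'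
    obtain ⟨m, hm⟩ := h12
    rw [hm] at hN
    have : m * Nat.card (Sylow 3 ↥(Cz u)) = 2 := by
      have : 12 * (m * Nat.card (Sylow 3 ↥(Cz u))) = 12 * 2 := by rw [← mul_assoc, hN]
      omega
    have hle : Nat.card (Sylow 3 ↥(Cz u)) ≤ 2 := by
      have hm0 : m ≠ 0 := by rintro rfl; omega
      calc Nat.card (Sylow 3 ↥(Cz u)) ≤ m * Nat.card (Sylow 3 ↥(Cz u)) :=
            Nat.le_mul_of_pos_left _ (Nat.pos_of_ne_zero hm0)
        _ = 2 := this
    omega
  haveI : Subsingleton (Sylow 3 ↥(Cz u)) := (Nat.card_eq_one_iff_unique.mp hn1).1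
  refine ⟨x'.1, x'.2, hA, ?_⟩
  intro y hy hy3
  -- `y` lies in `P = ⟨x'⟩`
  have hy' : orderOf (⟨y, hy⟩ : ↥(Cz u)) = 3 := by rw [Subgroup.orderOf_mk, hy3]
  have hpy : IsPGroup 3 (Subgroup.zpowers (⟨y, hy⟩ : ↥(Cz u))) :=
    IsPGroup.of_card (n := 1) (by rw [Nat.card_zpowers, hy']; norm_num)
  obtain ⟨P', hP'⟩ := hpy.exists_le_sylow
  have hPP : P' = P := Subsingleton.elim _ _
  have hmem : (⟨y, hy⟩ : ↥(Cz u)) ∈ Subgroup.zpowers x' := by
    rw [hPeq, ← hPP]
    exact hP' (Subgroup.mem_zpowers _)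
  obtain ⟨k, hk⟩ := Subgroup.mem_zpowers_iff.mp hmem
  have hk' : x'.1 ^ k = y := by
    have := congrArg Subtype.val hk
    simpa using this
  have hmodk : x'.1 ^ k = x'.1 ^ (k % 3) := by
    have := (zpow_mod_orderOf x'.1 k).symm
    rwa [hx3] at this
  rw [hmodk] at hk'
  have hx3' : x'.1 ^ 3 = 1 := by rw [← hx3]; exact pow_orderOf_eq_one _
  have hr : k % 3 = 0 ∨ k % 3 = 1 ∨ k % 3 = 2 := by omega
  rcases hr with h | h | h
  · exfalso
    rw [h, zpow_zero] at hk'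
    rw [← hk', orderOf_one] at hy3
    omega
  · left
    rw [h, zpow_one] at hk'
    exact hk'.symm
  · right
    rw [h] at hk'
    rw [← hk']
    rw [eq_inv_iff_mul_eq_one]
    have : x'.1 ^ (2 : ℤ) * x'.1 = x'.1 ^ 3 := by
      rw [show (2 : ℤ) = ((2 : ℕ) : ℤ) by norm_num, zpow_natCast, ← pow_succ]
    rw [this, hx3']

end Cfsg.Agent.Lib.helper8.A7R
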