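import Mathlib
import Cfsg.Agent.Lib.helper8.A7R.Defs
import Cfsg.Agent.Lib.helper8.SylowBasic

/-! A7R row F2 (`card_H`), helper25: `|N ∪ N t N| = 360`. -/

set_option autoImplicit false

namespace Cfsg.Agent.Lib.helper8.A7R

universe u

variable {G : Type u} [Group G]

open Cfsg.Agent.Lib.helper8

/-- `t N(P) t⁻¹ ≤ N(t P t⁻¹)` -/
theorem a7rf2_conj_normalizer (P : Subgroup G) (t m : G) (hm : m ∈ Nz P) :
    t * m * t⁻¹ ∈ Nz (conjS t P) := by
  rw [Subgroup.mem_normalizer_iff]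
  intro h
  rw [mem_conjS, mem_conjS]
  have h1 : t⁻¹ * (t * m * t⁻¹ * h * (t * m * t⁻¹)⁻¹) * t = m * (t⁻¹ * h * t) * m⁻¹ := by group
  rw [h1]
  exact Subgroup.mem_normalizer_iff.mp hm (t⁻¹ * h * t)

/-- `P ∩ K = 1` -/
theorem a7rf2_PK (hS : Std G) (P : Sylow 3 G) (k z : G) (hk4 : orderOf k = 4) (hzP : z ∈ (P : Subgroup G))
    (hzK : z ∈ Subgroup.zpowers k) : z = 1 := by
  have hfin := hS.finite
  haveI : Fact (Nat.Prime 3) := ⟨Nat.prime_three⟩
  have hP : Nat.card (P : Subgroup G) = 3 ^ 2 :=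
    h8_sylow_card 3 2 280 (by rw [hS.card]; norm_num) (by norm_num) P
  have h1 : orderOf (⟨z, hzP⟩ : (P : Subgroup G)) ∣ Nat.card (P : Subgroup G) := orderOf_dvd_natCard _
  rw [Subgroup.orderOf_mk, hP] at h1
  have h2 := orderOf_dvd_of_mem_zpowers hzK
  rw [hk4] at h2
  have h3 : orderOf z ∣ Nat.gcd (3 ^ 2) 4 := Nat.dvd_gcd h1 h2
  have h4 : Nat.gcd (3 ^ 2) 4 = 1 := by norm_num
  rw [h4, Nat.dvd_one, orderOf_eq_one_iff] at h3
  exact h3

/-- B-part: `k^i t = t k'` with `k' ∈ N(P)` -/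
theorem a7rf2_swap {P : Sylow 3 G} {k t : G} (hC : Ctx P k t) (i : ℕ) :
    ∃ m ∈ Nz (P : Subgroup G), k ^ i * t = t * m := by
  refine ⟨t⁻¹ * k ^ i * t, ?_, by group⟩
  -- `t⁻¹ k t = k⁻¹`
  have ht2 : t ^ 2 = 1 := by rw [← hC.ht2]; exact pow_orderOf_eq_one t
  have htinv : t⁻¹ = t := by rw [inv_eq_iff_mul_eq_one, ← sq, ht2]
  have h1 : t⁻¹ * k * t = k⁻¹ := by
    have := hC.htk
    rw [htinv]
    rw [htinv] at this
    exact this
  have h2 : t⁻¹ * k ^ i * t = (k⁻¹) ^ i := by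
    rw [← h1]
    induction i with
    | zero => simp
    | succ n ih => rw [pow_succ, pow_succ, ← ih]; group
  rw [h2]
  exact Subgroup.pow_mem _ (Subgroup.inv_mem _ hC.hk) i

/-- F2 -/
theorem card_H (hS : Std G) {P : Sylow 3 G} {k t : G} (hC : Ctx P k t) (H : Subgroup G)
    (hH : ∀ g : G, g ∈ H ↔ (g ∈ Nz (P : Subgroup G) ∨ InD P t g)) : Nat.card H = 360 := by
  have hfin := hS.finite
  haveI : Fact (Nat.Prime 3) := ⟨Nat.prime_three⟩
  have hP : Nat.card (P : Subgroup G) = 9 := by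
    have := h8_sylow_card 3 2 280 (by rw [hS.card]; norm_num) (by norm_num) P
    simpa using this
  have hPN : (P : Subgroup G) ≤ Nz (P : Subgroup G) := Subgroup.le_normalizer
  -- the double coset as an image
  have hD : {g : G | InD P t g} = (fun p : G × G => p.1 * t * p.2) ''
      (((P : Subgroup G) : Set G) ×ˢ ((Nz (P : Subgroup G) : Subgroup G) : Set G)) := by
    ext g
    constructor
    · rintro ⟨n, hn, n', hn', rfl⟩
      obtain ⟨x, hx, i, rfl⟩ := hC.prod n hn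
      obtain ⟨m, hm, hsw⟩ := a7rf2_swap hC i
      refine ⟨(x, m * n'), ⟨hx, Subgroup.mul_mem _ hm hn'⟩, ?_⟩
      show x * t * (m * n') = x * k ^ i * t * n'
      rw [mul_assoc x (k ^ i) t, hsw]; group
    · rintro ⟨⟨x, n⟩, ⟨hx, hn⟩, rfl⟩
      exact ⟨x, hPN hx, n, hn, rfl⟩
  have hinj : Set.InjOn (fun p : G × G => p.1 * t * p.2)
      (((P : Subgroup G) : Set G) ×ˢ ((Nz (P : Subgroup G) : Subgroup G) : Set G)) := by
    rintro ⟨x, n⟩ ⟨hx, hn⟩ ⟨x', n'⟩ ⟨hx', hn'⟩ heq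
    simp only [] at heq
    have hx_mem : x ∈ (P : Subgroup G) := hx
    have hx'_mem : x' ∈ (P : Subgroup G) := hx'
    have hn_mem : n ∈ Nz (P : Subgroup G) := hn
    have hn'_mem : n' ∈ Nz (P : Subgroup G) := hn'
    have hz : x'⁻¹ * x = t * (n' * n⁻¹) * t⁻¹ := by
      have h1 : x'⁻¹ * x = x'⁻¹ * (x * t * n) * n⁻¹ * t⁻¹ := by group
      rw [h1, heq]; group
    have hzP : x'⁻¹ * x ∈ (P : Subgroup G) := Subgroup.mul_mem _ (Subgroup.inv_mem _ hx'_mem) hx_mem
    have hzQ : x'⁻¹ * x ∈ Nz (conjS t (P : Subgroup G)) := by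
      rw [hz]
      exact a7rf2_conj_normalizer _ t _ (Subgroup.mul_mem _ hn'_mem (Subgroup.inv_mem _ hn_mem))
    have hzK := hC.inter _ (hPN hzP) hzQ
    have hz1 := a7rf2_PK hS P k _ hC.hk4 hzP hzK
    have hxx : x = x' := by
      have : x = x' * (x'⁻¹ * x) := by group
      rw [this, hz1, mul_one]
    subst hxx
    have hnn : n = n' := by
      have h1 : n = (x * t)⁻¹ * (x * t * n) := by group
      rw [h1, heq]; group
    rw [hnn]
  have hDcard : {g : G | InD P t g}.ncard = 324 := by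
    rw [hD, Set.InjOn.ncard_image hinj, Set.ncard_prod]
    have h1 : (((P : Subgroup G) : Set G)).ncard = 9 := by
      rw [← hP]; exact (Nat.card_coe_set_eq _).symm
    have h2 : (((Nz (P : Subgroup G) : Subgroup G) : Set G)).ncard = 36 := by
      rw [← hC.cardN]; exact (Nat.card_coe_set_eq _).symm
    rw [h1, h2]
  have hdisj : Disjoint (((Nz (P : Subgroup G) : Subgroup G) : Set G)) {g : G | InD P t g} := by
    rw [Set.disjoint_left]
    rintro g hg ⟨n, hn, n', hn', rfl⟩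
    apply hC.htP
    have hg' : n * t * n' ∈ Nz (P : Subgroup G) := hg
    have : t = n⁻¹ * (n * t * n') * n'⁻¹ := by group
    rw [this]
    exact Subgroup.mul_mem _ (Subgroup.mul_mem _ (Subgroup.inv_mem _ hn) hg') (Subgroup.inv_mem _ hn')
  have hset : (H : Set G) = ((Nz (P : Subgroup G) : Subgroup G) : Set G) ∪ {g : G | InD P t g} := by
    ext g
    rw [SetLike.mem_coe, hH g]
    rfl
  have h1 : Nat.card H = (H : Set G).ncard := (Nat.card_coe_set_eq _)
  rw [h1, hset, Set.ncard_union_eq hdisj (Set.toFinite _) (Set.toFinite _), hDcard]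
  have h2 : (((Nz (P : Subgroup G) : Subgroup G) : Set G)).ncard = 36 := by
    rw [← hC.cardN]; exact (Nat.card_coe_set_eq _).symm
  rw [h2]

end Cfsg.Agent.Lib.helper8.A7R
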