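import Mathlib
import Cfsg.Agent.Lib.helper8.A7R.Defs
import Cfsg.Agent.Lib.Helper25.A7RB11
import Cfsg.Agent.Lib.Helper25.A7RB24

/-! A7R row H2 (`hex_exists`), helper25: the structure of `C(j)`, `j = k^2`. -/

set_option autoImplicit false

namespace Cfsg.Agent.Lib.helper8.A7R

universe u

variable {G : Type u} [Group G]

theorem a7rh2_mem_cz_iff (a b : G) : a ∈ Cz b ↔ a * b = b * a := by
  rw [Subgroup.mem_centralizer_iff]
  constructor
  · intro h; exact (h b (Set.mem_singleton b)).symm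
  · intro h c hc
    rw [Set.mem_singleton_iff] at hc
    rw [hc]; exact h.symm

theorem a7rh2_exp_comm {V : Subgroup G} (hexp : ∀ v ∈ V, v ^ 2 = 1) :
    ∀ a ∈ V, ∀ b ∈ V, a * b = b * a := by
  intro a ha b hb
  have e1 := hexp a ha
  have e2 := hexp b hb
  have e3 := hexp (a * b) (V.mul_mem ha hb)
  have ha' : a⁻¹ = a := by rw [inv_eq_iff_mul_eq_one, ← sq, e1]
  have hb' : b⁻¹ = b := by rw [inv_eq_iff_mul_eq_one, ← sq, e2]
  have hab' : (a * b)⁻¹ = a * b := by rw [inv_eq_iff_mul_eq_one, ← sq, e3]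
  rw [mul_inv_rev, ha', hb'] at hab'
  exact hab'.symm

/-- H2 -/
theorem hex_exists (hS : Std G) (h3 : St3 G) (h4 : St4 G) (k : G) (hk4 : orderOf k = 4) :
    ∃ xj w : G, ∃ V : Subgroup G, Hex k xj w V := by
  have hfin := hS.finite
  have hj2 : orderOf (k ^ 2) = 2 := by
    have := a7rb11_pow_order k 2 (by rw [hk4]; norm_num)
    rwa [hk4] at this
  obtain ⟨xj, hxjC, hxjA, hxju⟩ := h4.inv3 (k ^ 2) hj2
  obtain ⟨V, hVle, hV4, hVexp, hVnorm, hVinv⟩ := h3.cent3V xj hxjA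
  have hjC : k ^ 2 ∈ Cz xj := a7rb24_mem_cz_symm _ _ hxjC
  have hjV : k ^ 2 ∈ V := hVinv _ hjC hj2
  have hVab := a7rh2_exp_comm hVexp
  have hVCj : V ≤ Cz (k ^ 2) := by
    intro v hv
    rw [a7rh2_mem_cz_iff]
    exact hVab v hv _ hjV
  have hx3 : orderOf xj = 3 := hxjA.1
  have hx3' : xj ^ 3 = 1 := by rw [← hx3]; exact pow_orderOf_eq_one _
  -- an element `w` of `V` outside `{1, j}`
  obtain ⟨w, hwV, hw1, hwj⟩ : ∃ w ∈ V, w ≠ 1 ∧ w ≠ k ^ 2 := by
    by_contra hcon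
    push Not at hcon
    have hsub : (V : Set G) ⊆ {1, k ^ 2} := by
      intro v hv
      by_cases h1 : v = 1
      · left; exact h1
      · right; exact hcon v hv h1
    have h1 := Set.ncard_le_ncard hsub (Set.toFinite _)
    have h2 : ({1, k ^ 2} : Set G).ncard ≤ 2 := by
      calc ({1, k ^ 2} : Set G).ncard ≤ ({k ^ 2} : Set G).ncard + 1 := Set.ncard_insert_le _ _
        _ = 2 := by rw [Set.ncard_singleton]
    have h3' : (V : Set G).ncard = 4 := by rw [← hV4]; exact (Nat.card_coe_set_eq _).symm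
    omega
  -- conjugation by `C(j)` maps `xj` to `xj^(±1)`
  have hconjx : ∀ g ∈ Cz (k ^ 2), g * xj * g⁻¹ = xj ∨ g * xj * g⁻¹ = xj⁻¹ := by
    intro g hg
    apply hxju
    · exact Subgroup.mul_mem _ (Subgroup.mul_mem _ hg hxjC) (Subgroup.inv_mem _ hg)
    · have := (MulAut.conj g).orderOf_eq xj
      rw [MulAut.conj_apply] at this
      rw [this, hx3]
  have hCjnorm : ∀ g ∈ Cz (k ^ 2), ∀ v ∈ V, g * v * g⁻¹ ∈ V := by
    intro g hg v hv
    by_cases hv1 : v = 1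
    · rw [hv1]; simp [V.one_mem]
    have hvo : orderOf v = 2 := orderOf_eq_prime (hVexp v hv) hv1
    apply hVinv
    · -- `g v g⁻¹` commutes with `xj`
      rw [a7rh2_mem_cz_iff]
      have hvx : v * xj = xj * v := (a7rh2_mem_cz_iff v xj).mp (hVle hv)
      have hvxi : v * xj⁻¹ = xj⁻¹ * v := by
        have : v = xj⁻¹ * (xj * v) := by group
        calc v * xj⁻¹ = xj⁻¹ * (xj * v) * xj⁻¹ := by rw [← this]
          _ = xj⁻¹ * (v * xj) * xj⁻¹ := by rw [hvx]
          _ = xj⁻¹ * v := by group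
      rcases hconjx g hg with h | h
      · have hx : xj = g * xj * g⁻¹ := h.symm
        calc g * v * g⁻¹ * xj = g * v * g⁻¹ * (g * xj * g⁻¹) := by rw [← hx]
          _ = g * (v * xj) * g⁻¹ := by group
          _ = g * (xj * v) * g⁻¹ := by rw [hvx]
          _ = (g * xj * g⁻¹) * (g * v * g⁻¹) := by group
          _ = xj * (g * v * g⁻¹) := by rw [← hx]
      · have hx : xj⁻¹ = g * xj * g⁻¹ := h.symm
        have hx' : xj = g * xj⁻¹ * g⁻¹ := by
          have : (g * xj * g⁻¹)⁻¹ = g * xj⁻¹ * g⁻¹ := by group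
          rw [← this, ← hx, inv_inv]
        calc g * v * g⁻¹ * xj = g * v * g⁻¹ * (g * xj⁻¹ * g⁻¹) := by rw [← hx']
          _ = g * (v * xj⁻¹) * g⁻¹ := by group
          _ = g * (xj⁻¹ * v) * g⁻¹ := by rw [hvxi]
          _ = (g * xj⁻¹ * g⁻¹) * (g * v * g⁻¹) := by group
          _ = xj * (g * v * g⁻¹) := by rw [← hx']
    · have := (MulAut.conj g).orderOf_eq v
      rw [MulAut.conj_apply] at this
      rw [this, hvo]
  refine ⟨xj, w, V, ⟨hxjC, hxjA, hxju, hVle, hV4, hVexp, hVnorm, hVinv, hwV, hw1, hwj, hjV, hVCj,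
    hCjnorm, ?_⟩⟩
  -- the dichotomy
  intro g hg
  rcases hconjx g hg with h | h
  · left
    have hgx : g * xj = xj * g := by
      calc g * xj = g * xj * g⁻¹ * g := by group
        _ = xj * g := by rw [h]
    refine ⟨hgx, ?_⟩
    have hgCx : g ∈ Cz xj := (a7rh2_mem_cz_iff g xj).mpr hgx
    -- `g^12 = 1`
    have hgD : g ∈ Cz xj ⊓ Cz (k ^ 2) := ⟨hgCx, hg⟩
    have hd1 : Nat.card ↥(Cz xj ⊓ Cz (k ^ 2)) ∣ 36 := by
      rw [← hxjA.2]; exact Subgroup.card_dvd_of_le inf_le_left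
    have hd2 : Nat.card ↥(Cz xj ⊓ Cz (k ^ 2)) ∣ 24 := by
      rw [← h4.inv24 _ hj2]; exact Subgroup.card_dvd_of_le inf_le_right
    have hd3 : orderOf g ∣ 12 := by
      have h1 : orderOf (⟨g, hgD⟩ : ↥(Cz xj ⊓ Cz (k ^ 2))) ∣ Nat.card ↥(Cz xj ⊓ Cz (k ^ 2)) :=
        orderOf_dvd_natCard _
      rw [Subgroup.orderOf_mk] at h1
      have := Nat.dvd_gcd (h1.trans hd1) (h1.trans hd2)
      norm_num at this
      exact this
    have hg12 : g ^ 12 = 1 := orderOf_dvd_iff_pow_eq_one.mp hd3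
    -- the 2-part lies in `V`
    have hv : g ^ 9 ∈ V := by
      apply a7rb11_mem_V (Cz xj) V hVle hVnorm hxjA.2 hV4 (g ^ 9) (Subgroup.pow_mem _ hgCx 9)
      rw [← pow_mul]
      calc g ^ (9 * 4) = (g ^ 12) ^ 3 := by rw [← pow_mul]
        _ = 1 := by rw [hg12, one_pow]
    -- the 3-part lies in `⟨xj⟩`
    have hp3 : (g ^ 4) ^ 3 = 1 := by rw [← pow_mul]; exact hg12
    have hgsplit : g = g ^ 4 * g ^ 9 := by
      rw [← pow_add]
      calc g = g ^ 12 * g := by rw [hg12, one_mul]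
        _ = g ^ (4 + 9) := by rw [← pow_succ]
    by_cases hp1 : g ^ 4 = 1
    · refine ⟨0, g ^ 9, hv, ?_⟩
      rw [pow_zero, one_mul]
      rw [hp1, one_mul] at hgsplit
      exact hgsplit
    · have hpo : orderOf (g ^ 4) = 3 := orderOf_eq_prime hp3 hp1
      rcases hxju (g ^ 4) (Subgroup.pow_mem _ hg 4) hpo with hq | hq
      · refine ⟨1, g ^ 9, hv, ?_⟩
        rw [pow_one, ← hq]
        exact hgsplit
      · refine ⟨2, g ^ 9, hv, ?_⟩
        have : xj ^ 2 = xj⁻¹ := by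
          rw [eq_inv_iff_mul_eq_one, ← pow_succ, hx3']
        rw [this, ← hq]
        exact hgsplit
  · right; exact h

end Cfsg.Agent.Lib.helper8.A7R
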