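import Mathlib
import Cfsg.Agent.Lib.helper8.A7R.Defs
import Cfsg.Agent.Lib.helper8.SubgroupCard
import Cfsg.Agent.Lib.Helper25.A7RH2

/-! A7R row H3b (`Cj_elems`), helper25: `C(j) = ⟨xj w⟩ K`. -/

set_option autoImplicit false

namespace Cfsg.Agent.Lib.helper8.A7R

universe u

variable {G : Type u} [Group G]

open Cfsg.Agent.Lib.helper8

theorem a7rh3b_zpowers_two (j x : G) (hj : j ^ 2 = 1) (hx : x ∈ Subgroup.zpowers j) : x = 1 ∨ x = j := by
  obtain ⟨z, rfl⟩ := Subgroup.mem_zpowers_iff.mp hx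
  have h1 : j ^ z = j ^ (z % 2) := by
    conv_lhs => rw [← Int.emod_add_mul_ediv z 2]
    rw [zpow_add, zpow_mul]
    have : j ^ (2 : ℤ) = 1 := by
      rw [show (2 : ℤ) = ((2 : ℕ) : ℤ) by norm_num, zpow_natCast, hj]
    rw [this, one_zpow, mul_one]
  rcases Int.emod_two_eq_zero_or_one z with h | h
  · left; rw [h1, h, zpow_zero]
  · right; rw [h1, h, zpow_one]

/-- the elements of the four-group `V` -/
theorem a7rh3b_V_elems {k xj w : G} {V : Subgroup G} (hk4 : orderOf k = 4) (hH : Hex k xj w V)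
    (v : G) (hv : v ∈ V) : v = 1 ∨ v = k ^ 2 ∨ v = w ∨ v = w * k ^ 2 := by
  have hj2 : (k ^ 2) ^ 2 = 1 := hH.V_exp _ hH.j_mem
  have hw2 : w ^ 2 = 1 := hH.V_exp _ hH.w_mem
  have hjo : orderOf (k ^ 2) = 2 := by
    apply orderOf_eq_prime hj2
    intro h
    have := orderOf_dvd_of_pow_eq_one h
    rw [hk4] at this
    omega
  haveI : Finite V := Nat.finite_of_card_ne_zero (by rw [hH.V_card]; norm_num)
  have hJV : Subgroup.zpowers (k ^ 2) ≤ V := by rw [Subgroup.zpowers_le]; exact hH.j_mem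
  have hidx : ((Subgroup.zpowers (k ^ 2)).subgroupOf V).index = 2 := by
    have h1 := Subgroup.card_mul_index ((Subgroup.zpowers (k ^ 2)).subgroupOf V)
    rw [h8_card_subgroupOf hJV, Nat.card_zpowers, hjo, hH.V_card] at h1
    omega
  have hwJ : w ∉ Subgroup.zpowers (k ^ 2) := by
    intro h
    rcases a7rh3b_zpowers_two _ _ hj2 h with h | h
    · exact hH.w_ne1 h
    · exact hH.w_nej h
  by_cases hvJ : v ∈ Subgroup.zpowers (k ^ 2)
  · rcases a7rh3b_zpowers_two _ _ hj2 hvJ with h | h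
    · left; exact h
    · right; left; exact h
  · have hmul := Subgroup.mul_mem_iff_of_index_two hidx (a := (⟨v, hv⟩ : ↥V)) (b := (⟨w, hH.w_mem⟩ : ↥V))
    rw [Subgroup.mem_subgroupOf, Subgroup.mem_subgroupOf, Subgroup.mem_subgroupOf] at hmul
    have hvw : v * w ∈ Subgroup.zpowers (k ^ 2) := hmul.mpr ⟨fun h => absurd h hvJ, fun h => absurd h hwJ⟩
    have hwinv : w⁻¹ = w := by rw [inv_eq_iff_mul_eq_one, ← sq, hw2]
    rcases a7rh3b_zpowers_two _ _ hj2 hvw with h | h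
    · right; right; left
      have : v = (v * w) * w⁻¹ := by group
      rw [this, h, one_mul, hwinv]
    · right; right; right
      have : v = (v * w) * w⁻¹ := by group
      rw [this, h, hwinv]
      exact (a7rh2_exp_comm hH.V_exp w hH.w_mem _ hH.j_mem).symm

/-- the elements of `C(j)` centralizing `xj` -/
theorem a7rh3b_cent {k xj w : G} {V : Subgroup G} (hk4 : orderOf k = 4) (hH : Hex k xj w V) (d : G)
    (hd : d ∈ Cz (k ^ 2)) (hdx : d * xj = xj * d) : ∃ n < 6, ∃ e : ℕ, d = (xj * w) ^ n * k ^ e := by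
  have hx3 : xj ^ 3 = 1 := by rw [← hH.xjA.1]; exact pow_orderOf_eq_one _
  have hw2 : w ^ 2 = 1 := hH.V_exp w hH.w_mem
  have hcomm : Commute xj w := ((a7rh2_mem_cz_iff w xj).mp (hH.V_le hH.w_mem)).symm
  have hg6 : (xj * w) ^ 6 = 1 := by
    rw [hcomm.mul_pow]
    have e1 : xj ^ 6 = (xj ^ 3) ^ 2 := by rw [← pow_mul]
    have e2 : w ^ 6 = (w ^ 2) ^ 3 := by rw [← pow_mul]
    rw [e1, e2, hx3, hw2, one_pow, one_pow, one_mul]
  have hg4 : (xj * w) ^ 4 = xj := by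
    rw [hcomm.mul_pow]
    have e1 : xj ^ 4 = xj ^ 3 * xj := by rw [← pow_succ]
    have e2 : w ^ 4 = (w ^ 2) ^ 2 := by rw [← pow_mul]
    rw [e1, e2, hx3, hw2, one_pow, one_mul, mul_one]
  have hg3 : (xj * w) ^ 3 = w := by
    rw [hcomm.mul_pow]
    have e2 : w ^ 3 = w ^ 2 * w := by rw [← pow_succ]
    rw [hx3, e2, hw2, one_mul, one_mul]
  rcases hH.Cj_dich d hd with ⟨-, i, v, hv, rfl⟩ | hinv
  · have hxi : xj ^ i = (xj * w) ^ (4 * i) := by rw [pow_mul, hg4]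
    rcases a7rh3b_V_elems hk4 hH v hv with rfl | rfl | rfl | rfl
    · refine ⟨(4 * i) % 6, Nat.mod_lt _ (by norm_num), 0, ?_⟩
      rw [pow_zero, mul_one, mul_one, ← pow_eq_pow_mod _ hg6, hxi]
    · refine ⟨(4 * i) % 6, Nat.mod_lt _ (by norm_num), 2, ?_⟩
      rw [← pow_eq_pow_mod _ hg6, hxi]
    · refine ⟨(4 * i + 3) % 6, Nat.mod_lt _ (by norm_num), 0, ?_⟩
      rw [pow_zero, mul_one, ← pow_eq_pow_mod _ hg6, pow_add, hg3, hxi]
    · refine ⟨(4 * i + 3) % 6, Nat.mod_lt _ (by norm_num), 2, ?_⟩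
      rw [← pow_eq_pow_mod _ hg6, pow_add, hg3, hxi, mul_assoc]
  · exfalso
    have h1 : d * xj * d⁻¹ = xj := by rw [hdx]; group
    rw [h1] at hinv
    have h2 : xj ^ 2 = 1 := by
      rw [sq]
      calc xj * xj = xj * xj⁻¹ := by rw [← hinv]
        _ = 1 := mul_inv_cancel xj
    have := orderOf_dvd_of_pow_eq_one h2
    rw [hH.xjA.1] at this
    omega

/-- H3b -/
theorem Cj_elems {k xj w : G} {V : Subgroup G} (hk4 : orderOf k = 4) (hH : Hex k xj w V) (c : G) (hc : c ∈ Cz (k ^ 2)) :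
    ∃ n < 6, ∃ e : ℕ, c = (xj * w) ^ n * k ^ e := by
  have hx3 : xj ^ 3 = 1 := by rw [← hH.xjA.1]; exact pow_orderOf_eq_one _
  have hkC : k ∈ Cz (k ^ 2) := a7rb11_mem_cz_pow k 2
  have hk4' : k ^ 4 = 1 := by rw [← hk4]; exact pow_orderOf_eq_one _
  -- `k` inverts `xj`
  have hkinv : k * xj * k⁻¹ = xj⁻¹ := by
    rcases hH.Cj_dich k hkC with ⟨-, i, v, hv, hkv⟩ | h
    · exfalso
      have hcv0 : Commute xj v := ((a7rh2_mem_cz_iff v xj).mp (hH.V_le hv)).symm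
      have hcv : Commute (xj ^ i) v := hcv0.pow_left i
      have h6 : k ^ 6 = 1 := by
        rw [hkv, hcv.mul_pow, ← pow_mul]
        have e1 : xj ^ (i * 6) = (xj ^ 3) ^ (i * 2) := by rw [← pow_mul]; congr 1; ring
        have e2 : v ^ 6 = (v ^ 2) ^ 3 := by rw [← pow_mul]
        rw [e1, e2, hx3, hH.V_exp v hv, one_pow, one_pow, one_mul]
      have := orderOf_dvd_of_pow_eq_one h6
      rw [hk4] at this
      omega
    · exact h
  rcases hH.Cj_dich c hc with ⟨hcx, -⟩ | hinv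
  · exact a7rh3b_cent hk4 hH c hc hcx
  · -- `c k⁻¹` centralizes `xj`
    have hd : c * k⁻¹ ∈ Cz (k ^ 2) := Subgroup.mul_mem _ hc (Subgroup.inv_mem _ hkC)
    have hk' : k⁻¹ * xj * k = xj⁻¹ := by
      have h1 : k⁻¹ * (k * xj * k⁻¹) * k = xj := by group
      rw [hkinv] at h1
      have h2 : (k⁻¹ * xj⁻¹ * k)⁻¹ = k⁻¹ * xj * k := by group
      rw [← h2, h1]
    have hdx : c * k⁻¹ * xj = xj * (c * k⁻¹) := by
      have h1 : c * k⁻¹ * xj = c * (k⁻¹ * xj * k) * k⁻¹ := by group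
      have h2 : c * xj⁻¹ = xj * c := by
        have h3 : (c * xj * c⁻¹)⁻¹ = c * xj⁻¹ * c⁻¹ := by group
        rw [hinv, inv_inv] at h3
        calc c * xj⁻¹ = c * xj⁻¹ * c⁻¹ * c := by group
          _ = xj * c := by rw [← h3]
      rw [h1, hk', h2, mul_assoc]
    obtain ⟨n, hn, e, he⟩ := a7rh3b_cent hk4 hH _ hd hdx
    refine ⟨n, hn, e + 1, ?_⟩
    have : c = c * k⁻¹ * k := by group
    rw [this, he, pow_succ, mul_assoc]

end Cfsg.Agent.Lib.helper8.A7R
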