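import Mathlib
import Cfsg.Agent.Lib.helper8.A7R.Defs
import Cfsg.Agent.Lib.Helper25.A7RH2

/-! A7R row H6 (`hex_concl`), helper25: the relation `(t y)^3 = 1` from the hexagon. -/

set_option autoImplicit false

namespace Cfsg.Agent.Lib.helper8.A7R

universe u

variable {G : Type u} [Group G]

/-- a Sylow 3-subgroup is abelian (`centP`), hence so are its conjugates -/
theorem a7rh6_conj_comm (h3 : St3 G) (P : Sylow 3 G) (c a b : G) (ha : a ∈ conjS c (P : Subgroup G))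
    (hb : b ∈ conjS c (P : Subgroup G)) : a * b = b * a := by
  rw [mem_conjS] at ha hb
  have hcen : c⁻¹ * a * c ∈ Cs (P : Subgroup G) := by rw [h3.centP P]; exact ha
  have h1 : c⁻¹ * b * c * (c⁻¹ * a * c) = c⁻¹ * a * c * (c⁻¹ * b * c) :=
    (Subgroup.mem_centralizer_iff.mp hcen) _ hb
  have h2 : a * b = c * (c⁻¹ * a * c * (c⁻¹ * b * c)) * c⁻¹ := by group
  have h3' : b * a = c * (c⁻¹ * b * c * (c⁻¹ * a * c)) * c⁻¹ := by group
  rw [h2, h3', h1]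

/-- the core of H6: `x ∈ c P c⁻¹ ∩ c² P c⁻²` of type 3A, centralized by `t`, not in `P` -/
theorem a7rh6_core (h3 : St3 G) {P : Sylow 3 G} {t : G} (ht2 : orderOf t = 2)
    (hA4 : ∀ y x t : G, Is3A y → x ∈ Cz y → orderOf x = 3 → x ∉ Subgroup.zpowers y → t ∈ Cz y →
      orderOf t = 2 → (t * x) ^ 3 = 1)
    (x c : G) (hxt : x ∈ Cz t) (hxA : Is3A x) (hxP : x ∉ (P : Subgroup G))
    (hx1 : x ∈ conjS c (P : Subgroup G)) (hx2 : x ∈ conjS (c ^ 2) (P : Subgroup G)) :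
    ∃ y ∈ (P : Subgroup G), y ≠ 1 ∧ (t * y) ^ 3 = 1 := by
  have hyP : c⁻¹ * x * c ∈ (P : Subgroup G) := (mem_conjS c _ x).mp hx1
  have hy1 : c⁻¹ * x * c ∈ conjS c (P : Subgroup G) := by
    rw [mem_conjS]
    have := (mem_conjS (c ^ 2) _ x).mp hx2
    have e : (c ^ 2)⁻¹ * x * c ^ 2 = c⁻¹ * (c⁻¹ * x * c) * c := by rw [sq]; group
    rwa [e] at this
  have hcomm : c⁻¹ * x * c * x = x * (c⁻¹ * x * c) := a7rh6_conj_comm h3 P c _ _ hy1 hx1
  have hyo : orderOf (c⁻¹ * x * c) = 3 := by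
    have := (MulAut.conj c⁻¹).orderOf_eq x
    rw [MulAut.conj_apply, inv_inv] at this
    rw [this, hxA.1]
  have hy_ne : c⁻¹ * x * c ≠ 1 := by
    intro h
    rw [h, orderOf_one] at hyo
    omega
  refine ⟨c⁻¹ * x * c, hyP, hy_ne, ?_⟩
  apply hA4 x (c⁻¹ * x * c) t hxA ((a7rh2_mem_cz_iff _ _).mpr hcomm) hyo ?_
    (a7rb24_mem_cz_symm _ _ hxt) ht2
  -- `y ∉ ⟨x⟩`
  intro hmem
  apply hxP
  have hle : Subgroup.zpowers (c⁻¹ * x * c) ≤ Subgroup.zpowers x := by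
    rw [Subgroup.zpowers_le]; exact hmem
  haveI : Finite (Subgroup.zpowers x) :=
    Nat.finite_of_card_ne_zero (by rw [Nat.card_zpowers, hxA.1]; norm_num)
  have heq : Subgroup.zpowers (c⁻¹ * x * c) = Subgroup.zpowers x :=
    Subgroup.eq_of_le_of_card_ge hle (by rw [Nat.card_zpowers, Nat.card_zpowers, hyo, hxA.1])
  have hxm : x ∈ Subgroup.zpowers (c⁻¹ * x * c) := by rw [heq]; exact Subgroup.mem_zpowers x
  exact (Subgroup.zpowers_le.mpr hyP) hxm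

/-- H6 -/
theorem hex_concl (hS : Std G) (h3 : St3 G) (h4 : St4 G) {P : Sylow 3 G} {k t xj w : G} {V : Subgroup G} (hC : Ctx P k t) (hH : Hex k xj w V) (htV : t ∉ V)
    (hall : ∀ R : Sylow 3 G, k ^ 2 ∈ Nz (R : Subgroup G) → ∃ n < 6, (R : Subgroup G) = Pn P xj w n)
    (hact : ∀ n m : ℕ, (n + m) % 6 = 3 → conjS t (Pn P xj w n) = Pn P xj w m)
    (hx : ∃ x : G, x ∈ Cz t ∧ Is3A x ∧ ∃ R : Sylow 3 G, x ∈ (R : Subgroup G) ∧ k ^ 2 ∈ Nz (R : Subgroup G))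
    (hA4 : ∀ y x t : G, Is3A y → x ∈ Cz y → orderOf x = 3 → x ∉ Subgroup.zpowers y → t ∈ Cz y → orderOf t = 2 → (t * x) ^ 3 = 1)
    (hPQ : ∀ x ∈ (P : Subgroup G), x ∈ conjS t (P : Subgroup G) → x = 1) :
    ∃ y ∈ (P : Subgroup G), y ≠ 1 ∧ (t * y) ^ 3 = 1 := by
  obtain ⟨x, hxt, hxA, R, hxR, hjR⟩ := hx
  obtain ⟨n, hn, hR⟩ := hall R hjR
  rw [hR] at hxR
  have hxne : x ≠ 1 := by
    intro h
    have := hxA.1
    rw [h, orderOf_one] at this
    omega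
  have htx : t⁻¹ * x * t = x := by
    have := (a7rh2_mem_cz_iff x t).mp hxt
    calc t⁻¹ * x * t = t⁻¹ * (x * t) := by group
      _ = t⁻¹ * (t * x) := by rw [this]
      _ = x := by group
  -- `x ∈ t P_n t⁻¹`
  have hxconj : x ∈ conjS t (Pn P xj w n) := by rw [mem_conjS, htx]; exact hxR
  -- `x ∉ P`
  have hxP : x ∉ (P : Subgroup G) := by
    intro h
    apply hxne
    apply hPQ x h
    rw [mem_conjS, htx]; exact h
  -- `g^6 = 1`
  have hx3 : xj ^ 3 = 1 := by rw [← hH.xjA.1]; exact pow_orderOf_eq_one _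
  have hw2 : w ^ 2 = 1 := hH.V_exp w hH.w_mem
  have hcomm : Commute xj w := ((a7rh2_mem_cz_iff w xj).mp (hH.V_le hH.w_mem)).symm
  have hg6 : (xj * w) ^ 6 = 1 := by
    rw [hcomm.mul_pow]
    have e1 : xj ^ 6 = (xj ^ 3) ^ 2 := by rw [← pow_mul]
    have e2 : w ^ 6 = (w ^ 2) ^ 3 := by rw [← pow_mul]
    rw [e1, e2, hx3, hw2, one_pow, one_pow, one_mul]
  have hP0 : Pn P xj w 0 = (P : Subgroup G) := by
    ext z
    unfold Pn
    rw [mem_conjS, pow_zero, inv_one, one_mul, mul_one]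
  have hg5 : (xj * w) ^ 5 = (xj * w)⁻¹ := by
    rw [eq_inv_iff_mul_eq_one, ← pow_succ, hg6]
  have hg4 : (xj * w) ^ 4 = ((xj * w)⁻¹) ^ 2 := by
    rw [inv_pow, eq_inv_iff_mul_eq_one, ← pow_add, hg6]
  have hn' : n = 0 ∨ n = 1 ∨ n = 2 ∨ n = 3 ∨ n = 4 ∨ n = 5 := by omega
  rcases hn' with rfl | rfl | rfl | rfl | rfl | rfl
  · exact absurd (hP0 ▸ hxR) hxP
  · -- `n = 1`, `m = 2`
    have h2 : x ∈ Pn P xj w 2 := by rw [← hact 1 2 (by norm_num)]; exact hxconj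
    refine a7rh6_core h3 hC.ht2 hA4 x (xj * w) hxt hxA hxP ?_ h2
    have := hxR
    unfold Pn at this
    rwa [pow_one] at this
  · -- `n = 2`, `m = 1`
    have h1 : x ∈ Pn P xj w 1 := by rw [← hact 2 1 (by norm_num)]; exact hxconj
    refine a7rh6_core h3 hC.ht2 hA4 x (xj * w) hxt hxA hxP ?_ hxR
    unfold Pn at h1
    rwa [pow_one] at h1
  · -- `n = 3`
    exfalso
    apply hxP
    have h0 : conjS t (Pn P xj w 0) = Pn P xj w 3 := hact 0 3 (by norm_num)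
    rw [← h0, mem_conjS, htx, hP0] at hxR
    exact hxR
  · -- `n = 4`, `m = 5`
    have h5 : x ∈ Pn P xj w 5 := by rw [← hact 4 5 (by norm_num)]; exact hxconj
    refine a7rh6_core h3 hC.ht2 hA4 x (xj * w)⁻¹ hxt hxA hxP ?_ ?_
    · unfold Pn at h5
      rwa [hg5] at h5
    · have := hxR
      unfold Pn at this
      rwa [hg4] at this
  · -- `n = 5`, `m = 4`
    have h4' : x ∈ Pn P xj w 4 := by rw [← hact 5 4 (by norm_num)]; exact hxconj
    refine a7rh6_core h3 hC.ht2 hA4 x (xj * w)⁻¹ hxt hxA hxP ?_ ?_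
    · have := hxR
      unfold Pn at this
      rwa [hg5] at this
    · unfold Pn at h4'
      rwa [hg4] at h4'

end Cfsg.Agent.Lib.helper8.A7R
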