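import Mathlib
import Cfsg.Prelude.Def_GeometricClasses
import Cfsg.Agent.Lib.Helper27.ASC.Defs
import Cfsg.Agent.Lib.helper23.ASCO.Defs
import Cfsg.Agent.Lib.Lead.Reindex

/-!
# Project ASCO (leader helper23), piece GRAMTR : `gramPrime_reindex`
-/

set_option autoImplicit false
set_option linter.unusedVariables false
set_option linter.unusedSectionVars false

namespace Cfsg.Agent.Lib.helper23.ASCO

open Cfsg Cfsg.Geo Cfsg.Agent.Lib.Helper27.ASC
open scoped MatrixGroups Matrix

variable {n : ℕ} {F : Type*} [Field F] [Fintype F]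

section transport

open Cfsg.Agent.Lib.Lead

variable {ι κ : Type} [Fintype ι] [DecidableEq ι] [Fintype κ] [DecidableEq κ]

/-- a standard basis vector composed with a reindexing is a standard basis vector -/
theorem ascogramtr_single_comp (e : ι ≃ κ) (k : κ) :
    (Pi.single k (1 : F) : κ → F) ∘ e = Pi.single (e.symm k) 1 := by
  funext a
  simp only [Function.comp_apply, Pi.single_apply]
  by_cases h : e a = k
  · rw [if_pos h, if_pos (by rw [← h, Equiv.symm_apply_apply])]
  · rw [if_neg h, if_neg (fun h' => h (by rw [h', Equiv.apply_symm_apply]))]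

/-- GRAMTR : reindexing keeps the Gram entries in the prime field. -/
theorem gramPrime_reindex (e : ι ≃ κ) (Q : (ι → F) → F) (hG : GramPrime Q) :
    GramPrime (fun x : κ → F => Q (x ∘ e)) := by
  intro F₁ i j
  have h := hG F₁ (e.symm i) (e.symm j)
  unfold QuadraticMap.polar at h ⊢
  have h1 : ((Pi.single i (1 : F) + Pi.single j (1 : F) : κ → F) ∘ e) =
      (Pi.single i (1 : F) : κ → F) ∘ e + (Pi.single j (1 : F) : κ → F) ∘ e := rfl
  simp only [h1, ascogramtr_single_comp]
  exact h

end transport

end Cfsg.Agent.Lib.helper23.ASCO
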