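import Mathlib
import Cfsg.Prelude.Def_GeometricClasses
import Cfsg.Agent.Lib.Helper27.ASC.Defs
import Cfsg.Agent.Lib.helper23.ASCO.Defs
import Cfsg.Agent.Lib.Helper19.ASG.Defs
import Cfsg.Agent.Lib.Helper9.ASGD2T.Defs
import Cfsg.Agent.Lib.Helper25.ASO.Defs
import Cfsg.Agent.Lib.Helper25.ASO.DefsD2T
-- the landed pieces of project ASO
import Cfsg.Agent.Lib.Helper1.ASODEC2
import Cfsg.Agent.Lib.Helper1.ASOFLD
import Cfsg.Agent.Lib.Helper1.ASOFLDN
import Cfsg.Agent.Lib.Helper10.ASOC33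
import Cfsg.Agent.Lib.Helper10.ASOCGRAM
import Cfsg.Agent.Lib.Helper10.ASODEC1
import Cfsg.Agent.Lib.Helper20.ASOD2TGRAM1
import Cfsg.Agent.Lib.Helper20.ASOIDEM
import Cfsg.Agent.Lib.Helper20.ASOSTAR
import Cfsg.Agent.Lib.Helper22.ASOCPOW
import Cfsg.Agent.Lib.Helper22.ASOCSWAPF
import Cfsg.Agent.Lib.Helper22.ASOSIM
import Cfsg.Agent.Lib.Helper24.ASOD2TGRAM2
import Cfsg.Agent.Lib.Helper24.ASOD2TISO
import Cfsg.Agent.Lib.Helper24.ASOTR5
import Cfsg.Agent.Lib.Helper24.ASOTR7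
import Cfsg.Agent.Lib.Helper26.ASOTR1
import Cfsg.Agent.Lib.Helper26.ASOTR2
import Cfsg.Agent.Lib.Helper29.ASOD2T33
import Cfsg.Agent.Lib.Helper29.ASOD2TEQ
import Cfsg.Agent.Lib.helper6.ASOTR3
import Cfsg.Agent.Lib.helper6.ASOTR4
import Cfsg.Agent.Lib.Helper25.ASOADJ
import Cfsg.Agent.Lib.Helper25.ASOD2TSTR
import Cfsg.Agent.Lib.Helper9.ASGD2TGRP
import Cfsg.Agent.Lib.Helper9.ASGD2TASM1

/-!
# Project ASO, block D2T : assembly of the interface `operfect_case` from the pieces of `SkelD2T.lean.txt`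
(verbatim interface statement of `ASO/Skel.lean.txt`)
-/

set_option autoImplicit false
set_option linter.unusedVariables false
set_option linter.unusedSectionVars false

namespace Cfsg.Agent.Lib.Helper25.ASO

open Cfsg Cfsg.Geo Cfsg.Agent.Lib.Helper27.ASC Cfsg.Agent.Lib.helper23.ASCO Cfsg.Agent.Lib.Helper19.ASG
open scoped MatrixGroups Matrix Kronecker

variable {n : ℕ} {F : Type*} [Field F] [Fintype F]

/-- odd characteristic from `2 ≠ 0` -/
theorem asod2t_odd_card (h2 : (2 : F) ≠ 0) : Odd (Fintype.card F) := by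
  by_contra hev
  rw [Nat.not_odd_iff_even] at hev
  have hch : ringChar F = 2 := FiniteField.even_card_iff_char_two.mpr (Nat.even_iff.mp hev)
  have : CharP F 2 := hch ▸ ringChar.charP F
  exact h2 CharTwo.two_eq_zero

/-- D2T with a form -/
theorem operfect_case (hodd : Odd n) (hn : 7 ≤ n) (h2 : (2 : F) ≠ 0) (Q : QuadraticForm F (Fin n → F))
    (hQ : (QuadraticMap.polarBilin Q).Nondegenerate) {H N : Subgroup (GL (Fin n) F)} (hH : Irr H)
    (hHO : H ≤ isometryGroup F (⇑Q)) (hD : AllNormalAbsIrr H) (hN : MinNonscalar N H) (hperf : ⁅N, N⁆ = N) :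
    OClass n (⇑Q) H ∨ (IsSimpleGroup (N ⧸ (scalars (Fin n) F).subgroupOf N) ∧
      ¬ IsMulCommutative (N ⧸ (scalars (Fin n) F).subgroupOf N)) := by
  classical
  obtain ⟨M, hM⟩ := exists_minNonscalar N hN.2.1
  by_cases hMN : M = N
  · right
    rw [hMN] at hM
    exact simple_of_min hN.2.1 hperf hM
  left
  obtain ⟨m, t, X, e, B, ht2, hm2, hXN, hXperf, hXns, hdc, hle⟩ :=
    asod2t_structure (by omega) hH hD hN hperf hM hMN
  have ht0 : 0 < t := by omega
  have hnm : n = m ^ t := by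
    have := Fintype.card_congr e
    simpa using this
  have hmodd : Odd m := by
    rw [hnm] at hodd
    exact (Nat.odd_pow_iff (by omega : t ≠ 0)).mp hodd
  have hm3 : 3 ≤ m := by
    obtain ⟨j, rfl⟩ := hmodd
    omega
  have hXO : ∀ i, X i ≤ isometryGroup F (⇑Q) := fun i => (hXN i).trans (hN.1.1.trans hHO)
  -- the adjoint preserves every tensor factor
  have hstar : ∀ (i : Fin t) (a : Matrix (Fin m) (Fin m) F), ∃ a' : Matrix (Fin m) (Fin m) F,
      oadj (⇑Q) ((B : Matrix (Fin n) (Fin n) F) * Matrix.reindex e.symm e.symm (ptMat (Pi.mulSingle i a)) *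
          ((B⁻¹ : GL (Fin n) F) : Matrix (Fin n) (Fin n) F)) =
        (B : Matrix (Fin n) (Fin n) F) * Matrix.reindex e.symm e.symm (ptMat (Pi.mulSingle i a')) *
          ((B⁻¹ : GL (Fin n) F) : Matrix (Fin n) (Fin n) F) := by
    intro i a
    have h1 : (B : Matrix (Fin n) (Fin n) F) * Matrix.reindex e.symm e.symm (ptMat (Pi.mulSingle i a)) *
        ((B⁻¹ : GL (Fin n) F) : Matrix (Fin n) (Fin n) F) ∈ dcomm (X i) := (hdc i _).mpr ⟨a, rfl⟩
    exact (hdc i _).mp (star_mem_dcomm Q hQ (hXO i) _ h1)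
  obtain ⟨A, c, hc, hA, hG⟩ := opower_gram Q hQ ht0 e B hstar
  have hAs := ptgram_symm h2 hmodd (QuadraticMap.polar (⇑Q)) (fun u v => QuadraticMap.polar_comm _ u v) e B c hc A hA hG
  by_cases h33 : Fintype.card F = 3 ∧ m = 3
  · exfalso
    obtain ⟨hq, rfl⟩ := h33
    let i₀ : Fin t := ⟨0, ht0⟩
    apply hXns i₀
    have hbot : X i₀ = ⊥ := by
      refine no_perfect_o33 hq e B i₀ (A i₀) (hAs i₀) (hA i₀) (X i₀) (hXperf i₀) (fun x hx => ?_)
      obtain ⟨a, ha⟩ := (hdc i₀ _).mp (asgd2tasm_le_dcomm (X i₀) x hx)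
      refine ⟨a, ha, factor_iso _ e B c hc A hA hG i₀ a (fun u v => ?_)⟩
      rw [← ha]
      exact asoadj_iso_polar Q x (hXO i₀ hx) u v
    rw [hbot]
    exact bot_le
  · obtain ⟨B', f₁, hf₁, hT, hle'⟩ :=
      opower_equalise (asod2t_odd_card h2) hmodd ht0 (QuadraticMap.polar (⇑Q)) e B c hc A hA hAs hG
    exact oclass_of_wreath hHO e B' f₁ hm3 ht2 h33 hf₁ hT (hle.trans hle')

end Cfsg.Agent.Lib.Helper25.ASO
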