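import Mathlib
import Cfsg.Prelude.Def_GeometricClasses
import Cfsg.Agent.Lib.Helper27.ASC.Defs
import Cfsg.Agent.Lib.helper23.ASCO.Defs
import Cfsg.Agent.Lib.Helper19.ASG.Defs
import Cfsg.Agent.Lib.Helper25.ASO.Defs
-- the landed pieces of project ASO
import Cfsg.Agent.Lib.Helper1.ASODEC2
import Cfsg.Agent.Lib.Helper1.ASOFLD
import Cfsg.Agent.Lib.Helper1.ASOFLDN
import Cfsg.Agent.Lib.Helper10.ASOC33
import Cfsg.Agent.Lib.Helper10.ASOCGRAM
import Cfsg.Agent.Lib.Helper10.ASODEC1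
import Cfsg.Agent.Lib.Helper20.ASOD2TGRAM1
import Cfsg.Agent.Lib.Helper20.ASOIDEM
import Cfsg.Agent.Lib.Helper20.ASOSTAR
import Cfsg.Agent.Lib.Helper22.ASOCPOW
import Cfsg.Agent.Lib.Helper22.ASOCSWAPF
import Cfsg.Agent.Lib.Helper22.ASOSIM
import Cfsg.Agent.Lib.Helper24.ASOD2TGRAM2
import Cfsg.Agent.Lib.Helper24.ASOD2TISO
import Cfsg.Agent.Lib.Helper24.ASOTR5
import Cfsg.Agent.Lib.Helper24.ASOTR7
import Cfsg.Agent.Lib.Helper25.ASOADJ
import Cfsg.Agent.Lib.Helper26.ASOTR1
import Cfsg.Agent.Lib.Helper26.ASOTR2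
import Cfsg.Agent.Lib.Helper29.ASOD2T33
import Cfsg.Agent.Lib.Helper29.ASOD2TEQ
import Cfsg.Agent.Lib.helper6.ASOTR3
import Cfsg.Agent.Lib.helper6.ASOTR4
import Cfsg.Agent.Lib.Helper25.ASOD2T
-- landed pieces of ASG
import Cfsg.Agent.Lib.Helper1.ASGCLIF5
import Cfsg.Agent.Lib.Helper1.ASGCNORM
import Cfsg.Agent.Lib.Helper10.ASGCONE
import Cfsg.Agent.Lib.Helper10.ASGCSWAP
import Cfsg.Agent.Lib.Helper20.ASGCDIM
import Cfsg.Agent.Lib.Helper24.ASGCASM
import Cfsg.Agent.Lib.Helper25.ASGCFULL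
import Cfsg.Agent.Lib.helper8.ASCSCHURN
import Cfsg.Agent.Lib.Helper18.ASCSCHURB
import Cfsg.Agent.Lib.Helper28.Ld.Trans
-- landed pieces of ASC / ASCO
import Cfsg.Agent.Lib.helper23.ASCOMain
import Cfsg.Agent.Lib.helper23.ASCOFinal

/-!
# Project ASO : assembly of S5673 from the piece statements of `Skel.lean.txt`
-/

set_option autoImplicit false
set_option linter.unusedVariables false
set_option linter.unusedSectionVars false

namespace Cfsg.Agent.Lib.Helper25.ASO

open Cfsg Cfsg.Geo Cfsg.Agent.Lib.Helper27.ASC Cfsg.Agent.Lib.helper23.ASCO Cfsg.Agent.Lib.Helper19.ASG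
open scoped MatrixGroups Matrix Kronecker

variable {n : ℕ} {F : Type*} [Field F] [Fintype F]

/-- a decomposition into lines has `n` members -/
theorem aso_frame_cast {t : ℕ} (Q : (Fin n → F) → F) (D : Fin t → Submodule F (Fin n → F))
    (hD : IsOrthogonalMDecomposition Q 1 D) : t = n := by
  have := Cfsg.Agent.Lib.Helper28.Ld.card_eq D hD.decomp.decomp
  omega

/-- class 2 from an orthogonal decomposition stabilised by `H` (blocks of dimension `> 1`; lines over a prime field; lines over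
a non-prime field: ASCO `frame_subfield`, class 5) -/
theorem oclass_of_odec (hodd : Odd n) (h2 : (2 : F) ≠ 0) (Q : QuadraticForm F (Fin n → F))
    (hQ : (QuadraticMap.polarBilin Q).Nondegenerate) (hG : GramPrime (⇑Q)) {H : Subgroup (GL (Fin n) F)}
    (hHO : H ≤ isometryGroup F (⇑Q)) {t k : ℕ} (D : Fin t → Submodule F (Fin n → F))
    (hD : IsOrthogonalMDecomposition (⇑Q) k D) (hHD : H ≤ decompositionStabilizer D) : OClass n (⇑Q) H := by
  by_cases hk : 1 < k
  · exact oclass_of_dec hHO D hk hD hHD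
  have hk1 : k = 1 := by
    have := hD.decomp.decomp.pos
    omega
  subst hk1
  by_cases hp : (Fintype.card F).Prime
  · exact oclass_of_frame hHO D hp hD hHD
  have ht : t = n := aso_frame_cast (⇑Q) D hD
  subst ht
  obtain ⟨F₁, ℓ, B, hℓ, hcard, hrat, hle⟩ := asco_frame_subfield hodd h2 Q hQ hG hp D hD
  exact oclass_of_subfield hHO F₁ B hℓ hcard hrat ((le_inf hHD hHO).trans hle)

/-- Block AB with a form -/
theorem oclifford_ab (hodd : Odd n) (h2 : (2 : F) ≠ 0) (Q : QuadraticForm F (Fin n → F))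
    (hQ : (QuadraticMap.polarBilin Q).Nondegenerate) (hG : GramPrime (⇑Q)) {H N : Subgroup (GL (Fin n) F)}
    (hH : Irr H) (hHO : H ≤ isometryGroup F (⇑Q)) (hN : NormalIn N H) :
    OClass n (⇑Q) H ∨ ∃ k : ℕ, Nonempty (centAlg N ≃ₐ[F] Matrix (Fin k) (Fin k) F) := by
  have hn0 : 0 < n := hodd.pos
  by_cases hidem : ∀ e ∈ asgZ N, e * e = e → e = 0 ∨ e = 1
  · -- the centre is a field
    have hsa := ofield_selfadj hodd h2 Q hQ hH hHO hN hidem
    have hfield := asgclif_field hn0 hH hN hidem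
    by_cases hb2 : 2 ≤ Module.finrank F (asgZ N)
    · left
      obtain ⟨r, K', hr, -, h1, h2', h3⟩ := asgclif_primesub (asgZ N) hfield hb2
      have hnr : n ≠ r := by
        rintro rfl
        exact ofield_degree_ne hr.two_le h2 Q hQ (hN.1.trans hHO) K' h1 h2' hsa
      refine oclass_of_field hHO K' hr hnr h1 (fun k hk u v => ?_) ((asgclif_normalizes_Z hN).trans h3)
      have := oadj_spec Q hQ k u v
      rwa [hsa k (h2' hk)] at this
    · right
      haveI : Nonempty (Fin n) := ⟨⟨0, hn0⟩⟩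
      have hb1 : Module.finrank F (asgZ N) = 1 := by
        have h0 : Module.finrank F (asgZ N) ≠ 0 := by
          intro h0
          haveI : Subsingleton (asgZ N) := Module.finrank_zero_iff.mp h0
          have h01 : (0 : asgZ N) = 1 := Subsingleton.elim _ _
          have h2 := congrArg (fun y : asgZ N => (y : Matrix (Fin n) (Fin n) F)) h01
          simp at h2
        omega
      have hbot : asgZ N = ⊥ := Subalgebra.finrank_eq_one_iff.mp hb1
      refine asgclif_matrix hn0 hH hN (fun z hz => ?_)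
      rw [hbot, Algebra.mem_bot] at hz
      obtain ⟨c, rfl⟩ := hz
      exact ⟨c, Algebra.algebraMap_eq_smul_one c⟩
  · -- a non-trivial idempotent
    left
    push Not at hidem
    obtain ⟨e0, he0, hid0, h00, h01⟩ := hidem
    obtain ⟨t, E, hE⟩ := idem_system hn0 hH hN e0 he0 hid0 h00 h01
    have hsa := idem_selfadj hodd h2 Q hQ hHO hN E hE
    obtain ⟨k, hD, hHD⟩ := odec_of_selfadj Q hQ hHO E hE hsa
    exact oclass_of_odec hodd h2 Q hQ hG hHO _ hD hHD

/-- Block C with a form -/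
theorem otensor_case (hodd : Odd n) (hn : 7 ≤ n) (h2 : (2 : F) ≠ 0) (Q : QuadraticForm F (Fin n → F))
    (hQ : (QuadraticMap.polarBilin Q).Nondegenerate) {H N : Subgroup (GL (Fin n) F)} (hH : Irr H)
    (hHO : H ≤ isometryGroup F (⇑Q)) (hN : NormalIn N H) {k : ℕ}
    (φ : centAlg N ≃ₐ[F] Matrix (Fin k) (Fin k) F) (hk1 : 1 < k) (hkn : k < n) : OClass n (⇑Q) H := by
  classical
  obtain ⟨d, e, P, hstd⟩ := std_embedding (n := n) (by omega : 0 < k)
    ((centAlg N).val.comp (φ.symm : Matrix (Fin k) (Fin k) F →ₐ[F] centAlg N))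
  have hnkd : n = k * d := by
    have := Fintype.card_congr e
    simpa using this
  have hHle : H ≤ tensorProductSubgroup k d e P :=
    (normalizes_cent hN).trans
      (normalizer_le_tensor (by omega) (centAlg N) φ e P (fun a => hstd a))
  have hkodd : Odd k := by
    rw [hnkd] at hodd
    exact (Nat.odd_mul.mp hodd).1
  have hdodd : Odd d := by
    rw [hnkd] at hodd
    exact (Nat.odd_mul.mp hodd).2
  have hk3 : 3 ≤ k := by
    obtain ⟨j, rfl⟩ := hkodd
    omega
  have hd1 : d ≠ 1 := by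
    rintro rfl
    omega
  have hd3 : 3 ≤ d := by
    obtain ⟨j, rfl⟩ := hdodd
    omega
  -- the adjoint preserves the standard copy of `M_k(F)`
  have hstar : ∀ a : Matrix (Fin k) (Fin k) F, ∃ a' : Matrix (Fin k) (Fin k) F,
      oadj (⇑Q) ((P : Matrix (Fin n) (Fin n) F) *
          Matrix.reindexAlgEquiv F F e.symm (a ⊗ₖ (1 : Matrix (Fin d) (Fin d) F)) *
          ((P⁻¹ : GL (Fin n) F) : Matrix (Fin n) (Fin n) F)) =
        (P : Matrix (Fin n) (Fin n) F) *
          Matrix.reindexAlgEquiv F F e.symm (a' ⊗ₖ (1 : Matrix (Fin d) (Fin d) F)) *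
          ((P⁻¹ : GL (Fin n) F) : Matrix (Fin n) (Fin n) F) := by
    intro a
    have h1 : oadj (⇑Q) (((φ.symm a : centAlg N) : Matrix (Fin n) (Fin n) F)) ∈ centAlg N :=
      star_mem_cent Q hQ (hN.1.trans hHO) _ (φ.symm a).2
    refine ⟨φ ⟨_, h1⟩, ?_⟩
    have h2' := hstd (φ ⟨_, h1⟩)
    have h3 := hstd a
    have e2 : ((centAlg N).val.comp (φ.symm : Matrix (Fin k) (Fin k) F →ₐ[F] centAlg N)) (φ ⟨_, h1⟩) =
        oadj (⇑Q) (((φ.symm a : centAlg N) : Matrix (Fin n) (Fin n) F)) := by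
      change ((φ.symm (φ ⟨_, h1⟩) : centAlg N) : Matrix (Fin n) (Fin n) F) = _
      rw [AlgEquiv.symm_apply_apply]
    have e3 : ((centAlg N).val.comp (φ.symm : Matrix (Fin k) (Fin k) F →ₐ[F] centAlg N)) a =
        ((φ.symm a : centAlg N) : Matrix (Fin n) (Fin n) F) := rfl
    rw [← h3, ← h2', e2, e3]
  obtain ⟨f₁, f₂, hf₁, hf₂, hT⟩ := otensor_gram hodd h2 Q hQ e P hstar
  rcases lt_trichotomy k d with hlt | heq | hgt
  · exact oclass_of_tensor hHO e P f₁ f₂ hk3 hlt hf₁ hf₂ hT hHle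
  · subst heq
    by_cases h33 : Fintype.card F = 3 ∧ k = 3
    · obtain ⟨hq, rfl⟩ := h33
      obtain ⟨D, hD, hle⟩ := tensor_three_three h2 Q hQ hq e P f₁ f₂ hf₁ hf₂ hT
      have hp : (Fintype.card F).Prime := by rw [hq]; norm_num
      exact oclass_of_frame hHO D hp hD ((le_inf hHle hHO).trans hle)
    · obtain ⟨S, μ, hμ, hS⟩ := symm_similar (asco_odd_card h2) hkodd f₁ f₂ hf₁ hf₂
      obtain ⟨P', hT', hle⟩ := tensorForm_pow (QuadraticMap.polar (⇑Q)) e P f₁ f₂ hf₁ hf₂ hT S μ hμ hS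
      exact oclass_of_wreath hHO _ P' f₁ hk3 le_rfl h33 hf₁ hT' (hHle.trans hle)
  · rw [tensor_swap] at hHle
    exact oclass_of_tensor hHO _ P f₂ f₁ hd3 hgt hf₂ hf₁ (tensorForm_swap _ f₁ f₂ e P hT) hHle

/-- blocks AB + C : a subgroup normalised by an irreducible group of isometries is scalar or absolutely irreducible, or `H` is in a
class -/
theorem onormal_dichotomy (hodd : Odd n) (hn : 7 ≤ n) (h2 : (2 : F) ≠ 0) (Q : QuadraticForm F (Fin n → F))
    (hQ : (QuadraticMap.polarBilin Q).Nondegenerate) (hG : GramPrime (⇑Q)) {H N : Subgroup (GL (Fin n) F)}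
    (hH : Irr H) (hHO : H ≤ isometryGroup F (⇑Q)) (hN : NormalIn N H) :
    OClass n (⇑Q) H ∨ N ≤ scalars (Fin n) F ∨ AbsIrr N := by
  rcases oclifford_ab hodd h2 Q hQ hG hH hHO hN with h | ⟨k, ⟨φ⟩⟩
  · exact Or.inl h
  · obtain ⟨hk0, hkn⟩ := cent_matrix_le (by omega) φ
    rcases Nat.lt_or_ge 1 k with hk1 | hk1
    · rcases Nat.lt_or_ge k n with hlt | hge
      · exact Or.inl (otensor_case hodd hn h2 Q hQ hH hHO hN φ hk1 hlt)
      · have hkn' : k = n := le_antisymm hkn hge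
        subst hkn'
        exact Or.inr (Or.inl (scalar_of_cent_full φ))
    · have hk : k = 1 := by omega
      subst hk
      exact Or.inr (Or.inr (absIrr_of_cent_one hH hN φ))

/-- Aschbacher's theorem for `Ω_n(q)`, `n ≥ 7` odd, `q` odd, over the index type `Fin n` -/
theorem aso_main (hodd : Odd n) (hn : 7 ≤ n) (h2 : (2 : F) ≠ 0) (Q : QuadraticForm F (Fin n → F))
    (hQ : (QuadraticMap.polarBilin Q).Nondegenerate) (hG : GramPrime (⇑Q)) (H : Subgroup (GL (Fin n) F))
    (hHΩ : H ≤ omegaGL (⇑Q)) : OClass n (⇑Q) H ∨ InOrthogonalResidualClass H := by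
  classical
  have hHO : H ≤ isometryGroup F (⇑Q) := hHΩ.trans (omega_le_iso _)
  have hoddF : Odd (Fintype.card F) := asco_odd_card h2
  by_cases hirr : Irr H
  swap
  · -- Stage A
    obtain ⟨W, h0, h1, hW, hcase⟩ := ored_case hodd h2 Q hQ hHO hirr
    rcases hcase with hts | ⟨hev, hnd⟩
    · exact Or.inl (oclass_of_ts hHO W h0 hts hW)
    · exact Or.inl (oclass_of_nd hHO W h0 h1 hnd hW)
  by_cases hcl : OClass n (⇑Q) H
  · exact Or.inl hcl
  have hD : AllNormalAbsIrr H := by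
    intro N hN
    rcases onormal_dichotomy hodd hn h2 Q hQ hG hirr hHO hN with h | h | h
    · exact absurd h hcl
    · exact Or.inl h
    · exact Or.inr h
  obtain ⟨N, hNmin⟩ := exists_minNonscalar H (irr_not_scalar (by omega) hirr)
  have hNn : NormalIn N H := hNmin.1
  have hA : AbsIrr N := (hD N hNn).resolve_left hNmin.2.1
  have hcomm := commutator_normalIn hNn
  rcases hNmin.2.2 _ hcomm (Subgroup.commutator_le_self N) with hab | hperf
  · -- D1 : `⁅N, N⁆` is a scalar subgroup of `Ω`, hence trivial, and `N` is commutative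
    exfalso
    have hbot : ⁅N, N⁆ = ⊥ := by
      rw [eq_bot_iff, ← omega_inf_scalars hodd h2 Q hQ]
      exact le_inf ((Subgroup.commutator_le_self N).trans (hNn.1.trans hHΩ)) hab
    have hc : ∀ a ∈ N, ∀ b ∈ N, a * b = b * a := by
      intro a ha b hb
      have h1 : a * b * a⁻¹ * b⁻¹ ∈ ⁅N, N⁆ := Subgroup.commutator_mem_commutator ha hb
      rw [hbot, Subgroup.mem_bot] at h1
      have h3 : a * b * a⁻¹ * b⁻¹ * b * a = a * b := by group
      rw [h1, one_mul] at h3
      exact h3.symm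
    exact hNmin.2.1 (asces3_comm_scalar hc (Or.inr hA))
  · -- D2
    rcases operfect_case hodd hn h2 Q hQ hirr hHO hD hNmin hperf with h | ⟨hsimp, hnab⟩
    · exact Or.inl h
    by_cases hsub : ∃ F₀ : Subfield F, F₀ ≠ ⊤ ∧ RealisableOver F₀ (matrixSet N)
    · obtain ⟨F₀, h0, hR⟩ := hsub
      obtain ⟨F₁, ℓ, B, hℓ, hcard, hrat, hle⟩ :=
        asco_quad_rational_of_realisable hodd h2 Q hQ hG hNn hA hHO F₀ h0 hR
      exact Or.inl (oclass_of_subfield hHO F₁ B hℓ hcard hrat hle)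
    · -- residual
      refine Or.inr ⟨N, ⟨hNn.1, hNn.2, hperf, hsimp, hnab,
        centralizer_scalar_of hNn hperf hA, hA, ?_⟩, ?_⟩
      · intro F₀ h0 hR
        exact hsub ⟨F₀, h0, hR⟩
      · rintro ⟨σ, f, hf, hfix⟩
        exact hsub (asco_realisable_of_quad_unitary hoddF hA (⇑Q)
          (isNondegenerateQuadraticForm_coe Q hQ) (asco_fixes_of_le _ (hNn.1.trans hHO)) σ f hf hfix)

section final

open Cfsg.Agent.Lib.Lead Cfsg.Agent.Lib.Helper16

variable {ι κ : Type} [Fintype ι] [DecidableEq ι] [Fintype κ] [DecidableEq κ]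

/-- transport of class membership along a reindexing -/
theorem oclass_transport (d : ℕ) (e : ι ≃ κ) (Q : (ι → F) → F) (H : Subgroup (GL ι F))
    (h : OClass d (fun x : κ → F => Q (x ∘ e)) (H.map (RI.glReindex (F := F) e).toMonoidHom)) :
    OClass d Q H := by
  obtain ⟨M', hM', hle⟩ := h
  refine ⟨M'.comap (RI.glReindex (F := F) e).toMonoidHom, ?_, Subgroup.map_le_iff_le_comap.mp hle⟩
  rcases hM' with h | h | h | h | h | h | h | h
  · exact Or.inl (ots_transport e Q M' h)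
  · exact Or.inr (Or.inl (ond_transport e Q M' h))
  · exact Or.inr (Or.inr (Or.inl (odec_transport e Q M' h)))
  · exact Or.inr (Or.inr (Or.inr (Or.inl (oframe_transport e Q M' h))))
  · exact Or.inr (Or.inr (Or.inr (Or.inr (Or.inl (ofield_transport d e Q M' h)))))
  · exact Or.inr (Or.inr (Or.inr (Or.inr (Or.inr (Or.inl (otensor_transport e Q M' h))))))
  · exact Or.inr (Or.inr (Or.inr (Or.inr (Or.inr (Or.inr (Or.inl (osub_transport e Q M' h)))))))
  · exact Or.inr (Or.inr (Or.inr (Or.inr (Or.inr (Or.inr (Or.inr (owreath_transport e Q M' h)))))))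

/-- the theorem for any index type of odd cardinality `n ≥ 7` -/
theorem aso_any (hcard : Fintype.card ι = n) (hodd : Odd n) (hn : 7 ≤ n) (h2 : (2 : F) ≠ 0)
    (Q : QuadraticForm F (ι → F)) (hQ : (QuadraticMap.polarBilin Q).Nondegenerate)
    (hG : GramPrime (⇑Q)) (H : Subgroup (GL ι F)) (hH : H ≤ omegaGL (⇑Q)) :
    OClass n (⇑Q) H ∨ InOrthogonalResidualClass H := by
  let e : ι ≃ Fin n := Fintype.equivFinOfCardEq hcard
  have hH' : H.map (RI.glReindex (F := F) e).toMonoidHom ≤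
      (omegaGL (⇑Q)).map (RI.glReindex (F := F) e).toMonoidHom := Subgroup.map_mono hH
  rw [Cfsg.Agent.Lib.Helper28.OTrans.map_omegaGL] at hH'
  rcases aso_main hodd hn h2 (RI.qReindex e Q) (RI.qReindex_nondeg e Q hQ)
    (gramPrime_reindex e (⇑Q) hG) _ hH' with h | h
  · exact Or.inl (oclass_transport n e (⇑Q) H h)
  · exact Or.inr (residual_transport e H h)

/-- the standard odd-dimensional form -/
theorem aso_std (m : ℕ) (hm : 3 ≤ m) (hodd : Odd (Fintype.card F)) (H : Subgroup (GL (Unit ⊕ (Fin m ⊕ Fin m)) F))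
    (hH : H ≤ omegaGL (quadFormOdd m F)) :
    (∃ M : Subgroup (GL (Unit ⊕ (Fin m ⊕ Fin m)) F), InOrthogonalOddClass m F M ∧ H ≤ M) ∨
      InOrthogonalResidualClass H := by
  have h2 : (2 : F) ≠ 0 := Cfsg.Agent.S0292.two_ne_zero_of_odd rfl hodd
  have hcard : Fintype.card (Unit ⊕ (Fin m ⊕ Fin m)) = 2 * m + 1 := by
    simp only [Fintype.card_sum, Fintype.card_fin, Fintype.card_unit]
    omega
  have := aso_any hcard ⟨m, rfl⟩ (by omega) h2 (qfOdd m F) (Cfsg.Agent.S0292.nondeg_odd h2 m)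
    (by rw [qfOdd_coe]; exact gramPrime_quadFormOdd m) H (by rw [qfOdd_coe]; exact hH)
  rw [qfOdd_coe] at this
  rcases this with ⟨M, hM, hle⟩ | h
  · exact Or.inl ⟨M, (inOddClass_std m M).mp hM, hle⟩
  · exact Or.inr h

end final

end Cfsg.Agent.Lib.Helper25.ASO
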