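import Mathlib
import Cfsg.Prelude.Def_GeometricClasses
import Cfsg.Agent.Lib.Helper27.ASC.Defs
import Cfsg.Agent.Lib.Helper19.ASG.Defs
import Cfsg.Agent.Lib.Helper19.ASU.Defs
import Cfsg.Agent.Lib.Helper26.ASUC.Defs

set_option autoImplicit false
set_option linter.unusedVariables false
set_option linter.unusedSectionVars false

/-!
# Project ASU, block C, piece C-22FORM (helper25) : `uc_two_two_form`
-/

namespace Cfsg.Agent.Lib.Helper19.ASU

open Cfsg Cfsg.Geo Cfsg.Agent.Lib.Helper27.ASC Cfsg.Agent.Lib.Helper19.ASG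
open scoped MatrixGroups Matrix Kronecker

variable {n : ℕ} {F : Type*} [Field F]

/-- explicit form of the Gram form `c² (J ⊗ J)` -/
theorem asuc22form_expand (σ : F → F) (c : F) (x y : Fin 2 × Fin 2 → F) :
    formOfGram σ ((c • (ucJ : Matrix (Fin 2) (Fin 2) F)) ⊗ₖ (c • ucJ)) x y =
      c * c * (x (0, 0) * σ (y (1, 1)) - x (0, 1) * σ (y (1, 0)) - x (1, 0) * σ (y (0, 1)) +
        x (1, 1) * σ (y (0, 0))) := by
  unfold formOfGram
  simp only [Fintype.sum_prod_type, Fin.sum_univ_two, Matrix.kroneckerMap_apply, Matrix.smul_apply, ucJ_def,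
    Matrix.of_apply, Matrix.cons_val', Matrix.cons_val_zero, Matrix.cons_val_one, Matrix.cons_val_fin_one,
    smul_eq_mul]
  ring


/-- C-22FORM -/
theorem uc_two_two_form [Fintype F] (q : ℕ) (hF : Fintype.card F = q ^ 2) (F₀ : Subfield F)
    (hF₀ : ∀ a : F, a ∈ F₀ ↔ a ^ q = a) (e : Fin n ≃ Fin 2 × Fin 2) (P : GL (Fin n) F) (c : F) (hc : c ^ q = -c)
    (hK : UKrGram q e P (c • ucJ) (c • ucJ)) :
    IsFormRationalStructure (hermForm n F q) F₀ 1 P ∧
      ((2 : F) = 0 → ∀ u : Fin n → F, (∀ i, u i ∈ F₀) →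
        hermForm n F q ((P : Matrix (Fin n) (Fin n) F) *ᵥ u) ((P : Matrix (Fin n) (Fin n) F) *ᵥ u) = 0) := by
  have hcc : c * c ∈ F₀ := by
    rw [hF₀, mul_pow, hc]
    ring
  have hcomp : ∀ u : Fin n → F, (u ∘ e.symm) ∘ e = u := by
    intro u
    funext i
    simp
  have hform : ∀ u v : Fin n → F,
      hermForm n F q ((P : Matrix (Fin n) (Fin n) F) *ᵥ u) ((P : Matrix (Fin n) (Fin n) F) *ᵥ v) =
        c * c * (u (e.symm (0, 0)) * (v (e.symm (1, 1))) ^ q - u (e.symm (0, 1)) * (v (e.symm (1, 0))) ^ q -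
          u (e.symm (1, 0)) * (v (e.symm (0, 1))) ^ q + u (e.symm (1, 1)) * (v (e.symm (0, 0))) ^ q) := by
    intro u v
    have h := hK (u ∘ e.symm) (v ∘ e.symm)
    rw [hcomp, hcomp, asuc22form_expand] at h
    exact h
  constructor
  · intro u v hu hv
    rw [one_mul, hform]
    have hv' : ∀ i, (v i) ^ q = v i := fun i => (hF₀ _).mp (hv i)
    simp only [hv']
    exact F₀.mul_mem hcc (F₀.add_mem (F₀.sub_mem (F₀.sub_mem (F₀.mul_mem (hu _) (hv _))
      (F₀.mul_mem (hu _) (hv _))) (F₀.mul_mem (hu _) (hv _))) (F₀.mul_mem (hu _) (hv _)))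
  · intro h2 u hu
    rw [hform]
    have hu' : ∀ i, (u i) ^ q = u i := fun i => (hF₀ _).mp (hu i)
    simp only [hu']
    linear_combination (c * c * (u (e.symm (0, 0)) * u (e.symm (1, 1)) - u (e.symm (0, 1)) * u (e.symm (1, 0)))) * h2

end Cfsg.Agent.Lib.Helper19.ASU
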