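import Mathlib
import Cfsg.Agent.Lib.helper7.ProjExt
import Cfsg.Agent.Lib.Helper25.CharBasic
import Cfsg.Agent.Lib.Helper25.CharOrth
import Cfsg.Agent.Lib.helper7.LocalIdeal
import Cfsg.Agent.Lib.helper7.Rob1
import Cfsg.Agent.Lib.helper7.LocalIdeal2
import Cfsg.Agent.Lib.helper7.BlockOsima
import Cfsg.Agent.Lib.helper7.BlockInd2
import Cfsg.Agent.Lib.helper7.BlockCover
import Cfsg.Agent.Lib.Helper24.AFT1

/-!
Relative central characters (Alperin-Dade type arguments): for N normal in G and psi in Irr(G) with irreducible restriction to N in the principal block, if G = N C with all elements of C having N-class size prime to p, then psi can be twisted by a linear character of G/N so that |cl_N(y)| (chi(y)/chi(1) - 1) lies in the local ideal for all y (rcc_core); consequently chi restricted to any J >= N is in the principal block (rcc_main). Tools: rcc_avg (averaging identity), rcc_orbit_sum, rcc_pair_sum, rcc_lift (lifting a multiplicative function mod the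 local ideal to a linear character), rcc_root_eq_one, rcc_relIndex_formula.
-/

set_option autoImplicit false
set_option linter.style.haveILetI false
set_option linter.unusedVariables false
set_option warn.classDefReducibility false
set_option maxHeartbeats 1600000
set_option linter.unusedSectionVars false

namespace Cfsg.Agent.Lib.Helper25
open Cfsg.Agent.Lib.Helper11
open Cfsg.Agent.Lib.helper2
open Cfsg.Agent.Lib.helper7
open scoped ComplexConjugate
open Cfsg.Agent.Lib.Helper24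
section

variable {G : Type*} [Group G]

/-- if the character of `ρ` restricted to the subgroup `N` is an irreducible character, the
restricted representation is irreducible -/
theorem rcc_restrict_irr (N : Subgroup G) [Fintype N] {V : Type*} [AddCommGroup V] [Module ℂ V]
    [FiniteDimensional ℂ V] (ρ : Representation ℂ G V)
    (hN : Cfsg.IsIrrCharacter N (fun n : N => ρ.character n)) :
    Representation.IsIrreducible (show Representation ℂ N V from ρ.comp N.subtype) := by
  obtain ⟨d, ρ', hρ', hchar⟩ := hN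
  haveI := hρ'
  have hc : Representation.character (show Representation ℂ N V from ρ.comp N.subtype) =
      ρ'.character := by
    rw [hchar]
    rfl
  obtain ⟨E, hE⟩ := h7_equiv_of_char_eq ρ' (ρ.comp N.subtype : Representation ℂ N V) hc
  apply isIrreducible_of_equiv ρ' (ρ.comp N.subtype : Representation ℂ N V) E
  intro g v
  have := congrArg (fun f : (Fin d → ℂ) →ₗ[ℂ] V => f v) (hE g)
  simpa using this

/-- averaging identity: if `ψ_N` is irreducible then
`Σ_{n ∈ N} ψ(n⁻¹ g n h) = |N| ψ(g) ψ(h) / ψ(1)` -/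
theorem rcc_avg [Fintype G] (N : Subgroup G) [Fintype N] (ψ : Cfsg.IrrCharacter G)
    (hN : Cfsg.IsIrrCharacter N (fun n : N => (ψ : G → ℂ) n)) (g h : G) :
    ∑ n : N, (ψ : G → ℂ) ((n : G)⁻¹ * g * n * h) =
      (Nat.card N : ℂ) * (ψ : G → ℂ) g * (ψ : G → ℂ) h / (ψ : G → ℂ) 1 := by
  classical
  obtain ⟨d, ρ, hρ, hψ⟩ := ψ.2
  haveI := hρ
  have hN' : Cfsg.IsIrrCharacter N (fun n : N => ρ.character n) := by rw [hψ]; exact hN
  haveI hτ := rcc_restrict_irr N ρ hN'
  set τ : Representation ℂ N (Fin d → ℂ) := ρ.comp N.subtype with hτdef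
  set T : Module.End ℂ (Fin d → ℂ) := ∑ n : N, ρ ((n : G)⁻¹) * ρ g * ρ (n : G) with hT
  have hcomm : ∀ m : N, T ∘ₗ τ m = τ m ∘ₗ T := by
    intro m
    rw [← Module.End.mul_eq_comp, ← Module.End.mul_eq_comp, hT, Finset.sum_mul, Finset.mul_sum]
    have hτm : τ m = ρ (m : G) := rfl
    rw [hτm]
    rw [← Equiv.sum_comp (Equiv.mulRight m) (fun n : N => ρ (m : G) * (ρ ((n : G)⁻¹) * ρ g * ρ (n : G)))]
    refine Finset.sum_congr rfl fun n _ => ?_
    simp only [Equiv.coe_mulRight, Subgroup.coe_mul]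
    rw [← map_mul, ← map_mul, ← map_mul, ← map_mul, ← map_mul, ← map_mul]
    congr 1
    group
  obtain ⟨c, hc⟩ := commuting_end_scalar τ T hcomm
  have hψcl : ∀ a b : G, ρ.character (b * a * b⁻¹) = ρ.character a := by
    intro a b
    rw [hψ]
    exact irr_conj_invariant ψ a b
  have htr1 : LinearMap.trace ℂ _ T = (Nat.card N : ℂ) * ρ.character g := by
    rw [hT, map_sum]
    have : ∀ n ∈ (Finset.univ : Finset N), LinearMap.trace ℂ _ (ρ ((n : G)⁻¹) * ρ g * ρ (n : G)) =
        ρ.character g := by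
      intro n _
      rw [← map_mul, ← map_mul]
      have := hψcl g (n : G)⁻¹
      rw [inv_inv] at this
      exact this
    rw [Finset.sum_congr rfl this, Finset.sum_const, Finset.card_univ, nsmul_eq_mul,
      Nat.card_eq_fintype_card]
  have htr2 : LinearMap.trace ℂ _ T = c * ρ.character 1 := by
    rw [hc, map_smul, LinearMap.trace_id, Representation.char_one, smul_eq_mul]
  have h1 : ρ.character 1 ≠ 0 := by
    rw [Representation.char_one]
    exact_mod_cast finrank_ne_zero_of_irr ρ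
  have hcval : c = (Nat.card N : ℂ) * ρ.character g / ρ.character 1 := by
    rw [eq_div_iff h1, ← htr2, htr1]
  have hsum : ∑ n : N, ρ.character ((n : G)⁻¹ * g * n * h) = LinearMap.trace ℂ _ (T * ρ h) := by
    rw [hT, Finset.sum_mul, map_sum]
    refine Finset.sum_congr rfl fun n _ => ?_
    rw [← map_mul, ← map_mul, ← map_mul]
    rfl
  rw [← hψ, hsum, hc, smul_mul_assoc, map_smul, smul_eq_mul, hcval]
  have : (LinearMap.id : (Fin d → ℂ) →ₗ[ℂ] (Fin d → ℂ)) * ρ h = ρ h := by
    rw [Module.End.mul_eq_comp, LinearMap.id_comp]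
  rw [this]
  change _ * ρ.character h = _
  ring

end

section

/-- the orbit of `x` as a finset -/
theorem rcc_orbit_card {A X : Type*} [Group A] [Fintype A] [MulAction A X] [DecidableEq X] (x : X) :
    (Finset.univ.image (fun a : A => a • x)).card = (MulAction.stabilizer A x).index := by
  rw [MulAction.index_stabilizer, ← Nat.card_coe_set_eq]
  symm
  apply Nat.subtype_card
  intro z
  rw [Finset.mem_image]
  constructor
  · rintro ⟨a, -, rfl⟩
    exact MulAction.mem_orbit x a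
  · rintro ⟨a, rfl⟩
    exact ⟨a, Finset.mem_univ _, rfl⟩

/-- sum of an invariant function with orbit-size weighted values in the local ideal -/
theorem rcc_orbit_sum {A X : Type*} [Group A] [Fintype A] [MulAction A X] [DecidableEq X]
    {M : Ideal Cfsg.AlgInt} (hM : M.IsPrime) (F : X → ℂ)
    (hF : ∀ (a : A) (x : X), F (a • x) = F x) :
    ∀ S : Finset X, (∀ (a : A) (x : X), x ∈ S → a • x ∈ S) →
      (∀ x ∈ S, Cfsg.MemLocalIdeal M (((MulAction.stabilizer A x).index : ℂ) * F x)) →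
      Cfsg.MemLocalIdeal M (∑ x ∈ S, F x) := by
  intro S
  induction S using Finset.strongInduction with
  | H S ih =>
    intro hS hI
    rcases S.eq_empty_or_nonempty with h | ⟨x, hx⟩
    · rw [h, Finset.sum_empty]
      exact h7_memLocalIdeal_zero hM
    · set O : Finset X := Finset.univ.image (fun a : A => a • x) with hO
      have hOS : O ⊆ S := by
        intro z hz
        obtain ⟨a, -, rfl⟩ := Finset.mem_image.mp hz
        exact hS a x hx
      have hxO : x ∈ O := Finset.mem_image.mpr ⟨1, Finset.mem_univ _, one_smul A x⟩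
      have hsplit : ∑ z ∈ S, F z = ∑ z ∈ O, F z + ∑ z ∈ S \ O, F z := by
        rw [← Finset.sum_sdiff hOS, add_comm]
      rw [hsplit]
      apply h7_memLocalIdeal_add hM
      · have : ∑ z ∈ O, F z = ((MulAction.stabilizer A x).index : ℂ) * F x := by
          have h1 : ∀ z ∈ O, F z = F x := by
            intro z hz
            obtain ⟨a, -, rfl⟩ := Finset.mem_image.mp hz
            exact hF a x
          rw [Finset.sum_congr rfl h1, Finset.sum_const, nsmul_eq_mul, hO, rcc_orbit_card]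
        rw [this]
        exact hI x hx
      · apply ih (S \ O)
        · refine Finset.ssubset_iff_subset_ne.mpr ⟨Finset.sdiff_subset, ?_⟩
          intro h
          have : x ∈ S \ O := by rw [h]; exact hx
          exact (Finset.mem_sdiff.mp this).2 hxO
        · intro a z hz
          obtain ⟨hzS, hzO⟩ := Finset.mem_sdiff.mp hz
          refine Finset.mem_sdiff.mpr ⟨hS a z hzS, ?_⟩
          intro haz
          apply hzO
          obtain ⟨b, -, hb⟩ := Finset.mem_image.mp haz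
          refine Finset.mem_image.mpr ⟨a⁻¹ * b, Finset.mem_univ _, ?_⟩
          rw [mul_smul, hb, inv_smul_smul]
        · intro z hz
          exact hI z (Finset.mem_sdiff.mp hz).1

/-- sum over the group of `f (a • x)` in terms of the sum over the orbit -/
theorem rcc_sum_smul {A X : Type*} [Group A] [Fintype A] [MulAction A X] [DecidableEq X]
    (x : X) (f : X → ℂ) :
    ∑ a : A, f (a • x) = (Nat.card (MulAction.stabilizer A x) : ℂ) *
      ∑ z ∈ Finset.univ.image (fun a : A => a • x), f z := by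
  classical
  rw [Finset.sum_comp f (fun a : A => a • x), Finset.mul_sum]
  refine Finset.sum_congr rfl fun z hz => ?_
  obtain ⟨a₀, -, rfl⟩ := Finset.mem_image.mp hz
  rw [nsmul_eq_mul]
  congr 2
  have h1 : Nat.card (MulAction.stabilizer A x) =
      (Finset.univ.filter (fun a : A => a ∈ MulAction.stabilizer A x)).card := by
    apply Nat.subtype_card
    intro a
    simp
  rw [h1]
  apply Finset.card_bij (fun a _ => a₀⁻¹ * a)
  · intro a ha
    have := (Finset.mem_filter.mp ha).2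
    refine Finset.mem_filter.mpr ⟨Finset.mem_univ _, ?_⟩
    rw [MulAction.mem_stabilizer_iff, mul_smul, this, inv_smul_smul]
  · intro a _ b _ h
    exact mul_left_cancel h
  · intro b hb
    have hb' := (Finset.mem_filter.mp hb).2
    refine ⟨a₀ * b, ?_, by group⟩
    refine Finset.mem_filter.mpr ⟨Finset.mem_univ _, ?_⟩
    rw [mul_smul, MulAction.mem_stabilizer_iff.mp hb']

end

section

variable {G : Type*} [Group G]

/-- conjugation action of the subgroup `N` on `G` -/
def rcc_conjAct (N : Subgroup G) : MulAction (ConjAct N) G where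
  smul n x := ((ConjAct.ofConjAct n : N) : G) * x * ((ConjAct.ofConjAct n : N) : G)⁻¹
  one_smul x := by
    change ((ConjAct.ofConjAct (1 : ConjAct N) : N) : G) * x *
      ((ConjAct.ofConjAct (1 : ConjAct N) : N) : G)⁻¹ = x
    simp
  mul_smul a b x := by
    change ((ConjAct.ofConjAct (a * b) : N) : G) * x * ((ConjAct.ofConjAct (a * b) : N) : G)⁻¹ =
      ((ConjAct.ofConjAct a : N) : G) * (((ConjAct.ofConjAct b : N) : G) * x *
        ((ConjAct.ofConjAct b : N) : G)⁻¹) * ((ConjAct.ofConjAct a : N) : G)⁻¹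
    rw [ConjAct.ofConjAct_mul, Subgroup.coe_mul]
    group

attribute [local instance] rcc_conjAct

theorem rcc_smul_def (N : Subgroup G) (a : ConjAct N) (x : G) :
    a • x = ((ConjAct.ofConjAct a : N) : G) * x * ((ConjAct.ofConjAct a : N) : G)⁻¹ := rfl

theorem rcc_smul_mul (N : Subgroup G) (a : ConjAct N) (x y : G) :
    a • (x * y) = (a • x) * (a • y) := by
  rw [rcc_smul_def, rcc_smul_def, rcc_smul_def]
  group

/-- the `N`-class size of an element of `G` -/
noncomputable def rcc_ncl (N : Subgroup G) (y : G) : ℕ :=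
  (MulAction.stabilizer (ConjAct N) y).index

theorem rcc_ncl_pos (N : Subgroup G) [Finite N] (y : G) : 0 < rcc_ncl N y := by
  unfold rcc_ncl
  haveI : Finite (ConjAct N) := inferInstanceAs (Finite N)
  exact Nat.pos_of_ne_zero (Subgroup.index_ne_zero_of_finite)

theorem rcc_ncl_mul_card (N : Subgroup G) (y : G) :
    rcc_ncl N y * Nat.card (MulAction.stabilizer (ConjAct N) y) = Nat.card N := by
  unfold rcc_ncl
  rw [Subgroup.index_mul_card]
  rfl

/-- `ncl` is constant on `N`-classes -/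
theorem rcc_ncl_smul (N : Subgroup G) (a : ConjAct N) (y : G) : rcc_ncl N (a • y) = rcc_ncl N y := by
  unfold rcc_ncl
  rw [MulAction.index_stabilizer, MulAction.index_stabilizer, MulAction.orbit_smul]

end

section

variable {G : Type*} [Group G]

attribute [local instance] rcc_conjAct

/-- the pair sum lemma: a conjugation-invariant function `Φ` whose class-size weighted values on
products of conjugates of `y` and `y'` lie in the local ideal -/
theorem rcc_pair_sum [DecidableEq G] (N : Subgroup G) [Fintype N] {M : Ideal Cfsg.AlgInt}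
    (hM : M.IsPrime) (Φ : G → ℂ) (hΦ : ∀ (a : ConjAct N) (w : G), Φ (a • w) = Φ w) (y y' : G)
    (hI : ∀ a a' : ConjAct N, Cfsg.MemLocalIdeal M
      ((rcc_ncl N ((a • y) * (a' • y')) : ℂ) * Φ ((a • y) * (a' • y')))) :
    Cfsg.MemLocalIdeal M ((rcc_ncl N y : ℂ) * (rcc_ncl N y' : ℂ) *
      ((Nat.card N : ℂ)⁻¹ * ∑ a : ConjAct N, Φ ((a • y) * y'))) := by
  classical
  set O : Finset G := Finset.univ.image (fun a : ConjAct N => a • y) with hO
  set O' : Finset G := Finset.univ.image (fun a : ConjAct N => a • y') with hO'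
  set F : G × G → ℂ := fun x => Φ (x.1 * x.2) with hF
  have hFinv : ∀ (a : ConjAct N) (x : G × G), F (a • x) = F x := by
    intro a x
    simp only [hF, Prod.smul_fst, Prod.smul_snd]
    rw [← rcc_smul_mul, hΦ]
  have hOinv : ∀ (a : ConjAct N) (k : G), k ∈ O → a • k ∈ O := by
    intro a k hk
    obtain ⟨b, -, rfl⟩ := Finset.mem_image.mp hk
    exact Finset.mem_image.mpr ⟨a * b, Finset.mem_univ _, mul_smul a b y⟩
  have hO'inv : ∀ (a : ConjAct N) (k : G), k ∈ O' → a • k ∈ O' := by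
    intro a k hk
    obtain ⟨b, -, rfl⟩ := Finset.mem_image.mp hk
    exact Finset.mem_image.mpr ⟨a * b, Finset.mem_univ _, mul_smul a b y'⟩
  have hL := rcc_orbit_sum (A := ConjAct N) hM F hFinv (O ×ˢ O') (by
      intro a x hx
      obtain ⟨h1, h2⟩ := Finset.mem_product.mp hx
      exact Finset.mem_product.mpr ⟨hOinv a _ h1, hO'inv a _ h2⟩) (by
      intro x hx
      obtain ⟨h1, h2⟩ := Finset.mem_product.mp hx
      obtain ⟨a, -, ha⟩ := Finset.mem_image.mp h1
      obtain ⟨a', -, ha'⟩ := Finset.mem_image.mp h2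
      have hle : MulAction.stabilizer (ConjAct N) x ≤
          MulAction.stabilizer (ConjAct N) (x.1 * x.2) := by
        intro b hb
        rw [MulAction.mem_stabilizer_iff] at hb ⊢
        rw [rcc_smul_mul]
        have h3 : b • x.1 = x.1 := by
          have := congrArg Prod.fst hb
          simpa using this
        have h4 : b • x.2 = x.2 := by
          have := congrArg Prod.snd hb
          simpa using this
        rw [h3, h4]
      obtain ⟨t, ht⟩ := Subgroup.index_dvd_of_le hle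
      have h5 := hI a a'
      rw [ha, ha'] at h5
      rw [ht]
      push_cast
      have h6 := h7_memLocalIdeal_nsmul hM t h5
      rw [nsmul_eq_mul] at h6
      have h7 : ((MulAction.stabilizer (ConjAct N) (x.1 * x.2)).index : ℂ) * (t : ℂ) * F x =
          (t : ℂ) * ((rcc_ncl N (x.1 * x.2) : ℂ) * Φ (x.1 * x.2)) := by
        simp only [hF, rcc_ncl]
        ring
      rw [h7]
      exact h6)
  -- identify the sum
  have hN0 : (Nat.card N : ℂ) ≠ 0 := by exact_mod_cast Nat.card_pos.ne'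
  have hs1 : (Nat.card (MulAction.stabilizer (ConjAct N) y) : ℂ) ≠ 0 := by
    exact_mod_cast Nat.card_pos.ne'
  have hs2 : (Nat.card (MulAction.stabilizer (ConjAct N) y') : ℂ) ≠ 0 := by
    exact_mod_cast Nat.card_pos.ne'
  have hn1 : (rcc_ncl N y : ℂ) * (Nat.card (MulAction.stabilizer (ConjAct N) y) : ℂ) =
      (Nat.card N : ℂ) := by exact_mod_cast rcc_ncl_mul_card N y
  have hn2 : (rcc_ncl N y' : ℂ) * (Nat.card (MulAction.stabilizer (ConjAct N) y') : ℂ) =
      (Nat.card N : ℂ) := by exact_mod_cast rcc_ncl_mul_card N y'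
  have hsum : ∑ x ∈ O ×ˢ O', F x = (rcc_ncl N y : ℂ) * (rcc_ncl N y' : ℂ) *
      ((Nat.card N : ℂ)⁻¹ * ∑ a : ConjAct N, Φ ((a • y) * y')) := by
    rw [Finset.sum_product]
    -- inner sums
    have h1 : ∀ k ∈ O, ∑ k' ∈ O', F (k, k') =
        (Nat.card (MulAction.stabilizer (ConjAct N) y') : ℂ)⁻¹ *
          ∑ a : ConjAct N, Φ (k * (a • y')) := by
      intro k _
      have := rcc_sum_smul (A := ConjAct N) y' (fun z => Φ (k * z))
      rw [this, ← mul_assoc, inv_mul_cancel₀ hs2, one_mul]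
    rw [Finset.sum_congr rfl h1, ← Finset.mul_sum, Finset.sum_comm]
    have h2 : ∀ a ∈ (Finset.univ : Finset (ConjAct N)), ∑ k ∈ O, Φ (k * (a • y')) =
        ∑ k ∈ O, Φ (k * y') := by
      intro a _
      apply Finset.sum_nbij' (fun k => a⁻¹ • k) (fun k => a • k)
      · intro k hk
        exact hOinv a⁻¹ k hk
      · intro k hk
        exact hOinv a k hk
      · intro k _
        exact smul_inv_smul a k
      · intro k _
        exact inv_smul_smul a k
      · intro k _
        have : k * (a • y') = a • ((a⁻¹ • k) * y') := by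
          rw [rcc_smul_mul, smul_inv_smul]
        rw [this, hΦ]
    rw [Finset.sum_congr rfl h2, Finset.sum_const, Finset.card_univ, nsmul_eq_mul]
    have h3 := rcc_sum_smul (A := ConjAct N) y (fun z => Φ (z * y'))
    have h4 : ∑ k ∈ O, Φ (k * y') =
        (Nat.card (MulAction.stabilizer (ConjAct N) y) : ℂ)⁻¹ *
          ∑ a : ConjAct N, Φ ((a • y) * y') := by
      rw [h3, ← mul_assoc, inv_mul_cancel₀ hs1, one_mul]
    rw [h4]
    have hcard : (Fintype.card (ConjAct N) : ℂ) = (Nat.card N : ℂ) := by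
      rw [Nat.card_eq_fintype_card]
      rfl
    rw [hcard, ← hn1]
    have : (rcc_ncl N y' : ℂ) = (Nat.card N : ℂ) /
        (Nat.card (MulAction.stabilizer (ConjAct N) y') : ℂ) := by
      rw [eq_div_iff hs2, hn2]
    rw [this, ← hn1]
    field_simp
  rw [← hsum]
  exact hL

end

section

/-- a root of unity of order prime to `p` congruent to `1` modulo the local ideal is `1` -/
theorem rcc_root_eq_one {p : ℕ} [hp : Fact p.Prime] {M : Ideal Cfsg.AlgInt}
    (hM : Cfsg.IsPModular p M) (η : ℂ) (m : ℕ) (hm : ¬ p ∣ m) (hη : η ^ m = 1)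
    (h : Cfsg.MemLocalIdeal M (η - 1)) : η = 1 := by
  by_contra hne
  have hMp := hM.2.1.isPrime
  have hm0 : m ≠ 0 := by rintro rfl; exact hm (dvd_zero p)
  have hint : IsIntegral ℤ η :=
    IsIntegral.of_pow (Nat.pos_of_ne_zero hm0) (by rw [hη]; exact isIntegral_one)
  have hηR : Cfsg.MemLocalRing M η := h7_memLocalRing_of_isIntegral hMp hint
  have hsum : ∑ i ∈ Finset.range m, η ^ i = 0 := by
    have := geom_sum_mul η m
    rw [hη, sub_self] at this
    rcases mul_eq_zero.mp this with h1 | h1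
    · exact h1
    · exact absurd (sub_eq_zero.mp h1) hne
  have hpow : ∀ i : ℕ, Cfsg.MemLocalIdeal M (η ^ i - 1) := by
    intro i
    induction i with
    | zero =>
      rw [pow_zero, sub_self]
      exact h7_memLocalIdeal_zero hMp
    | succ i ih =>
      have : η ^ (i + 1) - 1 = η * (η ^ i - 1) + (η - 1) := by ring
      rw [this]
      exact h7_memLocalIdeal_add hMp (h7_memLocalIdeal_mul_left hMp hηR ih) h
  have h2 : Cfsg.MemLocalIdeal M (∑ i ∈ Finset.range m, (η ^ i - 1)) :=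
    h7_memLocalIdeal_sum hMp _ _ (fun i _ => hpow i)
  rw [Finset.sum_sub_distrib, hsum, Finset.sum_const, Finset.card_range, zero_sub, nsmul_eq_mul,
    mul_one] at h2
  have h3 := h7_memLocalIdeal_neg h2
  rw [neg_neg] at h3
  exact hm ((h7_memLocalIdeal_natCast_iff hM m).mp h3)

/-- two roots of unity of order prime to `p` congruent modulo the local ideal are equal -/
theorem rcc_root_unique {p : ℕ} [hp : Fact p.Prime] {M : Ideal Cfsg.AlgInt}
    (hM : Cfsg.IsPModular p M) (ζ ζ' : ℂ) (m : ℕ) (hm : ¬ p ∣ m) (hζ : ζ ^ m = 1)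
    (hζ' : ζ' ^ m = 1) (h : Cfsg.MemLocalIdeal M (ζ - ζ')) : ζ = ζ' := by
  have hMp := hM.2.1.isPrime
  have hm0 : m ≠ 0 := by rintro rfl; exact hm (dvd_zero p)
  have hζ'0 : ζ' ≠ 0 := by
    intro h0
    rw [h0, zero_pow hm0] at hζ'
    exact zero_ne_one hζ'
  have hinv : ζ'⁻¹ = ζ' ^ (m - 1) := by
    have : ζ' ^ (m - 1) * ζ' = 1 := by
      rw [← pow_succ, Nat.sub_add_cancel (Nat.pos_of_ne_zero hm0), hζ']
    exact (eq_inv_of_mul_eq_one_left this).symm
  have hint : IsIntegral ℤ ζ' :=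
    IsIntegral.of_pow (Nat.pos_of_ne_zero hm0) (by rw [hζ']; exact isIntegral_one)
  have hinvR : Cfsg.MemLocalRing M (ζ'⁻¹) := by
    rw [hinv]
    exact h7_memLocalRing_of_isIntegral hMp (hint.pow _)
  have h1 : (ζ * ζ'⁻¹) ^ m = 1 := by
    rw [mul_pow, inv_pow, hζ, hζ', inv_one, mul_one]
  have h2 : Cfsg.MemLocalIdeal M (ζ * ζ'⁻¹ - 1) := by
    have : ζ * ζ'⁻¹ - 1 = (ζ - ζ') * ζ'⁻¹ := by
      field_simp
    rw [this]
    exact h7_memLocalIdeal_mul_right hMp h hinvR
  have h3 := rcc_root_eq_one hM _ m hm h1 h2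
  field_simp at h3
  exact h3

theorem rcc_memLocalRing_pow {M : Ideal Cfsg.AlgInt} (hM : M.IsPrime) {z : ℂ}
    (hz : Cfsg.MemLocalRing M z) (n : ℕ) : Cfsg.MemLocalRing M (z ^ n) := by
  induction n with
  | zero => simpa using h7_memLocalRing_one hM
  | succ j ih =>
    rw [pow_succ]
    exact h7_memLocalRing_mul hM ih hz

theorem rcc_res_pow {M : Ideal Cfsg.AlgInt} (hM : M.IsPrime) {z : ℂ}
    (hz : Cfsg.MemLocalRing M z) (n : ℕ) : h7_res M hM (z ^ n) = (h7_res M hM z) ^ n := by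
  induction n with
  | zero => rw [pow_zero, pow_zero, h7_res_one]
  | succ j ih =>
    rw [pow_succ, pow_succ, h7_res_mul hM (rcc_memLocalRing_pow hM hz j) hz, ih]

theorem rcc_memLocalRing_prod {M : Ideal Cfsg.AlgInt} (hM : M.IsPrime) {ι : Type*} (s : Finset ι)
    (f : ι → ℂ) (hf : ∀ i ∈ s, Cfsg.MemLocalRing M (f i)) :
    Cfsg.MemLocalRing M (∏ i ∈ s, f i) := by
  classical
  induction s using Finset.induction_on with
  | empty => simpa using h7_memLocalRing_one hM
  | insert a s ha ih =>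
    rw [Finset.prod_insert ha]
    exact h7_memLocalRing_mul hM (hf a (Finset.mem_insert_self a s))
      (ih (fun i hi => hf i (Finset.mem_insert_of_mem hi)))

/-- a product in the local ideal has a factor in the local ideal -/
theorem rcc_prod_cases {M : Ideal Cfsg.AlgInt} (hM : M.IsPrime) {ι : Type*} (s : Finset ι)
    (f : ι → ℂ) (hf : ∀ i ∈ s, Cfsg.MemLocalRing M (f i))
    (h : Cfsg.MemLocalIdeal M (∏ i ∈ s, f i)) : ∃ i ∈ s, Cfsg.MemLocalIdeal M (f i) := by
  classical
  induction s using Finset.induction_on with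
  | empty =>
    rw [Finset.prod_empty] at h
    exact absurd h (h7_not_memLocalIdeal_one hM)
  | insert a s ha ih =>
    rw [Finset.prod_insert ha] at h
    rcases h7_memLocalIdeal_mul_cases hM (hf a (Finset.mem_insert_self a s))
      (rcc_memLocalRing_prod hM s f (fun i hi => hf i (Finset.mem_insert_of_mem hi))) h with h1 | h1
    · exact ⟨a, Finset.mem_insert_self a s, h1⟩
    · obtain ⟨i, hi, hi'⟩ := ih (fun i hi => hf i (Finset.mem_insert_of_mem hi)) h1
      exact ⟨i, Finset.mem_insert_of_mem hi, hi'⟩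

/-- lifting a multiplicative function modulo the local ideal to a genuine linear character -/
theorem rcc_lift {G : Type*} [Group G] [Finite G] {p : ℕ} [hp : Fact p.Prime]
    {M : Ideal Cfsg.AlgInt} (hM : Cfsg.IsPModular p M) (r : G → ℂ)
    (hrR : ∀ g, Cfsg.MemLocalRing M (r g))
    (hr1 : Cfsg.MemLocalIdeal M (r 1 - 1))
    (hrm : ∀ g h, Cfsg.MemLocalIdeal M (r (g * h) - r g * r h)) :
    ∃ (lam : G →* ℂˣ) (m : ℕ), ¬ p ∣ m ∧ (∀ g, lam g ^ m = 1) ∧
      (∀ g, Cfsg.MemLocalIdeal M (r g - ((lam g : ℂˣ) : ℂ))) ∧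
      (∀ g, Cfsg.MemLocalIdeal M (r g - 1) → lam g = 1) := by
  classical
  have hPr := hM.2.1.isPrime
  haveI := h7_resRing_charP hM
  obtain ⟨a, m, hm, hcard⟩ := Nat.exists_eq_pow_mul_and_not_dvd (n := Nat.card G)
    Nat.card_pos.ne' p hp.out.ne_one
  have hm0 : m ≠ 0 := by rintro rfl; exact hm (dvd_zero p)
  have hres1 : h7_res M hPr (r 1) = 1 := by
    rw [← h7_res_one hPr]
    exact (h7_res_eq_iff hPr (hrR 1) (h7_memLocalRing_one hPr)).mpr hr1
  have hpow : ∀ (g : G) (j : ℕ), h7_res M hPr (r (g ^ j)) = (h7_res M hPr (r g)) ^ j := by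
    intro g j
    induction j with
    | zero => rw [pow_zero, pow_zero, hres1]
    | succ j ih =>
      rw [pow_succ, pow_succ, ← ih, ← h7_res_mul hPr (hrR _) (hrR _)]
      exact (h7_res_eq_iff hPr (hrR _) (h7_memLocalRing_mul hPr (hrR _) (hrR _))).mpr (hrm _ _)
  have hxm : ∀ g : G, (h7_res M hPr (r g)) ^ m = 1 := by
    intro g
    have h1 : (h7_res M hPr (r g)) ^ (Nat.card G) = 1 := by
      rw [← hpow, pow_card_eq_one', hres1]
    rw [hcard, pow_mul'] at h1
    have h2 : ((h7_res M hPr (r g)) ^ m - 1) ^ (p ^ a) = 0 := by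
      rw [sub_pow_char_pow, h1, one_pow, sub_self]
    have h3 := pow_eq_zero_iff (pow_pos hp.out.pos a).ne' |>.mp h2
    exact sub_eq_zero.mp h3
  have hmem : ∀ g : G, Cfsg.MemLocalIdeal M (r g ^ m - 1) := by
    intro g
    rw [← h7_res_eq_iff hPr (rcc_memLocalRing_pow hPr (hrR g) m) (h7_memLocalRing_one hPr),
      rcc_res_pow hPr (hrR g), hxm, h7_res_one]
  have hζ₀ : IsPrimitiveRoot (Complex.exp (2 * Real.pi * Complex.I / m)) m :=
    Complex.isPrimitiveRoot_exp m hm0
  have hfac : ∀ z : ℂ, z ^ m - 1 = ∏ ζ ∈ Polynomial.nthRootsFinset m (1 : ℂ), (z - ζ) := by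
    intro z
    have := congrArg (Polynomial.eval z)
      (Polynomial.X_pow_sub_one_eq_prod (Nat.pos_of_ne_zero hm0) hζ₀)
    rw [Polynomial.eval_prod] at this
    simpa using this
  have hex : ∀ g : G, ∃ ζ : ℂ, ζ ^ m = 1 ∧ Cfsg.MemLocalIdeal M (r g - ζ) := by
    intro g
    have h1 := hmem g
    rw [hfac] at h1
    have hrootR : ∀ ζ ∈ Polynomial.nthRootsFinset m (1 : ℂ), Cfsg.MemLocalRing M ζ := by
      intro ζ hζ
      rw [Polynomial.mem_nthRootsFinset (Nat.pos_of_ne_zero hm0)] at hζ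
      exact h7_memLocalRing_of_isIntegral hPr
        (IsIntegral.of_pow (Nat.pos_of_ne_zero hm0) (by rw [hζ]; exact isIntegral_one))
    obtain ⟨ζ, hζ, hζ'⟩ := rcc_prod_cases hPr _ (fun ζ => r g - ζ)
      (fun ζ hζ => h7_memLocalRing_sub hPr (hrR g) (hrootR ζ hζ)) h1
    rw [Polynomial.mem_nthRootsFinset (Nat.pos_of_ne_zero hm0)] at hζ
    exact ⟨ζ, hζ, hζ'⟩
  choose lam hlam1 hlam2 using hex
  have hlamR : ∀ g, Cfsg.MemLocalRing M (lam g) := fun g =>
    h7_memLocalRing_of_isIntegral hPr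
      (IsIntegral.of_pow (Nat.pos_of_ne_zero hm0) (by rw [hlam1]; exact isIntegral_one))
  have hlam0 : ∀ g, lam g ≠ 0 := by
    intro g h0
    have := hlam1 g
    rw [h0, zero_pow hm0] at this
    exact zero_ne_one this
  have hmul : ∀ g h, lam (g * h) = lam g * lam h := by
    intro g h
    apply rcc_root_unique hM _ _ m hm (hlam1 _) (by rw [mul_pow, hlam1, hlam1, one_mul])
    have : lam (g * h) - lam g * lam h = -(r (g * h) - lam (g * h)) + (r (g * h) - r g * r h) +
        (r g - lam g) * r h + lam g * (r h - lam h) := by ring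
    rw [this]
    exact h7_memLocalIdeal_add hPr (h7_memLocalIdeal_add hPr (h7_memLocalIdeal_add hPr
      (h7_memLocalIdeal_neg (hlam2 _)) (hrm g h)) (h7_memLocalIdeal_mul_right hPr (hlam2 g) (hrR h)))
      (h7_memLocalIdeal_mul_left hPr (hlamR g) (hlam2 h))
  have hone : lam 1 = 1 := by
    have := hmul 1 1
    rw [one_mul] at this
    have h0 := hlam0 1
    field_simp at this
    exact this.symm
  refine ⟨MonoidHom.mk' (fun g => Units.mk0 (lam g) (hlam0 g)) (fun g h => by
    apply Units.ext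
    simp [hmul]), m, hm, ?_, ?_, ?_⟩
  · intro g
    apply Units.ext
    simp [hlam1]
  · intro g
    exact hlam2 g
  · intro g hg
    apply Units.ext
    simp only [MonoidHom.mk'_apply, Units.val_mk0, Units.val_one]
    apply rcc_root_unique hM _ _ m hm (hlam1 g) (one_pow m)
    have : lam g - 1 = -(r g - lam g) + (r g - 1) := by ring
    rw [this]
    exact h7_memLocalIdeal_add hPr (h7_memLocalIdeal_neg (hlam2 g)) hg

end

section

variable {G : Type*} [Group G]

attribute [local instance] rcc_conjAct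

/-- the `N`-class size as a relative index -/
theorem rcc_ncl_eq_relIndex (N : Subgroup G) (y : G) :
    rcc_ncl N y = (Subgroup.centralizer ({y} : Set G)).relIndex N := by
  unfold rcc_ncl Subgroup.relIndex
  have h : MulAction.stabilizer (ConjAct N) y =
      ((Subgroup.centralizer ({y} : Set G)).subgroupOf N).comap
        (ConjAct.ofConjAct : ConjAct N ≃* N).toMonoidHom := by
    ext a
    rw [MulAction.mem_stabilizer_iff, Subgroup.mem_comap, Subgroup.mem_subgroupOf,
      Subgroup.mem_centralizer_singleton_iff, rcc_smul_def]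
    constructor
    · intro h
      change ((ConjAct.ofConjAct a : N) : G) * y = y * ((ConjAct.ofConjAct a : N) : G)
      calc ((ConjAct.ofConjAct a : N) : G) * y
          = (((ConjAct.ofConjAct a : N) : G) * y * ((ConjAct.ofConjAct a : N) : G)⁻¹) *
            ((ConjAct.ofConjAct a : N) : G) := by group
        _ = y * ((ConjAct.ofConjAct a : N) : G) := by rw [h]
    · intro h
      change ((ConjAct.ofConjAct a : N) : G) * y = y * ((ConjAct.ofConjAct a : N) : G) at h
      rw [h]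
      group
  rw [h, Subgroup.index_comap_of_surjective]
  exact (ConjAct.ofConjAct : ConjAct N ≃* N).surjective

/-- the centralizer of an element of a subgroup `J`, inside `J` -/
theorem rcc_centralizer_subgroupOf (J : Subgroup G) (y : J) :
    Subgroup.centralizer ({y} : Set J) =
      (Subgroup.centralizer ({(y : G)} : Set G)).subgroupOf J := by
  ext a
  rw [Subgroup.mem_subgroupOf, Subgroup.mem_centralizer_singleton_iff,
    Subgroup.mem_centralizer_singleton_iff, Subtype.ext_iff]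
  rfl

theorem rcc_index_centralizer (J : Subgroup G) (y : J) :
    (Subgroup.centralizer ({y} : Set J)).index =
      (Subgroup.centralizer ({(y : G)} : Set G)).relIndex J := by
  rw [rcc_centralizer_subgroupOf]
  rfl

/-- the index formula: for `N ≤ J` with `N` normal, `[J : C ∩ J] = [N : C ∩ N] [J : (C ∩ J) N]` -/
theorem rcc_relIndex_formula [Finite G] (N J C : Subgroup G) [N.Normal] (hNJ : N ≤ J) :
    C.relIndex J = C.relIndex N * ((C ⊓ J) ⊔ N).relIndex J := by
  set K := C ⊓ J with hK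
  have hKJ : K ≤ J := inf_le_right
  have h1 : C.relIndex J = K.relIndex J := (Subgroup.inf_relIndex_right C J).symm
  have hKN : K ⊓ N = C ⊓ N := by
    rw [hK, inf_assoc, inf_eq_right.mpr hNJ]
  have h2 : C.relIndex N = (K ⊓ N).relIndex N := by
    rw [hKN]
    exact (Subgroup.inf_relIndex_right C N).symm
  have h3 : (K ⊓ N).relIndex J = (K ⊓ N).relIndex N * N.relIndex J :=
    (Subgroup.relIndex_mul_relIndex (K ⊓ N) N J inf_le_right hNJ).symm
  have h4 : (K ⊓ N).relIndex J = (K ⊓ N).relIndex K * K.relIndex J :=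
    (Subgroup.relIndex_mul_relIndex (K ⊓ N) K J inf_le_left hKJ).symm
  have h5 : (K ⊓ N).relIndex K = N.relIndex (K ⊔ N) := by
    rw [Subgroup.inf_relIndex_left, Subgroup.relIndex_sup_right]
  have h6 : N.relIndex (K ⊔ N) * (K ⊔ N).relIndex J = N.relIndex J :=
    Subgroup.relIndex_mul_relIndex N (K ⊔ N) J le_sup_right (sup_le hKJ hNJ)
  have h7 : N.relIndex (K ⊔ N) ≠ 0 := by
    unfold Subgroup.relIndex
    exact Subgroup.index_ne_zero_of_finite
  rw [h1, h2]
  apply Nat.eq_of_mul_eq_mul_left (Nat.pos_of_ne_zero h7)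
  rw [← h5, ← h4, h3, ← h6, h5]
  ring

/-- for `N ≤ J`, the `J`-class size of `y ∈ J` is a multiple of its `N`-class size -/
theorem rcc_ncl_dvd_index [Finite G] (N J : Subgroup G) [N.Normal] (hNJ : N ≤ J) (y : J) :
    ∃ t : ℕ, (Subgroup.centralizer ({y} : Set J)).index = rcc_ncl N (y : G) * t := by
  rw [rcc_index_centralizer, rcc_ncl_eq_relIndex]
  exact ⟨_, rcc_relIndex_formula N J _ hNJ⟩

/-- the class size in `G` of `y` is a multiple of its `N`-class size -/
theorem rcc_ncl_dvd_index_top [Finite G] (N : Subgroup G) [N.Normal] (y : G) :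
    ∃ t : ℕ, (Subgroup.centralizer ({y} : Set G)).index = rcc_ncl N y * t := by
  rw [← Subgroup.relIndex_top_right, rcc_ncl_eq_relIndex]
  exact ⟨_, rcc_relIndex_formula N ⊤ _ le_top⟩

/-- for `H = N ⟨y⟩` the `H`-class size of `y` is its `N`-class size -/
theorem rcc_ncl_eq_index [Finite G] (N : Subgroup G) [N.Normal] (y : G) (H : Subgroup G)
    (hNH : N ≤ H) (hy : y ∈ H) (hH : H ≤ N ⊔ Subgroup.zpowers y) :
    (Subgroup.centralizer ({(⟨y, hy⟩ : H)} : Set H)).index = rcc_ncl N y := by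
  rw [rcc_index_centralizer, rcc_ncl_eq_relIndex]
  change (Subgroup.centralizer ({y} : Set G)).relIndex H = _
  rw [rcc_relIndex_formula N H _ hNH]
  have : ((Subgroup.centralizer ({y} : Set G) ⊓ H) ⊔ N).relIndex H = 1 := by
    rw [Subgroup.relIndex_eq_one]
    refine hH.trans (sup_le le_sup_right (le_trans ?_ le_sup_left))
    rw [Subgroup.zpowers_le]
    refine ⟨?_, hy⟩
    exact Subgroup.mem_centralizer_singleton_iff.mpr rfl
  rw [this, mul_one]

/-- elements centralizing a Sylow `p`-subgroup of `N` have `N`-class size prime to `p` -/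
theorem rcc_ncl_not_dvd [Finite G] (N : Subgroup G) (p : ℕ) [hp : Fact p.Prime] (P : Sylow p N)
    (c : G) (hc : c ∈ Subgroup.centralizer (((P : Subgroup N).map N.subtype : Subgroup G) : Set G)) :
    ¬ p ∣ rcc_ncl N c := by
  rw [rcc_ncl_eq_relIndex]
  unfold Subgroup.relIndex
  have hle : (P : Subgroup N) ≤ (Subgroup.centralizer ({c} : Set G)).subgroupOf N := by
    intro x hx
    rw [Subgroup.mem_subgroupOf, Subgroup.mem_centralizer_singleton_iff]
    have h1 : (x : G) ∈ ((P : Subgroup N).map N.subtype : Subgroup G) :=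
      Subgroup.mem_map.mpr ⟨x, hx, rfl⟩
    exact (Subgroup.mem_centralizer_iff.mp hc (x : G) h1)
  intro hdvd
  exact P.not_dvd_index (dvd_trans hdvd (Subgroup.index_dvd_of_le hle))

end

section

variable {G : Type*} [Group G]

attribute [local instance] rcc_conjAct

/-- restriction to an intermediate subgroup of a character with irreducible restriction to `N` -/
theorem rcc_restrict_mid (N J : Subgroup G) [Fintype N] (hNJ : N ≤ J) (ψ : Cfsg.IrrCharacter G)
    (hN : Cfsg.IsIrrCharacter N (fun n : N => (ψ : G → ℂ) n)) :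
    Cfsg.IsIrrCharacter J (fun y : J => (ψ : G → ℂ) y) := by
  obtain ⟨d, ρ, hρ, hψ⟩ := ψ.2
  have hN' : Cfsg.IsIrrCharacter N (fun n : N => ρ.character n) := by rw [hψ]; exact hN
  haveI hτ := rcc_restrict_irr N ρ hN'
  haveI : Representation.IsIrreducible
      (show Representation ℂ J (Fin d → ℂ) from ρ.comp J.subtype) :=
    h7_isIrr_of_restrict (show Representation ℂ N (Fin d → ℂ) from ρ.comp N.subtype)
      (show Representation ℂ J (Fin d → ℂ) from ρ.comp J.subtype) (Subgroup.inclusion hNJ)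
      (fun n => rfl)
  have := isIrrCharacter_of_irreducible
    (show Representation ℂ J (Fin d → ℂ) from ρ.comp J.subtype)
  convert this using 1
  funext y
  rw [← hψ]
  rfl

/-- cancel a natural number prime to `p` -/
theorem rcc_cancel_nat {p : ℕ} [hp : Fact p.Prime] {M : Ideal Cfsg.AlgInt}
    (hM : Cfsg.IsPModular p M) (n : ℕ) (hn : ¬ p ∣ n) (z : ℂ)
    (h : Cfsg.MemLocalIdeal M ((n : ℂ) * z)) : Cfsg.MemLocalIdeal M z := by
  have hPr := hM.2.1.isPrime
  have hco : n.Coprime p := (Nat.Prime.coprime_iff_not_dvd hp.out).mpr hn |>.symm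
  have hinv := h7_memLocalRing_inv_natCast hM n hco
  have hn0 : (n : ℂ) ≠ 0 := by
    intro h0
    apply hn
    have : n = 0 := by exact_mod_cast h0
    rw [this]
    exact dvd_zero p
  have : z = (n : ℂ)⁻¹ * ((n : ℂ) * z) := by
    field_simp
  rw [this]
  exact h7_memLocalIdeal_mul_left hPr hinv h

theorem rcc_cancel_nat_ring {p : ℕ} [hp : Fact p.Prime] {M : Ideal Cfsg.AlgInt}
    (hM : Cfsg.IsPModular p M) (n : ℕ) (hn : ¬ p ∣ n) (z : ℂ)
    (h : Cfsg.MemLocalRing M ((n : ℂ) * z)) : Cfsg.MemLocalRing M z := by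
  have hPr := hM.2.1.isPrime
  have hco : n.Coprime p := (Nat.Prime.coprime_iff_not_dvd hp.out).mpr hn |>.symm
  have hinv := h7_memLocalRing_inv_natCast hM n hco
  have hn0 : (n : ℂ) ≠ 0 := by
    intro h0
    apply hn
    have : n = 0 := by exact_mod_cast h0
    rw [this]
    exact dvd_zero p
  have : z = (n : ℂ)⁻¹ * ((n : ℂ) * z) := by
    field_simp
  rw [this]
  exact h7_memLocalRing_mul hPr hinv h

/-- the normalized character -/
noncomputable def rcc_q (ψ : G → ℂ) (y : G) : ℂ := ψ y / ψ 1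

theorem rcc_q_conj (N : Subgroup G) (ψ : Cfsg.IrrCharacter G) (a : ConjAct N) (w : G) :
    rcc_q (ψ : G → ℂ) (a • w) = rcc_q (ψ : G → ℂ) w := by
  unfold rcc_q
  rw [rcc_smul_def, irr_conj_invariant]

theorem rcc_q_one (ψ : Cfsg.IrrCharacter G) : rcc_q (ψ : G → ℂ) 1 = 1 := by
  unfold rcc_q
  exact div_self (irr_one_ne_zero ψ)

/-- the averaging identity in terms of the conjugation action -/
theorem rcc_avg_conj [Fintype G] (N : Subgroup G) [Fintype N] (ψ : Cfsg.IrrCharacter G)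
    (hN : Cfsg.IsIrrCharacter N (fun n : N => (ψ : G → ℂ) n)) (y y' : G) :
    (Nat.card N : ℂ)⁻¹ * ∑ a : ConjAct N, rcc_q (ψ : G → ℂ) ((a • y) * y') =
      rcc_q (ψ : G → ℂ) y * rcc_q (ψ : G → ℂ) y' := by
  have h1 := rcc_avg N ψ hN y y'
  have hN0 : (Nat.card N : ℂ) ≠ 0 := by exact_mod_cast Nat.card_pos.ne'
  have h0 := irr_one_ne_zero ψ
  have h2 : ∑ a : ConjAct N, rcc_q (ψ : G → ℂ) ((a • y) * y') =
      (∑ n : N, (ψ : G → ℂ) ((n : G)⁻¹ * y * n * y')) / (ψ : G → ℂ) 1 := by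
    rw [Finset.sum_div]
    symm
    apply Fintype.sum_equiv ((Equiv.inv N).trans ConjAct.toConjAct.toEquiv)
    intro n
    unfold rcc_q
    congr 2
    rw [rcc_smul_def]
    simp [mul_assoc]
  rw [h2, h1]
  unfold rcc_q
  field_simp

end

section

variable {G : Type*} [Group G]

attribute [local instance] rcc_conjAct

/-- (B1): the `N`-class size times the normalized character value is a local integer -/
theorem rcc_B1 [Fintype G] (N : Subgroup G) [N.Normal] [Fintype N] {M : Ideal Cfsg.AlgInt}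
    (hM : M.IsPrime) (ψ : Cfsg.IrrCharacter G)
    (hN : Cfsg.IsIrrCharacter N (fun n : N => (ψ : G → ℂ) n)) (y : G) :
    Cfsg.MemLocalRing M ((rcc_ncl N y : ℂ) * rcc_q (ψ : G → ℂ) y) := by
  set H : Subgroup G := N ⊔ Subgroup.zpowers y with hH
  have hNH : N ≤ H := le_sup_left
  have hy : y ∈ H := (le_sup_right : Subgroup.zpowers y ≤ H) (Subgroup.mem_zpowers y)
  let ψH : Cfsg.IrrCharacter H := ⟨fun h : H => (ψ : G → ℂ) h, rcc_restrict_mid N H hNH ψ hN⟩
  have h1 := h7_memLocalRing_centralChar hM ψH ⟨y, hy⟩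
  unfold Cfsg.centralChar at h1
  rw [rcc_ncl_eq_index N y H hNH hy le_rfl] at h1
  have : (rcc_ncl N y : ℂ) * rcc_q (ψ : G → ℂ) y =
      (rcc_ncl N y : ℂ) * (ψH : H → ℂ) ⟨y, hy⟩ / (ψH : H → ℂ) 1 := by
    unfold rcc_q
    rw [mul_div_assoc]
    rfl
  rw [this]
  exact h1

/-- the principal block condition on `N` in terms of `N`-class sizes -/
theorem rcc_block_N [Finite G] (N : Subgroup G) [N.Normal] {M : Ideal Cfsg.AlgInt}
    (hM : M.IsPrime) (ψ : G → ℂ)
    (hB : Cfsg.SameBlock M (fun _ : N => (1 : ℂ)) (fun n : N => ψ n)) (w : G) (hw : w ∈ N) :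
    Cfsg.MemLocalIdeal M ((rcc_ncl N w : ℂ) * (rcc_q ψ w - 1)) := by
  have h1 := hB ⟨w, hw⟩
  unfold Cfsg.centralChar at h1
  rw [rcc_ncl_eq_index N w N le_rfl hw le_sup_left] at h1
  have : (rcc_ncl N w : ℂ) * (rcc_q ψ w - 1) =
      -((rcc_ncl N w : ℂ) * 1 / 1 - (rcc_ncl N w : ℂ) * ψ w / ψ 1) := by
    unfold rcc_q
    ring
  rw [this]
  exact h7_memLocalIdeal_neg h1

section

variable [Fintype G] [DecidableEq G] (N : Subgroup G) [N.Normal] [Fintype N]
  {p : ℕ} [hp : Fact p.Prime] {M : Ideal Cfsg.AlgInt} (hM : Cfsg.IsPModular p M)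
  (ψ : Cfsg.IrrCharacter G) (hN : Cfsg.IsIrrCharacter N (fun n : N => (ψ : G → ℂ) n))
  (hB : ∀ w ∈ N, Cfsg.MemLocalIdeal M ((rcc_ncl N w : ℂ) * (rcc_q (ψ : G → ℂ) w - 1)))

include hM hN hB

theorem rcc_mem_of_cosets (y c : G) (hyc : y * c⁻¹ ∈ N) (a a' : ConjAct N) :
    (a • y) * (a' • c⁻¹) ∈ N := by
  rw [rcc_smul_def, rcc_smul_def]
  rw [← QuotientGroup.eq_one_iff] at hyc ⊢
  have h1 : (((ConjAct.ofConjAct a : N) : G) : G ⧸ N) = 1 :=
    (QuotientGroup.eq_one_iff _).mpr (ConjAct.ofConjAct a : N).2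
  have h2 : (((ConjAct.ofConjAct a' : N) : G) : G ⧸ N) = 1 :=
    (QuotientGroup.eq_one_iff _).mpr (ConjAct.ofConjAct a' : N).2
  simp only [QuotientGroup.mk_mul, QuotientGroup.mk_inv, h1, h2, one_mul, mul_one, inv_one]
    at hyc ⊢
  exact hyc

/-- Claim X -/
theorem rcc_claimX (c y : G) (hc : ¬ p ∣ rcc_ncl N c⁻¹) (hyc : y * c⁻¹ ∈ N) :
    Cfsg.MemLocalIdeal M ((rcc_ncl N y : ℂ) *
      (rcc_q (ψ : G → ℂ) y * rcc_q (ψ : G → ℂ) c⁻¹ - 1)) := by
  have hPr := hM.2.1.isPrime
  have h1 := rcc_pair_sum N hPr (fun w => rcc_q (ψ : G → ℂ) w - 1)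
    (fun a w => by rw [rcc_q_conj]) y c⁻¹ (fun a a' => hB _ (by
      have := rcc_mem_of_cosets N hM ψ hN hB y c hyc a a'
      exact this))
  have hN0 : (Nat.card N : ℂ) ≠ 0 := by exact_mod_cast Nat.card_pos.ne'
  have hcard : (Fintype.card (ConjAct N) : ℂ) = (Nat.card N : ℂ) := by
    rw [Nat.card_eq_fintype_card]
    rfl
  have h2 : (Nat.card N : ℂ)⁻¹ * ∑ a : ConjAct N, (rcc_q (ψ : G → ℂ) ((a • y) * c⁻¹) - 1) =
      rcc_q (ψ : G → ℂ) y * rcc_q (ψ : G → ℂ) c⁻¹ - 1 := by
    rw [Finset.sum_sub_distrib, mul_sub, rcc_avg_conj N ψ hN, Finset.sum_const, Finset.card_univ,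
      nsmul_eq_mul, mul_one, hcard, inv_mul_cancel₀ hN0]
  rw [h2] at h1
  apply rcc_cancel_nat hM _ hc
  have : (rcc_ncl N c⁻¹ : ℂ) * ((rcc_ncl N y : ℂ) *
      (rcc_q (ψ : G → ℂ) y * rcc_q (ψ : G → ℂ) c⁻¹ - 1)) =
      (rcc_ncl N y : ℂ) * (rcc_ncl N c⁻¹ : ℂ) *
        (rcc_q (ψ : G → ℂ) y * rcc_q (ψ : G → ℂ) c⁻¹ - 1) := by ring
  rw [this]
  exact h1

variable (C : Subgroup G) (hC : ∀ c ∈ C, ¬ p ∣ rcc_ncl N c)

include hC

/-- for `c ∈ C`: `q(c) q(c⁻¹) ≡ 1` -/
theorem rcc_X1 (c : G) (hc : c ∈ C) :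
    Cfsg.MemLocalIdeal M (rcc_q (ψ : G → ℂ) c * rcc_q (ψ : G → ℂ) c⁻¹ - 1) := by
  apply rcc_cancel_nat hM _ (hC c hc)
  exact rcc_claimX N hM ψ hN hB c c (hC _ (C.inv_mem hc)) (by rw [mul_inv_cancel]; exact N.one_mem)

/-- for `c ∈ C`: `q(c)` is a local integer -/
theorem rcc_qR (c : G) (hc : c ∈ C) : Cfsg.MemLocalRing M (rcc_q (ψ : G → ℂ) c) :=
  rcc_cancel_nat_ring hM _ (hC c hc) _ (rcc_B1 N hM.2.1.isPrime ψ hN c)

/-- (**): for `y ∈ cN`, `ncl(y) (q(y) - q(c)) ≡ 0` -/
theorem rcc_star2 (c y : G) (hc : c ∈ C) (hyc : y * c⁻¹ ∈ N) :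
    Cfsg.MemLocalIdeal M ((rcc_ncl N y : ℂ) * (rcc_q (ψ : G → ℂ) y - rcc_q (ψ : G → ℂ) c)) := by
  have hPr := hM.2.1.isPrime
  have h1 := rcc_claimX N hM ψ hN hB c y (hC _ (C.inv_mem hc)) hyc
  have h2 := rcc_X1 N hM ψ hN hB C hC c hc
  have h3 := rcc_qR N hM ψ hN hB C hC c hc
  have h4 := rcc_B1 N hPr ψ hN y
  have : (rcc_ncl N y : ℂ) * (rcc_q (ψ : G → ℂ) y - rcc_q (ψ : G → ℂ) c) =
      rcc_q (ψ : G → ℂ) c * ((rcc_ncl N y : ℂ) *
        (rcc_q (ψ : G → ℂ) y * rcc_q (ψ : G → ℂ) c⁻¹ - 1)) -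
      ((rcc_ncl N y : ℂ) * rcc_q (ψ : G → ℂ) y) *
        (rcc_q (ψ : G → ℂ) c * rcc_q (ψ : G → ℂ) c⁻¹ - 1) := by ring
  rw [this]
  exact h7_memLocalIdeal_sub hPr (h7_memLocalIdeal_mul_left hPr h3 h1)
    (h7_memLocalIdeal_mul_left hPr h4 h2)

/-- coset independence -/
theorem rcc_coset (c c₁ : G) (hc : c ∈ C) (hc₁ : c₁ ∈ C) (h : c₁ * c⁻¹ ∈ N) :
    Cfsg.MemLocalIdeal M (rcc_q (ψ : G → ℂ) c₁ - rcc_q (ψ : G → ℂ) c) := by
  apply rcc_cancel_nat hM _ (hC c₁ hc₁)
  exact rcc_star2 N hM ψ hN hB C hC c c₁ hc h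

/-- Claim Y: multiplicativity on `C` -/
theorem rcc_claimY (c' c'' : G) (hc' : c' ∈ C) (hc'' : c'' ∈ C) :
    Cfsg.MemLocalIdeal M (rcc_q (ψ : G → ℂ) c' * rcc_q (ψ : G → ℂ) c'' -
      rcc_q (ψ : G → ℂ) (c' * c'')) := by
  have hPr := hM.2.1.isPrime
  have h1 := rcc_pair_sum N hPr (fun w => rcc_q (ψ : G → ℂ) w - rcc_q (ψ : G → ℂ) (c' * c''))
    (fun a w => by rw [rcc_q_conj]) c' c'' (fun a a' => by
      apply rcc_star2 N hM ψ hN hB C hC (c' * c'') _ (C.mul_mem hc' hc'')
      rw [rcc_smul_def, rcc_smul_def]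
      rw [← QuotientGroup.eq_one_iff]
      have h1 : (((ConjAct.ofConjAct a : N) : G) : G ⧸ N) = 1 :=
        (QuotientGroup.eq_one_iff _).mpr (ConjAct.ofConjAct a : N).2
      have h2 : (((ConjAct.ofConjAct a' : N) : G) : G ⧸ N) = 1 :=
        (QuotientGroup.eq_one_iff _).mpr (ConjAct.ofConjAct a' : N).2
      simp only [QuotientGroup.mk_mul, QuotientGroup.mk_inv, h1, h2, one_mul, mul_one, inv_one]
      group)
  have hN0 : (Nat.card N : ℂ) ≠ 0 := by exact_mod_cast Nat.card_pos.ne'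
  have hcard : (Fintype.card (ConjAct N) : ℂ) = (Nat.card N : ℂ) := by
    rw [Nat.card_eq_fintype_card]
    rfl
  have h2 : (Nat.card N : ℂ)⁻¹ * ∑ a : ConjAct N,
      (rcc_q (ψ : G → ℂ) ((a • c') * c'') - rcc_q (ψ : G → ℂ) (c' * c'')) =
      rcc_q (ψ : G → ℂ) c' * rcc_q (ψ : G → ℂ) c'' - rcc_q (ψ : G → ℂ) (c' * c'') := by
    rw [Finset.sum_sub_distrib, mul_sub, rcc_avg_conj N ψ hN, Finset.sum_const, Finset.card_univ,
      nsmul_eq_mul, hcard, ← mul_assoc, inv_mul_cancel₀ hN0, one_mul]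
  rw [h2] at h1
  apply rcc_cancel_nat hM _ (hC c'' hc'')
  apply rcc_cancel_nat hM _ (hC c' hc')
  rw [← mul_assoc]
  exact h1

end

end

section

variable {G : Type*} [Group G]

attribute [local instance] rcc_conjAct

/-- the core theorem: twisting `ψ` by a linear character of `G/N` to make all relative central
character values congruent to `1` -/
theorem rcc_core [Fintype G] [DecidableEq G] (N : Subgroup G) [N.Normal] [Fintype N]
    {p : ℕ} [hp : Fact p.Prime] {M : Ideal Cfsg.AlgInt} (hM : Cfsg.IsPModular p M)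
    (ψ : Cfsg.IrrCharacter G) (hN : Cfsg.IsIrrCharacter N (fun n : N => (ψ : G → ℂ) n))
    (hB : ∀ w ∈ N, Cfsg.MemLocalIdeal M ((rcc_ncl N w : ℂ) * (rcc_q (ψ : G → ℂ) w - 1)))
    (C : Subgroup G) (hC : ∀ c ∈ C, ¬ p ∣ rcc_ncl N c) (hcov : N ⊔ C = ⊤) :
    ∃ η : G →* ℂˣ, (∀ n ∈ N, η n = 1) ∧ ∀ y : G, Cfsg.MemLocalIdeal M
      ((rcc_ncl N y : ℂ) * (((η y : ℂˣ) : ℂ) * rcc_q (ψ : G → ℂ) y - 1)) := by
  classical
  have hPr := hM.2.1.isPrime
  have hex : ∀ g : G, ∃ c ∈ C, g * c⁻¹ ∈ N := by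
    intro g
    have hg : g ∈ ((N ⊔ C : Subgroup G) : Set G) := by
      rw [hcov]
      exact Set.mem_univ g
    rw [Subgroup.normal_mul] at hg
    obtain ⟨n, hn, c, hc, rfl⟩ := Set.mem_mul.mp hg
    refine ⟨c, hc, ?_⟩
    rw [mul_inv_cancel_right]
    exact hn
  choose cg hcgC hcgN using hex
  have hmk : ∀ x : G, ((cg x : G) : G ⧸ N) = (x : G ⧸ N) := by
    intro x
    have := (QuotientGroup.eq_one_iff (N := N) _).mpr (hcgN x)
    rw [QuotientGroup.mk_mul, QuotientGroup.mk_inv, mul_inv_eq_one] at this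
    exact this.symm
  set r : G → ℂ := fun g => rcc_q (ψ : G → ℂ) (cg g) with hr
  have hrR : ∀ g, Cfsg.MemLocalRing M (r g) := fun g => rcc_qR N hM ψ hN hB C hC _ (hcgC g)
  have hstar : ∀ y, Cfsg.MemLocalIdeal M ((rcc_ncl N y : ℂ) * (rcc_q (ψ : G → ℂ) y - r y)) :=
    fun y => rcc_star2 N hM ψ hN hB C hC (cg y) y (hcgC y) (hcgN y)
  have hrm : ∀ g h, Cfsg.MemLocalIdeal M (r (g * h) - r g * r h) := by
    intro g h
    have h1 := rcc_coset N hM ψ hN hB C hC (cg g * cg h) (cg (g * h))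
      (C.mul_mem (hcgC g) (hcgC h)) (hcgC _) (by
        rw [← QuotientGroup.eq_one_iff]
        simp only [QuotientGroup.mk_mul, QuotientGroup.mk_inv, hmk]
        group)
    have h2 := rcc_claimY N hM ψ hN hB C hC (cg g) (cg h) (hcgC g) (hcgC h)
    have : r (g * h) - r g * r h =
        (rcc_q (ψ : G → ℂ) (cg (g * h)) - rcc_q (ψ : G → ℂ) (cg g * cg h)) -
        (rcc_q (ψ : G → ℂ) (cg g) * rcc_q (ψ : G → ℂ) (cg h) -
          rcc_q (ψ : G → ℂ) (cg g * cg h)) := by
      simp only [hr]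
      ring
    rw [this]
    exact h7_memLocalIdeal_sub hPr h1 h2
  have hrN : ∀ n ∈ N, Cfsg.MemLocalIdeal M (r n - 1) := by
    intro n hn
    have h1 := rcc_coset N hM ψ hN hB C hC 1 (cg n) C.one_mem (hcgC n) (by
      rw [← QuotientGroup.eq_one_iff]
      simp only [QuotientGroup.mk_mul, QuotientGroup.mk_inv, hmk, QuotientGroup.mk_one, inv_one,
        mul_one]
      exact (QuotientGroup.eq_one_iff _).mpr hn)
    rw [rcc_q_one] at h1
    exact h1
  obtain ⟨lam, m, hm, hlamm, hlam, hlam1⟩ := rcc_lift hM r hrR (hrN 1 N.one_mem) hrm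
  have hm0 : m ≠ 0 := by rintro rfl; exact hm (dvd_zero p)
  refine ⟨lam⁻¹, ?_, ?_⟩
  · intro n hn
    rw [MonoidHom.inv_apply, hlam1 n (hrN n hn), inv_one]
  · intro y
    have hinvR : Cfsg.MemLocalRing M (((lam y : ℂˣ) : ℂ)⁻¹) := by
      apply h7_memLocalRing_of_isIntegral hPr
      apply IsIntegral.of_pow (Nat.pos_of_ne_zero hm0)
      have : (((lam y : ℂˣ) : ℂ)⁻¹) ^ m = 1 := by
        rw [inv_pow, ← Units.val_pow_eq_pow_val, hlamm, Units.val_one, inv_one]
      rw [this]
      exact isIntegral_one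
    have h0 : ((lam y : ℂˣ) : ℂ) ≠ 0 := Units.ne_zero _
    have : (rcc_ncl N y : ℂ) * ((((lam⁻¹ : G →* ℂˣ) y : ℂˣ) : ℂ) * rcc_q (ψ : G → ℂ) y - 1) =
        ((lam y : ℂˣ) : ℂ)⁻¹ * ((rcc_ncl N y : ℂ) * (rcc_q (ψ : G → ℂ) y - r y) +
          (rcc_ncl N y : ℂ) * (r y - ((lam y : ℂˣ) : ℂ))) := by
      rw [MonoidHom.inv_apply, Units.val_inv_eq_inv_val]
      field_simp
      ring
    rw [this]
    exact h7_memLocalIdeal_mul_left hPr hinvR (h7_memLocalIdeal_add hPr (hstar y)
      (h7_memLocalIdeal_mul_left hPr (h7_memLocalRing_natCast hPr _) (hlam y)))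

end

section

variable {G : Type*} [Group G]

attribute [local instance] rcc_conjAct

/-- a character whose relative central character values are all congruent to `1` restricts to
a member of the principal block of every subgroup containing `N` -/
theorem rcc_principal_of_star [Finite G] (N : Subgroup G) [N.Normal] {M : Ideal Cfsg.AlgInt}
    (hM : M.IsPrime) (χ : G → ℂ)
    (hstar : ∀ y : G, Cfsg.MemLocalIdeal M ((rcc_ncl N y : ℂ) * (χ y / χ 1 - 1)))
    (J : Subgroup G) (hNJ : N ≤ J) (ξ : J → ℂ) (hξ : ∀ y : J, ξ y = χ y) :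
    Cfsg.SameBlock M (fun _ : J => (1 : ℂ)) ξ := by
  intro y
  unfold Cfsg.centralChar
  obtain ⟨t, ht⟩ := rcc_ncl_dvd_index N J hNJ y
  rw [ht, hξ, hξ]
  have : ((rcc_ncl N (y : G) * t : ℕ) : ℂ) * 1 / 1 -
      ((rcc_ncl N (y : G) * t : ℕ) : ℂ) * χ (y : G) / χ ((1 : J) : G) =
      -((t : ℂ) * ((rcc_ncl N (y : G) : ℂ) * (χ (y : G) / χ 1 - 1))) := by
    push_cast
    ring
  rw [this]
  apply h7_memLocalIdeal_neg
  exact h7_memLocalIdeal_mul_left hM (h7_memLocalRing_natCast hM t) (hstar y)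

theorem rcc_principal_of_star_top [Finite G] (N : Subgroup G) [N.Normal] {M : Ideal Cfsg.AlgInt}
    (hM : M.IsPrime) (χ : G → ℂ)
    (hstar : ∀ y : G, Cfsg.MemLocalIdeal M ((rcc_ncl N y : ℂ) * (χ y / χ 1 - 1))) :
    Cfsg.SameBlock M (fun _ : G => (1 : ℂ)) χ := by
  intro y
  unfold Cfsg.centralChar
  obtain ⟨t, ht⟩ := rcc_ncl_dvd_index_top N y
  rw [ht]
  have : ((rcc_ncl N y * t : ℕ) : ℂ) * 1 / 1 - ((rcc_ncl N y * t : ℕ) : ℂ) * χ y / χ 1 =
      -((t : ℂ) * ((rcc_ncl N y : ℂ) * (χ y / χ 1 - 1))) := by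
    push_cast
    ring
  rw [this]
  apply h7_memLocalIdeal_neg
  exact h7_memLocalIdeal_mul_left hM (h7_memLocalRing_natCast hM t) (hstar y)

/-- Alperin–Dade type extension in the principal block -/
theorem rcc_main [Finite G] (p : ℕ) [hp : Fact p.Prime] (M : Ideal Cfsg.AlgInt)
    (hM : Cfsg.IsPModular p M) (N : Subgroup G) [N.Normal] (P : Sylow p N)
    (hcov : N ⊔ Subgroup.centralizer (((P : Subgroup N).map N.subtype : Subgroup G) : Set G) = ⊤)
    (θ : Cfsg.IrrCharacter N) (hθ : θ ∈ Cfsg.principalBlock M N)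
    (hext : ∃ ψ : Cfsg.IrrCharacter G, ∀ x : N, (ψ : G → ℂ) x = (θ : N → ℂ) x) :
    ∃ χ : Cfsg.IrrCharacter G, χ ∈ Cfsg.principalBlock M G ∧
      (∀ x : N, (χ : G → ℂ) x = (θ : N → ℂ) x) ∧
      ∀ J : Subgroup G, N ≤ J → ∃ ξ : Cfsg.IrrCharacter J, ξ ∈ Cfsg.principalBlock M J ∧
        ∀ y : J, (ξ : J → ℂ) y = (χ : G → ℂ) y := by
  classical
  haveI : Fintype G := Fintype.ofFinite G
  have hPr := hM.2.1.isPrime
  obtain ⟨ψ, hψ⟩ := hext
  have hθeq : (θ : N → ℂ) = fun n : N => (ψ : G → ℂ) n := by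
    funext n
    exact (hψ n).symm
  have hN : Cfsg.IsIrrCharacter N (fun n : N => (ψ : G → ℂ) n) := by
    rw [← hθeq]
    exact θ.2
  have hB' : Cfsg.SameBlock M (fun _ : N => (1 : ℂ)) (fun n : N => (ψ : G → ℂ) n) := by
    rw [← hθeq]
    exact hθ
  have hB := rcc_block_N N hPr (ψ : G → ℂ) hB'
  obtain ⟨η, hηN, hstar⟩ := rcc_core N hM ψ hN hB _ (rcc_ncl_not_dvd N p P) hcov
  set χ : Cfsg.IrrCharacter G := afSmul η ψ with hχ
  have hχN : ∀ x : N, (χ : G → ℂ) x = (θ : N → ℂ) x := by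
    intro x
    rw [hχ, afSmul_apply, hηN _ x.2, Units.val_one, one_mul, hψ]
  have hχ1 : (χ : G → ℂ) 1 = (ψ : G → ℂ) 1 := by
    rw [hχ, afSmul_apply, map_one, Units.val_one, one_mul]
  have hstar' : ∀ y : G, Cfsg.MemLocalIdeal M
      ((rcc_ncl N y : ℂ) * ((χ : G → ℂ) y / (χ : G → ℂ) 1 - 1)) := by
    intro y
    have := hstar y
    rw [hχ1, hχ, afSmul_apply]
    unfold rcc_q at this
    rw [mul_div_assoc]
    exact this
  have hχN' : Cfsg.IsIrrCharacter N (fun n : N => (χ : G → ℂ) n) := by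
    have : (fun n : N => (χ : G → ℂ) n) = (θ : N → ℂ) := funext hχN
    rw [this]
    exact θ.2
  refine ⟨χ, rcc_principal_of_star_top N hPr _ hstar', hχN, ?_⟩
  intro J hNJ
  refine ⟨⟨fun y : J => (χ : G → ℂ) y, rcc_restrict_mid N J hNJ χ hχN'⟩, ?_, fun y => rfl⟩
  exact rcc_principal_of_star N hPr _ hstar' J hNJ _ (fun y => rfl)

end

end Cfsg.Agent.Lib.Helper25
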