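import Mathlib
import Cfsg.Agent.Lib.Helper25.RealOrbits
import Cfsg.Agent.Lib.Helper25.PermReal
import Cfsg.Agent.Lib.helper7.Clifford

/-!
Real and strongly real characters over a normal subgroup of odd index: exactly one real
irreducible character lies over each real irreducible character of the subgroup, and the
Frobenius-Schur indicators agree.
-/

set_option autoImplicit false
set_option linter.deprecated false

namespace Cfsg.Agent.Lib.Helper25
open Cfsg.Agent.Lib.Helper24 Cfsg.Agent.Lib.helper7 Cfsg.Agent.Lib.Helper11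
open scoped ComplexConjugate

variable {G : Type*} [Group G]



/-- multiplicity of ψ in the restriction of χ -/
noncomputable def resInner [Fintype G] (N : Subgroup G) [Fintype N] (χ : Cfsg.IrrCharacter G)
    (ψ : Cfsg.IrrCharacter N) : ℂ :=
  Cfsg.classInner (fun n : N => (χ : G → ℂ) n) (ψ : N → ℂ)

theorem resInner_nat [Fintype G] (N : Subgroup G) [Fintype N] (χ : Cfsg.IrrCharacter G)
    (ψ : Cfsg.IrrCharacter N) : ∃ m : ℕ, resInner N χ ψ = m := by
  obtain ⟨n, ρ, hρ, hχ⟩ := χ.2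
  obtain ⟨m, hm⟩ := classInner_char_irr_nat (ρ.comp N.subtype) ψ
  refine ⟨m, ?_⟩
  rw [← hm]
  unfold resInner
  congr 1
  funext k
  rw [← hχ]
  rfl

theorem resInner_conj [Fintype G] (N : Subgroup G) [Fintype N] (χ : Cfsg.IrrCharacter G)
    (ψ : Cfsg.IrrCharacter N) : resInner N (irrConj χ) (irrConj ψ) = resInner N χ ψ := by
  obtain ⟨m, hm⟩ := resInner_nat N χ ψ
  have h1 : resInner N (irrConj χ) (irrConj ψ) = conj (resInner N χ ψ) := by
    unfold resInner Cfsg.classInner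
    simp only [irrConj_apply, map_mul, map_sum, Complex.conj_conj, map_inv₀, Complex.conj_natCast]
  rw [h1, hm, Complex.conj_natCast]

theorem resInner_sq_sum [Fintype G] [Fintype (Cfsg.IrrCharacter G)] (N : Subgroup G) [N.Normal]
    [Fintype N] (ψ : Cfsg.IrrCharacter N) :
    ∑ χ : Cfsg.IrrCharacter G, resInner N χ ψ * conj (resInner N χ ψ) =
      (Nat.card N : ℂ)⁻¹ * (Nat.card {g : G // cj N (ψ : N → ℂ) g = (ψ : N → ℂ)} : ℂ) := by
  classical
  have hcl : ∀ g h : G, Cfsg.indFun N (ψ : N → ℂ) (h * g * h⁻¹) = Cfsg.indFun N (ψ : N → ℂ) g :=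
    h7_indFun_isClassFunction N (ψ : N → ℂ)
  have hpar := classInner_parseval (Cfsg.indFun N (ψ : N → ℂ)) hcl
  have h1 : ∀ χ : Cfsg.IrrCharacter G,
      Cfsg.classInner (Cfsg.indFun N (ψ : N → ℂ)) (χ : G → ℂ) = conj (resInner N χ ψ) := by
    intro χ
    exact h7_frobenius_irr N (χ : G → ℂ) (fun g h => irr_conj_invariant χ g h) (ψ : N → ℂ)
  simp_rw [h1, Complex.conj_conj] at hpar
  have hsum : ∑ χ : Cfsg.IrrCharacter G, resInner N χ ψ * conj (resInner N χ ψ) =
      Cfsg.classInner (Cfsg.indFun N (ψ : N → ℂ)) (Cfsg.indFun N (ψ : N → ℂ)) := by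
    rw [hpar]
    refine Finset.sum_congr rfl fun χ _ => ?_
    ring
  rw [hsum, h7_frobenius_reciprocity N _ _ (fun g h => hcl g h)]
  unfold Cfsg.classInner
  simp_rw [indFun_normal_apply]
  have h2 : ∀ n : N, (ψ : N → ℂ) n * conj ((Nat.card N : ℂ)⁻¹ * ∑ x : G, cj N (ψ : N → ℂ) x n) =
      (Nat.card N : ℂ)⁻¹ * ∑ x : G, (ψ : N → ℂ) n * conj (cj N (ψ : N → ℂ) x n) := by
    intro n
    rw [map_mul, map_sum, map_inv₀, Complex.conj_natCast, Finset.mul_sum, Finset.mul_sum,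
      Finset.mul_sum]
    refine Finset.sum_congr rfl fun x _ => ?_
    ring
  simp_rw [h2]
  rw [← Finset.mul_sum, Finset.sum_comm]
  have h3 : ∀ x : G, ∑ n : N, (ψ : N → ℂ) n * conj (cj N (ψ : N → ℂ) x n) =
      (Nat.card N : ℂ) * (if cj N (ψ : N → ℂ) x = (ψ : N → ℂ) then 1 else 0) := by
    intro x
    have hirr := irr_classInner ψ ⟨cj N (ψ : N → ℂ) x, isIrr_cj N (ψ : N → ℂ) ψ.2 x⟩
    unfold Cfsg.classInner at hirr
    have hN : (Nat.card N : ℂ) ≠ 0 := by exact_mod_cast Nat.card_pos.ne'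
    have : (∑ n : N, (ψ : N → ℂ) n * conj (cj N (ψ : N → ℂ) x n)) =
        (Nat.card N : ℂ) * ((Nat.card N : ℂ)⁻¹ *
          ∑ n : N, (ψ : N → ℂ) n * conj (cj N (ψ : N → ℂ) x n)) := by
      field_simp
    rw [this, hirr]
    congr 1
    by_cases h : cj N (ψ : N → ℂ) x = (ψ : N → ℂ)
    · rw [if_pos h, if_pos]
      apply Subtype.ext
      exact h.symm
    · rw [if_neg h, if_neg]
      intro h'
      apply h
      exact (congrArg Subtype.val h').symm
  simp_rw [h3]
  have hcard : (Nat.card {g : G // cj N (ψ : N → ℂ) g = (ψ : N → ℂ)} : ℂ) =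
      ∑ x : G, if cj N (ψ : N → ℂ) x = (ψ : N → ℂ) then (1 : ℂ) else 0 := by
    rw [Finset.sum_boole, Nat.card_eq_fintype_card, Fintype.card_subtype]
  rw [hcard, ← Finset.mul_sum]
  have hN : (Nat.card N : ℂ) ≠ 0 := by exact_mod_cast Nat.card_pos.ne'
  field_simp



/-- the inertia group of a function on a normal subgroup -/
def cjStab (N : Subgroup G) [N.Normal] (θ : N → ℂ) : Subgroup G where
  carrier := {g | cj N θ g = θ}
  one_mem' := cj_one N θ
  mul_mem' := by
    intro a b ha hb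
    show cj N θ (a * b) = θ
    rw [← cj_mul, ha, hb]
  inv_mem' := by
    intro a ha
    show cj N θ a⁻¹ = θ
    have h : cj N (cj N θ a) a⁻¹ = cj N θ a⁻¹ := by rw [ha]
    rw [← h, cj_mul, mul_inv_cancel, cj_one]

theorem resInner_sq_sum_odd [Fintype G] [Fintype (Cfsg.IrrCharacter G)] (N : Subgroup G) [N.Normal]
    [Fintype N] (hodd : Odd N.index) (ψ : Cfsg.IrrCharacter N) (m : Cfsg.IrrCharacter G → ℕ)
    (hm : ∀ χ, resInner N χ ψ = m χ) : Odd (∑ χ : Cfsg.IrrCharacter G, m χ ^ 2) := by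
  classical
  have h := resInner_sq_sum N ψ
  simp_rw [hm, Complex.conj_natCast] at h
  have hN : (Nat.card N : ℂ) ≠ 0 := by exact_mod_cast Nat.card_pos.ne'
  have hT : Nat.card {g : G // cj N (ψ : N → ℂ) g = (ψ : N → ℂ)} =
      Nat.card (cjStab N (ψ : N → ℂ)) := rfl
  have h2 : Nat.card N * (∑ χ : Cfsg.IrrCharacter G, m χ ^ 2) =
      Nat.card (cjStab N (ψ : N → ℂ)) := by
    rw [← hT]
    have : ((Nat.card N * (∑ χ : Cfsg.IrrCharacter G, m χ ^ 2) : ℕ) : ℂ) =
        ((Nat.card {g : G // cj N (ψ : N → ℂ) g = (ψ : N → ℂ)} : ℕ) : ℂ) := by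
      push_cast
      have h' : ∑ χ : Cfsg.IrrCharacter G, (m χ : ℂ) ^ 2 =
          (Nat.card N : ℂ)⁻¹ * (Nat.card {g : G // cj N (ψ : N → ℂ) g = (ψ : N → ℂ)} : ℂ) := by
        rw [← h]
        refine Finset.sum_congr rfl fun χ _ => ?_
        ring
      rw [h']
      field_simp
    exact_mod_cast this
  have h3 := Subgroup.card_mul_index N
  have h4 := Subgroup.card_mul_index (cjStab N (ψ : N → ℂ))
  rw [← h2, ← h3, mul_assoc] at h4
  have hpos : 0 < Nat.card N := Nat.card_pos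
  have h5 : (∑ χ : Cfsg.IrrCharacter G, m χ ^ 2) * (cjStab N (ψ : N → ℂ)).index = N.index :=
    Nat.eq_of_mul_eq_mul_left hpos h4
  rw [← h5] at hodd
  exact (Nat.odd_mul.1 hodd).1

theorem exists_real_over [Fintype G] [Fintype (Cfsg.IrrCharacter G)] (N : Subgroup G) [N.Normal]
    [Fintype N] (hodd : Odd N.index) (ψ : Cfsg.IrrCharacter N) (hψ : irrConj ψ = ψ) :
    ∃ χ : Cfsg.IrrCharacter G, irrConj χ = χ ∧ resInner N χ ψ ≠ 0 := by
  classical
  choose m hm using fun χ : Cfsg.IrrCharacter G => resInner_nat N χ ψ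
  have hS := resInner_sq_sum_odd N hodd ψ m hm
  by_contra hcon
  push Not at hcon
  have hminv : ∀ χ : Cfsg.IrrCharacter G, m (irrConj χ) = m χ := by
    intro χ
    have h1 := resInner_conj N χ ψ
    rw [hψ, hm, hm] at h1
    exact_mod_cast h1
  have hz : ∑ χ : Cfsg.IrrCharacter G, ((m χ ^ 2 : ℕ) : ZMod 2) = 0 := by
    refine Finset.sum_involution (fun χ _ => irrConj χ) ?_ ?_ ?_ ?_
    · intro χ _
      rw [hminv χ]
      have : ((m χ ^ 2 : ℕ) : ZMod 2) + ((m χ ^ 2 : ℕ) : ZMod 2) =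
          (2 : ZMod 2) * ((m χ ^ 2 : ℕ) : ZMod 2) := by ring
      rw [this]
      have h2 : (2 : ZMod 2) = 0 := rfl
      rw [h2, zero_mul]
    · intro χ _ hne hfix
      apply hne
      have h0 := hcon χ hfix
      rw [hm] at h0
      have : m χ = 0 := by exact_mod_cast h0
      rw [this]
      simp
    · intro χ _
      exact Finset.mem_univ _
    · intro χ _
      exact irrConj_irrConj χ
  rw [← Nat.cast_sum, ZMod.natCast_eq_zero_iff_even] at hz
  exact (Nat.not_even_iff_odd.2 hS) hz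



theorem odd_index_real (N : Subgroup G) [hN : N.Normal] (hodd : Odd N.index) (g b : G)
    (hb : b * g * b⁻¹ = g⁻¹) :
    g ∈ N ∧ b ^ N.index ∈ N ∧ b ^ N.index * g * (b ^ N.index)⁻¹ = g⁻¹ := by
  obtain ⟨k, hk⟩ := hodd
  have hb2 : ∀ j : ℕ, (b ^ 2) ^ j * g * ((b ^ 2) ^ j)⁻¹ = g := by
    intro j
    induction j with
    | zero => simp
    | succ j ih =>
      have h0 : (b ^ 2) ^ (j + 1) = b * b * (b ^ 2) ^ j := by rw [pow_succ', pow_two]
      have h1 : (b ^ 2) ^ (j + 1) * g * ((b ^ 2) ^ (j + 1))⁻¹ =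
          b * (b * ((b ^ 2) ^ j * g * ((b ^ 2) ^ j)⁻¹) * b⁻¹) * b⁻¹ := by
        rw [h0]
        generalize (b ^ 2) ^ j = c
        group
      rw [h1, ih, hb]
      have : b * g⁻¹ * b⁻¹ = (b * g * b⁻¹)⁻¹ := by group
      rw [this, hb, inv_inv]
  have hc : b ^ N.index * g * (b ^ N.index)⁻¹ = g⁻¹ := by
    have h1 : b ^ N.index * g * (b ^ N.index)⁻¹ =
        b * ((b ^ 2) ^ k * g * ((b ^ 2) ^ k)⁻¹) * b⁻¹ := by
      have h0 : b ^ (2 * k + 1) = b * (b ^ 2) ^ k := by rw [pow_succ', pow_mul]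
      rw [hk, h0]
      generalize (b ^ 2) ^ k = c
      group
    rw [h1, hb2, hb]
  have hcN : b ^ N.index ∈ N := Subgroup.pow_index_mem N b
  refine ⟨?_, hcN, hc⟩
  have hg2 : g ^ 2 ∈ N := by
    have h1 : g ^ 2 = (g * (b ^ N.index) * g⁻¹) * (b ^ N.index)⁻¹ := by
      have : g⁻¹ = b ^ N.index * g * (b ^ N.index)⁻¹ := hc.symm
      calc g ^ 2 = g * (g⁻¹)⁻¹ := by rw [inv_inv, pow_two]
        _ = g * (b ^ N.index * g * (b ^ N.index)⁻¹)⁻¹ := by rw [← this]
        _ = (g * (b ^ N.index) * g⁻¹) * (b ^ N.index)⁻¹ := by group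
    rw [h1]
    exact N.mul_mem (hN.conj_mem _ hcN g) (N.inv_mem hcN)
  have hgm : g ^ N.index ∈ N := Subgroup.pow_index_mem N g
  have : g = g ^ N.index * ((g ^ 2) ^ k)⁻¹ := by
    rw [hk, ← pow_mul, pow_succ']
    generalize g ^ (2 * k) = c
    group
  rw [this]
  exact N.mul_mem hgm (N.inv_mem (N.pow_mem hg2 k))

theorem card_real_classes_eq [Finite G] (N : Subgroup G) [hN : N.Normal] (hodd : Odd N.index) :
    Nat.card (Quot (fun x y : {x : ↥N // IsConj x x⁻¹} => ∃ g : G, (y.1 : G) = g * x.1 * g⁻¹)) =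
      Nat.card {C : ConjClasses G // invClass G C = C} := by
  have hreal : ∀ x : {x : ↥N // IsConj x x⁻¹},
      invClass G (ConjClasses.mk (x.1 : G)) = ConjClasses.mk (x.1 : G) := by
    intro x
    rw [invClass_mk, ConjClasses.mk_eq_mk_iff_isConj]
    obtain ⟨c, hc⟩ := isConj_iff.1 x.2
    refine (isConj_iff.2 ⟨(c : G), ?_⟩).symm
    have := congrArg (fun z : N => (z : G)) hc
    simpa using this
  let f : Quot (fun x y : {x : ↥N // IsConj x x⁻¹} => ∃ g : G, (y.1 : G) = g * x.1 * g⁻¹) →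
      {C : ConjClasses G // invClass G C = C} :=
    Quot.lift (fun x => ⟨ConjClasses.mk (x.1 : G), hreal x⟩) (by
      rintro x y ⟨g, hg⟩
      apply Subtype.ext
      show ConjClasses.mk (x.1 : G) = ConjClasses.mk (y.1 : G)
      rw [ConjClasses.mk_eq_mk_iff_isConj]
      exact isConj_iff.2 ⟨g, hg.symm⟩)
  apply Nat.card_eq_of_bijective f
  constructor
  · intro a b
    induction a using Quot.inductionOn with
    | _ x =>
    induction b using Quot.inductionOn with
    | _ y =>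
    intro hxy
    have h1 : ConjClasses.mk (x.1 : G) = ConjClasses.mk (y.1 : G) := congrArg Subtype.val hxy
    rw [ConjClasses.mk_eq_mk_iff_isConj] at h1
    obtain ⟨g, hg⟩ := isConj_iff.1 h1
    exact Quot.sound ⟨g, hg.symm⟩
  · rintro ⟨C, hC⟩
    obtain ⟨g, rfl⟩ := ConjClasses.mk_surjective C
    rw [invClass_mk, ConjClasses.mk_eq_mk_iff_isConj] at hC
    obtain ⟨b, hb⟩ := isConj_iff.1 hC.symm
    obtain ⟨hgN, hcN, hc⟩ := odd_index_real N hodd g b hb
    have hx : IsConj (⟨g, hgN⟩ : N) (⟨g, hgN⟩ : N)⁻¹ := by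
      refine isConj_iff.2 ⟨⟨b ^ N.index, hcN⟩, ?_⟩
      apply Subtype.ext
      exact hc
    exact ⟨Quot.mk _ ⟨⟨g, hgN⟩, hx⟩, rfl⟩

theorem card_real_irr_eq [Finite G] (N : Subgroup G) [hN : N.Normal] (hodd : Odd N.index) :
    Nat.card {χ : Cfsg.IrrCharacter G // irrConj χ = χ} =
      Nat.card (Quot (fun a b : {θ : Cfsg.IrrCharacter N // irrConj θ = θ} =>
        ∃ g : G, conjIrr N g a.1 = b.1)) := by
  have h1 : Nat.card {χ : Cfsg.IrrCharacter G // irrConj χ = χ} =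
      Nat.card {C : ConjClasses G // invClass G C = C} := by
    let τ : Equiv.Perm (ConjClasses G) :=
      { toFun := invClass G
        invFun := invClass G
        left_inv := invClass_invClass G
        right_inv := invClass_invClass G }
    refine brauer_perm_pair (fun χ => irrConj χ) τ ?_
    intro χ g g' h
    have h' : ConjClasses.mk g' = ConjClasses.mk g⁻¹ := h
    rw [ConjClasses.mk_eq_mk_iff_isConj] at h'
    show conj ((χ : G → ℂ) g') = (χ : G → ℂ) g
    rw [irr_isConj_eq χ h', irr_inv, Complex.conj_conj]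
  rw [h1, ← card_real_classes_eq N hodd, card_quot_real_classes]
  letI := irrMulAction N
  letI := classMulAction N
  exact (real_orbit_count (Z := Cfsg.IrrCharacter N) (W := ConjClasses N) N hodd
    irrConj irrConj_irrConj (fun g θ => irrConj_conjIrr N g θ)
    (fun x hx θ => conjIrr_of_mem N x hx θ)
    (invClass N) (invClass_invClass N) (fun g C => invClass_classAct N g C)
    (fun x hx C => classAct_of_mem N x hx C)
    (fun g => brauer_twisted N g)).symm



theorem orbit_eq_of_over [Fintype G] (N : Subgroup G) [hN : N.Normal] [Fintype N]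
    (χ : Cfsg.IrrCharacter G) (a b : {θ : Cfsg.IrrCharacter N // irrConj θ = θ})
    (ha : resInner N χ a.1 ≠ 0) (hb : resInner N χ b.1 ≠ 0) :
    Quot.mk (fun a b : {θ : Cfsg.IrrCharacter N // irrConj θ = θ} =>
        ∃ g : G, conjIrr N g a.1 = b.1) a = Quot.mk _ b := by
  obtain ⟨g, hg⟩ := h7_clifford_conj N (χ : G → ℂ) χ.2 (a.1 : N → ℂ) (b.1 : N → ℂ) a.1.2 b.1.2 ha hb
  apply Quot.sound
  refine ⟨g⁻¹, ?_⟩
  apply Subtype.ext
  show cj N (a.1 : N → ℂ) g⁻¹⁻¹ = (b.1 : N → ℂ)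
  rw [inv_inv, hg]

theorem unique_real_over [Fintype G] (N : Subgroup G) [hN : N.Normal]
    [Fintype N] (hodd : Odd N.index) (ψ : Cfsg.IrrCharacter N) (hψ : irrConj ψ = ψ) :
    ∃! χ : Cfsg.IrrCharacter G, irrConj χ = χ ∧ resInner N χ ψ ≠ 0 := by
  classical
  haveI : Fintype (Cfsg.IrrCharacter G) := Fintype.ofFinite _
  obtain ⟨χ₀, hχ₀r, hχ₀⟩ := exists_real_over N hodd ψ hψ
  refine ⟨χ₀, ⟨hχ₀r, hχ₀⟩, ?_⟩
  have hex : ∀ a : {θ : Cfsg.IrrCharacter N // irrConj θ = θ},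
      ∃ χ : Cfsg.IrrCharacter G, irrConj χ = χ ∧ resInner N χ a.1 ≠ 0 :=
    fun a => exists_real_over N hodd a.1 a.2
  choose F hF using hex
  let f : Quot (fun a b : {θ : Cfsg.IrrCharacter N // irrConj θ = θ} =>
        ∃ g : G, conjIrr N g a.1 = b.1) → {χ : Cfsg.IrrCharacter G // irrConj χ = χ} :=
    fun q => ⟨F q.out, (hF q.out).1⟩
  have hfinj : Function.Injective f := by
    intro q q' h
    have h' : F q.out = F q'.out := congrArg Subtype.val h
    have h1 := (hF q.out).2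
    have h2 := (hF q'.out).2
    rw [← h'] at h2
    have := orbit_eq_of_over N (F q.out) q.out q'.out h1 h2
    rwa [Quot.out_eq, Quot.out_eq] at this
  have hcard := card_real_irr_eq N hodd
  have hfbij : Function.Bijective f :=
    hfinj.bijective_of_nat_card_le (le_of_eq hcard)
  have key : ∀ χ : Cfsg.IrrCharacter G, irrConj χ = χ → resInner N χ ψ ≠ 0 →
      χ = F (Quot.mk (fun a b : {θ : Cfsg.IrrCharacter N // irrConj θ = θ} =>
        ∃ g : G, conjIrr N g a.1 = b.1) ⟨ψ, hψ⟩).out := by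
    intro χ hr hne
    obtain ⟨q, hq⟩ := hfbij.2 ⟨χ, hr⟩
    have hq' : F q.out = χ := congrArg Subtype.val hq
    have h1 := (hF q.out).2
    rw [hq'] at h1
    have h2 := orbit_eq_of_over N χ q.out ⟨ψ, hψ⟩ h1 hne
    rw [Quot.out_eq] at h2
    rw [← hq', h2]
  intro χ ⟨hr, hne⟩
  rw [key χ hr hne, key χ₀ hχ₀r hχ₀]



theorem mem_of_sq_mem (N : Subgroup G) [hN : N.Normal] (hodd : Odd N.index) (y : G)
    (hy : y * y ∈ N) : y ∈ N := by
  obtain ⟨k, hk⟩ := hodd
  have hm : y ^ N.index ∈ N := Subgroup.pow_index_mem N y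
  have h2 : y ^ 2 ∈ N := by rw [pow_two]; exact hy
  have : y = y ^ N.index * ((y ^ 2) ^ k)⁻¹ := by
    rw [hk, ← pow_mul, pow_succ']
    generalize y ^ (2 * k) = c
    group
  rw [this]
  exact N.mul_mem hm (N.inv_mem (N.pow_mem h2 k))

theorem card_sqrt_eq (N : Subgroup G) [hN : N.Normal] (hodd : Odd N.index) (n : N) :
    Nat.card {y : G // y * y = (n : G)} = Nat.card {y : N // y * y = n} := by
  apply Nat.card_congr
  exact
    { toFun := fun y => ⟨⟨y.1, mem_of_sq_mem N hodd y.1 (by rw [y.2]; exact n.2)⟩,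
        Subtype.ext y.2⟩
      invFun := fun y => ⟨(y.1 : G), by
        have := congrArg (fun z : N => (z : G)) y.2
        simpa using this⟩
      left_inv := fun y => rfl
      right_inv := fun y => rfl }

theorem fs_restrict [Fintype G] [Fintype (Cfsg.IrrCharacter G)] (N : Subgroup G) [hN : N.Normal]
    [Fintype N] [Fintype (Cfsg.IrrCharacter N)] (hodd : Odd N.index) (ψ : Cfsg.IrrCharacter N) :
    ∑ χ : Cfsg.IrrCharacter G, fsNu χ * resInner N χ ψ = fsNu ψ := by
  classical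
  have hpt : ∀ n : N, ∑ χ : Cfsg.IrrCharacter G, fsNu χ * (χ : G → ℂ) (n : G) =
      ∑ θ : Cfsg.IrrCharacter N, fsNu θ * (θ : N → ℂ) n := by
    intro n
    have h1 := sqrt_count_expansion (G := G) (n : G)
    have h2 := sqrt_count_expansion (G := N) n
    rw [card_sqrt_eq N hodd n, h2] at h1
    exact h1.symm
  unfold resInner Cfsg.classInner
  have h3 : ∑ χ : Cfsg.IrrCharacter G, fsNu χ *
      ((Nat.card N : ℂ)⁻¹ * ∑ g : N, (χ : G → ℂ) (g : G) * conj ((ψ : N → ℂ) g)) =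
      (Nat.card N : ℂ)⁻¹ * ∑ g : N, (∑ χ : Cfsg.IrrCharacter G, fsNu χ * (χ : G → ℂ) (g : G)) *
        conj ((ψ : N → ℂ) g) := by
    simp_rw [Finset.sum_mul, Finset.mul_sum]
    rw [Finset.sum_comm]
    refine Finset.sum_congr rfl fun g _ => Finset.sum_congr rfl fun χ _ => ?_
    ring
  rw [h3]
  simp_rw [hpt]
  have h4 : (Nat.card N : ℂ)⁻¹ * ∑ g : N, (∑ θ : Cfsg.IrrCharacter N, fsNu θ * (θ : N → ℂ) g) *
        conj ((ψ : N → ℂ) g) =
      ∑ θ : Cfsg.IrrCharacter N, fsNu θ * Cfsg.classInner (θ : N → ℂ) (ψ : N → ℂ) := by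
    unfold Cfsg.classInner
    simp_rw [Finset.sum_mul, Finset.mul_sum]
    rw [Finset.sum_comm]
    refine Finset.sum_congr rfl fun g _ => Finset.sum_congr rfl fun χ _ => ?_
    ring
  rw [h4]
  simp_rw [irr_classInner]
  simp



theorem strongly_real_over [Fintype G] (N : Subgroup G) [hN : N.Normal] [Fintype N]
    (hodd : Odd N.index) (φ : Cfsg.IrrCharacter N) (hφ : fsNu φ = 1) :
    ∃! χ : Cfsg.IrrCharacter G, fsNu χ = 1 ∧ resInner N χ φ ≠ 0 := by
  classical
  haveI : Fintype (Cfsg.IrrCharacter G) := Fintype.ofFinite _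
  haveI : Fintype (Cfsg.IrrCharacter N) := Fintype.ofFinite _
  have hφreal : irrConj φ = φ := by
    rw [irrConj_eq_self_iff]
    rcases fsNu_cases φ with h0 | ⟨_, hr⟩
    · rw [h0] at hφ; exact absurd hφ zero_ne_one
    · exact hr
  obtain ⟨χ₀, ⟨hχ₀r, hχ₀⟩, huniq⟩ := unique_real_over N hodd φ hφreal
  have hreal_of : ∀ χ : Cfsg.IrrCharacter G, fsNu χ ≠ 0 → irrConj χ = χ := by
    intro χ h
    rw [irrConj_eq_self_iff]
    rcases fsNu_cases χ with h0 | ⟨_, hr⟩
    · exact absurd h0 h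
    · exact hr
  have hsum := fs_restrict N hodd φ
  rw [hφ] at hsum
  have hsingle : ∑ χ : Cfsg.IrrCharacter G, fsNu χ * resInner N χ φ =
      fsNu χ₀ * resInner N χ₀ φ := by
    refine Finset.sum_eq_single χ₀ ?_ ?_
    · intro χ _ hne
      by_cases h0 : fsNu χ = 0
      · rw [h0, zero_mul]
      · by_cases h1 : resInner N χ φ = 0
        · rw [h1, mul_zero]
        · exact absurd (huniq χ ⟨hreal_of χ h0, h1⟩) hne
    · intro h; exact absurd (Finset.mem_univ _) h
  rw [hsingle] at hsum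
  obtain ⟨m, hm⟩ := resInner_nat N χ₀ φ
  have hν : fsNu χ₀ = 1 := by
    rcases fsNu_cases χ₀ with h0 | ⟨h1 | h1, _⟩
    · rw [h0, zero_mul] at hsum; exact absurd hsum zero_ne_one
    · exact h1
    · exfalso
      rw [h1, hm] at hsum
      have : ((m + 1 : ℕ) : ℂ) = 0 := by
        push_cast
        linear_combination -hsum
      exact_mod_cast this
  refine ⟨χ₀, ⟨hν, hχ₀⟩, ?_⟩
  intro χ ⟨h1, h2⟩
  exact huniq χ ⟨hreal_of χ (by rw [h1]; exact one_ne_zero), h2⟩


end Cfsg.Agent.Lib.Helper25
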