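import Mathlib
import Cfsg.Agent.Lib.Helper25.RelCentralChar
import Cfsg.Agent.Lib.Helper25.ItoSolvable
import Cfsg.Agent.Lib.Helper25.CharLinear
import Cfsg.Agent.Lib.Helper26.CoverAll
import Cfsg.Agent.Lib.helper2.CliffordCorr
import Cfsg.Agent.Lib.helper7.BlockEval
import Cfsg.Agent.Lib.helper7.ProjExtCyclic
import Cfsg.Agent.Lib.helper7.Gallagher
import Cfsg.Agent.Lib.Helper26.GalFixOver2
import Cfsg.Agent.Lib.Helper25.PermReal
import Cfsg.Agent.Lib.Helper25.KnorrBound
import Cfsg.Agent.Lib.Helper24.FSDefZero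
import Cfsg.Agent.Lib.Helper24.ExtFirstMain2
import Cfsg.Agent.Lib.helper23.SylowCount
import Cfsg.Agent.Lib.helper2.CharInd
import Cfsg.Agent.S0964

/-!
Alperin-Dade for p-prime index: N normal in G of index prime to p, G = N C_G(P) for a Sylow p-subgroup P; restriction is a bijection from the principal block of G onto the principal block of N (adp_main). Steps: adp_invariant (members of B0(N) are G-invariant, via covering + Clifford correspondence + nonvanishing on C_G(P) + union of conjugates), adp_cyclic_step, adp_qgroup_ext (induction through q-group quotients), adp_ext_all (Sylow criterion for extendibility), adp_unique (Gallagher + congruences).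
-/

set_option autoImplicit false
set_option linter.style.haveILetI false
set_option linter.unusedVariables false
set_option linter.unusedSectionVars false
set_option warn.classDefReducibility false
set_option maxHeartbeats 1600000

namespace Cfsg.Agent.Lib.Helper25
open Cfsg.Agent.Lib.Helper11
open Cfsg.Agent.Lib.helper2
open Cfsg.Agent.Lib.helper7
open Cfsg.Agent.Lib.Helper24
open Cfsg.Agent.Lib.Helper26
open scoped ComplexConjugate
open Cfsg.Agent.Lib.helper23
section

variable {G : Type*} [Group G]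

theorem adp_principal_isPBlock (M : Ideal Cfsg.AlgInt) (H : Type*) [Group H] :
    Cfsg.IsPBlock M (Cfsg.principalBlock M H) := ⟨trivIrr H, rfl⟩

theorem adp_triv_mem {M : Ideal Cfsg.AlgInt} (hM : M.IsPrime) (H : Type*) [Group H] :
    trivIrr H ∈ Cfsg.principalBlock M H := by
  intro g
  have : Cfsg.centralChar (fun _ : H => (1 : ℂ)) g - Cfsg.centralChar (trivIrr H : H → ℂ) g = 0 :=
    sub_self _
  rw [this]
  exact h7_memLocalIdeal_zero hM

/-- an element centralizing a Sylow `p`-subgroup has class size prime to `p` -/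
theorem adp_class_not_dvd [Finite G] (p : ℕ) [hp : Fact p.Prime] (P : Sylow p G) (c : G)
    (hc : c ∈ Subgroup.centralizer ((P : Subgroup G) : Set G)) :
    ¬ p ∣ (Subgroup.centralizer ({c} : Set G)).index := by
  have hle : (P : Subgroup G) ≤ Subgroup.centralizer ({c} : Set G) := by
    intro x hx
    rw [Subgroup.mem_centralizer_singleton_iff]
    exact (Subgroup.mem_centralizer_iff.mp hc x hx)
  intro hdvd
  exact P.not_dvd_index (dvd_trans hdvd (Subgroup.index_dvd_of_le hle))

/-- a character of the principal block does not vanish on the centralizer of a Sylow subgroup -/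
theorem adp_ne_zero [Finite G] (p : ℕ) [hp : Fact p.Prime] (M : Ideal Cfsg.AlgInt)
    (hM : Cfsg.IsPModular p M) (P : Sylow p G) (χ : Cfsg.IrrCharacter G)
    (hχ : χ ∈ Cfsg.principalBlock M G) (c : G)
    (hc : c ∈ Subgroup.centralizer ((P : Subgroup G) : Set G)) : (χ : G → ℂ) c ≠ 0 := by
  intro h0
  have h1 := hχ c
  unfold Cfsg.centralChar at h1
  rw [h0, mul_zero, zero_div, sub_zero, mul_one, div_one] at h1
  exact adp_class_not_dvd p P c hc ((h7_memLocalIdeal_natCast_iff hM _).mp h1)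

/-- members of the principal block of `N` are invariant in `G = N C_G(P)` -/
theorem adp_invariant [Fintype G] (p : ℕ) [hp : Fact p.Prime] (M : Ideal Cfsg.AlgInt)
    (hM : Cfsg.IsPModular p M) (N : Subgroup G) [hN : N.Normal] [Fintype N] (P : Sylow p G)
    (hsup : N ⊔ Subgroup.centralizer ((P : Subgroup G) : Set G) = ⊤)
    (θ : Cfsg.IrrCharacter N) (hθ : θ ∈ Cfsg.principalBlock M N) (g : G) (n : N) :
    (θ : N → ℂ) ⟨g * n * g⁻¹, hN.conj_mem n n.2 g⟩ = (θ : N → ℂ) n := by
  classical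
  have hPr := hM.2.1.isPrime
  have hcov : ∃ χ ∈ Cfsg.principalBlock M G, ∃ θ₀ ∈ Cfsg.principalBlock M N,
      Cfsg.classInner (fun n : N => (χ : G → ℂ) n) (θ₀ : N → ℂ) ≠ 0 := by
    refine ⟨trivIrr G, adp_triv_mem hPr G, trivIrr N, adp_triv_mem hPr N, ?_⟩
    unfold Cfsg.classInner
    simp only [trivIrr_apply, map_one, mul_one, Finset.sum_const, Finset.card_univ, nsmul_eq_mul]
    rw [Nat.card_eq_fintype_card]
    have : (Fintype.card N : ℂ) ≠ 0 := by exact_mod_cast Fintype.card_ne_zero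
    rw [inv_mul_cancel₀ this]
    exact one_ne_zero
  obtain ⟨χ, hχ, hcon⟩ := cva_main N p M hM _ (adp_principal_isPBlock M G) _
    (adp_principal_isPBlock M N) hcov θ hθ
  obtain ⟨η, hη, hind⟩ := clifford_correspondence N (χ : G → ℂ) χ.2 (θ : N → ℂ) θ.2 hcon
  have hθcl : Cfsg.IsClassFunction N (θ : N → ℂ) := h7_irr_isClassFunction θ.2
  have hNT : N ≤ Cfsg.Agent.Lib.helper2.cjStab N (θ : N → ℂ) := Cfsg.Agent.Lib.helper2.le_cjStab N _ hθcl
  have hT : Cfsg.Agent.Lib.helper2.cjStab N (θ : N → ℂ) = ⊤ := by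
    apply itn_eq_top_of_conj_cover
    intro g
    have hg : g ∈ ((N ⊔ Subgroup.centralizer ((P : Subgroup G) : Set G) : Subgroup G) : Set G) := by
      rw [hsup]
      exact Set.mem_univ g
    rw [Subgroup.normal_mul] at hg
    obtain ⟨n, hn, c, hc, rfl⟩ := Set.mem_mul.mp hg
    have hχc := adp_ne_zero p M hM P χ hχ c hc
    have hex : ∃ x : G, x⁻¹ * c * x ∈ Cfsg.Agent.Lib.helper2.cjStab N (θ : N → ℂ) := by
      by_contra hne
      push Not at hne
      apply hχc
      rw [← hind]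
      unfold Cfsg.indFun
      rw [Finset.sum_eq_zero (fun x _ => h7_extendByZero_not_mem _ _ _ (hne x)), mul_zero]
    obtain ⟨x, hx⟩ := hex
    refine ⟨x⁻¹, ?_⟩
    have : x⁻¹ * (n * c) * x⁻¹⁻¹ = (x⁻¹ * n * x⁻¹⁻¹) * (x⁻¹ * c * x) := by group
    rw [this]
    exact Subgroup.mul_mem _ (hNT (hN.conj_mem n hn x⁻¹)) hx
  have hg : g ∈ Cfsg.Agent.Lib.helper2.cjStab N (θ : N → ℂ) := by
    rw [hT]
    exact Subgroup.mem_top g
  have := congrFun ((Cfsg.Agent.Lib.helper2.mem_cjStab N _ g).mp hg) n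
  rw [cj_apply] at this
  exact this

end

section

variable {G : Type*} [Group G]

/-- an extendible member of the principal block of `N` extends to a member of the principal
block of `G = N C_G(P)` -/
theorem adp_ext_principal [Finite G] (p : ℕ) [hp : Fact p.Prime] (M : Ideal Cfsg.AlgInt)
    (hM : Cfsg.IsPModular p M) (N : Subgroup G) [hN : N.Normal] (P : Sylow p G)
    (hPN : (P : Subgroup G) ≤ N)
    (hsup : N ⊔ Subgroup.centralizer ((P : Subgroup G) : Set G) = ⊤)
    (θ : Cfsg.IrrCharacter N) (hθ : θ ∈ Cfsg.principalBlock M N)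
    (hext : ∃ ψ : Cfsg.IrrCharacter G, ∀ x : N, (ψ : G → ℂ) x = (θ : N → ℂ) x) :
    ∃ χ : Cfsg.IrrCharacter G, χ ∈ Cfsg.principalBlock M G ∧
      ∀ x : N, (χ : G → ℂ) x = (θ : N → ℂ) x := by
  have hcov : N ⊔ Subgroup.centralizer
      ((((P.subtype hPN : Sylow p N) : Subgroup N).map N.subtype : Subgroup G) : Set G) = ⊤ := by
    rw [Sylow.coe_subtype, Subgroup.map_subgroupOf_eq_of_le hPN]
    exact hsup
  obtain ⟨χ, h1, h2, -⟩ := rcc_main p M hM N (P.subtype hPN) hcov θ hθ hext
  exact ⟨χ, h1, h2⟩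

/-- the cyclic step -/
theorem adp_cyclic_step [Fintype G] (p : ℕ) [hp : Fact p.Prime] (M : Ideal Cfsg.AlgInt)
    (hM : Cfsg.IsPModular p M) (N : Subgroup G) [hN : N.Normal] [Fintype N] (P : Sylow p G)
    (hPN : (P : Subgroup G) ≤ N)
    (hsup : N ⊔ Subgroup.centralizer ((P : Subgroup G) : Set G) = ⊤)
    (hcyc : IsCyclic (G ⧸ N))
    (θ : Cfsg.IrrCharacter N) (hθ : θ ∈ Cfsg.principalBlock M N) :
    ∃ χ : Cfsg.IrrCharacter G, χ ∈ Cfsg.principalBlock M G ∧
      ∀ x : N, (χ : G → ℂ) x = (θ : N → ℂ) x := by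
  apply adp_ext_principal p M hM N P hPN hsup θ hθ
  have hinvθ := adp_invariant p M hM N P hsup θ hθ
  obtain ⟨d, ρ, hρ, hθρ⟩ := θ.2
  haveI := hρ
  have hinv : ∀ (g : G) (n : N), ρ.character (MulAut.conjNormal g n) = ρ.character n := by
    intro g n
    rw [h7_conjNormal_eq, hθρ]
    exact hinvθ g n
  obtain ⟨σ, hσ, hσN⟩ := h7_extend_cyclic N hcyc ρ hinv
  haveI := hσ
  refine ⟨⟨σ.character, isIrrCharacter_of_irreducible σ⟩, ?_⟩
  intro x
  change σ.character (x : G) = _
  rw [← hθρ]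
  unfold Representation.character
  rw [hσN]

/-- uniqueness: a member of the principal block of `G` lying over `θ` equals a given extension
of `θ` in the principal block -/
theorem adp_unique [Fintype G] (p : ℕ) [hp : Fact p.Prime] (M : Ideal Cfsg.AlgInt)
    (hM : Cfsg.IsPModular p M) (N : Subgroup G) [hN : N.Normal] [Fintype N]
    (hidx : ¬ p ∣ N.index) (P : Sylow p G)
    (hsup : N ⊔ Subgroup.centralizer ((P : Subgroup G) : Set G) = ⊤)
    (θ : Cfsg.IrrCharacter N) (χ₀ : Cfsg.IrrCharacter G) (hχ₀ : χ₀ ∈ Cfsg.principalBlock M G)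
    (hχ₀N : ∀ x : N, (χ₀ : G → ℂ) x = (θ : N → ℂ) x)
    (χ : Cfsg.IrrCharacter G) (hχ : χ ∈ Cfsg.principalBlock M G)
    (hcon : Cfsg.classInner (fun n : N => (χ : G → ℂ) n) (θ : N → ℂ) ≠ 0) : χ = χ₀ := by
  classical
  have hPr := hM.2.1.isPrime
  obtain ⟨β, hβN, hχβ⟩ := (gfo_gallagher N θ χ₀ hχ₀N).1 χ hcon
  have hβ1 : (β : G → ℂ) 1 ≠ 0 := irr_one_ne_zero β
  have hχ₀1 : (χ₀ : G → ℂ) 1 ≠ 0 := irr_one_ne_zero χ₀
  -- congruence on the centralizer
  have hC : ∀ c ∈ Subgroup.centralizer ((P : Subgroup G) : Set G),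
      Cfsg.MemLocalIdeal M (1 - (β : G → ℂ) c / (β : G → ℂ) 1) := by
    intro c hc
    have hk := adp_class_not_dvd p P c hc
    set k := (Subgroup.centralizer ({c} : Set G)).index with hkdef
    have h1 := hχ₀ c
    have h2 := hχ c
    have h3 := h7_memLocalRing_centralChar hPr β c
    unfold Cfsg.centralChar at h1 h2 h3
    rw [← hkdef] at h1 h2 h3
    set u := (χ₀ : G → ℂ) c / (χ₀ : G → ℂ) 1 with hu
    set v := (β : G → ℂ) c / (β : G → ℂ) 1 with hv
    have h1' : Cfsg.MemLocalIdeal M (1 - u) := by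
      apply rcc_cancel_nat hM k hk
      have : (k : ℂ) * (1 - u) = (k : ℂ) * 1 / 1 - (k : ℂ) * (χ₀ : G → ℂ) c / (χ₀ : G → ℂ) 1 := by
        rw [hu]
        ring
      rw [this]
      exact h1
    have h2' : Cfsg.MemLocalIdeal M (1 - u * v) := by
      apply rcc_cancel_nat hM k hk
      have : (k : ℂ) * (1 - u * v) =
          (k : ℂ) * 1 / 1 - (k : ℂ) * (χ : G → ℂ) c / (χ : G → ℂ) 1 := by
        rw [hu, hv, hχβ, Pi.mul_apply, Pi.mul_apply]
        field_simp
      rw [this]
      exact h2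
    have h3' : Cfsg.MemLocalRing M v := by
      apply rcc_cancel_nat_ring hM k hk
      have : (k : ℂ) * v = (k : ℂ) * (β : G → ℂ) c / (β : G → ℂ) 1 := by
        rw [hv]
        ring
      rw [this]
      exact h3
    have : 1 - v = (1 - u * v) - v * (1 - u) := by ring
    rw [this]
    exact h7_memLocalIdeal_sub hPr h2' (h7_memLocalIdeal_mul_left hPr h3' h1')
  -- all of G
  have hall : ∀ g : G, Cfsg.MemLocalIdeal M (1 - (β : G → ℂ) g / (β : G → ℂ) 1) := by
    intro g
    have hg : g ∈ ((N ⊔ Subgroup.centralizer ((P : Subgroup G) : Set G) : Subgroup G) : Set G) := by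
      rw [hsup]
      exact Set.mem_univ g
    rw [Subgroup.normal_mul] at hg
    obtain ⟨n, hn, c, hc, rfl⟩ := Set.mem_mul.mp hg
    rw [knb_ker_mul_left β n c (hβN n hn)]
    exact hC c hc
  have hβtriv : β = trivIrr G := by
    by_contra hne
    have hsum := fz_sum_eq_zero β hne
    haveI : Fintype (G ⧸ N) := Fintype.ofFinite _
    set F : G ⧸ N → ℂ := fun x => (β : G → ℂ) (Quotient.out x) with hF
    have hFmk : ∀ g : G, (β : G → ℂ) g = F (g : G ⧸ N) := by
      intro g
      have hmem : (Quotient.out (g : G ⧸ N) : G)⁻¹ * g ∈ N := by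
        rw [← QuotientGroup.eq]
        exact Quotient.out_eq' _
      have : g = (Quotient.out (g : G ⧸ N) : G) * ((Quotient.out (g : G ⧸ N) : G)⁻¹ * g) := by
        group
      rw [hF]
      conv_lhs => rw [this]
      exact irr_mul_of_ker β _ _ (hβN _ hmem)
    have h1 : ∑ g : G, (β : G → ℂ) g = (Nat.card N : ℂ) * ∑ x : G ⧸ N, F x := by
      rw [← sum_quotient_mk N F]
      exact Finset.sum_congr rfl fun g _ => hFmk g
    rw [hsum] at h1
    have hN0 : (Nat.card N : ℂ) ≠ 0 := by exact_mod_cast Nat.card_pos.ne'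
    have h2 : ∑ x : G ⧸ N, F x = 0 := by
      rcases mul_eq_zero.mp h1.symm with h | h
      · exact absurd h hN0
      · exact h
    have h3 : Cfsg.MemLocalIdeal M (∑ x : G ⧸ N, (1 - F x / (β : G → ℂ) 1)) := by
      apply h7_memLocalIdeal_sum hPr
      intro x _
      exact hall _
    rw [Finset.sum_sub_distrib, ← Finset.sum_div, h2, zero_div, sub_zero, Finset.sum_const,
      Finset.card_univ, nsmul_eq_mul, mul_one] at h3
    apply hidx
    have h4 := (h7_memLocalIdeal_natCast_iff hM _).mp h3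
    rw [Subgroup.index, Nat.card_eq_fintype_card]
    exact h4
  apply Subtype.ext
  rw [hχβ, hβtriv]
  funext g
  rw [Pi.mul_apply, trivIrr_apply, one_mul]

end

section

/-- a non-cyclic finite `q`-group has a nontrivial proper normal subgroup -/
theorem adp_exists_normal {Q : Type*} [Group Q] [Finite Q] (q : ℕ) [hq : Fact q.Prime]
    (hQ : IsPGroup q Q) (hnc : ¬ IsCyclic Q) :
    ∃ K : Subgroup Q, K.Normal ∧ K ≠ ⊥ ∧ K ≠ ⊤ := by
  haveI : Nontrivial Q := by
    by_contra h
    rw [not_nontrivial_iff_subsingleton] at h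
    exact hnc inferInstance
  haveI := hQ.center_nontrivial
  obtain ⟨z, hz⟩ := exists_ne (1 : Subgroup.center Q)
  refine ⟨Subgroup.zpowers (z : Q), ?_, ?_, ?_⟩
  · constructor
    intro x hx g
    have hxc : x ∈ Subgroup.center Q := by
      obtain ⟨k, rfl⟩ := hx
      exact Subgroup.zpow_mem _ z.2 k
    have : g * x * g⁻¹ = x := by
      rw [Subgroup.mem_center_iff] at hxc
      rw [hxc g, mul_inv_cancel_right]
    rw [this]
    exact hx
  · intro h
    apply hz
    have : (z : Q) ∈ Subgroup.zpowers (z : Q) := Subgroup.mem_zpowers _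
    rw [h, Subgroup.mem_bot] at this
    exact Subtype.ext this
  · intro h
    apply hnc
    exact isCyclic_iff_exists_zpowers_eq_top.mpr ⟨(z : Q), h⟩

/-- transport of a member of the principal block along a group isomorphism -/
theorem adp_tr_principal {A B : Type*} [Group A] [Group B] [Finite A] [Finite B]
    {M : Ideal Cfsg.AlgInt} (e : A ≃* B) (θ : Cfsg.IrrCharacter B)
    (hθ : θ ∈ Cfsg.principalBlock M B) : ef_tr e θ ∈ Cfsg.principalBlock M A :=
  ef_sameBlock_comp e (fun _ => (1 : ℂ)) (θ : B → ℂ) hθ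

universe u

/-- extension to the principal block when `G/N` is a `q`-group -/
theorem adp_qgroup_ext (p : ℕ) [hp : Fact p.Prime] (M : Ideal Cfsg.AlgInt)
    (hM : Cfsg.IsPModular p M) (q : ℕ) [hq : Fact q.Prime] :
    ∀ (n : ℕ) (G : Type u) [Group G] [Finite G] (N : Subgroup G) [N.Normal] (P : Sylow p G),
      N.index = n → (∃ k : ℕ, N.index = q ^ k) → (P : Subgroup G) ≤ N →
      N ⊔ Subgroup.centralizer ((P : Subgroup G) : Set G) = ⊤ →
      ∀ θ : Cfsg.IrrCharacter N, θ ∈ Cfsg.principalBlock M N →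
        ∃ χ : Cfsg.IrrCharacter G, χ ∈ Cfsg.principalBlock M G ∧
          ∀ x : N, (χ : G → ℂ) x = (θ : N → ℂ) x := by
  intro n
  induction n using Nat.strong_induction_on with
  | _ n ih =>
    intro G _ _ N hN P hn hk hPN hsup θ hθ
    classical
    haveI : Fintype G := Fintype.ofFinite G
    by_cases hcyc : IsCyclic (G ⧸ N)
    · exact adp_cyclic_step p M hM N P hPN hsup hcyc θ hθ
    · obtain ⟨k, hk⟩ := hk
      have hQ : IsPGroup q (G ⧸ N) := IsPGroup.of_card (n := k) (by rw [← hk]; rfl)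
      obtain ⟨K, hKn, hKbot, hKtop⟩ := adp_exists_normal q hQ hcyc
      haveI := hKn
      set N₁ : Subgroup G := K.comap (QuotientGroup.mk' N) with hN₁
      haveI hN₁n : N₁.Normal := Subgroup.Normal.comap hKn _
      have hNN₁ : N ≤ N₁ := by
        intro x hx
        rw [hN₁, Subgroup.mem_comap]
        have : (QuotientGroup.mk' N) x = 1 := (QuotientGroup.eq_one_iff x).mpr hx
        rw [this]
        exact K.one_mem
      have hidx₁ : N₁.index = K.index :=
        Subgroup.index_comap_of_surjective K (QuotientGroup.mk'_surjective N)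
      have hK1 : K.index ≠ 1 := by
        intro h
        exact hKtop (Subgroup.index_eq_one.mp h)
      have hKcard : Nat.card K ≠ 1 := by
        intro h
        exact hKbot (Subgroup.card_eq_one.mp h)
      have hmul : K.index * Nat.card K = N.index := by
        rw [Subgroup.index_mul_card]
        rfl
      have hrel : N.relIndex N₁ * N₁.index = N.index := Subgroup.relIndex_mul_index hNN₁
      have hN₁pos : 0 < N₁.index := Nat.pos_of_ne_zero Subgroup.index_ne_zero_of_finite
      have hNpos : 0 < N.index := Nat.pos_of_ne_zero Subgroup.index_ne_zero_of_finite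
      have hKpos : 0 < Nat.card K := Nat.card_pos
      have hlt₁ : N₁.index < n := by
        rw [← hn, ← hmul, hidx₁]
        have : 2 ≤ Nat.card K := by omega
        have hKi : 0 < K.index := by rw [← hidx₁]; exact hN₁pos
        nlinarith
      have hrelpos : 0 < N.relIndex N₁ := by
        rcases Nat.eq_zero_or_pos (N.relIndex N₁) with h | h
        · rw [h, zero_mul] at hrel
          omega
        · exact h
      have hlt₂ : N.relIndex N₁ < n := by
        rw [← hn, ← hrel]
        have : 2 ≤ N₁.index := by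
          rw [hidx₁]
          have hKi : 0 < K.index := by rw [← hidx₁]; exact hN₁pos
          omega
        nlinarith
      have hk₁ : ∃ j : ℕ, N₁.index = q ^ j := by
        have : N₁.index ∣ q ^ k := by
          rw [← hk, ← hrel]
          exact dvd_mul_left _ _
        obtain ⟨j, -, hj⟩ := (Nat.dvd_prime_pow hq.out).mp this
        exact ⟨j, hj⟩
      have hk₂ : ∃ j : ℕ, N.relIndex N₁ = q ^ j := by
        have : N.relIndex N₁ ∣ q ^ k := by
          rw [← hk, ← hrel]
          exact dvd_mul_right _ _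
        obtain ⟨j, -, hj⟩ := (Nat.dvd_prime_pow hq.out).mp this
        exact ⟨j, hj⟩
      have hPN₁ : (P : Subgroup G) ≤ N₁ := hPN.trans hNN₁
      -- step 1: extend to N₁
      set N' : Subgroup N₁ := N.subgroupOf N₁ with hN'
      haveI hN'n : N'.Normal := Subgroup.Normal.subgroupOf hN N₁
      set e : N' ≃* N := Subgroup.subgroupOfEquivOfLe hNN₁ with he
      have hθ' : ef_tr e θ ∈ Cfsg.principalBlock M N' := adp_tr_principal e θ hθ
      have hP' : ((P.subtype hPN₁ : Sylow p N₁) : Subgroup N₁) ≤ N' := by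
        rw [Sylow.coe_subtype]
        intro x hx
        rw [Subgroup.mem_subgroupOf] at hx ⊢
        exact hPN hx
      have hsup' : N' ⊔ Subgroup.centralizer
          (((P.subtype hPN₁ : Sylow p N₁) : Subgroup N₁) : Set N₁) = ⊤ := by
        rw [eq_top_iff]
        intro x _
        have hx : (x : G) ∈ ((N ⊔ Subgroup.centralizer ((P : Subgroup G) : Set G) :
            Subgroup G) : Set G) := by
          rw [hsup]
          exact Set.mem_univ _
        rw [Subgroup.normal_mul] at hx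
        obtain ⟨a, ha, c, hc, hac⟩ := Set.mem_mul.mp hx
        have hcN₁ : c ∈ N₁ := by
          have : c = a⁻¹ * (x : G) := by rw [← hac]; group
          rw [this]
          exact N₁.mul_mem (N₁.inv_mem (hNN₁ ha)) x.2
        have hx' : x = (⟨a, hNN₁ ha⟩ : N₁) * (⟨c, hcN₁⟩ : N₁) := Subtype.ext hac.symm
        rw [hx']
        apply Subgroup.mul_mem_sup
        · rw [hN', Subgroup.mem_subgroupOf]
          exact ha
        · rw [Subgroup.mem_centralizer_iff]
          intro y hy
          rw [SetLike.mem_coe, Sylow.coe_subtype, Subgroup.mem_subgroupOf] at hy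
          apply Subtype.ext
          exact Subgroup.mem_centralizer_iff.mp hc (y : G) hy
      obtain ⟨χ₁, hχ₁, hχ₁N⟩ := ih (N.relIndex N₁) hlt₂ N₁ N' (P.subtype hPN₁) rfl hk₂ hP'
        hsup' (ef_tr e θ) hθ'
      -- step 2: extend to G
      have hsup₁ : N₁ ⊔ Subgroup.centralizer ((P : Subgroup G) : Set G) = ⊤ := by
        rw [eq_top_iff, ← hsup]
        exact sup_le_sup_right hNN₁ _
      obtain ⟨χ, hχ, hχN⟩ := ih N₁.index hlt₁ G N₁ P rfl hk₁ hPN₁ hsup₁ χ₁ hχ₁
      refine ⟨χ, hχ, ?_⟩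
      intro x
      have h1 := hχN ⟨(x : G), hNN₁ x.2⟩
      have h2 := hχ₁N ⟨⟨(x : G), hNN₁ x.2⟩, by rw [hN', Subgroup.mem_subgroupOf]; exact x.2⟩
      rw [ef_tr_apply] at h2
      have h3 : e ⟨⟨(x : G), hNN₁ x.2⟩, by rw [hN', Subgroup.mem_subgroupOf]; exact x.2⟩ = x := by
        apply Subtype.ext
        rfl
      rw [h3] at h2
      exact h1.trans h2

end

section

variable {G : Type*} [Group G]

/-- Dedekind: the supplement condition passes to intermediate subgroups -/
theorem adp_sub_sup {p : ℕ} [hp : Fact p.Prime] (N N₁ : Subgroup G) [hN : N.Normal]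
    (hNN₁ : N ≤ N₁) (P : Sylow p G) (hPN₁ : (P : Subgroup G) ≤ N₁)
    (hsup : N ⊔ Subgroup.centralizer ((P : Subgroup G) : Set G) = ⊤) :
    N.subgroupOf N₁ ⊔ Subgroup.centralizer
      (((P.subtype hPN₁ : Sylow p N₁) : Subgroup N₁) : Set N₁) = ⊤ := by
  rw [eq_top_iff]
  intro x _
  have hx : (x : G) ∈ ((N ⊔ Subgroup.centralizer ((P : Subgroup G) : Set G) :
      Subgroup G) : Set G) := by
    rw [hsup]
    exact Set.mem_univ _
  rw [Subgroup.normal_mul] at hx
  obtain ⟨a, ha, c, hc, hac⟩ := Set.mem_mul.mp hx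
  have hcN₁ : c ∈ N₁ := by
    have : c = a⁻¹ * (x : G) := by rw [← hac]; group
    rw [this]
    exact N₁.mul_mem (N₁.inv_mem (hNN₁ ha)) x.2
  have hx' : x = (⟨a, hNN₁ ha⟩ : N₁) * (⟨c, hcN₁⟩ : N₁) := Subtype.ext hac.symm
  rw [hx']
  apply Subgroup.mul_mem_sup
  · rw [Subgroup.mem_subgroupOf]
    exact ha
  · rw [Subgroup.mem_centralizer_iff]
    intro y hy
    rw [SetLike.mem_coe, Sylow.coe_subtype, Subgroup.mem_subgroupOf] at hy
    apply Subtype.ext
    exact Subgroup.mem_centralizer_iff.mp hc (y : G) hy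

/-- extension to an intermediate subgroup `Q` with `Q/N` a `q`-group -/
theorem adp_qgroup_sub [Finite G] (p : ℕ) [hp : Fact p.Prime] (M : Ideal Cfsg.AlgInt)
    (hM : Cfsg.IsPModular p M) (q : ℕ) [hq : Fact q.Prime] (N Q : Subgroup G) [hN : N.Normal]
    (hNQ : N ≤ Q) (hk : ∃ k : ℕ, N.relIndex Q = q ^ k) (P : Sylow p G)
    (hPN : (P : Subgroup G) ≤ N)
    (hsup : N ⊔ Subgroup.centralizer ((P : Subgroup G) : Set G) = ⊤)
    (θ : Cfsg.IrrCharacter N) (hθ : θ ∈ Cfsg.principalBlock M N) :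
    ∃ χ : Cfsg.IrrCharacter Q, ∀ x : N, (χ : Q → ℂ) ⟨(x : G), hNQ x.2⟩ = (θ : N → ℂ) x := by
  have hPQ : (P : Subgroup G) ≤ Q := hPN.trans hNQ
  haveI hN'n : (N.subgroupOf Q).Normal := Subgroup.Normal.subgroupOf hN Q
  set e : N.subgroupOf Q ≃* N := Subgroup.subgroupOfEquivOfLe hNQ with he
  have hθ' : ef_tr e θ ∈ Cfsg.principalBlock M (N.subgroupOf Q) := adp_tr_principal e θ hθ
  have hP' : ((P.subtype hPQ : Sylow p Q) : Subgroup Q) ≤ N.subgroupOf Q := by
    rw [Sylow.coe_subtype]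
    intro x hx
    rw [Subgroup.mem_subgroupOf] at hx ⊢
    exact hPN hx
  obtain ⟨χ, -, hχN⟩ := adp_qgroup_ext p M hM q (N.relIndex Q) Q (N.subgroupOf Q)
    (P.subtype hPQ) rfl hk hP' (adp_sub_sup N Q hNQ P hPQ hsup) (ef_tr e θ) hθ'
  refine ⟨χ, ?_⟩
  intro x
  have h2 := hχN ⟨⟨(x : G), hNQ x.2⟩, by rw [Subgroup.mem_subgroupOf]; exact x.2⟩
  rw [ef_tr_apply] at h2
  have h3 : e ⟨⟨(x : G), hNQ x.2⟩, by rw [Subgroup.mem_subgroupOf]; exact x.2⟩ = x := by
    apply Subtype.ext
    rfl
  rw [h3] at h2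
  exact h2

/-- every member of the principal block of `N` extends to a member of the principal block
of `G` -/
theorem adp_ext_all [Finite G] (p : ℕ) [hp : Fact p.Prime] (M : Ideal Cfsg.AlgInt)
    (hM : Cfsg.IsPModular p M) (N : Subgroup G) [hN : N.Normal] (hidx : ¬ p ∣ N.index)
    (P : Sylow p G) (hsup : N ⊔ Subgroup.centralizer ((P : Subgroup G) : Set G) = ⊤)
    (θ : Cfsg.IrrCharacter N) (hθ : θ ∈ Cfsg.principalBlock M N) :
    ∃ χ : Cfsg.IrrCharacter G, χ ∈ Cfsg.principalBlock M G ∧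
      ∀ x : N, (χ : G → ℂ) x = (θ : N → ℂ) x := by
  classical
  haveI : Fintype G := Fintype.ofFinite G
  have hPN : (P : Subgroup G) ≤ N := sylow_le_of_normal_of_not_dvd_index N hidx P
  apply adp_ext_principal p M hM N P hPN hsup θ hθ
  have hinvθ := adp_invariant p M hM N P hsup θ hθ
  obtain ⟨d, ρ, hρ, hθρ⟩ := θ.2
  haveI := hρ
  have hinv : ∀ (g : G) (n : N), ρ.character (MulAut.conjNormal g n) = ρ.character n := by
    intro g n
    rw [h7_conjNormal_eq, hθρ]
    exact hinvθ g n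
  have hsyl : ∀ q : ℕ, q.Prime → ∃ Pq : Subgroup G, N ≤ Pq ∧ Nat.Coprime Pq.index q ∧
      ∃ S : G → (Module.End ℂ (Fin d → ℂ))ˣ, (∀ x ∈ Pq, ∀ y ∈ Pq, S (x * y) = S x * S y) ∧
        ∀ n : N, S (n : G) = ρ.asGroupHom n := by
    intro q hqp
    haveI : Fact q.Prime := ⟨hqp⟩
    obtain ⟨S⟩ : Nonempty (Sylow q (G ⧸ N)) := inferInstance
    set Q : Subgroup G := (S : Subgroup (G ⧸ N)).comap (QuotientGroup.mk' N) with hQ
    have hNQ : N ≤ Q := by
      intro x hx
      rw [hQ, Subgroup.mem_comap]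
      have : (QuotientGroup.mk' N) x = 1 := (QuotientGroup.eq_one_iff x).mpr hx
      rw [this]
      exact Subgroup.one_mem _
    have hidxQ : Q.index = (S : Subgroup (G ⧸ N)).index :=
      Subgroup.index_comap_of_surjective _ (QuotientGroup.mk'_surjective N)
    have hcop : Nat.Coprime Q.index q := by
      rw [hidxQ]
      exact ((Nat.Prime.coprime_iff_not_dvd hqp).mpr S.not_dvd_index).symm
    have hrel : N.relIndex Q * Q.index = N.index := Subgroup.relIndex_mul_index hNQ
    have hmul : (S : Subgroup (G ⧸ N)).index * Nat.card (S : Subgroup (G ⧸ N)) = N.index := by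
      rw [Subgroup.index_mul_card]
      rfl
    have hQpos : 0 < Q.index := Nat.pos_of_ne_zero Subgroup.index_ne_zero_of_finite
    have hrelS : N.relIndex Q = Nat.card (S : Subgroup (G ⧸ N)) := by
      apply Nat.eq_of_mul_eq_mul_right hQpos
      rw [hrel, ← hmul, hidxQ, mul_comm]
    have hk : ∃ k : ℕ, N.relIndex Q = q ^ k := by
      rw [hrelS]
      exact IsPGroup.iff_card.mp S.isPGroup'
    obtain ⟨χq, hχq⟩ := adp_qgroup_sub p M hM q N Q hNQ hk P hPN hsup θ hθ
    obtain ⟨d', τ, hτ, hχτ⟩ := χq.2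
    refine ⟨Q, hNQ, hcop, ?_⟩
    apply h7_S_of_char N Q hNQ ρ τ
    intro n
    rw [hχτ, hθρ]
    exact hχq n
  obtain ⟨σ, hσ, hσN⟩ := h7_extend_of_coprime_indices N ρ hinv hsyl
  haveI := hσ
  refine ⟨⟨σ.character, isIrrCharacter_of_irreducible σ⟩, ?_⟩
  intro x
  change σ.character (x : G) = _
  rw [← hθρ]
  unfold Representation.character
  rw [hσN]

/-- Alperin–Dade: restriction is a bijection between principal blocks -/
theorem adp_main [Finite G] (p : ℕ) [hp : Fact p.Prime] (M : Ideal Cfsg.AlgInt)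
    (hM : Cfsg.IsPModular p M) (N : Subgroup G) [hN : N.Normal] (hidx : ¬ p ∣ N.index)
    (P : Sylow p G) (hsup : N ⊔ Subgroup.centralizer ((P : Subgroup G) : Set G) = ⊤) :
    (∀ χ ∈ Cfsg.principalBlock M G, ∃ θ ∈ Cfsg.principalBlock M N,
      ∀ n : N, (χ : G → ℂ) n = (θ : N → ℂ) n) ∧
    ∀ θ ∈ Cfsg.principalBlock M N, ∃! χ : Cfsg.IrrCharacter G,
      χ ∈ Cfsg.principalBlock M G ∧ ∀ n : N, (χ : G → ℂ) n = (θ : N → ℂ) n := by
  classical
  haveI : Fintype G := Fintype.ofFinite G
  have hPr := hM.2.1.isPrime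
  constructor
  · intro χ hχ
    -- a constituent of the restriction
    have hres : Cfsg.IsCharacter N (fun n : N => (χ : G → ℂ) n) :=
      isCharacter_restrict (isCharacter_of_irr χ) N
    obtain ⟨ψ, m, hm, hψm⟩ := isCharacter_exists_constituent hres (irr_one_ne_zero χ)
    have hψ : Cfsg.classInner (fun n : N => (χ : G → ℂ) n) (ψ : N → ℂ) ≠ 0 := by
      rw [hψm]
      exact_mod_cast hm.ne'
    have hcon1 : Cfsg.classInner (fun n : N => (trivIrr G : G → ℂ) n) (trivIrr N : N → ℂ) ≠ 0 := by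
      unfold Cfsg.classInner
      simp only [trivIrr_apply, map_one, mul_one, Finset.sum_const, Finset.card_univ,
        nsmul_eq_mul]
      rw [Nat.card_eq_fintype_card]
      have : (Fintype.card N : ℂ) ≠ 0 := by exact_mod_cast Fintype.card_ne_zero
      rw [inv_mul_cancel₀ this]
      exact one_ne_zero
    obtain ⟨g, θ', hθ', hψθ'⟩ := Cfsg.Agent.S0964.result p M hM N _ (adp_principal_isPBlock M G) _
      (adp_principal_isPBlock M N) (trivIrr G) (adp_triv_mem hPr G) (trivIrr N)
      (adp_triv_mem hPr N) hcon1 χ hχ ψ hψ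
    have hψeq : ψ = θ' := by
      apply Subtype.ext
      funext n
      rw [hψθ' n]
      exact adp_invariant p M hM N P hsup θ' hθ' g n
    rw [hψeq] at hψ
    obtain ⟨χ₀, hχ₀, hχ₀N⟩ := adp_ext_all p M hM N hidx P hsup θ' hθ'
    have := adp_unique p M hM N hidx P hsup θ' χ₀ hχ₀ hχ₀N χ hχ hψ
    refine ⟨θ', hθ', ?_⟩
    rw [this]
    exact hχ₀N
  · intro θ hθ
    obtain ⟨χ₀, hχ₀, hχ₀N⟩ := adp_ext_all p M hM N hidx P hsup θ hθ
    refine ⟨χ₀, ⟨hχ₀, hχ₀N⟩, ?_⟩
    rintro χ ⟨hχ, hχN⟩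
    apply adp_unique p M hM N hidx P hsup θ χ₀ hχ₀ hχ₀N χ hχ
    have : (fun n : N => (χ : G → ℂ) n) = (θ : N → ℂ) := funext hχN
    rw [this, irr_classInner, if_pos rfl]
    exact one_ne_zero

end

end Cfsg.Agent.Lib.Helper25
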