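import Mathlib
import Cfsg.Agent.Lib.Helper27.AltFus.Defs
import Cfsg.Agent.Lib.helper3.AltFusE0

set_option autoImplicit false

/-! Project AltFus (S5165), piece E2 : `W2` is generated by double transpositions (helper25). -/

namespace Cfsg.Agent.Lib.Helper25.AltFus

open Cfsg.Agent.Lib.Helper27.AltFus Cfsg.Agent.Lib.helper3.AltFus Equiv

/-- a permutation exchanging `a` and `b` and fixing everything else is the swap -/
theorem eq_swap_of {X : Type*} [DecidableEq X] (f : Perm X) (a b : X) (hab : f a = b)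
    (hba : f b = a) (hfix : ∀ q, q ≠ a → q ≠ b → f q = q) : f = swap a b := by
  ext q
  by_cases h1 : q = a
  · subst h1; rw [hab, swap_apply_left]
  · by_cases h2 : q = b
    · subst h2; rw [hba, swap_apply_right]
    · rw [hfix q h1 h2, swap_apply_of_ne_of_ne h1 h2]

theorem cycleType_swap_mul_swap {X : Type*} [DecidableEq X] [Fintype X] {a b c d : X}
    (hab : a ≠ b) (hcd : c ≠ d) (hac : a ≠ c) (had : a ≠ d) (hbc : b ≠ c) (hbd : b ≠ d) :
    (swap a b * swap c d).cycleType = {2, 2} := by
  have hdis : Perm.Disjoint (swap a b) (swap c d) := by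
    rw [Perm.disjoint_iff_disjoint_support, Perm.support_swap hab, Perm.support_swap hcd]
    simp only [Finset.disjoint_insert_right, Finset.disjoint_singleton_right, Finset.mem_insert,
      Finset.mem_singleton, not_or]
    exact ⟨⟨hac.symm, hbc.symm⟩, had.symm, hbd.symm⟩
  rw [Perm.Disjoint.cycleType_mul hdis, (Perm.isCycle_swap hab).cycleType,
    (Perm.isCycle_swap hcd).cycleType, Perm.card_support_swap hab, Perm.card_support_swap hcd]
  rfl

variable (k s1 r : ℕ)

/-- indices of the transpositions of `DD` : the `2`-blocks inside the `4`-blocks, and the `2`-blocks -/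
abbrev TI := (Fin k × ZMod 2) ⊕ Fin s1

/-- the two points of the `2`-block `t` -/
def pt (t : TI k s1) (x : ZMod 2) : Mdl2 k s1 r :=
  match t with
  | Sum.inl (j, u) => Sum.inl (j, (u, x))
  | Sum.inr i => Sum.inr (Sum.inl (i, x))

/-- the product of the transpositions `t` with `c t = 1` -/
def DT (c : TI k s1 → ZMod 2) : Perm (Mdl2 k s1 r) :=
  dd k s1 r 0 (fun j u => c (Sum.inl (j, u))) (fun i => c (Sum.inr i))

theorem DT_apply_pt (c : TI k s1 → ZMod 2) (t : TI k s1) (x : ZMod 2) :
    DT k s1 r c (pt k s1 r t x) = pt k s1 r t (x + c t) := by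
  rcases t with ⟨j, u⟩ | i
  · show dd k s1 r 0 _ _ (Sum.inl (j, (u, x))) = Sum.inl (j, (u, x + c (Sum.inl (j, u))))
    rw [dd_apply_inl]
    simp
  · show dd k s1 r 0 _ _ (Sum.inr (Sum.inl (i, x))) = Sum.inr (Sum.inl (i, x + c (Sum.inr i)))
    rw [dd_apply_inr_inl]

theorem DT_apply_fix (c : TI k s1 → ZMod 2) (t : Fin r) :
    DT k s1 r c (Sum.inr (Sum.inr t)) = Sum.inr (Sum.inr t) := rfl

theorem pt_or (q : Mdl2 k s1 r) : (∃ t x, q = pt k s1 r t x) ∨ ∃ t : Fin r, q = Sum.inr (Sum.inr t) := by
  rcases q with ⟨j, u, x⟩ | ⟨i, x⟩ | t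
  · exact Or.inl ⟨Sum.inl (j, u), x, rfl⟩
  · exact Or.inl ⟨Sum.inr i, x, rfl⟩
  · exact Or.inr ⟨t, rfl⟩

theorem pt_inj {t t' : TI k s1} {x x' : ZMod 2} (h : pt k s1 r t x = pt k s1 r t' x') :
    t = t' ∧ x = x' := by
  rcases t with ⟨j, u⟩ | i <;> rcases t' with ⟨j', u'⟩ | i'
  · simp only [pt, Sum.inl.injEq, Prod.mk.injEq] at h
    obtain ⟨rfl, rfl, rfl⟩ := h
    exact ⟨rfl, rfl⟩
  · simp [pt] at h
  · simp [pt] at h
  · simp only [pt, Sum.inr.injEq, Sum.inl.injEq, Prod.mk.injEq] at h
    obtain ⟨rfl, rfl⟩ := h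
    exact ⟨rfl, rfl⟩

theorem pt_ne_fix (t : TI k s1) (x : ZMod 2) (t' : Fin r) :
    pt k s1 r t x ≠ Sum.inr (Sum.inr t') := by
  rcases t with ⟨j, u⟩ | i <;> simp [pt]

theorem DT_mul (c c' : TI k s1 → ZMod 2) : DT k s1 r c * DT k s1 r c' = DT k s1 r (c' + c) := by
  unfold DT
  rw [dd_mul]
  refine dd_ext k s1 r ?_ ?_ ?_
  · funext j; simp
  · funext j u; simp
  · funext i; simp

theorem DT_zero : DT k s1 r 0 = 1 := by
  unfold DT
  exact dd_zero k s1 r

theorem DT_single (t : TI k s1) :
    DT k s1 r (Pi.single t 1) = swap (pt k s1 r t 0) (pt k s1 r t 1) := by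
  apply eq_swap_of
  · rw [DT_apply_pt, Pi.single_eq_same, zero_add]
  · rw [DT_apply_pt, Pi.single_eq_same]
    congr 1
  · intro q h0 h1
    rcases pt_or k s1 r q with ⟨t', x, rfl⟩ | ⟨t', rfl⟩
    · rw [DT_apply_pt]
      by_cases ht : t' = t
      · subst ht
        exfalso
        rcases zmod2_cases x with rfl | rfl
        · exact h0 rfl
        · exact h1 rfl
      · rw [Pi.single_eq_of_ne ht, add_zero]
    · rfl

theorem zmod2_zero_ne_one : (0 : ZMod 2) ≠ 1 := by decide

theorem cycleType_DT_pair {t t' : TI k s1} (h : t ≠ t') :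
    (DT k s1 r (Pi.single t 1 + Pi.single t' 1)).cycleType = {2, 2} := by
  rw [← DT_mul, DT_single, DT_single]
  apply cycleType_swap_mul_swap
  · intro h1; exact zmod2_zero_ne_one (pt_inj k s1 r h1).2
  · intro h1; exact zmod2_zero_ne_one (pt_inj k s1 r h1).2
  · intro h1; exact h (pt_inj k s1 r h1).1.symm
  · intro h1; exact h (pt_inj k s1 r h1).1.symm
  · intro h1; exact h (pt_inj k s1 r h1).1.symm
  · intro h1; exact h (pt_inj k s1 r h1).1.symm

theorem sum_TI (c : TI k s1 → ZMod 2) :
    (∑ j : Fin k, (c (Sum.inl (j, 0)) + c (Sum.inl (j, 1)))) + ∑ i : Fin s1, c (Sum.inr i) =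
      ∑ t, c t := by
  rw [Fintype.sum_sum_type, Fintype.sum_prod_type]
  congr 1
  refine Finset.sum_congr rfl (fun j _ => ?_)
  exact (Fin.sum_univ_two (fun y : ZMod 2 => c (Sum.inl (j, y)))).symm

theorem DT_mem_W2 (c : TI k s1 → ZMod 2) (hc : ∑ t, c t = 0) : DT k s1 r c ∈ W2 k s1 r := by
  refine Subgroup.mem_inf.mpr ⟨dd_mem_DD k s1 r _ _ _, (sign_dd k s1 r _ _ _).mpr ?_⟩
  rw [sum_TI k s1 (c := c)]
  exact hc

/-- the set of double transpositions of `W2` -/
def dtr : Set (Perm (Mdl2 k s1 r)) := {x | x ∈ W2 k s1 r ∧ x.cycleType = {2, 2}}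

theorem DT_pair_mem {t t' : TI k s1} (h : t ≠ t') :
    DT k s1 r (Pi.single t 1 + Pi.single t' 1) ∈ Subgroup.closure (dtr k s1 r) := by
  apply Subgroup.subset_closure
  refine ⟨DT_mem_W2 k s1 r _ ?_, cycleType_DT_pair k s1 r h⟩
  simp only [Pi.add_apply]
  rw [Finset.sum_add_distrib]
  simp only [Pi.single_apply, Finset.sum_ite_eq', Finset.mem_univ, if_true]
  decide

/-- the even products of transpositions are products of double transpositions -/
theorem DT_mem_closure (t₀ : TI k s1) (c : TI k s1 → ZMod 2) :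
    DT k s1 r (c + Pi.single t₀ (∑ t, c t)) ∈ Subgroup.closure (dtr k s1 r) := by
  have key : ∀ s : Finset (TI k s1), ∀ c : TI k s1 → ZMod 2, (∀ t, t ∉ s → c t = 0) →
      DT k s1 r (c + Pi.single t₀ (∑ t, c t)) ∈ Subgroup.closure (dtr k s1 r) := by
    intro s
    induction s using Finset.induction_on with
    | empty =>
      intro c h
      have : c = 0 := by funext t; exact h t (Finset.notMem_empty t)
      rw [this]
      simp only [Pi.zero_apply, Finset.sum_const_zero, Pi.single_zero, add_zero]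
      rw [DT_zero]
      exact Subgroup.one_mem _
    | insert a s ha ih =>
      intro c h
      have e : c = Function.update c a 0 + Pi.single a (c a) := by
        funext t
        by_cases ht : t = a
        · subst ht; simp
        · simp [ht]
      have hsum : ∑ t, c t = (∑ t, Function.update c a 0 t) + c a := by
        conv_lhs => rw [e]
        simp only [Pi.add_apply]
        rw [Finset.sum_add_distrib]
        congr 1
        simp [Pi.single_apply]
      have e2 : c + Pi.single t₀ (∑ t, c t) =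
          (Pi.single a (c a) + Pi.single t₀ (c a)) +
            (Function.update c a 0 + Pi.single t₀ (∑ t, Function.update c a 0 t)) := by
        rw [hsum, Pi.single_add]
        nth_rewrite 1 [e]
        abel
      rw [e2, ← DT_mul]
      refine Subgroup.mul_mem _ (ih _ ?_) ?_
      · intro t ht
        by_cases hta : t = a
        · subst hta; simp
        · rw [Function.update_of_ne hta]
          exact h t (by simp [hta, ht])
      · rcases zmod2_cases (c a) with h0 | h1
        · rw [h0, Pi.single_zero, Pi.single_zero, add_zero, DT_zero]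
          exact Subgroup.one_mem _
        · rw [h1]
          by_cases hat : a = t₀
          · subst hat
            have : (Pi.single a (1 : ZMod 2) + Pi.single a 1 : TI k s1 → ZMod 2) = 0 := by
              funext t; exact zmod2_add_self _
            rw [this, DT_zero]
            exact Subgroup.one_mem _
          · exact DT_pair_mem k s1 r hat
  exact key Finset.univ c (fun t ht => absurd (Finset.mem_univ t) ht)

/-- the swap of the two `2`-blocks of the `4`-block `j` is a double transposition -/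
theorem tA_eq (j : Fin k) :
    dd k s1 r (Pi.single j 1) 0 0 =
      swap (Sum.inl (j, ((0 : ZMod 2), (0 : ZMod 2)))) (Sum.inl (j, ((1 : ZMod 2), (0 : ZMod 2)))) *
        swap (Sum.inl (j, ((0 : ZMod 2), (1 : ZMod 2)))) (Sum.inl (j, ((1 : ZMod 2), (1 : ZMod 2)))) := by
  ext q
  rcases q with ⟨j', u, x⟩ | ⟨i, x⟩ | t
  · rw [dd_apply_inl, Perm.mul_apply]
    by_cases hj : j' = j
    · subst hj
      rcases zmod2_cases u with rfl | rfl <;> rcases zmod2_cases x with rfl | rfl <;>
        simp [swap_apply_def] <;> decide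
    · have h1 : ∀ (a b : ZMod 2), (Sum.inl (j', (u, x)) : Mdl2 k s1 r) ≠ Sum.inl (j, (a, b)) := by
        intro a b h
        simp only [Sum.inl.injEq, Prod.mk.injEq] at h
        exact hj h.1
      rw [swap_apply_of_ne_of_ne (h1 _ _) (h1 _ _), swap_apply_of_ne_of_ne (h1 _ _) (h1 _ _)]
      simp [hj]
  · rw [dd_apply_inr_inl, Perm.mul_apply]
    simp [swap_apply_def]
  · rw [dd_apply_inr_inr, Perm.mul_apply]
    simp [swap_apply_def]

theorem tA_mem_dtr (j : Fin k) : dd k s1 r (Pi.single j 1) 0 0 ∈ dtr k s1 r := by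
  refine ⟨Subgroup.mem_inf.mpr ⟨dd_mem_DD k s1 r _ _ _, (sign_dd k s1 r _ _ _).mpr (by simp)⟩, ?_⟩
  rw [tA_eq]
  apply cycleType_swap_mul_swap <;> simp

theorem dd_eps_mem_closure (ε : Fin k → ZMod 2) :
    dd k s1 r ε 0 0 ∈ Subgroup.closure (dtr k s1 r) := by
  have key : ∀ s : Finset (Fin k), ∀ ε : Fin k → ZMod 2, (∀ j, j ∉ s → ε j = 0) →
      dd k s1 r ε 0 0 ∈ Subgroup.closure (dtr k s1 r) := by
    intro s
    induction s using Finset.induction_on with
    | empty =>
      intro ε h
      have : ε = 0 := by funext j; exact h j (Finset.notMem_empty j)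
      rw [this, dd_zero]; exact Subgroup.one_mem _
    | insert a s ha ih =>
      intro ε h
      have e : ε = Function.update ε a 0 + Pi.single a (ε a) := by
        funext j
        by_cases hj : j = a
        · subst hj; simp
        · simp [hj]
      rw [e, dd_eps_add]
      refine Subgroup.mul_mem _ (ih _ ?_) ?_
      · intro j hj
        by_cases hja : j = a
        · subst hja; simp
        · rw [Function.update_of_ne hja]
          exact h j (by simp [hja, hj])
      · rcases zmod2_cases (ε a) with h0 | h1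
        · rw [h0, Pi.single_zero, dd_zero]; exact Subgroup.one_mem _
        · rw [h1]; exact Subgroup.subset_closure (tA_mem_dtr k s1 r a)
  exact key Finset.univ ε (fun j hj => absurd (Finset.mem_univ j) hj)

theorem W2_le_closure_dtrans (hk : 1 ≤ k) :
    W2 k s1 r ≤ Subgroup.closure {x | x ∈ W2 k s1 r ∧ x.cycleType = {2, 2}} := by
  intro g hg
  obtain ⟨hgD, hgA⟩ := Subgroup.mem_inf.mp hg
  obtain ⟨ε, δ, η, rfl⟩ := (mem_DD_iff k s1 r g).mp hgD
  have hsign := (sign_dd k s1 r ε δ η).mp hgA
  let c : TI k s1 → ZMod 2 := Sum.elim (fun q => δ q.1 q.2) η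
  have hc : ∑ t, c t = 0 := by
    rw [← sum_TI]
    exact hsign
  have h1 : dd k s1 r ε δ η = dd k s1 r ε 0 0 * DT k s1 r c := by
    unfold DT
    rw [dd_mul]
    refine dd_ext k s1 r ?_ ?_ ?_
    · funext j; simp
    · funext j u; simp [c]
    · funext i; simp [c]
  rw [h1]
  refine Subgroup.mul_mem _ (dd_eps_mem_closure k s1 r ε) ?_
  have h2 := DT_mem_closure k s1 r (Sum.inl (⟨0, hk⟩, 0)) c
  rw [hc, Pi.single_zero, add_zero] at h2
  exact h2

end Cfsg.Agent.Lib.Helper25.AltFus
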