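import Mathlib
import Cfsg.Agent.S0732
import Cfsg.Agent.S0253

/-!
Piece M6 of helper22's S4150 plan (`Lib/Helper22/AltGen/PLAN.md`): in `Perm (Fin 6)`, an element of
cycle type 3^2 and a 5-cycle generate a copy of A_5 or A_6.  Uses landed S0732 (transitive groups of
degree p+1 and small order) and S0253 (PSL(2,5) = A_5), plus simplicity of A_6.
-/

set_option autoImplicit false

namespace Cfsg.Agent.Lib.Helper25.AltGenM6

open Equiv Equiv.Perm MulAction

/-- In a finite simple group, a proper subgroup `H` has `|S|` dividing `(index H)!`. -/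
theorem card_dvd_factorial_index {S : Type*} [Group S] [Finite S] [IsSimpleGroup S]
    (H : Subgroup S) (hH : H ≠ ⊤) : Nat.card S ∣ (H.index).factorial := by
  have h : H.normalCore.index ∣ H.index.factorial := by
    rw [Subgroup.normalCore_eq_ker, Subgroup.index_ker, Subgroup.index_eq_card, ← Nat.card_perm]
    exact Subgroup.card_subgroup_dvd_card (MulAction.toPermHom S (S ⧸ H)).range
  have hn : H.normalCore = ⊥ := by
    rcases (H.normalCore_normal).eq_bot_or_eq_top with h1 | h1
    · exact h1
    · exfalso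
      apply hH
      exact top_le_iff.mp (h1 ▸ H.normalCore_le)
  rw [hn, Subgroup.index_bot] at h
  exact h

theorem card_A6 : Nat.card (alternatingGroup (Fin 6)) = 360 := by
  rw [nat_card_alternatingGroup]
  simp [Nat.factorial]

theorem two_pow_ne_six (q : ℕ) : 5 + 1 ≠ 2 ^ q := by
  intro h
  have hq : q < 3 := by
    by_contra hq
    push Not at hq
    have : 2 ^ 3 ≤ 2 ^ q := Nat.pow_le_pow_right (by norm_num) hq
    omega
  interval_cases q <;> omega

theorem m6_special (a b : Perm (Fin 6)) (ha : a.cycleType = {3, 3}) (hb : b.cycleType = {5}) :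
    ∃ d : ℕ, 5 ≤ d ∧ Nonempty (Subgroup.closure ({a, b} : Set (Perm (Fin 6))) ≃* alternatingGroup (Fin d)) := by
  classical
  set G : Subgroup (Perm (Fin 6)) := Subgroup.closure {a, b} with hG
  have haG : a ∈ G := Subgroup.subset_closure (by simp)
  have hbG : b ∈ G := Subgroup.subset_closure (by simp)
  have haA : a ∈ alternatingGroup (Fin 6) := by
    rw [Equiv.Perm.mem_alternatingGroup, Equiv.Perm.sign_of_cycleType, ha]
    decide
  have hbA : b ∈ alternatingGroup (Fin 6) := by
    rw [Equiv.Perm.mem_alternatingGroup, Equiv.Perm.sign_of_cycleType, hb]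
    decide
  have hGA : G ≤ alternatingGroup (Fin 6) := by
    rw [hG, Subgroup.closure_le]
    intro x hx
    rcases hx with rfl | rfl
    exacts [haA, hbA]
  have hoa : orderOf a = 3 := by
    rw [← Equiv.Perm.lcm_cycleType, ha]; rfl
  have hob : orderOf b = 5 := by
    rw [← Equiv.Perm.lcm_cycleType, hb]; rfl
  have hsa : a.support.card = 6 := by
    rw [← Equiv.Perm.sum_cycleType, ha]; rfl
  have hsb : b.support.card = 5 := by
    rw [← Equiv.Perm.sum_cycleType, hb]; rfl
  have hbc : b.IsCycle := by
    rw [← Equiv.Perm.card_cycleType_eq_one, hb]; rfl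
  have hsa' : a.support = Finset.univ := by
    apply Finset.eq_univ_of_card
    rw [hsa]; simp
  -- the fixed point of b
  obtain ⟨x0, hx0⟩ : ∃ x0, x0 ∉ b.support := by
    by_contra hcon
    push Not at hcon
    have : b.support = Finset.univ := Finset.eq_univ_iff_forall.mpr hcon
    rw [this] at hsb
    simp at hsb
  have hcompl : ∀ y, y ≠ x0 → y ∈ b.support := by
    intro y hy
    by_contra hy'
    have hsub : ({x0, y} : Finset (Fin 6)) ⊆ Finset.univ \ b.support := by
      intro z hz
      simp only [Finset.mem_insert, Finset.mem_singleton] at hz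
      rcases hz with rfl | rfl
      · simp [hx0]
      · simp [hy']
    have h1 := Finset.card_le_card hsub
    rw [Finset.card_sdiff_of_subset (Finset.subset_univ _), hsb] at h1
    rw [Finset.card_pair (Ne.symm hy)] at h1
    simp at h1
  have hax0 : a x0 ∈ b.support := by
    apply hcompl
    have : x0 ∈ a.support := by rw [hsa']; simp
    exact Equiv.Perm.mem_support.mp this
  have htrans : IsPretransitive G (Fin 6) := by
    rw [MulAction.isPretransitive_iff_base x0]
    intro y
    by_cases hy : y = x0
    · exact ⟨1, by rw [hy]; simp⟩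
    · have hy' := hcompl y hy
      obtain ⟨i, hi⟩ := hbc.sameCycle (Equiv.Perm.mem_support.mp hax0) (Equiv.Perm.mem_support.mp hy')
      refine ⟨⟨b ^ i * a, G.mul_mem (G.zpow_mem hbG i) haG⟩, ?_⟩
      change (b ^ i * a) x0 = y
      rw [Equiv.Perm.mul_apply, hi]
  -- divisibility
  have h6 : 6 ∣ Nat.card G := by
    have h1 := MulAction.index_stabilizer_of_transitive G x0 (X := Fin 6)
    have h2 := (MulAction.stabilizer G x0).index_dvd_card
    rw [h1] at h2
    simpa using h2
  have h5 : 5 ∣ Nat.card G := by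
    have := orderOf_dvd_natCard (⟨b, hbG⟩ : G)
    rwa [Subgroup.orderOf_mk, hob] at this
  have h360 : Nat.card G ∣ 360 := by
    rw [← card_A6]
    exact Subgroup.card_dvd_of_le hGA
  have h30 : 30 ∣ Nat.card G := by omega
  obtain ⟨d, hd⟩ := h30
  have hd12 : d ∣ 12 := by
    rw [hd] at h360
    exact (Nat.mul_dvd_mul_iff_left (by norm_num : 0 < 30)).mp (by simpa using h360)
  have hdmem : d ∈ Nat.divisors 12 := Nat.mem_divisors.mpr ⟨hd12, by norm_num⟩
  have hdiv : Nat.divisors 12 = {1, 2, 3, 4, 6, 12} := by decide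
  rw [hdiv] at hdmem
  simp only [Finset.mem_insert, Finset.mem_singleton] at hdmem
  -- the subgroup of A6
  have : IsSimpleGroup (alternatingGroup (Fin 6)) := alternatingGroup.isSimpleGroup (by simp)
  set H : Subgroup (alternatingGroup (Fin 6)) := G.subgroupOf (alternatingGroup (Fin 6)) with hH
  have hHcard : Nat.card H = Nat.card G := Nat.card_congr (Subgroup.subgroupOfEquivOfLe hGA).toEquiv
  have hHindex : Nat.card G * H.index = 360 := by
    rw [← hHcard, Subgroup.card_mul_index, card_A6]
  have hindex_case : ∀ k, H.index = k → 1 < k → ¬ (360 ∣ k.factorial) → False := by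
    intro k hk h1 hnd
    apply hnd
    have hne : H ≠ ⊤ := by
      intro htop
      rw [htop, Subgroup.index_top] at hk
      omega
    have := card_dvd_factorial_index H hne
    rwa [card_A6, hk] at this
  have hS0732 : d < 5 → d = 2 ∧ Nonempty (G ≃* Matrix.ProjectiveSpecialLinearGroup (Fin 2) (ZMod 5)) ∨ d = 4 := by
    intro hd5
    have hcard : Nat.card G = (5 + 1) * 5 * d := by rw [hd]
    rcases Cfsg.Agent.S0732.result (α := Fin 6) (p := 5) (d := d) (by norm_num) (by simp) G hcard hd5
      with ⟨h1, _⟩ | ⟨h1, h2⟩ | ⟨q, _, hq, _⟩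
    · right; omega
    · left; exact ⟨by omega, h2⟩
    · exact absurd hq (two_pow_ne_six q)
  rcases hdmem with rfl | rfl | rfl | rfl | rfl | rfl
  · rcases hS0732 (by norm_num) with ⟨h, _⟩ | h <;> omega
  · rcases hS0732 (by norm_num) with ⟨_, ⟨e⟩⟩ | h
    · have : Fact (Nat.Prime 5) := ⟨by norm_num⟩
      obtain ⟨e2⟩ := Cfsg.Agent.S0253.result (F := ZMod 5) (ZMod.card 5)
      exact ⟨5, le_refl _, ⟨e.trans e2⟩⟩
    · omega
  · rcases hS0732 (by norm_num) with ⟨h, _⟩ | h <;> omega
  · exfalso
    apply hindex_case 3 (by rw [hd] at hHindex; omega) (by norm_num)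
    decide
  · exfalso
    apply hindex_case 2 (by rw [hd] at hHindex; omega) (by norm_num)
    decide
  · refine ⟨6, by norm_num, ⟨?_⟩⟩
    have hGeq : G = alternatingGroup (Fin 6) := by
      apply Subgroup.eq_of_le_of_card_ge hGA
      rw [card_A6, hd]
    exact MulEquiv.subgroupCongr hGeq

end Cfsg.Agent.Lib.Helper25.AltGenM6
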