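import Mathlib
import Cfsg.Prelude.Def_Characters
import Cfsg.Prelude.Def_Blocks
import Cfsg.Agent.Lib.Helper25.ExtraspecialUnique
import Cfsg.Agent.Lib.Helper25.DefectZeroCount
import Cfsg.Agent.S0133

/-!
Automorphism orbits of a finite nonabelian group: at most |G|/p orbits, p the least prime divisor (Laffey-MacHale; S4067). Part A: k(G) <= |G|/p by characters unless |G'| = p. Part B: |G'| = p, class two; a non-inner automorphism x -> x * u^k * d^(k choose 2) fuses classes.
-/

set_option autoImplicit false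

namespace Cfsg.Agent.Lib.Helper25
open scoped commutatorElement
section

/-- weight counting: if every class of a setoid has weight at least `N`, then
`N * #classes ≤ total weight`. -/
theorem ao_weight {α : Type*} [Fintype α] (s : Setoid α) [DecidableRel s.r]
    (w : α → ℕ) (N : ℕ)
    (h : ∀ a : α, N ≤ ∑ b ∈ Finset.univ.filter (fun b => s.r a b), w b) :
    N * Nat.card (Quotient s) ≤ ∑ a, w a := by
  classical
  have : Fintype (Quotient s) := Fintype.ofFinite _
  rw [Nat.card_eq_fintype_card]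
  have h1 : ∑ a, w a = ∑ q : Quotient s, ∑ a ∈ Finset.univ.filter (fun a => Quotient.mk s a = q), w a :=
    (Finset.sum_fiberwise Finset.univ (fun a => Quotient.mk s a) w).symm
  rw [h1]
  have h2 : ∀ q : Quotient s, N ≤ ∑ a ∈ Finset.univ.filter (fun a => Quotient.mk s a = q), w a := by
    intro q
    induction q using Quotient.inductionOn with
    | h a =>
      have hf : Finset.univ.filter (fun b => Quotient.mk s b = Quotient.mk s a) =
          Finset.univ.filter (fun b => s.r a b) := by
        ext b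
        simp only [Finset.mem_filter, Finset.mem_univ, true_and]
        rw [Quotient.eq]
        exact ⟨fun hh => s.symm hh, fun hh => s.symm hh⟩
      rw [hf]
      exact h a
  calc N * Fintype.card (Quotient s) = ∑ _q : Quotient s, N := by
        rw [Finset.sum_const, Finset.card_univ, smul_eq_mul, mul_comm]
    _ ≤ _ := Finset.sum_le_sum (fun q _ => h2 q)

variable {G : Type*} [Group G]

/-- conjugate elements are in the same `Aut`-orbit -/
theorem ao_isConj_orbit {a b : G} (h : IsConj a b) : b ∈ MulAction.orbit (MulAut G) a := by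
  obtain ⟨c, hc⟩ := isConj_iff.mp h
  refine ⟨MulAut.conj c, ?_⟩
  rw [← hc]
  rfl

theorem ao_orbits_le_classes [Finite G] :
    Nat.card (MulAction.orbitRel.Quotient (MulAut G) G) ≤ Nat.card (ConjClasses G) := by
  let f : ConjClasses G → MulAction.orbitRel.Quotient (MulAut G) G :=
    Quotient.map' (s₁ := IsConj.setoid G) (s₂ := MulAction.orbitRel (MulAut G) G) id
      (fun a b hab => by
        change a ∈ MulAction.orbit (MulAut G) b
        exact ao_isConj_orbit (IsConj.symm hab))
  apply Nat.card_le_card_of_surjective f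
  intro q
  induction q using Quotient.inductionOn' with
  | h a => exact ⟨ConjClasses.mk a, rfl⟩

/-- character count: if `|G'| ≥ p + 1` (`p` the least prime divisor), then `k(G) * p ≤ |G|`. -/
theorem ao_classes_le [Finite G] (p : ℕ) (hp : p = (Nat.card G).minFac)
    (hd : p + 1 ≤ Nat.card (commutator G)) :
    Nat.card (ConjClasses G) * p ≤ Nat.card G := by
  classical
  have := Fintype.ofFinite G
  have : Fintype (Cfsg.IrrCharacter G) := Fintype.ofFinite _
  rw [← Cfsg.Agent.S0133.result]
  set n := Nat.card G with hn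
  set d := Nat.card (commutator G) with hdd
  set L := Nat.card {χ : Cfsg.IrrCharacter G // (χ : G → ℂ) 1 = 1} with hL
  have hlin : d * L = n := xs_card_linear (G := G)
  -- sum of squares
  have hsq : ∑ χ : Cfsg.IrrCharacter G, (Cfsg.charDegree (χ : G → ℂ)) ^ 2 = n := by
    have h1 := irr_regular_indicator (1 : G)
    rw [if_pos rfl] at h1
    have h2 : ∑ χ : Cfsg.IrrCharacter G, (χ : G → ℂ) 1 * (χ : G → ℂ) 1 =
        ((∑ χ : Cfsg.IrrCharacter G, (Cfsg.charDegree (χ : G → ℂ)) ^ 2 : ℕ) : ℂ) := by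
      push_cast
      apply Finset.sum_congr rfl
      intro χ _
      rw [(charDegree_irr χ).1, sq]
    rw [h2] at h1
    exact_mod_cast h1
  have hn1 : 2 ≤ n := by
    have : 1 < n := by
      by_contra hcon
      have hn0 : 0 < n := Nat.card_pos
      have : n = 1 := by omega
      have hd1 : d ∣ n := by rw [hdd, hn]; exact Subgroup.card_subgroup_dvd_card _
      rw [this] at hd1
      have : d = 1 := Nat.dvd_one.mp hd1
      have hp2 : 2 ≤ p := by
        rw [hp]; 
        have := Nat.minFac_pos n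
        by_contra h
        have h1 : n.minFac = 1 := by omega
        rw [Nat.minFac_eq_one_iff] at h1
        omega
      omega
    omega
  have hp2 : p.Prime := by rw [hp]; exact Nat.minFac_prime (by omega)
  -- each degree is 1 or ≥ p
  have hdeg : ∀ χ : Cfsg.IrrCharacter G, (χ : G → ℂ) 1 ≠ 1 → p ≤ Cfsg.charDegree (χ : G → ℂ) := by
    intro χ hχ
    have hdv := xs_degree_dvd χ
    obtain ⟨h1, h0⟩ := charDegree_irr χ
    have hne : Cfsg.charDegree (χ : G → ℂ) ≠ 1 := by
      intro h
      apply hχ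
      rw [← h1, h]; simp
    rw [hp]
    exact Nat.minFac_le_of_dvd (by omega) hdv
  -- split the sum
  have hsplit : L + (Fintype.card (Cfsg.IrrCharacter G) - L) * p ^ 2 ≤ n := by
    rw [← hsq]
    have hLc : L = (Finset.univ.filter (fun χ : Cfsg.IrrCharacter G => (χ : G → ℂ) 1 = 1)).card := by
      rw [hL, Nat.card_eq_fintype_card, Fintype.card_subtype]
    have hLc' : Fintype.card (Cfsg.IrrCharacter G) - L =
        (Finset.univ.filter (fun χ : Cfsg.IrrCharacter G => ¬ (χ : G → ℂ) 1 = 1)).card := by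
      rw [hLc, ← Finset.card_univ]
      have := Finset.card_filter_add_card_filter_not (s := (Finset.univ : Finset (Cfsg.IrrCharacter G)))
        (fun χ : Cfsg.IrrCharacter G => (χ : G → ℂ) 1 = 1)
      omega
    rw [← Finset.sum_filter_add_sum_filter_not Finset.univ
      (fun χ : Cfsg.IrrCharacter G => (χ : G → ℂ) 1 = 1)]
    apply Nat.add_le_add
    · rw [hLc, Finset.card_eq_sum_ones]
      apply Finset.sum_le_sum
      intro χ hχ
      have h1 := (Finset.mem_filter.mp hχ).2
      obtain ⟨h2, _⟩ := charDegree_irr χ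
      have : Cfsg.charDegree (χ : G → ℂ) = 1 := by
        have : ((Cfsg.charDegree (χ : G → ℂ) : ℕ) : ℂ) = ((1 : ℕ) : ℂ) := by rw [h2, h1]; simp
        exact_mod_cast this
      rw [this]; norm_num
    · rw [hLc', Finset.card_eq_sum_ones, Finset.sum_mul]
      apply Finset.sum_le_sum
      intro χ hχ
      have h1 := (Finset.mem_filter.mp hχ).2
      rw [one_mul]
      exact Nat.pow_le_pow_left (hdeg χ h1) 2
  rw [Nat.card_eq_fintype_card]
  set k := Fintype.card (Cfsg.IrrCharacter G) with hk
  -- arithmetic: d * L = n, L + (k - L) p^2 ≤ n, p + 1 ≤ d ⊢ k * p ≤ n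
  have hLk : L ≤ k := by
    rw [hL, Nat.card_eq_fintype_card]
    exact Fintype.card_subtype_le _
  obtain ⟨m, hm⟩ : ∃ m, k = L + m := ⟨k - L, by omega⟩
  have hm' : k - L = m := by omega
  rw [hm'] at hsplit
  rw [hm]
  have h3 : m * p ^ 2 ≤ (d - 1) * L := by
    have : d * L = (d - 1) * L + L := by
      have : d = (d - 1) + 1 := by omega
      conv_lhs => rw [this]
      ring
    rw [← hlin] at hsplit
    omega
  have h4 : (d - 1) ≤ p * (d - p) := by
    obtain ⟨e, he⟩ : ∃ e, d = p + 1 + e := ⟨d - (p + 1), by omega⟩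
    have h5 : d - 1 = p + e := by omega
    have h6 : d - p = 1 + e := by omega
    rw [h5, h6]
    have : e ≤ p * e := Nat.le_mul_of_pos_left e hp2.pos
    nlinarith
  have h5 : p * (m * p) ≤ p * ((d - p) * L) := by
    calc p * (m * p) = m * p ^ 2 := by ring
      _ ≤ (d - 1) * L := h3
      _ ≤ p * (d - p) * L := Nat.mul_le_mul_right L h4
      _ = p * ((d - p) * L) := by ring
  have h6 : m * p ≤ (d - p) * L := le_of_mul_le_mul_left h5 hp2.pos
  have h7 : d * L = (d - p) * L + p * L := by
    have : d = (d - p) + p := by omega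
    conv_lhs => rw [this]
    ring
  rw [← hlin, h7]
  nlinarith

end

section

variable {G : Type*} [Group G]

/-- the cocycle values `E n = u^n * d^(0+1+...+(n-1))` -/
def aoE (u d : G) (n : ℕ) : G := u ^ n * d ^ (∑ i ∈ Finset.range n, i)

theorem aoE_zero (u d : G) : aoE u d 0 = 1 := by simp [aoE]

theorem ao_sum_add (k l : ℕ) : ∑ i ∈ Finset.range (k + l), i =
    ∑ i ∈ Finset.range k, i + ∑ i ∈ Finset.range l, i + k * l := by
  induction l with
  | zero => simp
  | succ l ih =>
    rw [← add_assoc, Finset.sum_range_succ, ih, Finset.sum_range_succ]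
    ring

theorem aoE_add {u d : G} (hd : Commute u d) (k l : ℕ) :
    aoE u d (k + l) = aoE u d k * aoE u d l * d ^ (k * l) := by
  unfold aoE
  rw [ao_sum_add, pow_add, pow_add, pow_add]
  have h := (hd.pow_pow l (∑ i ∈ Finset.range k, i)).eq
  calc u ^ k * u ^ l * (d ^ (∑ i ∈ Finset.range k, i) * d ^ (∑ i ∈ Finset.range l, i) * d ^ (k * l))
      = u ^ k * (u ^ l * d ^ (∑ i ∈ Finset.range k, i)) * d ^ (∑ i ∈ Finset.range l, i) * d ^ (k * l) := by
        simp only [mul_assoc]
    _ = u ^ k * (d ^ (∑ i ∈ Finset.range k, i) * u ^ l) * d ^ (∑ i ∈ Finset.range l, i) * d ^ (k * l) := by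
        rw [h]
    _ = _ := by simp only [mul_assoc]

theorem aoE_add_period {u d : G} (hd : Commute u d) (p : ℕ) (hE : aoE u d p = 1) (hdp : d ^ p = 1)
    (n q : ℕ) : aoE u d (n + p * q) = aoE u d n := by
  induction q with
  | zero => simp
  | succ q ih =>
    have : n + p * (q + 1) = (n + p * q) + p := by ring
    rw [this, aoE_add hd, hE, ih, mul_one, pow_mul', hdp, one_pow, mul_one]

theorem aoE_modEq {u d : G} (hd : Commute u d) (p : ℕ) (hE : aoE u d p = 1) (hdp : d ^ p = 1)
    {n m : ℕ} (h : n ≡ m [MOD p]) : aoE u d n = aoE u d m := by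
  rcases le_total n m with hle | hle
  · obtain ⟨q, hq⟩ := (Nat.modEq_iff_dvd' hle).mp h
    have : m = n + p * q := by omega
    rw [this, aoE_add_period hd p hE hdp]
  · obtain ⟨q, hq⟩ := (Nat.modEq_iff_dvd' hle).mp h.symm
    have : n = m + p * q := by omega
    rw [this, aoE_add_period hd p hE hdp]

/-- conjugating `E n` -/
theorem aoE_conj {u d : G} (hdc : d ∈ Subgroup.center G) (y : G) (m : ℕ)
    (hy : y⁻¹ * u * y = u * d ^ m) (n : ℕ) :
    y⁻¹ * aoE u d n * y = aoE u d n * d ^ (n * m) := by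
  have hd : Commute u d := (Subgroup.mem_center_iff.mp hdc u)
  have hdS : ∀ j : ℕ, d ^ j ∈ Subgroup.center G := fun j => Subgroup.pow_mem _ hdc j
  unfold aoE
  have h1 : y⁻¹ * u ^ n * y = (u * d ^ m) ^ n := by
    rw [← hy]
    have := conj_pow (a := y⁻¹) (b := u) (i := n)
    rw [inv_inv] at this
    exact this.symm
  have h2 : (u * d ^ m) ^ n = u ^ n * d ^ (n * m) := by
    rw [(hd.pow_right m).mul_pow, ← pow_mul, mul_comm m n]
  have h3 := Subgroup.mem_center_iff.mp (hdS (∑ i ∈ Finset.range n, i)) y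
  calc y⁻¹ * (u ^ n * d ^ (∑ i ∈ Finset.range n, i)) * y
      = y⁻¹ * u ^ n * (d ^ (∑ i ∈ Finset.range n, i) * y) := by simp only [mul_assoc]
    _ = y⁻¹ * u ^ n * (y * d ^ (∑ i ∈ Finset.range n, i)) := by rw [h3]
    _ = (y⁻¹ * u ^ n * y) * d ^ (∑ i ∈ Finset.range n, i) := by simp only [mul_assoc]
    _ = u ^ n * d ^ (n * m) * d ^ (∑ i ∈ Finset.range n, i) := by rw [h1, h2]
    _ = u ^ n * d ^ (∑ i ∈ Finset.range n, i) * d ^ (n * m) := by
        rw [mul_assoc, mul_assoc, ← pow_add, ← pow_add, add_comm]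

/-- the twisted automorphism -/
theorem ao_beta [Finite G] (p : ℕ) (c u d : G) (τ : G →* G)
    (hc : orderOf c = p)
    (hdc : d ∈ Subgroup.center G) (hdp : d ^ p = 1)
    (hτ : ∀ y, ∃ n : ℕ, τ y = c ^ n)
    (hconj : ∀ y n, τ y = c ^ n → y⁻¹ * u * y = u * d ^ n)
    (hτu : τ u = 1) (hτd : τ d = 1)
    (hE : aoE u d p = 1) :
    ∃ β : MulAut G, ∀ x n, τ x = c ^ n → β x = x * aoE u d n := by
  classical
  have hd : Commute u d := (Subgroup.mem_center_iff.mp hdc u)
  let f : G → G := fun x => x * aoE u d (Classical.choose (hτ x))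
  have hf : ∀ x n, τ x = c ^ n → f x = x * aoE u d n := by
    intro x n hn
    have h1 := Classical.choose_spec (hτ x)
    have h2 : c ^ (Classical.choose (hτ x)) = c ^ n := by rw [← h1, hn]
    have h3 : Classical.choose (hτ x) ≡ n [MOD p] := by
      rw [← hc]; exact pow_eq_pow_iff_modEq.mp h2
    change x * aoE u d (Classical.choose (hτ x)) = _
    rw [aoE_modEq hd p hE hdp h3]
  have hτE : ∀ n, τ (aoE u d n) = 1 := by
    intro n
    unfold aoE
    rw [map_mul, map_pow, map_pow, hτu, hτd, one_pow, one_pow, mul_one]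
  have hmul : ∀ x y, f (x * y) = f x * f y := by
    intro x y
    obtain ⟨nx, hnx⟩ := hτ x
    obtain ⟨ny, hny⟩ := hτ y
    have hxy : τ (x * y) = c ^ (nx + ny) := by rw [map_mul, hnx, hny, pow_add]
    rw [hf _ _ hxy, hf _ _ hnx, hf _ _ hny, aoE_add hd]
    have h1 := aoE_conj hdc y ny (hconj y ny hny) nx
    have h2 : aoE u d nx * y = y * (aoE u d nx * d ^ (nx * ny)) := by
      rw [← h1]; group
    have h3 := Subgroup.mem_center_iff.mp (Subgroup.pow_mem _ hdc (nx * ny)) (aoE u d ny)
    calc x * y * (aoE u d nx * aoE u d ny * d ^ (nx * ny))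
        = x * (y * (aoE u d nx * d ^ (nx * ny))) * aoE u d ny := by
          rw [mul_assoc (aoE u d nx), h3]
          simp only [mul_assoc]
      _ = x * (aoE u d nx * y) * aoE u d ny := by rw [h2]
      _ = _ := by simp only [mul_assoc]
  have hone : f 1 = 1 := by
    have h1 : τ (1 : G) = c ^ 0 := by simp
    rw [hf 1 0 h1, aoE_zero, mul_one]
  let F : G →* G := { toFun := f, map_one' := hone, map_mul' := hmul }
  have hinj : Function.Injective F := by
    rw [injective_iff_map_eq_one]
    intro x hx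
    obtain ⟨n, hn⟩ := hτ x
    have h1 : x * aoE u d n = 1 := by
      have : F x = x * aoE u d n := hf x n hn
      rw [← this, hx]
    have h2 : x = (aoE u d n)⁻¹ := eq_inv_of_mul_eq_one_left h1
    have h3 : τ x = 1 := by rw [h2, map_inv, hτE, inv_one]
    have h4 : c ^ n = c ^ 0 := by rw [← hn, h3, pow_zero]
    have h5 : n ≡ 0 [MOD p] := by rw [← hc]; exact pow_eq_pow_iff_modEq.mp h4
    have h6 := aoE_modEq hd p hE hdp h5
    rw [aoE_zero] at h6
    rw [h6, mul_one] at h1
    exact h1
  have hbij : Function.Bijective F := ⟨hinj, Finite.injective_iff_surjective.mp hinj⟩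
  refine ⟨MulEquiv.ofBijective F hbij, ?_⟩
  intro x n hn
  exact hf x n hn

/-- `u^n ∉ H` when `u ∉ H`, `u^p ∈ H`, and `n` prime to `p` -/
theorem ao_pow_not_mem (H : Subgroup G) (p : ℕ) (hp : p.Prime) (u : G) (hu : u ∉ H)
    (hup : u ^ p ∈ H) (n : ℕ) (hn : ¬ p ∣ n) : u ^ n ∉ H := by
  intro h
  have hcop : Nat.Coprime n p := (Nat.Coprime.symm ((Nat.Prime.coprime_iff_not_dvd hp).mpr hn))
  obtain ⟨m, -, hm⟩ := Nat.exists_mul_mod_eq_one_of_coprime hcop hp.one_lt
  have h1 : n * m = p * (n * m / p) + 1 := by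
    have := Nat.div_add_mod (n * m) p
    omega
  have h2 : u ^ (n * m) = (u ^ p) ^ (n * m / p) * u := by
    conv_lhs => rw [h1]
    rw [pow_succ, pow_mul]
  have h3 : u ^ (n * m) ∈ H := by rw [pow_mul]; exact H.pow_mem h m
  have h4 : u = ((u ^ p) ^ (n * m / p))⁻¹ * u ^ (n * m) := by rw [h2]; group
  apply hu
  rw [h4]
  exact H.mul_mem (H.inv_mem (H.pow_mem hup _)) h3

end

section

variable {G : Type*} [Group G]

theorem ao_comm_mem (a b : G) : ⁅a, b⁆ ∈ commutator G := by
  rw [commutator_def]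
  exact Subgroup.commutator_mem_commutator (Subgroup.mem_top _) (Subgroup.mem_top _)

/-- the size of a noncentral conjugacy class is at least the least prime divisor -/
theorem ao_class_card [Fintype G] [DecidableEq G] (x : G) (hx : x ∉ Subgroup.center G) :
    (Nat.card G).minFac ≤ (Finset.univ.filter (fun y => IsConj x y)).card := by
  classical
  have h1 : (Finset.univ.filter (fun y => IsConj x y)).card =
      (MulAction.orbit (ConjAct G) x).ncard := by
    rw [← Set.ncard_coe_finset]
    congr 1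
    ext y
    simp only [Finset.coe_filter, Finset.mem_univ, true_and, Set.mem_ofPred_eq,
      ConjAct.mem_orbit_conjAct]
    exact isConj_comm
  rw [h1, ← MulAction.index_stabilizer]
  have hdvd : (MulAction.stabilizer (ConjAct G) x).index ∣ Nat.card G := by
    have := Subgroup.index_dvd_card (MulAction.stabilizer (ConjAct G) x)
    rwa [Nat.card_congr (ConjAct.toConjAct (G := G)).toEquiv.symm] at this
  have hne1 : (MulAction.stabilizer (ConjAct G) x).index ≠ 1 := by
    intro h
    rw [Subgroup.index_eq_one] at h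
    apply hx
    have h2 : x ∈ MulAction.fixedPoints (ConjAct G) G := by
      intro g
      have : g ∈ MulAction.stabilizer (ConjAct G) x := by rw [h]; exact Subgroup.mem_top _
      exact this
    rw [ConjAct.fixedPoints_eq_center] at h2
    exact h2
  have hne0 : (MulAction.stabilizer (ConjAct G) x).index ≠ 0 := Subgroup.index_ne_zero_of_finite
  exact Nat.minFac_le_of_dvd (by omega) hdvd

/-- `G' ≤ Z(G)` when `|G'|` is the least prime divisor of `|G|` -/
theorem ao_comm_le_center [Finite G] (p : ℕ) (hp : p = (Nat.card G).minFac)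
    (hd : Nat.card (commutator G) = p) : commutator G ≤ Subgroup.center G := by
  classical
  have := Fintype.ofFinite G
  intro x hx
  by_contra hxc
  have h1 := ao_class_card x hxc
  rw [← hp] at h1
  have hx1 : x ≠ 1 := by
    rintro rfl
    exact hxc (Subgroup.one_mem _)
  have h2 : (Finset.univ.filter (fun y => IsConj x y)) ⊆
      (Finset.univ.filter (fun y => y ∈ commutator G)).erase 1 := by
    intro y hy
    have hy' := (Finset.mem_filter.mp hy).2
    obtain ⟨c, hc⟩ := isConj_iff.mp hy'
    rw [Finset.mem_erase, Finset.mem_filter]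
    refine ⟨?_, Finset.mem_univ _, ?_⟩
    · rintro rfl
      apply hx1
      have : c * x * c⁻¹ = 1 := hc
      have h3 : x = c⁻¹ * (c * x * c⁻¹) * c := by group
      rw [h3, this]; group
    · rw [← hc]
      exact (inferInstance : (commutator G).Normal).conj_mem x hx c
  have h3 := Finset.card_le_card h2
  have h4 : ((Finset.univ.filter (fun y => y ∈ commutator G)).erase 1).card = p - 1 := by
    rw [Finset.card_erase_of_mem (by simp [Subgroup.one_mem]), ← hd, Nat.card_eq_fintype_card,
      Fintype.card_subtype]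
  have hp2 : 2 ≤ p := by
    rw [hp]
    have hn : Nat.card G ≠ 1 := by
      intro h
      have := (Nat.card_eq_one_iff_unique.mp h).1
      exact hx1 (Subsingleton.elim _ _)
    exact (Nat.minFac_prime hn).two_le
  omega

/-- the commutator hom `y ↦ ⁅t, y⁆` in a class-two group -/
def aoTau (hcz : commutator G ≤ Subgroup.center G) (t : G) : G →* G where
  toFun y := ⁅t, y⁆
  map_one' := by simp
  map_mul' y z := by
    have hz := Subgroup.mem_center_iff.mp (hcz (ao_comm_mem t z)) y⁻¹
    calc ⁅t, y * z⁆ = t * y * t⁻¹ * (⁅t, z⁆ * y⁻¹) := by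
          rw [commutatorElement_def, commutatorElement_def]; group
      _ = t * y * t⁻¹ * (y⁻¹ * ⁅t, z⁆) := by rw [hz]
      _ = ⁅t, y⁆ * ⁅t, z⁆ := by
          rw [commutatorElement_def t y]; simp only [mul_assoc]

@[simp] theorem aoTau_apply (hcz : commutator G ≤ Subgroup.center G) (t y : G) :
    aoTau hcz t y = ⁅t, y⁆ := rfl

theorem ao_conj_eq (hcz : commutator G ≤ Subgroup.center G) (t y : G) :
    y⁻¹ * t * y = t * ⁅t, y⁆ := by
  have hC := Subgroup.mem_center_iff.mp (hcz (ao_comm_mem t y))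
  have h1 : y⁻¹ * ⁅t, y⁆ * y = ⁅t, y⁆ := by
    rw [mul_assoc, ← hC y]; group
  have h2 : y⁻¹ * t * y = (y⁻¹ * ⁅t, y⁆ * y) * t := by
    rw [commutatorElement_def]; group
  rw [h2, h1, hC t]

theorem aoTau_ker (hcz : commutator G ≤ Subgroup.center G) (t y : G) :
    y ∈ (aoTau hcz t).ker ↔ t * y = y * t := by
  rw [MonoidHom.mem_ker, aoTau_apply, commutatorElement_eq_one_iff_mul_comm]

/-- the counting step -/
theorem ao_count [Finite G] (p : ℕ) (hp : p = (Nat.card G).minFac) (hpp : p.Prime)
    (M : Subgroup G) [hMn : M.Normal] (hM : M.index = p) (hZM : Subgroup.center G ≤ M)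
    (β : MulAut G) (hβ1 : ∀ x, x ∉ M → β x ∉ M) (hβ2 : ∀ x, x ∉ M → ¬ IsConj x (β x))
    (hZ : p * p * Nat.card (Subgroup.center G) ≤ Nat.card G) :
    Nat.card (MulAction.orbitRel.Quotient (MulAut G) G) ≤ Nat.card G / p := by
  classical
  have := Fintype.ofFinite G
  obtain ⟨q, rfl⟩ : ∃ q, p = q + 1 := ⟨p - 1, by have := hpp.pos; omega⟩
  have hq1 : 1 ≤ q := by have := hpp.two_le; omega
  let w : G → ℕ := fun b => (q + 1) + (if b ∈ M then (q + 1) else 0) +
    (if b ∈ Subgroup.center G then 2 * (q + 1) * q else 0)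
  have hwmin : ∀ b, q + 1 ≤ w b := fun b => by
    change q + 1 ≤ (q + 1) + _ + _
    omega
  have hconjZ : ∀ a b : G, IsConj a b → a ∉ Subgroup.center G → b ∉ Subgroup.center G := by
    intro a b hab ha hb
    apply ha
    obtain ⟨c, hc⟩ := isConj_iff.mp hab
    have h1 : a = c⁻¹ * b * c := by rw [← hc]; group
    rw [h1]
    have := Subgroup.mem_center_iff.mp hb c⁻¹
    rw [this, inv_mul_cancel_right]
    exact hb
  have hconjM : ∀ a b : G, IsConj a b → a ∈ M → b ∈ M := by
    intro a b hab ha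
    obtain ⟨c, hc⟩ := isConj_iff.mp hab
    rw [← hc]
    exact hMn.conj_mem a ha c
  have key := ao_weight (MulAction.orbitRel (MulAut G) G) w (2 * (q + 1) * (q + 1)) (by
    intro a
    -- a sub-finset of the fibre
    have hsub : ∀ S : Finset G, (∀ b ∈ S, a ∈ MulAction.orbit (MulAut G) b) →
        ∑ b ∈ S, w b ≤ ∑ b ∈ Finset.univ.filter
          (fun b => (MulAction.orbitRel (MulAut G) G).r a b), w b := by
      intro S hS
      apply Finset.sum_le_sum_of_subset
      intro b hb
      rw [Finset.mem_filter]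
      exact ⟨Finset.mem_univ _, hS b hb⟩
    by_cases haZ : a ∈ Subgroup.center G
    · refine le_trans ?_ (hsub {a} ?_)
      · rw [Finset.sum_singleton]
        change _ ≤ (q + 1) + (if a ∈ M then (q + 1) else 0) +
          (if a ∈ Subgroup.center G then 2 * (q + 1) * q else 0)
        rw [if_pos haZ, if_pos (hZM haZ)]
        ring_nf
        omega
      · intro b hb
        rw [Finset.mem_singleton] at hb
        rw [hb]
        exact MulAction.mem_orbit_self _
    · by_cases haM : a ∈ M
      · refine le_trans ?_ (hsub (Finset.univ.filter (fun y => IsConj a y)) ?_)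
        · have hw : ∀ b ∈ Finset.univ.filter (fun y => IsConj a y), w b = 2 * (q + 1) := by
            intro b hb
            have hab := (Finset.mem_filter.mp hb).2
            change (q + 1) + (if b ∈ M then (q + 1) else 0) +
              (if b ∈ Subgroup.center G then 2 * (q + 1) * q else 0) = _
            rw [if_pos (hconjM a b hab haM), if_neg (hconjZ a b hab haZ)]
            ring
          rw [Finset.sum_congr rfl hw, Finset.sum_const, smul_eq_mul]
          have h1 := ao_class_card a haZ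
          rw [← hp] at h1
          calc 2 * (q + 1) * (q + 1) = (q + 1) * (2 * (q + 1)) := by ring
            _ ≤ _ := Nat.mul_le_mul_right _ h1
        · intro b hb
          have hab := (Finset.mem_filter.mp hb).2
          exact ao_isConj_orbit hab.symm
      · -- a ∉ M
        have hbM := hβ1 a haM
        have hbZ : β a ∉ Subgroup.center G := fun h => hbM (hZM h)
        have hdisj : Disjoint (Finset.univ.filter (fun y => IsConj a y))
            (Finset.univ.filter (fun y => IsConj (β a) y)) := by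
          rw [Finset.disjoint_left]
          intro y hy1 hy2
          have h1 := (Finset.mem_filter.mp hy1).2
          have h2 := (Finset.mem_filter.mp hy2).2
          exact hβ2 a haM (h1.trans h2.symm)
        refine le_trans ?_ (hsub (Finset.univ.filter (fun y => IsConj a y) ∪
          Finset.univ.filter (fun y => IsConj (β a) y)) ?_)
        · have h1 := ao_class_card a haZ
          have h2 := ao_class_card (β a) hbZ
          rw [← hp] at h1 h2
          have h3 : 2 * (q + 1) ≤ (Finset.univ.filter (fun y => IsConj a y) ∪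
              Finset.univ.filter (fun y => IsConj (β a) y)).card := by
            rw [Finset.card_union_of_disjoint hdisj]; omega
          calc 2 * (q + 1) * (q + 1) ≤ (Finset.univ.filter (fun y => IsConj a y) ∪
              Finset.univ.filter (fun y => IsConj (β a) y)).card * (q + 1) :=
                Nat.mul_le_mul_right _ h3
            _ = ∑ _b ∈ (Finset.univ.filter (fun y => IsConj a y) ∪
              Finset.univ.filter (fun y => IsConj (β a) y)), (q + 1) := by
                rw [Finset.sum_const, smul_eq_mul]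
            _ ≤ _ := Finset.sum_le_sum (fun b _ => hwmin b)
        · intro b hb
          rcases Finset.mem_union.mp hb with hb | hb
          · exact ao_isConj_orbit (Finset.mem_filter.mp hb).2.symm
          · have hab := (Finset.mem_filter.mp hb).2
            obtain ⟨φ, hφ⟩ := ao_isConj_orbit hab.symm
            refine ⟨β⁻¹ * φ, ?_⟩
            change (β⁻¹ * φ) • b = a
            rw [mul_smul]
            have hφ' : φ • b = β a := hφ
            rw [hφ']
            change β⁻¹ (β a) = a
            simp)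
  -- total weight
  have htot : ∑ a, w a = (q + 1) * Nat.card G + (q + 1) * Nat.card M +
      2 * (q + 1) * q * Nat.card (Subgroup.center G) := by
    change ∑ a, ((q + 1) + (if a ∈ M then (q + 1) else 0) +
      (if a ∈ Subgroup.center G then 2 * (q + 1) * q else 0)) = _
    rw [Finset.sum_add_distrib, Finset.sum_add_distrib, Finset.sum_const, Finset.card_univ,
      smul_eq_mul, ← Finset.sum_filter, ← Finset.sum_filter, Finset.sum_const, Finset.sum_const,
      smul_eq_mul, smul_eq_mul, Nat.card_eq_fintype_card, Nat.card_eq_fintype_card,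
      Nat.card_eq_fintype_card, Fintype.card_subtype, Fintype.card_subtype]
    ring
  rw [htot] at key
  have hMc : Nat.card M * (q + 1) = Nat.card G := by rw [← hM]; exact M.card_mul_index
  rw [Nat.le_div_iff_mul_le hpp.pos]
  set Q := Nat.card (MulAction.orbitRel.Quotient (MulAut G) G) with hQ
  change 2 * (q + 1) * (q + 1) * Q ≤ _ at key
  set n := Nat.card G
  set m := Nat.card M
  set z := Nat.card (Subgroup.center G)
  have h1 : 2 * (q + 1) * z ≤ n := by
    calc 2 * (q + 1) * z ≤ (q + 1) * (q + 1) * z := by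
          apply Nat.mul_le_mul_right; nlinarith
      _ ≤ n := hZ
  have h2 : 2 * (q + 1) * (Q * (q + 1)) ≤ 2 * (q + 1) * n := by
    have : q * (2 * (q + 1) * z) ≤ q * n := Nat.mul_le_mul_left q h1
    nlinarith
  exact le_of_mul_le_mul_left h2 (by positivity)

end

section

variable {G : Type*} [Group G]

/-- elements of `G'` are powers of a nontrivial element when `|G'|` is prime -/
theorem ao_mem_powers [Finite G] (p : ℕ) (hpp : p.Prime) (hd : Nat.card (commutator G) = p)
    (c : G) (hc : c ∈ commutator G) (hc1 : c ≠ 1) (w : G) (hw : w ∈ commutator G) :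
    ∃ n : ℕ, w = c ^ n := by
  haveI : Fact p.Prime := ⟨hpp⟩
  have h1 : (⟨w, hw⟩ : commutator G) ∈ Subgroup.zpowers (⟨c, hc⟩ : commutator G) :=
    mem_zpowers_of_prime_card hd (fun h => hc1 (congrArg Subtype.val h))
  rw [← mem_powers_iff_mem_zpowers] at h1
  obtain ⟨n, hn⟩ := h1
  refine ⟨n, ?_⟩
  have := congrArg Subtype.val hn
  simpa using this.symm

theorem ao_pow_card_comm [Finite G] (p : ℕ) (hd : Nat.card (commutator G) = p)
    (w : G) (hw : w ∈ commutator G) : w ^ p = 1 := by
  have h1 : (⟨w, hw⟩ : commutator G) ^ Nat.card (commutator G) = 1 := pow_card_eq_one'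
  rw [hd] at h1
  have := congrArg Subtype.val h1
  simpa using this

/-- core: from the data `(t, s, u, d)` to the orbit bound -/
theorem ao_core [Finite G] (p : ℕ) (hp : p = (Nat.card G).minFac) (hpp : p.Prime)
    (hcz : commutator G ≤ Subgroup.center G) (hd : Nat.card (commutator G) = p)
    (hZ : p * p * Nat.card (Subgroup.center G) ≤ Nat.card G)
    (t s u d : G) (hts : ⁅t, s⁆ ≠ 1) (hdG : d ∈ commutator G)
    (hconj : ∀ y n, ⁅t, y⁆ = ⁅t, s⁆ ^ n → y⁻¹ * u * y = u * d ^ n)
    (htu : ⁅t, u⁆ = 1) (hE : aoE u d p = 1) (hu : u ∉ commutator G) :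
    Nat.card (MulAction.orbitRel.Quotient (MulAut G) G) ≤ Nat.card G / p := by
  classical
  set c := ⁅t, s⁆ with hc
  have hcG : c ∈ commutator G := ao_comm_mem t s
  have hdc : d ∈ Subgroup.center G := hcz hdG
  have hdp : d ^ p = 1 := ao_pow_card_comm p hd d hdG
  have hcp : c ^ p = 1 := ao_pow_card_comm p hd c hcG
  haveI : Fact p.Prime := ⟨hpp⟩
  have hco : orderOf c = p := orderOf_eq_prime hcp hts
  let τ := aoTau hcz t
  have hτ : ∀ y, ∃ n : ℕ, τ y = c ^ n := fun y =>
    ao_mem_powers p hpp hd c hcG hts _ (ao_comm_mem t y)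
  have hτu : τ u = 1 := htu
  have hτd : τ d = 1 := by
    change ⁅t, d⁆ = 1
    rw [commutatorElement_eq_one_iff_mul_comm]
    exact Subgroup.mem_center_iff.mp hdc t
  obtain ⟨β, hβ⟩ := ao_beta p c u d τ hco hdc hdp hτ (fun y n hn => hconj y n hn) hτu hτd hE
  have hτE : ∀ n, τ (aoE u d n) = 1 := by
    intro n
    unfold aoE
    rw [map_mul, map_pow, map_pow, hτu, hτd, one_pow, one_pow, mul_one]
  have hupG : u ^ p ∈ commutator G := by
    have h1 : u ^ p * d ^ (∑ i ∈ Finset.range p, i) = 1 := hE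
    have h2 : u ^ p = (d ^ (∑ i ∈ Finset.range p, i))⁻¹ := eq_inv_of_mul_eq_one_left h1
    rw [h2]
    exact Subgroup.inv_mem _ (Subgroup.pow_mem _ hdG _)
  -- index of the kernel
  have hidx : τ.ker.index = p := by
    rw [Subgroup.index_ker]
    have hle : τ.range ≤ commutator G := by
      rintro _ ⟨y, rfl⟩
      exact ao_comm_mem t y
    have h1 : Nat.card τ.range ∣ p := by
      rw [← hd]; exact Subgroup.card_dvd_of_le hle
    have h2 : Nat.card τ.range ≠ 1 := by
      intro h
      have h3 := (Subgroup.card_eq_one.mp h)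
      have : c ∈ τ.range := ⟨s, rfl⟩
      rw [h3, Subgroup.mem_bot] at this
      exact hts this
    rcases (Nat.dvd_prime hpp).mp h1 with h | h
    · exact absurd h h2
    · exact h
  have hZM : Subgroup.center G ≤ τ.ker := by
    intro z hz
    rw [aoTau_ker]
    exact Subgroup.mem_center_iff.mp hz t
  apply ao_count p hp hpp τ.ker hidx hZM β
  · intro x hx
    obtain ⟨n, hn⟩ := hτ x
    rw [hβ x n hn, MonoidHom.mem_ker, map_mul, hτE, mul_one]
    exact hx
  · intro x hx hconjx
    obtain ⟨n, hn⟩ := hτ x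
    have hpn : ¬ p ∣ n := by
      intro hdiv
      apply hx
      rw [MonoidHom.mem_ker, hn]
      obtain ⟨k, rfl⟩ := hdiv
      rw [pow_mul, hcp, one_pow]
    have h1 := ao_pow_not_mem (commutator G) p hpp u hu hupG n hpn
    apply h1
    obtain ⟨g, hg⟩ := isConj_iff.mp hconjx
    rw [hβ x n hn] at hg
    have h2 : aoE u d n = ⁅x⁻¹, g⁆ := by
      rw [commutatorElement_def, inv_inv]
      have : aoE u d n = x⁻¹ * (g * x * g⁻¹) := by rw [hg]; group
      rw [this]; group
    have h3 : aoE u d n ∈ commutator G := by rw [h2]; exact ao_comm_mem _ _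
    have h4 : u ^ n = aoE u d n * (d ^ (∑ i ∈ Finset.range n, i))⁻¹ := by
      unfold aoE; group
    rw [h4]
    exact Subgroup.mul_mem _ h3 (Subgroup.inv_mem _ (Subgroup.pow_mem _ hdG _))
  · exact hZ

/-- index of the centre of a nonabelian group -/
theorem ao_center_index [Finite G] (hna : ¬ IsMulCommutative G) (p : ℕ)
    (hp : p = (Nat.card G).minFac) :
    p * p * Nat.card (Subgroup.center G) ≤ Nat.card G := by
  have h1 := (Subgroup.center G).card_mul_index
  set i := (Subgroup.center G).index with hi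
  have hi0 : i ≠ 0 := Subgroup.index_ne_zero_of_finite
  have hi1 : i ≠ 1 := by
    intro h
    apply hna
    rw [hi, Subgroup.index_eq_one] at h
    constructor
    constructor
    intro a b
    have : a ∈ Subgroup.center G := by rw [h]; exact Subgroup.mem_top _
    exact (Subgroup.mem_center_iff.mp this b).symm
  have hinp : ¬ i.Prime := by
    intro hprime
    apply hna
    haveI : Fact i.Prime := ⟨hprime⟩
    have hcard : Nat.card (G ⧸ Subgroup.center G) = i := by
      rw [hi]; rfl
    haveI : IsCyclic (G ⧸ Subgroup.center G) := isCyclic_of_prime_card hcard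
    exact MonoidHom.isMulCommutative_of_isCyclic_of_ker_le_center
      (QuotientGroup.mk' (Subgroup.center G)) (by rw [QuotientGroup.ker_mk'])
  have hdvd : i ∣ Nat.card G := Subgroup.index_dvd_card _
  have h2 : i.minFac ^ 2 ≤ i := Nat.minFac_sq_le_self (Nat.pos_of_ne_zero hi0) hinp
  have h3 : p ≤ i.minFac := by
    rw [hp]
    exact Nat.minFac_le_of_dvd (Nat.minFac_prime hi1).two_le
      (dvd_trans (Nat.minFac_dvd i) hdvd)
  have h4 : p * p ≤ i := by
    calc p * p ≤ i.minFac * i.minFac := Nat.mul_le_mul h3 h3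
      _ = i.minFac ^ 2 := by ring
      _ ≤ i := h2
  calc p * p * Nat.card (Subgroup.center G) ≤ i * Nat.card (Subgroup.center G) :=
        Nat.mul_le_mul_right _ h4
    _ = Nat.card G := by rw [mul_comm]; exact h1

end

section

variable {G : Type*} [Group G]

theorem ao_comm_pow_right (hcz : commutator G ≤ Subgroup.center G) (x y : G) (n : ℕ) :
    ⁅x, y ^ n⁆ = ⁅x, y⁆ ^ n := by
  have := map_pow (aoTau hcz x) y n
  simpa using this

theorem ao_comm_pow_left (hcz : commutator G ≤ Subgroup.center G) (x y : G) (n : ℕ) :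
    ⁅x ^ n, y⁆ = ⁅x, y⁆ ^ n := by
  rw [← commutatorElement_inv y (x ^ n), ao_comm_pow_right hcz, ← inv_pow, commutatorElement_inv]

/-- `y * x = ⁅y, x⁆ * x * y` -/
theorem ao_swap (x y : G) : y * x = ⁅y, x⁆ * x * y := by
  rw [commutatorElement_def]; group

/-- the class-two power formula -/
theorem ao_mul_pow (hcz : commutator G ≤ Subgroup.center G) (x y : G) (n : ℕ) :
    (x * y) ^ n = x ^ n * y ^ n * ⁅y, x⁆ ^ (∑ i ∈ Finset.range n, i) := by
  induction n with
  | zero => simp
  | succ n ih =>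
    have hC : ∀ j : ℕ, ∀ g : G, g * ⁅y, x⁆ ^ j = ⁅y, x⁆ ^ j * g := fun j g =>
      Subgroup.mem_center_iff.mp (Subgroup.pow_mem _ (hcz (ao_comm_mem y x)) j) g
    have h1 : y ^ n * x = ⁅y, x⁆ ^ n * x * y ^ n := by
      rw [ao_swap x (y ^ n), ao_comm_pow_left hcz]
    have e1 : x ^ n * (⁅y, x⁆ ^ n * x * y ^ n) = ⁅y, x⁆ ^ n * (x ^ n * x * y ^ n) := by
      calc x ^ n * (⁅y, x⁆ ^ n * x * y ^ n) = (x ^ n * ⁅y, x⁆ ^ n) * x * y ^ n := by
            simp only [mul_assoc]
        _ = (⁅y, x⁆ ^ n * x ^ n) * x * y ^ n := by rw [hC n (x ^ n)]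
        _ = _ := by simp only [mul_assoc]
    have key : x ^ n * y ^ n * ⁅y, x⁆ ^ (∑ i ∈ Finset.range n, i) * (x * y) =
        x ^ n * x * (y ^ n * y) * (⁅y, x⁆ ^ (∑ i ∈ Finset.range n, i) * ⁅y, x⁆ ^ n) := by
      calc x ^ n * y ^ n * ⁅y, x⁆ ^ (∑ i ∈ Finset.range n, i) * (x * y)
          = x ^ n * (y ^ n * x) * y * ⁅y, x⁆ ^ (∑ i ∈ Finset.range n, i) := by
            rw [mul_assoc (x ^ n * y ^ n), ← hC]
            simp only [mul_assoc]
        _ = x ^ n * (⁅y, x⁆ ^ n * x * y ^ n) * y * ⁅y, x⁆ ^ (∑ i ∈ Finset.range n, i) := by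
            rw [h1]
        _ = ⁅y, x⁆ ^ n * (x ^ n * x * (y ^ n * y) * ⁅y, x⁆ ^ (∑ i ∈ Finset.range n, i)) := by
            rw [e1]; simp only [mul_assoc]
        _ = (x ^ n * x * (y ^ n * y) * ⁅y, x⁆ ^ (∑ i ∈ Finset.range n, i)) * ⁅y, x⁆ ^ n :=
            (hC n _).symm
        _ = _ := by simp only [mul_assoc]
    rw [pow_succ (x * y), ih, key, Finset.sum_range_succ, pow_succ x, pow_succ y, pow_add]

theorem ao_prime_dvd_sum (p : ℕ) (hpp : p.Prime) (hodd : p ≠ 2) :
    p ∣ ∑ i ∈ Finset.range p, i := by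
  have h1 := Finset.sum_range_id_mul_two p
  have h2 : p ∣ (∑ i ∈ Finset.range p, i) * 2 := by rw [h1]; exact dvd_mul_right _ _
  have hcop : Nat.Coprime p 2 := by
    rw [Nat.coprime_primes hpp Nat.prime_two]; exact hodd
  exact hcop.dvd_of_dvd_mul_right h2

/-- odd case: an element of order dividing `p` outside `G'` -/
theorem ao_exists_odd [Finite G] (p : ℕ) (hpp : p.Prime) (hodd : p ≠ 2)
    (hcz : commutator G ≤ Subgroup.center G) (hd : Nat.card (commutator G) = p)
    (hZ : p * p * Nat.card (Subgroup.center G) ≤ Nat.card G) :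
    ∃ u, u ∉ commutator G ∧ u ^ p = 1 := by
  by_contra hcon
  push Not at hcon
  obtain ⟨m, hm⟩ := ao_prime_dvd_sum p hpp hodd
  let φ : G →* G :=
    { toFun := fun x => x ^ p
      map_one' := one_pow p
      map_mul' := fun x y => by
        rw [ao_mul_pow hcz, hm, pow_mul, ao_pow_card_comm p hd _ (ao_comm_mem y x), one_pow,
          mul_one] }
  have hrange : φ.range ≤ Subgroup.center G := by
    rintro _ ⟨x, rfl⟩
    rw [Subgroup.mem_center_iff]
    intro y
    have h1 : ⁅x ^ p, y⁆ = 1 := by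
      rw [ao_comm_pow_left hcz, ao_pow_card_comm p hd _ (ao_comm_mem x y)]
    exact (commutatorElement_eq_one_iff_mul_comm.mp h1).symm
  have hker : φ.ker ≤ commutator G := by
    intro x hx
    by_contra hxn
    exact hcon x hxn hx
  have h1 : Nat.card φ.ker * Nat.card φ.range = Nat.card G := by
    rw [← Subgroup.index_ker]; exact Subgroup.card_mul_index _
  have h2 : Nat.card φ.range ≤ Nat.card (Subgroup.center G) := Subgroup.card_le_of_le hrange
  have h3 : Nat.card φ.ker ≤ p := by rw [← hd]; exact Subgroup.card_le_of_le hker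
  have hz0 : 0 < Nat.card (Subgroup.center G) := Nat.card_pos
  have h4 : Nat.card G ≤ p * Nat.card (Subgroup.center G) := by
    rw [← h1]; exact Nat.mul_le_mul h3 h2
  have h5 : p * p * Nat.card (Subgroup.center G) ≤ p * Nat.card (Subgroup.center G) := le_trans hZ h4
  have h6 : p * Nat.card (Subgroup.center G) < p * p * Nat.card (Subgroup.center G) := by
    have hA : 0 < p * Nat.card (Subgroup.center G) := Nat.mul_pos hpp.pos hz0
    have e : p * p * Nat.card (Subgroup.center G) = p * Nat.card (Subgroup.center G) * p := by ring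
    have h7 : p * Nat.card (Subgroup.center G) * 2 ≤ p * Nat.card (Subgroup.center G) * p :=
      Nat.mul_le_mul_left _ hpp.two_le
    rw [e]; omega
  omega

theorem ao_orderOf_sq (z : G) (m : ℕ) (h : orderOf z = 2 ^ (m + 1)) : orderOf (z ^ 2) = 2 ^ m := by
  rw [orderOf_pow' z (by norm_num), h]
  have : Nat.gcd (2 ^ (m + 1)) 2 = 2 := by
    rw [pow_succ]; simp
  rw [this, pow_succ, Nat.mul_div_cancel _ (by norm_num)]

/-- in an abelian 2-group with a unique involution, elements of smaller order are powers -/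
theorem ao_cyc (c : G) (hc2 : c ^ 2 = 1)
    (hA1 : ∀ z ∈ Subgroup.center G, z ^ 2 = 1 → z = 1 ∨ z = c) :
    ∀ r s : ℕ, ∀ a b : G, a ∈ Subgroup.center G → b ∈ Subgroup.center G →
      orderOf a = 2 ^ r → orderOf b = 2 ^ s → r ≤ s → ∃ k : ℕ, a * b ^ k = 1 := by
  intro r
  induction r with
  | zero =>
    intro s a b _ _ ha _ _
    rw [pow_zero, orderOf_eq_one_iff] at ha
    exact ⟨0, by rw [ha]; simp⟩
  | succ r ih =>
    intro s a b haZ hbZ ha hb hrs
    obtain ⟨s', rfl⟩ : ∃ s', s = s' + 1 := ⟨s - 1, by omega⟩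
    have ha2 := ao_orderOf_sq a r ha
    have hb2 := ao_orderOf_sq b s' hb
    obtain ⟨k, hk⟩ := ih s' (a ^ 2) (b ^ 2) (Subgroup.pow_mem _ haZ 2) (Subgroup.pow_mem _ hbZ 2)
      ha2 hb2 (by omega)
    have hcomm : Commute a (b ^ k) := (Subgroup.mem_center_iff.mp haZ (b ^ k)).symm
    have he2 : (a * b ^ k) ^ 2 = 1 := by
      rw [hcomm.mul_pow, ← pow_mul, mul_comm k 2, pow_mul]; exact hk
    have heZ : a * b ^ k ∈ Subgroup.center G :=
      Subgroup.mul_mem _ haZ (Subgroup.pow_mem _ hbZ k)
    rcases hA1 _ heZ he2 with h | h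
    · exact ⟨k, h⟩
    · -- c is a power of b
      have hT1 : b ^ (2 ^ s') ≠ 1 := by
        apply pow_ne_one_of_lt_orderOf (by positivity)
        rw [hb, pow_succ]; 
        have : 0 < 2 ^ s' := by positivity
        omega
      have hT2 : (b ^ (2 ^ s')) ^ 2 = 1 := by
        rw [← pow_mul, ← pow_succ, ← hb, pow_orderOf_eq_one]
      have hTc : b ^ (2 ^ s') = c := by
        rcases hA1 _ (Subgroup.pow_mem _ hbZ _) hT2 with h' | h'
        · exact absurd h' hT1
        · exact h'
      refine ⟨k + 2 ^ s', ?_⟩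
      rw [pow_add, ← mul_assoc, h, hTc, ← sq, hc2]

theorem ao_pow_odd (c : G) (hc2 : c ^ 2 = 1) (o : ℕ) (ho : Odd o) : c ^ o = c := by
  obtain ⟨m, rfl⟩ := ho
  rw [pow_succ, pow_mul, hc2, one_pow, one_mul]

theorem ao_pow_even (c : G) (hc2 : c ^ 2 = 1) (o : ℕ) (ho : Even o) : c ^ o = 1 := by
  obtain ⟨m, rfl⟩ := ho
  rw [← two_mul, pow_mul, hc2, one_pow]

end

section

variable {G : Type*} [Group G]

theorem ao_sq (hcz : commutator G ≤ Subgroup.center G) (x y : G) :
    (x * y) ^ 2 = x ^ 2 * y ^ 2 * ⁅y, x⁆ := by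
  have := ao_mul_pow hcz x y 2
  simpa [Finset.sum_range_succ] using this

theorem ao_orderOf_two_pow [Finite G] (e o : ℕ) (hcard : Nat.card G = 2 ^ e * o) (a : G) :
    ∃ i, orderOf (a ^ o) = 2 ^ i := by
  have h1 : (a ^ o) ^ (2 ^ e) = 1 := by
    rw [← pow_mul, mul_comm, ← hcard, pow_card_eq_one']
  have h2 := orderOf_dvd_of_pow_eq_one h1
  obtain ⟨i, _, hi⟩ := (Nat.dvd_prime_pow Nat.prime_two).mp h2
  exact ⟨i, hi⟩

/-- the case `p = 2` -/
theorem ao_exists_two [Finite G] (hna : ¬ IsMulCommutative G)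
    (hcz : commutator G ≤ Subgroup.center G) (hd : Nat.card (commutator G) = 2) :
    (∃ u ∈ Subgroup.center G, u ∉ commutator G ∧ u ^ 2 = 1) ∨
    (∃ u, u ∉ Subgroup.center G ∧ u ^ 2 ∈ commutator G ∧ u ^ 2 ≠ 1) := by
  classical
  by_contra hcon
  push Not at hcon
  obtain ⟨hB1, hB2⟩ := hcon
  -- the nontrivial element of G'
  obtain ⟨⟨c, hcG⟩, hc1', hcu'⟩ := (Nat.card_eq_two_iff' (1 : commutator G)).mp hd
  have hc1 : c ≠ 1 := fun h => hc1' (Subtype.ext h)
  have hcu : ∀ w ∈ commutator G, w ≠ 1 → w = c := by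
    intro w hw hw1
    have := hcu' ⟨w, hw⟩ (fun h => hw1 (congrArg Subtype.val h))
    exact congrArg Subtype.val this
  have hc2 : c ^ 2 = 1 := ao_pow_card_comm 2 hd c hcG
  have hcZ : c ∈ Subgroup.center G := hcz hcG
  have hdich : ∀ a b : G, ⁅a, b⁆ = 1 ∨ ⁅a, b⁆ = c := by
    intro a b
    by_cases h : ⁅a, b⁆ = 1
    · left; exact h
    · right; exact hcu _ (ao_comm_mem a b) h
  have hA1 : ∀ z ∈ Subgroup.center G, z ^ 2 = 1 → z = 1 ∨ z = c := by
    intro z hz hz2
    by_cases hzG : z ∈ commutator G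
    · by_cases hz1 : z = 1
      · left; exact hz1
      · right; exact hcu z hzG hz1
    · exact absurd hz2 (hB1 z hz hzG)
  have hA2 : ∀ u, u ∉ Subgroup.center G → u ^ 2 ≠ c := by
    intro u hu h
    have := hB2 u hu (by rw [h]; exact hcG)
    rw [h] at this
    exact hc1 this
  have hsqZ : ∀ x : G, x ^ 2 ∈ Subgroup.center G := by
    intro x
    rw [Subgroup.mem_center_iff]
    intro y
    have h1 : ⁅x ^ 2, y⁆ = 1 := by
      rw [ao_comm_pow_left hcz]
      rcases hdich x y with h | h
      · rw [h, one_pow]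
      · rw [h, hc2]
    exact (commutatorElement_eq_one_iff_mul_comm.mp h1).symm
  have hnotZ : ∀ x y : G, ⁅x, y⁆ ≠ 1 → x ∉ Subgroup.center G := by
    intro x y h hx
    apply h
    rw [commutatorElement_eq_one_iff_mul_comm]
    exact (Subgroup.mem_center_iff.mp hx y).symm
  have hswapc : ∀ x y : G, ⁅x, y⁆ = c → ⁅y, x⁆ = c := by
    intro x y h
    rw [← commutatorElement_inv, h]
    have : c * c = 1 := by rw [← sq]; exact hc2
    exact inv_eq_of_mul_eq_one_left this
  -- noncommuting pair
  obtain ⟨a, b, hab⟩ : ∃ a b : G, ⁅a, b⁆ ≠ 1 := by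
    by_contra h
    push Not at h
    apply hna
    exact ⟨⟨fun a b => commutatorElement_eq_one_iff_mul_comm.mp (h a b)⟩⟩
  obtain ⟨e, o, ho, hcard⟩ := Nat.exists_eq_two_pow_mul_odd (n := Nat.card G) Nat.card_pos.ne'
  -- the set of noncentral 2-elements
  let S : Set G := {x | x ∉ Subgroup.center G ∧ ∃ i, orderOf x = 2 ^ i}
  have hSne : S.Nonempty := by
    refine ⟨a ^ o, ?_, ao_orderOf_two_pow e o hcard a⟩
    apply hnotZ (a ^ o) b
    rw [ao_comm_pow_left hcz]
    rcases hdich a b with h | h
    · exact absurd h hab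
    · rw [h, ao_pow_odd c hc2 o ho]; exact hc1
  obtain ⟨x, hxS, hxmin⟩ := Set.exists_min_image S orderOf (Set.toFinite S) hSne
  obtain ⟨hxZ, i, hxi⟩ := hxS
  -- partner y
  obtain ⟨b', hb'⟩ : ∃ b' : G, ⁅x, b'⁆ ≠ 1 := by
    by_contra h
    push Not at h
    apply hxZ
    rw [Subgroup.mem_center_iff]
    intro g
    exact (commutatorElement_eq_one_iff_mul_comm.mp (h g)).symm
  have hxb : ⁅x, b'⁆ = c := by
    rcases hdich x b' with h | h
    · exact absurd h hb'
    · exact h
  set y := b' ^ o with hy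
  have hxy : ⁅x, y⁆ = c := by
    rw [hy, ao_comm_pow_right hcz, hxb, ao_pow_odd c hc2 o ho]
  have hyx : ⁅y, x⁆ = c := hswapc x y hxy
  have hyZ : y ∉ Subgroup.center G := hnotZ y x (by rw [hyx]; exact hc1)
  obtain ⟨j, hyj⟩ := ao_orderOf_two_pow e o hcard b'
  have hyS : y ∈ S := ⟨hyZ, j, hyj⟩
  have hij : 2 ^ i ≤ 2 ^ j := by
    have := hxmin y hyS
    rwa [hxi, hyj] at this
  have hij' : i ≤ j := (Nat.pow_le_pow_iff_right (by norm_num)).mp hij
  have hi0 : i ≠ 0 := by
    rintro rfl
    rw [pow_zero, orderOf_eq_one_iff] at hxi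
    exact hxZ (hxi ▸ Subgroup.one_mem _)
  -- the element `x * z` for central `z` is noncentral
  have hmulZ : ∀ z ∈ Subgroup.center G, x * z ∉ Subgroup.center G := by
    intro z hz h
    apply hxZ
    have : x = (x * z) * z⁻¹ := by group
    rw [this]
    exact Subgroup.mul_mem _ h (Subgroup.inv_mem _ hz)
  by_cases hi1 : i = 1
  · -- x is an involution
    subst hi1
    have hx2 : x ^ 2 = 1 := by
      have := pow_orderOf_eq_one x
      rwa [hxi, pow_one] at this
    have hj0 : j ≠ 0 := by omega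
    obtain ⟨j', rfl⟩ : ∃ j', j = j' + 1 := ⟨j - 1, by omega⟩
    have hT1 : y ^ (2 ^ j') ≠ 1 := by
      apply pow_ne_one_of_lt_orderOf (by positivity)
      rw [hyj, pow_succ]
      have : 0 < 2 ^ j' := by positivity
      omega
    have hT2 : (y ^ (2 ^ j')) ^ 2 = 1 := by
      rw [← pow_mul, ← pow_succ, ← hyj, pow_orderOf_eq_one]
    by_cases hj1 : j' = 0
    · subst hj1
      have hy2 : y ^ 2 = 1 := by simpa using hT2
      have h1 : (x * y) ^ 2 = c := by
        rw [ao_sq hcz, hx2, hy2, hyx]; simp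
      apply hA2 (x * y) ?_ h1
      apply hnotZ (x * y) y
      have : ⁅x * y, y⁆ = ⁅x, y⁆ := by
        rw [commutatorElement_def, commutatorElement_def]; group
      rw [this, hxy]; exact hc1
    · obtain ⟨j'', rfl⟩ : ∃ j'', j' = j'' + 1 := ⟨j' - 1, by omega⟩
      -- T = y^(2^(j''+1)) is a central involution, so T = c
      have hTZ : y ^ (2 ^ (j'' + 1)) ∈ Subgroup.center G := by
        rw [pow_succ, mul_comm, pow_mul]
        exact Subgroup.pow_mem _ (hsqZ y) _
      have hTc : y ^ (2 ^ (j'' + 1)) = c := by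
        rcases hA1 _ hTZ hT2 with h | h
        · exact absurd h hT1
        · exact h
      set v := y ^ (2 ^ j'') with hv
      have hv2 : v ^ 2 = c := by
        rw [hv, ← pow_mul, ← pow_succ]; exact hTc
      by_cases hvZ : v ∈ Subgroup.center G
      · have h1 : (x * v) ^ 2 = c := by
          have hvx : ⁅v, x⁆ = 1 := by
            rw [commutatorElement_eq_one_iff_mul_comm]
            exact (Subgroup.mem_center_iff.mp hvZ x).symm
          rw [ao_sq hcz, hx2, hv2, hvx]; simp
        exact hA2 (x * v) (hmulZ v hvZ) h1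
      · exact hA2 v hvZ hv2
  · -- i ≥ 2
    obtain ⟨i', rfl⟩ : ∃ i', i = i' + 1 := ⟨i - 1, by omega⟩
    obtain ⟨j', rfl⟩ : ∃ j', j = j' + 1 := ⟨j - 1, by omega⟩
    have hi'0 : i' ≠ 0 := by omega
    have ha2 := ao_orderOf_sq x i' hxi
    have hb2 := ao_orderOf_sq y j' hyj
    obtain ⟨k, hk⟩ := ao_cyc c hc2 hA1 i' j' (x ^ 2) (y ^ 2) (hsqZ x) (hsqZ y) ha2 hb2 (by omega)
    set g := x * y ^ k with hg
    have hg2 : g ^ 2 = c ^ k := by
      rw [hg, ao_sq hcz, ao_comm_pow_left hcz, hyx, ← pow_mul, mul_comm k 2, pow_mul, hk, one_mul]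
    have hgZ : g ∉ Subgroup.center G := by
      apply hnotZ g y
      have : ⁅g, y⁆ = ⁅x, y⁆ := by
        rw [hg, commutatorElement_def, commutatorElement_def]
        have h1 : y ^ k * y = y * y ^ k := (pow_mul_comm' y k)
        calc x * y ^ k * y * (x * y ^ k)⁻¹ * y⁻¹ = x * (y ^ k * y) * (y ^ k)⁻¹ * x⁻¹ * y⁻¹ := by
              group
          _ = x * (y * y ^ k) * (y ^ k)⁻¹ * x⁻¹ * y⁻¹ := by rw [h1]
          _ = _ := by group
      rw [this, hxy]; exact hc1
    rcases Nat.even_or_odd k with hke | hko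
    · rw [ao_pow_even c hc2 k hke] at hg2
      have hg1 : g ≠ 1 := fun h => hgZ (h ▸ Subgroup.one_mem _)
      have hog : orderOf g = 2 := orderOf_eq_prime hg2 hg1
      have hgS : g ∈ S := ⟨hgZ, 1, by rw [hog, pow_one]⟩
      have := hxmin g hgS
      rw [hxi, hog, pow_succ] at this
      have h2 : 2 ≤ 2 ^ i' := by
        calc 2 = 2 ^ 1 := by norm_num
          _ ≤ 2 ^ i' := Nat.pow_le_pow_right (by norm_num) (by omega)
      omega
    · rw [ao_pow_odd c hc2 k hko] at hg2
      exact hA2 g hgZ hg2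

end

section

variable {G : Type*} [Group G]

/-- central `u` of order `p` outside `G'` -/
theorem ao_caseI [Finite G] (hna : ¬ IsMulCommutative G) (p : ℕ)
    (hp : p = (Nat.card G).minFac) (hpp : p.Prime)
    (hcz : commutator G ≤ Subgroup.center G) (hd : Nat.card (commutator G) = p)
    (hZ : p * p * Nat.card (Subgroup.center G) ≤ Nat.card G)
    (u : G) (huZ : u ∈ Subgroup.center G) (huG : u ∉ commutator G) (hup : u ^ p = 1) :
    Nat.card (MulAction.orbitRel.Quotient (MulAut G) G) ≤ Nat.card G / p := by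
  obtain ⟨t, s, hts⟩ : ∃ t s : G, ⁅t, s⁆ ≠ 1 := by
    by_contra h
    push Not at h
    apply hna
    exact ⟨⟨fun a b => commutatorElement_eq_one_iff_mul_comm.mp (h a b)⟩⟩
  apply ao_core p hp hpp hcz hd hZ t s u 1 hts (Subgroup.one_mem _)
  · intro y n _
    rw [one_pow, mul_one, mul_assoc, ← Subgroup.mem_center_iff.mp huZ y, ← mul_assoc,
      inv_mul_cancel, one_mul]
  · rw [commutatorElement_eq_one_iff_mul_comm]
    exact Subgroup.mem_center_iff.mp huZ t
  · unfold aoE
    rw [hup, one_pow, mul_one]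
  · exact huG

/-- noncentral `u` with `E p = 1` -/
theorem ao_caseII [Finite G] (p : ℕ)
    (hp : p = (Nat.card G).minFac) (hpp : p.Prime)
    (hcz : commutator G ≤ Subgroup.center G) (hd : Nat.card (commutator G) = p)
    (hZ : p * p * Nat.card (Subgroup.center G) ≤ Nat.card G)
    (u : G) (huZ : u ∉ Subgroup.center G)
    (hE : ∀ s, ⁅u, s⁆ ≠ 1 → aoE u ⁅u, s⁆ p = 1) :
    Nat.card (MulAction.orbitRel.Quotient (MulAut G) G) ≤ Nat.card G / p := by
  obtain ⟨s, hs⟩ : ∃ s : G, ⁅u, s⁆ ≠ 1 := by
    by_contra h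
    push Not at h
    apply huZ
    rw [Subgroup.mem_center_iff]
    intro g
    exact (commutatorElement_eq_one_iff_mul_comm.mp (h g)).symm
  apply ao_core p hp hpp hcz hd hZ u s u ⁅u, s⁆ hs (ao_comm_mem u s)
  · intro y n hn
    rw [ao_conj_eq hcz u y, hn]
  · exact commutatorElement_self u
  · exact hE s hs
  · exact fun h => huZ (hcz h)

theorem ao_partB [Finite G] (hna : ¬ IsMulCommutative G) (p : ℕ)
    (hp : p = (Nat.card G).minFac) (hd : Nat.card (commutator G) = p) :
    Nat.card (MulAction.orbitRel.Quotient (MulAut G) G) ≤ Nat.card G / p := by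
  have hn1 : Nat.card G ≠ 1 := by
    intro h
    apply hna
    haveI := (Nat.card_eq_one_iff_unique.mp h).1
    exact ⟨⟨fun a b => Subsingleton.elim _ _⟩⟩
  have hpp : p.Prime := by rw [hp]; exact Nat.minFac_prime hn1
  have hcz := ao_comm_le_center p hp hd
  have hZ := ao_center_index hna p hp
  by_cases hp2 : p = 2
  · subst hp2
    rcases ao_exists_two hna hcz hd with ⟨u, huZ, huG, hu2⟩ | ⟨u, huZ, hu2G, hu21⟩
    · exact ao_caseI hna 2 hp hpp hcz hd hZ u huZ huG hu2
    · apply ao_caseII 2 hp hpp hcz hd hZ u huZ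
      intro s hs
      -- ⁅u, s⁆ = u ^ 2
      obtain ⟨y, _, hy⟩ := (Nat.card_eq_two_iff' (1 : commutator G)).mp hd
      have e1 : (⟨⁅u, s⁆, ao_comm_mem u s⟩ : commutator G) = y :=
        hy _ (fun h => hs (congrArg Subtype.val h))
      have e2 : (⟨u ^ 2, hu2G⟩ : commutator G) = y :=
        hy _ (fun h => hu21 (congrArg Subtype.val h))
      have e3 : ⁅u, s⁆ = u ^ 2 := congrArg Subtype.val (e1.trans e2.symm)
      unfold aoE
      rw [e3]
      have h4 : (u ^ 2) ^ 2 = 1 := ao_pow_card_comm 2 hd _ hu2G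
      simp only [Finset.sum_range_succ, Finset.sum_range_zero, zero_add, pow_one]
      rw [← sq]; exact h4
  · obtain ⟨u, huG, hup⟩ := ao_exists_odd p hpp hp2 hcz hd hZ
    by_cases huZ : u ∈ Subgroup.center G
    · exact ao_caseI hna p hp hpp hcz hd hZ u huZ huG hup
    · apply ao_caseII p hp hpp hcz hd hZ u huZ
      intro s _
      obtain ⟨m, hm⟩ := ao_prime_dvd_sum p hpp hp2
      unfold aoE
      rw [hup, hm, pow_mul, ao_pow_card_comm p hd _ (ao_comm_mem u s), one_pow, mul_one]

theorem ao_main [Finite G] (hna : ¬ IsMulCommutative G) :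
    Nat.card (MulAction.orbitRel.Quotient (MulAut G) G) ≤
      Nat.card G / (Nat.card G).minFac := by
  set p := (Nat.card G).minFac with hp
  by_cases hd : Nat.card (commutator G) = p
  · exact ao_partB hna p hp hd
  · have hn1 : Nat.card G ≠ 1 := by
      intro h
      apply hna
      haveI := (Nat.card_eq_one_iff_unique.mp h).1
      exact ⟨⟨fun a b => Subsingleton.elim _ _⟩⟩
    have hpp : p.Prime := by rw [hp]; exact Nat.minFac_prime hn1
    have hd1 : Nat.card (commutator G) ≠ 1 := by
      intro h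
      apply hna
      have hbot := Subgroup.card_eq_one.mp h
      refine ⟨⟨fun a b => ?_⟩⟩
      have := ao_comm_mem a b
      rw [hbot, Subgroup.mem_bot] at this
      exact commutatorElement_eq_one_iff_mul_comm.mp this
    have hd0 : Nat.card (commutator G) ≠ 0 := Nat.card_pos.ne'
    have hdvd : Nat.card (commutator G) ∣ Nat.card G := Subgroup.card_subgroup_dvd_card _
    have hle : p ≤ Nat.card (commutator G) := by
      rw [hp]; exact Nat.minFac_le_of_dvd (by omega) hdvd
    have h1 := ao_classes_le (G := G) p hp (by omega)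
    have h2 := ao_orbits_le_classes (G := G)
    rw [Nat.le_div_iff_mul_le hpp.pos]
    calc _ ≤ Nat.card (ConjClasses G) * p := Nat.mul_le_mul_right _ h2
      _ ≤ _ := h1

end

end Cfsg.Agent.Lib.Helper25
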