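import Mathlib
import Cfsg.Agent.Lib.Lead.BCS.Defs
import Cfsg.Agent.Lib.helper15.S5972STDCTX

/-!
# BCS row B13, second copy (helper25), core: `bcsb13_h25core` = `bcs_pomega_not_mem` with the instances of A1, A2, A10, B12 as hypotheses.
-/

set_option autoImplicit false
set_option linter.unusedVariables false

namespace Cfsg.Agent.Lib.Lead.BCS

open Polynomial Module Matrix Cfsg.Agent.Lib.Helper13.S5955 Cfsg.Agent.Lib.helper15.S5972
  Cfsg.Agent.Lib.Helper18.ONE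

/-- `2 ≠ 0` in a finite field of odd order -/
theorem bcsb13h25_two_ne {F : Type*} [Field F] [Fintype F] (hodd : Odd (Fintype.card F)) : (2 : F) ≠ 0 := by
  intro h
  have h1 : ringChar F = 2 := CharP.ringChar_of_prime_eq_zero Nat.prime_two (by exact_mod_cast h)
  have h2 := FiniteField.even_card_of_char_two h1
  rw [Nat.odd_iff] at hodd
  omega

/-- the dimension of the standard space -/
theorem bcsb13h25_finrank {F : Type*} [Field F] (d : ℕ) :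
    finrank F (Unit ⊕ (Fin d ⊕ Fin d) → F) = 2 * d + 1 := by
  rw [Module.finrank_fintype_fun_eq_card]
  simp only [Fintype.card_sum, Fintype.card_unit, Fintype.card_fin]
  omega

/-- `toLin'` of a unit matrix `≠ 1` is `≠ 1` -/
theorem bcsb13h25_ne_one {F : Type*} [Field F] {ι : Type*} [Fintype ι] [DecidableEq ι] (Y : GL ι F)
    (hY : Y ≠ 1) : Matrix.toLin' (Y : Matrix ι ι F) ≠ 1 := by
  intro h1
  apply hY
  apply Units.ext
  apply Matrix.toLin'.injective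
  rw [h1, Units.val_one, Matrix.toLin'_one]
  rfl

/-- commuting units give commuting endomorphisms -/
theorem bcsb13h25_comm {F : Type*} [Field F] {ι : Type*} [Fintype ι] [DecidableEq ι] (A B : GL ι F)
    (h : A * B = B * A) :
    Commute (Matrix.toLin' (A : Matrix ι ι F)) (Matrix.toLin' (B : Matrix ι ι F)) := by
  show Matrix.toLin' (A : Matrix ι ι F) * Matrix.toLin' (B : Matrix ι ι F) =
    Matrix.toLin' (B : Matrix ι ι F) * Matrix.toLin' (A : Matrix ι ι F)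
  have h1 : (A : Matrix ι ι F) * (B : Matrix ι ι F) = (B : Matrix ι ι F) * (A : Matrix ι ι F) := by
    rw [← Units.val_mul, ← Units.val_mul, h]
  rw [Module.End.mul_eq_comp, Module.End.mul_eq_comp, ← Matrix.toLin'_mul, ← Matrix.toLin'_mul, h1]

/-- B13 core -/
theorem bcsb13_h25core {F : Type*} [Field F] [Fintype F] {p : ℕ} [Fact p.Prime] [CharP F p]
    (hodd : Odd (Fintype.card F)) (m : ℕ) (hm : 2 ≤ m) (ℓ : ℕ) [Fact ℓ.Prime] (hℓp : ℓ ≠ p)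
    (hℓ2 : ℓ ≠ 2) (hppd : PPD (Fintype.card F) m ℓ)
    (hA1 : ∀ y : Module.End F (Unit ⊕ (Fin (m + 1) ⊕ Fin (m + 1)) → F),
      OCtx ℓ (stdO (m + 1) F) y → y ≠ 1 → finrank F (cycS ℓ y) = 2 * m ∧ finrank F (fixS y) = 3)
    (hA2 : ∀ y : Module.End F (Unit ⊕ (Fin (m + 1) ⊕ Fin (m + 1)) → F),
      OCtx ℓ (stdO (m + 1) F) y → finrank F (cycS ℓ y) = 2 * m →
      (orderOf ((Fintype.card F : ℕ) : ZMod ℓ) = 2 * m → OTy (stdO (m + 1) F) (cycS ℓ y) (-1)) ∧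
        (orderOf ((Fintype.card F : ℕ) : ZMod ℓ) = m → OTy (stdO (m + 1) F) (cycS ℓ y) 1))
    (hA10 : ∀ y u z : Module.End F (Unit ⊕ (Fin (m + 1) ⊕ Fin (m + 1)) → F),
      OCtx ℓ (stdO (m + 1) F) y → OCtx p (stdO (m + 1) F) u → OCtx 2 (stdO (m + 1) F) z →
      Commute u y → Commute z y → Commute z u → y ≠ 1 → u ≠ 1 → z ≠ 1 →
      Even (finrank F (cycS 2 z)) → cycS 2 z = cycS ℓ y)
    (hB12 : ∀ x : GL (Unit ⊕ (Fin (m + 1) ⊕ Fin (m + 1))) F,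
      x ∈ Cfsg.Geo.omegaGL (Cfsg.quadFormOdd (m + 1) F) → x ^ 2 = 1 →
      Even (finrank F (cycS 2 (Matrix.toLin'
        (x : Matrix (Unit ⊕ (Fin (m + 1) ⊕ Fin (m + 1))) (Unit ⊕ (Fin (m + 1) ⊕ Fin (m + 1))) F)))) ∧
      ∀ s : ℤ, (s = 1 ∨ s = -1) →
        OTy (stdO (m + 1) F) (cycS 2 (Matrix.toLin'
          (x : Matrix (Unit ⊕ (Fin (m + 1) ⊕ Fin (m + 1))) (Unit ⊕ (Fin (m + 1) ⊕ Fin (m + 1))) F))) s →
        (s = 1 ↔ Fintype.card F ^ (finrank F (cycS 2 (Matrix.toLin'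
          (x : Matrix (Unit ⊕ (Fin (m + 1) ⊕ Fin (m + 1))) (Unit ⊕ (Fin (m + 1) ⊕ Fin (m + 1))) F))) / 2) % 4 = 1))
    (X : GL (Unit ⊕ (Fin (m + 1) ⊕ Fin (m + 1))) F)
    (hX : X ∈ Cfsg.Geo.omegaGL (Cfsg.quadFormOdd (m + 1) F)) (hord : orderOf X = 2 * p * ℓ) :
    False := by
  have h2 : (2 : F) ≠ 0 := bcsb13h25_two_ne hodd
  have hp : p.Prime := Fact.out
  have hℓ : ℓ.Prime := Fact.out
  have hXpow : X ^ (2 * p * ℓ) = 1 := by rw [← hord]; exact pow_orderOf_eq_one X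
  -- the three powers
  have hYΩ : X ^ (2 * p) ∈ Cfsg.Geo.omegaGL (Cfsg.quadFormOdd (m + 1) F) := Subgroup.pow_mem _ hX _
  have hUΩ : X ^ (2 * ℓ) ∈ Cfsg.Geo.omegaGL (Cfsg.quadFormOdd (m + 1) F) := Subgroup.pow_mem _ hX _
  have hZΩ : X ^ (p * ℓ) ∈ Cfsg.Geo.omegaGL (Cfsg.quadFormOdd (m + 1) F) := Subgroup.pow_mem _ hX _
  have hYr : (X ^ (2 * p)) ^ ℓ = 1 := by rw [← pow_mul]; exact hXpow
  have hUr : (X ^ (2 * ℓ)) ^ p = 1 := by
    rw [← pow_mul, show 2 * ℓ * p = 2 * p * ℓ by ring]; exact hXpow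
  have hZr : (X ^ (p * ℓ)) ^ 2 = 1 := by
    rw [← pow_mul, show p * ℓ * 2 = 2 * p * ℓ by ring]; exact hXpow
  have hY1 : X ^ (2 * p) ≠ 1 := by
    intro h
    have h1 := orderOf_dvd_of_pow_eq_one h
    rw [hord] at h1
    have h3 : 2 * p * ℓ ∣ 2 * p * 1 := by rw [mul_one]; exact h1
    have h4 : ℓ ∣ 1 := Nat.dvd_of_mul_dvd_mul_left (by have := hp.pos; omega) h3
    exact hℓ.one_lt.ne' (Nat.dvd_one.mp h4)
  have hU1 : X ^ (2 * ℓ) ≠ 1 := by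
    intro h
    have h1 := orderOf_dvd_of_pow_eq_one h
    rw [hord, show 2 * p * ℓ = 2 * ℓ * p by ring] at h1
    have h3 : 2 * ℓ * p ∣ 2 * ℓ * 1 := by rw [mul_one]; exact h1
    have h4 : p ∣ 1 := Nat.dvd_of_mul_dvd_mul_left (by have := hℓ.pos; omega) h3
    exact hp.one_lt.ne' (Nat.dvd_one.mp h4)
  have hZ1 : X ^ (p * ℓ) ≠ 1 := by
    intro h
    have h1 := orderOf_dvd_of_pow_eq_one h
    rw [hord, show 2 * p * ℓ = p * ℓ * 2 by ring] at h1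
    have h3 : p * ℓ * 2 ∣ p * ℓ * 1 := by rw [mul_one]; exact h1
    have h4 : 2 ∣ 1 := Nat.dvd_of_mul_dvd_mul_left (Nat.mul_pos hp.pos hℓ.pos) h3
    omega
  -- contexts
  have hy := std_octx h2 (m + 1) ℓ (X ^ (2 * p)) (omegaGL_le _ _ hYΩ) hYr
  have hu := std_octx h2 (m + 1) p (X ^ (2 * ℓ)) (omegaGL_le _ _ hUΩ) hUr
  have hz := std_octx h2 (m + 1) 2 (X ^ (p * ℓ)) (omegaGL_le _ _ hZΩ) hZr
  have huy := bcsb13h25_comm (X ^ (2 * ℓ)) (X ^ (2 * p)) (pow_mul_comm X _ _)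
  have hzy := bcsb13h25_comm (X ^ (p * ℓ)) (X ^ (2 * p)) (pow_mul_comm X _ _)
  have hzu := bcsb13h25_comm (X ^ (p * ℓ)) (X ^ (2 * ℓ)) (pow_mul_comm X _ _)
  have hy1 := bcsb13h25_ne_one _ hY1
  have hu1 := bcsb13h25_ne_one _ hU1
  have hz1 := bcsb13h25_ne_one _ hZ1
  have hi : OrdC (Fintype.card F) m ℓ := ppd_ordc hppd
  obtain ⟨hev, hty⟩ := hB12 (X ^ (p * ℓ)) hZΩ hZr
  have hshape := hA10 _ _ _ hy hu hz huy hzy hzu hy1 hu1 hz1 hev
  obtain ⟨hdim, -⟩ := hA1 _ hy hy1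
  obtain ⟨hA2a, hA2b⟩ := hA2 _ hy hdim
  rw [hshape] at hty
  rw [hdim, Nat.mul_div_cancel_left _ (by norm_num : 0 < 2)] at hty
  rcases hppd with ⟨hq1, hord2⟩ | ⟨hq3, hordm, -⟩
  · have h5 := (hty (-1) (Or.inr rfl) (hA2a hord2)).mpr hq1
    norm_num at h5
  · have h5 := (hty 1 (Or.inl rfl) (hA2b hordm)).mp rfl
    omega

end Cfsg.Agent.Lib.Lead.BCS
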