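import Mathlib
import Cfsg.Agent.Lib.Lead.BCG.Defs
import Cfsg.Agent.Lib.helper15.S5972STDCTX
import Cfsg.Agent.Lib.Helper24.S5972SPLIT
import Cfsg.Agent.Lib.Helper24.ElR
import Cfsg.Agent.Lib.helper7.BCSA3
import Cfsg.Agent.Lib.Helper11.BCSA5
import Cfsg.Agent.Lib.Helper11.BCSA6a
import Cfsg.Agent.Lib.Helper21.BCSA6B
import Cfsg.Agent.Lib.Helper25.BCSB13h25

set_option autoImplicit false
set_option linter.unusedVariables false

/-!
# BCG row O1 (`o_ps_nec`), helper25: core with the instances of R1 (`cof_facts`) and A16 (`o_cyc_dim`) as hypotheses.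
-/

namespace Cfsg.Agent.Lib.Lead.BCG

open Polynomial Module Matrix Cfsg.Agent.Lib.Helper13.S5955 Cfsg.Agent.Lib.helper15.S5972
  Cfsg.Agent.Lib.Helper18.ONE Cfsg.Agent.Lib.Lead.BCS

/-- O1 core: `hR1` = the first two parts of R1, `hA16` = A16 on the standard space. -/
theorem bcgo1_core {F : Type*} [Field F] [Fintype F] {p : ℕ} [Fact p.Prime] [CharP F p]
    (hodd : Odd (Fintype.card F)) (n : ℕ) (hn : 3 ≤ n) (s : ℕ) [Fact s.Prime] (hsp : s ≠ p)
    (hs2 : s ≠ 2)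
    (hR1 : Even (cOf (Fintype.card F) s) ∧ 2 ≤ cOf (Fintype.card F) s)
    (hA16 : ∀ y : Module.End F (Unit ⊕ (Fin n ⊕ Fin n) → F), OCtx s (stdO n F) y → y ≠ 1 →
      0 < finrank F (cycS s y) ∧ cOf (Fintype.card F) s ∣ finrank F (cycS s y) ∧
        finrank F (fixS y) + finrank F (cycS s y) = finrank F (Unit ⊕ (Fin n ⊕ Fin n) → F))
    (h : InO n F (p * s)) : CritP (Fintype.card F) n s := by
  obtain ⟨X, hXΩ, hord⟩ := h
  have h2 : (2 : F) ≠ 0 := bcsb13h25_two_ne hodd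
  have hp : p.Prime := Fact.out
  have hs : s.Prime := Fact.out
  have hXpow : X ^ (p * s) = 1 := by rw [← hord]; exact pow_orderOf_eq_one X
  have hYΩ : X ^ p ∈ Cfsg.Geo.omegaGL (Cfsg.quadFormOdd n F) := Subgroup.pow_mem _ hXΩ _
  have hUΩ : X ^ s ∈ Cfsg.Geo.omegaGL (Cfsg.quadFormOdd n F) := Subgroup.pow_mem _ hXΩ _
  have hYr : (X ^ p) ^ s = 1 := by rw [← pow_mul]; exact hXpow
  have hUr : (X ^ s) ^ p = 1 := by rw [← pow_mul, mul_comm]; exact hXpow
  have hY1 : X ^ p ≠ 1 := by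
    intro h
    have h1 := orderOf_dvd_of_pow_eq_one h
    rw [hord] at h1
    have h3 : p * s ∣ p * 1 := by rw [mul_one]; exact h1
    have h4 : s ∣ 1 := Nat.dvd_of_mul_dvd_mul_left hp.pos h3
    exact hs.one_lt.ne' (Nat.dvd_one.mp h4)
  have hU1 : X ^ s ≠ 1 := by
    intro h
    have h1 := orderOf_dvd_of_pow_eq_one h
    rw [hord, mul_comm] at h1
    have h3 : s * p ∣ s * 1 := by rw [mul_one]; exact h1
    have h4 : p ∣ 1 := Nat.dvd_of_mul_dvd_mul_left hs.pos h3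
    exact hp.one_lt.ne' (Nat.dvd_one.mp h4)
  have hy := std_octx h2 n s (X ^ p) (omegaGL_le _ _ hYΩ) hYr
  have hu := std_octx h2 n p (X ^ s) (omegaGL_le _ _ hUΩ) hUr
  have huy := bcsb13h25_comm (X ^ s) (X ^ p) (pow_mul_comm X _ _)
  have hy1 := bcsb13h25_ne_one _ hY1
  have hu1 := bcsb13h25_ne_one _ hU1
  generalize hydef : Matrix.toLin' ((X ^ p : GL (Unit ⊕ (Fin n ⊕ Fin n)) F) :
    Matrix (Unit ⊕ (Fin n ⊕ Fin n)) (Unit ⊕ (Fin n ⊕ Fin n)) F) = y at hy huy hy1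
  generalize hudef : Matrix.toLin' ((X ^ s : GL (Unit ⊕ (Fin n ⊕ Fin n)) F) :
    Matrix (Unit ⊕ (Fin n ⊕ Fin n)) (Unit ⊕ (Fin n ⊕ Fin n)) F) = u at hu huy hu1
  obtain ⟨hgpos, hcdvd, hsum⟩ := hA16 y hy hy1
  obtain ⟨hceven, hc2⟩ := hR1
  rw [bcsb13h25_finrank] at hsum
  unfold CritP
  by_contra hcon
  push_neg at hcon
  generalize hcdef : cOf (Fintype.card F) s = c at *
  obtain ⟨k, hk⟩ := hcdvd
  obtain ⟨c', hc'⟩ := hceven
  have hk1 : k = 1 := by
    rcases Nat.lt_or_ge k 2 with h | h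
    · interval_cases k
      · rw [mul_zero] at hk; omega
      · rfl
    · exfalso
      have : c * 2 ≤ c * k := Nat.mul_le_mul_left _ h
      omega
  subst hk1
  rw [mul_one] at hk
  have hg : finrank F (cycS s y) = 2 * n := by omega
  have hc : c = 2 * n := by omega
  have hfix1 : finrank F (fixS y) = 1 := by omega
  have hordc : OrdC (Fintype.card F) n s := ordc_of_cof (by rw [hcdef]; exact hc)
  have hucyc : ∀ w ∈ cycS s y, u w = w := by
    rcases hordc with h | ⟨h, hno⟩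
    · exact bcs_unip_cyc_irr hsp y u huy hu.pow (by rw [hg, h])
    · exact bcs_unip_cyc_split h2 hsp hy hu huy n hno h hg
  obtain ⟨hinvfix, -⟩ := bcs_comm_inv u y huy s
  have hnil : (u - 1) ^ p = 0 := by
    rw [Cfsg.Agent.Lib.Helper24.el_sub_one_pow_char, hu.pow, sub_self]
  have hfixne : fixS y ≠ ⊥ := by
    intro h
    rw [h, finrank_bot] at hfix1
    omega
  have hmeet := bcs_unip_fix u p hnil (fixS y) hinvfix hfixne
  obtain ⟨v, hv, hv0⟩ := Submodule.exists_mem_ne_zero_of_ne_bot hmeet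
  obtain ⟨hvy, hvu⟩ := Submodule.mem_inf.mp hv
  have hufix : ∀ w ∈ fixS y, u w = w := by
    intro w hw
    have hv0' : (⟨v, hvy⟩ : fixS y) ≠ 0 := by
      intro h
      exact hv0 (congrArg Subtype.val h)
    obtain ⟨a, ha⟩ := (finrank_eq_one_iff_of_nonzero' (⟨v, hvy⟩ : fixS y) hv0').mp hfix1 ⟨w, hw⟩
    have hwv : w = a • v := by
      have := congrArg Subtype.val ha
      simpa using this.symm
    rw [hwv, map_smul, (bcs_mem_fixS u v).mp hvu]
  obtain ⟨-, hcompl, -, -⟩ := o_split hsp hy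
  apply hu1
  apply LinearMap.ext
  intro v
  have hv : v ∈ fixS y ⊔ cycS s y := by rw [hcompl.sup_eq_top]; trivial
  obtain ⟨a, ha, b, hb, rfl⟩ := Submodule.mem_sup.mp hv
  rw [map_add, hufix a ha, hucyc b hb, Module.End.one_apply]

end Cfsg.Agent.Lib.Lead.BCG
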