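import Mathlib
import Cfsg.Agent.Lib.Lead.BCG.Defs
import Cfsg.Agent.Lib.Helper25.BCGO1core
import Cfsg.Agent.Lib.Helper20.BCGR1
import Cfsg.Agent.Lib.Helper20.BCGA16

set_option autoImplicit false

/-!
# BCG row O1 (`o_ps_nec`), helper25: verbatim, = `bcgo1_core` + R1 (`cof_facts`) + A16 (`o_cyc_dim`).
-/

namespace Cfsg.Agent.Lib.Lead.BCG

open Polynomial Module Matrix Cfsg.Agent.Lib.Helper13.S5955 Cfsg.Agent.Lib.helper15.S5972
  Cfsg.Agent.Lib.Helper18.ONE Cfsg.Agent.Lib.Lead.BCS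

/-- O1 [M-L]: `X` of order `ps`: `Y = X^p`, `U = X^s` (orders `s`, `p`), contexts by `std_octx`, commuting.  A16: `g = finrank cycS` is a positive multiple of `c = cOf q s`, `g ≤ 2n + 1`, `c` even (R1).
If `c + 2 > 2n` then `c = g = 2n`, `finrank (fixS y) = 1`, `OrdC q n s` (`ordc_of_cof`); BCS A6a (`i = 2n`) / A6b (`i = n` odd): `u = 1` on `cycS`; `fixS y` is `u`-invariant (BCS A3), `fixS y ⊓ fixS u ≠ ⊥`
(BCS A5, `(u-1)^p = 0`), so `u = 1` on the line `fixS y`; `u = 1`, contradiction. -/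
theorem o_ps_nec {F : Type*} [Field F] [Fintype F] {p : ℕ} [Fact p.Prime] [CharP F p]
    (hodd : Odd (Fintype.card F)) (n : ℕ) (hn : 3 ≤ n) (s : ℕ) [Fact s.Prime] (hsp : s ≠ p)
    (hs2 : s ≠ 2) (h : InO n F (p * s)) : CritP (Fintype.card F) n s := by
  have hs : s.Prime := Fact.out
  have hp : p.Prime := Fact.out
  have hsq : ¬ s ∣ Fintype.card F := by
    intro hdvd
    obtain ⟨k, -, hcard⟩ := FiniteField.card F p
    rw [hcard] at hdvd
    have := (Nat.prime_dvd_prime_iff_eq hs hp).mp (hs.dvd_of_dvd_pow hdvd)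
    exact hsp this
  obtain ⟨h1, h2, -⟩ := cof_facts (Fintype.card F) s hs hs2 hsq
  exact bcgo1_core hodd n hn s hsp hs2 ⟨h1, h2⟩
    (fun y hy hy1 => o_cyc_dim hsp hs2 hy hy1) h

end Cfsg.Agent.Lib.Lead.BCG
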