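import Mathlib
import Cfsg.Agent.Lib.Lead.BCS.Defs
import Cfsg.Agent.Lib.Helper25.BCSB13h25
import Cfsg.Agent.Lib.helper17.BCSA1
import Cfsg.Agent.Lib.Helper9.BCSA2
import Cfsg.Agent.Lib.Helper22.BCSB12
import Cfsg.Agent.Lib.Helper28.BCSA10

/-!
# BCS row B13 (helper25, second writer): `bcs_pomega_not_mem`, verbatim (`= bcsb13_h25core` + A1 + A2 + A10 + B12).
-/

set_option autoImplicit false

namespace Cfsg.Agent.Lib.Lead.BCS

open Polynomial Module Matrix Cfsg.Agent.Lib.Helper13.S5955 Cfsg.Agent.Lib.helper15.S5972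
  Cfsg.Agent.Lib.Helper18.ONE

/-- B13 [M-L]: `Y = X^(2p)`, `U = X^(2ℓ)`, `Z = X^(pℓ)` in `omegaGL ≤ isometryGroup` (helper15 `omegaGL_le`), `Y^ℓ = U^p = Z^2 = 1`, none is `1` (`orderOf X = 2pℓ` does not divide `2p`, `2ℓ`, `pℓ`);
`y = toLin' Y` etc.: helper15 `std_octx` gives the contexts; they commute (`Matrix.toLin'_mul`, powers of `X`); `≠ 1` (`toLin'` injective); `finrank = 2(m+1) + 1`.
B12 for `Z`: `dim cycS 2 z` even; A10: `cycS 2 z = cycS ℓ y` of dimension `2m` (A1), type `s` (A2), so `s = 1 ↔ q^m % 4 = 1` (B12), against `PPD`. -/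
theorem bcs_pomega_not_mem {F : Type*} [Field F] [Fintype F] {p : ℕ} [Fact p.Prime] [CharP F p]
    (hodd : Odd (Fintype.card F)) (m : ℕ) (hm : 2 ≤ m) (ℓ : ℕ) [Fact ℓ.Prime] (hℓp : ℓ ≠ p)
    (hℓ2 : ℓ ≠ 2) (hppd : PPD (Fintype.card F) m ℓ)
    (X : GL (Unit ⊕ (Fin (m + 1) ⊕ Fin (m + 1))) F)
    (hX : X ∈ Cfsg.Geo.omegaGL (Cfsg.quadFormOdd (m + 1) F)) (hord : orderOf X = 2 * p * ℓ) :
    False :=
  bcsb13_h25core hodd m hm ℓ hℓp hℓ2 hppd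
    (fun y h hy => bcs_cyc_dim hℓp hℓ2 h hy m hm (by rw [bcsb13h25_finrank]; ring) (ppd_ordc hppd))
    (fun y h hdim => bcs_cyc_ty (bcsb13h25_two_ne hodd) hℓp hℓ2 h m (by omega) hdim)
    (fun y u z h hu hz huy hzy hzu hy1 hu1 hz1 hev =>
      bcs_abs_shape (bcsb13h25_two_ne hodd) hℓp hℓ2 h hu hz huy hzy hzu hy1 hu1 hz1 m hm
        (by rw [bcsb13h25_finrank]; ring) (ppd_ordc hppd) hev)
    (fun x hx hx2 => bcs_invol_omega_ty hodd (m + 1) x hx hx2) X hX hord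

end Cfsg.Agent.Lib.Lead.BCS
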