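import Mathlib
import Cfsg.Agent.Lib.helper7.BD.D1Defs
import Cfsg.Agent.Lib.Helper25.BDTSUB

/-!
# Project BD, stage B, piece TGEN : `T / C` is cyclic
-/

set_option autoImplicit false
set_option linter.unusedVariables false
set_option linter.unusedSectionVars false
set_option linter.style.haveILetI false

namespace Cfsg.Agent.Lib.helper7.BD

universe u

section root

/-- a subgroup between `C_G(P)` and `N_G(P)` is generated by `C_G(P)` and one element, when `P` has
prime order -/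
theorem bdtgen_cyclic {G : Type*} [Group G] [Finite G] (p : ℕ) [Fact p.Prime] (P : Sylow p G)
    (hP : Nat.card P = p) (T : Subgroup G)
    (hTN : T ≤ Subgroup.normalizer ((P : Subgroup G) : Set G)) :
    ∃ t₀ : G, t₀ ∈ T ∧ ∀ t ∈ T, ∃ k : ℕ, ∃ c ∈ Subgroup.centralizer ((P : Subgroup G) : Set G),
      t = t₀ ^ k * c := by
  classical
  set H : Subgroup G := (P : Subgroup G) with hH
  haveI : IsCyclic H := isCyclic_of_prime_card hP
  haveI : Fact (Nat.card H).Prime := by rw [hP]; infer_instance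
  haveI : IsCyclic (MulAut H) :=
    isCyclic_of_surjective (IsCyclic.mulAutMulEquiv H).symm (IsCyclic.mulAutMulEquiv H).symm.surjective
  set φ := H.normalizerMonoidHom with hφ
  -- the image of `T`
  set R : Subgroup (MulAut H) := (T.subgroupOf (Subgroup.normalizer (H : Set G))).map φ with hR
  haveI : IsCyclic R := Subgroup.isCyclic _
  obtain ⟨α, hα⟩ := IsCyclic.exists_generator (α := R)
  obtain ⟨g₀, hg₀T, hg₀⟩ := Subgroup.mem_map.mp α.2
  rw [Subgroup.mem_subgroupOf] at hg₀T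
  refine ⟨(g₀ : G), hg₀T, fun t ht => ?_⟩
  have htN : t ∈ Subgroup.normalizer (H : Set G) := hTN ht
  have hmem : φ ⟨t, htN⟩ ∈ R :=
    Subgroup.mem_map.mpr ⟨⟨t, htN⟩, Subgroup.mem_subgroupOf.mpr ht, rfl⟩
  have h1 : (⟨φ ⟨t, htN⟩, hmem⟩ : R) ∈ Subgroup.zpowers α := hα _
  rw [← mem_powers_iff_mem_zpowers] at h1
  obtain ⟨k, hk⟩ := (Submonoid.mem_powers_iff _ _).1 h1
  have hk' : φ (g₀ ^ k) = φ ⟨t, htN⟩ := by
    have := congrArg Subtype.val hk
    rw [SubmonoidClass.coe_pow, ← hg₀, ← map_pow] at this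
    exact this
  have h2 : (g₀ ^ k)⁻¹ * (⟨t, htN⟩ : Subgroup.normalizer (H : Set G)) ∈ φ.ker := by
    rw [MonoidHom.mem_ker, map_mul, map_inv, hk', inv_mul_cancel]
  rw [hφ, Subgroup.normalizerMonoidHom_ker, Subgroup.mem_subgroupOf] at h2
  refine ⟨k, ((g₀ : G) ^ k)⁻¹ * t, ?_, by group⟩
  simpa using h2

variable {G : Type u} [Group G] [Fintype G] {M : Ideal Cfsg.AlgInt} {p : ℕ} [Fact p.Prime]
  {P : Sylow p G} {B : Set (Cfsg.IrrCharacter G)}
  {b : Set (Cfsg.IrrCharacter (Subgroup.centralizer ((P : Subgroup G) : Set G)))}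
  {θ : Cfsg.IrrCharacter (Subgroup.centralizer ((P : Subgroup G) : Set G))} {T : Subgroup G}

/-- M11 = TGEN : `T / C` is cyclic -/
theorem root_T_cyclic (h : RootHyp p M P B b θ T) :
    ∃ t₀ : G, t₀ ∈ T ∧ ∀ t ∈ T, ∃ k : ℕ, ∃ c ∈ Subgroup.centralizer ((P : Subgroup G) : Set G),
      t = t₀ ^ k * c :=
  bdtgen_cyclic p P h.card_P T (root_C_le_T h).2

end root

end Cfsg.Agent.Lib.helper7.BD
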