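import Cfsg.Agent.Lib.Helper25.BGL.PCDefs
import Cfsg.Agent.Lib.helper8.ChevK

/-!
# Project BGL, row PA05: `pa_beta_tab` (tables for the second highest root)
-/

set_option autoImplicit false

namespace Cfsg.Agent.Lib.Helper10.BGL

open Cfsg.Lie Cfsg.Lie.ChevalleyDatum Cfsg.Agent.Lib.helper8

/-- the list form of `h8K` -/
def bglpa05_K (D : ChevalleyDatum) (r v : ℕ) : ℤ :=
  ((List.range D.rank).map fun i => (D.coroot.getD r #[]).getD i 0 * D.cartan i v).sum

theorem bglpa05_K_eq (D : ChevalleyDatum) (r v : ℕ) : h8K D r v = bglpa05_K D r v := by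
  unfold h8K bglpa05_K
  rw [← Finset.sum_range (fun i => (D.coroot.getD r #[]).getD i 0 * D.cartan i v)]
  induction D.rank with
  | zero => rfl
  | succ n ih => rw [List.range_succ, List.map_append, List.sum_append, Finset.sum_range_succ, ih]; simp

/-- the Boolean form of the table -/
def bglpa05_chk (D : ChevalleyDatum) : Bool :=
  decide (bglBeta D < D.nroots) && decide (bglB0 D < D.nroots) && decide (D.IsPosRoot (bglBeta D)) &&
  decide (D.IsPosRoot (bglB0 D)) && decide (bglB0 D ≠ bglBeta D) &&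
  decide (bglB0 D ≠ D.negIdx.getD (bglBeta D) 0) &&
  decide (D.commTerms (bglBeta D) (bglB0 D) = [(D.nroots - 1, bglN D, 1, 1)]) &&
  decide (bglN D = 1 ∨ bglN D = -1 ∨ bglN D = 2 ∨ bglN D = -2) &&
  decide (bglpa05_K D (D.nroots - 1) (bglBeta D) = 1) &&
  ((List.range D.nroots).all fun s => !decide (D.IsPosRoot s) || decide (s = bglB0 D) ||
    decide (s = bglBeta D) ||
    (decide (s ≠ D.negIdx.getD (bglBeta D) 0) && decide (D.commTerms (bglBeta D) s = [])))

theorem bglpa05_chk_all (D : ChevalleyDatum) (hD : Seven D) : bglpa05_chk D = true := by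
  simp only [Seven, List.mem_cons, List.not_mem_nil, or_false] at hD
  rcases hD with rfl | rfl | rfl | rfl | rfl | rfl | rfl <;> decide +kernel

/-- PA05 -/
theorem pa_beta_tab (D : ChevalleyDatum) (hD : Seven D) :
    bglBeta D < D.nroots ∧ bglB0 D < D.nroots ∧ D.IsPosRoot (bglBeta D) ∧ D.IsPosRoot (bglB0 D) ∧
      bglB0 D ≠ bglBeta D ∧ bglB0 D ≠ D.negIdx.getD (bglBeta D) 0 ∧
      D.commTerms (bglBeta D) (bglB0 D) = [(D.nroots - 1, bglN D, 1, 1)] ∧
      (bglN D = 1 ∨ bglN D = -1 ∨ bglN D = 2 ∨ bglN D = -2) ∧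
      h8K D (D.nroots - 1) (bglBeta D) = 1 ∧
      ∀ s, D.IsPosRoot s → s ≠ bglB0 D → s ≠ bglBeta D →
        s ≠ D.negIdx.getD (bglBeta D) 0 ∧ D.commTerms (bglBeta D) s = [] := by
  have h := bglpa05_chk_all D hD
  unfold bglpa05_chk at h
  simp only [Bool.and_eq_true, decide_eq_true_eq, List.all_eq_true, List.mem_range, Bool.or_eq_true,
    Bool.not_eq_true', decide_eq_false_iff_not] at h
  obtain ⟨⟨⟨⟨⟨⟨⟨⟨⟨h1, h2⟩, h3⟩, h4⟩, h5⟩, h6⟩, h7⟩, h8⟩, h9⟩, h10⟩ := h
  refine ⟨h1, h2, h3, h4, h5, h6, h7, h8, ?_, ?_⟩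
  · rw [bglpa05_K_eq]; exact h9
  · intro s hs hs0 hsβ
    rcases h10 s hs.1 with ((h | h) | h) | h
    · exact absurd hs h
    · exact absurd h hs0
    · exact absurd h hsβ
    · exact h

end Cfsg.Agent.Lib.Helper10.BGL
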