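import Cfsg.Agent.Lib.Helper25.BGLPC02
import Cfsg.Agent.Lib.Helper25.BGLPA05

/-!
# Project BGL, row PA06: `pa_U_beta` (`[U, X_β] ≤ X_ρ`)
-/

set_option autoImplicit false

namespace Cfsg.Agent.Lib.Helper10.BGL

open Cfsg.Lie Cfsg.Lie.ChevalleyDatum Cfsg.Agent.Lib.helper8

universe u

variable {K : Type u} [Field K]

theorem bglpa06_xg_add (D : ChevalleyDatum) (hD : Seven D) (r : ℕ) (hr : r < D.nroots) (a b : K) :
    xg D hD r a * xg D hD r b = xg D hD r (a + b) := by
  apply Units.ext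
  rw [Units.val_mul, xg_val, xg_val, xg_val, (h8base_all.{u} D hD).add K r hr]

theorem bglpa06_xg_zero (D : ChevalleyDatum) (hD : Seven D) (r : ℕ) : xg D hD r (0 : K) = 1 := by
  apply Units.ext
  rw [xg_val, (h8base_all.{u} D hD).zero]
  rfl

theorem bglpa06_xg_inv (D : ChevalleyDatum) (hD : Seven D) (r : ℕ) (a : K) :
    (xg D hD r a)⁻¹ = xg D hD r (-a) := by
  apply Units.ext
  rfl

theorem bglpa06_xg_mem_U (D : ChevalleyDatum) (hD : Seven D) (r : ℕ) (hr : D.IsPosRoot r) (a : K) :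
    xg D hD r a ∈ D.posUnipotent K :=
  Subgroup.subset_closure ⟨r, a, hr, xg_val D hD r a⟩

/-- the commutator relation of `x_{b₀}(v)` and `x_β(s)` -/
theorem bglpa06_comm_b0 (D : ChevalleyDatum) (hD : Seven D) (s v : K) :
    xg D hD (bglB0 D) v * xg D hD (bglBeta D) s =
      xg D hD (bglBeta D) s * xg D hD (bglB0 D) v *
        xg D hD (D.nroots - 1) ((bglN D : K) * (-s) * v) := by
  have hC := h8commAll.{u} D hD
  obtain ⟨hβ, hb0, -, -, hne, hnn, hct, -, -, -⟩ := pa_beta_tab D hD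
  have h1 := hC.all (bglBeta D) hβ (bglB0 D) hb0 hne hnn K s v
  apply Units.ext
  rw [Units.val_mul, Units.val_mul, Units.val_mul, xg_val, xg_val, xg_val, h1]
  congr 1
  unfold ChevalleyDatum.commWord
  rw [hct]
  unfold ChevalleyDatum.wordMat
  simp

/-- PA06: `[U, X_β] ≤ X_ρ`. -/
theorem pa_U_beta (D : ChevalleyDatum) (hD : Seven D) (u : GL D.Idx K) (hu : u ∈ D.posUnipotent K) (s : K) :
    ∃ f : K, u * xg D hD (bglBeta D) s * u⁻¹ = xg D hD (bglBeta D) s * xg D hD (D.nroots - 1) f := by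
  have hB := h8base_all.{u} D hD
  have hC := h8commAll.{u} D hD
  obtain ⟨h2, -⟩ := bglpc05_tab D hD
  have hρ : D.nroots - 1 < D.nroots := by omega
  obtain ⟨hβ, hb0, hβpos, hb0pos, hne, hnn, hct, -, -, hrest⟩ := pa_beta_tab D hD
  revert s
  unfold ChevalleyDatum.posUnipotent at hu
  induction hu using Subgroup.closure_induction with
  | mem g hg =>
    obtain ⟨r, v, hr, hg⟩ := hg
    have hg' : g = xg D hD r v := Units.ext (by rw [hg, xg_val])
    subst hg'
    intro s
    by_cases h1 : r = bglBeta D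
    · subst h1
      refine ⟨0, ?_⟩
      rw [bglpa06_xg_zero, mul_one, bglpa06_xg_add D hD _ hβ, add_comm, ← bglpa06_xg_add D hD _ hβ,
        mul_assoc, mul_inv_cancel, mul_one]
    · by_cases h0 : r = bglB0 D
      · subst h0
        refine ⟨(bglN D : K) * (-s) * v, ?_⟩
        rw [bglpa06_comm_b0 D hD s v]
        have hc := pc_U_comm D hD (xg D hD (bglB0 D) v) (bglpa06_xg_mem_U D hD _ hb0pos v)
          ((bglN D : K) * (-s) * v)
        rw [mul_assoc (xg D hD (bglBeta D) s), hc, ← mul_assoc, mul_assoc, mul_inv_cancel, mul_one]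
      · obtain ⟨hsn, hnil⟩ := hrest r hr h0 h1
        refine ⟨0, ?_⟩
        have hc : xg D hD r v * xg D hD (bglBeta D) s = xg D hD (bglBeta D) s * xg D hD r v := by
          refine h8comm_of_zero D hB hC (bglBeta D) r hβ hr.1 hsn ?_ s v
          intro _ c hc
          rw [hnil] at hc
          cases hc
        rw [bglpa06_xg_zero, mul_one, hc, mul_assoc, mul_inv_cancel, mul_one]
  | one =>
    intro s
    refine ⟨0, ?_⟩
    rw [bglpa06_xg_zero, mul_one, one_mul, inv_one, mul_one]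
  | mul a b ha hb iha ihb =>
    intro s
    obtain ⟨fb, hfb⟩ := ihb s
    obtain ⟨fa, hfa⟩ := iha s
    refine ⟨fa + fb, ?_⟩
    have haU : a ∈ D.posUnipotent K := ha
    have hc := pc_U_comm D hD a haU fb
    calc a * b * xg D hD (bglBeta D) s * (a * b)⁻¹
        = a * (b * xg D hD (bglBeta D) s * b⁻¹) * a⁻¹ := by group
      _ = a * (xg D hD (bglBeta D) s * xg D hD (D.nroots - 1) fb) * a⁻¹ := by rw [hfb]
      _ = (a * xg D hD (bglBeta D) s * a⁻¹) * (a * xg D hD (D.nroots - 1) fb * a⁻¹) := by group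
      _ = (xg D hD (bglBeta D) s * xg D hD (D.nroots - 1) fa) * xg D hD (D.nroots - 1) fb := by
          rw [hfa, hc, mul_assoc (xg D hD (D.nroots - 1) fb), mul_inv_cancel, mul_one]
      _ = xg D hD (bglBeta D) s * xg D hD (D.nroots - 1) (fa + fb) := by
          rw [mul_assoc, bglpa06_xg_add D hD _ hρ]
  | inv a ha iha =>
    intro s
    obtain ⟨f, hf⟩ := iha s
    refine ⟨-f, ?_⟩
    have haU : a ∈ D.posUnipotent K := ha
    have hc := pc_U_comm D hD a haU f
    -- `a⁻¹ * (x_β(s) x_ρ(f)) * a = x_β(s)`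
    have e1 : a⁻¹ * (xg D hD (bglBeta D) s * xg D hD (D.nroots - 1) f) * a = xg D hD (bglBeta D) s := by
      rw [← hf]; group
    have e2 : a⁻¹ * xg D hD (D.nroots - 1) f * a = xg D hD (D.nroots - 1) f := by
      rw [mul_assoc, ← hc, ← mul_assoc, inv_mul_cancel, one_mul]
    have e3 : a⁻¹ * (xg D hD (bglBeta D) s * xg D hD (D.nroots - 1) f) * a =
        (a⁻¹ * xg D hD (bglBeta D) s * a) * (a⁻¹ * xg D hD (D.nroots - 1) f * a) := by group
    rw [e3, e2] at e1
    rw [inv_inv, ← bglpa06_xg_inv]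
    exact eq_mul_inv_of_mul_eq e1

end Cfsg.Agent.Lib.Helper10.BGL
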