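import Cfsg.Agent.Lib.Helper25.BGLPC05
import Cfsg.Agent.Lib.helper8.ChevBorel
import Cfsg.Agent.Lib.helper8.ChevCent1
import Cfsg.Agent.Lib.helper8.ChevCommAll

/-!
# Project BGL, rows PC02 (`pc_U_col`, `pc_U_row`), PC03 (`pc_B_col`, `pc_B_row`), PC04 (`pc_U_comm`)
-/

set_option autoImplicit false

namespace Cfsg.Agent.Lib.Helper10.BGL

open Cfsg.Lie Cfsg.Lie.ChevalleyDatum Cfsg.Agent.Lib.helper8

universe u

variable {K : Type u} [Field K]

theorem bglpc02_rho_top (D : ChevalleyDatum) (h2 : 2 ≤ D.nroots) (h0 : 0 < D.nroots) :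
    h8rho D (iTop D h0) = D.rank + (D.nroots - 1) := by
  show (if D.nroots - 1 < D.nroots / 2 then D.nroots - 1 else D.rank + (D.nroots - 1)) = _
  rw [if_neg (by omega)]

theorem bglpc02_rho_bot (D : ChevalleyDatum) (h2 : 2 ≤ D.nroots) (h0 : 0 < D.nroots) :
    h8rho D (iBot D h0) = 0 := by
  show (if 0 < D.nroots / 2 then 0 else D.rank + 0) = 0
  rw [if_pos (by omega)]

theorem bglpc02_eq_top (D : ChevalleyDatum) (h2 : 2 ≤ D.nroots) (h0 : 0 < D.nroots) (i : D.Idx)
    (h : D.rank + (D.nroots - 1) ≤ h8rho D i) : i = iTop D h0 := by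
  rcases i with k | s
  · exfalso
    have := k.2
    change D.rank + (D.nroots - 1) ≤ D.nroots / 2 + k.val at h
    omega
  · have := s.2
    change D.rank + (D.nroots - 1) ≤ (if s.val < D.nroots / 2 then s.val else D.rank + s.val) at h
    unfold iTop
    congr 1
    apply Fin.ext
    show s.val = D.nroots - 1
    split_ifs at h <;> omega

theorem bglpc02_eq_bot (D : ChevalleyDatum) (h2 : 2 ≤ D.nroots) (h0 : 0 < D.nroots) (j : D.Idx)
    (h : h8rho D j ≤ 0) : j = iBot D h0 := by
  rcases j with k | s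
  · exfalso
    change D.nroots / 2 + k.val ≤ 0 at h
    omega
  · change (if s.val < D.nroots / 2 then s.val else D.rank + s.val) ≤ 0 at h
    unfold iBot
    congr 1
    apply Fin.ext
    show s.val = 0
    split_ifs at h <;> omega

/-- PC02 -/
theorem pc_U_col (D : ChevalleyDatum) (hD : Seven D) (h0 : 0 < D.nroots) (u : GL D.Idx K)
    (hu : u ∈ D.posUnipotent K) (i : D.Idx) :
    (u : Matrix D.Idx D.Idx K) i (iTop D h0) = if i = iTop D h0 then 1 else 0 := by
  have hB := h8base_all.{u} D hD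
  obtain ⟨h2, -⟩ := bglpc05_tab D hD
  have hU := h8_posUnipotent_unitri D hB.posOK u hu
  have h1 : ((u : Matrix D.Idx D.Idx K) - 1) i (iTop D h0) = 0 := by
    by_contra hne
    have := hU i (iTop D h0) hne
    rw [bglpc02_rho_top D h2 h0] at this
    have hlt := h8rho_lt D i
    omega
  rw [Matrix.sub_apply, sub_eq_zero] at h1
  rw [h1, Matrix.one_apply]

theorem pc_U_row (D : ChevalleyDatum) (hD : Seven D) (h0 : 0 < D.nroots) (u : GL D.Idx K)
    (hu : u ∈ D.posUnipotent K) (j : D.Idx) :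
    (u : Matrix D.Idx D.Idx K) (iBot D h0) j = if j = iBot D h0 then 1 else 0 := by
  have hB := h8base_all.{u} D hD
  obtain ⟨h2, -⟩ := bglpc05_tab D hD
  have hU := h8_posUnipotent_unitri D hB.posOK u hu
  have h1 : ((u : Matrix D.Idx D.Idx K) - 1) (iBot D h0) j = 0 := by
    by_contra hne
    have := hU (iBot D h0) j hne
    rw [bglpc02_rho_bot D h2 h0] at this
    omega
  rw [Matrix.sub_apply, sub_eq_zero] at h1
  rw [h1, Matrix.one_apply]
  by_cases h : j = iBot D h0
  · rw [if_pos h, if_pos h.symm]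
  · rw [if_neg h, if_neg (Ne.symm h)]

/-- PC03 -/
theorem pc_B_col (D : ChevalleyDatum) (hD : Seven D) (h0 : 0 < D.nroots) (b : GL D.Idx K)
    (hb : b ∈ D.borelSubgroup K) (i : D.Idx) (hi : i ≠ iTop D h0) :
    (b : Matrix D.Idx D.Idx K) i (iTop D h0) = 0 := by
  have hB := h8base_all.{u} D hD
  obtain ⟨h2, -⟩ := bglpc05_tab D hD
  have hT := (h8_B_le_tri D hB hb).1
  by_contra hne
  have := hT i (iTop D h0) hne
  rw [bglpc02_rho_top D h2 h0, add_zero] at this
  exact hi (bglpc02_eq_top D h2 h0 i this)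

theorem pc_B_row (D : ChevalleyDatum) (hD : Seven D) (h0 : 0 < D.nroots) (b : GL D.Idx K)
    (hb : b ∈ D.borelSubgroup K) (j : D.Idx) (hj : j ≠ iBot D h0) :
    (b : Matrix D.Idx D.Idx K) (iBot D h0) j = 0 := by
  have hB := h8base_all.{u} D hD
  obtain ⟨h2, -⟩ := bglpc05_tab D hD
  have hT := (h8_B_le_tri D hB hb).1
  by_contra hne
  have := hT (iBot D h0) j hne
  rw [bglpc02_rho_bot D h2 h0, add_zero] at this
  exact hj (bglpc02_eq_bot D h2 h0 j this)

/-- the table check of PC04: the positive roots commute with `ρ` -/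
def bglpc04_chk (D : ChevalleyDatum) : Bool :=
  (List.range D.nroots).all fun s => !decide (D.IsPosRoot s) ||
    (decide (s ≠ D.negIdx.getD (D.nroots - 1) 0) &&
      (decide (s = D.nroots - 1) || (D.commTerms (D.nroots - 1) s).isEmpty))

theorem bglpc04_chk_all (D : ChevalleyDatum) (hD : Seven D) : bglpc04_chk D = true := by
  simp only [Seven, List.mem_cons, List.not_mem_nil, or_false] at hD
  rcases hD with rfl | rfl | rfl | rfl | rfl | rfl | rfl <;> decide +kernel

/-- PC04: `U` centralises `X_ρ`. -/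
theorem pc_U_comm (D : ChevalleyDatum) (hD : Seven D) (u : GL D.Idx K) (hu : u ∈ D.posUnipotent K) (t : K) :
    u * xg D hD (D.nroots - 1) t = xg D hD (D.nroots - 1) t * u := by
  have hB := h8base_all.{u} D hD
  have hC := h8commAll.{u} D hD
  obtain ⟨h2, -⟩ := bglpc05_tab D hD
  have hρ : D.nroots - 1 < D.nroots := by omega
  have hchk := bglpc04_chk_all D hD
  unfold bglpc04_chk at hchk
  simp only [List.all_eq_true, List.mem_range, Bool.or_eq_true, Bool.not_eq_true',
    decide_eq_false_iff_not, Bool.and_eq_true, decide_eq_true_eq, List.isEmpty_iff] at hchk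
  have hcent : D.posUnipotent K ≤ Subgroup.centralizer {xg D hD (D.nroots - 1) t} := by
    unfold ChevalleyDatum.posUnipotent
    rw [Subgroup.closure_le]
    rintro g ⟨s, v, hs, hg⟩
    have hg' : g = h8xU D hB s v := Units.ext (by rw [hg, h8xU_val])
    rw [hg', SetLike.mem_coe, Subgroup.mem_centralizer_iff]
    intro x hx
    rw [Set.mem_singleton_iff.mp hx]
    rcases hchk s hs.1 with h1 | ⟨h1, h3⟩
    · exact absurd hs h1
    · refine (h8comm_of_zero D hB hC (D.nroots - 1) s hρ hs.1 h1 ?_ t v).symm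
      intro hsr c hc
      rcases h3 with h3 | h3
      · exact absurd h3 hsr
      · rw [h3] at hc
        cases hc
  have := hcent hu
  rw [Subgroup.mem_centralizer_iff] at this
  exact (this _ rfl).symm

end Cfsg.Agent.Lib.Helper10.BGL
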