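import Cfsg.Agent.Lib.Helper25.BGLPC05
import Cfsg.Agent.Lib.helper8.ChevBN1
import Cfsg.Agent.Lib.helper8.ChevReflAll
import Cfsg.Agent.Lib.helper8.ChevOrbAll

/-!
# Project BGL, row PC06: `pc_N_act` (the monomial group acts on root elements and root vectors with the same coefficient)
-/

set_option autoImplicit false

namespace Cfsg.Agent.Lib.Helper10.BGL

open Cfsg.Lie Cfsg.Lie.ChevalleyDatum Cfsg.Agent.Lib.helper8

universe u

variable {K : Type u} [Field K]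

/-- the invariant of the induction -/
def bglpc06_Inv (D : ChevalleyDatum) (n : GL D.Idx K) : Prop :=
  ∃ σ τ : ℕ → ℕ, ∃ hσ : ∀ r < D.nroots, σ r < D.nroots, ∃ _hτ : ∀ r < D.nroots, τ r < D.nroots,
    (∀ r < D.nroots, τ (σ r) = r) ∧ (∀ r < D.nroots, σ (τ r) = r) ∧
    (∀ P : ℕ → Prop, ReflStable D P → ∀ r < D.nroots, P r → P (σ r)) ∧
    (∀ P : ℕ → Prop, ReflStable D P → ∀ r < D.nroots, P r → P (τ r)) ∧
    ∀ (r : ℕ) (hr : r < D.nroots), ∃ c : K, c ≠ 0 ∧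
      (∀ s : K, (n : Matrix D.Idx D.Idx K) * D.x K r s = D.x K (σ r) (c * s) * (n : Matrix D.Idx D.Idx K)) ∧
      ∀ i : D.Idx, (n : Matrix D.Idx D.Idx K) i (Sum.inr ⟨r, hr⟩) =
        if i = Sum.inr ⟨σ r, hσ r hr⟩ then c else 0

theorem bglpc06_mul_col {ι : Type*} [Fintype ι] [DecidableEq ι] (A B : Matrix ι ι K) (i j k : ι) (c : K)
    (h : ∀ l, B l j = if l = k then c else 0) : (A * B) i j = A i k * c := by
  rw [Matrix.mul_apply, Finset.sum_eq_single k]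
  · rw [h k, if_pos rfl]
  · intro l _ hl
    rw [h l, if_neg hl, mul_zero]
  · intro hk
    exact absurd (Finset.mem_univ k) hk

theorem bglpc06_one (D : ChevalleyDatum) : bglpc06_Inv D (1 : GL D.Idx K) := by
  refine ⟨id, id, fun r hr => hr, fun r hr => hr, fun _ _ => rfl, fun _ _ => rfl,
    fun P _ r _ h => h, fun P _ r _ h => h, ?_⟩
  intro r hr
  refine ⟨1, one_ne_zero, ?_, ?_⟩
  · intro s
    rw [Units.val_one, one_mul, mul_one, one_mul]
    rfl
  · intro i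
    rw [Units.val_one, Matrix.one_apply]
    rfl

theorem bglpc06_mul (D : ChevalleyDatum) (a b : GL D.Idx K) (ha : bglpc06_Inv D a) (hb : bglpc06_Inv D b) :
    bglpc06_Inv D (a * b) := by
  obtain ⟨σa, τa, hσa, hτa, ha1, ha2, hPa, hPa', hacta⟩ := ha
  obtain ⟨σb, τb, hσb, hτb, hb1, hb2, hPb, hPb', hactb⟩ := hb
  refine ⟨σa ∘ σb, τb ∘ τa, fun r hr => hσa _ (hσb r hr), fun r hr => hτb _ (hτa r hr), ?_, ?_, ?_, ?_, ?_⟩
  · intro r hr
    show τb (τa (σa (σb r))) = r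
    rw [ha1 _ (hσb r hr), hb1 r hr]
  · intro r hr
    show σa (σb (τb (τa r))) = r
    rw [hb2 _ (hτa r hr), ha2 r hr]
  · intro P hP r hr h
    exact hPa P hP _ (hσb r hr) (hPb P hP r hr h)
  · intro P hP r hr h
    exact hPb' P hP _ (hτa r hr) (hPa' P hP r hr h)
  · intro r hr
    obtain ⟨cb, hcb, hconjb, hcolb⟩ := hactb r hr
    obtain ⟨ca, hca, hconja, hcola⟩ := hacta (σb r) (hσb r hr)
    refine ⟨ca * cb, mul_ne_zero hca hcb, ?_, ?_⟩
    · intro s
      rw [Units.val_mul, mul_assoc, hconjb s, ← mul_assoc, hconja (cb * s), mul_assoc, mul_assoc]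
      rfl
    · intro i
      rw [Units.val_mul, bglpc06_mul_col _ _ i _ _ cb (fun l => hcolb l), hcola i]
      show (if i = Sum.inr ⟨σa (σb r), _⟩ then ca else 0) * cb = if i = Sum.inr ⟨σa (σb r), _⟩ then ca * cb else 0
      split_ifs
      · rfl
      · rw [zero_mul]

theorem bglpc06_inv (D : ChevalleyDatum) (a : GL D.Idx K) (ha : bglpc06_Inv D a) :
    bglpc06_Inv D a⁻¹ := by
  obtain ⟨σ, τ, hσ, hτ, h1, h2, hP, hP', hact⟩ := ha
  refine ⟨τ, σ, hτ, hσ, h2, h1, hP', hP, ?_⟩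
  intro r' hr'
  obtain ⟨c, hc, hconj, hcol⟩ := hact (τ r') (hτ r' hr')
  have i1 : ((a⁻¹ : GL D.Idx K) : Matrix D.Idx D.Idx K) * (a : Matrix D.Idx D.Idx K) = 1 := by
    rw [← Units.val_mul, inv_mul_cancel, Units.val_one]
  have i2 : (a : Matrix D.Idx D.Idx K) * ((a⁻¹ : GL D.Idx K) : Matrix D.Idx D.Idx K) = 1 := by
    rw [← Units.val_mul, mul_inv_cancel, Units.val_one]
  have hστ : σ (τ r') = r' := h2 r' hr'
  refine ⟨c⁻¹, inv_ne_zero hc, ?_, ?_⟩
  · intro s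
    have e := hconj (c⁻¹ * s)
    rw [← mul_assoc, mul_inv_cancel₀ hc, one_mul, hστ] at e
    -- e : a * x_{τ r'}(c⁻¹ s) = x_{r'}(s) * a
    have e' : ((a⁻¹ : GL D.Idx K) : Matrix D.Idx D.Idx K) * ((a : Matrix D.Idx D.Idx K) *
        D.x K (τ r') (c⁻¹ * s)) * ((a⁻¹ : GL D.Idx K) : Matrix D.Idx D.Idx K) =
        ((a⁻¹ : GL D.Idx K) : Matrix D.Idx D.Idx K) * (D.x K r' s * (a : Matrix D.Idx D.Idx K)) *
        ((a⁻¹ : GL D.Idx K) : Matrix D.Idx D.Idx K) := by rw [e]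
    rw [← mul_assoc, i1, one_mul, mul_assoc, mul_assoc, i2, mul_one] at e'
    exact e'.symm
  · intro i
    -- column `τ r'` of `a⁻¹ * a = 1`
    have e : (((a⁻¹ : GL D.Idx K) : Matrix D.Idx D.Idx K) * (a : Matrix D.Idx D.Idx K)) i
        (Sum.inr ⟨τ r', hτ r' hr'⟩) =
        ((a⁻¹ : GL D.Idx K) : Matrix D.Idx D.Idx K) i (Sum.inr ⟨σ (τ r'), hσ _ (hτ r' hr')⟩) * c :=
      bglpc06_mul_col _ _ i _ _ c (fun l => hcol l)
    rw [i1, Matrix.one_apply] at e
    have hidx : (Sum.inr ⟨σ (τ r'), hσ _ (hτ r' hr')⟩ : D.Idx) = Sum.inr ⟨r', hr'⟩ := by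
      congr 1
      exact Fin.ext hστ
    rw [hidx] at e
    have : ((a⁻¹ : GL D.Idx K) : Matrix D.Idx D.Idx K) i (Sum.inr ⟨r', hr'⟩) =
        (if i = Sum.inr ⟨τ r', hτ r' hr'⟩ then 1 else 0) * c⁻¹ := by
      rw [e, mul_assoc, mul_inv_cancel₀ hc, mul_one]
    rw [this]
    split_ifs
    · rw [one_mul]
    · rw [zero_mul]

/-- a torus element satisfies the invariant -/
theorem bglpc06_H (D : ChevalleyDatum) (hD : Seven D) (t : GL D.Idx K) (ht : t ∈ D.diagonalSubgroup K) :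
    bglpc06_Inv D t := by
  have hB := h8base_all.{u} D hD
  obtain ⟨h2, -⟩ := bglpc05_tab D hD
  have h0 : 0 < D.nroots := by omega
  obtain ⟨d, hd⟩ := h8_diag_of_mem_H D hB t ht
  obtain ⟨d', hd'⟩ := h8_diag_of_mem_H D hB t⁻¹ (Subgroup.inv_mem _ ht)
  have hI := bglpc05_inv D hD h0 t ht
  refine ⟨id, id, fun r hr => hr, fun r hr => hr, fun _ _ => rfl, fun _ _ => rfl,
    fun P _ r _ h => h, fun P _ r _ h => h, ?_⟩
  intro r hr
  refine ⟨(t : Matrix D.Idx D.Idx K) (Sum.inr ⟨r, hr⟩) (Sum.inr ⟨r, hr⟩), ?_, ?_, ?_⟩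
  · intro h
    have := bglpc05_inv_entry t d d' hd hd' (Sum.inr ⟨r, hr⟩)
    rw [h, zero_mul] at this
    exact zero_ne_one this
  · intro s
    exact hI.1 r hr s
  · intro i
    show (t : Matrix D.Idx D.Idx K) i (Sum.inr ⟨r, hr⟩) =
      if i = Sum.inr ⟨r, hr⟩ then (t : Matrix D.Idx D.Idx K) (Sum.inr ⟨r, hr⟩) (Sum.inr ⟨r, hr⟩) else 0
    by_cases hi : i = Sum.inr ⟨r, hr⟩
    · rw [if_pos hi, hi]
    · rw [if_neg hi, hd, Matrix.diagonal_apply_ne _ hi]

/-- a simple reflection satisfies the invariant -/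
theorem bglpc06_nU (D : ChevalleyDatum) (hD : Seven D) (j : ℕ) (hj : j < D.rank) :
    bglpc06_Inv D (h8nU D (h8base_all.{u} D hD) (D.simple j) (1 : K)) := by
  have hA := h8reflAll D hD
  obtain ⟨eta, hN, hE, hRc⟩ := hA.refl j hj
  have hR := h8reflChk_spec D j hj eta hN hE hA.ce hA.ca hRc
  have hstab : ∀ P : ℕ → Prop, ReflStable D P → ∀ r < D.nroots, P r → P (D.reflectRoot j r) :=
    fun P hP r hr h => hP j hj r hr h
  refine ⟨D.reflectRoot j, D.reflectRoot j, hR.lt, hR.lt, hR.invol, hR.invol, hstab, hstab, ?_⟩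
  intro s hs
  refine ⟨((eta.getD s 0 : ℤ) : K), ?_, ?_, ?_⟩
  · rcases hR.eta1 s hs with h | h
    · show ((eta.getD s 0 : ℤ) : K) ≠ 0
      rw [h]; norm_num
    · show ((eta.getD s 0 : ℤ) : K) ≠ 0
      rw [h]; norm_num
  · intro t
    rw [h8nU_val]
    exact h8n_simple_conj D j hj eta hN hE hA.ce hA.ca hRc s hs t
  · intro i
    rw [h8nU_val, h8nMat_eq_NM D j hj eta hN]
    rcases i with i' | s'
    · rw [if_neg (by simp)]
      rfl
    · show (if (s' : ℕ) = D.reflectRoot j s then (((eta.getD s 0 : ℤ)) : K) else 0) = _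
      by_cases h : (s' : ℕ) = D.reflectRoot j s
      · rw [if_pos h, if_pos]
        congr 1
        exact Fin.ext h
      · rw [if_neg h, if_neg]
        intro h'
        apply h
        exact congrArg Fin.val (Sum.inr.inj h')

theorem bglpc06_all (D : ChevalleyDatum) (hD : Seven D) (n : GL D.Idx K) (hn : n ∈ D.monomialSubgroup K) :
    bglpc06_Inv D n := by
  have hB := h8base_all.{u} D hD
  have hA := h8reflAll D hD
  obtain ⟨dep, par, horb⟩ := h8orb_chk_all D hD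
  rw [h8N_eq D hB hA dep par horb, sup_comm, ← Subgroup.closure_eq (D.diagonalSubgroup K),
    ← Subgroup.closure_union] at hn
  induction hn using Subgroup.closure_induction with
  | mem x hx =>
    rcases hx with ⟨j, hj, rfl⟩ | hx
    · exact bglpc06_nU D hD j hj
    · exact bglpc06_H D hD x hx
  | one => exact bglpc06_one D
  | mul a b _ _ ha hb => exact bglpc06_mul D a b ha hb
  | inv a _ ha => exact bglpc06_inv D a ha

/-- PC06: the monomial group acts on root elements and on root vectors with the same coefficient. -/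
theorem pc_N_act (D : ChevalleyDatum) (hD : Seven D) (n : GL D.Idx K) (hn : n ∈ D.monomialSubgroup K) :
    ∃ σ : ℕ → ℕ, ∃ hσ : ∀ r < D.nroots, σ r < D.nroots,
      (∀ P : ℕ → Prop, ReflStable D P → ∀ r < D.nroots, P r → P (σ r)) ∧
      ∀ (r : ℕ) (hr : r < D.nroots), ∃ c : K, c ≠ 0 ∧
        (∀ s : K, n * xg D hD r s * n⁻¹ = xg D hD (σ r) (c * s)) ∧
        ∀ i : D.Idx, (n : Matrix D.Idx D.Idx K) i (Sum.inr ⟨r, hr⟩) =
          if i = Sum.inr ⟨σ r, hσ r hr⟩ then c else 0 := by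
  obtain ⟨σ, τ, hσ, hτ, h1, h2, hP, hP', hact⟩ := bglpc06_all D hD n hn
  refine ⟨σ, hσ, hP, ?_⟩
  intro r hr
  obtain ⟨c, hc, hconj, hcol⟩ := hact r hr
  refine ⟨c, hc, ?_, hcol⟩
  intro s
  rw [mul_inv_eq_iff_eq_mul]
  apply Units.ext
  rw [Units.val_mul, Units.val_mul, xg_val, xg_val]
  exact hconj s

end Cfsg.Agent.Lib.Helper10.BGL
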