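import Cfsg.Agent.Lib.Helper25.BGLPC02
import Cfsg.Agent.Lib.Helper25.BGLPC06
import Cfsg.Agent.S1100
import Cfsg.Agent.Lib.helper8.ChevGroup

/-!
# Project BGL, row PC07: `pc_bruhat_top` (Bruhat form and the entry `(-ρ, ρ)`)
-/

set_option autoImplicit false

namespace Cfsg.Agent.Lib.Helper10.BGL

open Cfsg.Lie Cfsg.Lie.ChevalleyDatum Cfsg.Agent.Lib.helper8

universe u

variable {K : Type u} [Field K]

/-- an entry of a product with a matrix whose column is a multiple of a basis vector -/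
theorem bglpc07_mul_col {ι : Type*} [Fintype ι] [DecidableEq ι] (A B : Matrix ι ι K) (i j k : ι) (c : K)
    (h : ∀ l, B l j = if l = k then c else 0) : (A * B) i j = A i k * c := by
  rw [Matrix.mul_apply, Finset.sum_eq_single k]
  · rw [h k, if_pos rfl]
  · intro l _ hl
    rw [h l, if_neg hl, mul_zero]
  · intro hk
    exact absurd (Finset.mem_univ k) hk

/-- an entry of a product with a matrix whose row is a multiple of a basis covector -/
theorem bglpc07_row_mul {ι : Type*} [Fintype ι] [DecidableEq ι] (A B : Matrix ι ι K) (i j k : ι) (c : K)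
    (h : ∀ l, A i l = if l = k then c else 0) : (A * B) i j = c * B k j := by
  rw [Matrix.mul_apply, Finset.sum_eq_single k]
  · rw [h k, if_pos rfl]
  · intro l _ hl
    rw [h l, if_neg hl, zero_mul]
  · intro hk
    exact absurd (Finset.mem_univ k) hk

/-- PC07: Bruhat form and the entry `(-ρ, ρ)`. -/
theorem pc_bruhat_top (D : ChevalleyDatum) (hD : Seven D) (g : GL D.Idx K) (hg : g ∈ D.group K) :
    ∃ u ∈ D.posUnipotent K, ∃ t ∈ D.diagonalSubgroup K, ∃ r' < D.nroots, ∃ c₁ c₂ : K, c₁ ≠ 0 ∧ c₂ ≠ 0 ∧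
      (∀ P : ℕ → Prop, ReflStable D P → P (D.nroots - 1) → P r') ∧
      (∀ s : K, (u * t)⁻¹ * xg D hD (D.nroots - 1) s * (u * t) = xg D hD (D.nroots - 1) (c₁ * s)) ∧
      (∀ s : K, (u * t)⁻¹ * (g * xg D hD (D.nroots - 1) s * g⁻¹) * (u * t) = xg D hD r' (c₂ * s)) ∧
      topEntry D (g : Matrix D.Idx D.Idx K) = if r' = 0 then c₁ * c₂ else 0 := by
  have hB := h8base_all.{u} D hD
  have h2 : 2 ≤ D.nroots := (bglpc05_tab D hD).1
  have h0 : 0 < D.nroots := by omega
  have hρ : D.nroots - 1 < D.nroots := by omega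
  -- Bruhat form
  obtain ⟨b, hb, n, hn, v, hv, rfl⟩ := (Cfsg.Agent.S1100.result (F := K) D hD).1 g hg
  have hvU : v ∈ D.posUnipotent K := by
    revert hv
    apply Subgroup.closure_mono
    rintro z ⟨r, s, hr, _, hz⟩
    exact ⟨r, s, hr, hz⟩
  have hmemB : b ∈ ((D.posUnipotent K ⊔ D.diagonalSubgroup K : Subgroup (GL D.Idx K)) :
      Set (GL D.Idx K)) := hb
  rw [Subgroup.coe_mul_of_right_le_normalizer_left _ _ (h8_H_le_normalizer_U D hB)] at hmemB
  obtain ⟨u, hu, t, ht, rfl⟩ := hmemB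
  have hti : t⁻¹ ∈ D.diagonalSubgroup K := Subgroup.inv_mem _ ht
  obtain ⟨tdiag, tact, tinv⟩ := pc_H_act D hD t ht
  obtain ⟨tidiag, tiact, tiinv⟩ := pc_H_act D hD t⁻¹ hti
  obtain ⟨σ, hσ, hP, hact⟩ := pc_N_act D hD n hn
  obtain ⟨c₂, hc₂, hconj, hcol⟩ := hact (D.nroots - 1) hρ
  set c₁ : K := ((t⁻¹ : GL D.Idx K) : Matrix D.Idx D.Idx K) (iTop D h0) (iTop D h0) with hc₁def
  have hc₁ : c₁ ≠ 0 := by
    intro h
    have := tiinv h0
    rw [← hc₁def, h, mul_zero] at this
    exact zero_ne_one this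
  -- `t_{bot,bot} = c₁`
  have htt : ((t⁻¹ : GL D.Idx K) : Matrix D.Idx D.Idx K) (iTop D h0) (iTop D h0) *
      (t : Matrix D.Idx D.Idx K) (iTop D h0) (iTop D h0) = 1 := by
    have e : ((t⁻¹ * t : GL D.Idx K) : Matrix D.Idx D.Idx K) (iTop D h0) (iTop D h0) = 1 := by
      rw [inv_mul_cancel, Units.val_one, Matrix.one_apply_eq]
    rw [Units.val_mul, Matrix.mul_apply, Finset.sum_eq_single (iTop D h0)] at e
    · exact e
    · intro l _ hl
      rw [tdiag l (iTop D h0) hl, mul_zero]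
    · intro hk
      exact absurd (Finset.mem_univ _) hk
  have htop_ne : (t : Matrix D.Idx D.Idx K) (iTop D h0) (iTop D h0) ≠ 0 := by
    intro h
    rw [h, mul_zero] at htt
    exact zero_ne_one htt
  have hbot : (t : Matrix D.Idx D.Idx K) (iBot D h0) (iBot D h0) = c₁ := by
    have e1 := tinv h0
    have : (t : Matrix D.Idx D.Idx K) (iBot D h0) (iBot D h0) *
        (t : Matrix D.Idx D.Idx K) (iTop D h0) (iTop D h0) =
        c₁ * (t : Matrix D.Idx D.Idx K) (iTop D h0) (iTop D h0) := by rw [e1, hc₁def, htt]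
    exact mul_right_cancel₀ htop_ne this
  refine ⟨u, hu, t, ht, σ (D.nroots - 1), hσ _ hρ, c₁, c₂, hc₁, hc₂,
    fun P hPs hPρ => hP P hPs _ hρ hPρ, ?_, ?_, ?_⟩
  · intro s
    have e1 : u⁻¹ * xg D hD (D.nroots - 1) s * u = xg D hD (D.nroots - 1) s := by
      rw [mul_assoc, ← pc_U_comm D hD u hu s, ← mul_assoc, inv_mul_cancel, one_mul]
    have e2 := tiact (D.nroots - 1) hρ s
    rw [inv_inv] at e2
    calc (u * t)⁻¹ * xg D hD (D.nroots - 1) s * (u * t)
        = t⁻¹ * (u⁻¹ * xg D hD (D.nroots - 1) s * u) * t := by group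
      _ = t⁻¹ * xg D hD (D.nroots - 1) s * t := by rw [e1]
      _ = xg D hD (D.nroots - 1) (c₁ * s) := e2
  · intro s
    have e1 : v * xg D hD (D.nroots - 1) s * v⁻¹ = xg D hD (D.nroots - 1) s := by
      rw [pc_U_comm D hD v hvU s, mul_assoc, mul_inv_cancel, mul_one]
    calc (u * t)⁻¹ * (u * t * n * v * xg D hD (D.nroots - 1) s * (u * t * n * v)⁻¹) * (u * t)
        = n * (v * xg D hD (D.nroots - 1) s * v⁻¹) * n⁻¹ := by group
      _ = n * xg D hD (D.nroots - 1) s * n⁻¹ := by rw [e1]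
      _ = xg D hD (σ (D.nroots - 1)) (c₂ * s) := hconj s
  · rw [topEntry_eq D h0]
    rw [Units.val_mul, Units.val_mul, Units.val_mul]
    -- column `iTop` of `v`
    rw [bglpc07_mul_col _ _ (iBot D h0) (iTop D h0) (iTop D h0) 1
      (fun l => pc_U_col D hD h0 v hvU l), mul_one]
    -- column `iTop` of `n`
    rw [bglpc07_mul_col _ _ (iBot D h0) (iTop D h0) (Sum.inr ⟨σ (D.nroots - 1), hσ _ hρ⟩) c₂
      (fun l => hcol l)]
    -- row `iBot` of `u`
    rw [bglpc07_row_mul _ _ (iBot D h0) _ (iBot D h0) 1 (fun l => pc_U_row D hD h0 u hu l), one_mul]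
    by_cases hr0 : σ (D.nroots - 1) = 0
    · rw [if_pos hr0]
      have : (Sum.inr ⟨σ (D.nroots - 1), hσ _ hρ⟩ : D.Idx) = iBot D h0 := by
        unfold iBot
        congr 1
        exact Fin.ext hr0
      rw [this, hbot]
    · rw [if_neg hr0]
      have : iBot D h0 ≠ (Sum.inr ⟨σ (D.nroots - 1), hσ _ hρ⟩ : D.Idx) := by
        unfold iBot
        intro h
        apply hr0
        have := Sum.inr.inj h
        exact (congrArg Fin.val this).symm
      rw [tdiag _ _ this, zero_mul]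

end Cfsg.Agent.Lib.Helper10.BGL
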