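import Cfsg.Agent.Lib.Helper25.BGLSE03core
import Cfsg.Agent.Lib.helper2.BGLSE01

/-!
# Project BGL, row SE03: `se_pair_order` (the pair lemma in characteristic 2)
-/

set_option autoImplicit false

namespace Cfsg.Agent.Lib.Helper10.BGL

open Cfsg.Lie Cfsg.Lie.ChevalleyDatum Cfsg.Agent.Lib.helper8

universe u

variable {K : Type u} [Field K]

/-- SE03: the product of two conjugates of `x_ρ(1)` has order dividing 4 or odd order. -/
theorem se_pair_order [Finite K] [CharP K 2] (D : ChevalleyDatum) (hD : Seven D) (g : GL D.Idx K)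
    (hg : g ∈ D.group K) :
    (xg D hD (D.nroots - 1) (1 : K) * (g * xg D hD (D.nroots - 1) (1 : K) * g⁻¹)) ^ 4 = 1 ∨
      Odd (orderOf (xg D hD (D.nroots - 1) (1 : K) * (g * xg D hD (D.nroots - 1) (1 : K) * g⁻¹))) :=
  bglse03_core D hD (fun M hM => se_sl2_odd M hM) g hg

end Cfsg.Agent.Lib.Helper10.BGL
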