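import Cfsg.Agent.Lib.Helper25.BGLPC07
import Cfsg.Agent.Lib.Helper25.BGLPA06
import Cfsg.Agent.Lib.Helper29.BGLPA02
import Cfsg.Agent.Lib.helper2.BGLPC01
import Cfsg.Agent.Lib.helper2.BGLSE02

/-!
# Project BGL, row SE03 (core): the pair lemma in characteristic 2, with the statement of SE01 as a hypothesis
-/

set_option autoImplicit false

namespace Cfsg.Agent.Lib.Helper10.BGL

open Cfsg.Lie Cfsg.Lie.ChevalleyDatum Cfsg.Agent.Lib.helper8

universe u

variable {K : Type u} [Field K]

/-- a root element is an involution or trivial in characteristic 2 -/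
theorem bglse03_xg_sq [CharP K 2] (D : ChevalleyDatum) (hD : Seven D) (r : ℕ) (e : K) :
    xg D hD r e * xg D hD r e = 1 := by
  by_cases hr : r < D.nroots
  · rw [bglpa06_xg_add D hD r hr, CharTwo.add_self_eq_zero, bglpa06_xg_zero]
  · have : xg D hD r e = 1 := by
      apply Units.ext
      rw [xg_val]
      unfold ChevalleyDatum.x
      rw [dif_neg hr]
      rfl
    rw [this, one_mul]

/-- a word of length at most one in root elements squares to one in characteristic 2 -/
theorem bglse03_word_sq [CharP K 2] (D : ChevalleyDatum) (hD : Seven D) (w : List (ℕ × K))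
    (hw : w.length ≤ 1) :
    h8wordU D (h8base_all.{u} D hD) w * h8wordU D (h8base_all.{u} D hD) w = 1 := by
  match w, hw with
  | [], _ =>
    unfold h8wordU
    simp
  | [a], _ =>
    have : h8wordU D (h8base_all.{u} D hD) [a] = xg D hD a.1 a.2 := by
      unfold h8wordU xg
      simp
    rw [this]
    exact bglse03_xg_sq D hD a.1 a.2
  | _ :: _ :: _, h => simp at h

theorem bglse03_pow4 {G : Type*} [Group G] (a : G) : a ^ 4 = (a * a) * (a * a) := by
  rw [show (4 : ℕ) = 2 + 2 from rfl, pow_add, pow_two]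

/-- the group theoretic step: `y x = x y c`, all three of square one, gives `(x y) ^ 4 = 1` -/
theorem bglse03_pow_four {G : Type*} [Group G] (x y c : G) (hx : x * x = 1) (hy : y * y = 1)
    (hc : c * c = 1) (h : y * x = x * y * c) : (x * y) ^ 4 = 1 := by
  have e2 : (x * y) * (x * y) = y * c * y := by
    calc (x * y) * (x * y) = x * (y * x) * y := by group
      _ = x * (x * y * c) * y := by rw [h]
      _ = (x * x) * y * c * y := by group
      _ = y * c * y := by rw [hx, one_mul]
  calc (x * y) ^ 4 = ((x * y) * (x * y)) * ((x * y) * (x * y)) := bglse03_pow4 _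
    _ = (y * c * y) * (y * c * y) := by rw [e2]
    _ = y * c * (y * y) * c * y := by group
    _ = y * (c * c) * y := by rw [hy]; group
    _ = 1 := by rw [hc, mul_one, hy]

/-- SE03 (core on the statement of SE01). -/
theorem bglse03_core [Finite K] [CharP K 2] (D : ChevalleyDatum) (hD : Seven D)
    (hodd : ∀ M : Matrix.SpecialLinearGroup (Fin 2) K,
      Matrix.trace (M : Matrix (Fin 2) (Fin 2) K) ≠ 0 → Odd (orderOf M))
    (g : GL D.Idx K) (hg : g ∈ D.group K) :
    (xg D hD (D.nroots - 1) (1 : K) * (g * xg D hD (D.nroots - 1) (1 : K) * g⁻¹)) ^ 4 = 1 ∨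
      Odd (orderOf (xg D hD (D.nroots - 1) (1 : K) * (g * xg D hD (D.nroots - 1) (1 : K) * g⁻¹))) := by
  have hB := h8base_all.{u} D hD
  have hC := h8commAll.{u} D hD
  obtain ⟨h2, hneg, -, -, hlρ, hstab⟩ := pc_tab D hD
  have hρ : D.nroots - 1 < D.nroots := by omega
  obtain ⟨u, hu, t, ht, r', hr', c₁, c₂, hc₁, hc₂, hP, e1, e2, -⟩ := pc_bruhat_top D hD g hg
  have hlong : isLong D r' := hP (isLong D) hstab hlρ
  have e1' := e1 1
  have e2' := e2 1
  rw [mul_one] at e1' e2'
  set b := u * t with hbdef
  set w' := xg D hD (D.nroots - 1) c₁ * xg D hD r' c₂ with hw'def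
  have hw : xg D hD (D.nroots - 1) (1 : K) * (g * xg D hD (D.nroots - 1) (1 : K) * g⁻¹) =
      MulAut.conj b w' := by
    rw [hw'def, ← e1', ← e2', MulAut.conj_apply]
    group
  rw [hw]
  have hord : orderOf (MulAut.conj b w') = orderOf w' :=
    orderOf_injective (MulAut.conj b).toMonoidHom (MulEquiv.injective _) w'
  rw [hord, ← map_pow]
  have hfour : w' ^ 4 = 1 → (MulAut.conj b) (w' ^ 4) = 1 := fun h => by rw [h, map_one]
  by_cases h1 : r' = D.nroots - 1
  · -- same root
    left
    apply hfour
    rw [hw'def, h1, bglpa06_xg_add D hD _ hρ]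
    rw [bglse03_pow4, bglse03_xg_sq, one_mul]
  · by_cases h0 : r' = 0
    · -- opposite root: rank one
      right
      obtain ⟨φ, hφx, hφy, -⟩ := pa_phi (K := K) D hD
      have hw'φ : w' = φ (sx c₁ * sy c₂) := by
        rw [map_mul, hφx, hφy, hw'def, h0]
      have htr : Matrix.trace ((sx c₁ * sy c₂ : Matrix.SpecialLinearGroup (Fin 2) K) :
          Matrix (Fin 2) (Fin 2) K) ≠ 0 := by
        have : Matrix.trace ((sx c₁ * sy c₂ : Matrix.SpecialLinearGroup (Fin 2) K) :
            Matrix (Fin 2) (Fin 2) K) = c₁ * c₂ := by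
          show Matrix.trace (!![1, c₁; 0, 1] * !![1, 0; c₂, 1]) = c₁ * c₂
          rw [Matrix.mul_fin_two, Matrix.trace_fin_two_of]
          have h11 : (1 : K) + 1 = 0 := CharTwo.add_self_eq_zero 1
          linear_combination h11
        rw [this]
        exact mul_ne_zero hc₁ hc₂
      have ho := hodd _ htr
      rw [hw'φ]
      exact Odd.of_dvd_nat ho (orderOf_map_dvd φ _)
    · -- a long root `≠ ± ρ`
      left
      apply hfour
      have hlen := se_long_tab D hD r' hr' hlong h1 h0
      have hsn : r' ≠ D.negIdx.getD (D.nroots - 1) 0 := by rw [hneg]; exact h0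
      have hcm := hC.all (D.nroots - 1) hρ r' hr' h1 hsn K c₁ c₂
      set c := h8wordU D hB (D.commWord K (D.nroots - 1) r' c₁ c₂) with hcdef
      have hyx : xg D hD r' c₂ * xg D hD (D.nroots - 1) c₁ =
          xg D hD (D.nroots - 1) c₁ * xg D hD r' c₂ * c := by
        apply Units.ext
        rw [Units.val_mul, Units.val_mul, Units.val_mul, xg_val, xg_val, hcdef, h8wordU_val]
        exact hcm
      have hcc : c * c = 1 := by
        apply bglse03_word_sq D hD
        unfold ChevalleyDatum.commWord
        rw [List.length_map]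
        exact hlen
      exact bglse03_pow_four _ _ c (bglse03_xg_sq D hD _ _) (bglse03_xg_sq D hD _ _) hcc hyx

end Cfsg.Agent.Lib.Helper10.BGL
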