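import Mathlib
import Cfsg.Agent.Lib.Helper10.BGL.UkzFin
import Cfsg.Agent.Lib.Helper25.BGLUKZ5core

/-!
# Project BGL (helper10), sub-block UKZ, row UKZ5 (helper25), VERBATIM: `ukz_split_B`

`bglukz5_core` applied to the landed row UKZ4 (`Helper10.BGL.UkzFin`: `ukz_split`).
-/

set_option autoImplicit false

namespace Cfsg.Agent.Lib.Helper10.BGL

open Cfsg.Lie Cfsg.Lie.ChevalleyDatum Cfsg.Agent.Lib.helper8

universe u

variable {K : Type u} [Field K] [Finite K]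

/-- UKZ5 [M]  C2 ending in the bad cases: `C(t1) E(t2) h ∈ H`, `h` a rational torus element. -/
theorem ukz_split_B [CharP K 2] (D : ChevalleyDatum) (hD : D ∈ [chevB2, chevF4])
    (hB : H8Base.{u} D) (a : ℕ) (H : Subgroup (GL D.Idx K)) (hL : Lq D K (2 ^ a) ≤ H)
    (hR : RootRat D (2 ^ a) H) (h : GL D.Idx K) (hh : h ∈ D.diagonalSubgroup K)
    (hrat : RatM D (2 ^ a) (h : Matrix D.Idx D.Idx K)) (t1 t2 : K)
    (hz : h8xU D hB (ukzC D) t1 * h8xU D hB (ukzE D) t2 * h ∈ H) :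
    Rt (2 ^ a) t1 ∧ Rt (2 ^ a) t2 :=
  bglukz5_core D hD hB a H hL (fun t1' t2' hz' => ukz_split D hD hB a H hL hR t1' t2' hz') h hh hrat t1 t2 hz

end Cfsg.Agent.Lib.Helper10.BGL
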