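import Mathlib
import Cfsg.Agent.Lib.Helper28.BP2.Defs
import Cfsg.Agent.Lib.Helper16.BP2E1
import Cfsg.Agent.Lib.Helper29.BP2U6
import Cfsg.Agent.Lib.Helper26.BP2T3
import Cfsg.Agent.Lib.Helper24.BP2U10
import Cfsg.Agent.Lib.helper4.BP2U2
import Cfsg.Agent.Lib.Helper13.BP2U1
import Cfsg.Agent.Lib.helper4.BP2T4

/-!
# BP2 row E3 (`binS_sylow_two`), verbatim vs `Helper28/BP2/Skel.lean.txt`:
U10, U6, T3 and `BinS (PU F)` (= E2, here directly from E1 by T4 + U1 + U3).
-/

set_option autoImplicit false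

namespace Cfsg.Agent.Lib.Helper28.BP2

open Cfsg.Agent.Lib.helper14

universe u v w

section Easy

variable {F : Type u} [Field F] [Fintype F]

/-- the content of E2 under an own name: `BinS (PU F)` in characteristic two, from E1 by T4. -/
theorem bp2e3_binS_PU [CharP F 2] : BinS (PU F) := by
  rw [← binS_comap (pr F) pr_surjective (PU F)]
  have h : (PU F).comap (pr F) = US F := by
    unfold PU
    exact Subgroup.comap_map_eq_self_of_injective pr_injective_char2 (US F)
  rw [h]
  exact binS_US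

/-- **E3**.  U10, U6, T3, E2. -/
theorem binS_sylow_two (h : ∃ a : ℕ, Fintype.card F = 2 ^ a) (P : Sylow 2 (PSL2 F)) :
    BinS (P : Subgroup (PSL2 F)) := by
  have : CharP F 2 := charP_two_of_pow h
  obtain ⟨g, hg⟩ := sylow_conj_PU 2 P
  rw [hg, binS_conj]
  exact bp2e3_binS_PU

end Easy

end Cfsg.Agent.Lib.Helper28.BP2
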