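import Mathlib
import Cfsg.Agent.Lib.Helper28.BP2.Defs
import Cfsg.Agent.Lib.Helper25.BP2T12
import Cfsg.Agent.Lib.Helper16.BP2E4
import Cfsg.Agent.Lib.Helper24.BP2E5
import Cfsg.Agent.Lib.Helper24.BP2E6
import Cfsg.Agent.Lib.Helper24.BP2U10
import Cfsg.Agent.Lib.helper4.BP2U2
import Cfsg.Agent.Lib.Helper13.BP2U1
import Cfsg.Agent.Lib.helper4.BP2T4

/-!
# BP2 row E7 (`binS_card_three`), verbatim vs `Helper28/BP2/Skel.lean.txt`:
T12 in `SL₂(F)` (pulled back along `pr` by T4), E5 (traces), E4 (trace-one triple), E6 (no cube root).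
-/

set_option autoImplicit false

namespace Cfsg.Agent.Lib.Helper28.BP2

open Cfsg.Agent.Lib.helper14

universe u v w

section Easy

variable {F : Type u} [Field F] [Fintype F]

/-- **E7**.  T12 in `SL₂(F)` (then T2 along `pr`): `a = b c` with `a, b, c` of order 3 (or `b = 1`,
`c = 1`: then `b ∈ H`), traces `1` by E5, so `c = b` by E4, `a = b²`, `b ∈ ⟨a⟩ = H`. -/
theorem binS_card_three (a : ℕ) (ha : Odd a) (hq : Fintype.card F = 2 ^ a)
    (H : Subgroup (PSL2 F)) (hH : Nat.card H = 3) : BinS H := by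
  have : CharP F 2 := charP_two_of_pow ⟨a, hq⟩
  have : Fact (Nat.Prime 3) := ⟨Nat.prime_three⟩
  rw [← binS_comap (pr F) pr_surjective H]
  have hcard : Nat.card (H.comap (pr F)) = 3 := by
    have h1 : Nat.card ((H.comap (pr F)).map (pr F)) = Nat.card (H.comap (pr F)) :=
      Subgroup.card_map_of_injective pr_injective_char2
    rw [Subgroup.map_comap_eq_self_of_surjective pr_surjective H] at h1
    rw [← h1, hH]
  apply binS_of_prime_card (H.comap (pr F)) (by rw [hcard]; exact Nat.prime_three)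
  intro a' b c x y ha' ha1 hb hc habc
  by_cases hb1 : b = 1
  · left; rw [hb1]; exact (H.comap (pr F)).one_mem
  by_cases hc1 : c = 1
  · right; rw [hc1]; exact (H.comap (pr F)).one_mem
  have hcube : ∀ g ∈ H.comap (pr F), g ^ 3 = 1 := by
    intro g hg
    have h1 := pow_card_eq_one' (G := H.comap (pr F)) (x := ⟨g, hg⟩)
    rw [hcard] at h1
    have h2 := congrArg Subtype.val h1
    simpa using h2
  have hconj : ∀ (x g : SL2 F), (x⁻¹ * g * x) ^ 3 = 1 → g ^ 3 = 1 := by
    intro x g h1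
    have h2 : (x⁻¹ * g * x) ^ 3 = x⁻¹ * g ^ 3 * x := by
      have := conj_pow (a := x⁻¹) (b := g) (i := 3)
      rw [inv_inv] at this
      exact this
    rw [h2] at h1
    have h3 : g ^ 3 = x * (x⁻¹ * g ^ 3 * x) * x⁻¹ := by group
    rw [h3, h1]; group
  have ho : ∀ g : SL2 F, g ≠ 1 → g ^ 3 = 1 → orderOf g = 3 := fun g h1 h3 => orderOf_eq_prime h3 h1
  have hb3 : b ^ 3 = 1 := hconj x b (hcube _ hb)
  have hc3 : c ^ 3 = 1 := hconj y c (hcube _ hc)
  have tb := trace_of_orderOf_three b (ho b hb1 hb3)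
  have tc := trace_of_orderOf_three c (ho c hc1 hc3)
  have ta := trace_of_orderOf_three a' (ho a' ha1 (hcube a' ha'))
  rw [habc] at ta
  have hcb : c = b := tr1_triple (no_cuberoot a ha hq) b c tb tc ta
  left
  have hbb : b = a' * a' := by
    rw [habc, hcb]
    calc b = b ^ 3 * b := by rw [hb3, one_mul]
      _ = (b * b) * (b * b) := by rw [pow_succ, pow_two]; simp only [mul_assoc]
  rw [hbb]
  exact (H.comap (pr F)).mul_mem ha' ha'

end Easy

end Cfsg.Agent.Lib.Helper28.BP2
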