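import Mathlib
import Cfsg.Agent.Lib.Helper21.BSQ.Defs
import Cfsg.Agent.Lib.Helper10.BSQE3
import Cfsg.Agent.Lib.Helper21.BSQE7b
import Cfsg.Agent.Lib.Helper1.CFitting

/-!
# BSQ row E9 (second write, core): no Sylow 2-subgroup `QuaternionGroup (2 ^ k)`, `k ≥ 2`, in a solvable B*-group

`bsqe9_h25_core` = the Skel statement `no_big_quat` with the statements of rows Q1, E4, E7a as hypotheses
(`hQ1`, `hE4`, `hE7a`); E3 (`sylow_quot_iso`), E7b (`fitting_case_two`) and `Helper1.centralizer_pCore_le` are imported.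
-/

set_option autoImplicit false

namespace Cfsg.Agent.Lib.Helper21.BSQ

universe u

theorem bsqe9_h25_core
    (hQ1 : ∀ (G : Type u) [Group G] [Finite G], Group.IsSolvable G → IsBStar G →
      ∀ (N : Subgroup G) [N.Normal], N ≠ ⊥ →
      (∀ K : Subgroup G, K.Normal → K ≤ N → K = ⊥ ∨ K = N) →
      (Even (Nat.card ↥N) → ∀ (P : Sylow 2 G) (k : ℕ), 2 ≤ k →
        Nonempty (↥(P : Subgroup G) ≃* QuaternionGroup (2 ^ k)) → False) →
      IsBStar (G ⧸ N))
    (hE4 : ∀ (G : Type u) [Group G] [Finite G],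
      (∀ N : Subgroup G, N.Normal → N ≠ ⊥ →
        (∀ K : Subgroup G, K.Normal → K ≤ N → K = ⊥ ∨ K = N) → ¬ Odd (Nat.card ↥N)) →
      Cfsg.pPrimeCore 2 G = ⊥)
    (hE7a : ∀ (G : Type u) [Group G] [Finite G], IsBStar G →
      Subgroup.centralizer (Cfsg.pCore 2 G : Set G) ≤ Cfsg.pCore 2 G →
      ∀ (P : Sylow 2 G) (k : ℕ), 2 ≤ k → (↥(P : Subgroup G) ≃* QuaternionGroup (2 ^ k)) →
      ∀ x : G, x ∈ Cfsg.pCore 2 G → orderOf x = 4 → False) :
    ∀ (n : ℕ) (G : Type u) [Group G] [Finite G], Nat.card G = n →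
      Group.IsSolvable G → IsBStar G → ∀ (P : Sylow 2 G) (k : ℕ), 2 ≤ k →
      Nonempty (↥(P : Subgroup G) ≃* QuaternionGroup (2 ^ k)) → False := by
  intro n
  induction n using Nat.strong_induction_on with
  | _ n ih =>
    intro G _ _ hn hsol hB P k hk he
    obtain ⟨e⟩ := he
    by_cases hodd : ∃ N : Subgroup G, N.Normal ∧ N ≠ ⊥ ∧
        (∀ K : Subgroup G, K.Normal → K ≤ N → K = ⊥ ∨ K = N) ∧ Odd (Nat.card ↥N)
    · obtain ⟨N, hNn, hN0, hmin, hNodd⟩ := hodd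
      have := hNn
      have hBq : IsBStar (G ⧸ N) :=
        hQ1 G hsol hB N hN0 hmin (fun hev => absurd hNodd (Nat.not_odd_iff_even.mpr hev))
      obtain ⟨P', ⟨e'⟩⟩ := sylow_quot_iso N hNodd P
      have hcard : Nat.card G = Nat.card (G ⧸ N) * Nat.card ↥N :=
        Subgroup.card_eq_card_quotient_mul_card_subgroup N
      have hN1 : 1 < Nat.card ↥N := (Subgroup.one_lt_card_iff_ne_bot N).mpr hN0
      have hq0 : 0 < Nat.card (G ⧸ N) := Nat.card_pos
      have hlt : Nat.card (G ⧸ N) < n := by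
        rw [← hn, hcard]
        nlinarith
      have := hsol
      exact ih (Nat.card (G ⧸ N)) hlt (G ⧸ N) rfl inferInstance hBq P' k hk ⟨e'.symm.trans e⟩
    · have hodd' : ∀ N : Subgroup G, N.Normal → N ≠ ⊥ →
          (∀ K : Subgroup G, K.Normal → K ≤ N → K = ⊥ ∨ K = N) → ¬ Odd (Nat.card ↥N) :=
        fun N h1 h2 h3 h4 => hodd ⟨N, h1, h2, h3, h4⟩
      have h4 : Cfsg.pPrimeCore 2 G = ⊥ := hE4 G hodd'
      have := hsol
      have hC : Subgroup.centralizer (Cfsg.pCore 2 G : Set G) ≤ Cfsg.pCore 2 G :=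
        Cfsg.Agent.Lib.Helper1.centralizer_pCore_le (G := G) 2 h4
      by_cases h4e : ∃ x ∈ Cfsg.pCore 2 G, orderOf x = 4
      · obtain ⟨x, hx, hx4⟩ := h4e
        exact hE7a G hB hC P k hk e x hx hx4
      · have hno : ∀ x ∈ Cfsg.pCore 2 G, orderOf x ≠ 4 := fun x hx h => h4e ⟨x, hx, h⟩
        exact fitting_case_two hC P k hk e hno

end Cfsg.Agent.Lib.Helper21.BSQ
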