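import Mathlib
import Cfsg.Prelude.Def_Characters
import Cfsg.Agent.Lib.helper2.BSWDefs
import Cfsg.Agent.Lib.helper2.BSWCharDefs
import Cfsg.Agent.Lib.helper2.CharInt
import Cfsg.Agent.Lib.helper2.CharNat
import Cfsg.Agent.Lib.Helper25.CharOrth
import Cfsg.Agent.Lib.Helper25.KnorrBound
import Cfsg.Agent.Lib.Helper25.CharLinear

/-!
Piece T4 of the Brauer–Suzuki–Wall plan (statement S3282, see Lib/helper2/BSW_PLAN.md):
the endgame in the case q = 2e + 1. From the local facts (structure BswT1, the T1 statements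
verbatim) and the character data BswCharPlus we derive BswConcl G (theorem bsw_end_plus).
-/

set_option autoImplicit false

namespace Cfsg.Agent.Lib.Helper25.BSW4
open scoped ComplexConjugate
open Cfsg.Agent.Lib.helper2
open Cfsg.Agent.Lib.helper7
open scoped ComplexConjugate Pointwise
section

variable {G : Type*} [Group G] [Finite G]

/-- the local facts (piece T1 of the plan) used in the endgame, verbatim from `BSW_PLAN.md` -/
structure BswT1 (t : G) (K : Subgroup G) (s : G) : Prop where
  even_K : Even (Nat.card K)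
  out_odd : ∀ {x : G}, bswOut K x → Odd (orderOf x)
  card_invol : Nat.card {a : G // orderOf a = 2} * (2 * Nat.card K) = Nat.card G
  card_in : Nat.card {x : G // ¬ bswOut K x} =
      1 + Nat.card {a : G // orderOf a = 2} * (Nat.card K - 1)
  beta_pos_iff : ∀ {x : G}, Odd (orderOf x) → x ≠ 1 →
    (bswBeta x ≠ 0 ↔ ∃ a : G, orderOf a = 2 ∧ a * x * a⁻¹ = x⁻¹)
  Q : ∀ {x a : G}, bswOut K x → orderOf a = 2 → a * x * a⁻¹ = x⁻¹ →
    Odd (Nat.card (Subgroup.centralizer ({x} : Set G))) ∧
    (∀ y ∈ Subgroup.centralizer ({x} : Set G), a * y * a⁻¹ = y⁻¹) ∧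
    (∀ y ∈ Subgroup.centralizer ({x} : Set G), ∀ z ∈ Subgroup.centralizer ({x} : Set G),
      y * z = z * y) ∧
    (∀ y ∈ Subgroup.centralizer ({x} : Set G), y ≠ 1 →
      bswOut K y ∧ Subgroup.centralizer ({y} : Set G) = Subgroup.centralizer ({x} : Set G) ∧
      bswBeta y = Nat.card (Subgroup.centralizer ({x} : Set G))) ∧
    ∃ (L : Subgroup G) (g : G), a = g * t * g⁻¹ ∧ a ∈ L ∧
      L ≤ K.map (MulAut.conj g).toMonoidHom ∧
      Subgroup.centralizer ({x} : Set G) ⊓ L = ⊥ ∧
      Subgroup.normalizer ((Subgroup.centralizer ({x} : Set G) : Subgroup G) : Set G) =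
        Subgroup.centralizer ({x} : Set G) ⊔ L ∧
      Nat.card L ∣ Nat.card (Subgroup.centralizer ({x} : Set G)) - 1
  conjK : ∀ g : G,
    IsMulCommutative ↥(K.map (MulAut.conj g).toMonoidHom) ∧
    Nat.card ↥(K.map (MulAut.conj g).toMonoidHom) = Nat.card K ∧
    ∀ X : Subgroup G, X ≤ K.map (MulAut.conj g).toMonoidHom → X ≠ ⊥ →
      Subgroup.normalizer (X : Set G) =
        Subgroup.normalizer ((K.map (MulAut.conj g).toMonoidHom : Subgroup G) : Set G) ∧
      ∃ u : G, orderOf u = 2 ∧ u ∉ K.map (MulAut.conj g).toMonoidHom ∧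
        (∀ d ∈ K.map (MulAut.conj g).toMonoidHom, u * d * u⁻¹ = d⁻¹) ∧
        Subgroup.normalizer ((K.map (MulAut.conj g).toMonoidHom : Subgroup G) : Set G) =
          K.map (MulAut.conj g).toMonoidHom ⊔ Subgroup.zpowers u

omit [Finite G] in
theorem out_ne_one {K : Subgroup G} {x : G} (hx : bswOut K x) : x ≠ 1 := by
  rintro rfl
  apply hx 1
  rw [mul_one, mul_inv_cancel]
  exact K.one_mem

omit [Finite G] in
theorem out_conj {K : Subgroup G} {x : G} (hx : bswOut K x) (h : G) : bswOut K (h * x * h⁻¹) := by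
  intro g
  have := hx (g * h)
  rw [mul_inv_rev] at this
  convert this using 1
  group

/-- a rational algebraic integer in `ℂ` is an integer -/
theorem int_of_rat_integral (z : ℂ) (r : ℚ) (hz : z = (r : ℂ)) (hint : IsIntegral ℤ z) :
    ∃ c : ℤ, z = (c : ℂ) := by
  have hrat : z = algebraMap ℚ ℂ r := by
    rw [hz]
    rfl
  rw [hrat] at hint
  have hint' : IsIntegral ℤ r := (isIntegral_algebraMap_iff (algebraMap ℚ ℂ).injective).mp hint
  obtain ⟨c, hc⟩ := IsIntegrallyClosed.isIntegral_iff.mp hint'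
  refine ⟨c, ?_⟩
  rw [hz, ← hc]
  simp

/-- Step 1a: the values of `X` outside the conjugates of `K` are integers -/
theorem val_int {K : Subgroup G} (X : G → ℂ) (hirr : Cfsg.IsIrrCharacter G X)
    (hK : 0 < Nat.card K)
    (hbeta : ∀ x : G, bswOut K x →
      (bswBeta x : ℂ) = (2 * Nat.card K + 1 : ℕ) + (Nat.card K : ℂ) * X x)
    (x : G) (hx : bswOut K x) :
    ∃ c : ℤ, X x = (c : ℂ) ∧ (bswBeta x : ℤ) = (2 * Nat.card K + 1 : ℕ) + (Nat.card K : ℤ) * c := by
  have hint : IsIntegral ℤ (X x) := irr_integral (⟨X, hirr⟩ : Cfsg.IrrCharacter G) x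
  have hb := hbeta x hx
  have hK0 : (Nat.card K : ℂ) ≠ 0 := by exact_mod_cast hK.ne'
  have hr : X x = (((( bswBeta x : ℚ) - ((2 * Nat.card K + 1 : ℕ) : ℚ)) / (Nat.card K : ℚ) : ℚ) : ℂ) := by
    push_cast
    field_simp
    rw [hb]
    push_cast
    ring
  obtain ⟨c, hc⟩ := int_of_rat_integral (X x) _ hr hint
  refine ⟨c, hc, ?_⟩
  rw [hc] at hb
  have : ((bswBeta x : ℤ) : ℂ) = (((2 * Nat.card K + 1 : ℕ) + (Nat.card K : ℤ) * c : ℤ) : ℂ) := by
    push_cast
    push_cast at hb
    exact hb
  exact_mod_cast this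

end

section

section
variable {G : Type*} [Group G] [Finite G]

theorem two_le_card {t s : G} {K : Subgroup G} (T1 : BswT1 t K s) : 2 ≤ Nat.card K := by
  have h1 : 0 < Nat.card K := Nat.card_pos
  obtain ⟨k, hk⟩ := T1.even_K
  omega

/-- the sum of a character over a subgroup is a multiple of the order of the subgroup -/
theorem sum_subgroup_eq (X : G → ℂ) (hX : Cfsg.IsCharacter G X) (C : Subgroup G) [Fintype C] :
    ∃ m : ℕ, ∑ y : C, X (y : G) = (Nat.card C : ℂ) * (m : ℂ) := by
  classical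
  obtain ⟨m, hm⟩ := classInner_character_nat (isCharacter_restrict hX C)
    (isCharacter_of_irr (trivIrr C))
  refine ⟨m, ?_⟩
  unfold Cfsg.classInner at hm
  have h0 : (Nat.card C : ℂ) ≠ 0 := by
    have : 0 < Nat.card C := Nat.card_pos
    exact_mod_cast this.ne'
  have h1 : ∑ g : C, (fun h : C => X (h : G)) g * conj ((trivIrr C : C → ℂ) g) = ∑ y : C, X (y : G) := by
    refine Finset.sum_congr rfl fun y _ => ?_
    rw [trivIrr_apply, map_one, mul_one]
  rw [h1] at hm
  rw [← hm]
  field_simp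

end

variable {G : Type*} [Group G] [Fintype G]

/-- Steps 1 and 2: structure of the centralizer of an element outside the conjugates of `K` -/
theorem out_struct {t s : G} {K : Subgroup G} (T1 : BswT1 t K s) (X : G → ℂ)
    (hX : BswCharPlus K X) (x : G) (hx : bswOut K x) :
    ∃ a : G, orderOf a = 2 ∧ a * x * a⁻¹ = x⁻¹ ∧
      ((X x = 0 ∧ Nat.card (Subgroup.centralizer ({x} : Set G)) = 2 * Nat.card K + 1) ∨
       (X x = -1 ∧ Nat.card (Subgroup.centralizer ({x} : Set G)) = Nat.card K + 1)) ∧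
      ∀ y ∈ Subgroup.centralizer ({x} : Set G), y ≠ 1 → X y = X x := by
  classical
  haveI : Fintype (Cfsg.IrrCharacter G) := Fintype.ofFinite _
  have he2 := two_le_card T1
  set e := Nat.card K with he
  obtain ⟨c, hc, hbc⟩ := val_int X hX.irr (by omega) hX.beta x hx
  have hβ0 : bswBeta x ≠ 0 := by
    intro h0
    rw [h0] at hbc
    have h1 : (e : ℤ) * (-c - 2) = 1 := by
      push_cast at hbc
      linarith
    have h2 : (e : ℤ) ∣ 1 := Dvd.intro _ h1
    have h3 : (e : ℤ) = 1 := Int.eq_one_of_dvd_one (by positivity) h2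
    omega
  have hodd := T1.out_odd hx
  have hx1 := out_ne_one hx
  obtain ⟨a, ha, hax⟩ := (T1.beta_pos_iff hodd hx1).1 hβ0
  obtain ⟨hQodd, hQinv, hQab, hQall, -⟩ := T1.Q hx ha hax
  refine ⟨a, ha, hax, ?_⟩
  set C := Subgroup.centralizer ({x} : Set G) with hC
  set n := Nat.card C with hn
  have hxC : x ∈ C := by
    rw [hC, Subgroup.mem_centralizer_iff]
    intro h hh
    rw [Set.mem_singleton_iff] at hh
    rw [hh]
  have hβn : bswBeta x = n := (hQall x hxC hx1).2.2
  have hnc : (n : ℤ) = (2 * e + 1 : ℕ) + (e : ℤ) * c := by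
    rw [← hβn]
    exact hbc
  have he0 : (e : ℂ) ≠ 0 := by
    have : e ≠ 0 := by omega
    exact_mod_cast this
  have hXc : ∀ y ∈ C, y ≠ 1 → X y = (c : ℂ) := by
    intro y hy hy1
    obtain ⟨hyout, _, hyβ⟩ := hQall y hy hy1
    have h1 := hX.beta y hyout
    rw [hyβ] at h1
    have h2 : ((n : ℤ) : ℂ) = (((2 * e + 1 : ℕ) + (e : ℤ) * c : ℤ) : ℂ) := by rw [hnc]
    push_cast at h2
    push_cast at h1
    have h3 : (e : ℂ) * X y = (e : ℂ) * (c : ℂ) := by
      rw [h1] at h2
      linear_combination h2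
    exact mul_left_cancel₀ he0 h3
  -- n ≥ 2
  have hn2 : 2 ≤ n := by
    have hne : C ≠ ⊥ := by
      intro hb
      rw [hb, Subgroup.mem_bot] at hxC
      exact hx1 hxC
    have := (Subgroup.one_lt_card_iff_ne_bot C).2 hne
    omega
  -- step 2: the sum over C
  haveI : Fintype C := Fintype.ofFinite _
  obtain ⟨m, hm⟩ := sum_subgroup_eq X (h7_irr_isCharacter hX.irr) C
  have hsum : ∑ y : C, X (y : G) = ((2 * e + 1 : ℕ) : ℂ) + ((n : ℂ) - 1) * (c : ℂ) := by
    rw [← Finset.add_sum_erase Finset.univ (fun y : C => X (y : G)) (Finset.mem_univ (1 : C))]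
    have h1 : ∀ y ∈ Finset.univ.erase (1 : C), X (y : G) = (c : ℂ) := by
      intro y hy
      apply hXc y y.2
      intro h1
      apply (Finset.mem_erase.1 hy).1
      exact Subtype.ext h1
    rw [Finset.sum_congr rfl h1, Finset.sum_const, Finset.card_erase_of_mem (Finset.mem_univ _),
      Finset.card_univ, ← Nat.card_eq_fintype_card, nsmul_eq_mul, Subgroup.coe_one, hX.deg]
    have : ((n - 1 : ℕ) : ℂ) = (n : ℂ) - 1 := by
      rw [Nat.cast_sub (by omega)]
      simp
    rw [← hn, this]
  rw [hm] at hsum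
  have hsumZ : (n : ℤ) * (m : ℤ) = (2 * e + 1 : ℕ) + ((n : ℤ) - 1) * c := by
    have : (((n : ℤ) * (m : ℤ) : ℤ) : ℂ) = ((((2 * e + 1 : ℕ) : ℤ) + ((n : ℤ) - 1) * c : ℤ) : ℂ) := by
      push_cast
      push_cast at hsum
      exact hsum
    exact_mod_cast this
  have hdvd : (n : ℤ) ∣ ((2 * e + 1 : ℕ) : ℤ) - c := by
    refine ⟨(m : ℤ) - c, ?_⟩
    linarith
  -- the case analysis
  have hcases : c = 0 ∨ c = -1 := by
    by_contra hcon
    push Not at hcon
    obtain ⟨hc0, hc1⟩ := hcon
    have heZ : (2 : ℤ) ≤ (e : ℤ) := by exact_mod_cast he2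
    rcases lt_or_gt_of_ne hc0 with hneg | hpos
    · -- c ≤ -2
      have hc2 : c ≤ -2 := by omega
      have : (n : ℤ) ≤ 1 := by
        rw [hnc]
        push_cast
        nlinarith
      omega
    · -- c ≥ 1
      have hc1' : 1 ≤ c := by omega
      by_cases hcq : c = ((2 * e + 1 : ℕ) : ℤ)
      · -- column orthogonality
        have hnq : (n : ℤ) = ((2 * e + 1 : ℕ) : ℤ) * ((e : ℤ) + 1) := by
          rw [hnc, hcq]
          ring
        have hcol := knb_sum_normsq_all (X := G) x
        have hne : (trivIrr G) ≠ (⟨X, hX.irr⟩ : Cfsg.IrrCharacter G) := by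
          intro heq
          have h1 := congrFun (congrArg Subtype.val heq) 1
          simp only [trivIrr_apply] at h1
          rw [hX.deg] at h1
          have : (1 : ℕ) = 2 * e + 1 := by exact_mod_cast h1
          omega
        have hle : ∑ χ ∈ ({trivIrr G, (⟨X, hX.irr⟩ : Cfsg.IrrCharacter G)} : Finset _),
            ‖(χ : G → ℂ) x‖ ^ 2 ≤ ∑ χ : Cfsg.IrrCharacter G, ‖(χ : G → ℂ) x‖ ^ 2 :=
          Finset.sum_le_sum_of_subset_of_nonneg (Finset.subset_univ _)
            (fun _ _ _ => sq_nonneg _)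
        rw [Finset.sum_pair hne, hcol] at hle
        simp only [trivIrr_apply, norm_one, one_pow] at hle
        rw [hc, hcq] at hle
        have h5 : ‖(((2 * e + 1 : ℕ) : ℤ) : ℂ)‖ = ((2 * e + 1 : ℕ) : ℝ) := by
          rw [Int.cast_natCast, Complex.norm_natCast]
        rw [h5] at hle
        have h6 : (n : ℝ) = ((2 * e + 1 : ℕ) : ℝ) * ((e : ℝ) + 1) := by
          have : ((n : ℤ) : ℝ) = ((((2 * e + 1 : ℕ) : ℤ) * ((e : ℤ) + 1) : ℤ) : ℝ) := by rw [hnq]
          push_cast at this
          push_cast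
          exact this
        rw [h6] at hle
        have heR : (2 : ℝ) ≤ (e : ℝ) := by exact_mod_cast he2
        push_cast at hle
        nlinarith
      · have habs : |((2 * e + 1 : ℕ) : ℤ) - c| < (n : ℤ) := by
          rw [hnc, abs_lt]
          push_cast
          constructor <;> nlinarith
        have := Int.eq_zero_of_abs_lt_dvd hdvd habs
        apply hcq
        omega
  have hall : ∀ y ∈ C, y ≠ 1 → X y = X x := by
    intro y hy hy1
    rw [hXc y hy hy1, hc]
  refine ⟨?_, hall⟩
  rcases hcases with h0 | h1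
  · left
    refine ⟨by rw [hc, h0]; simp, ?_⟩
    rw [h0] at hnc
    have : (n : ℤ) = ((2 * e + 1 : ℕ) : ℤ) := by rw [hnc]; ring
    exact_mod_cast this
  · right
    refine ⟨by rw [hc, h1]; simp, ?_⟩
    rw [h1] at hnc
    have : (n : ℤ) = ((e + 1 : ℕ) : ℤ) := by
      rw [hnc]
      push_cast
      ring
    exact_mod_cast this

end

section

variable {G : Type*} [Group G] [Finite G]

/-- counting the conjugates of the nonidentity elements of a subgroup `Q` that is the
centralizer of each of its nonidentity elements -/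
theorem ti_count (Q : Subgroup G)
    (hTI : ∀ y ∈ Q, y ≠ 1 → Subgroup.centralizer ({y} : Set G) = Q) (S : Finset G)
    (hS : ∀ h : G, ∀ y ∈ Q, y ≠ 1 → h * y * h⁻¹ ∈ S) :
    Nat.card G * (Nat.card Q - 1) ≤ Nat.card (Subgroup.normalizer (Q : Set G)) * S.card := by
  classical
  haveI : Fintype G := Fintype.ofFinite G
  set B : Finset G := Finset.univ.filter (fun y => y ∈ Q ∧ y ≠ 1) with hB
  set A : Finset (G × G) := (Finset.univ : Finset G) ×ˢ B with hA
  have hBcard : B.card = Nat.card Q - 1 := by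
    have h1 : B = (Finset.univ.filter (fun y : G => y ∈ Q)).erase 1 := by
      ext y
      simp only [hB, Finset.mem_filter, Finset.mem_univ, true_and, Finset.mem_erase]
      tauto
    rw [h1, Finset.card_erase_of_mem (by simp [Q.one_mem]), ← Fintype.card_subtype,
      ← Nat.card_eq_fintype_card]
  have hAcard : A.card = Nat.card G * (Nat.card Q - 1) := by
    rw [hA, Finset.card_product, Finset.card_univ, hBcard, ← Nat.card_eq_fintype_card]
  rw [← hAcard]
  have hNcard : (Finset.univ.filter (fun w : G => w ∈ Subgroup.normalizer (Q : Set G))).card =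
      Nat.card (Subgroup.normalizer (Q : Set G)) := by
    rw [← Fintype.card_subtype, ← Nat.card_eq_fintype_card]
  have hcomm : ∀ u y : G, u ∈ Subgroup.centralizer ({y} : Set G) ↔ y * u = u * y := by
    intro u y
    rw [Subgroup.mem_centralizer_iff]
    simp
  apply Finset.card_le_mul_card_image_of_maps_to (f := fun p : G × G => p.1 * p.2 * p.1⁻¹)
  · intro p hp
    rw [hA, Finset.mem_product] at hp
    have h2 := hp.2
    rw [hB, Finset.mem_filter] at h2
    exact hS p.1 p.2 h2.2.1 h2.2.2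
  · intro z _
    by_cases hne : (A.filter (fun p : G × G => p.1 * p.2 * p.1⁻¹ = z)).Nonempty
    · obtain ⟨⟨h₀, y₀⟩, hp₀⟩ := hne
      rw [Finset.mem_filter, hA, Finset.mem_product, hB, Finset.mem_filter] at hp₀
      obtain ⟨⟨_, _, hy₀Q, hy₀1⟩, hz₀⟩ := hp₀
      simp only at hz₀ hy₀Q hy₀1
      rw [← hNcard]
      apply Finset.card_le_card_of_injOn (fun p : G × G => h₀⁻¹ * p.1)
      · intro p hp
        rw [Finset.mem_coe, Finset.mem_filter, hA, Finset.mem_product, hB, Finset.mem_filter] at hp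
        obtain ⟨⟨_, _, hyQ, hy1⟩, hz⟩ := hp
        obtain ⟨h, y⟩ := p
        simp only at hz hyQ hy1
        rw [Finset.mem_coe, Finset.mem_filter]
        refine ⟨Finset.mem_univ _, ?_⟩
        simp only
        have hw : (h₀⁻¹ * h) * y * (h₀⁻¹ * h)⁻¹ = y₀ := by
          have : h₀⁻¹ * (h * y * h⁻¹) * h₀ = y₀ := by
            rw [hz, ← hz₀]
            group
          rw [← this]
          group
        rw [Subgroup.mem_normalizer_iff]
        intro u
        constructor
        · intro hu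
          rw [← hTI y hyQ hy1, hcomm] at hu
          rw [← hTI y₀ hy₀Q hy₀1, hcomm, ← hw]
          have : (h₀⁻¹ * h) * y * (h₀⁻¹ * h)⁻¹ * ((h₀⁻¹ * h) * u * (h₀⁻¹ * h)⁻¹) =
              (h₀⁻¹ * h) * (y * u) * (h₀⁻¹ * h)⁻¹ := by group
          rw [this, hu]
          group
        · intro hu
          rw [← hTI y₀ hy₀Q hy₀1, hcomm, ← hw] at hu
          rw [← hTI y hyQ hy1, hcomm]
          have h1 : (h₀⁻¹ * h) * (y * u) * (h₀⁻¹ * h)⁻¹ = (h₀⁻¹ * h) * (u * y) * (h₀⁻¹ * h)⁻¹ := by
            have e1 : (h₀⁻¹ * h) * (y * u) * (h₀⁻¹ * h)⁻¹ =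
                (h₀⁻¹ * h) * y * (h₀⁻¹ * h)⁻¹ * ((h₀⁻¹ * h) * u * (h₀⁻¹ * h)⁻¹) := by group
            have e2 : (h₀⁻¹ * h) * (u * y) * (h₀⁻¹ * h)⁻¹ =
                ((h₀⁻¹ * h) * u * (h₀⁻¹ * h)⁻¹) * ((h₀⁻¹ * h) * y * (h₀⁻¹ * h)⁻¹) := by group
            rw [e1, e2, hu]
          have h2 := mul_left_cancel (mul_right_cancel h1)
          exact h2
      · intro p hp p' hp' heq
        rw [Finset.mem_coe, Finset.mem_filter] at hp hp'
        obtain ⟨h, y⟩ := p
        obtain ⟨h', y'⟩ := p'
        simp only at heq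
        have hh : h = h' := mul_left_cancel heq
        subst hh
        have hz := hp.2
        have hz' := hp'.2
        simp only at hz hz'
        have : h * y * h⁻¹ = h * y' * h⁻¹ := by rw [hz, hz']
        have hy : y = y' := mul_left_cancel (mul_right_cancel this)
        rw [hy]
    · rw [Finset.not_nonempty_iff_eq_empty] at hne
      rw [hne, Finset.card_empty]
      exact Nat.zero_le _

end

section

variable {G : Type*} [Group G] [Fintype G]

/-- Step 3: the number of elements outside the conjugates of `K` on which `X` vanishes -/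
theorem card_Y0 {t s : G} {K : Subgroup G} (T1 : BswT1 t K s) (X : G → ℂ)
    (hX : BswCharPlus K X) [DecidablePred (fun g : G => bswOut K g ∧ X g = 0)] :
    (Finset.univ.filter (fun g : G => bswOut K g ∧ X g = 0)).card + 1 =
      (2 * Nat.card K + 1) ^ 2 := by
  classical
  haveI : Fintype (Cfsg.IrrCharacter G) := Fintype.ofFinite _
  have he2 := two_le_card T1
  set e := Nat.card K with he
  -- the number of involutions
  set i := Nat.card {a : G // orderOf a = 2} with hi
  have hi' : i = (e + 1) * (2 * e + 1) := by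
    have h1 := T1.card_invol
    rw [hX.card, ← hi, ← he] at h1
    have h2 : i * (2 * e) = (e + 1) * (2 * e + 1) * (2 * e) := by rw [h1]; ring
    exact Nat.eq_of_mul_eq_mul_right (by omega) h2
  -- the sum of X is zero
  have hsum0 : ∑ g : G, X g = 0 := by
    have hne : (⟨X, hX.irr⟩ : Cfsg.IrrCharacter G) ≠ trivIrr G := by
      intro heq
      have h1 := congrFun (congrArg Subtype.val heq) 1
      simp only [trivIrr_apply] at h1
      rw [hX.deg] at h1
      have : 2 * e + 1 = 1 := by exact_mod_cast h1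
      omega
    have h1 := irr_classInner (⟨X, hX.irr⟩ : Cfsg.IrrCharacter G) (trivIrr G)
    rw [if_neg hne] at h1
    unfold Cfsg.classInner at h1
    have h0 : (Nat.card G : ℂ) ≠ 0 := by
      have : 0 < Nat.card G := Nat.card_pos
      exact_mod_cast this.ne'
    have h2 : ∑ g : G, X g * conj ((trivIrr G : G → ℂ) g) = ∑ g : G, X g := by
      refine Finset.sum_congr rfl fun g _ => ?_
      rw [trivIrr_apply, map_one, mul_one]
    simp only at h1
    rw [h2] at h1
    rcases mul_eq_zero.1 h1 with h3 | h3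
    · exact absurd (inv_eq_zero.1 h3) h0
    · exact h3
  -- the pieces
  set In : Finset G := Finset.univ.filter (fun g : G => ¬ bswOut K g) with hIn
  set Y : Finset G := Finset.univ.filter (fun g : G => bswOut K g) with hY
  set Y0 : Finset G := Finset.univ.filter (fun g : G => bswOut K g ∧ X g = 0) with hY0
  set Ym : Finset G := Finset.univ.filter (fun g : G => bswOut K g ∧ ¬ X g = 0) with hYm
  have hInc : In.card = 1 + i * (e - 1) := by
    rw [hIn, ← Fintype.card_subtype, ← Nat.card_eq_fintype_card]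
    exact T1.card_in
  have hsplit1 : ∑ g ∈ Y, X g + ∑ g ∈ In, X g = ∑ g : G, X g :=
    Finset.sum_filter_add_sum_filter_not Finset.univ (fun g => bswOut K g) X
  have hcl : Cfsg.IsClassFunction G X := h7_irr_isClassFunction hX.irr
  have h1In : (1 : G) ∈ In := by
    rw [hIn, Finset.mem_filter]
    refine ⟨Finset.mem_univ _, fun h => out_ne_one h rfl⟩
  have hInsum : ∑ g ∈ In, X g = ((2 * e + 1 : ℕ) : ℂ) + ((In.card - 1 : ℕ) : ℂ) := by
    rw [← Finset.add_sum_erase In X h1In, hX.deg]
    have h1 : ∀ g ∈ In.erase 1, X g = 1 := by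
      intro g hg
      rw [Finset.mem_erase, hIn, Finset.mem_filter] at hg
      obtain ⟨hg1, _, hgo⟩ := hg
      have hex : ∃ h : G, h * g * h⁻¹ ∈ K := by
        by_contra hc
        push Not at hc
        exact hgo hc
      obtain ⟨h, hh⟩ := hex
      have h2 : h * g * h⁻¹ ≠ 1 := by
        intro h3
        apply hg1
        have : g = h⁻¹ * (h * g * h⁻¹) * h := by group
        rw [this, h3]
        group
      rw [← hcl g h]
      exact hX.onK _ hh h2
    rw [Finset.sum_congr rfl h1, Finset.sum_const, Finset.card_erase_of_mem h1In, nsmul_eq_mul,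
      mul_one]
  have hYsplit : ∑ g ∈ Y0, X g + ∑ g ∈ Ym, X g = ∑ g ∈ Y, X g := by
    have := Finset.sum_filter_add_sum_filter_not Y (fun g => X g = 0) X
    rw [← this]
    congr 1
    · apply Finset.sum_congr _ (fun _ _ => rfl)
      ext g
      simp only [hY0, hY, Finset.mem_filter, Finset.mem_univ, true_and]
    · apply Finset.sum_congr _ (fun _ _ => rfl)
      ext g
      simp only [hYm, hY, Finset.mem_filter, Finset.mem_univ, true_and]
  have hY0sum : ∑ g ∈ Y0, X g = 0 := by
    apply Finset.sum_eq_zero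
    intro g hg
    rw [hY0, Finset.mem_filter] at hg
    exact hg.2.2
  have hYmsum : ∑ g ∈ Ym, X g = -(Ym.card : ℂ) := by
    have h1 : ∀ g ∈ Ym, X g = -1 := by
      intro g hg
      rw [hYm, Finset.mem_filter] at hg
      obtain ⟨_, _, _, hcases, _⟩ := out_struct T1 X hX g hg.2.1
      rcases hcases with h | h
      · exact absurd h.1 hg.2.2
      · exact h.1
    rw [Finset.sum_congr rfl h1, Finset.sum_const, nsmul_eq_mul, mul_neg, mul_one]
  have hYcard : Y0.card + Ym.card = Y.card := by
    have := Finset.card_filter_add_card_filter_not (s := Y) (fun g => X g = 0)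
    rw [← this]
    congr 1
    · congr 1
      ext g
      simp only [hY0, hY, Finset.mem_filter, Finset.mem_univ, true_and]
    · congr 1
      ext g
      simp only [hYm, hY, Finset.mem_filter, Finset.mem_univ, true_and]
  have hGcard : Y.card + In.card = Nat.card G := by
    have := Finset.card_filter_add_card_filter_not (s := (Finset.univ : Finset G))
      (fun g => bswOut K g)
    rw [Finset.card_univ, ← Nat.card_eq_fintype_card] at this
    exact this
  -- the equation
  have hYm : (Ym.card : ℤ) = (2 * e + 1 : ℕ) + ((In.card : ℤ) - 1) := by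
    have h1 : -(Ym.card : ℂ) + (((2 * e + 1 : ℕ) : ℂ) + ((In.card - 1 : ℕ) : ℂ)) = 0 := by
      rw [← hYmsum, ← hInsum, ← hsum0, ← hsplit1, ← hYsplit, hY0sum, zero_add]
    have hInpos : 1 ≤ In.card := Finset.card_pos.2 ⟨1, h1In⟩
    have h2 : ((In.card - 1 : ℕ) : ℂ) = (In.card : ℂ) - 1 := by
      rw [Nat.cast_sub hInpos]
      simp
    rw [h2] at h1
    have h3 : (((Ym.card : ℤ)) : ℂ) = ((((2 * e + 1 : ℕ) : ℤ) + ((In.card : ℤ) - 1) : ℤ) : ℂ) := by
      push_cast at h1 ⊢
      linear_combination -h1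
    exact_mod_cast h3
  -- arithmetic
  have hGc : (Nat.card G : ℤ) = 2 * (e : ℤ) * ((e : ℤ) + 1) * (2 * (e : ℤ) + 1) := by
    rw [hX.card]
    push_cast
    ring
  have hIc : (In.card : ℤ) = 1 + ((e : ℤ) + 1) * (2 * (e : ℤ) + 1) * ((e : ℤ) - 1) := by
    rw [hInc, hi']
    have : ((e - 1 : ℕ) : ℤ) = (e : ℤ) - 1 := by
      rw [Nat.cast_sub (by omega)]
      simp
    push_cast
    rw [this]
  have hY0c : (Y0.card : ℤ) = (Nat.card G : ℤ) - In.card - Ym.card := by
    have h1 : ((Y0.card + Ym.card + In.card : ℕ) : ℤ) = (Nat.card G : ℤ) := by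
      rw [hYcard, hGcard]
    push_cast at h1
    linarith
  have hfinal : ((Y0.card + 1 : ℕ) : ℤ) = (((2 * e + 1) ^ 2 : ℕ) : ℤ) := by
    push_cast
    rw [hY0c, hYm, hGc, hIc]
    push_cast
    ring
  exact_mod_cast hfinal

end

section

variable {G : Type*} [Group G] [Fintype G]

/-- **T4, the endgame in the case `q = 2e + 1`**: from the local facts `BswT1` and the
character `X` of degree `2e + 1`, the conclusion of the Brauer–Suzuki–Wall theorem. -/
theorem bsw_end_plus {t s : G} {K : Subgroup G} (T1 : BswT1 t K s) (X : G → ℂ)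
    (hX : BswCharPlus K X) : BswConcl G := by
  classical
  have he2 := two_le_card T1
  set e := Nat.card K with he
  have hY0 := card_Y0 T1 X hX
  rw [← he] at hY0
  -- an element of Y0
  have hY0pos : 0 < (Finset.univ.filter (fun g : G => bswOut K g ∧ X g = 0)).card := by
    have : 1 < (2 * e + 1) ^ 2 := by
      have : 1 < 2 * e + 1 := by omega
      nlinarith
    omega
  obtain ⟨x₀, hx₀⟩ := Finset.card_pos.1 hY0pos
  rw [Finset.mem_filter] at hx₀
  obtain ⟨-, hx₀out, hx₀X⟩ := hx₀
  obtain ⟨a, ha, hax, hcases, hall⟩ := out_struct T1 X hX x₀ hx₀out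
  have hQcard : Nat.card (Subgroup.centralizer ({x₀} : Set G)) = 2 * e + 1 := by
    rcases hcases with h | h
    · exact h.2
    · exfalso
      rw [hx₀X] at h
      have := h.1
      norm_num at this
  obtain ⟨hQodd, hQinv, hQab, hQall, L, g, hag, haL, hLK, hQL, hN, hLdvd⟩ := T1.Q hx₀out ha hax
  set Q := Subgroup.centralizer ({x₀} : Set G) with hQ
  have hTI : ∀ y ∈ Q, y ≠ 1 → Subgroup.centralizer ({y} : Set G) = Q :=
    fun y hy hy1 => (hQall y hy hy1).2.1
  have hcl : Cfsg.IsClassFunction G X := h7_irr_isClassFunction hX.irr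
  have hS : ∀ h : G, ∀ y ∈ Q, y ≠ 1 →
      h * y * h⁻¹ ∈ Finset.univ.filter (fun g : G => bswOut K g ∧ X g = 0) := by
    intro h y hy hy1
    rw [Finset.mem_filter]
    refine ⟨Finset.mem_univ _, out_conj (hQall y hy hy1).1 h, ?_⟩
    rw [hcl y h, hall y hy hy1, hx₀X]
  have hcount := ti_count Q hTI _ hS
  -- the order of the normalizer
  have hLN : L ≤ Subgroup.normalizer (Q : Set G) := by
    rw [hN]
    exact le_sup_right
  have hNle : Nat.card (Subgroup.normalizer (Q : Set G)) ≤ (2 * e + 1) * Nat.card L := by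
    have h1 : ((Subgroup.normalizer (Q : Set G) : Subgroup G) : Set G) = (Q : Set G) * (L : Set G) := by
      rw [hN]
      exact Subgroup.coe_mul_of_right_le_normalizer_left Q L hLN
    have h2 : Nat.card (Subgroup.normalizer (Q : Set G)) =
        Nat.card (((Q : Set G) * (L : Set G) : Set G)) := by
      rw [← h1]
      rfl
    rw [h2]
    refine (Set.natCard_mul_le).trans ?_
    rw [← hQcard]
    exact le_of_eq rfl
  -- e ≤ |L|
  have hYc : (Finset.univ.filter (fun g : G => bswOut K g ∧ X g = 0)).card =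
      (2 * e + 1) ^ 2 - 1 := by omega
  have heL : e ≤ Nat.card L := by
    rw [hQcard, hX.card, ← he, hYc] at hcount
    have h1 : 2 * e + 1 - 1 = 2 * e := by omega
    have h2 : (2 * e + 1) ^ 2 - 1 = 4 * e * (e + 1) := by
      have : (2 * e + 1) ^ 2 = 4 * e * (e + 1) + 1 := by ring
      omega
    rw [h1, h2] at hcount
    have h3 := hcount.trans (Nat.mul_le_mul_right _ hNle)
    -- 2e(e+1)(2e+1) * 2e ≤ (2e+1) * l * (4e(e+1))
    have h4 : (4 * e * (e + 1) * (2 * e + 1)) * e ≤ (4 * e * (e + 1) * (2 * e + 1)) * Nat.card L := by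
      calc (4 * e * (e + 1) * (2 * e + 1)) * e
          = 2 * e * (e + 1) * (2 * e + 1) * (2 * e) := by ring
        _ ≤ (2 * e + 1) * Nat.card L * (4 * e * (e + 1)) := h3
        _ = (4 * e * (e + 1) * (2 * e + 1)) * Nat.card L := by ring
    exact Nat.le_of_mul_le_mul_left h4 (by positivity)
  -- L is the whole conjugate of K
  obtain ⟨hDab, hDcard, hDrest⟩ := T1.conjK g
  have hLD : L = K.map (MulAut.conj g).toMonoidHom := by
    apply Subgroup.eq_of_le_of_card_ge hLK
    rw [hDcard]
    exact heL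
  rw [hLD] at hQL hN
  refine ⟨Q, K.map (MulAut.conj g).toMonoidHom, ?_, hTI, hDab, ?_, hQL, hN, hDrest⟩
  · rw [hQcard, hX.card, ← he]
    have h1 : 2 * e + 1 - 1 = 2 * e := by omega
    rw [h1]
    ring
  · rw [hDcard, hQcard]

end

end Cfsg.Agent.Lib.Helper25.BSW4
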