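import Mathlib
import Cfsg.Prelude.Def_Characters
import Cfsg.Agent.Lib.helper2.BSWDefs
import Cfsg.Agent.Lib.helper2.BSWCharDefs
import Cfsg.Agent.Lib.helper2.BSWChar4
import Cfsg.Agent.Lib.Helper25.KnorrBound
import Cfsg.Agent.Lib.Helper25.BSW4

/-!
Piece T6 of the Brauer–Suzuki–Wall plan (statement S3282, see Lib/helper2/BSW_PLAN.md):
the character theory in the case |K| = 2 (the groups A4 and A5), theorem bsw_char_two.
-/

set_option autoImplicit false

namespace Cfsg.Agent.Lib.Helper25.BSW6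
open scoped ComplexConjugate
open Cfsg.Agent.Lib.helper2
open Cfsg.Agent.Lib.helper7
open Cfsg.Agent.Lib.Helper25.BSW4
section

/-- one negative sign (in the third position) -/
theorem arith_A (d1 d2 d3 m3 N : ℤ) (hd1 : 1 ≤ d1) (hd2 : 1 ≤ d2)
    (hm3 : 0 ≤ m3) (hg3 : d3 - 3 = 4 * m3)
    (hdeg : 1 + d1 + d2 - d3 = 0)
    (hE : N * (d1 * d2 * d3 + d2 * d3 + d1 * d3 - d1 * d2) = 32 * (d1 * d2 * d3))
    (hsq : 1 + d1 ^ 2 + d2 ^ 2 + d3 ^ 2 ≤ N) :
    N = 12 ∧ d1 = 1 ∧ d2 = 1 ∧ d3 = 3 := by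
  have hd3 : d3 = 1 + d1 + d2 := by linarith
  have hP : 0 < d1 * d2 * d3 := by
    have : 0 < d3 := by linarith
    positivity
  have hR : 0 < d2 * d3 + d1 * d3 - d1 * d2 := by
    rw [hd3]
    nlinarith [mul_pos (show (0:ℤ) < d1 by linarith) (show (0:ℤ) < d2 by linarith)]
  have hN : N < 32 := by
    by_contra hcon
    push Not at hcon
    have h1 : 32 * (d1 * d2 * d3 + (d2 * d3 + d1 * d3 - d1 * d2)) ≤
        N * (d1 * d2 * d3 + (d2 * d3 + d1 * d3 - d1 * d2)) :=
      mul_le_mul_of_nonneg_right hcon (by linarith)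
    nlinarith
  have hd3le : d3 ≤ 5 := by nlinarith
  have hm30 : m3 = 0 := by omega
  subst hm30
  have hd33 : d3 = 3 := by omega
  have hd11 : d1 = 1 := by omega
  have hd21 : d2 = 1 := by omega
  subst hd33 hd11 hd21
  refine ⟨?_, rfl, rfl, rfl⟩
  norm_num at hE
  omega

/-- two negative signs (in the second and third position) -/
theorem arith_B (d1 d2 d3 m1 m2 m3 N : ℤ) (hd1 : 1 ≤ d1)
    (hm2 : 0 ≤ m2) (hm3 : 0 ≤ m3)
    (hg1 : d1 + 3 = 4 * m1) (hg2 : d2 - 3 = 4 * m2) (hg3 : d3 - 3 = 4 * m3)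
    (hdeg : 1 + d1 - d2 - d3 = 0)
    (hE : N * (d1 * d2 * d3 + d2 * d3 - d1 * d3 - d1 * d2) = 32 * (d1 * d2 * d3))
    (hsq : 1 + d1 ^ 2 + d2 ^ 2 + d3 ^ 2 ≤ N) :
    N = 60 ∧ d1 = 5 ∧ d2 = 3 ∧ d3 = 3 := by
  have hd2 : 3 ≤ d2 := by linarith
  have hd3 : 3 ≤ d3 := by linarith
  have hP : 0 < d1 * d2 * d3 := by
    have h2 : 0 < d2 := by linarith
    have h3 : 0 < d3 := by linarith
    positivity
  have hN0 : 0 < N := by nlinarith
  set Q := d1 * d2 * d3 + d2 * d3 - d1 * d3 - d1 * d2 with hQ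
  have h3Q : d1 * d2 * d3 < 3 * Q := by
    have e : 3 * Q - d1 * d2 * d3 = d1 * d3 * (d2 - 3) + d1 * d2 * (d3 - 3) + 3 * (d2 * d3) := by
      rw [hQ]; ring
    have t1 : 0 ≤ d1 * d3 * (d2 - 3) := by
      apply mul_nonneg (mul_nonneg (by linarith) (by linarith)) (by linarith)
    have t2 : 0 ≤ d1 * d2 * (d3 - 3) := by
      apply mul_nonneg (mul_nonneg (by linarith) (by linarith)) (by linarith)
    have t3 : 0 < d2 * d3 := mul_pos (by linarith) (by linarith)
    linarith
  have hQpos : 0 < Q := by linarith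
  have hN : N < 96 := by
    by_contra hcon
    push Not at hcon
    have h1 : 96 * Q ≤ N * Q := mul_le_mul_of_nonneg_right hcon hQpos.le
    linarith
  have hd1le : d1 ≤ 9 := by nlinarith
  have hd2le : d2 ≤ 9 := by nlinarith
  have hd3le : d3 ≤ 9 := by nlinarith
  have hm1a : 1 ≤ m1 := by omega
  have hm1b : m1 ≤ 3 := by omega
  have hm2b : m2 ≤ 1 := by omega
  have hm3b : m3 ≤ 1 := by omega
  have hd1e : d1 = 4 * m1 - 3 := by linarith
  have hd2e : d2 = 4 * m2 + 3 := by linarith
  have hd3e : d3 = 4 * m3 + 3 := by linarith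
  rw [hQ] at hE
  subst hd1e hd2e hd3e
  interval_cases m1 <;> interval_cases m2 <;> interval_cases m3 <;> omega

end

section

/-- a sum with at most four nonzero terms -/
theorem sum_four {I : Type*} [Fintype I] [DecidableEq I] (f : I → ℂ) (o p q r : I)
    (hpo : p ≠ o) (hqo : q ≠ o) (hro : r ≠ o) (hpq : p ≠ q) (hpr : p ≠ r) (hqr : q ≠ r)
    (h0 : ∀ i, i ≠ o → i ≠ p → i ≠ q → i ≠ r → f i = 0) :
    ∑ i, f i = f o + f p + f q + f r := by
  have hsub : ({o, p, q, r} : Finset I) ⊆ Finset.univ := Finset.subset_univ _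
  rw [← Finset.sum_subset hsub]
  · rw [Finset.sum_insert, Finset.sum_insert, Finset.sum_insert, Finset.sum_singleton]
    · ring
    · simpa using hqr
    · simp only [Finset.mem_insert, Finset.mem_singleton, not_or]
      exact ⟨hpq, hpr⟩
    · simp only [Finset.mem_insert, Finset.mem_singleton, not_or]
      exact ⟨Ne.symm hpo, Ne.symm hqo, Ne.symm hro⟩
  · intro i _ hi
    simp only [Finset.mem_insert, Finset.mem_singleton, not_or] at hi
    exact h0 i hi.1 hi.2.1 hi.2.2.1 hi.2.2.2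

section

variable {G : Type*} [Group G] [Fintype G] {t s : G} {K : Subgroup G} [Fintype K]

omit [Fintype G] [Fintype K] in
theorem t_ne_one (h : BswHyp t K s) : t ≠ 1 := by
  intro h1
  have := h.ht
  rw [h1, orderOf_one] at this
  omega

omit [Fintype G] [Fintype K] in
theorem t_sq (h : BswHyp t K s) : t * t = 1 := by
  have := pow_orderOf_eq_one t
  rw [h.ht, pow_two] at this
  exact this

omit [Fintype G] [Fintype K] in
/-- `K = {1, t}` -/
theorem K_two (h : BswHyp t K s) (he : Nat.card K = 2) (x : K) : x = 1 ∨ x = ⟨t, h.htK⟩ := by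
  obtain ⟨y, hy, huniq⟩ := (Nat.card_eq_two_iff' (1 : K)).1 he
  by_cases hx : x = 1
  · exact Or.inl hx
  · right
    have h1 : (⟨t, h.htK⟩ : K) ≠ 1 := by
      intro h'
      exact t_ne_one h (congrArg Subtype.val h')
    rw [huniq x hx, huniq _ h1]

variable [Fintype (Cfsg.IrrCharacter K)]

/-- the nontrivial character of `K` -/
theorem exists_nu (h : BswHyp t K s) (he : Nat.card K = 2) :
    ∃ ν : Cfsg.IrrCharacter K, ν ≠ trivIrr K ∧ (ν : K → ℂ) ⟨t, h.htK⟩ = -1 ∧ irrConj ν = ν ∧
      ∀ μ : Cfsg.IrrCharacter K, μ = trivIrr K ∨ μ = ν := by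
  classical
  have hcard : Fintype.card (Cfsg.IrrCharacter K) = 2 := by
    rw [bsw_ab_card (bsw_K_comm' h), he]
  obtain ⟨ν, hν⟩ := Fintype.exists_ne_of_one_lt_card (by rw [hcard]; norm_num) (trivIrr K)
  have huniv : (Finset.univ : Finset (Cfsg.IrrCharacter K)) = {trivIrr K, ν} := by
    symm
    apply Finset.eq_of_subset_of_card_le (Finset.subset_univ _)
    rw [Finset.card_univ, hcard, Finset.card_pair (Ne.symm hν)]
  have hall : ∀ μ : Cfsg.IrrCharacter K, μ = trivIrr K ∨ μ = ν := by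
    intro μ
    have := Finset.mem_univ μ
    rw [huniv] at this
    simpa using this
  have ht1 : (⟨t, h.htK⟩ : K) ≠ 1 := by
    intro h'
    exact t_ne_one h (congrArg Subtype.val h')
  have hsum := bsw_ab_sum (bsw_K_comm' h) ht1
  rw [huniv, Finset.sum_pair (Ne.symm hν), trivIrr_apply] at hsum
  have hνt : (ν : K → ℂ) ⟨t, h.htK⟩ = -1 := by linear_combination hsum
  refine ⟨ν, hν, hνt, ?_, hall⟩
  apply Subtype.ext
  funext x
  rw [irrConj_apply]
  rcases K_two h he x with hx | hx
  · rw [hx, bsw_ab_one (bsw_K_comm' h) ν, map_one]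
  · rw [hx, hνt, map_neg, map_one]

end

end

section

variable {G : Type*} [Group G] [Fintype G] {t : G} {K : Subgroup G}

/-- the endgame of the case `|K| = 2`: `X` is the character among the three whose sign `ε`
differs from that of the other two, `Y` and `Z` -/
theorem conclude (he : Nat.card K = 2) (hK2 : ∀ x ∈ K, x = 1 ∨ x = t)
    (X Y Z : Cfsg.IrrCharacter G) (ε : ℤ) (hε : ε = 1 ∨ ε = -1) (dX dY dZ mX mY mZ : ℕ)
    (hX1 : (X : G → ℂ) 1 = dX) (hdX : 1 ≤ dX) (hdY : 1 ≤ dY) (hdZ : 1 ≤ dZ)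
    (hXt : (X : G → ℂ) t = ε)
    (hexp : ∀ x, bswOut K x →
      1 + (ε : ℂ) * (X : G → ℂ) x - (ε : ℂ) * (Y : G → ℂ) x - (ε : ℂ) * (Z : G → ℂ) x = 0)
    (hbeta : ∀ x, (bswBeta x : ℂ) * 16 = (Nat.card G : ℂ) *
      (1 + (X : G → ℂ) x / dX + (Y : G → ℂ) x / dY + (Z : G → ℂ) x / dZ))
    (hdeg : 1 + ε * dX - ε * dY - ε * dZ = 0)
    (hE : (Nat.card G : ℤ) * ((dX : ℤ) * dY * dZ + ε * (dY * dZ) - ε * (dX * dZ) - ε * (dX * dY)) =
      32 * ((dX : ℤ) * dY * dZ))
    (hmX : (dX : ℤ) + 3 * ε = 4 * mX) (hmY : (dY : ℤ) - 3 * ε = 4 * mY)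
    (hmZ : (dZ : ℤ) - 3 * ε = 4 * mZ)
    (hsq : (1 : ℤ) + (dX : ℤ) ^ 2 + (dY : ℤ) ^ 2 + (dZ : ℤ) ^ 2 ≤ Nat.card G) :
    (∃ X' : G → ℂ, BswCharPlus K X') ∨ (∃ X' : G → ℂ, BswCharMinus K X') := by
  rcases hε with rfl | rfl
  · -- ε = 1 : A₅
    left
    obtain ⟨hN, h1, h2, h3⟩ := arith_B (dX : ℤ) dY dZ mX mY mZ (Nat.card G) (by exact_mod_cast hdX)
      (by positivity) (by positivity) (by linarith) (by linarith) (by linarith) (by linarith)
      (by linear_combination hE) (by linarith)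
    have hN' : Nat.card G = 60 := by exact_mod_cast hN
    have h1' : dX = 5 := by exact_mod_cast h1
    have h2' : dY = 3 := by exact_mod_cast h2
    have h3' : dZ = 3 := by exact_mod_cast h3
    subst h1' h2' h3'
    refine ⟨(X : G → ℂ), ⟨X.2, ?_, ?_, ?_, ?_⟩⟩
    · rw [hX1, he]
    · rw [hN', he]
    · intro x hx hx1
      rcases hK2 x hx with h | h
      · exact absurd h hx1
      · rw [h, hXt]; simp
    · intro x hx
      have hb := hbeta x
      have he' := hexp x hx
      rw [hN'] at hb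
      rw [he]
      push_cast at hb he' ⊢
      linear_combination (1 / 16) * hb - (5 / 4) * he'
  · -- ε = -1 : A₄
    right
    obtain ⟨hN, h2, h3, h1⟩ := arith_A (dY : ℤ) dZ dX mX (Nat.card G) (by exact_mod_cast hdY)
      (by exact_mod_cast hdZ) (by positivity) (by linarith) (by linarith)
      (by linear_combination hE) (by linarith)
    have hN' : Nat.card G = 12 := by exact_mod_cast hN
    have h1' : dX = 3 := by exact_mod_cast h1
    have h2' : dY = 1 := by exact_mod_cast h2
    have h3' : dZ = 1 := by exact_mod_cast h3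
    subst h1' h2' h3'
    refine ⟨(X : G → ℂ), ⟨X.2, ?_, ?_, ?_, ?_⟩⟩
    · rw [hX1, he]
    · rw [hN', he]
    · intro x hx hx1
      rcases hK2 x hx with h | h
      · exact absurd h hx1
      · rw [h, hXt]; simp
    · intro x hx
      have hb := hbeta x
      have he' := hexp x hx
      rw [hN'] at hb
      rw [he]
      push_cast at hb he' ⊢
      linear_combination (1 / 16) * hb + (3 / 4) * he'

end

section

variable {G : Type*} [Group G] [Fintype G] {t s : G} {K : Subgroup G} [Fintype K]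

/-- the sum of an irreducible character over `C(t)`, a four-group all of whose involutions are
conjugate to `t` -/
theorem sum_H (h : BswHyp t K s) (L : BswLoc t K s) (he : Nat.card K = 2)
    (χ : Cfsg.IrrCharacter G) :
    ∃ m : ℕ, (χ : G → ℂ) 1 + 3 * (χ : G → ℂ) t = 4 * (m : ℂ) := by
  classical
  set H := Subgroup.centralizer ({t} : Set G) with hH
  haveI : Fintype H := Fintype.ofFinite _
  obtain ⟨m, hm⟩ := sum_subgroup_eq (χ : G → ℂ) (isCharacter_of_irr χ) H
  refine ⟨m, ?_⟩
  have hcl : Cfsg.IsClassFunction G (χ : G → ℂ) := h7_irr_isClassFunction χ.2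
  have hcardH : Nat.card H = 4 := by rw [hH, L.card_H, he]
  have h1 : ∀ y ∈ Finset.univ.erase (1 : H), (χ : G → ℂ) (y : G) = (χ : G → ℂ) t := by
    intro y hy
    have hy1 : (y : G) ≠ 1 := by
      intro h'
      exact (Finset.mem_erase.1 hy).1 (Subtype.ext h')
    have hsq : (y : G) * (y : G) = 1 := by
      rcases L.mem_H y.2 with hyK | ⟨k, hk, hyk⟩
      · rcases K_two h he ⟨(y : G), hyK⟩ with h' | h'
        · exact absurd (congrArg Subtype.val h') hy1
        · have : (y : G) = t := congrArg Subtype.val h'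
          rw [this]
          exact t_sq h
      · rw [hyk]
        exact L.mul_s_sq hk
    have hord : orderOf (y : G) = 2 := by
      haveI : Fact (Nat.Prime 2) := ⟨Nat.prime_two⟩
      apply orderOf_eq_prime _ hy1
      rw [pow_two]
      exact hsq
    obtain ⟨c, hc⟩ := isConj_iff.1 (h.hconj t (y : G) h.ht hord)
    rw [← hc]
    exact hcl t c
  have hsum : ∑ y : H, (χ : G → ℂ) (y : G) = (χ : G → ℂ) 1 + 3 * (χ : G → ℂ) t := by
    rw [← Finset.add_sum_erase Finset.univ (fun y : H => (χ : G → ℂ) (y : G))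
      (Finset.mem_univ (1 : H))]
    rw [Finset.sum_congr rfl h1, Finset.sum_const, Finset.card_erase_of_mem (Finset.mem_univ _),
      Finset.card_univ, ← Nat.card_eq_fintype_card, hcardH, Subgroup.coe_one]
    simp
  rw [hsum, hcardH] at hm
  rw [hm]
  push_cast
  ring

end

section

variable {G : Type*} [Group G] [Fintype G] {t s : G} {K : Subgroup G} [Fintype K]

/-- **T6**: the character theory of the Brauer–Suzuki–Wall set-up in the case `|K| = 2`
(the groups `A₄` and `A₅`) -/
theorem bsw_char_two (h : BswHyp t K s) (L : BswLoc t K s) (he : Nat.card K = 2) :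
    (∃ X : G → ℂ, BswCharPlus K X) ∨ (∃ X : G → ℂ, BswCharMinus K X) := by
  classical
  haveI : Fintype (Cfsg.IrrCharacter G) := Fintype.ofFinite _
  haveI : Fintype (Cfsg.IrrCharacter K) := Fintype.ofFinite _
  obtain ⟨ν, hν, hνt, hνreal, hνall⟩ := exists_nu h he
  have hK2 : ∀ x ∈ K, x = 1 ∨ x = t := by
    intro x hx
    rcases K_two h he ⟨x, hx⟩ with h' | h'
    · exact Or.inl (congrArg Subtype.val h')
    · exact Or.inr (congrArg Subtype.val h')
  have ht1 : (⟨t, h.htK⟩ : K) ≠ 1 := by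
    intro h'
    exact t_ne_one h (congrArg Subtype.val h')
  have huniv : (Finset.univ : Finset (Cfsg.IrrCharacter K)) = {trivIrr K, ν} := by
    ext μ
    simp only [Finset.mem_univ, Finset.mem_insert, Finset.mem_singleton, true_iff]
    exact hνall μ
  -- the coefficient vector
  let c : Cfsg.IrrCharacter G → ℤ := bswC K ν
  have hcdef : ∀ χ, bswCoeff (bswPhi K ν) χ = c χ := fun χ => rfl
  let o : Cfsg.IrrCharacter G := trivIrr G
  have hco : c o = 1 := by
    have h1 := bswC_spec (K := K) ν o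
    rw [bswPhi_inner_triv, if_neg hν] at h1
    have : ((c o : ℤ) : ℂ) = ((1 : ℤ) : ℂ) := by
      rw [← h1]; simp
    exact_mod_cast this
  have h4 : bswDot c c = 4 := by
    have h1 := bswPhi_inner h L ν ν hν hν
    rw [if_pos rfl, if_pos hνreal.symm] at h1
    have h2 := bsw_inner_eq_dot (bswPhi_genChar (K := K) ν) (bswPhi_genChar (K := K) ν)
    rw [h1] at h2
    have : ((bswDot c c : ℤ) : ℂ) = ((4 : ℤ) : ℂ) := by
      show ((bswDot (bswCoeff (bswPhi K ν)) (bswCoeff (bswPhi K ν)) : ℤ) : ℂ) = _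
      rw [← h2]; norm_num
    exact_mod_cast this
  obtain ⟨p, q, r, hpo, hqo, hro, hpq, hpr, hqr, hcp, hcq, hcr, hc0⟩ :=
    bsw_norm_four c h4 o (Or.inl hco)
  -- values at t
  have hval : ∀ χ : Cfsg.IrrCharacter G, (χ : G → ℂ) t = (c χ : ℂ) := by
    intro χ
    have h1 := bsw_restrict_formula h χ ⟨t, h.htK⟩ ht1
    rw [huniv, Finset.sum_pair (Ne.symm hν), bswC_triv h χ, hνt] at h1
    rw [show ((⟨t, h.htK⟩ : K) : G) = t from rfl] at h1
    rw [h1]
    show _ = ((bswC K ν χ : ℤ) : ℂ)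
    push_cast
    ring
  -- degrees
  obtain ⟨dp, hdp0, hdp⟩ := irr_one_eq_finrank p
  obtain ⟨dq, hdq0, hdq⟩ := irr_one_eq_finrank q
  obtain ⟨dr, hdr0, hdr⟩ := irr_one_eq_finrank r
  have hdpC : (dp : ℂ) ≠ 0 := by exact_mod_cast hdp0.ne'
  have hdqC : (dq : ℂ) ≠ 0 := by exact_mod_cast hdq0.ne'
  have hdrC : (dr : ℂ) ≠ 0 := by exact_mod_cast hdr0.ne'
  -- the expansion of Φ
  have hexp : ∀ x : G, bswPhi K ν x = 1 + (c p : ℂ) * (p : G → ℂ) x + (c q : ℂ) * (q : G → ℂ) x +
      (c r : ℂ) * (r : G → ℂ) x := by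
    intro x
    rw [bsw_expand_apply (bswPhi_genChar (K := K) ν) x]
    rw [sum_four _ o p q r hpo hqo hro hpq hpr hqr]
    · rw [hcdef, hcdef, hcdef, hcdef, hco]
      show ((1 : ℤ) : ℂ) * (trivIrr G : G → ℂ) x + _ + _ + _ = _
      rw [trivIrr_apply]
      push_cast
      ring
    · intro i h1 h2 h3 h4
      rw [hcdef, hc0 i h1 h2 h3 h4]
      simp
  -- squares
  have hsqv : ∀ χ : Cfsg.IrrCharacter G, (c χ = 1 ∨ c χ = -1) → ((c χ : ℤ) : ℂ) * (c χ : ℂ) = 1 := by
    intro χ hχ
    rcases hχ with h' | h' <;> rw [h'] <;> norm_num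
  -- the class multiplication formula
  have hbeta : ∀ x : G, (bswBeta x : ℂ) * 16 = (Nat.card G : ℂ) *
      (1 + (p : G → ℂ) x / dp + (q : G → ℂ) x / dq + (r : G → ℂ) x / dr) := by
    intro x
    have h1 := bsw_beta_formula t h.ht h.hconj x
    rw [L.card_H, he] at h1
    rw [sum_four _ o p q r hpo hqo hro hpq hpr hqr] at h1
    · rw [hval o, hval p, hval q, hval r, hco, hsqv p hcp, hsqv q hcq, hsqv r hcr, hdp, hdq,
        hdr] at h1
      have ho1 : (o : G → ℂ) x = 1 := trivIrr_apply G x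
      have ho2 : (o : G → ℂ) 1 = 1 := trivIrr_apply G 1
      rw [ho1, ho2] at h1
      have h2 : (bswBeta x : ℂ) * 16 = (bswBeta x : ℂ) * (((2 * 2 : ℕ) : ℂ)) ^ 2 := by
        push_cast; ring
      rw [h2, h1]
      push_cast
      ring
    · intro i h1 h2 h3 h4
      rw [hval i, hc0 i h1 h2 h3 h4]
      simp
  -- the degree equation
  have hdeg : (1 : ℤ) + c p * dp + c q * dq + c r * dr = 0 := by
    have h1 := hexp 1
    rw [bswPhi_one h ν, hdp, hdq, hdr] at h1
    have : (((1 : ℤ) + c p * dp + c q * dq + c r * dr : ℤ) : ℂ) = ((0 : ℤ) : ℂ) := by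
      push_cast
      rw [h1]
    exact_mod_cast this
  -- the order equation
  have hcube : ∀ χ : Cfsg.IrrCharacter G, (c χ = 1 ∨ c χ = -1) →
      ((c χ : ℤ) : ℂ) * (c χ : ℂ) * (c χ : ℂ) = (c χ : ℂ) := by
    intro χ hχ
    rw [hsqv χ hχ, one_mul]
  have hE : (Nat.card G : ℤ) * ((dp : ℤ) * dq * dr + c p * (dq * dr) + c q * (dp * dr) +
      c r * (dp * dq)) = 32 * ((dp : ℤ) * dq * dr) := by
    have h1 := bsw_E h L ν hν
    rw [he] at h1
    rw [sum_four _ o p q r hpo hqo hro hpq hpr hqr] at h1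
    · rw [hval o, hval p, hval q, hval r] at h1
      have e : ∀ χ : Cfsg.IrrCharacter G, ((bswC K ν χ : ℤ) : ℂ) = (c χ : ℂ) := fun χ => rfl
      rw [e o, e p, e q, e r, hcube p hcp, hcube q hcq, hcube r hcr, hco, hdp, hdq, hdr] at h1
      have ho2 : (o : G → ℂ) 1 = 1 := trivIrr_apply G 1
      rw [ho2] at h1
      have h2 : (Nat.card G : ℂ) * ((dp : ℂ) * dq * dr + (c p : ℂ) * (dq * dr) +
          (c q : ℂ) * (dp * dr) + (c r : ℂ) * (dp * dq)) = 32 * ((dp : ℂ) * dq * dr) := by
        have e2 : (Nat.card G : ℂ) * ((dp : ℂ) * dq * dr + (c p : ℂ) * (dq * dr) +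
            (c q : ℂ) * (dp * dr) + (c r : ℂ) * (dp * dq)) =
            ((Nat.card G : ℂ) * (((1 : ℤ) : ℂ) * ((1 : ℤ) : ℂ) * ((1 : ℤ) : ℂ) / 1 +
              (c p : ℂ) / dp + (c q : ℂ) / dq + (c r : ℂ) / dr)) * ((dp : ℂ) * dq * dr) := by
          field_simp
          push_cast
          ring
        rw [e2, h1]
        push_cast
        ring
      exact_mod_cast h2
    · intro i h1 h2 h3 h4
      have e : ((bswC K ν i : ℤ) : ℂ) = (c i : ℂ) := rfl
      rw [e, hc0 i h1 h2 h3 h4]
      simp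
  -- the congruences mod 4
  have hmod : ∀ (χ : Cfsg.IrrCharacter G) (d : ℕ), (χ : G → ℂ) 1 = d →
      ∃ m : ℕ, (d : ℤ) + 3 * c χ = 4 * m := by
    intro χ d hd
    obtain ⟨m, hm⟩ := sum_H h L he χ
    refine ⟨m, ?_⟩
    rw [hd, hval χ] at hm
    exact_mod_cast hm
  obtain ⟨mp, hmp⟩ := hmod p dp hdp
  obtain ⟨mq, hmq⟩ := hmod q dq hdq
  obtain ⟨mr, hmr⟩ := hmod r dr hdr
  -- the sum of the squares of the degrees
  have hsq : (1 : ℤ) + (dp : ℤ) ^ 2 + (dq : ℤ) ^ 2 + (dr : ℤ) ^ 2 ≤ Nat.card G := by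
    have hcol := knb_sum_normsq_all (X := G) (1 : G)
    have hle : ∑ χ ∈ ({o, p, q, r} : Finset (Cfsg.IrrCharacter G)), ‖(χ : G → ℂ) 1‖ ^ 2 ≤
        ∑ χ : Cfsg.IrrCharacter G, ‖(χ : G → ℂ) 1‖ ^ 2 :=
      Finset.sum_le_sum_of_subset_of_nonneg (Finset.subset_univ _) (fun _ _ _ => sq_nonneg _)
    have htop : Subgroup.centralizer ({(1 : G)} : Set G) = ⊤ := by
      ext y
      simp [Subgroup.mem_centralizer_iff]
    rw [hcol, htop, Subgroup.card_top] at hle
    rw [Finset.sum_insert, Finset.sum_insert, Finset.sum_insert, Finset.sum_singleton] at hle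
    · have ho2 : (o : G → ℂ) 1 = 1 := trivIrr_apply G 1
      rw [ho2, hdp, hdq, hdr, norm_one, Complex.norm_natCast, Complex.norm_natCast,
        Complex.norm_natCast] at hle
      have : (((1 : ℤ) + (dp : ℤ) ^ 2 + (dq : ℤ) ^ 2 + (dr : ℤ) ^ 2 : ℤ) : ℝ) ≤
          ((Nat.card G : ℤ) : ℝ) := by
        push_cast
        linarith
      exact_mod_cast this
    · simpa using hqr
    · simp only [Finset.mem_insert, Finset.mem_singleton, not_or]
      exact ⟨hpq, hpr⟩
    · simp only [Finset.mem_insert, Finset.mem_singleton, not_or]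
      exact ⟨Ne.symm hpo, Ne.symm hqo, Ne.symm hro⟩
  -- the expansion outside the conjugates of `K`
  have hout : ∀ x, bswOut K x → 1 + (c p : ℂ) * (p : G → ℂ) x + (c q : ℂ) * (q : G → ℂ) x +
      (c r : ℂ) * (r : G → ℂ) x = 0 := by
    intro x hx
    rw [← hexp x, bswPhi_out ν hx]
  have hdp1 : 1 ≤ dp := hdp0
  have hdq1 : 1 ≤ dq := hdq0
  have hdr1 : 1 ≤ dr := hdr0
  -- the cases
  rcases hcp with ep | ep <;> rcases hcq with eq | eq <;> rcases hcr with er | er
  · -- + + +
    exfalso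
    rw [ep, eq, er] at hdeg
    have : (0 : ℤ) ≤ dp := by positivity
    have : (0 : ℤ) ≤ dq := by positivity
    have : (0 : ℤ) ≤ dr := by positivity
    linarith
  · -- + + - : X = r
    apply conclude he hK2 r p q (-1) (Or.inr rfl) dr dp dq mr mp mq hdr hdr1 hdp1 hdq1
    · rw [hval r, er]
    · intro x hx
      have := hout x hx
      rw [ep, eq, er] at this
      push_cast at this ⊢
      linear_combination this
    · intro x
      rw [hbeta x]
      ring
    · rw [ep, eq, er] at hdeg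
      linarith
    · rw [ep, eq, er] at hE
      linear_combination hE
    · rw [er] at hmr; linarith
    · rw [ep] at hmp; linarith
    · rw [eq] at hmq; linarith
    · linarith
  · -- + - + : X = q
    apply conclude he hK2 q p r (-1) (Or.inr rfl) dq dp dr mq mp mr hdq hdq1 hdp1 hdr1
    · rw [hval q, eq]
    · intro x hx
      have := hout x hx
      rw [ep, eq, er] at this
      push_cast at this ⊢
      linear_combination this
    · intro x
      rw [hbeta x]
      ring
    · rw [ep, eq, er] at hdeg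
      linarith
    · rw [ep, eq, er] at hE
      linear_combination hE
    · rw [eq] at hmq; linarith
    · rw [ep] at hmp; linarith
    · rw [er] at hmr; linarith
    · linarith
  · -- + - - : X = p
    apply conclude he hK2 p q r 1 (Or.inl rfl) dp dq dr mp mq mr hdp hdp1 hdq1 hdr1
    · rw [hval p, ep]
    · intro x hx
      have := hout x hx
      rw [ep, eq, er] at this
      push_cast at this ⊢
      linear_combination this
    · intro x
      rw [hbeta x]
    · rw [ep, eq, er] at hdeg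
      linarith
    · rw [ep, eq, er] at hE
      linear_combination hE
    · rw [ep] at hmp; linarith
    · rw [eq] at hmq; linarith
    · rw [er] at hmr; linarith
    · linarith
  · -- - + + : X = p
    apply conclude he hK2 p q r (-1) (Or.inr rfl) dp dq dr mp mq mr hdp hdp1 hdq1 hdr1
    · rw [hval p, ep]
    · intro x hx
      have := hout x hx
      rw [ep, eq, er] at this
      push_cast at this ⊢
      linear_combination this
    · intro x
      rw [hbeta x]
    · rw [ep, eq, er] at hdeg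
      linarith
    · rw [ep, eq, er] at hE
      linear_combination hE
    · rw [ep] at hmp; linarith
    · rw [eq] at hmq; linarith
    · rw [er] at hmr; linarith
    · linarith
  · -- - + - : X = q
    apply conclude he hK2 q p r 1 (Or.inl rfl) dq dp dr mq mp mr hdq hdq1 hdp1 hdr1
    · rw [hval q, eq]
    · intro x hx
      have := hout x hx
      rw [ep, eq, er] at this
      push_cast at this ⊢
      linear_combination this
    · intro x
      rw [hbeta x]
      ring
    · rw [ep, eq, er] at hdeg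
      linarith
    · rw [ep, eq, er] at hE
      linear_combination hE
    · rw [eq] at hmq; linarith
    · rw [ep] at hmp; linarith
    · rw [er] at hmr; linarith
    · linarith
  · -- - - + : X = r
    apply conclude he hK2 r p q 1 (Or.inl rfl) dr dp dq mr mp mq hdr hdr1 hdp1 hdq1
    · rw [hval r, er]
    · intro x hx
      have := hout x hx
      rw [ep, eq, er] at this
      push_cast at this ⊢
      linear_combination this
    · intro x
      rw [hbeta x]
      ring
    · rw [ep, eq, er] at hdeg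
      linarith
    · rw [ep, eq, er] at hE
      linear_combination hE
    · rw [er] at hmr; linarith
    · rw [ep] at hmp; linarith
    · rw [eq] at hmq; linarith
    · linarith
  · -- - - -
    exfalso
    rw [ep, eq, er] at hdeg
    rw [ep] at hmp
    rw [eq] at hmq
    rw [er] at hmr
    have : (0 : ℤ) ≤ mp := by positivity
    have : (0 : ℤ) ≤ mq := by positivity
    have : (0 : ℤ) ≤ mr := by positivity
    linarith

end

end Cfsg.Agent.Lib.Helper25.BSW6
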