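import Mathlib
import Cfsg.Prelude.Def_Characters
import Cfsg.Agent.Lib.helper2.BSWChar7
import Cfsg.Agent.Lib.Helper25.BSW6

/-!
Brauer-Suzuki-Wall, the exceptional configuration of the lattice lemma does not occur (for helper2, S3282): bsw_ghost_false.
-/

set_option autoImplicit false
set_option linter.unusedSectionVars false

namespace Cfsg.Agent.Lib.Helper25.BSW7
open scoped ComplexConjugate
open Cfsg.Agent.Lib.helper2
open Cfsg.Agent.Lib.helper7
open Cfsg.Agent.Lib.Helper11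
section

section

variable {G : Type*} [Group G] [Fintype G] {t s : G} {K : Subgroup G} [Fintype K]
  [Fintype (Cfsg.IrrCharacter G)] [Fintype (Cfsg.IrrCharacter K)]
  [DecidableEq (Cfsg.IrrCharacter G)] [DecidableEq (Cfsg.IrrCharacter K)]

/-- two nonreal characters of `K` give the same coefficient vector iff they are equal or
complex conjugate -/
theorem ghost_fiber (h : BswHyp t K s) (L : BswLoc t K s)
    (l m : {μ : Cfsg.IrrCharacter K // irrConj μ ≠ μ}) :
    bswC K l.1 = (bswC K m.1 : Cfsg.IrrCharacter G → ℤ) ↔ (m.1 = l.1 ∨ m.1 = irrConj l.1) := by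
  have hT1 : ∀ l : {μ : Cfsg.IrrCharacter K // irrConj μ ≠ μ}, l.1 ≠ trivIrr K := by
    intro l h'
    apply l.2
    rw [h', irrConj_triv]
  constructor
  · intro heq
    have h1 := bswC_dot h L l.1 m.1 (hT1 l) (hT1 m)
    rw [← heq, bswC_dot h L l.1 l.1 (hT1 l) (hT1 l), if_pos rfl,
      if_neg (fun h' => l.2 h'.symm)] at h1
    by_cases h2 : l.1 = m.1
    · exact Or.inl h2.symm
    · rw [if_neg h2] at h1
      by_cases h3 : l.1 = irrConj m.1
      · right
        rw [h3, bsw_irrConj_irrConj]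
      · rw [if_neg h3] at h1
        norm_num at h1
  · rintro (h1 | h1)
    · rw [h1]
    · rw [h1, bswC_conj h L]

/-- the exceptional configuration of the lattice lemma does not occur -/
theorem bsw_ghost_false (h : BswHyp t K s) (L : BswLoc t K s) {ν : Cfsg.IrrCharacter K}
    (Nν : BswNu K ν)
    (hg : BswGhost (trivIrr G) (fun l : {μ : Cfsg.IrrCharacter K // irrConj μ ≠ μ} => bswC K l.1)
        (fun χ => - bswC K ν χ)) : False := by
  obtain ⟨l, m, z, bl, bm, c, ζ, β, γ, hζ, hβ, hγ, hzo, hblo, hbmo, hco, hblz, hbmz, hcz, hblbm,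
    hcbl, hcbm, hall, hΦl, hΦm, hΘ⟩ := hg
  simp only at hall hΦl hΦm hΘ
  have hβ2 : (β : ℂ) * (β : ℂ) = 1 := bsw_sign_sq hβ
  have hβ0 : β ≠ 0 := by rcases hβ with rfl | rfl <;> norm_num
  have hβ0' : (β : ℂ) ≠ 0 := by exact_mod_cast hβ0
  -- Φ l ≠ Φ m
  have hlm : bswC K l.1 ≠ (bswC K m.1 : Cfsg.IrrCharacter G → ℤ) := by
    intro h'
    have h1 := congrFun h' bl
    rw [hΦl bl, hΦm bl, if_neg hblo, if_neg hblz, if_pos rfl, if_neg hblo, if_neg hblz,
      if_neg hblbm] at h1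
    exact hβ0 h1
  -- conjugate indices
  have hlb : irrConj (irrConj l.1) ≠ irrConj l.1 := by
    rw [bsw_irrConj_irrConj]; exact fun h' => l.2 h'.symm
  have hmb : irrConj (irrConj m.1) ≠ irrConj m.1 := by
    rw [bsw_irrConj_irrConj]; exact fun h' => m.2 h'.symm
  have hΦlb : bswC K (irrConj l.1) = (bswC K l.1 : Cfsg.IrrCharacter G → ℤ) := bswC_conj h L l.1
  have hΦmb : bswC K (irrConj m.1) = (bswC K m.1 : Cfsg.IrrCharacter G → ℤ) := bswC_conj h L m.1
  -- distinctness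
  have d1 : (⟨irrConj l.1, hlb⟩ : {μ : Cfsg.IrrCharacter K // irrConj μ ≠ μ}) ≠ l :=
    fun h' => l.2 (congrArg Subtype.val h')
  have d2 : m ≠ l := fun h' => hlm (by rw [h'])
  have d3 : (⟨irrConj m.1, hmb⟩ : {μ : Cfsg.IrrCharacter K // irrConj μ ≠ μ}) ≠ l := by
    intro h'
    apply hlm
    have h1 : irrConj m.1 = l.1 := congrArg Subtype.val h'
    rw [← h1, hΦmb]
  have d4 : (⟨irrConj l.1, hlb⟩ : {μ : Cfsg.IrrCharacter K // irrConj μ ≠ μ}) ≠ m := by
    intro h'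
    apply hlm
    have h1 : irrConj l.1 = m.1 := congrArg Subtype.val h'
    rw [← h1, hΦlb]
  have d5 : (⟨irrConj l.1, hlb⟩ : {μ : Cfsg.IrrCharacter K // irrConj μ ≠ μ}) ≠
      ⟨irrConj m.1, hmb⟩ := by
    intro h'
    have h1 : irrConj l.1 = irrConj m.1 := congrArg Subtype.val h'
    have h2 := congrArg irrConj h1
    rw [bsw_irrConj_irrConj, bsw_irrConj_irrConj] at h2
    exact d2 (Subtype.ext h2.symm)
  have d6 : m ≠ (⟨irrConj m.1, hmb⟩ : {μ : Cfsg.IrrCharacter K // irrConj μ ≠ μ}) :=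
    fun h' => m.2 (congrArg Subtype.val h').symm
  have hcover : ∀ r : {μ : Cfsg.IrrCharacter K // irrConj μ ≠ μ},
      r = l ∨ r = ⟨irrConj l.1, hlb⟩ ∨ r = m ∨ r = ⟨irrConj m.1, hmb⟩ := by
    intro r
    rcases hall r with h1 | h1
    · rcases (ghost_fiber h L l r).1 h1.symm with h2 | h2
      · exact Or.inl (Subtype.ext h2)
      · exact Or.inr (Or.inl (Subtype.ext h2))
    · rcases (ghost_fiber h L m r).1 h1.symm with h2 | h2
      · exact Or.inr (Or.inr (Or.inl (Subtype.ext h2)))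
      · exact Or.inr (Or.inr (Or.inr (Subtype.ext h2)))
  have hsum4 : ∀ F : Cfsg.IrrCharacter K → ℂ,
      ∑ r : {μ : Cfsg.IrrCharacter K // irrConj μ ≠ μ}, F r.1 =
        F l.1 + F (irrConj l.1) + F m.1 + F (irrConj m.1) := by
    intro F
    apply BSW6.sum_four (fun r : {μ : Cfsg.IrrCharacter K // irrConj μ ≠ μ} => F r.1)
      l ⟨irrConj l.1, hlb⟩ m ⟨irrConj m.1, hmb⟩ d1 d2 d3 d4 d5 d6
    intro i h1 h2 h3 h4
    rcases hcover i with h' | h' | h' | h'
    · exact absurd h' h1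
    · exact absurd h' h2
    · exact absurd h' h3
    · exact absurd h' h4
  -- values at `t`
  have sν := bsw_mu_tau_sq h ν
  have sl := bsw_mu_tau_sq h l.1
  have sm := bsw_mu_tau_sq h m.1
  have vlb : (irrConj l.1 : K → ℂ) (bswTau h) = (l.1 : K → ℂ) (bswTau h) := by
    rw [irrConj_apply, bsw_mu_tau_conj]
  have vmb : (irrConj m.1 : K → ℂ) (bswTau h) = (m.1 : K → ℂ) (bswTau h) := by
    rw [irrConj_apply, bsw_mu_tau_conj]
  -- step 5
  have e5 : (ν : K → ℂ) (bswTau h) + 2 * (l.1 : K → ℂ) (bswTau h) +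
      2 * (m.1 : K → ℂ) (bswTau h) = -1 := by
    have h1 := Nν.sum_val h (bswTau_ne_one h)
    rw [hsum4 (fun μ => (μ : K → ℂ) (bswTau h)), vlb, vmb] at h1
    linear_combination h1
  -- step 4
  have val : ∀ (b : Cfsg.IrrCharacter G) (c1 c2 : ℤ), bswC K ν b = β → bswC K l.1 b = c1 →
      bswC K m.1 b = c2 →
      (b : G → ℂ) t = -((β : ℂ) * (ν : K → ℂ) (bswTau h) +
        2 * (c1 : ℂ) * (l.1 : K → ℂ) (bswTau h) + 2 * (c2 : ℂ) * (m.1 : K → ℂ) (bswTau h)) := by
    intro b c1 c2 h1 h2 h3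
    have h4 := bsw_restrict_formula h b (bswTau h) (bswTau_ne_one h)
    rw [Nν.sum, bswC_triv h, hsum4 (fun μ => (bswC K μ b : ℂ) * (μ : K → ℂ) (bswTau h)),
      hΦlb, hΦmb, vlb, vmb, h1, h2, h3] at h4
    change (b : G → ℂ) t = _ at h4
    rw [h4]
    push_cast
    ring
  have hνbl : bswC K ν bl = β := by
    have h1 := hΘ bl
    rw [if_neg hblo, if_pos rfl] at h1
    exact neg_inj.1 h1
  have hνbm : bswC K ν bm = β := by
    have h1 := hΘ bm
    rw [if_neg hbmo, if_neg (Ne.symm hblbm), if_pos rfl] at h1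
    exact neg_inj.1 h1
  have hlbl : bswC K l.1 bl = β := by
    rw [hΦl bl, if_neg hblo, if_neg hblz, if_pos rfl]
  have hmbl : bswC K m.1 bl = 0 := by
    rw [hΦm bl, if_neg hblo, if_neg hblz, if_neg hblbm]
  have hlbm : bswC K l.1 bm = 0 := by
    rw [hΦl bm, if_neg hbmo, if_neg hbmz, if_neg (Ne.symm hblbm)]
  have hmbm : bswC K m.1 bm = β := by
    rw [hΦm bm, if_neg hbmo, if_neg hbmz, if_pos rfl]
  have tbl := val bl β 0 hνbl hlbl hmbl
  have tbm := val bm 0 β hνbm hlbm hmbm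
  -- step 2 : degrees
  have hdeg : ∀ (r : {μ : Cfsg.IrrCharacter K // irrConj μ ≠ μ}) (b : Cfsg.IrrCharacter G),
      b ≠ trivIrr G → b ≠ z →
      (∀ i, bswC K r.1 i = if i = trivIrr G then 1 else if i = z then ζ else
        if i = b then β else 0) →
      1 + ζ * bswDeg z + β * bswDeg b = 0 := by
    intro r b hbo hbz hΦ
    have h1 := bswC_deg h (G := G) r.1
    have h2 := bsw_sum_V3 (trivIrr G) z b hzo hbo hbz 1 ζ β (bswC K r.1) hΦ
      (fun χ => ((bswDeg χ : ℤ) : ℂ))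
    have h3 : ((bswDot (bswC K r.1) (bswDeg : Cfsg.IrrCharacter G → ℤ) : ℤ) : ℂ) =
        ∑ χ : Cfsg.IrrCharacter G, ((bswDeg χ : ℤ) : ℂ) * (bswC K r.1 χ : ℂ) := by
      unfold bswDot
      push_cast
      exact Finset.sum_congr rfl fun χ _ => by ring
    rw [h1, h2, bswDeg_triv] at h3
    have : ((1 + ζ * bswDeg z + β * bswDeg b : ℤ) : ℂ) = 0 := by
      push_cast at h3 ⊢
      linear_combination -h3
    exact_mod_cast this
  have dl := hdeg l bl hblo hblz hΦl
  have dm := hdeg m bm hbmo hbmz hΦm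
  have hdd : bswDeg bl = bswDeg bm := by
    have : β * bswDeg bl = β * bswDeg bm := by linarith
    exact mul_left_cancel₀ hβ0 this
  -- step 3 : the identity E
  have hE : ∀ (r : {μ : Cfsg.IrrCharacter K // irrConj μ ≠ μ}) (b : Cfsg.IrrCharacter G),
      b ≠ trivIrr G → b ≠ z →
      (∀ i, bswC K r.1 i = if i = trivIrr G then 1 else if i = z then ζ else
        if i = b then β else 0) →
      (Nat.card G : ℂ) * (1 + (ζ : ℂ) * ((z : G → ℂ) t * (z : G → ℂ) t / (z : G → ℂ) 1) +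
        (β : ℂ) * ((b : G → ℂ) t * (b : G → ℂ) t / (b : G → ℂ) 1)) =
        4 * (Nat.card K : ℂ) ^ 3 := by
    intro r b hbo hbz hΦ
    have hr1 : r.1 ≠ trivIrr K := by
      intro h'
      apply r.2
      rw [h', irrConj_triv]
    rw [← bsw_E h L r.1 hr1]
    congr 1
    have h2 := bsw_sum_V3 (trivIrr G) z b hzo hbo hbz 1 ζ β (bswC K r.1) hΦ
      (fun χ => (χ : G → ℂ) t * (χ : G → ℂ) t / (χ : G → ℂ) 1)
    have h3 : ∑ χ : Cfsg.IrrCharacter G,
        (χ : G → ℂ) t * (χ : G → ℂ) t * (bswC K r.1 χ : ℂ) / (χ : G → ℂ) 1 =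
        ∑ χ : Cfsg.IrrCharacter G,
          (χ : G → ℂ) t * (χ : G → ℂ) t / (χ : G → ℂ) 1 * (bswC K r.1 χ : ℂ) :=
      Finset.sum_congr rfl fun χ _ => by ring
    rw [h3, h2]
    simp only [trivIrr_apply]
    push_cast
    ring
  have El := hE l bl hblo hblz hΦl
  have Em := hE m bm hbmo hbmz hΦm
  have hG : (Nat.card G : ℂ) ≠ 0 := by exact_mod_cast Nat.card_pos.ne'
  have hF : (bl : G → ℂ) t * (bl : G → ℂ) t / (bl : G → ℂ) 1 =
      (bm : G → ℂ) t * (bm : G → ℂ) t / (bm : G → ℂ) 1 := by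
    have h1 : (Nat.card G : ℂ) * ((β : ℂ) *
        ((bl : G → ℂ) t * (bl : G → ℂ) t / (bl : G → ℂ) 1)) =
        (Nat.card G : ℂ) * ((β : ℂ) *
        ((bm : G → ℂ) t * (bm : G → ℂ) t / (bm : G → ℂ) 1)) := by
      linear_combination El - Em
    exact mul_left_cancel₀ hβ0' (mul_left_cancel₀ hG h1)
  have hd1 : (bl : G → ℂ) 1 = (bm : G → ℂ) 1 := by
    rw [← bswDeg_spec, ← bswDeg_spec, hdd]
  have hd0 : (bm : G → ℂ) 1 ≠ 0 := by
    rw [← bswDeg_spec]
    exact_mod_cast (bswDeg_pos bm).ne'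
  have hsq : (bl : G → ℂ) t * (bl : G → ℂ) t = (bm : G → ℂ) t * (bm : G → ℂ) t := by
    rw [hd1] at hF
    field_simp at hF
    linear_combination hF
  rw [tbl, tbm] at hsq
  -- l(t) = m(t)
  have hxx : (l.1 : K → ℂ) (bswTau h) = (m.1 : K → ℂ) (bswTau h) := by
    have h1 : (ν : K → ℂ) (bswTau h) * (l.1 : K → ℂ) (bswTau h) =
        (ν : K → ℂ) (bswTau h) * (m.1 : K → ℂ) (bswTau h) := by
      push_cast at hsq
      linear_combination (1 / 4 : ℂ) * hsq +
        (-(1 / 4 : ℂ) * ((ν : K → ℂ) (bswTau h) + 2 * (l.1 : K → ℂ) (bswTau h)) ^ 2 +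
          (1 / 4 : ℂ) * ((ν : K → ℂ) (bswTau h) + 2 * (m.1 : K → ℂ) (bswTau h)) ^ 2) * hβ2
          - sl + sm
    have h2 := congrArg (fun w => (ν : K → ℂ) (bswTau h) * w) h1
    simp only [← mul_assoc, sν, one_mul] at h2
    exact h2
  rw [← hxx] at e5
  -- final contradiction
  have hν' : (ν : K → ℂ) (bswTau h) = 1 ∨ (ν : K → ℂ) (bswTau h) = -1 := by
    have : ((ν : K → ℂ) (bswTau h) - 1) * ((ν : K → ℂ) (bswTau h) + 1) = 0 := by
      linear_combination sν
    rcases mul_eq_zero.1 this with h' | h'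
    · exact Or.inl (by linear_combination h')
    · exact Or.inr (by linear_combination h')
  have hl' : (l.1 : K → ℂ) (bswTau h) = 1 ∨ (l.1 : K → ℂ) (bswTau h) = -1 := by
    have : ((l.1 : K → ℂ) (bswTau h) - 1) * ((l.1 : K → ℂ) (bswTau h) + 1) = 0 := by
      linear_combination sl
    rcases mul_eq_zero.1 this with h' | h'
    · exact Or.inl (by linear_combination h')
    · exact Or.inr (by linear_combination h')
  rcases hν' with h1 | h1 <;> rcases hl' with h2 | h2 <;> rw [h1, h2] at e5 <;> norm_num at e5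

end

end

end Cfsg.Agent.Lib.Helper25.BSW7
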