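import Mathlib
import Cfsg.Agent.Lib.helper3.BSZ.Defs
import Cfsg.Agent.Lib.helper3.BSZE07core
import Cfsg.Agent.Lib.helper17.BSZA03

/-!
# Project BSZ, rows E11 (`nu_std`) and E12 (`nu_case`): cores under own names
(`bsze11_h25_core`, `bsze12_h25_core`), the cited rows E01, E07, E08, E09, E10 (resp. E11) are hypotheses.
-/

set_option autoImplicit false

namespace Cfsg.Agent.Lib.helper3.BSZ

open Cfsg Cfsg.Agent.Lib.helper3

variable {F : Type*} [Field F] [Fintype F] {m : ℕ}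

/-- a field with more than two elements has an element different from `0` and a given `b₀` -/
theorem bsze11_h25_exists_ne (hF : Fintype.card F = 2 ^ (2 * m + 1)) (hm : 1 ≤ m) (b₀ : F) :
    ∃ b₁ : F, b₁ ≠ 0 ∧ b₁ ≠ b₀ := by
  classical
  by_contra h
  simp only [not_exists, not_and, not_not] at h
  have hsub : (Finset.univ : Finset F) ⊆ {0, b₀} := by
    intro b _
    by_cases hb : b = 0
    · simp [hb]
    · simp [h b hb]
  have h1 : Fintype.card F ≤ 2 := by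
    rw [← Finset.card_univ]
    exact (Finset.card_le_card hsub).trans Finset.card_le_two
  have h2 : 2 ^ 3 ≤ 2 ^ (2 * m + 1) := Nat.pow_le_pow_right (by norm_num) (by omega)
  rw [hF] at h1
  omega

/-- E11 core: the cited rows E01 (at `U`), E07 (at `U`, `H`, `b₀`), E08 (at `U`, `H`), E09, E10 (at `U`) are hypotheses. -/
theorem bsze11_h25_core (hF : Fintype.card F = 2 ^ (2 * m + 1)) (hm : 1 ≤ m) {U : Subgroup (Sz F m)}
    (hU : IsTorus m U)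
    (H : Subgroup (Sz F m)) (hHU : H ≤ Subgroup.normalizer (U : Set (Sz F m))) {b₀ : F} (hb₀ : b₀ ≠ 0)
    (ht : gT hF 0 b₀ ∈ H)
    (hE01 : ∀ {z z' : Sz F m}, z ∈ Subgroup.normalizer (U : Set (Sz F m)) → z ≠ 1 → z * z = 1 →
      z' ∈ Subgroup.normalizer (U : Set (Sz F m)) → z' ≠ 1 → z' * z' = 1 → z * z' = z' * z → z = z')
    (hE07 : BinH H → ∀ {b₁ : F}, b₁ ≠ 0 → b₁ ≠ b₀ → ∀ {d : Sz F m},
      d * gT hF 0 b₀ * d⁻¹ = gT hF 0 b₁ → ∀ v ∈ Qs hF,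
      ∃ t' ∈ H, t' ≠ 1 ∧ t' * t' = 1 ∧ (v * d)⁻¹ * t' * (v * d) ∈ H)
    (hE08 : ∀ {U' : Subgroup (Sz F m)}, IsTorus m U' → ∀ {s : Sz F m}, s ≠ 1 → s * s = 1 → s ∉ H →
      (∀ v ∈ Qs hF, s ∈ Subgroup.normalizer ((cj U' v : Subgroup (Sz F m)) : Set (Sz F m))) →
      (∀ v ∈ Qs hF, ∃ t' ∈ H, t' ≠ 1 ∧ t' * t' = 1 ∧
        t' ∈ Subgroup.normalizer ((cj U' v : Subgroup (Sz F m)) : Set (Sz F m))) →
      (2 ^ (2 * m + 1)) ^ 2 ≤ 4 * Nat.card U)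
    (hE09 : 4 * (2 ^ (2 * m + 1) + 2 ^ (m + 1) + 1) < (2 ^ (2 * m + 1)) ^ 2)
    (hE10 : Nat.card U ≤ 2 ^ (2 * m + 1) + 2 ^ (m + 1) + 1) : ¬ BinH H := by
  intro hB
  obtain ⟨b₁, hb₁, hne⟩ := bsze11_h25_exists_ne hF hm b₀
  have ht1 : gT hF 0 b₀ ≠ 1 := gT_zero_ne_one hF hb₀
  have ht2 : gT hF 0 b₀ * gT hF 0 b₀ = 1 := gT_zero_sq hF b₀
  have hs1 : gT hF 0 b₁ ≠ 1 := gT_zero_ne_one hF hb₁
  have hs2 : gT hF 0 b₁ * gT hF 0 b₁ = 1 := gT_zero_sq hF b₁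
  have hsH : gT hF 0 b₁ ∉ H := by
    intro hs
    have hc : gT hF 0 b₁ * gT hF 0 b₀ = gT hF 0 b₀ * gT hF 0 b₁ := gT_central hF 0 b₁ b₀
    have := hE01 (hHU hs) hs1 hs2 (hHU ht) ht1 ht2 hc
    exact hne (gT_injective hF this).2
  obtain ⟨d, hd⟩ := cj_gT_zero (m := m) hF hb₀ hb₁
  have hd' : d * gT hF 0 b₀ * d⁻¹ = gT hF 0 b₁ := hd.symm
  have hdt : d⁻¹ * gT hF 0 b₁ * d = gT hF 0 b₀ := by
    rw [← hd']; group
  have hU' : IsTorus m (cj U d) := hU.map_conj d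
  have hcj : ∀ v : Sz F m, (cj (cj U d) v : Subgroup (Sz F m)) = cj U (v * d) := fun v =>
    map_conj_map_conj v d U
  have hsU' : ∀ v ∈ Qs hF, gT hF 0 b₁ ∈
      Subgroup.normalizer ((cj (cj U d) v : Subgroup (Sz F m)) : Set (Sz F m)) := by
    intro v hv
    rw [hcj v]
    apply bsze07_mem_norm_cj
    obtain ⟨a, b, rfl⟩ := (mem_Qs hF).1 hv
    have h1 : (gT hF a b * d)⁻¹ * gT hF 0 b₁ * (gT hF a b * d) =
        d⁻¹ * ((gT hF a b)⁻¹ * (gT hF 0 b₁ * gT hF a b)) * d := by group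
    rw [h1, ← gT_central hF a b b₁]
    have h2 : d⁻¹ * ((gT hF a b)⁻¹ * (gT hF a b * gT hF 0 b₁)) * d = d⁻¹ * gT hF 0 b₁ * d := by group
    rw [h2, hdt]
    exact hHU ht
  have hmeet : ∀ v ∈ Qs hF, ∃ t' ∈ H, t' ≠ 1 ∧ t' * t' = 1 ∧
      t' ∈ Subgroup.normalizer ((cj (cj U d) v : Subgroup (Sz F m)) : Set (Sz F m)) := by
    intro v hv
    obtain ⟨t', ht'H, ht'1, ht'2, ht'c⟩ := hE07 hB hb₁ hne hd' v hv
    refine ⟨t', ht'H, ht'1, ht'2, ?_⟩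
    rw [hcj v]
    exact bsze07_mem_norm_cj (hHU ht'c)
  have h8 := hE08 hU' hs1 hs2 hsH hsU' hmeet
  have : 4 * Nat.card U ≤ 4 * (2 ^ (2 * m + 1) + 2 ^ (m + 1) + 1) := Nat.mul_le_mul_left 4 hE10
  omega

/-- E12 core: the cited row E11 is a hypothesis (A03 `binary_conj` is on main). -/
theorem bsze12_h25_core (hF : Fintype.card F = 2 ^ (2 * m + 1)) (hm : 1 ≤ m) {U : Subgroup (Sz F m)}
    (hU : IsTorus m U)
    (hE11 : ∀ {U : Subgroup (Sz F m)}, IsTorus m U → ∀ (H : Subgroup (Sz F m)),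
      H ≤ Subgroup.normalizer (U : Set (Sz F m)) → ∀ {b₀ : F}, b₀ ≠ 0 → gT hF 0 b₀ ∈ H → ¬ BinH H)
    (H : Subgroup (Sz F m)) (hHU : H ≤ Subgroup.normalizer (U : Set (Sz F m))) {t : Sz F m} (ht : t ∈ H)
    (ht1 : t ≠ 1) (ht2 : t * t = 1) : ¬ BinH H := by
  obtain ⟨x, b, hb, htx⟩ := invol_eq_conj hF hm ht1 ht2
  intro hB
  have hB' : BinH (cj H x⁻¹) := (binary_conj H x⁻¹).1 hB
  refine hE11 (hU.map_conj x⁻¹) (cj H x⁻¹) ?_ hb ?_ hB'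
  · intro h' hh'
    rw [mem_map_conj_iff] at hh'
    exact bsze07_mem_norm_cj (hHU hh')
  · rw [mem_map_conj_iff, inv_inv, ← htx]
    exact ht

end Cfsg.Agent.Lib.helper3.BSZ
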