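import Mathlib
import Cfsg.Prelude.Def_Blocks
import Cfsg.Prelude.Def_BlockRank
import Cfsg.Agent.Lib.helper7.BlockSing2
import Cfsg.Agent.Lib.helper7.Induction
import Cfsg.Agent.Lib.helper2.CharInt
import Cfsg.Agent.Lib.Helper25.CharOrth
import Cfsg.Agent.Lib.Helper25.CharBasic

/-!
Coefficients of block idempotents lie in the cyclotomic field of the p'-part of the group order: cy_value_mem (character values at elements of order dividing m lie in Q(exp(2 pi i/m))), cy_main.
-/

set_option autoImplicit false
set_option linter.style.haveILetI false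
set_option linter.unusedVariables false
set_option warn.classDefReducibility false
set_option maxHeartbeats 800000

namespace Cfsg.Agent.Lib.Helper25
open Cfsg.Agent.Lib.helper7
open Cfsg.Agent.Lib.helper2
open scoped ComplexConjugate
section

/-- an irreducible character value at an element whose order divides `m` lies in `ℚ(exp(2πi/m))` -/
theorem cy_value_mem {G : Type*} [Group G] [Finite G] (χ : Cfsg.IrrCharacter G) (g : G)
    (m : ℕ) (hm : m ≠ 0) (hg : orderOf g ∣ m) :
    (χ : G → ℂ) g ∈ IntermediateField.adjoin ℚ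
      ({Complex.exp (2 * Real.pi * Complex.I / (m : ℂ))} : Set ℂ) := by
  obtain ⟨n, ρ, hρ, hχ⟩ := χ.2
  rw [← hχ, char_eq_sum_roots]
  apply multiset_sum_mem
  intro μ hμ
  have h1 := roots_pow_eq_one ρ g μ hμ
  have h2 : μ ^ m = 1 := by
    obtain ⟨k, hk⟩ := hg
    rw [hk, pow_mul, h1, one_pow]
  have hprim := Complex.isPrimitiveRoot_exp m hm
  haveI : NeZero m := ⟨hm⟩
  obtain ⟨i, _, hi⟩ := hprim.eq_pow_of_pow_eq_one h2
  rw [← hi]
  exact pow_mem (IntermediateField.mem_adjoin_simple_self ℚ _) i

theorem cy_main {G : Type*} [Group G] [Fintype G] (p : ℕ) [Fact p.Prime] (M : Ideal Cfsg.AlgInt) (hM : Cfsg.IsPModular p M) (B : Set (Cfsg.IrrCharacter G)) (hB : Cfsg.IsPBlock M B) (g : G) : Cfsg.blockCoeff B g ∈ IntermediateField.adjoin ℚ ({Complex.exp (2 * Real.pi * Complex.I / ((Nat.card G / p ^ (Nat.card G).factorization p : ℕ) : ℂ))} : Set ℂ) := by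
  classical
  haveI : Fintype (Cfsg.IrrCharacter G) := Fintype.ofFinite _
  have hp : Fact p.Prime := inferInstance
  obtain ⟨χ₀, rfl⟩ := hB
  by_cases hg : p ∣ orderOf g
  · rw [h7_blockCoeff_psingular hM χ₀ g hg]
    exact zero_mem _
  · set m := Nat.card G / p ^ (Nat.card G).factorization p with hm
    have hsplit : p ^ (Nat.card G).factorization p * m = Nat.card G :=
      Nat.ordProj_mul_ordCompl_eq_self _ p
    have hm0 : m ≠ 0 := by
      intro h0
      rw [h0, mul_zero] at hsplit
      exact Nat.card_pos.ne' hsplit.symm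
    have hord : orderOf g ∣ m := by
      have h1 : orderOf g ∣ p ^ (Nat.card G).factorization p * m := by
        rw [hsplit]
        exact orderOf_dvd_natCard g
      have hcop : (orderOf g).Coprime (p ^ (Nat.card G).factorization p) :=
        Nat.Coprime.pow_right _ (Nat.Coprime.symm ((Nat.Prime.coprime_iff_not_dvd hp.out).mpr hg))
      exact hcop.dvd_of_dvd_mul_left h1
    unfold Cfsg.blockCoeff
    rw [h7_finsum_mem_fintype]
    apply mul_mem
    · apply inv_mem
      exact natCast_mem _ _
    · apply sum_mem
      intro χ _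
      split_ifs
      · apply mul_mem
        · obtain ⟨n, hn, h1⟩ := irr_one_eq_finrank χ
          rw [h1]
          exact natCast_mem _ _
        · rw [← irr_inv]
          apply cy_value_mem χ g⁻¹ m hm0
          rwa [orderOf_inv]
      · exact zero_mem _

end

end Cfsg.Agent.Lib.Helper25
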