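import Mathlib
import Cfsg.Prelude.Def_Blocks
import Cfsg.Agent.Lib.helper7.BlockSing2
import Cfsg.Agent.Lib.helper7.BlockDefect2
import Cfsg.Agent.Lib.helper2.CharInt
import Cfsg.Agent.Lib.helper2.CharNat
import Cfsg.Agent.Lib.Helper25.BlockRankTrace
import Cfsg.Agent.Lib.Helper25.CharLinear
import Cfsg.Agent.Lib.Helper25.CharOrth
import Cfsg.Agent.Lib.Helper25.CharBasic

/-!
Intersections of a p-block and a q-block in a group with no element of order pq: the sum of chi(1) chi(y) over the intersection at a p-singular y is divisible by the q-part of the group order.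
-/

set_option autoImplicit false
set_option linter.style.haveILetI false
set_option linter.unusedVariables false
set_option warn.classDefReducibility false

namespace Cfsg.Agent.Lib.Helper25
open Cfsg.Agent.Lib.helper7
open Cfsg.Agent.Lib.helper2
open scoped ComplexConjugate
section

/-- no element of order `p q` : a `q`-singular element is `p`-regular -/
theorem pq_regular_of_singular {G : Type*} [Group G] [Finite G] (p q : ℕ) [hp : Fact p.Prime]
    [hq : Fact q.Prime] (hpq : p ≠ q) (hno : ∀ g : G, orderOf g ≠ p * q) (x : G)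
    (hx : q ∣ orderOf x) : ¬ p ∣ orderOf x := by
  intro hpx
  have hcop : Nat.Coprime p q := (Nat.coprime_primes hp.out hq.out).mpr hpq
  have hdvd : p * q ∣ orderOf x := Nat.Coprime.mul_dvd_of_dvd_of_dvd hcop hpx hx
  obtain ⟨k, hk⟩ := hdvd
  have hpos : 0 < orderOf x := orderOf_pos x
  apply hno (x ^ k)
  have hk0 : k ≠ 0 := by
    rintro rfl
    rw [mul_zero] at hk
    omega
  have : orderOf (x ^ k) = orderOf x / k := by
    rw [orderOf_pow' x hk0, Nat.gcd_eq_right (Dvd.intro_left _ hk.symm)]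
  rw [this, hk, Nat.mul_div_cancel _ (Nat.pos_of_ne_zero hk0)]

/-- the class function `Σ_{χ ∈ Bp ∩ Bq} χ(y) χ` vanishes on `q`-singular elements when `y` is
`p`-singular and there is no element of order `p q` -/
theorem pq_vanish {G : Type*} [Group G] [Fintype G] [Fintype (Cfsg.IrrCharacter G)]
    (p q : ℕ) [hp : Fact p.Prime] [hq : Fact q.Prime] (hpq : p ≠ q)
    (Mp Mq : Ideal Cfsg.AlgInt) (hMp : Cfsg.IsPModular p Mp) (hMq : Cfsg.IsPModular q Mq)
    (hno : ∀ g : G, orderOf g ≠ p * q) (χp χq : Cfsg.IrrCharacter G)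
    [DecidablePred (· ∈ Cfsg.blockOf Mp (χp : G → ℂ))]
    [DecidablePred (· ∈ Cfsg.blockOf Mq (χq : G → ℂ))]
    (y : G) (hy : p ∣ orderOf y) (g : G) (hg : q ∣ orderOf g) :
    ∑ χ : Cfsg.IrrCharacter G, (if χ ∈ Cfsg.blockOf Mq (χq : G → ℂ) then
      (if χ ∈ Cfsg.blockOf Mp (χp : G → ℂ) then (χ : G → ℂ) y * (χ : G → ℂ) g else 0) else 0)
      = 0 := by
  have hyinv : p ∣ orderOf y⁻¹ := by rwa [orderOf_inv]
  -- θ(x) = Σ_{χ ∈ Cfsg.blockOf Mp (χp : G → ℂ)} χ(x) conj(χ(y⁻¹))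
  set θ : G → ℂ := fun x => ∑ χ : Cfsg.IrrCharacter G,
    (if χ ∈ Cfsg.blockOf Mp (χp : G → ℂ) then (χ : G → ℂ) x * conj ((χ : G → ℂ) y⁻¹) else 0) with hθ
  have hθinner : ∀ ψ : Cfsg.IrrCharacter G, Cfsg.classInner θ (ψ : G → ℂ) =
      if ψ ∈ Cfsg.blockOf Mp (χp : G → ℂ) then (ψ : G → ℂ) y else 0 := by
    intro ψ
    have h1 : θ = ∑ χ : Cfsg.IrrCharacter G,
        (if χ ∈ Cfsg.blockOf Mp (χp : G → ℂ) then conj ((χ : G → ℂ) y⁻¹) else 0) • (χ : G → ℂ) := by
      funext x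
      simp only [hθ, Finset.sum_apply, Pi.smul_apply, smul_eq_mul]
      refine Finset.sum_congr rfl fun χ _ => ?_
      split_ifs
      · ring
      · ring
    rw [h1, classInner_sum_left]
    simp only [classInner_smul_left, irr_classInner]
    rw [Finset.sum_eq_single ψ]
    · rw [if_pos rfl, mul_one]
      split_ifs
      · rw [irr_inv, Complex.conj_conj]
      · rfl
    · intro χ _ hne
      rw [if_neg hne, mul_zero]
    · intro h
      exact absurd (Finset.mem_univ ψ) h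
  have hθzero : ∀ x : G, q ∣ orderOf x → θ x = 0 := by
    intro x hx
    have hxp := pq_regular_of_singular p q hpq hno x hx
    exact br_weak_orth hMp χp x y⁻¹ hxp hyinv
  have hGne : (Nat.card G : ℂ) ≠ 0 := by exact_mod_cast Nat.card_pos.ne'
  -- rewrite the sum
  have h2 : ∀ χ : Cfsg.IrrCharacter G,
      (if χ ∈ Cfsg.blockOf Mq (χq : G → ℂ) then (if χ ∈ Cfsg.blockOf Mp (χp : G → ℂ) then (χ : G → ℂ) y * (χ : G → ℂ) g else 0) else 0) =
      (Nat.card G : ℂ)⁻¹ * ∑ x : G, θ x *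
        (if χ ∈ Cfsg.blockOf Mq (χq : G → ℂ) then (χ : G → ℂ) g * conj ((χ : G → ℂ) x) else 0) := by
    intro χ
    by_cases hχq : χ ∈ Cfsg.blockOf Mq (χq : G → ℂ)
    · simp only [if_pos hχq]
      have := hθinner χ
      unfold Cfsg.classInner at this
      have h3 : (if χ ∈ Cfsg.blockOf Mp (χp : G → ℂ) then (χ : G → ℂ) y * (χ : G → ℂ) g else 0) =
          (if χ ∈ Cfsg.blockOf Mp (χp : G → ℂ) then (χ : G → ℂ) y else 0) * (χ : G → ℂ) g := by
        split_ifs
        · rfl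
        · rw [zero_mul]
      rw [h3, ← this, mul_assoc, Finset.sum_mul]
      congr 1
      refine Finset.sum_congr rfl fun x _ => ?_
      ring
    · simp only [if_neg hχq, mul_zero, Finset.sum_const_zero]
  rw [Finset.sum_congr rfl (fun χ _ => h2 χ), ← Finset.mul_sum, Finset.sum_comm]
  have h4 : ∀ x : G, ∑ χ : Cfsg.IrrCharacter G, θ x *
      (if χ ∈ Cfsg.blockOf Mq (χq : G → ℂ) then (χ : G → ℂ) g * conj ((χ : G → ℂ) x) else 0) = 0 := by
    intro x
    rw [← Finset.mul_sum]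
    by_cases hx : q ∣ orderOf x
    · rw [hθzero x hx, zero_mul]
    · have h5 := br_weak_orth hMq χq x g hx hg
      have h6 : ∑ χ : Cfsg.IrrCharacter G,
          (if χ ∈ Cfsg.blockOf Mq (χq : G → ℂ) then (χ : G → ℂ) g * conj ((χ : G → ℂ) x) else 0) =
          conj (∑ χ : Cfsg.IrrCharacter G,
          (if χ ∈ Cfsg.blockOf Mq (χq : G → ℂ) then (χ : G → ℂ) x * conj ((χ : G → ℂ) g) else 0)) := by
        rw [map_sum]
        refine Finset.sum_congr rfl fun χ _ => ?_
        split_ifs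
        · rw [map_mul, Complex.conj_conj, mul_comm]
        · rw [map_zero]
      rw [h6, h5, map_zero, mul_zero]
  rw [Finset.sum_congr rfl (fun x _ => h4 x), Finset.sum_const_zero, mul_zero]

end

section

theorem pq_main {G : Type*} [Group G] [Finite G] (p q : ℕ) [hp : Fact p.Prime]
    [hq : Fact q.Prime] (hpq : p ≠ q) (Mp Mq : Ideal Cfsg.AlgInt) (hMp : Cfsg.IsPModular p Mp)
    (hMq : Cfsg.IsPModular q Mq) (hno : ∀ g : G, orderOf g ≠ p * q) (b : ℕ)
    (hb : (Nat.card G).factorization q = b) (Bp : Set (Cfsg.IrrCharacter G))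
    (hBp : Cfsg.IsPBlock Mp Bp) (Bq : Set (Cfsg.IrrCharacter G)) (hBq : Cfsg.IsPBlock Mq Bq)
    (y : G) (hy : p ∣ orderOf y) :
    ∃ ω : Cfsg.AlgInt, ∑ᶠ χ ∈ Bp ∩ Bq, (Cfsg.charDegree (χ : G → ℂ) : ℂ) * (χ : G → ℂ) y =
      (q : ℂ) ^ b * (ω : ℂ) := by
  classical
  haveI : Fintype G := Fintype.ofFinite _
  haveI : Fintype (Cfsg.IrrCharacter G) := Fintype.ofFinite _
  obtain ⟨χp, rfl⟩ := hBp
  obtain ⟨χq, rfl⟩ := hBq
  obtain Q : Sylow q G := default
  haveI : Fintype Q := Fintype.ofFinite _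
  have hQcard : Nat.card Q = q ^ b := by
    rw [← hb]
    exact Sylow.card_eq_multiplicity Q
  have hQne : (Nat.card Q : ℂ) ≠ 0 := by exact_mod_cast Nat.card_pos.ne'
  -- multiplicities of the trivial character of Q
  have hm : ∀ χ : Cfsg.IrrCharacter G, ∃ m : ℕ, ∑ u : Q, (χ : G → ℂ) u = (Nat.card Q : ℂ) * m := by
    intro χ
    obtain ⟨m, hm⟩ := classInner_character_nat
      (isCharacter_restrict (isCharacter_of_irr χ) (Q : Subgroup G))
      (isCharacter_of_irr (trivIrr Q))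
    refine ⟨m, ?_⟩
    unfold Cfsg.classInner at hm
    simp only [trivIrr_apply, map_one, mul_one] at hm
    rw [← hm]
    field_simp
  choose m hm using hm
  set T : G → ℂ := fun g => ∑ χ : Cfsg.IrrCharacter G,
    (if χ ∈ Cfsg.blockOf Mq (χq : G → ℂ) then
      (if χ ∈ Cfsg.blockOf Mp (χp : G → ℂ) then (χ : G → ℂ) y * (χ : G → ℂ) g else 0) else 0)
    with hT
  have hTzero : ∀ g : G, q ∣ orderOf g → T g = 0 := fun g hg =>
    pq_vanish p q hpq Mp Mq hMp hMq hno χp χq y hy g hg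
  -- sum over Q
  have hsum1 : ∑ u : Q, T u = T 1 := by
    refine (Finset.sum_eq_single (1 : (Q : Subgroup G)) ?_ ?_).trans ?_
    rotate_left 2
    · rfl
    · intro u _ hu
      apply hTzero
      obtain ⟨k, hk⟩ := (IsPGroup.iff_orderOf.mp Q.isPGroup') u
      rw [Subgroup.orderOf_coe, hk]
      have hk0 : k ≠ 0 := by
        rintro rfl
        rw [pow_zero, orderOf_eq_one_iff] at hk
        exact hu hk
      exact dvd_pow_self q hk0
    · intro h
      exact absurd (Finset.mem_univ _) h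
  have hsum2 : ∑ u : Q, T u = (Nat.card Q : ℂ) * ∑ χ : Cfsg.IrrCharacter G,
      (if χ ∈ Cfsg.blockOf Mq (χq : G → ℂ) then
      (if χ ∈ Cfsg.blockOf Mp (χp : G → ℂ) then (χ : G → ℂ) y * (m χ : ℂ) else 0) else 0) := by
    simp only [hT]
    rw [Finset.sum_comm, Finset.mul_sum]
    refine Finset.sum_congr rfl fun χ _ => ?_
    by_cases h1 : χ ∈ Cfsg.blockOf Mq (χq : G → ℂ)
    · by_cases h2 : χ ∈ Cfsg.blockOf Mp (χp : G → ℂ)
      · simp only [if_pos h1, if_pos h2]
        rw [← Finset.mul_sum, hm χ]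
        ring
      · simp only [if_pos h1, if_neg h2, Finset.sum_const_zero, mul_zero]
    · simp only [if_neg h1, Finset.sum_const_zero, mul_zero]
  set ωc : ℂ := ∑ χ : Cfsg.IrrCharacter G,
      (if χ ∈ Cfsg.blockOf Mq (χq : G → ℂ) then
      (if χ ∈ Cfsg.blockOf Mp (χp : G → ℂ) then (χ : G → ℂ) y * (m χ : ℂ) else 0) else 0) with hω
  have hωint : IsIntegral ℤ ωc := by
    apply IsIntegral.sum
    intro χ _
    split_ifs
    · exact IsIntegral.mul (irr_integral χ y) (isIntegral_algebraMap (R := ℤ) (x := (m χ : ℤ)) |> fun h => by simpa using h)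
    · exact isIntegral_zero
    · exact isIntegral_zero
  refine ⟨⟨ωc, hωint⟩, ?_⟩
  show _ = (q : ℂ) ^ b * ωc
  have hfin : ∑ᶠ χ ∈ Cfsg.blockOf Mp (χp : G → ℂ) ∩ Cfsg.blockOf Mq (χq : G → ℂ),
      (Cfsg.charDegree (χ : G → ℂ) : ℂ) * (χ : G → ℂ) y = T 1 := by
    rw [finsum_mem_def, finsum_eq_sum_of_fintype]
    simp only [hT]
    refine Finset.sum_congr rfl fun χ _ => ?_
    rw [Set.indicator_apply]
    by_cases h1 : χ ∈ Cfsg.blockOf Mq (χq : G → ℂ)
    · by_cases h2 : χ ∈ Cfsg.blockOf Mp (χp : G → ℂ)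
      · rw [if_pos ⟨h2, h1⟩, if_pos h1, if_pos h2, (h7_charDegree_props χ).2.2]
        ring
      · rw [if_neg (fun h => h2 h.1), if_pos h1, if_neg h2]
    · rw [if_neg (fun h => h1 h.2), if_neg h1]
  rw [hfin, ← hsum1, hsum2, hQcard]
  push_cast
  rfl

end

end Cfsg.Agent.Lib.Helper25
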