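import Mathlib
import Cfsg.Prelude.Def_Blocks
import Cfsg.Agent.Lib.Helper25.BlockPQ
import Cfsg.Agent.Lib.Helper25.PrincipalDefect
import Cfsg.Agent.Lib.Helper25.CharLinear

/-!
Principal p- and q-blocks share a nonprincipal character when there is no element of order pq.
-/

set_option autoImplicit false
set_option linter.style.haveILetI false
set_option linter.unusedVariables false
set_option warn.classDefReducibility false

namespace Cfsg.Agent.Lib.Helper25
open Cfsg.Agent.Lib.helper7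
open Cfsg.Agent.Lib.helper2
open scoped ComplexConjugate
section

theorem pq_principal_share {G : Type*} [Group G] [Finite G] (p q : ℕ) [hp : Fact p.Prime]
    [hq : Fact q.Prime] (hpq : p ≠ q) (hpG : p ∣ Nat.card G) (hqG : q ∣ Nat.card G)
    (hno : ∀ g : G, orderOf g ≠ p * q) (Mp Mq : Ideal Cfsg.AlgInt)
    (hMp : Cfsg.IsPModular p Mp) (hMq : Cfsg.IsPModular q Mq) :
    ∃ χ : Cfsg.IrrCharacter G, (χ : G → ℂ) ≠ (fun _ => 1) ∧ χ ∈ Cfsg.principalBlock Mp G ∧
      χ ∈ Cfsg.principalBlock Mq G := by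
  classical
  haveI : Fintype G := Fintype.ofFinite _
  haveI : Fintype (Cfsg.IrrCharacter G) := Fintype.ofFinite _
  by_contra hcon
  push Not at hcon
  -- the intersection of the principal blocks is the trivial character alone
  have hinter : Cfsg.principalBlock Mp G ∩ Cfsg.principalBlock Mq G = {trivIrr G} := by
    ext χ
    constructor
    · rintro ⟨h1, h2⟩
      by_contra hne
      have hne' : (χ : G → ℂ) ≠ fun _ => 1 := by
        intro h
        apply hne
        rw [Set.mem_singleton_iff]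
        exact Subtype.ext h
      exact hcon χ hne' h1 h2
    · intro h
      rw [Set.mem_singleton_iff] at h
      rw [h]
      constructor
      · rw [pb_principal_eq]
        exact h7_sameBlock_refl hMp.2.1.isPrime _
      · rw [pb_principal_eq]
        exact h7_sameBlock_refl hMq.2.1.isPrime _
  obtain ⟨y, hy⟩ := exists_prime_orderOf_dvd_card' (G := G) p hpG
  have hy' : p ∣ orderOf y := by rw [hy]
  obtain ⟨ω, hω⟩ := pq_main p q hpq Mp Mq hMp hMq hno _ rfl (Cfsg.principalBlock Mp G)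
    ⟨trivIrr G, pb_principal_eq Mp⟩ (Cfsg.principalBlock Mq G) ⟨trivIrr G, pb_principal_eq Mq⟩ y hy'
  rw [hinter, finsum_mem_singleton] at hω
  have h1 : ((Cfsg.charDegree ((trivIrr G : Cfsg.IrrCharacter G) : G → ℂ) : ℕ) : ℂ) = 1 := by
    rw [(h7_charDegree_props (trivIrr G)).2.2, trivIrr_apply]
  rw [h1, trivIrr_apply, one_mul] at hω
  -- 1 = q^b ω with b ≥ 1 : impossible
  set b := (Nat.card G).factorization q with hb
  have hb1 : 1 ≤ b := (hq.out.dvd_iff_one_le_factorization Nat.card_pos.ne').mp hqG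
  have hq0 : (q : ℂ) ≠ 0 := by exact_mod_cast hq.out.ne_zero
  have hint : IsIntegral ℤ ((q : ℂ)⁻¹) := by
    have h2 : (q : ℂ)⁻¹ = (q : ℂ) ^ (b - 1) * (ω : ℂ) := by
      have h3 : (q : ℂ) ^ b = (q : ℂ) ^ (b - 1) * (q : ℂ) := by
        rw [← pow_succ, Nat.sub_add_cancel hb1]
      rw [h3] at hω
      field_simp
      rw [hω]
      ring
    rw [h2]
    exact IsIntegral.mul (IsIntegral.pow (isIntegral_algebraMap (R := ℤ) (x := (q : ℤ)) |>
      fun h => by simpa using h) _) ω.2
  have hrat : ((q : ℂ)⁻¹) = algebraMap ℚ ℂ ((q : ℚ)⁻¹) := by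
    simp
  rw [hrat] at hint
  have hint' : IsIntegral ℤ ((q : ℚ)⁻¹) := (isIntegral_algebraMap_iff (algebraMap ℚ ℂ).injective).mp hint
  obtain ⟨z, hz⟩ := IsIntegrallyClosed.isIntegral_iff.mp hint'
  have hz' : (z : ℚ) * (q : ℚ) = 1 := by
    rw [show (algebraMap ℤ ℚ) z = (z : ℚ) from rfl] at hz
    rw [hz]
    have : (q : ℚ) ≠ 0 := by exact_mod_cast hq.out.ne_zero
    field_simp
  have hz'' : z * (q : ℤ) = 1 := by exact_mod_cast hz'
  have hdvd : (q : ℤ) ∣ 1 := ⟨z, by rw [mul_comm]; exact hz''.symm⟩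
  have : (q : ℤ) = 1 ∨ (q : ℤ) = -1 := Int.isUnit_iff.mp (isUnit_of_dvd_one hdvd)
  have hq2 := hq.out.two_le
  omega

end

end Cfsg.Agent.Lib.Helper25
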