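import Mathlib
import Cfsg.Agent.Lib.helper7.Br.Defs
import Cfsg.Agent.Lib.Helper25.BrauerFeit3
import Cfsg.Agent.Lib.helper7.BlockSing2

/-!
Project Brandt (S4607), piece CH2: a block with two irreducible characters has degrees s m, t m with
s^2 + t^2 = p^d and gcd (s, t) = 1 (br_inner_degree, br_z_degree: sum over the block of z times degree;
br_z_self_not_dvd; br_ch2_core the arithmetic; two_chars_arith).
-/

set_option autoImplicit false
set_option linter.style.haveILetI false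
set_option linter.unusedVariables false
set_option linter.unusedSectionVars false

namespace Cfsg.Agent.Lib.Helper25.Br
open Cfsg.Agent.Lib.helper7 Cfsg.Agent.Lib.helper7.Br
open Cfsg.Agent.Lib.Helper25
open scoped ComplexConjugate

open Classical in
/-- `Σ_{ξ ∈ B} [χ°, ξ] ξ(1) = χ(1)` for `χ ∈ B` -/
theorem br_inner_degree {G : Type*} [Group G] [Fintype G] [Fintype (Cfsg.IrrCharacter G)]
    (p : ℕ) [hp : Fact p.Prime] (M : Ideal Cfsg.AlgInt) (hM : Cfsg.IsPModular p M)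
    (χ₀ : Cfsg.IrrCharacter G)
    (χ : Cfsg.IrrCharacter G) (hχ : χ ∈ Cfsg.blockOf M (χ₀ : G → ℂ)) :
    ∑ ξ ∈ Finset.univ.filter (· ∈ Cfsg.blockOf M (χ₀ : G → ℂ)),
      Cfsg.classInner (Cfsg.pRegularPart p (χ : G → ℂ)) (ξ : G → ℂ) * (ξ : G → ℂ) 1 =
      (χ : G → ℂ) 1 := by
  have hind : ∀ ξ : Cfsg.IrrCharacter G, ξ ∈ Cfsg.blockOf M (χ₀ : G → ℂ) →
      (if ξ ∈ Cfsg.blockOf M (χ₀ : G → ℂ) then (1 : ℂ) else 0) = 1 :=
    fun ξ hξ => if_pos hξ
  have hind' : ∀ ξ : Cfsg.IrrCharacter G, ξ ∉ Cfsg.blockOf M (χ₀ : G → ℂ) →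
      (if ξ ∈ Cfsg.blockOf M (χ₀ : G → ℂ) then (1 : ℂ) else 0) = 0 :=
    fun ξ hξ => if_neg hξ
  have h1 := h7_coef_eval (fun ξ : Cfsg.IrrCharacter G =>
      if ξ ∈ Cfsg.blockOf M (χ₀ : G → ℂ) then (1 : ℂ) else 0) χ
  simp only [hind χ hχ, one_mul] at h1
  have h2 : ∀ g : G, h7_coef (fun ξ : Cfsg.IrrCharacter G =>
      if ξ ∈ Cfsg.blockOf M (χ₀ : G → ℂ) then (1 : ℂ) else 0) g * (χ : G → ℂ) g =
      h7_coef (fun ξ : Cfsg.IrrCharacter G =>
      if ξ ∈ Cfsg.blockOf M (χ₀ : G → ℂ) then (1 : ℂ) else 0) g *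
        Cfsg.pRegularPart p (χ : G → ℂ) g := by
    intro g
    by_cases hg : p ∣ orderOf g
    · rw [h7_coef_indicator, h7_blockCoeff_psingular hM χ₀ g hg, zero_mul, zero_mul]
    · congr 1
      unfold Cfsg.pRegularPart
      have hg' : Cfsg.IsPRegular p g := hg
      simp only [if_pos hg']
  rw [Finset.sum_congr rfl (fun g _ => h2 g)] at h1
  rw [← h1, Finset.sum_filter]
  unfold Cfsg.classInner h7_coef
  calc _ = ∑ ξ : Cfsg.IrrCharacter G, ∑ g : G, (Nat.card G : ℂ)⁻¹ *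
        ((if ξ ∈ Cfsg.blockOf M (χ₀ : G → ℂ) then (1 : ℂ) else 0) *
          ((ξ : G → ℂ) 1 * conj ((ξ : G → ℂ) g))) * Cfsg.pRegularPart p (χ : G → ℂ) g := by
        refine Finset.sum_congr rfl fun ξ _ => ?_
        by_cases hξ : ξ ∈ Cfsg.blockOf M (χ₀ : G → ℂ)
        · rw [if_pos hξ]
          simp only [hind ξ hξ, one_mul]
          rw [Finset.mul_sum, Finset.sum_mul]
          refine Finset.sum_congr rfl fun g _ => ?_
          ring
        · rw [if_neg hξ]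
          simp only [hind' ξ hξ, zero_mul, mul_zero, Finset.sum_const_zero]
    _ = _ := by
        rw [Finset.sum_comm]
        refine Finset.sum_congr rfl fun g _ => ?_
        rw [Finset.mul_sum, Finset.sum_mul]

open Classical in
/-- `Σ_{ξ ∈ B} z_{χξ} ξ(1) = p^d χ(1)` -/
theorem br_z_degree {G : Type*} [Group G] [Fintype G] [Fintype (Cfsg.IrrCharacter G)]
    (p : ℕ) [hp : Fact p.Prime] (M : Ideal Cfsg.AlgInt) (hM : Cfsg.IsPModular p M)
    (χ₀ : Cfsg.IrrCharacter G)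
    (χ : Cfsg.IrrCharacter G) (hχ : χ ∈ Cfsg.blockOf M (χ₀ : G → ℂ)) :
    ∑ ξ ∈ Finset.univ.filter (· ∈ Cfsg.blockOf M (χ₀ : G → ℂ)),
      (bf_z p (Cfsg.blockOf M (χ₀ : G → ℂ)) χ ξ : ℂ) * (ξ : G → ℂ) 1 =
      (p : ℂ) ^ Cfsg.blockDefect p (Cfsg.blockOf M (χ₀ : G → ℂ)) * (χ : G → ℂ) 1 := by
  rw [← br_inner_degree p M hM χ₀ χ hχ, Finset.mul_sum]
  refine Finset.sum_congr rfl fun ξ hξ => ?_
  have hξ' : ξ ∈ Cfsg.blockOf M (χ₀ : G → ℂ) := (Finset.mem_filter.mp hξ).2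
  rw [← bf_z_spec p M hM χ₀ χ ξ hχ hξ', mul_assoc]

/-- for `χ` of height zero, `p ∤ z_{χχ}` -/
theorem br_z_self_not_dvd {G : Type*} [Group G] [Fintype G]
    (p : ℕ) [hp : Fact p.Prime] (M : Ideal Cfsg.AlgInt) (hM : Cfsg.IsPModular p M)
    (χ₀ : Cfsg.IrrCharacter G)
    (χ : Cfsg.IrrCharacter G) (hχ : χ ∈ Cfsg.blockOf M (χ₀ : G → ℂ))
    (hht : Cfsg.blockHeight p (Cfsg.blockOf M (χ₀ : G → ℂ)) (χ : G → ℂ) = 0) :
    ¬ (p : ℤ) ∣ bf_z p (Cfsg.blockOf M (χ₀ : G → ℂ)) χ χ := by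
  obtain ⟨n, hn, hn0, hnv⟩ := (hz_single p M hM χ₀ χ χ hχ hχ).mp hht
  have h1 := bf_z_tilde p M hM χ₀ χ χ hχ hχ n hn
  set fG : Cfsg.IrrCharacter G → ℕ := fun ψ => (Cfsg.charDegree (ψ : G → ℂ)).factorization p
    with hfG
  set νB := sInf (fG '' Cfsg.blockOf M (χ₀ : G → ℂ)) with hνB
  have hνB_le : νB ≤ fG χ := Nat.sInf_le ⟨χ, hχ, rfl⟩
  have hheight : Cfsg.blockHeight p (Cfsg.blockOf M (χ₀ : G → ℂ)) (χ : G → ℂ) = fG χ - νB := rfl
  have hνeq : fG χ = νB := by omega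
  set z := bf_z p (Cfsg.blockOf M (χ₀ : G → ℂ)) χ χ with hz
  have hz0 : z ≠ 0 := by
    intro h0
    rw [h0, mul_zero] at h1
    exact hn0 h1
  intro hdvd
  have h2 : (p : ℤ) ^ (νB + 1) ∣ n := by
    rw [h1, pow_succ]
    exact mul_dvd_mul_left _ hdvd
  rcases (padicValInt_dvd_iff (p := p) (νB + 1) n).mp h2 with h | h
  · exact hn0 h
  · have : padicValInt p n = fG χ := hnv
    omega

/-- the arithmetic core of CH2 -/
theorem br_ch2_core (q a b c : ℤ) (f1 f2 : ℕ) (ha : 0 < a) (hb : 0 < b) (hc : c ≠ 0)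
    (h1 : a ^ 2 + c ^ 2 = q * a) (h3 : a * f1 + c * f2 = q * f1) (h4 : c * f1 + b * f2 = q * f2)
    (hf1 : 0 < f1) (hf2 : 0 < f2) (hcop : IsCoprime a q) :
    ∃ s t m : ℕ, Nat.Coprime s t ∧ ((s ^ 2 + t ^ 2 : ℕ) : ℤ) = q ∧ 0 < m ∧ f1 = s * m ∧
      f2 = t * m := by
  have e1 : (q - a) * f1 = c * f2 := by linarith
  have e2 : (q - b) * f2 = c * f1 := by linarith
  have hf : ((f1 : ℤ) * f2) ≠ 0 := by positivity
  have e3 : (q - a) * (q - b) = c ^ 2 := by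
    apply mul_right_cancel₀ hf
    calc (q - a) * (q - b) * ((f1 : ℤ) * f2) = ((q - a) * f1) * ((q - b) * f2) := by ring
      _ = (c * f2) * (c * f1) := by rw [e1, e2]
      _ = c ^ 2 * ((f1 : ℤ) * f2) := by ring
  have e4 : a * (q - a) = c ^ 2 := by linear_combination -h1
  have hc2 : c ^ 2 ≠ 0 := pow_ne_zero _ hc
  have e5 : q - a ≠ 0 := by
    intro h
    rw [h, mul_zero] at e4
    exact hc2 e4.symm
  have e6 : a + b = q := by
    have : (q - a) * (q - b - a) = 0 := by linear_combination e3 - e4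
    rcases mul_eq_zero.mp this with h | h
    · exact absurd h e5
    · linarith
  have e7 : a * b = c ^ 2 := by
    rw [← e4, ← e6]
    ring
  have hcop' : IsCoprime a b := by
    have := hcop.add_mul_left_right (-1)
    have hb' : q + a * -1 = b := by rw [← e6]; ring
    rwa [hb'] at this
  obtain ⟨s0, hs0⟩ := Int.sq_of_isCoprime hcop' e7
  obtain ⟨t0, ht0⟩ := Int.sq_of_isCoprime hcop'.symm (by rw [mul_comm]; exact e7)
  have hs1 : a = s0 ^ 2 := by
    rcases hs0 with h | h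
    · exact h
    · exfalso
      have := sq_nonneg s0
      linarith
  have ht1 : b = t0 ^ 2 := by
    rcases ht0 with h | h
    · exact h
    · exfalso
      have := sq_nonneg t0
      linarith
  set s := s0.natAbs with hs
  set t := t0.natAbs with ht
  have hs2 : ((s : ℕ) : ℤ) ^ 2 = a := by rw [hs1, hs, Int.natCast_natAbs, sq_abs]
  have ht2 : ((t : ℕ) : ℤ) ^ 2 = b := by rw [ht1, ht, Int.natCast_natAbs, sq_abs]
  have hspos : 0 < s := by
    rcases Nat.eq_zero_or_pos s with h | h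
    · rw [h] at hs2
      simp at hs2
      omega
    · exact h
  have htpos : 0 < t := by
    rcases Nat.eq_zero_or_pos t with h | h
    · rw [h] at ht2
      simp at ht2
      omega
    · exact h
  -- c = s t
  have hcpos : 0 < c := by
    have h5 : b * f1 = c * f2 := by rw [← e6] at e1; linarith
    have h6 : 0 < b * (f1 : ℤ) := by positivity
    rw [h5] at h6
    have hf2' : (0 : ℤ) < f2 := by exact_mod_cast hf2
    exact (pos_iff_pos_of_mul_pos h6).mpr hf2'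
  have hcst : c = (s : ℤ) * t := by
    have h5 : c ^ 2 = ((s : ℤ) * t) ^ 2 := by rw [← e7, ← hs2, ← ht2]; ring
    have h6 : (0 : ℤ) ≤ (s : ℤ) * t := by positivity
    exact (sq_eq_sq₀ hcpos.le h6).mp h5
  have h7 : (t : ℤ) * f1 = (s : ℤ) * f2 := by
    have h5 : b * f1 = c * f2 := by rw [← e6] at e1; linarith
    rw [← ht2, hcst] at h5
    have htz : ((t : ℕ) : ℤ) ≠ 0 := by exact_mod_cast htpos.ne'
    apply mul_left_cancel₀ htz
    linear_combination h5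
  have h8 : t * f1 = s * f2 := by exact_mod_cast h7
  have hcopst : Nat.Coprime s t := by
    have h9 : IsCoprime ((s : ℤ) ^ 2) ((t : ℤ) ^ 2) := by rw [hs2, ht2]; exact hcop'
    have h10 : IsCoprime (s : ℤ) (t : ℤ) := IsCoprime.pow_iff (by norm_num) (by norm_num) |>.mp h9
    exact Nat.isCoprime_iff_coprime.mp h10
  have h9 : s ∣ f1 := by
    have : s ∣ t * f1 := ⟨f2, h8⟩
    exact hcopst.dvd_of_dvd_mul_left this
  obtain ⟨m, hm⟩ := h9
  refine ⟨s, t, m, hcopst, ?_, ?_, hm, ?_⟩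
  · push_cast
    rw [hs2, ht2, e6]
  · rcases Nat.eq_zero_or_pos m with h | h
    · rw [h, mul_zero] at hm
      omega
    · exact h
  · rw [hm] at h8
    have : s * (t * m) = s * f2 := by rw [← h8]; ring
    exact (Nat.eq_of_mul_eq_mul_left hspos this).symm

/-- the number of members of a set of irreducible characters, as the cardinality of a filter -/
theorem br_card_filter {G : Type*} [Group G] [Fintype (Cfsg.IrrCharacter G)]
    (B : Set (Cfsg.IrrCharacter G)) [DecidablePred (· ∈ B)] :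
    Nat.card B = (Finset.univ.filter (· ∈ B)).card := by
  rw [Nat.card_eq_fintype_card, Fintype.card_subtype]

section chars

variable {G : Type*} [Group G] [Finite G]

/-- CH2 : a block with two characters: degrees `s m, t m` with `s² + t² = p^d`, `gcd (s, t) = 1`. -/
theorem two_chars_arith (p : ℕ) [Fact p.Prime] (M : Ideal Cfsg.AlgInt) (hM : Cfsg.IsPModular p M)
    (B : Set (Cfsg.IrrCharacter G)) (hB : Cfsg.IsPBlock M B) (hk : Nat.card B = 2) :
    ∃ s t m : ℕ, Nat.Coprime s t ∧ s ^ 2 + t ^ 2 = p ^ Cfsg.blockDefect p B ∧ 0 < m ∧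
      (Nat.card G : ℂ) * Cfsg.blockCoeff B 1 = (((s ^ 2 + t ^ 2) * m ^ 2 : ℕ) : ℂ) := by
  classical
  have hp : Fact p.Prime := inferInstance
  haveI : Fintype G := Fintype.ofFinite G
  haveI : Fintype (Cfsg.IrrCharacter G) := Fintype.ofFinite _
  obtain ⟨χ₀, rfl⟩ := hB
  have hMp := hM.2.1.isPrime
  have hχ₀ : χ₀ ∈ Cfsg.blockOf M (χ₀ : G → ℂ) := h7_sameBlock_refl hMp _
  rw [br_card_filter] at hk
  obtain ⟨χ, hχ, hht⟩ := bf_exists_height_zero p (Cfsg.blockOf M (χ₀ : G → ℂ)) ⟨χ₀, hχ₀⟩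
  -- the two characters, the first of height zero
  obtain ⟨χ1, χ2, hne, hS, hht1⟩ : ∃ χ1 χ2 : Cfsg.IrrCharacter G, χ1 ≠ χ2 ∧
      Finset.univ.filter (· ∈ Cfsg.blockOf M (χ₀ : G → ℂ)) = {χ1, χ2} ∧
      Cfsg.blockHeight p (Cfsg.blockOf M (χ₀ : G → ℂ)) (χ1 : G → ℂ) = 0 := by
    obtain ⟨x, y, hxy, hS⟩ := Finset.card_eq_two.mp hk
    have hmem : χ ∈ Finset.univ.filter (· ∈ Cfsg.blockOf M (χ₀ : G → ℂ)) :=
      Finset.mem_filter.mpr ⟨Finset.mem_univ _, hχ⟩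
    rw [hS, Finset.mem_insert, Finset.mem_singleton] at hmem
    rcases hmem with h | h
    · exact ⟨x, y, hxy, hS, h ▸ hht⟩
    · exact ⟨y, x, hxy.symm, by rw [hS, Finset.pair_comm], h ▸ hht⟩
  have hχ1 : χ1 ∈ Cfsg.blockOf M (χ₀ : G → ℂ) := by
    have : χ1 ∈ Finset.univ.filter (· ∈ Cfsg.blockOf M (χ₀ : G → ℂ)) := by
      rw [hS]; exact Finset.mem_insert_self _ _
    exact (Finset.mem_filter.mp this).2
  have hχ2 : χ2 ∈ Cfsg.blockOf M (χ₀ : G → ℂ) := by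
    have : χ2 ∈ Finset.univ.filter (· ∈ Cfsg.blockOf M (χ₀ : G → ℂ)) := by
      rw [hS]; exact Finset.mem_insert_of_mem (Finset.mem_singleton_self _)
    exact (Finset.mem_filter.mp this).2
  set B := Cfsg.blockOf M (χ₀ : G → ℂ) with hBdef
  set d := Cfsg.blockDefect p B with hd
  set a := bf_z p B χ1 χ1 with ha
  set b := bf_z p B χ2 χ2 with hb
  set c := bf_z p B χ1 χ2 with hc
  have hc' : bf_z p B χ2 χ1 = c := bf_z_symm p M hM χ₀ χ2 χ1 hχ2 hχ1
  obtain ⟨hd11, hd12, hd13⟩ := h7_charDegree_props χ1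
  obtain ⟨hd21, hd22, hd23⟩ := h7_charDegree_props χ2
  set f1 := Cfsg.charDegree (χ1 : G → ℂ) with hf1
  set f2 := Cfsg.charDegree (χ2 : G → ℂ) with hf2
  have h1 : a ^ 2 + c ^ 2 = (p : ℤ) ^ d * a := by
    have := bf_z_sum p M hM χ₀ χ1 hχ1
    rw [hS, Finset.sum_pair hne] at this
    exact this
  have h3 : a * (f1 : ℤ) + c * (f2 : ℤ) = (p : ℤ) ^ d * (f1 : ℤ) := by
    have := br_z_degree p M hM χ₀ χ1 hχ1
    rw [hS, Finset.sum_pair hne, ← hd13, ← hd23] at this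
    exact_mod_cast this
  have h4 : c * (f1 : ℤ) + b * (f2 : ℤ) = (p : ℤ) ^ d * (f2 : ℤ) := by
    have := br_z_degree p M hM χ₀ χ2 hχ2
    rw [hS, Finset.sum_pair hne, ← hd13, ← hd23, ← hBdef, hc'] at this
    exact_mod_cast this
  have hapos : 0 < a := bf_z_self_pos p M hM χ₀ χ1 hχ1
  have hbpos : 0 < b := bf_z_self_pos p M hM χ₀ χ2 hχ2
  have hcne : c ≠ 0 := bf_z_ne_zero p M hM χ₀ χ1 χ2 hχ1 hχ2 hht1
  have hnd : ¬ (p : ℤ) ∣ a := br_z_self_not_dvd p M hM χ₀ χ1 hχ1 hht1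
  have hcop : IsCoprime a ((p : ℤ) ^ d) := by
    have hpp : Prime (p : ℤ) := Nat.prime_iff_prime_int.mp hp.out
    exact ((hpp.coprime_iff_not_dvd).mpr hnd).symm.pow_right
  obtain ⟨s, t, m, hst, hq, hm, hf1m, hf2m⟩ :=
    br_ch2_core ((p : ℤ) ^ d) a b c f1 f2 hapos hbpos hcne h1 h3 h4 hd12 hd22 hcop
  refine ⟨s, t, m, hst, ?_, hm, ?_⟩
  · exact_mod_cast hq
  · have hG : (Nat.card G : ℂ) ≠ 0 := by exact_mod_cast Nat.card_pos.ne'
    rw [← h7_coef_indicator]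
    unfold h7_coef
    rw [mul_inv_cancel_left₀ hG]
    have e1 : ∀ ξ : Cfsg.IrrCharacter G, (if ξ ∈ B then (1 : ℂ) else 0) *
        ((ξ : G → ℂ) 1 * conj ((ξ : G → ℂ) 1)) =
        if ξ ∈ B then ((ξ : G → ℂ) 1 * conj ((ξ : G → ℂ) 1)) else 0 := by
      intro ξ
      split_ifs <;> simp
    rw [Finset.sum_congr rfl (fun ξ _ => e1 ξ), ← Finset.sum_filter, hS, Finset.sum_pair hne,
      ← hd13, ← hd23, Complex.conj_natCast, Complex.conj_natCast, hf1m, hf2m]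
    push_cast
    ring

end chars

end Cfsg.Agent.Lib.Helper25.Br
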