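import Mathlib
import Cfsg.Agent.Lib.helper7.Br.Defs
import Cfsg.Agent.Lib.Helper25.BrauerFeit3
import Cfsg.Agent.Lib.Helper25.BrCH2

/-!
Project Brandt (S4607), piece CONV: a block with `p ^ d = 2` has exactly two irreducible characters.
-/

set_option autoImplicit false
set_option linter.style.haveILetI false
set_option linter.unusedVariables false
set_option linter.unusedSectionVars false

namespace Cfsg.Agent.Lib.Helper25.Br
open Cfsg.Agent.Lib.helper7 Cfsg.Agent.Lib.helper7.Br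
open Cfsg.Agent.Lib.Helper25
open scoped ComplexConjugate

section chars

variable {G : Type*} [Group G] [Finite G]

/-- CONV : a block with defect group of order 2 has exactly two characters. -/
theorem card_two_of_defect_two (p : ℕ) [Fact p.Prime] (M : Ideal Cfsg.AlgInt)
    (hM : Cfsg.IsPModular p M) (B : Set (Cfsg.IrrCharacter G)) (hB : Cfsg.IsPBlock M B)
    (hd : p ^ Cfsg.blockDefect p B = 2) : Nat.card B = 2 := by
  classical
  have hp : Fact p.Prime := inferInstance
  haveI : Fintype G := Fintype.ofFinite G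
  haveI : Fintype (Cfsg.IrrCharacter G) := Fintype.ofFinite _
  obtain ⟨χ₀, rfl⟩ := hB
  have hMp := hM.2.1.isPrime
  have hχ₀ : χ₀ ∈ Cfsg.blockOf M (χ₀ : G → ℂ) := h7_sameBlock_refl hMp _
  rw [br_card_filter]
  obtain ⟨χ, hχ, hht⟩ := bf_exists_height_zero p (Cfsg.blockOf M (χ₀ : G → ℂ)) ⟨χ₀, hχ₀⟩
  set B := Cfsg.blockOf M (χ₀ : G → ℂ) with hBdef
  set S := Finset.univ.filter (· ∈ B) with hS
  have hχS : χ ∈ S := Finset.mem_filter.mpr ⟨Finset.mem_univ _, hχ⟩
  -- p = 2
  have hp2 : p = 2 := by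
    have hd0 : Cfsg.blockDefect p B ≠ 0 := by
      intro h0
      rw [h0, pow_zero] at hd
      omega
    have : p ∣ 2 := by
      rw [← hd]
      exact dvd_pow_self p hd0
    exact (Nat.prime_dvd_prime_iff_eq hp.out Nat.prime_two).mp this
  have hq : (p : ℤ) ^ Cfsg.blockDefect p B = 2 := by exact_mod_cast hd
  set z := bf_z p B χ χ with hz
  have hzpos : 0 < z := bf_z_self_pos p M hM χ₀ χ hχ
  have hznd : ¬ (p : ℤ) ∣ z := br_z_self_not_dvd p M hM χ₀ χ hχ hht
  have hsum : ∑ ξ ∈ S, (bf_z p B χ ξ) ^ 2 = 2 * z := by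
    have := bf_z_sum p M hM χ₀ χ hχ
    rw [hq] at this
    exact this
  have hsplit : z ^ 2 + ∑ ξ ∈ S.erase χ, (bf_z p B χ ξ) ^ 2 = 2 * z := by
    rw [← hsum]
    exact Finset.add_sum_erase S (fun ξ => (bf_z p B χ ξ) ^ 2) hχS
  have hrest_nonneg : 0 ≤ ∑ ξ ∈ S.erase χ, (bf_z p B χ ξ) ^ 2 :=
    Finset.sum_nonneg fun ξ _ => sq_nonneg _
  have hz1 : z = 1 := by
    have h1 : z ^ 2 ≤ 2 * z := by linarith
    have h2 : z ≤ 2 := by nlinarith
    have h3 : z ≠ 2 := by
      intro h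
      apply hznd
      rw [h, hp2]
      norm_num
    omega
  have hrest : ∑ ξ ∈ S.erase χ, (bf_z p B χ ξ) ^ 2 = 1 := by
    rw [hz1] at hsplit
    linarith
  have hge : ∀ ξ ∈ S.erase χ, (1 : ℤ) ≤ (bf_z p B χ ξ) ^ 2 := by
    intro ξ hξ
    have hξB : ξ ∈ B := (Finset.mem_filter.mp (Finset.mem_of_mem_erase hξ)).2
    exact bf_one_le_sq _ (bf_z_ne_zero p M hM χ₀ χ ξ hχ hξB hht)
  have hle : ((S.erase χ).card : ℤ) ≤ 1 := by
    have := Finset.card_nsmul_le_sum (S.erase χ) (fun ξ => (bf_z p B χ ξ) ^ 2) 1 hge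
    rw [hrest] at this
    simpa using this
  have hne : (S.erase χ).Nonempty := by
    rw [Finset.nonempty_iff_ne_empty]
    intro h
    rw [h, Finset.sum_empty] at hrest
    omega
  have hpos : 0 < (S.erase χ).card := Finset.card_pos.mpr hne
  have hcard := Finset.card_erase_add_one hχS
  have hle' : (S.erase χ).card ≤ 1 := by exact_mod_cast hle
  omega

end chars

end Cfsg.Agent.Lib.Helper25.Br
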