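import Mathlib
import Cfsg.Prelude.Def_Blocks
import Cfsg.Prelude.Def_BlockRank
import Cfsg.Agent.Lib.helper7.BlockDefect2
import Cfsg.Agent.Lib.helper7.BlockInd2
import Cfsg.Agent.Lib.helper7.BlockCover
import Cfsg.Agent.Lib.helper7.Induction
import Cfsg.Agent.Lib.Helper25.CharOrth
import Cfsg.Agent.Lib.Helper25.CharBasic
import Cfsg.Agent.Lib.Helper25.HeightZeroCrit
import Cfsg.Agent.Lib.Helper25.BrauerFeit1
import Cfsg.Agent.Lib.Helper25.BrauerFeit2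
import Cfsg.Agent.Lib.Helper25.BrauerFeit3
import Cfsg.Agent.S0908

/-!
Brauer-Feit, weighted form: sum over the block of p^(2 ht) <= |P|^2/4 + 1 (bf_weighted); bf_z_height_dvd: for psi of height zero, p^(ht xi) divides z_{psi xi}.
-/

set_option autoImplicit false
set_option linter.style.haveILetI false
set_option linter.unusedVariables false
set_option warn.classDefReducibility false
set_option maxHeartbeats 1600000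

namespace Cfsg.Agent.Lib.Helper25
open Cfsg.Agent.Lib.helper7
open Cfsg.Agent.Lib.helper2
open scoped ComplexConjugate
section

/-- for `ψ` of height zero, `p^{ht ξ}` divides `z_{ψξ}` -/
theorem bf_z_height_dvd {G : Type*} [Group G] [Fintype G]
    (p : ℕ) [hp : Fact p.Prime] (M : Ideal Cfsg.AlgInt) (hM : Cfsg.IsPModular p M)
    (χ₀ : Cfsg.IrrCharacter G)
    (ψ ξ : Cfsg.IrrCharacter G) (hψ : ψ ∈ Cfsg.blockOf M (χ₀ : G → ℂ))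
    (hξ : ξ ∈ Cfsg.blockOf M (χ₀ : G → ℂ))
    (hht : Cfsg.blockHeight p (Cfsg.blockOf M (χ₀ : G → ℂ)) (ψ : G → ℂ) = 0) :
    (p : ℤ) ^ Cfsg.blockHeight p (Cfsg.blockOf M (χ₀ : G → ℂ)) (ξ : G → ℂ) ∣
      bf_z p (Cfsg.blockOf M (χ₀ : G → ℂ)) ψ ξ := by
  obtain ⟨n, hn, hn0, hval⟩ := (hz_single p M hM χ₀ ψ ξ hψ hξ).mp hht
  have h1 := bf_z_tilde p M hM χ₀ ψ ξ hψ hξ n hn
  set fG : Cfsg.IrrCharacter G → ℕ := fun ψ => (Cfsg.charDegree (ψ : G → ℂ)).factorization p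
    with hfG
  set νB := sInf (fG '' Cfsg.blockOf M (χ₀ : G → ℂ)) with hνB
  have hνB_le : νB ≤ fG ξ := Nat.sInf_le ⟨ξ, hξ, rfl⟩
  have hheight : Cfsg.blockHeight p (Cfsg.blockOf M (χ₀ : G → ℂ)) (ξ : G → ℂ) = fG ξ - νB := rfl
  rw [hheight]
  have h2 : (p : ℤ) ^ (fG ξ) ∣ n := by
    rw [padicValInt_dvd_iff]
    right
    rw [hval]
  rw [h1] at h2
  have h3 : (p : ℤ) ^ fG ξ = (p : ℤ) ^ νB * (p : ℤ) ^ (fG ξ - νB) := by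
    rw [← pow_add]
    congr 1
    omega
  rw [h3] at h2
  have hp0 : ((p : ℤ) ^ νB) ≠ 0 := pow_ne_zero _ (by exact_mod_cast hp.out.ne_zero)
  exact (mul_dvd_mul_iff_left hp0).mp h2

theorem bf_sq_ge' (q : ℤ) (z : ℤ) (hdvd : q ∣ z) (hz : z ≠ 0) : q ^ 2 ≤ z ^ 2 := by
  obtain ⟨c, rfl⟩ := hdvd
  have hc : c ≠ 0 := by
    rintro rfl
    exact hz (mul_zero _)
  have h1 : 1 ≤ c ^ 2 := by
    have : 0 < c ^ 2 := by positivity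
    omega
  calc q ^ 2 = q ^ 2 * 1 := (mul_one _).symm
    _ ≤ q ^ 2 * c ^ 2 := mul_le_mul_of_nonneg_left h1 (sq_nonneg q)
    _ = (q * c) ^ 2 := by ring

/-- Brauer–Feit, weighted form -/
theorem bf_weighted {G : Type*} [Group G] [Fintype G] (p : ℕ) [Fact p.Prime] (M : Ideal Cfsg.AlgInt) (hM : Cfsg.IsPModular p M) (B : Set (Cfsg.IrrCharacter G)) (hB : Cfsg.IsPBlock M B) (P : Subgroup G) (hP : Cfsg.IsDefectGroup p M B P) : ∑ᶠ χ ∈ B, p ^ (2 * Cfsg.blockHeight p B (χ : G → ℂ)) ≤ Nat.card P ^ 2 / 4 + 1 := by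
  classical
  haveI : Fintype (Cfsg.IrrCharacter G) := Fintype.ofFinite _
  have hp : Fact p.Prime := inferInstance
  have hMp := hM.2.1.isPrime
  rw [Cfsg.Agent.S0908.result p M hM B hB P hP]
  obtain ⟨χ₀, rfl⟩ := hB
  have hχ₀ : χ₀ ∈ Cfsg.blockOf M (χ₀ : G → ℂ) := h7_sameBlock_refl hMp _
  obtain ⟨ψ, hψ, hψ0⟩ := bf_exists_height_zero p (Cfsg.blockOf M (χ₀ : G → ℂ)) ⟨χ₀, hχ₀⟩
  set d := Cfsg.blockDefect p (Cfsg.blockOf M (χ₀ : G → ℂ)) with hd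
  set z := bf_z p (Cfsg.blockOf M (χ₀ : G → ℂ)) with hz
  set Bf := Finset.univ.filter (· ∈ Cfsg.blockOf M (χ₀ : G → ℂ)) with hBf
  set ht : Cfsg.IrrCharacter G → ℕ := fun ξ =>
    Cfsg.blockHeight p (Cfsg.blockOf M (χ₀ : G → ℂ)) (ξ : G → ℂ) with hht
  have hfin : ∑ᶠ χ ∈ Cfsg.blockOf M (χ₀ : G → ℂ),
      p ^ (2 * Cfsg.blockHeight p (Cfsg.blockOf M (χ₀ : G → ℂ)) (χ : G → ℂ)) =
      ∑ ξ ∈ Bf, p ^ (2 * ht ξ) := by
    rw [h7_finsum_mem_fintype, hBf, Finset.sum_filter]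
  rw [hfin]
  have hmemB : ∀ ξ, ξ ∈ Bf → ξ ∈ Cfsg.blockOf M (χ₀ : G → ℂ) :=
    fun ξ hξ => (Finset.mem_filter.mp hξ).2
  have hψf : ψ ∈ Bf := Finset.mem_filter.mpr ⟨Finset.mem_univ _, hψ⟩
  have hrowψ := bf_z_sum p M hM χ₀ ψ hψ
  rw [← hz, ← hBf, ← hd] at hrowψ
  have hsplit : ∑ ξ ∈ Bf, (z ψ ξ) ^ 2 = (z ψ ψ) ^ 2 + ∑ ξ ∈ Bf.erase ψ, (z ψ ξ) ^ 2 :=
    (Finset.add_sum_erase Bf (fun ξ => (z ψ ξ) ^ 2) hψf).symm
  have hsplit2 : ∑ ξ ∈ Bf, p ^ (2 * ht ξ) = 1 + ∑ ξ ∈ Bf.erase ψ, p ^ (2 * ht ξ) := by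
    rw [← Finset.add_sum_erase Bf (fun ξ => p ^ (2 * ht ξ)) hψf]
    congr 1
    show p ^ (2 * ht ψ) = 1
    rw [show ht ψ = 0 from hψ0, mul_zero, pow_zero]
  have hle : ((∑ ξ ∈ Bf.erase ψ, p ^ (2 * ht ξ) : ℕ) : ℤ) ≤ ∑ ξ ∈ Bf.erase ψ, (z ψ ξ) ^ 2 := by
    push_cast
    apply Finset.sum_le_sum
    intro ξ hξ
    have hξB := hmemB ξ (Finset.mem_of_mem_erase hξ)
    have h1 := bf_z_height_dvd p M hM χ₀ ψ ξ hψ hξB hψ0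
    have h2 := bf_z_ne_zero p M hM χ₀ ψ ξ hψ hξB hψ0
    have h3 := bf_sq_ge' _ _ h1 h2
    calc (p : ℤ) ^ (2 * ht ξ) = ((p : ℤ) ^ ht ξ) ^ 2 := by rw [← pow_mul, mul_comm]
      _ ≤ (z ψ ξ) ^ 2 := h3
  have hkey : (4 : ℤ) * ((∑ ξ ∈ Bf.erase ψ, p ^ (2 * ht ξ) : ℕ) : ℤ) ≤ ((p ^ d) ^ 2 : ℕ) := by
    rw [hsplit] at hrowψ
    push_cast
    push_cast at hle
    nlinarith [sq_nonneg ((p : ℤ) ^ d - 2 * z ψ ψ)]
  have hkey' : 4 * (∑ ξ ∈ Bf.erase ψ, p ^ (2 * ht ξ)) ≤ (p ^ d) ^ 2 := by exact_mod_cast hkey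
  rw [hsplit2, add_comm]
  apply Nat.add_le_add_right
  rw [Nat.le_div_iff_mul_le (by norm_num)]
  rw [mul_comm]
  exact hkey'

end

end Cfsg.Agent.Lib.Helper25
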