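import Mathlib
import Cfsg.Agent.Lib.Helper25.BrauerPairCanonical
import Cfsg.Agent.Lib.Helper24.ExtFirstMain2
import Cfsg.Agent.S0963
import Cfsg.Agent.S0964

/-!
# Nilpotent blocks and normal subgroups of p-power index (S4692): bq_clifford_central (central characters vs Clifford), bq_coversG (covering for subgroups L ≤ K of G) with existence, uniqueness, conjugation, Frattini (bq_stab_up / bq_stab_down), bq_subCent, bq_sub_omega, bq_sub_pair_iff (B-pairs vs c-pairs at subgroups of N), bq_sub_nil_down, bq_sub_nil_up, bq_sub_nil_iff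
-/

set_option autoImplicit false
set_option linter.style.haveILetI false
set_option linter.unusedVariables false
set_option warn.classDefReducibility false
set_option maxHeartbeats 1600000

namespace Cfsg.Agent.Lib.Helper25
open Cfsg.Agent.Lib.Helper24
open Cfsg.Agent.Lib.helper2
open Cfsg.Agent.Lib.helper7
open scoped ComplexConjugate
section

/-- **central characters and Clifford theory**: for `ψ ∈ Irr(Γ)` over `θ ∈ Irr(N)` and a class
function `z` of `Γ` supported on the normal subgroup `N`, the central characters of `ψ` and `θ`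
agree on `z` -/
theorem bq_clifford_central {Γ : Type*} [Group Γ] [Fintype Γ] (N : Subgroup Γ) [N.Normal]
    [Fintype N] (ψ : Cfsg.IrrCharacter Γ) (θ : Cfsg.IrrCharacter N)
    (hcon : Cfsg.classInner (fun n : N => (ψ : Γ → ℂ) n) (θ : N → ℂ) ≠ 0)
    (z : Γ → ℂ) (hz : ∀ x t : Γ, z (t * x * t⁻¹) = z x) (hzN : ∀ x, x ∉ N → z x = 0) :
    ∑ x : Γ, z x * ((ψ : Γ → ℂ) x / (ψ : Γ → ℂ) 1) =
      ∑ n : N, z (n : Γ) * ((θ : N → ℂ) n / (θ : N → ℂ) 1) := by
  classical
  haveI : Fintype (ConjClasses Γ) := Fintype.ofFinite _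
  have h63 := (Cfsg.Agent.S0963.result N ψ θ).mp hcon
  have hcl : ∀ g h : Γ, z (h * g * h⁻¹) * ((ψ : Γ → ℂ) (h * g * h⁻¹) / (ψ : Γ → ℂ) 1) =
      z g * ((ψ : Γ → ℂ) g / (ψ : Γ → ℂ) 1) := by
    intro g h
    rw [irr_conj_invariant, hz]
  rw [h7_sum_eq_sum_conjClasses _ hcl]
  have hzconj : ∀ x y : Γ, IsConj x y → z x = z y := by
    intro x y hxy
    obtain ⟨t, ht⟩ := isConj_iff.mp hxy
    rw [← ht, hz]
  have h1 : ∀ C : ConjClasses Γ,
      (Subgroup.centralizer ({Quotient.out C} : Set Γ)).index •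
        (z (Quotient.out C) * ((ψ : Γ → ℂ) (Quotient.out C) / (ψ : Γ → ℂ) 1)) =
      ∑ n : N, (if IsConj (Quotient.out C) (n : Γ) then
        z (n : Γ) * ((θ : N → ℂ) n / (θ : N → ℂ) 1) else 0) := by
    intro C
    by_cases hC : Quotient.out C ∈ N
    · have h2 := h63 ⟨Quotient.out C, hC⟩
      unfold Cfsg.centralChar at h2
      simp only at h2
      rw [nsmul_eq_mul, mul_left_comm, ← mul_div_assoc, h2]
      unfold Cfsg.inducedCentralChar
      rw [h7_finsum_mem_fintype, Finset.mul_sum]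
      refine Finset.sum_congr rfl fun n _ => ?_
      simp only [Set.mem_ofPred_eq]
      by_cases hn : IsConj (Quotient.out C) (n : Γ)
      · rw [if_pos hn, if_pos hn, hzconj _ _ hn]
      · rw [if_neg hn, if_neg hn, mul_zero]
    · rw [hzN _ hC, zero_mul, smul_zero]
      symm
      apply Finset.sum_eq_zero
      intro n _
      by_cases hn : IsConj (Quotient.out C) (n : Γ)
      · rw [if_pos hn, ← hzconj _ _ hn, hzN _ hC, zero_mul]
      · rw [if_neg hn]
  rw [Finset.sum_congr rfl (fun C _ => h1 C), Finset.sum_comm]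
  refine Finset.sum_congr rfl fun n _ => ?_
  rw [Finset.sum_eq_single (ConjClasses.mk (n : Γ))]
  · have hout : IsConj (Quotient.out (ConjClasses.mk (n : Γ))) (n : Γ) :=
      ConjClasses.mk_eq_mk_iff_isConj.mp (Quotient.out_eq (ConjClasses.mk (n : Γ)))
    rw [if_pos hout]
  · intro C _ hC
    rw [if_neg]
    intro h2
    apply hC
    rw [← Quotient.out_eq C]
    exact ConjClasses.mk_eq_mk_iff_isConj.mpr h2
  · intro h
    exact absurd (Finset.mem_univ _) h

end

section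

/-- `E ⊆ Irr(K)` covers `e ⊆ Irr(L)`, for subgroups `L ≤ K` of `G`: some member of `E` has a
member of `e` as a constituent on `L` -/
def bq_coversG {G : Type*} [Group G] [Finite G] (K L : Subgroup G) (hLK : L ≤ K)
    (E : Set (Cfsg.IrrCharacter K)) (e : Set (Cfsg.IrrCharacter L)) : Prop :=
  ∃ χ ∈ E, ∃ θ ∈ e, @Cfsg.classInner L _ (Fintype.ofFinite L)
    (fun l : L => (χ : K → ℂ) ⟨(l : G), hLK l.2⟩) (θ : L → ℂ) ≠ 0

/-- the inner product on `L ≤ K` computed on `L` as a subgroup of `K` -/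
theorem bq_classInner_sub {G : Type*} [Group G] [Finite G] (K L : Subgroup G) (hLK : L ≤ K)
    (χ : K → ℂ) (θ : Cfsg.IrrCharacter L) :
    @Cfsg.classInner (L.subgroupOf K) _ (Fintype.ofFinite _) (fun n : L.subgroupOf K => χ n)
        (bq_trIrr (Subgroup.subgroupOfEquivOfLe hLK) θ : L.subgroupOf K → ℂ) =
      @Cfsg.classInner L _ (Fintype.ofFinite L) (fun l : L => χ ⟨(l : G), hLK l.2⟩)
        (θ : L → ℂ) := by
  classical
  letI : Fintype L := Fintype.ofFinite L
  letI : Fintype (L.subgroupOf K) := Fintype.ofFinite _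
  unfold Cfsg.classInner
  have hcard : Nat.card (L.subgroupOf K) = Nat.card L :=
    Nat.card_congr (Subgroup.subgroupOfEquivOfLe hLK).toEquiv
  rw [hcard]
  congr 1
  exact Fintype.sum_equiv (Subgroup.subgroupOfEquivOfLe hLK).toEquiv
    (fun n : L.subgroupOf K => χ n *
      conj ((bq_trIrr (Subgroup.subgroupOfEquivOfLe hLK) θ : L.subgroupOf K → ℂ) n))
    (fun l : L => χ ⟨(l : G), hLK l.2⟩ * conj ((θ : L → ℂ) l)) (fun n => rfl)

/-- conjugation by an element normalizing both `K` and `L` preserves covering -/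
theorem bq_coversG_conj {G : Type*} [Group G] [Finite G] (K L : Subgroup G) (hLK : L ≤ K)
    (x : G) (hxK : x ∈ Subgroup.normalizer (K : Set G))
    (hxL : x ∈ Subgroup.normalizer (L : Set G))
    (E : Set (Cfsg.IrrCharacter K)) (e : Set (Cfsg.IrrCharacter L))
    (h : bq_coversG K L hLK E e) :
    bq_coversG K L hLK (bq_conjSet K x hxK E) (bq_conjSet L x hxL e) := by
  classical
  letI : Fintype L := Fintype.ofFinite L
  obtain ⟨χ, hχ, θ, hθ, hne⟩ := h
  refine ⟨bq_conjIrr K x hxK χ, Set.mem_image_of_mem _ hχ, bq_conjIrr L x hxL θ,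
    Set.mem_image_of_mem _ hθ, ?_⟩
  intro h0
  apply hne
  rw [← h0]
  unfold Cfsg.classInner
  congr 1
  exact Fintype.sum_equiv (bq_conjEquiv L x hxL).toEquiv
    (fun l : L => (χ : K → ℂ) ⟨(l : G), hLK l.2⟩ * conj ((θ : L → ℂ) l))
    (fun l : L => (bq_conjIrr K x hxK χ : K → ℂ) ⟨(l : G), hLK l.2⟩ *
      conj ((bq_conjIrr L x hxL θ : L → ℂ) l))
    (fun l => by
      rw [bq_conjIrr_apply, bq_conjIrr_apply]
      have h1 : (bq_conjEquiv L x hxL).symm ((bq_conjEquiv L x hxL).toEquiv l) = l :=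
        (bq_conjEquiv L x hxL).symm_apply_apply l
      have h2 : (bq_conjEquiv K x hxK).symm
          ⟨(((bq_conjEquiv L x hxL).toEquiv l : L) : G), hLK ((bq_conjEquiv L x hxL).toEquiv l).2⟩ =
          ⟨(l : G), hLK l.2⟩ := by
        rw [MulEquiv.symm_apply_eq]
        rfl
      rw [h1, h2])

/-- a block is the block of each of its members -/
theorem bq_block_eq_of_mem {H : Type*} [Group H] [Finite H] {M : Ideal Cfsg.AlgInt}
    (hPr : M.IsPrime)
    (b : Set (Cfsg.IrrCharacter H)) (hb : Cfsg.IsPBlock M b) (θ : Cfsg.IrrCharacter H)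
    (h : θ ∈ b) : b = Cfsg.blockOf M (θ : H → ℂ) := by
  letI : Fintype H := Fintype.ofFinite H
  letI : Fintype (Cfsg.IrrCharacter H) := Fintype.ofFinite _
  obtain ⟨χ, rfl⟩ := hb
  exact h7_blockOf_eq_of_mem hPr χ θ h

/-- every block of `L` is covered by a block of `K` -/
theorem bq_coversG_exists_over {G : Type*} [Group G] [Finite G] {M : Ideal Cfsg.AlgInt}
    (hPr : M.IsPrime) (K L : Subgroup G) (hLK : L ≤ K)
    (e : Set (Cfsg.IrrCharacter L)) (he : Cfsg.IsPBlock M e) :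
    ∃ E : Set (Cfsg.IrrCharacter K), Cfsg.IsPBlock M E ∧ bq_coversG K L hLK E e := by
  classical
  letI : Fintype K := Fintype.ofFinite K
  letI : Fintype L := Fintype.ofFinite L
  letI : Fintype (L.subgroupOf K) := Fintype.ofFinite _
  letI : Fintype (Cfsg.IrrCharacter K) := Fintype.ofFinite _
  letI : Fintype (Cfsg.IrrCharacter L) := Fintype.ofFinite _
  obtain ⟨θ, rfl⟩ := he
  obtain ⟨χ, hχ⟩ := itn_exists_over (L.subgroupOf K)
    (bq_trIrr (Subgroup.subgroupOfEquivOfLe hLK) θ)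
  refine ⟨Cfsg.blockOf M (χ : K → ℂ), ⟨χ, rfl⟩, χ, h7_sameBlock_refl hPr _, θ,
    h7_sameBlock_refl hPr _, ?_⟩
  rw [← bq_classInner_sub K L hLK (χ : K → ℂ) θ]
  exact hχ

/-- every block of `K` covers a block of `L` -/
theorem bq_coversG_exists_under {G : Type*} [Group G] [Finite G] {M : Ideal Cfsg.AlgInt}
    (hPr : M.IsPrime) (K L : Subgroup G) (hLK : L ≤ K)
    (E : Set (Cfsg.IrrCharacter K)) (hE : Cfsg.IsPBlock M E) :
    ∃ e : Set (Cfsg.IrrCharacter L), Cfsg.IsPBlock M e ∧ bq_coversG K L hLK E e := by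
  classical
  letI : Fintype K := Fintype.ofFinite K
  letI : Fintype L := Fintype.ofFinite L
  letI : Fintype (Cfsg.IrrCharacter K) := Fintype.ofFinite _
  letI : Fintype (Cfsg.IrrCharacter L) := Fintype.ofFinite _
  obtain ⟨χ, rfl⟩ := hE
  have hres : Cfsg.IsCharacter L (fun l : L => (χ : K → ℂ) (Subgroup.inclusion hLK l)) :=
    isCharacter_comp_hom (isCharacter_of_irr χ) (Subgroup.inclusion hLK)
  have h1 : (fun l : L => (χ : K → ℂ) (Subgroup.inclusion hLK l)) 1 ≠ 0 := by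
    show (χ : K → ℂ) (Subgroup.inclusion hLK 1) ≠ 0
    rw [map_one]
    exact irr_one_ne_zero χ
  obtain ⟨θ, m, hm, hθ⟩ := isCharacter_exists_constituent hres h1
  refine ⟨Cfsg.blockOf M (θ : L → ℂ), ⟨θ, rfl⟩, χ, h7_sameBlock_refl hPr _, θ,
    h7_sameBlock_refl hPr _, ?_⟩
  have h2 : @Cfsg.classInner L _ (Fintype.ofFinite L)
      (fun l : L => (χ : K → ℂ) ⟨(l : G), hLK l.2⟩) (θ : L → ℂ) = (m : ℂ) := hθ
  rw [h2]
  exact_mod_cast hm.ne'

/-- for `L` normal in `K` of `p`-power index, a block of `L` is covered by a unique block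
of `K` -/
theorem bq_coversG_unique {G : Type*} [Group G] [Finite G] (p : ℕ) [hp : Fact p.Prime]
    (M : Ideal Cfsg.AlgInt) (hM : Cfsg.IsPModular p M) (K L : Subgroup G) (hLK : L ≤ K)
    (hn : K ≤ Subgroup.normalizer (L : Set G))
    (hidx : ∃ k : ℕ, (L.subgroupOf K).index = p ^ k)
    (e : Set (Cfsg.IrrCharacter L)) (he : Cfsg.IsPBlock M e)
    (E₁ E₂ : Set (Cfsg.IrrCharacter K)) (hE₁ : Cfsg.IsPBlock M E₁) (hE₂ : Cfsg.IsPBlock M E₂)
    (h₁ : bq_coversG K L hLK E₁ e) (h₂ : bq_coversG K L hLK E₂ e) : E₁ = E₂ := by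
  classical
  letI : Fintype K := Fintype.ofFinite K
  letI : Fintype (L.subgroupOf K) := Fintype.ofFinite _
  haveI : (L.subgroupOf K).Normal := (Subgroup.normal_subgroupOf_iff_le_normalizer hLK).mpr hn
  obtain ⟨B₀, _, huniq⟩ := bu_unique_cover p M hM (L.subgroupOf K) hidx
    (bq_trSet (Subgroup.subgroupOfEquivOfLe hLK) e)
    (bq_trSet_isBlock M (Subgroup.subgroupOfEquivOfLe hLK) e he)
  have key : ∀ E : Set (Cfsg.IrrCharacter K), Cfsg.IsPBlock M E → bq_coversG K L hLK E e →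
      E = B₀ := by
    rintro E hE ⟨χ, hχ, θ, hθ, hne⟩
    apply huniq
    refine ⟨hE, χ, hχ, bq_trIrr (Subgroup.subgroupOfEquivOfLe hLK) θ,
      (bq_mem_trSet (Subgroup.subgroupOfEquivOfLe hLK) e θ).mpr hθ, ?_⟩
    rw [bq_classInner_sub K L hLK (χ : K → ℂ) θ]
    exact hne
  rw [key E₁ hE₁ h₁, key E₂ hE₂ h₂]

end

section

/-- two blocks of `L ⊴ K` covered by the same block of `K` are conjugate under `K` -/
theorem bq_coversG_conj_of_covered {G : Type*} [Group G] [Finite G] (p : ℕ) [hp : Fact p.Prime]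
    (M : Ideal Cfsg.AlgInt) (hM : Cfsg.IsPModular p M) (K L : Subgroup G) (hLK : L ≤ K)
    (hn : K ≤ Subgroup.normalizer (L : Set G))
    (E : Set (Cfsg.IrrCharacter K)) (hE : Cfsg.IsPBlock M E)
    (e e' : Set (Cfsg.IrrCharacter L)) (he : Cfsg.IsPBlock M e) (he' : Cfsg.IsPBlock M e')
    (h : bq_coversG K L hLK E e) (h' : bq_coversG K L hLK E e') :
    ∃ g ∈ K, ∃ hg : g ∈ Subgroup.normalizer (L : Set G), e' = bq_conjSet L g hg e := by
  classical
  have hPr := hM.2.1.isPrime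
  letI : Fintype K := Fintype.ofFinite K
  letI : Fintype L := Fintype.ofFinite L
  letI : Fintype (L.subgroupOf K) := Fintype.ofFinite _
  haveI hLn : (L.subgroupOf K).Normal :=
    (Subgroup.normal_subgroupOf_iff_le_normalizer hLK).mpr hn
  obtain ⟨χ, hχ, θ, hθ, hne⟩ := h
  obtain ⟨χ', hχ', θ', hθ', hne'⟩ := h'
  set ρ := Subgroup.subgroupOfEquivOfLe hLK with hρ
  have hcon : Cfsg.classInner (fun n : L.subgroupOf K => (χ : K → ℂ) n)
      (bq_trIrr ρ θ : L.subgroupOf K → ℂ) ≠ 0 := by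
    rw [bq_classInner_sub K L hLK (χ : K → ℂ) θ]
    exact hne
  have hcon' : Cfsg.classInner (fun n : L.subgroupOf K => (χ' : K → ℂ) n)
      (bq_trIrr ρ θ' : L.subgroupOf K → ℂ) ≠ 0 := by
    rw [bq_classInner_sub K L hLK (χ' : K → ℂ) θ']
    exact hne'
  obtain ⟨g, θ'', hθ'', hval⟩ := Cfsg.Agent.S0964.result p M hM (L.subgroupOf K) E hE
    (bq_trSet ρ e) (bq_trSet_isBlock M ρ e he) χ hχ (bq_trIrr ρ θ)
    ((bq_mem_trSet ρ e θ).mpr hθ) hcon χ' hχ' (bq_trIrr ρ θ') hcon'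
  have hθ₀ : bq_trIrr ρ.symm θ'' ∈ e := hθ''
  have hg' : (g : G)⁻¹ ∈ Subgroup.normalizer (L : Set G) := hn (K.inv_mem g.2)
  refine ⟨(g : G)⁻¹, K.inv_mem g.2, hg', ?_⟩
  have hθ'eq : θ' = bq_conjIrr L (g : G)⁻¹ hg' (bq_trIrr ρ.symm θ'') := by
    apply Subtype.ext
    funext l
    rw [bq_conjIrr_apply, bq_trIrr_apply]
    have h1 := hval (ρ.symm l)
    rw [bq_trIrr_apply, MulEquiv.apply_symm_apply] at h1
    rw [h1]
    refine congrArg (θ'' : L.subgroupOf K → ℂ) ?_
    apply Subtype.ext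
    apply Subtype.ext
    show (g : G) * (((ρ.symm l : L.subgroupOf K) : K) : G) * (g : G)⁻¹ =
      ((ρ.symm ((bq_conjEquiv L (g : G)⁻¹ hg').symm l) : L.subgroupOf K) : K)
    have h2 : ∀ l' : L, (((ρ.symm l' : L.subgroupOf K) : K) : G) = (l' : G) := by
      intro l'
      have : ((ρ (ρ.symm l') : L) : G) = (((ρ.symm l' : L.subgroupOf K) : K) : G) := rfl
      rw [← this, MulEquiv.apply_symm_apply]
    rw [h2, h2]
    show (g : G) * (l : G) * (g : G)⁻¹ = ((g : G)⁻¹)⁻¹ * (l : G) * (g : G)⁻¹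
    rw [inv_inv]
  have hmem : θ' ∈ bq_conjSet L (g : G)⁻¹ hg' e := by
    rw [hθ'eq]
    exact Set.mem_image_of_mem _ hθ₀
  rw [bq_block_eq_of_mem hPr e' he' θ' hθ',
    bq_block_eq_of_mem hPr _ (bq_conjSet_isBlock L _ hg' M e he) θ' hmem]

end

section

/-- an element stabilizing a block of `L` stabilizes the unique block of `K` covering it -/
theorem bq_stab_up {G : Type*} [Group G] [Finite G] (p : ℕ) [hp : Fact p.Prime]
    (M : Ideal Cfsg.AlgInt) (hM : Cfsg.IsPModular p M) (K L : Subgroup G) (hLK : L ≤ K)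
    (hn : K ≤ Subgroup.normalizer (L : Set G))
    (hidx : ∃ k : ℕ, (L.subgroupOf K).index = p ^ k)
    (x : G) (hxK : x ∈ Subgroup.normalizer (K : Set G))
    (hxL : x ∈ Subgroup.normalizer (L : Set G))
    (E : Set (Cfsg.IrrCharacter K)) (hE : Cfsg.IsPBlock M E)
    (e : Set (Cfsg.IrrCharacter L)) (he : Cfsg.IsPBlock M e)
    (hcov : bq_coversG K L hLK E e) (hst : Cfsg.StabilizesBlock L e x) :
    Cfsg.StabilizesBlock K E x := by
  have hPr := hM.2.1.isPrime
  have h1 : bq_conjSet L x hxL e = e := (bq_stabilizes_iff hPr L e he x hxL).mp hst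
  have hcov' := bq_coversG_conj K L hLK x hxK hxL E e hcov
  rw [h1] at hcov'
  have h2 : bq_conjSet K x hxK E = E :=
    bq_coversG_unique p M hM K L hLK hn hidx e he _ E (bq_conjSet_isBlock K x hxK M E hE) hE
      hcov' hcov
  exact (bq_stabilizes_iff hPr K E hE x hxK).mpr h2

/-- Frattini argument: an element stabilizing a block of `K` stabilizes, up to an element of `K`,
each block of `L` covered by it -/
theorem bq_stab_down {G : Type*} [Group G] [Finite G] (p : ℕ) [hp : Fact p.Prime]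
    (M : Ideal Cfsg.AlgInt) (hM : Cfsg.IsPModular p M) (K L : Subgroup G) (hLK : L ≤ K)
    (hn : K ≤ Subgroup.normalizer (L : Set G))
    (x : G) (hxK : x ∈ Subgroup.normalizer (K : Set G))
    (hxL : x ∈ Subgroup.normalizer (L : Set G))
    (E : Set (Cfsg.IrrCharacter K)) (hE : Cfsg.IsPBlock M E)
    (e : Set (Cfsg.IrrCharacter L)) (he : Cfsg.IsPBlock M e)
    (hcov : bq_coversG K L hLK E e) (hst : Cfsg.StabilizesBlock K E x) :
    ∃ g ∈ K, Cfsg.StabilizesBlock L e (g * x) := by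
  have hPr := hM.2.1.isPrime
  have h1 : bq_conjSet K x hxK E = E := (bq_stabilizes_iff hPr K E hE x hxK).mp hst
  have hcov' := bq_coversG_conj K L hLK x hxK hxL E e hcov
  rw [h1] at hcov'
  obtain ⟨g, hgK, hg, heq⟩ := bq_coversG_conj_of_covered p M hM K L hLK hn E hE e _ he
    (bq_conjSet_isBlock L x hxL M e he) hcov hcov'
  have hgi : g⁻¹ ∈ Subgroup.normalizer (L : Set G) := Subgroup.inv_mem _ hg
  refine ⟨g⁻¹, K.inv_mem hgK, ?_⟩
  rw [bq_stabilizes_iff hPr L e he (g⁻¹ * x) (Subgroup.mul_mem _ hgi hxL),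
    bq_conjSet_mul L g⁻¹ x hgi hxL, heq, ← bq_conjSet_mul L g⁻¹ g hgi hg,
    bq_conjSet_congr L (g⁻¹ * g) 1 _ (Subgroup.one_mem _) (by group), bq_conjSet_one]

/-- `C_N(R)` as a subgroup of `N` and as a subgroup of `G` -/
def bq_subCent {G : Type*} [Group G] (N R : Subgroup G) (hRN : R ≤ N) :
    ↥(Subgroup.centralizer ((R.subgroupOf N : Subgroup N) : Set N)) ≃*
      ↥(Subgroup.centralizer (R : Set G) ⊓ N) where
  toFun x := ⟨((x : N) : G), Subgroup.mem_inf.mpr
    ⟨(bq_mem_centralizer_subgroupOf R N hRN (x : N)).mp x.2, (x : N).2⟩⟩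
  invFun l := ⟨⟨(l : G), (Subgroup.mem_inf.mp l.2).2⟩,
    (bq_mem_centralizer_subgroupOf R N hRN ⟨(l : G), (Subgroup.mem_inf.mp l.2).2⟩).mpr
      (Subgroup.mem_inf.mp l.2).1⟩
  left_inv x := rfl
  right_inv l := rfl
  map_mul' x y := rfl

theorem bq_subCent_coe {G : Type*} [Group G] (N R : Subgroup G) (hRN : R ≤ N)
    (x : ↥(Subgroup.centralizer ((R.subgroupOf N : Subgroup N) : Set N))) :
    ((bq_subCent N R hRN x : _) : G) = ((x : N) : G) := rfl

end

section

/-- an element normalizing `K` normalizes `K ∩ N` for normal `N` -/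
theorem bq_normalizer_inf_normal {G : Type*} [Group G] (K N : Subgroup G) [hNn : N.Normal]
    (x : G) (hx : x ∈ Subgroup.normalizer (K : Set G)) :
    x ∈ Subgroup.normalizer ((K ⊓ N : Subgroup G) : Set G) := by
  rw [Subgroup.mem_normalizer_iff]
  intro g
  rw [Subgroup.mem_inf, Subgroup.mem_inf, ← Subgroup.mem_normalizer_iff.mp hx g]
  constructor
  · rintro ⟨h1, h2⟩
    exact ⟨h1, hNn.conj_mem g h2 x⟩
  · rintro ⟨h1, h2⟩
    refine ⟨h1, ?_⟩
    have := hNn.conj_mem _ h2 x⁻¹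
    have e : x⁻¹ * (x * g * x⁻¹) * x⁻¹⁻¹ = g := by group
    rwa [e] at this

/-- **Brauer-map values in `G` and in `N`**: for `B` with the idempotent of the stable block `c`
of the normal subgroup `N`, a `p`-subgroup `R ≤ N`, and `ξ ∈ Irr(C_G(R))` over `θ ∈ Irr(C_N(R))` -/
theorem bq_sub_omega {G : Type*} [Group G] [Fintype G] (p : ℕ) [hp : Fact p.Prime]
    (M : Ideal Cfsg.AlgInt) (hM : Cfsg.IsPModular p M) (N : Subgroup G) [hNn : N.Normal]
    (c : Set (Cfsg.IrrCharacter N)) (hc : Cfsg.IsPBlock M c)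
    (hst : ∀ x : G, Cfsg.StabilizesBlock N c x)
    (B : Set (Cfsg.IrrCharacter G))
    (hBc : ∀ g : G, Cfsg.blockCoeff B g = Cfsg.subgroupBlockCoeff N c g)
    (R : Subgroup G) (hRN : R ≤ N)
    (ξ : Cfsg.IrrCharacter (Subgroup.centralizer (R : Set G)))
    (θ : Cfsg.IrrCharacter ↥(Subgroup.centralizer (R : Set G) ⊓ N))
    (hcon : @Cfsg.classInner ↥(Subgroup.centralizer (R : Set G) ⊓ N) _ (Fintype.ofFinite _)
      (fun l => (ξ : Subgroup.centralizer (R : Set G) → ℂ)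
        ⟨(l : G), (inf_le_left : Subgroup.centralizer (R : Set G) ⊓ N ≤ _) l.2⟩)
      (θ : ↥(Subgroup.centralizer (R : Set G) ⊓ N) → ℂ) ≠ 0) :
    Cfsg.brauerOmega R (Cfsg.blockCoeff B) (ξ : Subgroup.centralizer (R : Set G) → ℂ) =
      Cfsg.brauerOmega (R.subgroupOf N) (Cfsg.blockCoeff c)
        (bq_trIrr (bq_subCent N R hRN) θ :
          ↥(Subgroup.centralizer ((R.subgroupOf N : Subgroup N) : Set N)) → ℂ) := by
  classical
  have hPr := hM.2.1.isPrime
  have hLK : Subgroup.centralizer (R : Set G) ⊓ N ≤ Subgroup.centralizer (R : Set G) :=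
    inf_le_left
  letI : Fintype (Subgroup.centralizer (R : Set G)) := Fintype.ofFinite _
  letI : Fintype ↥(Subgroup.centralizer (R : Set G) ⊓ N) := Fintype.ofFinite _
  letI : Fintype ((Subgroup.centralizer (R : Set G) ⊓ N).subgroupOf
    (Subgroup.centralizer (R : Set G))) := Fintype.ofFinite _
  letI : Fintype (Subgroup.centralizer ((R.subgroupOf N : Subgroup N) : Set N)) :=
    Fintype.ofFinite _
  haveI hLn : ((Subgroup.centralizer (R : Set G) ⊓ N).subgroupOf
      (Subgroup.centralizer (R : Set G))).Normal := by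
    rw [Subgroup.normal_subgroupOf_iff_le_normalizer hLK]
    exact fun k hk => bq_normalizer_inf_normal _ N k (Subgroup.le_normalizer hk)
  rw [bq_omega_eq, bq_omega_eq]
  unfold bm_omega
  set ρ₂ := Subgroup.subgroupOfEquivOfLe hLK with hρ₂
  -- the class function
  set z : Subgroup.centralizer (R : Set G) → ℂ := fun k => Cfsg.subgroupBlockCoeff N c (k : G)
    with hz
  have hzcl : ∀ x t : Subgroup.centralizer (R : Set G), z (t * x * t⁻¹) = z x := by
    intro x t
    show Cfsg.subgroupBlockCoeff N c ((t * x * t⁻¹ : Subgroup.centralizer (R : Set G)) : G) =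
      Cfsg.subgroupBlockCoeff N c (x : G)
    rw [Subgroup.coe_mul, Subgroup.coe_mul, Subgroup.coe_inv]
    exact bq_sbc_stable hPr N c hc (t : G) (hst t) (x : G)
  have hzN : ∀ x : Subgroup.centralizer (R : Set G),
      x ∉ (Subgroup.centralizer (R : Set G) ⊓ N).subgroupOf (Subgroup.centralizer (R : Set G)) →
      z x = 0 := by
    intro x hx
    apply bq_sbc_not_mem
    intro hxN
    exact hx (Subgroup.mem_subgroupOf.mpr (Subgroup.mem_inf.mpr ⟨x.2, hxN⟩))
  have hcon' : Cfsg.classInner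
      (fun n : (Subgroup.centralizer (R : Set G) ⊓ N).subgroupOf
        (Subgroup.centralizer (R : Set G)) => (ξ : Subgroup.centralizer (R : Set G) → ℂ) n)
      (bq_trIrr ρ₂ θ : _ → ℂ) ≠ 0 := by
    rw [bq_classInner_sub _ _ hLK (ξ : Subgroup.centralizer (R : Set G) → ℂ) θ]
    exact hcon
  have hccr := bq_clifford_central _ ξ (bq_trIrr ρ₂ θ) hcon' z hzcl hzN
  have hlhs : ∑ x : Subgroup.centralizer (R : Set G),
      Cfsg.blockCoeff B (x : G) * (ξ : Subgroup.centralizer (R : Set G) → ℂ) x /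
        (ξ : Subgroup.centralizer (R : Set G) → ℂ) 1 =
      ∑ x : Subgroup.centralizer (R : Set G),
        z x * ((ξ : Subgroup.centralizer (R : Set G) → ℂ) x /
          (ξ : Subgroup.centralizer (R : Set G) → ℂ) 1) := by
    refine Finset.sum_congr rfl fun x _ => ?_
    rw [hBc, mul_div_assoc]
  rw [hlhs, hccr]
  refine Fintype.sum_equiv (ρ₂.toEquiv.trans (bq_subCent N R hRN).symm.toEquiv) _ _ fun n => ?_
  have h1 : (bq_subCent N R hRN) ((ρ₂.toEquiv.trans (bq_subCent N R hRN).symm.toEquiv) n) =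
      ρ₂ n := (bq_subCent N R hRN).apply_symm_apply _
  rw [bq_trIrr_apply, bq_trIrr_apply, bq_trIrr_apply, bq_trIrr_apply, h1, map_one, map_one,
    mul_div_assoc]
  congr 1
  have h2 : ((((ρ₂.toEquiv.trans (bq_subCent N R hRN).symm.toEquiv) n :
      ↥(Subgroup.centralizer ((R.subgroupOf N : Subgroup N) : Set N))) : N) : G) =
      ((n : Subgroup.centralizer (R : Set G)) : G) := by
    rw [← bq_subCent_coe N R hRN, h1]
    rfl
  show Cfsg.subgroupBlockCoeff N c ((n : Subgroup.centralizer (R : Set G)) : G) = _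
  rw [← h2, bq_sbc_mem N c _ (Subtype.property _)]

end

section

/-- **Brauer pairs of `B` and of `c` at a subgroup of `N`**: if the block `E` of `C_G(R)` covers
the block `e` of `C_N(R)`, then `(R, E)` is a `B`-pair iff `(R, e)` is a `c`-pair -/
theorem bq_sub_pair_iff {G : Type*} [Group G] [Fintype G] (p : ℕ) [hp : Fact p.Prime]
    (M : Ideal Cfsg.AlgInt) (hM : Cfsg.IsPModular p M) (N : Subgroup G) [hNn : N.Normal]
    (c : Set (Cfsg.IrrCharacter N)) (hc : Cfsg.IsPBlock M c)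
    (hst : ∀ x : G, Cfsg.StabilizesBlock N c x)
    (B : Set (Cfsg.IrrCharacter G)) (hB : Cfsg.IsPBlock M B)
    (hBc : ∀ g : G, Cfsg.blockCoeff B g = Cfsg.subgroupBlockCoeff N c g)
    (R : Subgroup G) (hRp : IsPGroup p R) (hRN : R ≤ N)
    (E : Set (Cfsg.IrrCharacter (Subgroup.centralizer (R : Set G)))) (hE : Cfsg.IsPBlock M E)
    (e : Set (Cfsg.IrrCharacter ↥(Subgroup.centralizer (R : Set G) ⊓ N)))
    (he : Cfsg.IsPBlock M e)
    (hcov : bq_coversG (Subgroup.centralizer (R : Set G)) (Subgroup.centralizer (R : Set G) ⊓ N)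
      inf_le_left E e) :
    Cfsg.IsBrauerPairOf p M B R E ↔
      Cfsg.IsBrauerPairOf p M c (R.subgroupOf N) (bq_trSet (bq_subCent N R hRN) e) := by
  classical
  have hPr := hM.2.1.isPrime
  letI : Fintype N := Fintype.ofFinite N
  obtain ⟨χ, hχ, θ, hθ, hne⟩ := hcov
  have hom := bq_sub_omega p M hM N c hc hst B hBc R hRN χ θ hne
  have hEeq : E = Cfsg.blockOf M (χ : Subgroup.centralizer (R : Set G) → ℂ) :=
    bq_block_eq_of_mem hPr E hE χ hχ
  have heeq : e = Cfsg.blockOf M (θ : ↥(Subgroup.centralizer (R : Set G) ⊓ N) → ℂ) :=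
    bq_block_eq_of_mem hPr e he θ hθ
  have htr : bq_trSet (bq_subCent N R hRN) e =
      Cfsg.blockOf M (bq_trIrr (bq_subCent N R hRN) θ :
        ↥(Subgroup.centralizer ((R.subgroupOf N : Subgroup N) : Set N)) → ℂ) := by
    rw [heeq, bq_trSet_blockOf]
  have hQp : IsPGroup p (R.subgroupOf N) :=
    hRp.comap_of_injective N.subtype N.subtype_injective
  constructor
  · intro h
    have h1 := h.2.2 χ hχ
    rw [hom] at h1
    rw [htr]
    exact bq_pair_of_omega p M hM (R.subgroupOf N) hQp c hc _ h1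
  · intro h
    have hmem : bq_trIrr (bq_subCent N R hRN) θ ∈ bq_trSet (bq_subCent N R hRN) e :=
      (bq_mem_trSet (bq_subCent N R hRN) e θ).mpr hθ
    have h1 := h.2.2 _ hmem
    rw [← hom] at h1
    rw [hEeq]
    exact bq_pair_of_omega p M hM R hRp B hB χ h1

end

section

/-- the index of `C_N(R)` in `C_G(R)` is a power of `p` when that of `N` in `G` is -/
theorem bq_sub_index {G : Type*} [Group G] [Finite G] (p : ℕ) [hp : Fact p.Prime]
    (N : Subgroup G) [hNn : N.Normal] (hN : ∃ k : ℕ, N.index = p ^ k) (K : Subgroup G) :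
    ∃ k : ℕ, ((K ⊓ N).subgroupOf K).index = p ^ k := by
  obtain ⟨k, hk⟩ := hN
  rw [Subgroup.inf_subgroupOf_left]
  have h1 : (N.subgroupOf K).index ∣ N.index := Subgroup.relIndex_dvd_index_of_normal N K
  rw [hk] at h1
  obtain ⟨j, _, hj⟩ := (Nat.dvd_prime_pow hp.out).mp h1
  exact ⟨j, hj⟩

/-- nilpotency goes down: pairs at subgroups `R ≤ N` -/
theorem bq_sub_nil_down_aux {G : Type*} [Group G] [Fintype G] (p : ℕ) [hp : Fact p.Prime]
    (M : Ideal Cfsg.AlgInt) (hM : Cfsg.IsPModular p M) (N : Subgroup G) [hNn : N.Normal]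
    (hN : ∃ k : ℕ, N.index = p ^ k)
    (c : Set (Cfsg.IrrCharacter N)) (hc : Cfsg.IsPBlock M c)
    (hst : ∀ x : G, Cfsg.StabilizesBlock N c x)
    (B : Set (Cfsg.IrrCharacter G)) (hB : Cfsg.IsPBlock M B)
    (hBc : ∀ g : G, Cfsg.blockCoeff B g = Cfsg.subgroupBlockCoeff N c g)
    (hnil : Cfsg.IsNilpotentBlock p M B)
    (R : Subgroup G) (hRN : R ≤ N)
    (e : Set (Cfsg.IrrCharacter
      ↥(Subgroup.centralizer ((R.subgroupOf N : Subgroup N) : Set N))))
    (hQe : Cfsg.IsBrauerPairOf p M c (R.subgroupOf N) e)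
    (x : N) (hxN : x ∈ Subgroup.normalizer ((R.subgroupOf N : Subgroup N) : Set N))
    (hxst : Cfsg.StabilizesBlock
      (Subgroup.centralizer ((R.subgroupOf N : Subgroup N) : Set N)) e x)
    (hreg : Cfsg.IsPRegular p x) :
    x ∈ Subgroup.centralizer ((R.subgroupOf N : Subgroup N) : Set N) := by
  classical
  have hPr := hM.2.1.isPrime
  have hρ : ∀ k : ↥(Subgroup.centralizer ((R.subgroupOf N : Subgroup N) : Set N)),
      ((bq_subCent N R hRN k : _) : G) = ((k : N) : G) := fun _ => rfl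
  have heL : Cfsg.IsPBlock M (bq_trSet (bq_subCent N R hRN).symm e) :=
    bq_trSet_isBlock M _ e hQe.1.2
  have hback : bq_trSet (bq_subCent N R hRN) (bq_trSet (bq_subCent N R hRN).symm e) = e :=
    bq_trSet_symm (bq_subCent N R hRN) e
  obtain ⟨E, hE, hcov⟩ := bq_coversG_exists_over hPr (Subgroup.centralizer (R : Set G))
    (Subgroup.centralizer (R : Set G) ⊓ N) inf_le_left _ heL
  have hRp : IsPGroup p R := hQe.1.1.of_equiv (Subgroup.subgroupOfEquivOfLe hRN)
  have hBRE : Cfsg.IsBrauerPairOf p M B R E := by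
    rw [bq_sub_pair_iff p M hM N c hc hst B hB hBc R hRp hRN E hE _ heL hcov, hback]
    exact hQe
  have hxR : (x : G) ∈ Subgroup.normalizer (R : Set G) :=
    (bq_mem_normalizer_subgroupOf R N hRN x).mp hxN
  have hxK : (x : G) ∈ Subgroup.normalizer ((Subgroup.centralizer (R : Set G) : Subgroup G) : Set G) :=
    bm_normalizer_centralizer R x hxR
  have hxL := bq_normalizer_inf_normal (Subgroup.centralizer (R : Set G)) N (x : G) hxK
  have hstL : Cfsg.StabilizesBlock (Subgroup.centralizer (R : Set G) ⊓ N)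
      (bq_trSet (bq_subCent N R hRN).symm e) (x : G) :=
    (bq_rel_stabilizes N _ _ (bq_subCent N R hRN) hρ e x).mp hxst
  have hn : Subgroup.centralizer (R : Set G) ≤
      Subgroup.normalizer ((Subgroup.centralizer (R : Set G) ⊓ N : Subgroup G) : Set G) :=
    fun k hk => bq_normalizer_inf_normal _ N k (Subgroup.le_normalizer hk)
  have hstE := bq_stab_up p M hM _ _ inf_le_left hn
    (bq_sub_index p N hN (Subgroup.centralizer (R : Set G))) (x : G) hxK hxL E hE _ heL hcov hstL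
  have hreg' : Cfsg.IsPRegular p (x : G) := by
    intro hdvd
    apply hreg
    rwa [Subgroup.orderOf_coe] at hdvd
  have hfin := hnil.2 R E hBRE (x : G) hxR hstE hreg'
  exact (bq_mem_centralizer_subgroupOf R N hRN x).mpr hfin

/-- **nilpotency goes down** to a stable block of a normal subgroup of `p`-power index -/
theorem bq_sub_nil_down {G : Type*} [Group G] [Fintype G] (p : ℕ) [hp : Fact p.Prime]
    (M : Ideal Cfsg.AlgInt) (hM : Cfsg.IsPModular p M) (N : Subgroup G) [hNn : N.Normal]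
    (hN : ∃ k : ℕ, N.index = p ^ k)
    (c : Set (Cfsg.IrrCharacter N)) (hc : Cfsg.IsPBlock M c)
    (hst : ∀ x : G, Cfsg.StabilizesBlock N c x)
    (B : Set (Cfsg.IrrCharacter G)) (hB : Cfsg.IsPBlock M B)
    (hBc : ∀ g : G, Cfsg.blockCoeff B g = Cfsg.subgroupBlockCoeff N c g)
    (hnil : Cfsg.IsNilpotentBlock p M B) : Cfsg.IsNilpotentBlock p M c := by
  refine ⟨hc, ?_⟩
  intro Q' e hQe x hxN hxst hreg
  obtain ⟨R, hRN, rfl⟩ : ∃ R : Subgroup G, R ≤ N ∧ Q' = R.subgroupOf N :=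
    ⟨Q'.map N.subtype, Subgroup.map_subtype_le Q',
      (Subgroup.comap_map_eq_self_of_injective N.subtype_injective Q').symm⟩
  exact bq_sub_nil_down_aux p M hM N hN c hc hst B hB hBc hnil R hRN e hQe x hxN hxst hreg

end

section

/-- an element of order prime to `p` acting on `Q` like an element `s` with `s ^ (p ^ k)`
centralizing `Q` centralizes `Q` -/
theorem bq_regular_centralizes_of_pow {G : Type*} [Group G] (p : ℕ) [hp : Fact p.Prime]
    (Q : Subgroup G) (x u : G) (hxN : x ∈ Subgroup.normalizer (Q : Set G))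
    (hreg : Cfsg.IsPRegular p x) (k : ℕ) (hu : u ^ (p ^ k) ∈ Subgroup.centralizer (Q : Set G))
    (h : ∀ q ∈ Q, x * q * x⁻¹ = u * q * u⁻¹) :
    x ∈ Subgroup.centralizer (Q : Set G) := by
  have hpow : ∀ j : ℕ, ∀ q ∈ Q, u ^ j * q * (u ^ j)⁻¹ ∈ Q ∧
      x ^ j * q * (x ^ j)⁻¹ = u ^ j * q * (u ^ j)⁻¹ := by
    intro j
    induction j with
    | zero =>
      intro q hq
      simp [hq]
    | succ j ih =>
      intro q hq
      obtain ⟨h1, h2⟩ := ih q hq
      have h3 := h _ h1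
      have h4 : x * (u ^ j * q * (u ^ j)⁻¹) * x⁻¹ ∈ Q :=
        (Subgroup.mem_normalizer_iff.mp hxN _).mp h1
      have e1 : u ^ (j + 1) * q * (u ^ (j + 1))⁻¹ = u * (u ^ j * q * (u ^ j)⁻¹) * u⁻¹ := by
        rw [pow_succ']; group
      have e2 : x ^ (j + 1) * q * (x ^ (j + 1))⁻¹ = x * (x ^ j * q * (x ^ j)⁻¹) * x⁻¹ := by
        rw [pow_succ']; group
      rw [e1, e2, h2, ← h3]
      exact ⟨h4, rfl⟩
  apply bq_mem_of_pow_coprime _ x (p ^ k) (orderOf x)
  · exact Nat.Coprime.pow_left k ((Nat.Prime.coprime_iff_not_dvd hp.out).mpr hreg)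
  · rw [Subgroup.mem_centralizer_iff]
    intro q hq
    have h1 := (hpow (p ^ k) q hq).2
    have h2 : q * u ^ p ^ k = u ^ p ^ k * q := Subgroup.mem_centralizer_iff.mp hu q hq
    have h3 : u ^ p ^ k * q * (u ^ p ^ k)⁻¹ = q := by
      rw [← h2]; group
    rw [h3] at h1
    calc q * x ^ p ^ k = (x ^ p ^ k * q * (x ^ p ^ k)⁻¹) * x ^ p ^ k := by rw [h1]
      _ = x ^ p ^ k * q := by group
  · rw [pow_orderOf_eq_one]
    exact Subgroup.one_mem _

/-- coprime action on a chain: a `p`-regular element normalizing the `p`-group `R`, centralizing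
`R₀` and acting trivially on `R` modulo `R₀`, centralizes `R` -/
theorem bq_coprime_chain {G : Type*} [Group G] [Finite G] (p : ℕ) [hp : Fact p.Prime]
    (R R₀ : Subgroup G) (hRp : IsPGroup p R) (x : G)
    (hxR : x ∈ Subgroup.normalizer (R : Set G)) (hreg : Cfsg.IsPRegular p x)
    (hx₀ : x ∈ Subgroup.centralizer (R₀ : Set G))
    (hcomm : ∀ r ∈ R, r⁻¹ * (x * r * x⁻¹) ∈ R₀) :
    x ∈ Subgroup.centralizer (R : Set G) := by
  rw [Subgroup.mem_centralizer_iff]
  intro r hr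
  set z := r⁻¹ * (x * r * x⁻¹) with hz
  have hzR₀ : z ∈ R₀ := hcomm r hr
  have hzR : z ∈ R :=
    R.mul_mem (R.inv_mem hr) ((Subgroup.mem_normalizer_iff.mp hxR r).mp hr)
  have hxz : z * x = x * z := Subgroup.mem_centralizer_iff.mp hx₀ z hzR₀
  have hxr : x * r * x⁻¹ = r * z := by rw [hz]; group
  have hxzn : ∀ n : ℕ, x * z ^ n * x⁻¹ = z ^ n := by
    intro n
    have : Commute x z := hxz.symm
    have h2 : x * z ^ n = z ^ n * x := (this.pow_right n).eq
    rw [h2]; group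
  have hpow : ∀ n : ℕ, x ^ n * r * (x ^ n)⁻¹ = r * z ^ n := by
    intro n
    induction n with
    | zero => simp
    | succ n ih =>
      have e2 : x ^ (n + 1) * r * (x ^ (n + 1))⁻¹ = x * (x ^ n * r * (x ^ n)⁻¹) * x⁻¹ := by
        rw [pow_succ']; group
      rw [e2, ih]
      calc x * (r * z ^ n) * x⁻¹ = (x * r * x⁻¹) * (x * z ^ n * x⁻¹) := by group
        _ = r * z * z ^ n := by rw [hxr, hxzn]
        _ = r * z ^ (n + 1) := by rw [pow_succ', mul_assoc]
  have h1 := hpow (orderOf x)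
  rw [pow_orderOf_eq_one, one_mul, inv_one, mul_one] at h1
  have h2 : z ^ orderOf x = 1 := by
    have : r * z ^ orderOf x = r * 1 := by rw [mul_one]; exact h1.symm
    exact mul_left_cancel this
  obtain ⟨j, hj⟩ := (IsPGroup.iff_orderOf.mp hRp) ⟨z, hzR⟩
  rw [Subgroup.orderOf_mk] at hj
  have h3 : orderOf z ∣ orderOf x := orderOf_dvd_of_pow_eq_one h2
  have h4 : orderOf z = 1 := by
    have hcop : Nat.Coprime (p ^ j) (orderOf x) :=
      Nat.Coprime.pow_left j ((Nat.Prime.coprime_iff_not_dvd hp.out).mpr hreg)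
    rw [← hj] at hcop
    exact Nat.eq_one_of_dvd_coprimes hcop dvd_rfl h3
  have h5 : z = 1 := orderOf_eq_one_iff.mp h4
  rw [h5, mul_one] at hxr
  calc r * x = (x * r * x⁻¹) * x := by rw [hxr]
    _ = x * r := by group

end

section

/-- nilpotency goes up: `p`-regular elements of `N` stabilizing a `B`-pair at a subgroup of `N`
centralize it -/
theorem bq_sub_nil_up_aux {G : Type*} [Group G] [Fintype G] (p : ℕ) [hp : Fact p.Prime]
    (M : Ideal Cfsg.AlgInt) (hM : Cfsg.IsPModular p M) (N : Subgroup G) [hNn : N.Normal]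
    (hN : ∃ k : ℕ, N.index = p ^ k)
    (c : Set (Cfsg.IrrCharacter N)) (hc : Cfsg.IsPBlock M c)
    (hst : ∀ x : G, Cfsg.StabilizesBlock N c x)
    (B : Set (Cfsg.IrrCharacter G)) (hB : Cfsg.IsPBlock M B)
    (hBc : ∀ g : G, Cfsg.blockCoeff B g = Cfsg.subgroupBlockCoeff N c g)
    (hnil : Cfsg.IsNilpotentBlock p M c)
    (R : Subgroup G) (hRN : R ≤ N)
    (E : Set (Cfsg.IrrCharacter (Subgroup.centralizer (R : Set G))))
    (hRE : Cfsg.IsBrauerPairOf p M B R E)
    (x : G) (hxR : x ∈ Subgroup.normalizer (R : Set G))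
    (hxst : Cfsg.StabilizesBlock (Subgroup.centralizer (R : Set G)) E x)
    (hreg : Cfsg.IsPRegular p x) :
    x ∈ Subgroup.centralizer (R : Set G) := by
  classical
  have hPr := hM.2.1.isPrime
  have hRp : IsPGroup p R := hRE.1.1
  have hE : Cfsg.IsPBlock M E := hRE.1.2
  have hρ : ∀ k : ↥(Subgroup.centralizer ((R.subgroupOf N : Subgroup N) : Set N)),
      ((bq_subCent N R hRN k : _) : G) = ((k : N) : G) := fun _ => rfl
  obtain ⟨eL, heL, hcov⟩ := bq_coversG_exists_under hPr (Subgroup.centralizer (R : Set G))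
    (Subgroup.centralizer (R : Set G) ⊓ N) inf_le_left E hE
  have hQe : Cfsg.IsBrauerPairOf p M c (R.subgroupOf N) (bq_trSet (bq_subCent N R hRN) eL) :=
    (bq_sub_pair_iff p M hM N c hc hst B hB hBc R hRp hRN E hE eL heL hcov).mp hRE
  have hxK : x ∈ Subgroup.normalizer ((Subgroup.centralizer (R : Set G) : Subgroup G) : Set G) :=
    bm_normalizer_centralizer R x hxR
  have hxL := bq_normalizer_inf_normal (Subgroup.centralizer (R : Set G)) N x hxK
  have hn : Subgroup.centralizer (R : Set G) ≤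
      Subgroup.normalizer ((Subgroup.centralizer (R : Set G) ⊓ N : Subgroup G) : Set G) :=
    fun k hk => bq_normalizer_inf_normal _ N k (Subgroup.le_normalizer hk)
  obtain ⟨g, hgK, hgst⟩ := bq_stab_down p M hM _ _ inf_le_left hn x hxK hxL E hE eL heL hcov hxst
  -- the element `s = g x`
  have hsR : g * x ∈ Subgroup.normalizer (R : Set G) :=
    Subgroup.mul_mem _ (Subgroup.centralizer_le_normalizer _ hgK) hxR
  obtain ⟨k, hk⟩ := hN
  have hsN : (g * x) ^ (p ^ k) ∈ N := by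
    rw [← QuotientGroup.eq_one_iff, QuotientGroup.mk_pow]
    have hcard : Nat.card (G ⧸ N) = p ^ k := by rw [← hk, Subgroup.index_eq_card]
    rw [← hcard]
    exact pow_card_eq_one'
  obtain ⟨b, hb⟩ := bq_pow_regular p ((g * x) ^ (p ^ k))
  have hupow : ((g * x) ^ (p ^ k)) ^ (p ^ b) = (g * x) ^ (p ^ (k + b)) := by
    rw [← pow_mul, pow_add]
  rw [hupow] at hb
  have huN : (g * x) ^ (p ^ (k + b)) ∈ N := by
    rw [← hupow]
    exact N.pow_mem hsN _
  have huR : (g * x) ^ (p ^ (k + b)) ∈ Subgroup.normalizer (R : Set G) :=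
    Subgroup.pow_mem _ hsR _
  have hust : Cfsg.StabilizesBlock (Subgroup.centralizer (R : Set G) ⊓ N) eL
      ((g * x) ^ (p ^ (k + b))) := by
    rw [← bq_mem_stabSubgroup hPr _ eL heL]
    exact Subgroup.pow_mem _ ((bq_mem_stabSubgroup hPr _ eL heL _).mpr hgst) _
  have hback : bq_trSet (bq_subCent N R hRN).symm (bq_trSet (bq_subCent N R hRN) eL) = eL := by
    have := bq_trSet_symm (bq_subCent N R hRN).symm eL
    rwa [MulEquiv.symm_symm] at this
  have hu'N : (⟨(g * x) ^ (p ^ (k + b)), huN⟩ : N) ∈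
      Subgroup.normalizer ((R.subgroupOf N : Subgroup N) : Set N) :=
    (bq_mem_normalizer_subgroupOf R N hRN _).mpr huR
  have hu'st : Cfsg.StabilizesBlock
      (Subgroup.centralizer ((R.subgroupOf N : Subgroup N) : Set N))
      (bq_trSet (bq_subCent N R hRN) eL) (⟨(g * x) ^ (p ^ (k + b)), huN⟩ : N) := by
    rw [bq_rel_stabilizes N _ _ (bq_subCent N R hRN) hρ, hback]
    exact hust
  have hu'reg : Cfsg.IsPRegular p (⟨(g * x) ^ (p ^ (k + b)), huN⟩ : N) := by
    intro hdvd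
    apply hb
    rwa [Subgroup.orderOf_mk] at hdvd
  have hu'c := hnil.2 _ _ hQe _ hu'N hu'st hu'reg
  have huc : (g * x) ^ (p ^ (k + b)) ∈ Subgroup.centralizer (R : Set G) :=
    (bq_mem_centralizer_subgroupOf R N hRN _).mp hu'c
  apply bq_regular_centralizes_of_pow p R x (g * x) hxR hreg (k + b) huc
  intro q hq
  have hq' : x * q * x⁻¹ ∈ R := (Subgroup.mem_normalizer_iff.mp hxR q).mp hq
  have h1 : (x * q * x⁻¹) * g = g * (x * q * x⁻¹) :=
    Subgroup.mem_centralizer_iff.mp hgK _ hq'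
  calc x * q * x⁻¹ = (x * q * x⁻¹) * g * g⁻¹ := by group
    _ = g * (x * q * x⁻¹) * g⁻¹ := by rw [h1]
    _ = g * x * q * (g * x)⁻¹ := by group

/-- **nilpotency goes up** from a stable block of a normal subgroup of `p`-power index -/
theorem bq_sub_nil_up {G : Type*} [Group G] [Fintype G] (p : ℕ) [hp : Fact p.Prime]
    (M : Ideal Cfsg.AlgInt) (hM : Cfsg.IsPModular p M) (N : Subgroup G) [hNn : N.Normal]
    (hN : ∃ k : ℕ, N.index = p ^ k)
    (c : Set (Cfsg.IrrCharacter N)) (hc : Cfsg.IsPBlock M c)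
    (hst : ∀ x : G, Cfsg.StabilizesBlock N c x)
    (B : Set (Cfsg.IrrCharacter G)) (hB : Cfsg.IsPBlock M B)
    (hBc : ∀ g : G, Cfsg.blockCoeff B g = Cfsg.subgroupBlockCoeff N c g)
    (hnil : Cfsg.IsNilpotentBlock p M c) : Cfsg.IsNilpotentBlock p M B := by
  classical
  have hPr := hM.2.1.isPrime
  refine ⟨hB, ?_⟩
  intro R E hRE x hxR hxst hreg
  have hxN : x ∈ N := by
    by_contra h
    exact hreg (bu_psingular_of_not_mem p N hN x h)
  have hRp : IsPGroup p R := hRE.1.1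
  obtain ⟨E₀, hE₀, hle₀⟩ := bq_subpair_exists p M hM R E hRE.1 (R ⊓ N) inf_le_left
  have hRE₀ : Cfsg.IsBrauerPairOf p M B (R ⊓ N) E₀ :=
    (bq_pairOf_le p M hM R (R ⊓ N) E E₀ hle₀ B).mp hRE
  have hxR₀ : x ∈ Subgroup.normalizer ((R ⊓ N : Subgroup G) : Set G) :=
    bq_normalizer_inf_normal R N x hxR
  have hidx : bq_conjIdx x ⟨R, E⟩ = (⟨R, E⟩ : Cfsg.BrauerPairIdx G) :=
    bq_conjIdx_of_stab hPr R E hRE.1.2 x hxR hxst
  have hle₁ := bq_conj_subpairLE p M x ⟨R ⊓ N, E₀⟩ ⟨R, E⟩ hle₀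
  rw [hidx] at hle₁
  have h1 : (bq_conjIdx x ⟨R ⊓ N, E₀⟩).1 = (⟨R ⊓ N, E₀⟩ : Cfsg.BrauerPairIdx G).1 :=
    bq_map_conj_normalizer (R ⊓ N) x hxR₀
  have hidx₀ : bq_conjIdx x ⟨R ⊓ N, E₀⟩ = (⟨R ⊓ N, E₀⟩ : Cfsg.BrauerPairIdx G) :=
    bq_idx_unique p M hM R E hRE.1 _ _ hle₁ hle₀ h1
  obtain ⟨_, hxst₀⟩ := bq_stab_of_conjIdx hPr (R ⊓ N) E₀ hE₀ x hidx₀
  have hx₀ : x ∈ Subgroup.centralizer ((R ⊓ N : Subgroup G) : Set G) :=
    bq_sub_nil_up_aux p M hM N hN c hc hst B hB hBc hnil (R ⊓ N) inf_le_right E₀ hRE₀ x hxR₀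
      hxst₀ hreg
  apply bq_coprime_chain p R (R ⊓ N) hRp x hxR hreg hx₀
  intro r hr
  refine Subgroup.mem_inf.mpr ⟨R.mul_mem (R.inv_mem hr)
    ((Subgroup.mem_normalizer_iff.mp hxR r).mp hr), ?_⟩
  have h2 : r⁻¹ * (x * r * x⁻¹) = (r⁻¹ * x * r⁻¹⁻¹) * x⁻¹ := by group
  rw [h2]
  exact N.mul_mem (hNn.conj_mem x hxN r⁻¹) (N.inv_mem hxN)

/-- **S4692** -/
theorem bq_sub_nil_iff {G : Type*} [Group G] [Fintype G] (p : ℕ) [Fact p.Prime]
    (M : Ideal Cfsg.AlgInt) (hM : Cfsg.IsPModular p M) (N : Subgroup G) [N.Normal]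
    (hN : ∃ k : ℕ, N.index = p ^ k)
    (c : Set (Cfsg.IrrCharacter N)) (hc : Cfsg.IsPBlock M c)
    (hst : ∀ x : G, Cfsg.StabilizesBlock N c x)
    (B : Set (Cfsg.IrrCharacter G)) (hB : Cfsg.IsPBlock M B)
    (hBc : ∀ g : G, Cfsg.blockCoeff B g = Cfsg.subgroupBlockCoeff N c g) :
    Cfsg.IsNilpotentBlock p M c ↔ Cfsg.IsNilpotentBlock p M B :=
  ⟨bq_sub_nil_up p M hM N hN c hc hst B hB hBc, bq_sub_nil_down p M hM N hN c hc hst B hB hBc⟩

end

end Cfsg.Agent.Lib.Helper25
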