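import Mathlib
import Cfsg.Agent.Lib.Helper10.C3Q.Defs

/-!
# C3Q row NARITH, second copy (helper25): `c3qnarith_h25` has the statement of `n_arith` (pure arithmetic).
-/

set_option autoImplicit false

namespace Cfsg.Agent.Lib.Helper10.C3Q

open Matrix Module Cfsg.Agent.Lib.Helper13.OTS

/-- splitting a product over `range (2m)` into even and odd indices -/
theorem c3qnarithh25_split (g : ℕ → ℕ) (m : ℕ) :
    ∏ k ∈ Finset.range (2 * m), g k =
      (∏ k ∈ Finset.range m, g (2 * k)) * ∏ k ∈ Finset.range m, g (2 * k + 1) := by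
  induction m with
  | zero => simp
  | succ m ih =>
    rw [show 2 * (m + 1) = 2 * m + 1 + 1 by ring, Finset.prod_range_succ, Finset.prod_range_succ, ih,
      Finset.prod_range_succ, Finset.prod_range_succ]
    ring

/-- the factor `q^d ∓ 1` -/
def c3qnarithh25_T (τ : ℤ) (x : ℕ) : ℕ := if τ = 1 then x - 1 else x + 1

/-- `d = 2(n+1)` even: exact factorisation of `|GO^τ_{2d}(q)|` by `|GO^τ_d(q²)|` -/
theorem c3qnarithh25_even (q n : ℕ) (τ : ℤ) :
    ordGO q (2 * n + 2) τ = ordGO (q ^ 2) (n + 1) τ *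
      (q ^ (2 * (n + 1) ^ 2) * ∏ k ∈ Finset.range (n + 1), (q ^ (2 * (2 * k + 1)) - 1)) := by
  unfold ordGO
  have h1 : 2 * n + 2 - 1 = 2 * n + 1 := by omega
  have h2 : n + 1 - 1 = n := by omega
  rw [h1, h2, Finset.prod_range_succ (fun i => q ^ (2 * (i + 1)) - 1) (2 * n),
    c3qnarithh25_split (fun i => q ^ (2 * (i + 1)) - 1) n,
    Finset.prod_range_succ (fun k => q ^ (2 * (2 * k + 1)) - 1) n]
  have hA : ∏ k ∈ Finset.range n, (q ^ (2 * (2 * k + 1 + 1)) - 1) =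
      ∏ k ∈ Finset.range n, ((q ^ 2) ^ (2 * (k + 1)) - 1) := by
    apply Finset.prod_congr rfl
    intro k _
    congr 1
    ring
  have hT : (q ^ 2) ^ (n + 1) = q ^ (2 * n + 2) := by ring
  simp only [hA, hT]
  have hE : q ^ ((2 * n + 2) * (2 * n + 1)) = (q ^ 2) ^ ((n + 1) * n) * q ^ (2 * (n + 1) ^ 2) := by
    rw [← pow_mul, ← pow_add]
    congr 1
    ring
  rw [hE]
  ring

/-- `d = 2e+1` odd: exact factorisation of `|GO^τ_{2d}(q)|` by `|GO_d(q²)|` -/
theorem c3qnarithh25_odd (q e : ℕ) (τ : ℤ) :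
    ordGO q (2 * e + 1) τ = ordGOodd (q ^ 2) e *
      (q ^ (2 * e ^ 2 + 2 * e) * (if τ = 1 then q ^ (2 * e + 1) - 1 else q ^ (2 * e + 1) + 1) *
        ∏ k ∈ Finset.range e, (q ^ (2 * (2 * k + 1)) - 1)) := by
  unfold ordGO ordGOodd
  have h1 : 2 * e + 1 - 1 = 2 * e := by omega
  rw [h1, c3qnarithh25_split (fun i => q ^ (2 * (i + 1)) - 1) e]
  have hA : ∏ k ∈ Finset.range e, (q ^ (2 * (2 * k + 1 + 1)) - 1) =
      ∏ k ∈ Finset.range e, ((q ^ 2) ^ (2 * (k + 1)) - 1) := by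
    apply Finset.prod_congr rfl
    intro k _
    congr 1
    ring
  simp only [hA]
  have hE : q ^ ((2 * e + 1) * (2 * e)) = (q ^ 2) ^ (e ^ 2) * q ^ (2 * e ^ 2 + 2 * e) := by
    rw [← pow_mul, ← pow_add]
    congr 1
    ring
  rw [hE]
  ring

/-- `r ∣ q^n - 1` gives `ord_r q ∣ n` -/
theorem c3qnarithh25_ord_minus (q r n : ℕ) (hq : 1 ≤ q) (h : r ∣ q ^ n - 1) :
    orderOf ((q : ℕ) : ZMod r) ∣ n := by
  apply orderOf_dvd_of_pow_eq_one
  have h1 : ((q ^ n - 1 : ℕ) : ZMod r) = 0 := (ZMod.natCast_eq_zero_iff _ _).mpr h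
  rw [Nat.cast_sub (Nat.one_le_pow _ _ hq), Nat.cast_pow, Nat.cast_one, sub_eq_zero] at h1
  exact h1

/-- `r ∣ q^n + 1` gives `q^n = -1` in `ZMod r` -/
theorem c3qnarithh25_ord_plus (q r n : ℕ) (h : r ∣ q ^ n + 1) :
    ((q : ℕ) : ZMod r) ^ n = -1 := by
  have h1 : ((q ^ n + 1 : ℕ) : ZMod r) = 0 := (ZMod.natCast_eq_zero_iff _ _).mpr h
  rw [Nat.cast_add, Nat.cast_pow, Nat.cast_one] at h1
  exact eq_neg_of_add_eq_zero_left h1

/-- `i ∣ 2j`, `j` odd: `c/2` is odd and `c ∣ 2j` -/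
theorem c3qnarithh25_c (i c j : ℕ) (hc : c = if Even i then i else 2 * i) (hj : Odd j) (hij : i ∣ 2 * j) :
    Odd (c / 2) ∧ c ∣ 2 * j := by
  by_cases hev : Even i
  · rw [if_pos hev] at hc
    obtain ⟨i', hi'⟩ := hev
    have hi2 : i = 2 * i' := by omega
    subst hc
    rw [hi2] at hij ⊢
    have h1 : i' ∣ j := Nat.dvd_of_mul_dvd_mul_left (by norm_num) hij
    refine ⟨?_, hij⟩
    rw [Nat.mul_div_cancel_left _ (by norm_num : 0 < 2)]
    exact Odd.of_dvd_nat hj h1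
  · rw [if_neg hev] at hc
    have hodd : Odd i := Nat.not_even_iff_odd.mp hev
    subst hc
    have hcop : Nat.Coprime i 2 := by
      rw [Nat.coprime_comm, Nat.coprime_two_left]
      exact hodd
    have h1 : i ∣ j := hcop.dvd_of_dvd_mul_left hij
    refine ⟨?_, Nat.mul_dvd_mul_left 2 h1⟩
    rw [Nat.mul_div_cancel_left _ (by norm_num : 0 < 2)]
    exact hodd

/-- `c ≤ 2d - 2` gives room for the fixed space -/
theorem c3qnarithh25_fmin (i c d : ℕ) (τ : ℤ) (hc0 : 0 < c) (hcd : c + 2 ≤ 2 * d) :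
    c + FMin i c d τ ≤ 2 * d := by
  unfold FMin
  split_ifs with h
  · obtain ⟨k, hk⟩ := Nat.dvd_of_mod_eq_zero h.1
    have hk2 : 2 ≤ k := by
      by_contra hlt
      have : k = 0 ∨ k = 1 := by omega
      rcases this with rfl | rfl
      · omega
      · omega
    have := Nat.mul_le_mul_left c hk2
    omega
  · have h1 := Nat.div_add_mod (2 * d) c
    have h2 : 0 < 2 * d / c := Nat.div_pos (by omega) hc0
    have h3 := Nat.le_mul_of_pos_right c h2
    omega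

/-- the generic factor: `r ∣ q^(2j) - 1`, `j` odd, `j + 1 ≤ d` -/
theorem c3qnarithh25_generic (q d : ℕ) (τ : ℤ) (hq : 1 ≤ q) (r : ℕ) (i c : ℕ)
    (hi : i = orderOf ((q : ℕ) : ZMod r)) (hc : c = if Even i then i else 2 * i)
    (j : ℕ) (hj : Odd j) (hjd : j + 1 ≤ d) (h : r ∣ q ^ (2 * j) - 1) :
    Odd (c / 2) ∧ c + FMin i c d τ ≤ 2 * d := by
  have hij : i ∣ 2 * j := hi ▸ c3qnarithh25_ord_minus q r (2 * j) hq h
  obtain ⟨h1, h2⟩ := c3qnarithh25_c i c j hc hj hij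
  refine ⟨h1, ?_⟩
  have hj0 : 0 < j := hj.pos
  have hle : c ≤ 2 * j := Nat.le_of_dvd (by omega) h2
  have hc0 : 0 < c := Nat.pos_of_dvd_of_pos h2 (by omega)
  exact c3qnarithh25_fmin i c d τ hc0 (by omega)

/-- `d` odd, `r ∣ q^d - 1` (`τ = 1`) -/
theorem c3qnarithh25_Tplus (q d : ℕ) (hq : 1 ≤ q) (hd : Odd d) (r : ℕ) (i c : ℕ)
    (hi : i = orderOf ((q : ℕ) : ZMod r)) (hc : c = if Even i then i else 2 * i)
    (h : r ∣ q ^ d - 1) : Odd (c / 2) ∧ c + FMin i c d 1 ≤ 2 * d := by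
  have hid : i ∣ d := hi ▸ c3qnarithh25_ord_minus q r d hq h
  have hodd : Odd i := Odd.of_dvd_nat hd hid
  have hev : ¬ Even i := Nat.not_even_iff_odd.mpr hodd
  rw [if_neg hev] at hc
  subst hc
  have hd0 : 0 < d := hd.pos
  have hdvd : 2 * i ∣ 2 * d := Nat.mul_dvd_mul_left 2 hid
  refine ⟨?_, ?_⟩
  · rw [Nat.mul_div_cancel_left _ (by norm_num : 0 < 2)]
    exact hodd
  · have hmod : (2 * d) % (2 * i) = 0 := Nat.mod_eq_zero_of_dvd hdvd
    have hle : 2 * i ≤ 2 * d := Nat.le_of_dvd (by omega) hdvd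
    unfold FMin
    rw [if_neg]
    · omega
    · rintro ⟨-, h2⟩
      exact h2 ⟨fun _ => Or.inl hodd, fun _ => rfl⟩

/-- `d` odd, `r ∣ q^d + 1` (`τ = -1`), `r ≠ 2` -/
theorem c3qnarithh25_Tminus (q d : ℕ) (hd : Odd d) (r : ℕ) [Fact r.Prime] (hr2 : r ≠ 2) (i c : ℕ)
    (hi : i = orderOf ((q : ℕ) : ZMod r)) (hc : c = if Even i then i else 2 * i)
    (h : r ∣ q ^ d + 1) : Odd (c / 2) ∧ c + FMin i c d (-1) ≤ 2 * d := by
  have hqd : ((q : ℕ) : ZMod r) ^ d = -1 := c3qnarithh25_ord_plus q r d h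
  have hi2d : i ∣ 2 * d := by
    rw [hi]
    apply orderOf_dvd_of_pow_eq_one
    rw [mul_comm, pow_mul, hqd]
    norm_num
  have hnid : ¬ i ∣ d := by
    intro hid
    have h1 : ((q : ℕ) : ZMod r) ^ d = 1 := by
      rw [hi] at hid
      exact orderOf_dvd_iff_pow_eq_one.mp hid
    rw [hqd] at h1
    have h2 : ((2 : ℕ) : ZMod r) = 0 := by
      have : (2 : ZMod r) = 1 - (-1) := by ring
      rw [Nat.cast_ofNat, this, h1]
      ring
    have h3 : r ∣ 2 := (ZMod.natCast_eq_zero_iff _ _).mp h2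
    have hrp : r.Prime := Fact.out
    rcases (Nat.dvd_prime Nat.prime_two).mp h3 with h4 | h4
    · exact hrp.one_lt.ne' h4
    · exact hr2 h4
  have hev : Even i := by
    by_contra hne
    have hodd : Odd i := Nat.not_even_iff_odd.mp hne
    have hcop : Nat.Coprime i 2 := by
      rw [Nat.coprime_comm, Nat.coprime_two_left]
      exact hodd
    exact hnid (hcop.dvd_of_dvd_mul_left hi2d)
  rw [if_pos hev] at hc
  subst hc
  obtain ⟨i', hi'⟩ := hev
  have hi2 : c = 2 * i' := by omega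
  have h1 : i' ∣ d := by
    rw [hi2] at hi2d
    exact Nat.dvd_of_mul_dvd_mul_left (by norm_num) hi2d
  have hi'odd : Odd i' := Odd.of_dvd_nat hd h1
  have hd0 : 0 < d := hd.pos
  refine ⟨?_, ?_⟩
  · rw [hi2, Nat.mul_div_cancel_left _ (by norm_num : 0 < 2)]
    exact hi'odd
  · have hmod : (2 * d) % c = 0 := Nat.mod_eq_zero_of_dvd hi2d
    have hle : c ≤ 2 * d := Nat.le_of_dvd (by omega) hi2d
    unfold FMin
    rw [if_neg]
    · omega
    · rintro ⟨-, h2⟩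
      apply h2
      constructor
      · intro h3
        norm_num at h3
      · rintro (h3 | h3)
        · exfalso
          rw [hi2] at h3
          exact (Nat.not_odd_iff_even.mpr (even_two_mul i')) h3
        · exfalso
          obtain ⟨m, hm⟩ := h1
          have hi'0 : 0 < i' := Nat.pos_of_ne_zero (by rintro rfl; simp at hi'odd)
          have hquot : 2 * d / c = m := by
            rw [hi2, hm, Nat.mul_div_mul_left _ _ (by norm_num : 0 < 2),
              Nat.mul_div_cancel_left _ hi'0]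
          rw [hquot] at h3
          have hmodd : Odd m := by
            rw [hm] at hd
            exact (Nat.odd_mul.mp hd).2
          exact (Nat.not_even_iff_odd.mpr hmodd) h3

/-- positivity of the factors `q^k - 1` -/
theorem c3qnarithh25_pos (q k : ℕ) (hq : 2 ≤ q) (hk : 0 < k) : 0 < q ^ k - 1 := by
  have : 1 < q ^ k := Nat.one_lt_pow hk.ne' (by omega)
  omega

theorem c3qnarithh25_ordGO_pos (q d : ℕ) (τ : ℤ) (hq : 2 ≤ q) (hd : 1 ≤ d) : 0 < ordGO q d τ := by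
  unfold ordGO
  have h1 : 0 < q ^ (d * (d - 1)) := Nat.pow_pos (by omega)
  have h2 : 0 < (if τ = 1 then q ^ d - 1 else q ^ d + 1) := by
    split_ifs
    · exact c3qnarithh25_pos q d hq (by omega)
    · omega
  have h3 : 0 < ∏ i ∈ Finset.range (d - 1), (q ^ (2 * (i + 1)) - 1) :=
    Finset.prod_pos (fun k _ => c3qnarithh25_pos q _ hq (by omega))
  positivity

theorem c3qnarithh25_ordGOodd_pos (q m : ℕ) (hq : 2 ≤ q) : 0 < ordGOodd q m := by
  unfold ordGOodd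
  have h1 : 0 < q ^ (m ^ 2) := Nat.pow_pos (by omega)
  have h3 : 0 < ∏ i ∈ Finset.range m, (q ^ (2 * (i + 1)) - 1) :=
    Finset.prod_pos (fun k _ => c3qnarithh25_pos q _ hq (by omega))
  positivity

/-- NARITH (second copy, helper25): the statement of `n_arith`. -/
theorem c3qnarith_h25 (q d : ℕ) (τ : ℤ) (hτ : τ = 1 ∨ τ = -1) (hq : 2 ≤ q) (hd : 1 ≤ d) (r : ℕ) [Fact r.Prime]
    (hr2 : r ≠ 2) (hrq : ¬ r ∣ q)
    (hdiv : (Even d → r ∣ ordGO q d τ / ordGO (q ^ 2) (d / 2) τ) ∧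
      (Odd d → r ∣ ordGO q d τ / ordGOodd (q ^ 2) (d / 2)))
    (i c : ℕ) (hi : i = orderOf ((q : ℕ) : ZMod r)) (hc : c = if Even i then i else 2 * i) :
    Odd (c / 2) ∧ c + FMin i c d τ ≤ 2 * d := by
  have hrp : r.Prime := Fact.out
  have hq2 : 2 ≤ q ^ 2 := by nlinarith
  have hnq : ∀ a : ℕ, ¬ r ∣ q ^ a := fun a h => hrq (hrp.dvd_of_dvd_pow h)
  rcases Nat.even_or_odd d with hev | hodd
  · -- `d = 2(n+1)`
    obtain ⟨e, he⟩ := hev
    obtain ⟨n, rfl⟩ : ∃ n, e = n + 1 := ⟨e - 1, by omega⟩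
    have hd2 : d = 2 * n + 2 := by omega
    subst hd2
    have h1 := hdiv.1 ⟨n + 1, by ring⟩
    have hdiv2 : (2 * n + 2) / 2 = n + 1 := by omega
    rw [hdiv2, c3qnarithh25_even,
      Nat.mul_div_cancel_left _ (c3qnarithh25_ordGO_pos (q ^ 2) (n + 1) τ hq2 (by omega))] at h1
    rcases (Nat.Prime.dvd_mul hrp).mp h1 with h2 | h2
    · exact absurd h2 (hnq _)
    · obtain ⟨k, hk, h3⟩ := (Prime.dvd_finsetProd_iff (Nat.prime_iff.mp hrp) _).mp h2
      rw [Finset.mem_range] at hk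
      exact c3qnarithh25_generic q (2 * n + 2) τ (by omega) r i c hi hc (2 * k + 1) ⟨k, rfl⟩
        (by omega) h3
  · -- `d = 2e+1`
    obtain ⟨e, he⟩ := hodd
    subst he
    have h1 := hdiv.2 ⟨e, rfl⟩
    have hdiv2 : (2 * e + 1) / 2 = e := by omega
    rw [hdiv2, c3qnarithh25_odd,
      Nat.mul_div_cancel_left _ (c3qnarithh25_ordGOodd_pos (q ^ 2) e hq2)] at h1
    rcases (Nat.Prime.dvd_mul hrp).mp h1 with h2 | h2
    · rcases (Nat.Prime.dvd_mul hrp).mp h2 with h3 | h3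
      · exact absurd h3 (hnq _)
      · rcases hτ with rfl | rfl
        · rw [if_pos rfl] at h3
          exact c3qnarithh25_Tplus q (2 * e + 1) (by omega) ⟨e, rfl⟩ r i c hi hc h3
        · rw [if_neg (by norm_num)] at h3
          exact c3qnarithh25_Tminus q (2 * e + 1) ⟨e, rfl⟩ r hr2 i c hi hc h3
    · obtain ⟨k, hk, h3⟩ := (Prime.dvd_finsetProd_iff (Nat.prime_iff.mp hrp) _).mp h2
      rw [Finset.mem_range] at hk
      exact c3qnarithh25_generic q (2 * e + 1) τ (by omega) r i c hi hc (2 * k + 1) ⟨k, rfl⟩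
        (by omega) h3

end Cfsg.Agent.Lib.Helper10.C3Q
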