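import Mathlib
import Cfsg.Agent.Lib.Helper10.C3Q.Defs
import Cfsg.Agent.Lib.Helper25.C3QNARITHh25

/-!
# C3Q row NARITH (helper25, second writer): `n_arith`, verbatim (`= c3qnarith_h25`).
-/

set_option autoImplicit false

namespace Cfsg.Agent.Lib.Helper10.C3Q

open Matrix Module Cfsg.Agent.Lib.Helper13.OTS Cfsg.Agent.Lib.Helper16

/-- NARITH [L] (pure arithmetic; brute-force check it first).  `d = 2e`: the quotient is `q^(..) ∏_{j odd, j ≤ d-1} (q^(2j) - 1)`; `d = 2e + 1`: `q^(..) (q^d - τ) ∏_{j odd, j ≤ d-1} (q^(2j) - 1)`.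
`r ∤ q`: `r ∣ q^(2j) - 1`, `j` odd, `j ≤ d - 1`: `i ∣ 2j`, so `i` is odd or `i ≡ 2 (4)`: `c/2` is odd; `c ∣ 2j ≤ 2d - 2`: `c + FMin ≤ 2d` (`FMin ≤ (2d) % c` or `FMin = c` with `2c ≤ 2d`).
`d` odd and `r ∣ q^d - τ`: `τ = 1`: `i ∣ d` odd, `c = 2i ∣ 2d`, and `c = 2d` ⟹ `FMin = 0` (the type fits: `Odd i`); `τ = -1`: `r ∣ q^d + 1`: `i` even, `d % i = i/2`, `i/2 ∣ d` odd: `c = i`, `c/2` odd; `c = 2d` ⟹ `2d / i = 1` odd, `FMin = 0`. -/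
theorem n_arith (q d : ℕ) (τ : ℤ) (hτ : τ = 1 ∨ τ = -1) (hq : 2 ≤ q) (hd : 1 ≤ d) (r : ℕ) [Fact r.Prime]
    (hr2 : r ≠ 2) (hrq : ¬ r ∣ q)
    (hdiv : (Even d → r ∣ ordGO q d τ / ordGO (q ^ 2) (d / 2) τ) ∧
      (Odd d → r ∣ ordGO q d τ / ordGOodd (q ^ 2) (d / 2)))
    (i c : ℕ) (hi : i = orderOf ((q : ℕ) : ZMod r)) (hc : c = if Even i then i else 2 * i) :
    Odd (c / 2) ∧ c + FMin i c d τ ≤ 2 * d :=
  c3qnarith_h25 q d τ hτ hq hd r hr2 hrq hdiv i c hi hc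

end Cfsg.Agent.Lib.Helper10.C3Q
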