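import Mathlib
import Cfsg.Agent.Lib.Helper28.CD3.Defs
import Cfsg.Agent.Lib.Helper19.CD3BASIC
import Cfsg.Agent.Lib.Helper25.RelDegB
import Cfsg.Agent.S0887

/-!
# CD3 piece CDF: if `F = O_q(G)` is a Sylow `q`-subgroup, the degree of every irreducible character
of `F` is the `q`-part of some degree of `G`.

Also the common tool `cd3cdf_over`: every irreducible character of a normal subgroup lies under an
irreducible character of `G`, with the divisibility relations of Clifford theory.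
-/

set_option autoImplicit false
open scoped commutatorElement

namespace Cfsg.Agent.Lib.Helper28.CD3

universe u

section partB
variable {G : Type u} [Group G] [Finite G]

open Cfsg.Agent.Lib.Helper25 Cfsg.Agent.Lib.Helper25.RelDeg in
/-- every `θ ∈ Irr(N)` lies under some `χ ∈ Irr(G)`: `nn θ * θ(1) ∣ χ(1)` and `χ(1)/θ(1) ∣ |G:N|` -/
theorem cd3cdf_over (N : Subgroup G) [hN : N.Normal] (θ : Cfsg.IrrCharacter N) :
    ∃ χ : Cfsg.IrrCharacter G,
      (stb N θ).index *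
        Cfsg.charDegree (θ : N → ℂ) ∣ Cfsg.charDegree (χ : G → ℂ) ∧
      Cfsg.charDegree (χ : G → ℂ) / Cfsg.charDegree (θ : N → ℂ) ∣ N.index := by
  classical
  haveI : Fintype G := Fintype.ofFinite G
  haveI : Fintype N := Fintype.ofFinite N
  obtain ⟨χ, hχ⟩ := exists_over N θ
  refine ⟨χ, ov_dvd N χ θ hχ, ?_⟩
  exact (Cfsg.Agent.S0887.result N (χ : G → ℂ) χ.2 (θ : N → ℂ) θ.2 hχ _ _
    (charDegree_irr χ).1.symm (charDegree_irr θ).1.symm).2

/-- the `q`-part of `q ^ a * e` with `q ∤ e` -/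
theorem cd3cdf_ordProj {q a e : ℕ} (hq : q.Prime) (he : ¬ q ∣ e) (he0 : e ≠ 0) :
    ordProj[q] (q ^ a * e) = q ^ a := by
  have h1 : (q ^ a * e).factorization q = a := by
    rw [Nat.factorization_mul (pow_ne_zero _ hq.ne_zero) he0, Finsupp.add_apply,
      Nat.Prime.factorization_pow hq, Finsupp.single_eq_same,
      Nat.factorization_eq_zero_of_not_dvd he, add_zero]
  rw [h1]

-- piece CDF
theorem cdF_of_sylow {m n q : ℕ} {F : Subgroup G} (h : BData G m n q F) (hsyl : ¬ q ∣ F.index)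
    (φ : Cfsg.IrrCharacter F) :
    ∃ d ∈ ({1, m, n} : Set ℕ), Cfsg.charDegree (φ : F → ℂ) = ordProj[q] d := by
  haveI := h.hFn
  haveI := Fact.mk h.hq
  obtain ⟨χ, h1, h2⟩ := cd3cdf_over F φ
  have hdvd : Cfsg.charDegree (φ : F → ℂ) ∣ Cfsg.charDegree (χ : G → ℂ) :=
    (Dvd.intro_left _ rfl).trans h1
  obtain ⟨e, he⟩ := hdvd
  have hφpos : 0 < Cfsg.charDegree (φ : F → ℂ) :=
    cd_pos (G := F) ⟨φ, rfl⟩
  have hχpos : 0 < Cfsg.charDegree (χ : G → ℂ) := cd_pos (G := G) ⟨χ, rfl⟩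
  -- `φ(1)` is a power of `q`
  have hφF : Cfsg.charDegree (φ : F → ℂ) ∣ Nat.card F := cd_dvd_card (G := F) ⟨φ, rfl⟩
  obtain ⟨k, hk⟩ := h.hFq.exists_card_eq
  rw [hk] at hφF
  obtain ⟨a, -, ha⟩ := (Nat.dvd_prime_pow h.hq).mp hφF
  -- the quotient is prime to `q`
  have he' : Cfsg.charDegree (χ : G → ℂ) / Cfsg.charDegree (φ : F → ℂ) = e := by
    rw [he]
    exact Nat.mul_div_cancel_left e hφpos
  rw [he'] at h2
  have hqe : ¬ q ∣ e := fun hd => hsyl (hd.trans h2)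
  have he0 : e ≠ 0 := by
    rintro rfl
    rw [mul_zero] at he
    omega
  refine ⟨Cfsg.charDegree (χ : G → ℂ), ?_, ?_⟩
  · have : Cfsg.charDegree (χ : G → ℂ) ∈ Cfsg.charDegrees G := ⟨χ, rfl⟩
    rw [h.hce.hcd] at this
    exact this
  · rw [he, ha, cd3cdf_ordProj h.hq hqe he0]

end partB

end Cfsg.Agent.Lib.Helper28.CD3
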