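import Mathlib
import Cfsg.Agent.Lib.Helper28.CD3.Defs
import Cfsg.Agent.Lib.Helper19.CD3BASIC
import Cfsg.Agent.Lib.Helper25.CD3CDF

/-!
# CD3 piece LS1, core: the stabilizer of a linear character of `F` has index at most `m` (with the
conclusions of the pieces BG/OVERQ (as `m ∣ |G:F|`) and QDIV as hypotheses).
-/

set_option autoImplicit false
open scoped commutatorElement

namespace Cfsg.Agent.Lib.Helper28.CD3

universe u

section partB
variable {G : Type u} [Group G] [Finite G]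

open Cfsg.Agent.Lib.Helper25 Cfsg.Agent.Lib.Helper25.RelDeg in
/-- the stabilizer of the irreducible character `linIrr l` fixes the homomorphism `l` -/
theorem cd3ls1_stb_le (F : Subgroup G) [hF : F.Normal] (l : F →* ℂˣ) :
    stb F (linIrr l) ≤ linStab F l := by
  classical
  haveI : Fintype G := Fintype.ofFinite G
  haveI : Fintype F := Fintype.ofFinite F
  intro g hg
  rw [mem_stb_lin] at hg
  intro x
  have h1 := DFunLike.congr_fun hg ⟨g * x * g⁻¹, hF.conj_mem x x.2 g⟩
  rw [cjL_apply] at h1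
  rw [← h1]
  refine congrArg l (Subtype.ext ?_)
  simp [mul_assoc]

open Cfsg.Agent.Lib.Helper25 Cfsg.Agent.Lib.Helper25.RelDeg in
/-- LS1, core -/
theorem cd3ls1_core {m n q : ℕ} {F : Subgroup G} (h : BData G m n q F)
    (hsyl : ¬ q ∣ F.index) (l : F →* ℂˣ) (hmF : m ∣ F.index)
    (hqd : (q ∣ m ∧ ¬ q ∣ n) ∨ (¬ q ∣ m ∧ q ∣ n)) :
    (@linStab G _ F h.hFn l).index ≤ m := by
  classical
  haveI := h.hFn
  have hqm : ¬ q ∣ m := fun hd => hsyl (hd.trans hmF)
  have hqn : q ∣ n := by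
    rcases hqd with hd | hd
    · exact absurd hd.1 hqm
    · exact hd.2
  obtain ⟨χ, h1, h2⟩ := cd3cdf_over F (linIrr l)
  have hdeg : Cfsg.charDegree (linIrr l : F → ℂ) = 1 := by
    haveI : Fintype G := Fintype.ofFinite G
    haveI : Fintype F := Fintype.ofFinite F
    exact deg_lin F l
  rw [hdeg, mul_one] at h1
  rw [hdeg, Nat.div_one] at h2
  have hχpos : 0 < Cfsg.charDegree (χ : G → ℂ) := cd_pos (G := G) ⟨χ, rfl⟩
  have hmem : Cfsg.charDegree (χ : G → ℂ) ∈ Cfsg.charDegrees G := ⟨χ, rfl⟩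
  rw [h.hce.hcd] at hmem
  have hle : Cfsg.charDegree (χ : G → ℂ) ≤ m := by
    rcases hmem with h3 | h3 | h3
    · rw [h3]; exact h.hce.hm.le
    · rw [h3]
    · exfalso
      rw [Set.mem_singleton_iff] at h3
      rw [h3] at h2
      exact hsyl (hqn.trans h2)
  have h3 : (linStab F l).index ∣ (stb F (linIrr l)).index :=
    Subgroup.index_dvd_of_le (cd3ls1_stb_le F l)
  exact (Nat.le_of_dvd hχpos (h3.trans h1)).trans hle

end partB

end Cfsg.Agent.Lib.Helper28.CD3
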