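import Mathlib
import Cfsg.Agent.Lib.Helper28.CD3.Defs
import Cfsg.Agent.Lib.Helper25.CD3LS1core
import Cfsg.Agent.Lib.Helper25.CD3QDIV
import Cfsg.Agent.Lib.Helper19.CD3BG
import Cfsg.Agent.Lib.helper23.CD3OVERQ

/-!
# CD3 piece LS1: the stabilizer of a linear character of `F` has index at most `m`.
-/

set_option autoImplicit false
open scoped commutatorElement

namespace Cfsg.Agent.Lib.Helper28.CD3

universe u

section partB
variable {G : Type u} [Group G] [Finite G]

-- piece LS1
theorem linStab_index_le {m n q : ℕ} {F : Subgroup G} (h : BData G m n q F)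
    (hsyl : ¬ q ∣ F.index) (hnab : ¬ commutator G ≤ F) (l : F →* ℂˣ) :
    (@linStab G _ F h.hFn l).index ≤ m := by
  haveI := h.hFn
  obtain ⟨d, hd, hd1⟩ := exists_nonlinear_over F hnab
  have hdm : d = m := by
    rcases bg_quot h hd with h2 | h2
    · omega
    · exact h2
  rw [hdm] at hd
  exact cd3ls1_core h hsyl l (cdOver_dvd_index F hd) (q_dvd_one h)

end partB

end Cfsg.Agent.Lib.Helper28.CD3
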