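import Mathlib
import Cfsg.Agent.Lib.helper7.CEC.Defs
import Cfsg.Agent.Lib.Helper24.STCI1

/-!
# Project CEC (designer helper7, S2092), row T9 (helper25), VERBATIM: `t2_of_t5` (the same long root)

`x (ng b) b u = (x e b T)⁻¹ * cm (x e (ng e) T) (x (ng e) b 1)` with `T := sg e * sg b * u` (`S.ls`), Milnor's trick for the commutator and `h5` for the short
root element `x e b T = x (ng b) (ng e) _`.  Own-name copy `cect9_CL_inv` of the generic row G1 `CL_inv`.
-/

set_option autoImplicit false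

namespace Cfsg.Agent.Lib.helper7.CEC

open Cfsg.Agent.Lib.helper15.St2 Cfsg.Agent.Lib.helper7.Ce Cfsg.Agent.Lib.helper3.STC

section G

variable {Γ G : Type*} [Group Γ] [Group G] {σ : Γ →* G}

/-- own-name copy of G1 `CL_inv` -/
theorem cect9_CL_inv (h : IsCE σ) {x w : G} (hx : CL σ x w) : CL σ x⁻¹ w := by
  intro a b ha hb
  have ha' : σ a⁻¹ = x := by rw [map_inv, ha, inv_inv]
  have h1 := hx a⁻¹ b ha' hb
  -- a⁻¹ b = b a⁻¹  ⟹  a b = b a
  calc a * b = a * (b * a⁻¹) * a := by group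
    _ = a * (a⁻¹ * b) * a := by rw [h1]
    _ = b * a := by group

end G

section T

variable {K : Type*} [Field K] {ι : Type*} {Γ G : Type*} [Group Γ] [Group G] {S : SysC K ι G} {σ : Γ →* G}

theorem cect9_aux (h : IsCE σ) (h2 : I2 ι)
    (h5 : ∀ a d : ι ⊕ ι, ab a ≠ ab d → ∀ t u : K, CL σ (S.x a (ng a) t) (S.x a d u)) :
    ∀ b : ι ⊕ ι, ∀ t u : K, CL σ (S.x (ng b) b t) (S.x (ng b) b u) := by
  intro b t u
  obtain ⟨e, he⟩ := h2 b
  have heb : e ≠ b := fun hh => he (by rw [hh])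
  have henb : e ≠ ng b := fun hh => he (by rw [hh, ab_ng])
  have hneb : ng e ≠ b := fun hh => henb (ng_eq_iff.mp hh)
  have hnenb : ng e ≠ ng b := fun hh => heb (ng_inj.mp hh)
  set T : K := sg e * sg b * u with hT
  set w : G := S.x (ng b) b t with hw
  -- the relation `ls`
  have hls := S.ls e b heb henb T 1
  have hsq : (sg e * sg b * T * 1 ^ 2 : K) = u := by
    rw [hT]
    have h1 := sg_mul_self (K := K) e
    have h2' := sg_mul_self (K := K) b
    calc (sg e * sg b * (sg e * sg b * u) * 1 ^ 2 : K)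
        = (sg e * sg e) * (sg b * sg b) * u := by ring
      _ = u := by rw [h1, h2', one_mul, one_mul]
  rw [mul_one, hsq] at hls
  -- `x (ng b) b u = (x e b T)⁻¹ * cm p q`
  have hdec : S.x (ng b) b u = (S.x e b T)⁻¹ * cm (S.x e (ng e) T) (S.x (ng e) b 1) := by
    unfold cm
    rw [hls, inv_mul_cancel_left]
  -- the factors of the commutator commute with `w`
  have hp : S.x e (ng e) T * w = w * S.x e (ng e) T :=
    S.comm e (ng e) (ng b) b (ne_ng e) (ng_ne b) hnenb heb hnenb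
      (by rw [ng_ng]; exact heb) T t
  have hq : S.x (ng e) b 1 * w = w * S.x (ng e) b 1 :=
    S.comm (ng e) b (ng b) b hneb (ng_ne b) (ne_ng b) hneb (ne_ng b)
      (by rw [ng_ng]; exact hneb) 1 t
  have hcm : CL σ (cm (S.x e (ng e) T) (S.x (ng e) b 1)) w := h.milnor hp hq
  -- the short root element
  have hsym := S.sym e b heb T
  have h5' : CL σ (S.x (ng b) (ng (ng b)) t) (S.x (ng b) (ng e) (-(sg e * sg b * T))) :=
    h5 (ng b) (ng e) (by rw [ab_ng, ab_ng]; exact fun hh => he hh.symm) t _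
  rw [ng_ng] at h5'
  have hr : CL σ (S.x e b T)⁻¹ w := by
    apply cect9_CL_inv h
    rw [hsym]
    exact h5'.symm
  have hall : CL σ (S.x (ng b) b u) w := by
    rw [hdec]
    exact h.CL_mul_left hr hcm
  exact hall.symm

/-- T9 [M]  the same long root. -/
theorem t2_of_t5 (h : IsCE σ) (h2 : I2 ι)
    (h5 : ∀ a d : ι ⊕ ι, ab a ≠ ab d → ∀ t u : K, CL σ (S.x a (ng a) t) (S.x a d u)) :
    ∀ a : ι ⊕ ι, ∀ t u : K, CL σ (S.x a (ng a) t) (S.x a (ng a) u) := by
  intro a t u
  have := cect9_aux h h2 h5 (ng a) t u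
  rwa [ng_ng] at this

end T

end Cfsg.Agent.Lib.helper7.CEC
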