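import Mathlib
import Cfsg.Agent.Lib.helper3.CEUO.Defs2
import Cfsg.Agent.Lib.Helper27.STU.Defs3
import Cfsg.Agent.Lib.Helper27.STU.Frob
import Cfsg.Agent.Lib.Helper27.STUH8
import Cfsg.Agent.Lib.Helper25.CEUOX1core
import Cfsg.Agent.Lib.Helper28.CEUOK1

/-!
# Project CEUO (sub-designer helper3), row X1 (`Xo_map Xo_add Xo_zero Xo_neg`), VERBATIM (helper25), on K1 `Kb_map`, K2 `Kb_mul_left`, K3 `Kb_v` (`Helper28.CEUOK1`) and `Helper25.CEUOX1core`.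
-/

set_option autoImplicit false

namespace Cfsg.Agent.Lib.helper3.CEUO

open Cfsg.Agent.Lib.helper15.St2 Cfsg.Agent.Lib.helper7.Ce Cfsg.Agent.Lib.helper3.STC Cfsg.Agent.Lib.Helper27.STU
  Cfsg.Agent.Lib.helper7.CEU

open Cfsg.Agent.Lib.helper7.CEC (I2 I3 I4 U2 U3)

section X

variable {F : Type*} [Field F] [StarRing F] {od : Prop} {ι : Type*} {Γ G : Type*} [Group Γ] [Group G] {S : SysU F od ι G} {σ : Γ →* G}

/-- X1 [S]  `Kb_map`, `ofV_v`, `star_one`, `mul_one`, `neg_neg`. -/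
theorem Xo_map (h : IsCE σ) (hF : Hyp F) (hod : od) {a b : ι ⊕ ι} (hab : ab a ≠ ab b) (t : F) :
    σ (Xo S h hF hod a b t) = S.xs a b t :=
  ceuox1_map_core h hF hod (Kb_map h hab) t

/-- X1 [S-M]  `Kb_v` (`ofV (-(t + u))` and `ofV (-t) * ofV (-u)` have the same `v`-part) and `Kb_mul_left`. -/
theorem Xo_add (h : IsCE σ) (hF : Hyp F) (hod : od) (hCs : HCs S σ) (hCl : HCl S σ) {a b : ι ⊕ ι} (hab : ab a ≠ ab b) (t u : F) :
    Xo S h hF hod a b (t + u) = Xo S h hF hod a b t * Xo S h hF hod a b u :=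
  ceuox1_add_core h hF hod (Kb_mul_left h hCs hCl hab) (fun hξ hη => Kb_v h hF hod hCs hCl hab hξ hη) t u

/-- X1 [S]  from `Xo_add`. -/
theorem Xo_zero (h : IsCE σ) (hF : Hyp F) (hod : od) (hCs : HCs S σ) (hCl : HCl S σ) {a b : ι ⊕ ι} (hab : ab a ≠ ab b) :
    Xo S h hF hod a b 0 = 1 :=
  ceuox1_zero_core h hF hod (Xo_add h hF hod hCs hCl hab)

theorem Xo_neg (h : IsCE σ) (hF : Hyp F) (hod : od) (hCs : HCs S σ) (hCl : HCl S σ) {a b : ι ⊕ ι} (hab : ab a ≠ ab b) (t : F) :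
    Xo S h hF hod a b (-t) = (Xo S h hF hod a b t)⁻¹ :=
  ceuox1_neg_core h hF hod (Xo_add h hF hod hCs hCl hab) t

end X

end Cfsg.Agent.Lib.helper3.CEUO
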