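import Cfsg.Agent.Lib.Lead.Co2Inv.Defs

/-!
# CI-P4a: at most 126 vectors of norm 32 supported on the octad with `u_∞ + u_0 = 0`
-/

set_option autoImplicit false
open Cfsg

namespace Cfsg.Agent.Lib.Helper25.CI

open Cfsg.Agent.Lib.helper3 Cfsg.Agent.Lib.helper4 Cfsg.Agent.S1571 Cfsg.Agent.S0398
open Cfsg.Agent.Lib.Lead.LC Cfsg.Agent.Lib.Lead.CI

abbrev Z8 := ℤ × ℤ × ℤ × ℤ × ℤ × ℤ × ℤ × ℤ

set_option synthInstance.maxSize 1000 in
instance instDecEqZ8 : DecidableEq Z8 :=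
  inferInstanceAs (DecidableEq (ℤ × ℤ × ℤ × ℤ × ℤ × ℤ × ℤ × ℤ))

def D3 : Finset ℤ := {-4, 0, 4}
def D2 : Finset ℤ := {-2, 2}

def TA : Finset Z8 :=
  (D3 ×ˢ D3 ×ˢ D3 ×ˢ D3 ×ˢ D3 ×ˢ D3 ×ˢ D3 ×ˢ D3).filter (fun a =>
    a.1 ^ 2 + a.2.1 ^ 2 + a.2.2.1 ^ 2 + a.2.2.2.1 ^ 2 + a.2.2.2.2.1 ^ 2 + a.2.2.2.2.2.1 ^ 2 +
      a.2.2.2.2.2.2.1 ^ 2 + a.2.2.2.2.2.2.2 ^ 2 = 32 ∧ a.1 + a.2.1 = 0)

def TB : Finset Z8 :=
  (D2 ×ˢ D2 ×ˢ D2 ×ˢ D2 ×ˢ D2 ×ˢ D2 ×ˢ D2 ×ˢ D2).filter (fun a =>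
    (a.1 + a.2.1 + a.2.2.1 + a.2.2.2.1 + a.2.2.2.2.1 + a.2.2.2.2.2.1 +
      a.2.2.2.2.2.2.1 + a.2.2.2.2.2.2.2) % 8 = 0 ∧ a.1 + a.2.1 = 0)

set_option maxRecDepth 1000000 in
theorem card_TB : TB.card = 64 := by decide +kernel
set_option maxRecDepth 1000000 in
theorem card_TA : TA.card = 62 := by decide +kernel
set_option maxRecDepth 1000000 in
theorem octad_words : ∀ k : Fin 4096, (∀ p : GolayPt, ¬ inO p → Cw k p = 0) →
    (∀ p : GolayPt, Cw k p = 0) ∨ (∀ p : GolayPt, inO p → Cw k p = 1) := by decide +kernel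

theorem sumFin23' (F : Fin 23 → ℤ) : ∑ x, F x = F 0 + (F 1 + (F 2 + (F 3 + (F 4 + (F 5 + (F 6 + (F 7 + (F 8 + (F 9 + (F 10 + (F 11 + (F 12 + (F 13 + (F 14 + (F 15 + (F 16 + (F 17 + (F 18 + (F 19 + (F 20 + (F 21 + F 22))))))))))))))))))))) := by
  simp only [Fin.sum_univ_succ, Fin.sum_univ_zero, add_zero]
  rfl

theorem sum24' (F : GolayPt → ℤ) : ∑ p, F p = F none + (F (some 0) + (F (some 1) + (F (some 2) + (F (some 3) + (F (some 4) + (F (some 5) + (F (some 6) + (F (some 7) + (F (some 8) + (F (some 9) + (F (some 10) + (F (some 11) + (F (some 12) + (F (some 13) + (F (some 14) + (F (some 15) + (F (some 16) + (F (some 17) + (F (some 18) + (F (some 19) + (F (some 20) + (F (some 21) + F (some 22))))))))))))))))))))))) := by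
  rw [Fintype.sum_option]
  exact congrArg (F none + ·) (sumFin23' (fun x => F (some x)))

theorem leech_facts' (x : GolayPt → ℤ) (hx : x ∈ leechLattice) :
    (((∀ p, x p % 2 = 0) ∧ (∑ p, x p) % 8 = 0) ∨ ((∀ p, x p % 2 = 1) ∧ (∑ p, x p) % 8 = 4)) ∧
      ∀ k : ℤ, ind4 x k ∈ golayCode := by
  rw [mem_leechLattice_iff, mem_leechSet_iff] at hx
  obtain ⟨m, h1, h2, h3⟩ := hx
  refine ⟨?_, h3⟩
  have hm : m % 2 = 0 ∨ m % 2 = 1 := by omega
  unfold Int.ModEq at h2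
  rcases hm with hm | hm
  · left
    refine ⟨fun p => ?_, by omega⟩
    have := h1 p
    unfold Int.ModEq at this
    omega
  · right
    refine ⟨fun p => ?_, by omega⟩
    have := h1 p
    unfold Int.ModEq at this
    omega

/-- the zero coordinates -/
theorem offO (x : GolayPt → ℤ) (h0 : ∀ p, ¬ inO p → x p = 0) :
    x (some 3) = 0 ∧ x (some 5) = 0 ∧ x (some 6) = 0 ∧ x (some 7) = 0 ∧ x (some 8) = 0 ∧
    x (some 9) = 0 ∧ x (some 10) = 0 ∧ x (some 11) = 0 ∧ x (some 12) = 0 ∧ x (some 14) = 0 ∧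
    x (some 15) = 0 ∧ x (some 17) = 0 ∧ x (some 18) = 0 ∧ x (some 19) = 0 ∧ x (some 20) = 0 ∧
    x (some 21) = 0 :=
  ⟨h0 _ (by decide), h0 _ (by decide), h0 _ (by decide), h0 _ (by decide), h0 _ (by decide),
   h0 _ (by decide), h0 _ (by decide), h0 _ (by decide), h0 _ (by decide), h0 _ (by decide),
   h0 _ (by decide), h0 _ (by decide), h0 _ (by decide), h0 _ (by decide), h0 _ (by decide),
   h0 _ (by decide)⟩

theorem norm_O (x : GolayPt → ℤ) (h0 : ∀ p, ¬ inO p → x p = 0) :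
    sqNorm x = x none ^ 2 + x (some 0) ^ 2 + x (some 1) ^ 2 + x (some 2) ^ 2 + x (some 4) ^ 2 +
      x (some 13) ^ 2 + x (some 16) ^ 2 + x (some 22) ^ 2 := by
  obtain ⟨e3, e5, e6, e7, e8, e9, e10, e11, e12, e14, e15, e17, e18, e19, e20, e21⟩ := offO x h0
  unfold sqNorm
  rw [sum24', e3, e5, e6, e7, e8, e9, e10, e11, e12, e14, e15, e17, e18, e19, e20, e21]
  ring

theorem sum_O (x : GolayPt → ℤ) (h0 : ∀ p, ¬ inO p → x p = 0) :
    ∑ p, x p = x none + x (some 0) + x (some 1) + x (some 2) + x (some 4) +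
      x (some 13) + x (some 16) + x (some 22) := by
  obtain ⟨e3, e5, e6, e7, e8, e9, e10, e11, e12, e14, e15, e17, e18, e19, e20, e21⟩ := offO x h0
  rw [sum24', e3, e5, e6, e7, e8, e9, e10, e11, e12, e14, e15, e17, e18, e19, e20, e21]
  ring

/-- the eight coordinates on the octad -/
def f8 (x : GolayPt → ℤ) : Z8 :=
  (x none, x (some 0), x (some 1), x (some 2), x (some 4), x (some 13), x (some 16), x (some 22))

theorem f8_inj (x y : GolayPt → ℤ) (hx : ∀ p, ¬ inO p → x p = 0) (hy : ∀ p, ¬ inO p → y p = 0)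
    (h : f8 x = f8 y) : x = y := by
  unfold f8 at h
  simp only [Prod.mk.injEq] at h
  obtain ⟨h1, h2, h3, h4, h5, h6, h7, h8⟩ := h
  funext p
  by_cases hp : inO p
  · revert hp
    rcases p with _ | i
    · intro _; exact h1
    · fin_cases i <;> first | (intro hp; exact absurd hp (by decide)) | (intro _; assumption)
  · rw [hx p hp, hy p hp]

theorem mem_D3 (a : ℤ) (h4 : a % 4 = 0) (hs : a ^ 2 ≤ 32) : a ∈ D3 := by
  have h1 : -6 < a := by nlinarith
  have h2 : a < 6 := by nlinarith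
  have : a = -4 ∨ a = 0 ∨ a = 4 := by omega
  unfold D3
  rcases this with rfl | rfl | rfl <;> decide

theorem mem_D2 (a : ℤ) (hs : a ^ 2 = 4) : a ∈ D2 := by
  have h1 : -3 < a := by nlinarith
  have h2 : a < 3 := by nlinarith
  have : a = -2 ∨ a = 2 := by
    have : a = -2 ∨ a = -1 ∨ a = 0 ∨ a = 1 ∨ a = 2 := by omega
    rcases this with rfl | rfl | rfl | rfl | rfl <;> simp at hs ⊢
  unfold D2
  rcases this with rfl | rfl <;> decide

theorem sq_ge4 (a : ℤ) (h : a % 4 = 2) : 4 ≤ a ^ 2 := by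
  have : a ≤ -2 ∨ 2 ≤ a := by omega
  rcases this with h | h <;> nlinarith

theorem key (x : GolayPt → ℤ) (hx : x ∈ leechLattice) (hn : sqNorm x = 32)
    (h0 : ∀ p, ¬ inO p → x p = 0) (hs : x none + x (some 0) = 0) : f8 x ∈ TA ∪ TB := by
  obtain ⟨hpar, hgol⟩ := leech_facts' x hx
  have e3 : x (some 3) = 0 := h0 _ (by decide)
  have hev : (∀ p, x p % 2 = 0) ∧ (∑ p, x p) % 8 = 0 := by
    rcases hpar with h | h
    · exact h
    · have := h.1 (some 3); rw [e3] at this; omega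
  obtain ⟨hev, hsum⟩ := hev
  rw [sum_O x h0] at hsum
  rw [norm_O x h0] at hn
  obtain ⟨k, hk, hwk⟩ := (mem_golayCode_iff (ind4 x 2)).mp (hgol 2)
  have hwk' : ∀ p, Cw k p = ind4 x 2 p := fun p => by rw [hwk]; rfl
  have hoff : ∀ p : GolayPt, ¬ inO p → Cw ((⟨k, hk⟩ : Fin 4096) : ℕ) p = 0 := by
    intro p hp
    show Cw k p = 0
    rw [hwk']
    by_contra hc
    have hc' : ind4 x 2 p ≠ 0 := hc
    rw [ind4_ne_zero_iff, h0 p hp] at hc'
    omega
  have hnn : ∀ a : ℤ, 0 ≤ a ^ 2 := fun a => sq_nonneg a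
  rcases octad_words ⟨k, hk⟩ hoff with hA | hB
  · -- all coordinates divisible by 4
    have h4 : ∀ p, x p % 4 = 0 := by
      intro p
      have h1 : ¬ (ind4 x 2 p ≠ 0) := by
        rw [← hwk']; intro hc; exact hc (hA p)
      rw [ind4_ne_zero_iff] at h1
      have := hev p
      omega
    rw [Finset.mem_union]; left
    unfold TA f8
    rw [Finset.mem_filter]
    refine ⟨?_, ?_, hs⟩
    · simp only [Finset.mem_product]
      have := hnn (x none); have := hnn (x (some 0)); have := hnn (x (some 1))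
      have := hnn (x (some 2)); have := hnn (x (some 4)); have := hnn (x (some 13))
      have := hnn (x (some 16)); have := hnn (x (some 22))
      refine ⟨mem_D3 _ (h4 _) (by linarith), mem_D3 _ (h4 _) (by linarith),
        mem_D3 _ (h4 _) (by linarith), mem_D3 _ (h4 _) (by linarith),
        mem_D3 _ (h4 _) (by linarith), mem_D3 _ (h4 _) (by linarith),
        mem_D3 _ (h4 _) (by linarith), mem_D3 _ (h4 _) (by linarith)⟩
    · linarith
  · -- all octad coordinates are 2 mod 4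
    have h2 : ∀ p, inO p → x p % 4 = 2 := by
      intro p hp
      have h1 : ind4 x 2 p ≠ 0 := by
        rw [← hwk']
        have := hB p hp
        show Cw k p ≠ 0
        rw [show Cw k p = 1 from this]; decide
      rw [ind4_ne_zero_iff] at h1
      omega
    rw [Finset.mem_union]; right
    unfold TB f8
    rw [Finset.mem_filter]
    have g1 := sq_ge4 _ (h2 none (by decide))
    have g2 := sq_ge4 _ (h2 (some 0) (by decide))
    have g3 := sq_ge4 _ (h2 (some 1) (by decide))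
    have g4 := sq_ge4 _ (h2 (some 2) (by decide))
    have g5 := sq_ge4 _ (h2 (some 4) (by decide))
    have g6 := sq_ge4 _ (h2 (some 13) (by decide))
    have g7 := sq_ge4 _ (h2 (some 16) (by decide))
    have g8 := sq_ge4 _ (h2 (some 22) (by decide))
    refine ⟨?_, ?_, hs⟩
    · simp only [Finset.mem_product]
      refine ⟨mem_D2 _ (by linarith), mem_D2 _ (by linarith), mem_D2 _ (by linarith),
        mem_D2 _ (by linarith), mem_D2 _ (by linarith), mem_D2 _ (by linarith),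
        mem_D2 _ (by linarith), mem_D2 _ (by linarith)⟩
    · exact hsum

theorem p4a_ncard : {u : ↥leechLattice | sqNorm u.1 = 32 ∧ (∀ p, ¬ inO p → u.1 p = 0) ∧
    u.1 none + u.1 (some 0) = 0}.ncard ≤ 126 ∧
    {u : ↥leechLattice | sqNorm u.1 = 32 ∧ (∀ p, ¬ inO p → u.1 p = 0) ∧
    u.1 none + u.1 (some 0) = 0}.Finite := by
  have hmaps : ∀ u ∈ {u : ↥leechLattice | sqNorm u.1 = 32 ∧ (∀ p, ¬ inO p → u.1 p = 0) ∧
      u.1 none + u.1 (some 0) = 0}, (fun u : ↥leechLattice => f8 u.1) u ∈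
        ((TA ∪ TB : Finset Z8) : Set Z8) := by
    intro u hu
    exact Finset.mem_coe.mpr (key u.1 u.2 hu.1 hu.2.1 hu.2.2)
  have hinj : Set.InjOn (fun u : ↥leechLattice => f8 u.1)
      {u : ↥leechLattice | sqNorm u.1 = 32 ∧ (∀ p, ¬ inO p → u.1 p = 0) ∧
        u.1 none + u.1 (some 0) = 0} := by
    intro u hu v hv h
    exact Subtype.ext (f8_inj u.1 v.1 hu.2.1 hv.2.1 h)
  have hfin : {u : ↥leechLattice | sqNorm u.1 = 32 ∧ (∀ p, ¬ inO p → u.1 p = 0) ∧
      u.1 none + u.1 (some 0) = 0}.Finite :=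
    Set.Finite.of_injOn hmaps hinj (Finset.finite_toSet _)
  refine ⟨?_, hfin⟩
  calc _ ≤ ((TA ∪ TB : Finset Z8) : Set Z8).ncard :=
        Set.ncard_le_ncard_of_injOn _ hmaps hinj (Finset.finite_toSet _)
    _ = (TA ∪ TB).card := Set.ncard_coe_finset _
    _ ≤ TA.card + TB.card := Finset.card_union_le _ _
    _ = 126 := by rw [card_TA, card_TB]

end Cfsg.Agent.Lib.Helper25.CI
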