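import Cfsg.Agent.Lib.Lead.Co2Inv.Defs

/-!
# CI-P4b1: at most 1024 Golay codewords vanish at `∞` and `0`
-/

set_option autoImplicit false
open Cfsg

namespace Cfsg.Agent.Lib.Helper25.CI

open Cfsg.Agent.Lib.helper3 Cfsg.Agent.Lib.helper4 Cfsg.Agent.S1571 Cfsg.Agent.S0398
open Cfsg.Agent.Lib.Lead.LC Cfsg.Agent.Lib.Lead.CI

/-- indices of the codewords vanishing at `∞` and `0` -/
def idx4b1 : Finset ℕ :=
  (Finset.range 4096).filter (fun k => Cw k none = 0 ∧ Cw k (some 0) = 0)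

set_option maxRecDepth 1000000 in
theorem card_idx4b1 : idx4b1.card = 1024 := by decide +kernel

theorem p4b1 : {w : ↥golayCode | w.1 none = 0 ∧ w.1 (some 0) = 0}.ncard ≤ 1024 ∧
    {w : ↥golayCode | w.1 none = 0 ∧ w.1 (some 0) = 0}.Finite := by
  have hfin : {w : ↥golayCode | w.1 none = 0 ∧ w.1 (some 0) = 0}.Finite := Set.toFinite _
  refine ⟨?_, hfin⟩
  have hsub : {w : ↥golayCode | w.1 none = 0 ∧ w.1 (some 0) = 0} ⊆
      ((idx4b1.image (fun k => (⟨Cw k, Cw_mem k⟩ : ↥golayCode)) : Finset ↥golayCode) :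
        Set ↥golayCode) := by
    intro w hw
    obtain ⟨k, hk, hwk⟩ := (mem_golayCode_iff w.1).mp w.2
    rw [Finset.mem_coe, Finset.mem_image]
    refine ⟨k, ?_, Subtype.ext hwk.symm⟩
    unfold idx4b1
    rw [Finset.mem_filter, Finset.mem_range]
    refine ⟨hk, ?_, ?_⟩
    · show gword (golayMask k) none = 0
      rw [← hwk]; exact hw.1
    · show gword (golayMask k) (some 0) = 0
      rw [← hwk]; exact hw.2
  calc {w : ↥golayCode | w.1 none = 0 ∧ w.1 (some 0) = 0}.ncard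
      ≤ ((idx4b1.image (fun k => (⟨Cw k, Cw_mem k⟩ : ↥golayCode)) : Finset ↥golayCode) :
        Set ↥golayCode).ncard := Set.ncard_le_ncard hsub (Finset.finite_toSet _)
    _ = (idx4b1.image (fun k => (⟨Cw k, Cw_mem k⟩ : ↥golayCode))).card := Set.ncard_coe_finset _
    _ ≤ idx4b1.card := Finset.card_image_le
    _ = 1024 := card_idx4b1

end Cfsg.Agent.Lib.Helper25.CI
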