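import Mathlib
import Cfsg.Prelude.Def_Blocks
import Cfsg.Agent.Lib.Helper22.AxB
import Cfsg.Agent.Lib.Helper25.BlockNormalP
import Cfsg.Agent.Lib.helper7.BlockSing2

/-!
Thompson A x B lemma for a subset B, the chain-normalizer centralizing lemma, and S4668 (block idempotents of a chain normalizer are supported on the centralizer of the top).
-/

set_option autoImplicit false
set_option linter.style.haveILetI false

namespace Cfsg.Agent.Lib.Helper25
open Cfsg.Agent.Lib.Helper22
open Cfsg.Agent.Lib.helper7
section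

/-- Thompson's `A × B` lemma with `B` a subset of the `p`-group `N` -/
theorem cn_axb {G : Type*} [Group G] (p : ℕ) [Fact p.Prime] (N : Subgroup G) [Finite N]
    (hN : IsPGroup p N) (S : Set G) (hS : S ⊆ N) (h : G) (hnorm : ∀ n ∈ N, h * n * h⁻¹ ∈ N)
    (hcomm : ∀ x ∈ S, h * x = x * h) (hord : (orderOf h).Coprime p)
    (hcent : ∀ n ∈ N, (∀ x ∈ S, n * x = x * n) → h * n = n * h) :
    ∀ n ∈ N, h * n = n * h := by
  have hp : p.Prime := Fact.out
  have hnil : Group.IsNilpotent N := hN.isNilpotent
  obtain ⟨r, hr⟩ := hnil.nilpotent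
  have key : ∀ i : ℕ, ∀ n : N, n ∈ Subgroup.upperCentralSeries N i → h * (n : G) = (n : G) * h := by
    intro i
    induction i with
    | zero =>
      intro n hn
      rw [Subgroup.upperCentralSeries_zero, Subgroup.mem_bot] at hn
      rw [hn]; simp
    | succ i ih =>
      intro n hn
      rw [Subgroup.mem_upperCentralSeries_succ_iff] at hn
      set n' := h * (n : G) * h⁻¹ with hn'
      have hn'N : n' ∈ N := hnorm _ n.2
      set c := (n : G)⁻¹ * n' with hc
      have hcN : c ∈ N := N.mul_mem (N.inv_mem n.2) hn'N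
      have hcS : ∀ x ∈ S, c * x = x * c := by
        intro x hx
        have h1 := ih _ (hn ⟨x, hS hx⟩)
        have h1' : h * ((n : G) * x * (n : G)⁻¹ * x⁻¹) = ((n : G) * x * (n : G)⁻¹ * x⁻¹) * h := by
          simpa [commutatorElement_def] using h1
        have hcx := hcomm x hx
        have hx'' : h⁻¹ * x * h = x := by
          rw [mul_assoc, ← hcx, inv_mul_cancel_left]
        have hx''' : h⁻¹ * x⁻¹ * h = x⁻¹ := by
          have : h⁻¹ * x⁻¹ * h = (h⁻¹ * x * h)⁻¹ := by group
          rw [this, hx'']
        have h2 : n' * x * n'⁻¹ * x⁻¹ = (n : G) * x * (n : G)⁻¹ * x⁻¹ := by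
          have e1 : n' * x * n'⁻¹ * x⁻¹ =
              h * ((n : G) * (h⁻¹ * x * h) * (n : G)⁻¹ * (h⁻¹ * x⁻¹ * h)) * h⁻¹ := by
            rw [hn']; group
          rw [e1, hx'', hx''', h1', mul_inv_cancel_right]
        have h3 : n' * x * n'⁻¹ = (n : G) * x * (n : G)⁻¹ := mul_right_cancel h2
        have : c * x * c⁻¹ = x := by
          calc c * x * c⁻¹ = (n : G)⁻¹ * (n' * x * n'⁻¹) * (n : G) := by rw [hc]; group
            _ = x := by rw [h3]; group
        calc c * x = c * x * c⁻¹ * c := by group
          _ = x * c := by rw [this]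
      have hhc : h * c = c * h := hcent c hcN hcS
      have hnc : h * (n : G) * h⁻¹ = (n : G) * c := by rw [hc, ← hn']; group
      have h4 := conj_pow_mul_of_comm h (n : G) c hhc hnc (orderOf h)
      rw [pow_orderOf_eq_one] at h4
      have h5 : c ^ orderOf h = 1 := by
        have : (n : G) = (n : G) * c ^ orderOf h := by simpa using h4
        exact (mul_eq_left.1 this.symm)
      have h6 : orderOf c ∣ orderOf h := orderOf_dvd_of_pow_eq_one h5
      obtain ⟨j, hj⟩ := (IsPGroup.iff_orderOf.1 hN) ⟨c, hcN⟩
      rw [Subgroup.orderOf_mk] at hj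
      have h7 : orderOf c = 1 := by
        have h8 : (orderOf c).Coprime (orderOf h) := by
          rw [hj]; exact Nat.Coprime.pow_left _ hord.symm
        exact h8.eq_one_of_dvd h6
      have h9 : c = 1 := orderOf_eq_one_iff.1 h7
      rw [h9, mul_one] at hnc
      calc h * (n : G) = h * (n : G) * h⁻¹ * h := by group
        _ = (n : G) * h := by rw [hnc]
  intro n hn
  exact key r ⟨n, hn⟩ (by rw [hr]; exact Subgroup.mem_top _)

end

section

/-- the elements of the top of the chain normalizing all members from index `j` on -/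
def cn_X {G : Type*} [Group G] {m : ℕ} (Q : Fin (m + 1) → Subgroup G) (j : ℕ) : Subgroup G :=
  Q (Fin.last m) ⊓ ⨅ (i : Fin (m + 1)) (_ : j ≤ i.val), Subgroup.normalizer (Q i : Set G)

theorem cn_mem_X {G : Type*} [Group G] {m : ℕ} (Q : Fin (m + 1) → Subgroup G) (j : ℕ) (q : G) :
    q ∈ cn_X Q j ↔ q ∈ Q (Fin.last m) ∧
      ∀ i : Fin (m + 1), j ≤ i.val → q ∈ Subgroup.normalizer (Q i : Set G) := by
  unfold cn_X
  simp only [Subgroup.mem_inf, Subgroup.mem_iInf]

theorem cn_chain {G : Type*} [Group G] [Finite G] (p : ℕ) [Fact p.Prime] (m : ℕ)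
    (Q : Fin (m + 1) → Subgroup G) (hQ : Monotone Q) (hQp : IsPGroup p (Q (Fin.last m)))
    (y : G) (hy : (orderOf y).Coprime p)
    (hnorm : ∀ i, y ∈ Subgroup.normalizer (Q i : Set G))
    (hcent : ∀ q ∈ Q (Fin.last m), (∀ i, q ∈ Subgroup.normalizer (Q i : Set G)) → y * q = q * y) :
    ∀ q ∈ Q (Fin.last m), y * q = q * y := by
  have key : ∀ j : ℕ, j ≤ m + 1 → ∀ q ∈ cn_X Q j, y * q = q * y := by
    intro j
    induction j with
    | zero =>
      intro _ q hq
      rw [cn_mem_X] at hq
      exact hcent q hq.1 (fun i => hq.2 i (Nat.zero_le _))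
    | succ j ih =>
      intro hj
      have ihj := ih (by omega)
      have hjm : j < m + 1 := by omega
      set i₀ : Fin (m + 1) := ⟨j, hjm⟩ with hi₀
      have hXle : cn_X Q (j + 1) ≤ Q (Fin.last m) := fun q hq => ((cn_mem_X Q _ q).mp hq).1
      have hXp : IsPGroup p (cn_X Q (j + 1)) := hQp.to_le hXle
      have hQi₀X : ∀ x ∈ Q i₀, x ∈ cn_X Q j := by
        intro x hx
        rw [cn_mem_X]
        refine ⟨hQ (Fin.le_last i₀) hx, fun i hi => ?_⟩
        have hle : i₀ ≤ i := by
          rw [Fin.le_def]
          exact hi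
        exact Subgroup.le_normalizer (hQ hle hx)
      have hXmono : cn_X Q j ≤ cn_X Q (j + 1) := by
        intro q hq
        rw [cn_mem_X] at hq ⊢
        exact ⟨hq.1, fun i hi => hq.2 i (by omega)⟩
      apply cn_axb p (cn_X Q (j + 1)) hXp (Q i₀ : Set G) (fun x hx => hXmono (hQi₀X x hx)) y
      · intro n hn
        rw [cn_mem_X] at hn ⊢
        refine ⟨(Subgroup.mem_normalizer_iff.mp (hnorm (Fin.last m)) n).mp hn.1, fun i hi => ?_⟩
        exact Subgroup.mul_mem _ (Subgroup.mul_mem _ (hnorm i) (hn.2 i hi))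
          (Subgroup.inv_mem _ (hnorm i))
      · intro x hx
        exact ihj x (hQi₀X x hx)
      · exact hy
      · intro n hn hcomm
        apply ihj
        rw [cn_mem_X] at hn
        rw [cn_mem_X]
        refine ⟨hn.1, fun i hi => ?_⟩
        by_cases hij : j + 1 ≤ i.val
        · exact hn.2 i hij
        · have hieq : i = i₀ := by
            apply Fin.ext
            show i.val = j
            omega
          rw [hieq, Subgroup.mem_normalizer_iff]
          intro x
          constructor
          · intro hx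
            have := hcomm x hx
            rw [this, mul_inv_cancel_right]
            exact hx
          · intro hx
            have := hcomm _ hx
            have e : x = n⁻¹ * ((n * x * n⁻¹) * n) := by group
            rw [e, ← this, ← mul_assoc, inv_mul_cancel, one_mul]
            exact hx
  intro q hq
  apply key (m + 1) le_rfl
  rw [cn_mem_X]
  refine ⟨hq, fun i hi => ?_⟩
  exfalso
  have := i.2
  omega

end

section

/-- S4668 -/
theorem cn_main {G : Type*} [Group G] [Fintype G] (p : ℕ) [Fact p.Prime] (M : Ideal Cfsg.AlgInt)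
    (hM : Cfsg.IsPModular p M) (m : ℕ) (Q : Fin (m + 1) → Subgroup G) (hQ : StrictMono Q)
    (hQp : ∀ i, IsPGroup p (Q i)) (N : Subgroup G)
    (hN : ∀ g : G, g ∈ N ↔ ∀ i, g ∈ Subgroup.normalizer (Q i : Set G))
    (E : Set (Cfsg.IrrCharacter N)) (hE : Cfsg.IsPBlock M E) (n : N)
    (hn : (n : G) ∉ Subgroup.centralizer (Q (Fin.last m) : Set G)) : Cfsg.blockCoeff E n = 0 := by
  classical
  haveI : Fintype N := Fintype.ofFinite _
  haveI : Fintype (Cfsg.IrrCharacter N) := Fintype.ofFinite _
  by_cases hsing : p ∣ orderOf n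
  · obtain ⟨θ₀, rfl⟩ := hE
    exact h7_blockCoeff_psingular hM θ₀ n hsing
  · set R : Subgroup N := (Q (Fin.last m)).subgroupOf N with hR
    haveI hRn : R.Normal := by
      constructor
      intro r hr g
      rw [hR, Subgroup.mem_subgroupOf] at hr ⊢
      have hg := (hN (g : G)).mp g.2 (Fin.last m)
      rw [Subgroup.coe_mul, Subgroup.coe_mul, Subgroup.coe_inv]
      exact (Subgroup.mem_normalizer_iff.mp hg (r : G)).mp hr
    have hRp : IsPGroup p R :=
      (hQp (Fin.last m)).comap_of_injective N.subtype (Subgroup.subtype_injective N)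
    apply bn_main p M hM R hRp E hE n
    intro hc
    apply hn
    rw [Subgroup.mem_centralizer_iff]
    intro q hq
    have hord : (orderOf (n : G)).Coprime p := by
      rw [Subgroup.orderOf_coe]
      exact (Nat.Coprime.symm ((Nat.Prime.coprime_iff_not_dvd Fact.out).mpr hsing))
    have := cn_chain p m Q hQ.monotone (hQp (Fin.last m)) (n : G) hord ((hN (n : G)).mp n.2)
      (by
        intro q hq hqn
        have hqN : q ∈ N := (hN q).mpr hqn
        have hqR : (⟨q, hqN⟩ : N) ∈ R := by
          rw [hR, Subgroup.mem_subgroupOf]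
          exact hq
        have := Subgroup.mem_centralizer_iff.mp hc ⟨q, hqN⟩ hqR
        have h2 := congrArg Subtype.val this
        simp only [Subgroup.coe_mul] at h2
        exact h2.symm) q hq
    exact this.symm

end

end Cfsg.Agent.Lib.Helper25
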