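import Mathlib
import Cfsg.Agent.Lib.Helper25.KnorrBound
import Cfsg.Agent.Lib.helper7.CharMul
import Cfsg.Agent.Lib.helper7.CharCentral

/-!
An irreducible character restricts reducibly to a normal subgroup exactly when it vanishes on a
whole coset of that subgroup.
-/

set_option autoImplicit false
set_option linter.deprecated false

namespace Cfsg.Agent.Lib.Helper25
open Cfsg.Agent.Lib.Helper11 Cfsg.Agent.Lib.helper2 Cfsg.Agent.Lib.helper7 Cfsg.Agent.Lib.Helper24
open scoped ComplexConjugate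
open Polynomial

open Finset

theorem csv_pos_char_sum {G : Type*} [Group G] [Finite G] {ψ : G → ℂ}
    (hψ : Cfsg.IsCharacter G ψ) (g : G) (r : ℕ → ℝ)
    (hpos : ∀ k : ℕ, (Nat.card G).Coprime k → 0 < r k ∧ ψ (g ^ k) = (r k : ℂ)) :
    (((Finset.range (Nat.card G)).filter (Nat.Coprime (Nat.card G))).card : ℝ) ≤
      ∑ k ∈ (Finset.range (Nat.card G)).filter (Nat.Coprime (Nat.card G)), r k := by
  classical
  set n := Nat.card G with hn
  have hnpos : 0 < n := Nat.card_pos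
  set ζ : ℂ := Complex.exp (2 * Real.pi * Complex.I / n) with hζdef
  have hζ : IsPrimitiveRoot ζ n := Complex.isPrimitiveRoot_exp n hnpos.ne'
  obtain ⟨f, hev⟩ := gn_char_poly hψ g ζ hζ
  have h1 : (Nat.card G).Coprime 1 := Nat.coprime_one_right _
  have hf1 : aeval ζ f ≠ 0 := by
    have := hev 1
    rw [pow_one, pow_one] at this
    rw [this]
    have h2 := hpos 1 h1
    rw [pow_one] at h2
    rw [h2.2]
    exact_mod_cast h2.1.ne'
  obtain ⟨y, hy0, hy⟩ := gn_prod_range n hnpos f ζ hζ hf1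
  set K := (Finset.range n).filter (Nat.Coprime n) with hK
  have hprod : ((∏ k ∈ K, r k : ℝ) : ℂ) = (y : ℂ) := by
    rw [← hy]
    push_cast
    apply Finset.prod_congr rfl
    intro k hk
    rw [hev k, (hpos k (Finset.mem_filter.1 hk).2).2]
  have hprodR : (∏ k ∈ K, r k : ℝ) = (y : ℝ) := by exact_mod_cast hprod
  have hpp : 0 < ∏ k ∈ K, r k :=
    Finset.prod_pos (fun k hk => (hpos k (Finset.mem_filter.1 hk).2).1)
  have hy1 : (1 : ℝ) ≤ (y : ℝ) := by
    rw [hprodR] at hpp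
    have : (0 : ℤ) < y := by exact_mod_cast hpp
    have : (1 : ℤ) ≤ y := this
    exact_mod_cast this
  apply gn_sum_ge_of_prod_ge
  · intro k hk
    exact (hpos k (Finset.mem_filter.1 hk).2).1
  · rw [hprodR]; exact hy1

variable {G : Type*} [Group G]

/-- the coset average of `|χ|²` -/
noncomputable def csv_cosetAvg (N : Subgroup G) [Fintype N] (χ : G → ℂ) (x : G) : ℂ :=
  (Nat.card N : ℂ)⁻¹ * ∑ n : N, χ ((n : G) * x) * conj (χ ((n : G) * x))

theorem csv_irr_mul_comm' (μ : Cfsg.IrrCharacter G) (a b : G) :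
    (μ : G → ℂ) (a * b) = (μ : G → ℂ) (b * a) := by
  have := irr_conj_invariant μ (a * b) b
  rw [← this]
  congr 1
  group

theorem csv_cosetAvg_isCharacter [Finite G] (N : Subgroup G) [hN : N.Normal] [Fintype N]
    (χ : Cfsg.IrrCharacter G) : Cfsg.IsCharacter G (csv_cosetAvg N (χ : G → ℂ)) := by
  classical
  haveI := Fintype.ofFinite G
  haveI : Fintype (Cfsg.IrrCharacter G) := Fintype.ofFinite _
  have hψ : Cfsg.IsCharacter G ((χ : G → ℂ) * (irrConj χ : G → ℂ)) :=
    h7_isCharacter_mul (isCharacter_of_irr χ) (isCharacter_of_irr (irrConj χ))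
  obtain ⟨m, hm, hexp⟩ := isCharacter_expansion hψ
  set T := Finset.univ.filter
    (fun μ : Cfsg.IrrCharacter G => ∀ w ∈ N, (μ : G → ℂ) w = (μ : G → ℂ) 1) with hT
  have hF : csv_cosetAvg N (χ : G → ℂ) = ∑ μ ∈ T, (m μ : ℂ) • (μ : G → ℂ) := by
    funext x
    unfold csv_cosetAvg
    have h1 : ∀ n : N, (χ : G → ℂ) ((n : G) * x) * conj ((χ : G → ℂ) ((n : G) * x)) =
        ∑ μ : Cfsg.IrrCharacter G, (m μ : ℂ) * (μ : G → ℂ) ((n : G) * x) := by
      intro n
      have := congrFun hexp ((n : G) * x)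
      simp only [Pi.mul_apply, Finset.sum_apply, Pi.smul_apply, smul_eq_mul] at this
      exact this
    simp only [h1]
    rw [Finset.sum_comm, Finset.mul_sum, Finset.sum_apply, hT, Finset.sum_filter]
    apply Finset.sum_congr rfl
    intro μ _
    rw [← Finset.mul_sum]
    split_ifs with hμ
    · have h2 : ∀ n : N, (μ : G → ℂ) ((n : G) * x) = (μ : G → ℂ) x :=
        fun n => knb_ker_mul_left μ n x (hμ n n.2)
      simp only [h2, Finset.sum_const, Finset.card_univ, nsmul_eq_mul, Pi.smul_apply, smul_eq_mul]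
      have hNne : (Nat.card N : ℂ) ≠ 0 := by
        have : 0 < Nat.card N := Nat.card_pos
        exact_mod_cast this.ne'
      rw [Nat.card_eq_fintype_card] at hNne ⊢
      field_simp
    · push Not at hμ
      have h3 := irr_sum_normal μ N hμ x
      have h4 : ∑ n : N, (μ : G → ℂ) ((n : G) * x) = 0 := by
        rw [← h3]
        apply Finset.sum_congr rfl
        intro n _
        exact csv_irr_mul_comm' μ _ _
      rw [h4]
      simp
  rw [hF]
  apply isCharacter_sum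
  intro μ _
  exact isCharacter_natCast_smul (isCharacter_of_irr μ) (m μ)

theorem csv_cosetAvg_real (N : Subgroup G) [Fintype N] (χ : G → ℂ) (x : G) :
    csv_cosetAvg N χ x = (((Nat.card N : ℝ)⁻¹ * ∑ n : N, ‖χ ((n : G) * x)‖ ^ 2 : ℝ) : ℂ) := by
  unfold csv_cosetAvg
  push_cast
  congr 1
  apply Finset.sum_congr rfl
  intro n _
  rw [Complex.mul_conj']

theorem csv_cosetAvg_pos (N : Subgroup G) [Fintype N] (χ : G → ℂ) (x : G)
    (h : ∃ n : N, χ ((n : G) * x) ≠ 0) :
    0 < (Nat.card N : ℝ)⁻¹ * ∑ n : N, ‖χ ((n : G) * x)‖ ^ 2 := by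
  obtain ⟨n, hn⟩ := h
  have hNpos : (0 : ℝ) < (Nat.card N : ℝ) := by exact_mod_cast Nat.card_pos
  apply mul_pos (inv_pos.2 hNpos)
  apply Finset.sum_pos'
  · intro i _; positivity
  · exact ⟨n, Finset.mem_univ _, by have := norm_pos_iff.2 hn; positivity⟩

theorem csv_sum_cosetAvg [Fintype G] (N : Subgroup G) [Fintype N] (χ : Cfsg.IrrCharacter G) :
    ∑ x : G, (Nat.card N : ℝ)⁻¹ * ∑ n : N, ‖(χ : G → ℂ) ((n : G) * x)‖ ^ 2 = (Nat.card G : ℝ) := by
  rw [← Finset.mul_sum, Finset.sum_comm]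
  have h1 : ∀ n : N, ∑ x : G, ‖(χ : G → ℂ) ((n : G) * x)‖ ^ 2 = (Nat.card G : ℝ) := by
    intro n
    rw [← irr_sum_norm_sq χ]
    exact Equiv.sum_comp (Equiv.mulLeft (n : G)) (fun g => ‖(χ : G → ℂ) g‖ ^ 2)
  simp only [h1, Finset.sum_const, Finset.card_univ, nsmul_eq_mul]
  have hNne : (Nat.card N : ℝ) ≠ 0 := by
    have : 0 < Nat.card N := Nat.card_pos
    exact_mod_cast this.ne'
  rw [Nat.card_eq_fintype_card] at hNne ⊢
  field_simp

theorem csv_cosetAvg_one [Fintype G] (N : Subgroup G) [Fintype N] (χ : G → ℂ) :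
    csv_cosetAvg N χ 1 = Cfsg.classInner (fun n : N => χ n) (fun n : N => χ n) := by
  unfold csv_cosetAvg Cfsg.classInner
  simp only [mul_one]

theorem csv_vanish_of_reducible [Finite G] (N : Subgroup G) [hN : N.Normal]
    (χ : Cfsg.IrrCharacter G)
    (hred : ¬ Cfsg.IsIrrCharacter ↥N (fun n : ↥N => (χ : G → ℂ) n)) :
    ∃ x : G, ∀ n : ↥N, (χ : G → ℂ) ((n : G) * x) = 0 := by
  classical
  haveI := Fintype.ofFinite G
  haveI : Fintype N := Fintype.ofFinite N
  by_contra hcon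
  push Not at hcon
  set F := csv_cosetAvg N (χ : G → ℂ) with hFdef
  set r : G → ℝ := fun x => (Nat.card N : ℝ)⁻¹ * ∑ n : N, ‖(χ : G → ℂ) ((n : G) * x)‖ ^ 2 with hr
  have hFr : ∀ x, F x = (r x : ℂ) := fun x => csv_cosetAvg_real N _ x
  have hrpos : ∀ x, 0 < r x := fun x => csv_cosetAvg_pos N _ x (hcon x)
  have hFchar := csv_cosetAvg_isCharacter N χ
  set K := (Finset.range (Nat.card G)).filter (Nat.Coprime (Nat.card G)) with hK
  have hKpos : 0 < K.card := by
    rw [hK, ← Nat.totient_eq_card_coprime]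
    exact Nat.totient_pos.mpr Nat.card_pos
  have hlow : ∀ x : G, (K.card : ℝ) ≤ ∑ k ∈ K, r (x ^ k) := by
    intro x
    exact csv_pos_char_sum hFchar x (fun k => r (x ^ k)) (fun k _ => ⟨hrpos _, hFr _⟩)
  -- norm of restriction
  have hres := isCharacter_restrict (isCharacter_of_irr χ) N
  have h1ne : (fun n : N => (χ : G → ℂ) n) 1 ≠ 0 := irr_one_ne_zero χ
  obtain ⟨c, hcpos, hc⟩ := h7_char_norm_pos hres h1ne
  have hc2 : 2 ≤ c := by
    by_contra hlt
    have hc1 : c = 1 := by omega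
    apply hred
    apply h7_irr_of_norm_one hres
    rw [hc, hc1]
    simp
  have hr1 : r 1 = (c : ℝ) := by
    have h1 := hFr 1
    rw [hFdef, csv_cosetAvg_one, hc] at h1
    exact_mod_cast h1.symm
  -- double sum
  have hperm : ∀ k ∈ K, ∑ x : G, r (x ^ k) = ∑ x : G, r x := by
    intro k hk
    have hcop : (Nat.card G).Coprime k := (Finset.mem_filter.1 hk).2
    exact Equiv.sum_comp (powCoprime hcop) r
  have htot : ∑ x : G, r x = (Nat.card G : ℝ) := csv_sum_cosetAvg N χ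
  have h2 : ∑ x : G, ∑ k ∈ K, r (x ^ k) = (K.card : ℝ) * (Nat.card G : ℝ) := by
    rw [Finset.sum_comm, Finset.sum_congr rfl hperm, Finset.sum_const, nsmul_eq_mul, htot]
  have h3 : (K.card : ℝ) * ((Nat.card G : ℝ) - 1) + (K.card : ℝ) * c ≤
      ∑ x : G, ∑ k ∈ K, r (x ^ k) := by
    rw [← Finset.add_sum_erase Finset.univ _ (Finset.mem_univ (1 : G))]
    have ha : ∑ k ∈ K, r ((1 : G) ^ k) = (K.card : ℝ) * c := by
      simp only [one_pow, hr1, Finset.sum_const, nsmul_eq_mul]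
    have hb : (K.card : ℝ) * ((Nat.card G : ℝ) - 1) ≤
        ∑ x ∈ Finset.univ.erase (1 : G), ∑ k ∈ K, r (x ^ k) := by
      have : ((Finset.univ.erase (1 : G)).card : ℝ) = (Nat.card G : ℝ) - 1 := by
        rw [Finset.card_erase_of_mem (Finset.mem_univ _), Finset.card_univ,
          Nat.card_eq_fintype_card, Nat.cast_sub Fintype.card_pos]
        simp
      rw [← this, mul_comm, ← nsmul_eq_mul, ← Finset.sum_const]
      exact Finset.sum_le_sum (fun x _ => hlow x)
    rw [ha]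
    linarith
  rw [h2] at h3
  have hKR : (0 : ℝ) < (K.card : ℝ) := by exact_mod_cast hKpos
  have hcR : (2 : ℝ) ≤ (c : ℝ) := by exact_mod_cast hc2
  nlinarith

theorem csv_reducible_of_vanish [Finite G] (N : Subgroup G) [hN : N.Normal]
    (χ : Cfsg.IrrCharacter G) (x : G) (hx : ∀ n : ↥N, (χ : G → ℂ) ((n : G) * x) = 0) :
    ¬ Cfsg.IsIrrCharacter ↥N (fun n : ↥N => (χ : G → ℂ) n) := by
  classical
  haveI := Fintype.ofFinite G
  haveI : Fintype N := Fintype.ofFinite N
  intro hirr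
  have hFchar := csv_cosetAvg_isCharacter N χ
  have hF1 : csv_cosetAvg N (χ : G → ℂ) 1 = 1 := by
    rw [csv_cosetAvg_one]
    exact h7_irr_norm hirr
  have hFirr := h7_linear_isIrr hFchar hF1
  have hmul := irr_linear_mul_conj ⟨_, hFirr⟩ hF1 x
  have hFx : csv_cosetAvg N (χ : G → ℂ) x = 0 := by
    unfold csv_cosetAvg
    simp only [hx, zero_mul, Finset.sum_const_zero, mul_zero]
  simp only [hFx, zero_mul] at hmul
  exact zero_ne_one hmul

theorem vanish_coset_iff [Finite G] (N : Subgroup G) [hN : N.Normal]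
    (χ : Cfsg.IrrCharacter G) :
    ¬ Cfsg.IsIrrCharacter ↥N (fun n : ↥N => (χ : G → ℂ) n) ↔
      ∃ x : G, ∀ n : ↥N, (χ : G → ℂ) ((n : G) * x) = 0 :=
  ⟨csv_vanish_of_reducible N χ, fun ⟨x, hx⟩ => csv_reducible_of_vanish N χ x hx⟩

end Cfsg.Agent.Lib.Helper25
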