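import Mathlib
import Cfsg.Prelude.Def_Transfer
import Cfsg.Agent.Lib.Helper24.AFT3
import Cfsg.Agent.Lib.Helper25.CliffordCorr
import Cfsg.Agent.Lib.helper7.CharMul

/-!
Average degree of strongly real characters of `N ⋊ P` (`N` elementary abelian of odd order and the unique
minimal normal subgroup, `P` a nontrivial 2-group): the character induced from the stabilizer of a
nontrivial linear character of `N` is strongly real of even degree, and its orbit under the involutive
linear characters of `G` is large enough to give `4 |S| ≤ 3 Σ χ(1)`.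
-/

set_option autoImplicit false

namespace Cfsg.Agent.Lib.Helper25
open Cfsg.Agent.Lib.Helper24
open Cfsg.Agent.Lib.helper7
section

variable {G : Type*} [Group G]

/-- every element of `G = N P` decomposes -/
theorem sra_decomp (N P : Subgroup G) [hN : N.Normal] (hprod : N ⊔ P = ⊤) (g : G) :
    ∃ n ∈ N, ∃ p ∈ P, g = n * p := by
  have h1 : g ∈ (N ⊔ P : Subgroup G) := by rw [hprod]; trivial
  have h2 : g ∈ ((N ⊔ P : Subgroup G) : Set G) := h1
  rw [Subgroup.normal_mul] at h2
  obtain ⟨n, hn, p, hp, rfl⟩ := Set.mem_mul.mp h2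
  exact ⟨n, hn, p, hp, rfl⟩

theorem sra_unique (N P : Subgroup G) (hdisj : N ⊓ P = ⊥) {n n' p p' : G} (hn : n ∈ N)
    (hn' : n' ∈ N) (hp : p ∈ P) (hp' : p' ∈ P) (h : n * p = n' * p') : n = n' ∧ p = p' := by
  have h1 : n'⁻¹ * n = p' * p⁻¹ := by
    have h0 : n'⁻¹ * (n * p) * p⁻¹ = n'⁻¹ * (n' * p') * p⁻¹ := by rw [h]
    simpa [mul_assoc] using h0
  have h2 : n'⁻¹ * n ∈ N ⊓ P :=
    ⟨N.mul_mem (N.inv_mem hn') hn, by rw [h1]; exact P.mul_mem hp' (P.inv_mem hp)⟩
  rw [hdisj, Subgroup.mem_bot] at h2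
  have h3 : n = n' := by
    have h4 := congrArg (fun x => n' * x) h2
    simpa using h4
  refine ⟨h3, ?_⟩
  subst h3
  exact mul_left_cancel h

/-- the bijection `N × P ≃ G` -/
noncomputable def sraEquiv (N P : Subgroup G) [hN : N.Normal] (hdisj : N ⊓ P = ⊥)
    (hprod : N ⊔ P = ⊤) : N × P ≃ G :=
  Equiv.ofBijective (fun x => (x.1 : G) * (x.2 : G)) ⟨by
    rintro ⟨n, p⟩ ⟨n', p'⟩ h
    obtain ⟨h1, h2⟩ := sra_unique N P hdisj n.2 n'.2 p.2 p'.2 h
    exact Prod.ext (Subtype.ext h1) (Subtype.ext h2), by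
    intro g
    obtain ⟨n, hn, p, hp, rfl⟩ := sra_decomp N P hprod g
    exact ⟨(⟨n, hn⟩, ⟨p, hp⟩), rfl⟩⟩

theorem sraEquiv_apply (N P : Subgroup G) [hN : N.Normal] (hdisj : N ⊓ P = ⊥)
    (hprod : N ⊔ P = ⊤) (x : N × P) : sraEquiv N P hdisj hprod x = (x.1 : G) * (x.2 : G) := rfl

theorem sraEquiv_symm_mul (N P : Subgroup G) [hN : N.Normal] (hdisj : N ⊓ P = ⊥)
    (hprod : N ⊔ P = ⊤) (n : N) (p : P) :
    (sraEquiv N P hdisj hprod).symm ((n : G) * (p : G)) = (n, p) := by
  rw [Equiv.symm_apply_eq]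
  rfl

/-- a central involution of a nontrivial 2-subgroup -/
theorem sra_central_invol [Finite G] (P : Subgroup G) (hP : IsPGroup 2 P) (hP1 : P ≠ ⊥) :
    ∃ z ∈ P, z ≠ 1 ∧ z * z = 1 ∧ ∀ p ∈ P, p * z = z * p := by
  have : Fact (Nat.Prime 2) := ⟨Nat.prime_two⟩
  have : Nontrivial P := (Subgroup.nontrivial_iff_ne_bot P).mpr hP1
  have := hP.center_nontrivial
  have h2 : 2 ∣ Nat.card (Subgroup.center P) := by
    obtain ⟨k, hk⟩ := (hP.to_subgroup (Subgroup.center P)).exists_card_eq
    rw [hk]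
    have hk0 : k ≠ 0 := by
      rintro rfl
      rw [pow_zero] at hk
      have h1 : 1 < Nat.card (Subgroup.center P) := Finite.one_lt_card
      omega
    exact dvd_pow_self 2 hk0
  obtain ⟨z, hz⟩ := exists_prime_orderOf_dvd_card' 2 h2
  refine ⟨((z : P) : G), (z : P).2, ?_, ?_, ?_⟩
  · intro h
    have h1 : z = 1 := by
      apply Subtype.ext
      apply Subtype.ext
      exact h
    rw [h1, orderOf_one] at hz
    omega
  · have h1 : z ^ 2 = 1 := by rw [← hz]; exact pow_orderOf_eq_one z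
    have h3 := congrArg (fun x : Subgroup.center P => ((x : P) : G)) h1
    simpa [pow_two] using h3
  · intro p hp
    have h1 := Subgroup.mem_center_iff.mp z.2 ⟨p, hp⟩
    have h3 := congrArg (fun x : P => (x : G)) h1
    simpa using h3

/-- the central involution inverts `N` -/
theorem sra_invert (N P : Subgroup G) [hN : N.Normal]
    (hcomm : ∀ a ∈ N, ∀ b ∈ N, a * b = b * a) (hdisj : N ⊓ P = ⊥) (hprod : N ⊔ P = ⊤)
    (hmin : N ≠ ⊥ ∧ ∀ M : Subgroup G, M.Normal → M ≠ ⊥ → N ≤ M)
    (z : G) (hzP : z ∈ P) (hz1 : z ≠ 1) (hz2 : z * z = 1) (hzc : ∀ p ∈ P, p * z = z * p) :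
    ∀ n ∈ N, z * n * z⁻¹ = n⁻¹ := by
  have hzinv : z⁻¹ = z := (eq_inv_of_mul_eq_one_left hz2).symm
  set C : Subgroup G := N ⊓ Subgroup.centralizer {z} with hC
  have hmemC : ∀ x, x ∈ C ↔ x ∈ N ∧ x * z = z * x := by
    intro x
    rw [hC, Subgroup.mem_inf, Subgroup.mem_centralizer_singleton_iff]
  have hCnorm : C.Normal := by
    constructor
    intro c hc g
    rw [hmemC] at hc ⊢
    obtain ⟨hcN, hcz⟩ := hc
    obtain ⟨n', hn', p, hp, rfl⟩ := sra_decomp N P hprod g
    have h1 : p * c * p⁻¹ ∈ N := hN.conj_mem c hcN p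
    have h2 : n' * p * c * (n' * p)⁻¹ = p * c * p⁻¹ := by
      have h3 : n' * p * c * (n' * p)⁻¹ = n' * (p * c * p⁻¹) * n'⁻¹ := by group
      rw [h3, hcomm n' hn' _ h1]
      group
    rw [h2]
    refine ⟨h1, ?_⟩
    have h4 : p⁻¹ * z = z * p⁻¹ := hzc p⁻¹ (P.inv_mem hp)
    calc p * c * p⁻¹ * z = p * c * (p⁻¹ * z) := by group
      _ = p * c * (z * p⁻¹) := by rw [h4]
      _ = p * (c * z) * p⁻¹ := by group
      _ = p * (z * c) * p⁻¹ := by rw [hcz]
      _ = (p * z) * c * p⁻¹ := by group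
      _ = (z * p) * c * p⁻¹ := by rw [hzc p hp]
      _ = z * (p * c * p⁻¹) := by group
  have hCbot : C = ⊥ := by
    by_contra hne
    have hNC : N ≤ C := hmin.2 C hCnorm hne
    -- z is central in G
    have hzcent : ∀ g : G, g * z = z * g := by
      intro g
      obtain ⟨n', hn', p, hp, rfl⟩ := sra_decomp N P hprod g
      have h1 : n' * z = z * n' := ((hmemC n').mp (hNC hn')).2
      calc n' * p * z = n' * (p * z) := by group
        _ = n' * (z * p) := by rw [hzc p hp]
        _ = (n' * z) * p := by group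
        _ = (z * n') * p := by rw [h1]
        _ = z * (n' * p) := by group
    have hM : (Subgroup.zpowers z).Normal := by
      constructor
      intro x hx g
      have hxc : x ∈ Subgroup.center G := by
        have : Subgroup.zpowers z ≤ Subgroup.center G := by
          rw [Subgroup.zpowers_le]
          exact Subgroup.mem_center_iff.mpr hzcent
        exact this hx
      have h1 := Subgroup.mem_center_iff.mp hxc g
      have h2 : g * x * g⁻¹ = x := by rw [h1]; group
      rw [h2]; exact hx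
    have hMne : Subgroup.zpowers z ≠ ⊥ := by
      intro h
      have : z ∈ Subgroup.zpowers z := Subgroup.mem_zpowers z
      rw [h, Subgroup.mem_bot] at this
      exact hz1 this
    have hNM : N ≤ Subgroup.zpowers z := hmin.2 _ hM hMne
    have hMP : Subgroup.zpowers z ≤ P := by
      rw [Subgroup.zpowers_le]; exact hzP
    have hNbot : N ≤ ⊥ := by
      rw [← hdisj]
      exact le_inf le_rfl (hNM.trans hMP)
    exact hmin.1 (le_bot_iff.mp hNbot)
  intro n hn
  rw [hzinv]
  have hconj : z * n * z ∈ N := by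
    have := hN.conj_mem n hn z
    rwa [hzinv] at this
  have hm : n * (z * n * z) ∈ C := by
    rw [hmemC]
    refine ⟨N.mul_mem hn hconj, ?_⟩
    have h1 : n * (z * n * z) = (z * n * z) * n := hcomm n hn _ hconj
    calc n * (z * n * z) * z = n * z * n * (z * z) := by group
      _ = n * z * n := by rw [hz2, mul_one]
      _ = (z * z) * n * z * n := by rw [hz2, one_mul]
      _ = z * ((z * n * z) * n) := by group
      _ = z * (n * (z * n * z)) := by rw [h1]
  rw [hCbot, Subgroup.mem_bot] at hm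
  exact (eq_inv_of_mul_eq_one_right hm)

end

section

variable {G : Type*} [Group G]

/-- stabilizer in `G` of a linear character of the normal subgroup `N` -/
def sraT (N : Subgroup G) [hN : N.Normal] (η : N →* ℂˣ) : Subgroup G where
  carrier := {g | ∀ n : N, η (MulAut.conjNormal g n) = η n}
  one_mem' := by
    intro n
    rw [map_one]
    rfl
  mul_mem' := by
    intro a b ha hb n
    rw [map_mul, MulAut.mul_apply, ha, hb]
  inv_mem' := by
    intro a ha n
    have h1 := ha (MulAut.conjNormal a⁻¹ n)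
    rw [← MulAut.mul_apply, ← map_mul, mul_inv_cancel, map_one] at h1
    exact h1.symm

theorem mem_sraT (N : Subgroup G) [hN : N.Normal] (η : N →* ℂˣ) (g : G) :
    g ∈ sraT N η ↔ ∀ n : N, η (MulAut.conjNormal g n) = η n := Iff.rfl

theorem sra_N_le_T (N : Subgroup G) [hN : N.Normal] (η : N →* ℂˣ) : N ≤ sraT N η := by
  intro m hm n
  have h1 : MulAut.conjNormal m n = (⟨m, hm⟩ : N) * n * (⟨m, hm⟩ : N)⁻¹ := by
    apply Subtype.ext
    rfl
  rw [h1, map_mul, map_mul, map_inv, mul_comm (η ⟨m, hm⟩), mul_assoc, mul_inv_cancel, mul_one]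

/-- the format of the stabilizer used by the Clifford correspondence -/
theorem sraT_format (N : Subgroup G) [hN : N.Normal] (η : N →* ℂˣ) (g : G) :
    g ∈ sraT N η ↔ ∀ n n' : N, (n' : G) = g * (n : G) * g⁻¹ →
      ((η n' : ℂˣ) : ℂ) = ((η n : ℂˣ) : ℂ) := by
  constructor
  · intro hg n n' hn'
    have h1 : n' = MulAut.conjNormal g n := by
      apply Subtype.ext
      rw [hn']
      rfl
    rw [h1, hg n]
  · intro h n
    apply Units.ext
    exact h n (MulAut.conjNormal g n) rfl

theorem sra_symm_spec (N P : Subgroup G) [hN : N.Normal] (hdisj : N ⊓ P = ⊥)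
    (hprod : N ⊔ P = ⊤) (a : G) :
    ((((sraEquiv N P hdisj hprod).symm a).1 : N) : G) *
      ((((sraEquiv N P hdisj hprod).symm a).2 : P) : G) = a := by
  rw [← sraEquiv_apply N P hdisj hprod, Equiv.apply_symm_apply]

theorem sra_symm_mul (N P : Subgroup G) [hN : N.Normal] (hdisj : N ⊓ P = ⊥)
    (hprod : N ⊔ P = ⊤) (a b : G) :
    (sraEquiv N P hdisj hprod).symm (a * b) =
      (((sraEquiv N P hdisj hprod).symm a).1 *
        MulAut.conjNormal ((((sraEquiv N P hdisj hprod).symm a).2 : P) : G)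
          ((sraEquiv N P hdisj hprod).symm b).1,
        ((sraEquiv N P hdisj hprod).symm a).2 * ((sraEquiv N P hdisj hprod).symm b).2) := by
  rw [Equiv.symm_apply_eq, sraEquiv_apply]
  have ha : a = ((((sraEquiv N P hdisj hprod).symm a).1 : N) : G) *
      ((((sraEquiv N P hdisj hprod).symm a).2 : P) : G) := (sra_symm_spec N P hdisj hprod a).symm
  have hb : b = ((((sraEquiv N P hdisj hprod).symm b).1 : N) : G) *
      ((((sraEquiv N P hdisj hprod).symm b).2 : P) : G) := (sra_symm_spec N P hdisj hprod b).symm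
  set n₁ := ((sraEquiv N P hdisj hprod).symm a).1
  set p₁ := ((sraEquiv N P hdisj hprod).symm a).2
  set n₂ := ((sraEquiv N P hdisj hprod).symm b).1
  set p₂ := ((sraEquiv N P hdisj hprod).symm b).2
  show a * b = ((n₁ * MulAut.conjNormal (p₁ : G) n₂ : N) : G) * ((p₁ * p₂ : P) : G)
  rw [ha, hb]
  simp only [Subgroup.coe_mul, MulAut.conjNormal_apply]
  group

theorem sra_symm_snd_mem (N P : Subgroup G) [hN : N.Normal] (hdisj : N ⊓ P = ⊥)
    (hprod : N ⊔ P = ⊤) (T : Subgroup G) (hNT : N ≤ T) (a : G) (ha : a ∈ T) :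
    ((((sraEquiv N P hdisj hprod).symm a).2 : P) : G) ∈ T := by
  have h2 : ((((sraEquiv N P hdisj hprod).symm a).2 : P) : G) =
      ((((sraEquiv N P hdisj hprod).symm a).1 : N) : G)⁻¹ * a :=
    eq_inv_mul_of_mul_eq (sra_symm_spec N P hdisj hprod a)
  rw [h2]
  exact T.mul_mem (T.inv_mem (hNT (SetLike.coe_mem _))) ha

/-- the canonical extension of `η` to its stabilizer -/
noncomputable def sraTheta (N P : Subgroup G) [hN : N.Normal] (hdisj : N ⊓ P = ⊥)
    (hprod : N ⊔ P = ⊤) (η : N →* ℂˣ) : sraT N η →* ℂˣ where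
  toFun t := η ((sraEquiv N P hdisj hprod).symm (t : G)).1
  map_one' := by
    have h1 : (sraEquiv N P hdisj hprod).symm ((1 : sraT N η) : G) = (1, 1) := by
      rw [Equiv.symm_apply_eq, sraEquiv_apply]
      simp
    rw [h1, map_one]
  map_mul' := by
    intro a b
    rw [Subgroup.coe_mul, sra_symm_mul, map_mul]
    congr 1
    exact sra_symm_snd_mem N P hdisj hprod (sraT N η) (sra_N_le_T N η) a a.2 _

theorem sraTheta_apply (N P : Subgroup G) [hN : N.Normal] (hdisj : N ⊓ P = ⊥)
    (hprod : N ⊔ P = ⊤) (η : N →* ℂˣ) (n : N) (p : P) (h : (n : G) * (p : G) ∈ sraT N η) :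
    sraTheta N P hdisj hprod η ⟨(n : G) * (p : G), h⟩ = η n := by
  show η ((sraEquiv N P hdisj hprod).symm ((n : G) * (p : G))).1 = η n
  rw [sraEquiv_symm_mul]

theorem sraTheta_coe (N P : Subgroup G) [hN : N.Normal] (hdisj : N ⊓ P = ⊥)
    (hprod : N ⊔ P = ⊤) (η : N →* ℂˣ) (n : N) :
    sraTheta N P hdisj hprod η ⟨(n : G), sra_N_le_T N η n.2⟩ = η n := by
  have h1 : (n : G) = (n : G) * ((1 : P) : G) := by simp
  have h2 : (n : G) * ((1 : P) : G) ∈ sraT N η := by rw [← h1]; exact sra_N_le_T N η n.2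
  have h3 : (⟨(n : G), sra_N_le_T N η n.2⟩ : sraT N η) = ⟨(n : G) * ((1 : P) : G), h2⟩ := by
    apply Subtype.ext
    exact h1
  rw [h3, sraTheta_apply]

end

section

variable {G : Type*} [Group G] [Fintype G]

/-- sum over squares of an induced function -/
theorem sra_fs_ind (H : Subgroup G) (f : H → ℂ) :
    ∑ s : G, Cfsg.indFun H f (s * s) =
      (Fintype.card G : ℂ) * ((Nat.card H : ℂ)⁻¹ * ∑ s : G, Cfsg.extendByZero H f (s * s)) := by
  unfold Cfsg.indFun
  rw [← Finset.mul_sum, Finset.sum_comm]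
  have h1 : ∀ x : G, ∑ s : G, Cfsg.extendByZero H f (x⁻¹ * (s * s) * x) =
      ∑ s : G, Cfsg.extendByZero H f (s * s) := by
    intro x
    rw [← Equiv.sum_comp (MulAut.conj x).toEquiv
      (fun s => Cfsg.extendByZero H f (x⁻¹ * (s * s) * x))]
    apply Finset.sum_congr rfl
    intro s _
    congr 1
    simp only [MulEquiv.toEquiv_eq_coe, MulEquiv.coe_toEquiv, MulAut.conj_apply]
    group
  simp only [h1]
  rw [Finset.sum_const, Finset.card_univ, nsmul_eq_mul]
  ring

variable (N P : Subgroup G) [hN : N.Normal] (hdisj : N ⊓ P = ⊥) (hprod : N ⊔ P = ⊤)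
  (η : N →* ℂˣ)

theorem sra_chi_irr :
    Cfsg.IsIrrCharacter G (Cfsg.indFun (sraT N η)
      (afLin (sraTheta N P hdisj hprod η) : sraT N η → ℂ)) := by
  classical
  have : Fintype N := Fintype.ofFinite _
  have : Fintype (sraT N η) := Fintype.ofFinite _
  have hT : ∀ g : G, g ∈ sraT N η ↔ ∀ n n' : N, (n' : G) = g * (n : G) * g⁻¹ →
      (afLin η : N → ℂ) n' = (afLin η : N → ℂ) n := by
    intro g
    exact sraT_format N η g
  have hψ : Cfsg.classInner (fun n : N => (afLin (sraTheta N P hdisj hprod η) : sraT N η → ℂ)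
      ⟨(n : G), sra_N_le_T N η n.2⟩) (afLin η : N → ℂ) ≠ 0 := by
    have h1 : (fun n : N => (afLin (sraTheta N P hdisj hprod η) : sraT N η → ℂ)
        ⟨(n : G), sra_N_le_T N η n.2⟩) = (afLin η : N → ℂ) := by
      funext n
      rw [afLin_apply, afLin_apply, sraTheta_coe]
    rw [h1, h7_irr_norm (afLin η).2]
    exact one_ne_zero
  exact (cc_ind_irr N (sraT N η) (sra_N_le_T N η) (afLin η) hT _ hψ).1

/-- the irreducible character induced from the stabilizer -/
noncomputable def sraChi : Cfsg.IrrCharacter G :=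
  ⟨Cfsg.indFun (sraT N η) (afLin (sraTheta N P hdisj hprod η) : sraT N η → ℂ),
    sra_chi_irr N P hdisj hprod η⟩

theorem sraChi_val : (sraChi N P hdisj hprod η : G → ℂ) =
    Cfsg.indFun (sraT N η) (afLin (sraTheta N P hdisj hprod η) : sraT N η → ℂ) := rfl

theorem sraChi_degree :
    Cfsg.charDegree (sraChi N P hdisj hprod η : G → ℂ) = (sraT N η).index := by
  unfold Cfsg.charDegree
  rw [sraChi_val, h7_indFun_one, afLin_apply, map_one, Units.val_one, mul_one]
  simp

/-- the inner sum for a fixed `p` is a natural number -/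
theorem sra_inner_nat [Fintype N] (p : P) :
    ∃ k : ℕ, ∑ n : N, Cfsg.extendByZero (sraT N η)
      (afLin (sraTheta N P hdisj hprod η) : sraT N η → ℂ)
        ((n : G) * (p : G) * ((n : G) * (p : G))) = (k : ℂ) := by
  classical
  have hx : ∀ n : N, (n : G) * (p : G) * ((n : G) * (p : G)) =
      ((n * MulAut.conjNormal (p : G) n : N) : G) * ((p * p : P) : G) := by
    intro n
    simp only [Subgroup.coe_mul, MulAut.conjNormal_apply]
    group
  by_cases hpp : ((p * p : P) : G) ∈ sraT N η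
  · set μ : N →* ℂˣ := η * (η.comp (MulAut.conjNormal (p : G)).toMonoidHom) with hμ
    have h1 : ∀ n : N, Cfsg.extendByZero (sraT N η)
        (afLin (sraTheta N P hdisj hprod η) : sraT N η → ℂ)
          ((n : G) * (p : G) * ((n : G) * (p : G))) = ((μ n : ℂˣ) : ℂ) := by
      intro n
      have hmem : ((n * MulAut.conjNormal (p : G) n : N) : G) * ((p * p : P) : G) ∈ sraT N η :=
        (sraT N η).mul_mem (sra_N_le_T N η (SetLike.coe_mem _)) hpp
      rw [hx n, h7_extendByZero_mem _ _ _ hmem, afLin_apply, sraTheta_apply, hμ, map_mul]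
      rfl
    simp only [h1]
    by_cases hμ1 : μ = 1
    · refine ⟨Fintype.card N, ?_⟩
      rw [hμ1]
      simp
    · refine ⟨0, ?_⟩
      rw [Cfsg.Agent.Lib.Helper11.sum_linChar_eq_zero μ hμ1]
      simp
  · refine ⟨0, ?_⟩
    rw [Nat.cast_zero]
    apply Finset.sum_eq_zero
    intro n _
    apply h7_extendByZero_not_mem
    intro hmem
    apply hpp
    rw [hx n] at hmem
    have h2 : ((p * p : P) : G) = ((n * MulAut.conjNormal (p : G) n : N) : G)⁻¹ *
        (((n * MulAut.conjNormal (p : G) n : N) : G) * ((p * p : P) : G)) := by group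
    rw [h2]
    exact (sraT N η).mul_mem ((sraT N η).inv_mem (sra_N_le_T N η (SetLike.coe_mem _))) hmem

/-- for an inverting `z` the inner sum is `|N|` -/
theorem sra_inner_z [Fintype N] (z : P) (hz2 : z * z = 1)
    (hzinv : ∀ n : N, MulAut.conjNormal (z : G) n = n⁻¹) :
    ∑ n : N, Cfsg.extendByZero (sraT N η)
      (afLin (sraTheta N P hdisj hprod η) : sraT N η → ℂ)
        ((n : G) * (z : G) * ((n : G) * (z : G))) = (Fintype.card N : ℂ) := by
  have h1 : ∀ n : N, (n : G) * (z : G) * ((n : G) * (z : G)) = 1 := by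
    intro n
    have h2 := congrArg (fun x : N => (x : G)) (hzinv n)
    simp only [MulAut.conjNormal_apply, Subgroup.coe_inv] at h2
    have h3 := congrArg (fun x : P => (x : G)) hz2
    simp only [Subgroup.coe_mul, Subgroup.coe_one] at h3
    have hzi : (z : G)⁻¹ = (z : G) := (eq_inv_of_mul_eq_one_left h3).symm
    rw [hzi] at h2
    calc (n : G) * (z : G) * ((n : G) * (z : G)) = (n : G) * ((z : G) * (n : G) * (z : G)) := by
          group
      _ = 1 := by rw [h2, mul_inv_cancel]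
  simp only [h1]
  have h4 : Cfsg.extendByZero (sraT N η)
      (afLin (sraTheta N P hdisj hprod η) : sraT N η → ℂ) 1 = 1 := by
    rw [h7_extendByZero_mem _ _ _ (sraT N η).one_mem, afLin_apply]
    have : (⟨1, (sraT N η).one_mem⟩ : sraT N η) = 1 := rfl
    rw [this, map_one, Units.val_one]
  rw [h4]
  simp

theorem sra_fsNu (z : P) (hz2 : z * z = 1)
    (hzinv : ∀ n : N, MulAut.conjNormal (z : G) n = n⁻¹) :
    fsNu (sraChi N P hdisj hprod η) = 1 := by
  classical
  have : Fintype N := Fintype.ofFinite _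
  have : Fintype P := Fintype.ofFinite _
  have hG0 : (Fintype.card G : ℂ) ≠ 0 := Nat.cast_ne_zero.mpr Fintype.card_ne_zero
  have hT0 : (Nat.card (sraT N η) : ℂ) ≠ 0 := Nat.cast_ne_zero.mpr Nat.card_pos.ne'
  have h1 : fsNu (sraChi N P hdisj hprod η) = (Nat.card (sraT N η) : ℂ)⁻¹ *
      ∑ s : G, Cfsg.extendByZero (sraT N η)
        (afLin (sraTheta N P hdisj hprod η) : sraT N η → ℂ) (s * s) := by
    unfold fsNu
    rw [sraChi_val, sra_fs_ind, Nat.card_eq_fintype_card, ← mul_assoc, inv_mul_cancel₀ hG0,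
      one_mul]
  have h2 : ∑ s : G, Cfsg.extendByZero (sraT N η)
        (afLin (sraTheta N P hdisj hprod η) : sraT N η → ℂ) (s * s) =
      ∑ p : P, ∑ n : N, Cfsg.extendByZero (sraT N η)
        (afLin (sraTheta N P hdisj hprod η) : sraT N η → ℂ)
          ((n : G) * (p : G) * ((n : G) * (p : G))) := by
    rw [← Equiv.sum_comp (sraEquiv N P hdisj hprod), Fintype.sum_prod_type_right]
    rfl
  choose k hk using sra_inner_nat N P hdisj hprod η
  have hkz : k z = Fintype.card N := by
    have h3 := hk z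
    rw [sra_inner_z N P hdisj hprod η z hz2 hzinv] at h3
    exact_mod_cast h3.symm
  have h3 : ∑ s : G, Cfsg.extendByZero (sraT N η)
        (afLin (sraTheta N P hdisj hprod η) : sraT N η → ℂ) (s * s) =
      ((∑ p : P, k p : ℕ) : ℂ) := by
    rw [h2, Nat.cast_sum]
    exact Finset.sum_congr rfl (fun p _ => hk p)
  have hKpos : 0 < ∑ p : P, k p := by
    have h4 : k z ≤ ∑ p : P, k p :=
      Finset.single_le_sum (f := k) (fun _ _ => Nat.zero_le _) (Finset.mem_univ z)
    have h5 : 0 < Fintype.card N := Fintype.card_pos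
    omega
  rw [h3] at h1
  rcases fsNu_cases (sraChi N P hdisj hprod η) with h0 | ⟨h0 | h0, _⟩
  · exfalso
    rw [h1] at h0
    rcases mul_eq_zero.mp h0 with h | h
    · exact hT0 (inv_eq_zero.mp h)
    · have : (∑ p : P, k p) = 0 := by exact_mod_cast h
      omega
  · exact h0
  · exfalso
    rw [h1] at h0
    have h4 : ((∑ p : P, k p : ℕ) : ℂ) = -(Nat.card (sraT N η) : ℂ) := by
      field_simp at h0
      linear_combination h0
    have h5 : ((∑ p : P, k p + Nat.card (sraT N η) : ℕ) : ℂ) = 0 := by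
      push_cast
      rw [← Nat.cast_sum, h4]
      ring
    have h6 : ∑ p : P, k p + Nat.card (sraT N η) = 0 := by exact_mod_cast h5
    omega

end

section

variable {G : Type*} [Group G] [Fintype G]

/-- linear characters trivial on a subgroup `T` -/
def sraB (T : Subgroup G) : Subgroup (G →* ℂˣ) where
  carrier := {β | ∀ t ∈ T, β t = 1}
  one_mem' := by intro t _; rfl
  mul_mem' := by
    intro a b ha hb t ht
    rw [MonoidHom.mul_apply, ha t ht, hb t ht, mul_one]
  inv_mem' := by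
    intro a ha t ht
    rw [MonoidHom.inv_apply, ha t ht, inv_one]

omit [Fintype G] in
theorem mem_sraB (T : Subgroup G) (β : G →* ℂˣ) : β ∈ sraB T ↔ ∀ t ∈ T, β t = 1 := Iff.rfl

theorem sraB_card_le (T : Subgroup G) [Fintype ↥(sraB T)] :
    Fintype.card ↥(sraB T) ≤ T.index := by
  classical
  set K : Finset G := Finset.univ.filter (fun g => ∀ β ∈ sraB T, β g = 1) with hKdef
  have hK : ∀ g, g ∈ K ↔ ∀ β ∈ sraB T, β g = 1 := by
    intro g
    rw [hKdef, Finset.mem_filter]
    simp
  have hcard := af_card_B_mul (sraB T) K hK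
  have hTK : Nat.card T ≤ K.card := by
    rw [Nat.card_eq_fintype_card, Fintype.card_subtype]
    apply Finset.card_le_card
    intro t ht
    rw [Finset.mem_filter] at ht
    rw [hK]
    intro β hβ
    exact hβ t ht.2
  have hidx : T.index * Nat.card T = Fintype.card G := by
    rw [Subgroup.index_mul_card, Nat.card_eq_fintype_card]
  have hTpos : 0 < Nat.card T := Nat.card_pos
  have h1 : Fintype.card ↥(sraB T) * Nat.card T ≤ T.index * Nat.card T := by
    rw [hidx, ← hcard]
    exact Nat.mul_le_mul_left _ hTK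
  exact Nat.le_of_mul_le_mul_right h1 hTpos

variable (N P : Subgroup G) [hN : N.Normal] (hdisj : N ⊓ P = ⊥) (hprod : N ⊔ P = ⊤)
  (η : N →* ℂˣ)

/-- a linear character trivial on `N` that fixes the induced character is trivial on `T` -/
theorem sra_stab (β : G →* ℂˣ) (hβN : ∀ n : N, β (n : G) = 1)
    (hβ : afSmul β (sraChi N P hdisj hprod η) = sraChi N P hdisj hprod η) :
    β ∈ sraB (sraT N η) := by
  classical
  have : Fintype N := Fintype.ofFinite _
  have : Fintype (sraT N η) := Fintype.ofFinite _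
  set T := sraT N η with hTdef
  set θ := sraTheta N P hdisj hprod η with hθdef
  set βT : T →* ℂˣ := β.comp T.subtype with hβT
  have hT : ∀ g : G, g ∈ T ↔ ∀ n n' : N, (n' : G) = g * (n : G) * g⁻¹ →
      (afLin η : N → ℂ) n' = (afLin η : N → ℂ) n := by
    intro g
    exact sraT_format N η g
  have hψ₂ : Cfsg.classInner (fun n : N => (afLin θ : T → ℂ)
      ⟨(n : G), sra_N_le_T N η n.2⟩) (afLin η : N → ℂ) ≠ 0 := by
    have h1 : (fun n : N => (afLin θ : T → ℂ) ⟨(n : G), sra_N_le_T N η n.2⟩) =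
        (afLin η : N → ℂ) := by
      funext n
      rw [afLin_apply, afLin_apply, hθdef, sraTheta_coe]
    rw [h1, h7_irr_norm (afLin η).2]
    exact one_ne_zero
  have hψ₁ : Cfsg.classInner (fun n : N => (afLin (θ * βT) : T → ℂ)
      ⟨(n : G), sra_N_le_T N η n.2⟩) (afLin η : N → ℂ) ≠ 0 := by
    have h1 : (fun n : N => (afLin (θ * βT) : T → ℂ) ⟨(n : G), sra_N_le_T N η n.2⟩) =
        (afLin η : N → ℂ) := by
      funext n
      rw [afLin_apply, afLin_apply, MonoidHom.mul_apply, hθdef, sraTheta_coe, hβT]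
      show ((η n * β (n : G) : ℂˣ) : ℂ) = _
      rw [hβN n, mul_one]
    rw [h1, h7_irr_norm (afLin η).2]
    exact one_ne_zero
  have hfun : (afLin (θ * βT) : T → ℂ) =
      (afLin θ : T → ℂ) * fun t : T => (fun g : G => ((β g : ℂˣ) : ℂ)) t := by
    funext t
    rw [afLin_apply, MonoidHom.mul_apply, Units.val_mul]
    rfl
  have hind : Cfsg.indFun T (afLin (θ * βT) : T → ℂ) = Cfsg.indFun T (afLin θ : T → ℂ) := by
    have h1 : Cfsg.indFun T (afLin (θ * βT) : T → ℂ) =
        (afSmul β (sraChi N P hdisj hprod η) : G → ℂ) := by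
      funext g
      rw [afSmul_apply, sraChi_val]
      unfold Cfsg.indFun
      have h3 : ∀ y : G, Cfsg.extendByZero T (afLin (θ * βT) : T → ℂ) y =
          Cfsg.extendByZero T (afLin θ : T → ℂ) y * ((β y : ℂˣ) : ℂ) := by
        intro y
        rw [hfun]
        exact h7_extendByZero_mul T (afLin θ : T → ℂ) (fun g : G => ((β g : ℂˣ) : ℂ)) y
      have h2 : ∀ x : G, ((β (x⁻¹ * g * x) : ℂˣ) : ℂ) = ((β g : ℂˣ) : ℂ) := by
        intro x
        rw [map_mul, map_mul, map_inv, mul_comm, ← mul_assoc, mul_inv_cancel, one_mul]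
      simp only [h3, h2]
      rw [← Finset.sum_mul]
      ring
    rw [h1, hβ, sraChi_val]
  have heq := cc_ind_inj N T (sra_N_le_T N η) (afLin η) hT (afLin (θ * βT)) (afLin θ) hψ₁ hψ₂ hind
  have h3 : θ * βT = θ := afLin_injective heq
  have h4 : ∀ t : T, βT t = 1 := by
    intro t
    have h5 := congrArg (fun f : T →* ℂˣ => f t) h3
    simp only [MonoidHom.mul_apply] at h5
    exact mul_left_cancel (a := θ t) (by rw [h5, mul_one])
  intro t ht
  exact h4 ⟨t, ht⟩

omit [Fintype G] hN in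
/-- an involutive linear character is trivial on a subgroup of odd prime exponent -/
theorem sra_triv_on_N {q : ℕ} (hq : q.Prime) (hq2 : q ≠ 2) (hexp : ∀ a ∈ N, a ^ q = 1)
    (β : G →* ℂˣ) (hβ : β * β = 1) (n : N) : β (n : G) = 1 := by
  have h1 : β (n : G) ^ 2 = 1 := by
    have := congrArg (fun f : G →* ℂˣ => f (n : G)) hβ
    simpa [pow_two] using this
  have h2 : β (n : G) ^ q = 1 := by
    rw [← map_pow, hexp n n.2, map_one]
  have h3 : β (n : G) ^ Nat.gcd q 2 = 1 := pow_gcd_eq_one.mpr ⟨h2, h1⟩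
  have h4 : Nat.gcd q 2 = 1 := (Nat.coprime_primes hq Nat.prime_two).mpr hq2
  rwa [h4, pow_one] at h3

/-- the orbit of the induced character under the involutive linear characters is large -/
theorem sra_orbit_card [Fintype (G →* ℂˣ)] [DecidableEq (G →* ℂˣ)]
    [DecidableEq (Cfsg.IrrCharacter G)]
    {q : ℕ} (hq : q.Prime) (hq2 : q ≠ 2) (hexp : ∀ a ∈ N, a ^ q = 1) :
    (Finset.univ.filter (fun β : G →* ℂˣ => β * β = 1)).card ≤
      (sraT N η).index * ((Finset.univ.filter (fun β : G →* ℂˣ => β * β = 1)).image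
        (fun β => afSmul β (sraChi N P hdisj hprod η))).card := by
  classical
  have : Fintype ↥(sraB (sraT N η)) := Fintype.ofFinite _
  apply Finset.card_le_mul_card_image
  intro a ha
  obtain ⟨β₀, hβ₀, rfl⟩ := Finset.mem_image.mp ha
  rw [Finset.mem_filter] at hβ₀
  have hβ₀' : β₀ ∈ afA2 G := hβ₀.2
  refine le_trans ?_ (sraB_card_le (sraT N η))
  rw [← Fintype.card_coe]
  apply Fintype.card_le_of_injective
    (fun β : {x // x ∈ (Finset.univ.filter (fun β : G →* ℂˣ => β * β = 1)).filter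
      (fun β => afSmul β (sraChi N P hdisj hprod η) =
        afSmul β₀ (sraChi N P hdisj hprod η))} =>
      (⟨β₀⁻¹ * β.1, by
        have hβ := β.2
        rw [Finset.mem_filter, Finset.mem_filter] at hβ
        have hβ' : β.1 ∈ afA2 G := hβ.1.2
        have hmem : β₀⁻¹ * β.1 ∈ afA2 G := (afA2 G).mul_mem ((afA2 G).inv_mem hβ₀') hβ'
        apply sra_stab N P hdisj hprod η
        · intro n
          exact sra_triv_on_N N hq hq2 hexp _ hmem n
        · have hinv : β₀⁻¹ * β₀ = 1 := by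
            ext g
            simp
          rw [afSmul_mul, hβ.2, ← afSmul_mul, hinv, afSmul_one]⟩ : ↥(sraB (sraT N η))))
  intro β β' h
  have h1 := congrArg (fun x : ↥(sraB (sraT N η)) => (x : G →* ℂˣ)) h
  simp only [mul_right_inj] at h1
  exact Subtype.ext h1

end

section

/-- abstract counting -/
theorem sra_count {α : Type*} [DecidableEq α] (S O : Finset α) (deg : α → ℕ) (a s : ℕ)
    (hdeg : ∀ χ ∈ S, deg χ = 1 ∨ 2 ≤ deg χ)
    (hO : O ⊆ S) (hOdeg : ∀ χ ∈ O, deg χ = s) (hs : 2 ≤ s)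
    (hL : (S.filter (fun χ => deg χ = 1)).card ≤ a) (ha : a ≤ s * O.card) :
    4 * S.card ≤ 3 * ∑ χ ∈ S, deg χ := by
  classical
  set L := S.filter (fun χ => deg χ = 1) with hLdef
  set E := S.filter (fun χ => ¬ deg χ = 1) with hEdef
  have hcard : L.card + E.card = S.card := Finset.card_filter_add_card_filter_not _
  have hsum : ∑ χ ∈ L, deg χ + ∑ χ ∈ E, deg χ = ∑ χ ∈ S, deg χ :=
    Finset.sum_filter_add_sum_filter_not S _ deg
  have hLsum : ∑ χ ∈ L, deg χ = L.card := by
    rw [Finset.card_eq_sum_ones]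
    apply Finset.sum_congr rfl
    intro χ hχ
    exact (Finset.mem_filter.mp hχ).2
  have hE2 : ∀ χ ∈ E, 2 ≤ deg χ := by
    intro χ hχ
    rw [hEdef, Finset.mem_filter] at hχ
    rcases hdeg χ hχ.1 with h | h
    · exact absurd h hχ.2
    · exact h
  have hE3 : 4 * E.card + ∑ χ ∈ E, deg χ ≤ 3 * ∑ χ ∈ E, deg χ := by
    rw [Finset.mul_sum, Finset.card_eq_sum_ones, Finset.mul_sum, ← Finset.sum_add_distrib]
    apply Finset.sum_le_sum
    intro χ hχ
    have := hE2 χ hχ
    omega
  have hOE : O ⊆ E := by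
    intro χ hχ
    rw [hEdef, Finset.mem_filter]
    refine ⟨hO hχ, ?_⟩
    rw [hOdeg χ hχ]; omega
  have hOsum : s * O.card ≤ ∑ χ ∈ E, deg χ := by
    calc s * O.card = ∑ χ ∈ O, deg χ := by
          rw [Finset.sum_congr rfl hOdeg, Finset.sum_const, smul_eq_mul, mul_comm]
      _ ≤ ∑ χ ∈ E, deg χ := Finset.sum_le_sum_of_subset hOE
  generalize s * O.card = m at ha hOsum
  omega

/-- a nontrivial abelian group has a nontrivial linear character -/
theorem sra_exists_eta {G : Type*} [Group G] [Finite G] (N : Subgroup G)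
    (hcomm : ∀ a b : N, a * b = b * a) (hne : N ≠ ⊥) : ∃ η : N →* ℂˣ, η ≠ 1 := by
  classical
  let _ : CommGroup N := { (inferInstance : Group N) with mul_comm := hcomm }
  have : NeZero (Monoid.exponent N) := ⟨Monoid.exponent_ne_zero_of_finite⟩
  obtain ⟨a, ha1⟩ := (Subgroup.ne_bot_iff_exists_ne_one).mp hne
  obtain ⟨φ, hφ⟩ := CommGroup.exists_apply_ne_one_of_hasEnoughRootsOfUnity N ℂ (a := a) ha1
  refine ⟨φ, ?_⟩
  intro h
  apply hφ
  rw [h]
  rfl

theorem sra_unit_eq_one {q : ℕ} (hq : q.Prime) (hq2 : q ≠ 2) (u : ℂˣ) (h2 : u ^ 2 = 1)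
    (hq1 : u ^ q = 1) : u = 1 := by
  have h3 : u ^ Nat.gcd q 2 = 1 := pow_gcd_eq_one.mpr ⟨hq1, h2⟩
  have h4 : Nat.gcd q 2 = 1 := (Nat.coprime_primes hq Nat.prime_two).mpr hq2
  rwa [h4, pow_one] at h3

theorem sra_main {G : Type*} [Group G] [Fintype G] [Fintype (Cfsg.IrrCharacter G)]
    [DecidableEq (Cfsg.IrrCharacter G)]
    (N P : Subgroup G) (hN : N.Normal) (q : ℕ) [hqp : Fact q.Prime] (hq : q ≠ 2)
    (hNel : Cfsg.IsElementaryAbelian q N) (hP : IsPGroup 2 ↥P) (hP1 : P ≠ ⊥)
    (hdisj : N ⊓ P = ⊥) (hprod : N ⊔ P = ⊤)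
    (hmin : N ≠ ⊥ ∧ ∀ M : Subgroup G, M.Normal → M ≠ ⊥ → N ≤ M)
    [DecidablePred (fun χ : Cfsg.IrrCharacter G => (Cfsg.charDegree (χ : G → ℂ) = 1 ∨
        2 ∣ Cfsg.charDegree (χ : G → ℂ)) ∧ fsNu χ = 1)] :
    4 * (Finset.univ.filter (fun χ : Cfsg.IrrCharacter G =>
      (Cfsg.charDegree (χ : G → ℂ) = 1 ∨ 2 ∣ Cfsg.charDegree (χ : G → ℂ)) ∧ fsNu χ = 1)).card ≤
    3 * ∑ χ ∈ Finset.univ.filter (fun χ : Cfsg.IrrCharacter G =>
      (Cfsg.charDegree (χ : G → ℂ) = 1 ∨ 2 ∣ Cfsg.charDegree (χ : G → ℂ)) ∧ fsNu χ = 1),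
      Cfsg.charDegree (χ : G → ℂ) := by
  classical
  have := hN
  have : Fintype (G →* ℂˣ) := Fintype.ofFinite _
  have hcomm' : ∀ a b : N, a * b = b * a := fun a b => hNel.1.is_comm.comm a b
  have hcomm : ∀ a ∈ N, ∀ b ∈ N, a * b = b * a := by
    intro a ha b hb
    exact congrArg Subtype.val (hcomm' ⟨a, ha⟩ ⟨b, hb⟩)
  have hexp : ∀ a ∈ N, a ^ q = 1 := hNel.2
  obtain ⟨η, hη⟩ := sra_exists_eta N hcomm' hmin.1
  obtain ⟨z, hzP, hz1, hz2, hzc⟩ := sra_central_invol P hP hP1
  have hinv := sra_invert N P hcomm hdisj hprod hmin z hzP hz1 hz2 hzc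
  have hzinv : ∀ n : N, MulAut.conjNormal z n = n⁻¹ := by
    intro n
    apply Subtype.ext
    rw [MulAut.conjNormal_apply, Subgroup.coe_inv]
    exact hinv n n.2
  have hnu : fsNu (sraChi N P hdisj hprod η) = 1 :=
    sra_fsNu N P hdisj hprod η ⟨z, hzP⟩ (Subtype.ext hz2) hzinv
  -- z is not in the stabilizer
  have hzT : z ∉ sraT N η := by
    intro hz
    apply hη
    ext n
    have h1 := hz n
    rw [hzinv n, map_inv] at h1
    have h2 : η n ^ 2 = 1 := by
      rw [pow_two]
      nth_rewrite 1 [← h1]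
      exact inv_mul_cancel _
    have h3 : η n ^ q = 1 := by
      rw [← map_pow]
      have : n ^ q = 1 := Subtype.ext (by simpa using hexp n n.2)
      rw [this, map_one]
    rw [sra_unit_eq_one hqp.out hq (η n) h2 h3]
    rfl
  -- the index of the stabilizer is even
  have hNidx : N.index = Nat.card P := by
    have h1 : Nat.card N * Nat.card P = Nat.card G := by
      rw [← Nat.card_prod]
      exact Nat.card_congr (sraEquiv N P hdisj hprod)
    have h2 : N.index * Nat.card N = Nat.card G := Subgroup.index_mul_card N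
    have h3 : 0 < Nat.card N := Nat.card_pos
    have h4 : N.index * Nat.card N = Nat.card P * Nat.card N := by
      rw [h2, ← h1, mul_comm]
    exact Nat.eq_of_mul_eq_mul_right h3 h4
  have heven : 2 ∣ (sraT N η).index := by
    have h1 : (sraT N η).index ∣ N.index := Subgroup.index_dvd_of_le (sra_N_le_T N η)
    obtain ⟨k, hk⟩ := hP.exists_card_eq
    rw [hNidx, hk] at h1
    obtain ⟨j, _, hj⟩ := (Nat.dvd_prime_pow Nat.prime_two).mp h1
    have hj0 : j ≠ 0 := by
      rintro rfl
      rw [pow_zero, Subgroup.index_eq_one] at hj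
      apply hzT
      rw [hj]
      trivial
    rw [hj]
    exact dvd_pow_self 2 hj0
  have hs2 : 2 ≤ (sraT N η).index :=
    Nat.le_of_dvd (Nat.pos_of_ne_zero (Subgroup.index_ne_zero_of_finite)) heven
  set S := Finset.univ.filter (fun χ : Cfsg.IrrCharacter G =>
      (Cfsg.charDegree (χ : G → ℂ) = 1 ∨ 2 ∣ Cfsg.charDegree (χ : G → ℂ)) ∧ fsNu χ = 1) with hS
  set A := Finset.univ.filter (fun β : G →* ℂˣ => β * β = 1) with hA
  set O := A.image (fun β => afSmul β (sraChi N P hdisj hprod η)) with hO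
  apply sra_count S O (fun χ => Cfsg.charDegree (χ : G → ℂ)) A.card (sraT N η).index
  · intro χ hχ
    rw [hS, Finset.mem_filter] at hχ
    rcases hχ.2.1 with h | h
    · left; exact h
    · right
      exact Nat.le_of_dvd (charDegree_irr χ).2 h
  · intro χ hχ
    obtain ⟨β, hβ, rfl⟩ := Finset.mem_image.mp hχ
    rw [hA, Finset.mem_filter] at hβ
    rw [hS, Finset.mem_filter]
    refine ⟨Finset.mem_univ _, ?_, ?_⟩
    · right
      rw [afSmul_degree, sraChi_degree]
      exact heven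
    · rw [afSmul_fsNu β hβ.2, hnu]
  · intro χ hχ
    obtain ⟨β, hβ, rfl⟩ := Finset.mem_image.mp hχ
    show Cfsg.charDegree (afSmul β (sraChi N P hdisj hprod η) : G → ℂ) = _
    rw [afSmul_degree, sraChi_degree]
  · exact hs2
  · -- linear members inject into A
    have hsub : S.filter (fun χ : Cfsg.IrrCharacter G => Cfsg.charDegree (χ : G → ℂ) = 1) ⊆
        A.image afLin := by
      intro χ hχ
      rw [Finset.mem_filter, hS, Finset.mem_filter] at hχ
      obtain ⟨β, rfl⟩ := afLin_surj χ hχ.2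
      rw [Finset.mem_image]
      refine ⟨β, ?_, rfl⟩
      rw [hA, Finset.mem_filter]
      refine ⟨Finset.mem_univ _, ?_⟩
      have h1 := hχ.1.2.2
      rw [afLin_fsNu] at h1
      by_contra hne
      rw [if_neg hne] at h1
      exact zero_ne_one h1
    exact (Finset.card_le_card hsub).trans Finset.card_image_le
  · exact sra_orbit_card N P hdisj hprod η hqp.out hq hexp

end

end Cfsg.Agent.Lib.Helper25
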