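import Mathlib
import Cfsg.Agent.Lib.Helper24.FSCount
import Cfsg.Agent.Lib.Helper16.SpReal1
import Cfsg.Agent.Lib.Helper25.CliffordCorr
import Cfsg.Agent.Lib.Helper25.CharOrth
import Cfsg.Agent.Lib.Helper25.StronglyRealAvg
import Cfsg.Agent.Lib.Helper24.FSDefZero
import Cfsg.Agent.Lib.Helper11.AbelianQuot
import Cfsg.Agent.Lib.Helper25.DefectZeroCount

/-!
Strongly real characters over a 2-defect-zero character of a normal subgroup of 2-power index.
`dzr_fs_neg_even`: a character with Frobenius–Schur indicator -1 contains the trivial character of any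
subgroup with even multiplicity (invariant alternating form).  `dzr_odd_mult`: for a normal subgroup of
2-power index, an odd multiplicity in a restriction is 1.  `dzr_main`: if `G/N` is a 2-group and
`φ ∈ Irr(N)` has 2-defect zero and is conjugate to its complex conjugate, some strongly real
`χ ∈ Irr(G)` contains `φ` with multiplicity one.
-/

set_option autoImplicit false

namespace Cfsg.Agent.Lib.Helper25
open Cfsg.Agent.Lib.Helper24
open scoped Matrix
open Cfsg.Agent.Lib.helper7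
open Cfsg.Agent.Lib.helper2
open Cfsg.Agent.Lib.Helper11
open scoped ComplexConjugate
section

variable {G : Type*} [Group G] [Fintype G]

/-- For an irreducible representation with an invariant nondegenerate alternating form, the
space of fixed points of any subgroup has even dimension. -/
theorem dzr_even_fixed {n : ℕ} (ρ : Representation ℂ G (Fin n → ℂ)) [ρ.IsIrreducible]
    (M : Matrix (Fin n) (Fin n) ℂ) (hM : ∀ g : G, (fsX ρ g)ᵀ * M * fsX ρ g = M) (hM0 : M ≠ 0)
    (hskew : Mᵀ = -M) (S : Subgroup G) [Fintype S] :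
    ∃ k : ℕ, (Nat.card S : ℂ)⁻¹ * ∑ s : S, ρ.character (s : G) = ((2 * k : ℕ) : ℂ) := by
  classical
  have hu := fs_isUnit ρ M hM hM0
  have hc0 : (Nat.card S : ℂ) ≠ 0 := Nat.cast_ne_zero.mpr Nat.card_pos.ne'
  set e : Matrix (Fin n) (Fin n) ℂ := (Nat.card S : ℂ)⁻¹ • ∑ s : S, fsX ρ (s : G) with he
  have hXe : ∀ t : S, fsX ρ (t : G) * e = e := by
    intro t
    rw [he, Matrix.mul_smul, Finset.mul_sum]
    congr 1
    rw [← Equiv.sum_comp (Equiv.mulLeft t) (fun s : S => fsX ρ (s : G))]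
    apply Finset.sum_congr rfl
    intro s _
    rw [← fsX_mul]
    rfl
  have hee : e * e = e := by
    nth_rewrite 1 [he]
    rw [Matrix.smul_mul, Finset.sum_mul]
    simp only [hXe]
    rw [Finset.sum_const, Finset.card_univ, ← Nat.card_eq_fintype_card,
      ← Nat.cast_smul_eq_nsmul ℂ, smul_smul, inv_mul_cancel₀ hc0, one_smul]
  have htr : e.trace = (Nat.card S : ℂ)⁻¹ * ∑ s : S, ρ.character (s : G) := by
    rw [he, Matrix.trace_smul, Matrix.trace_sum, smul_eq_mul]
    congr 1
    apply Finset.sum_congr rfl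
    intro s _
    rw [fs_char]
  have hXM : ∀ g : G, (fsX ρ g)ᵀ * M = M * fsX ρ g⁻¹ := by
    intro g
    have := fs_intertwine ρ M hM g⁻¹
    rw [inv_inv] at this
    exact this.symm
  have heM : eᵀ * M = M * e := by
    rw [he, Matrix.transpose_smul, Matrix.transpose_sum, Matrix.smul_mul, Matrix.mul_smul,
      Finset.sum_mul, Finset.mul_sum]
    congr 1
    rw [← Equiv.sum_comp (Equiv.inv S) (fun s : S => M * fsX ρ (s : G))]
    apply Finset.sum_congr rfl
    intro s _
    rw [hXM]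
    rfl
  have halt : ∀ x : Fin n → ℂ, x ⬝ᵥ M *ᵥ x = 0 := by
    intro x
    have h1 : x ⬝ᵥ M *ᵥ x = -(x ⬝ᵥ M *ᵥ x) := by
      calc x ⬝ᵥ M *ᵥ x = (x ᵥ* M) ⬝ᵥ x := Matrix.dotProduct_mulVec x M x
        _ = (Mᵀ *ᵥ x) ⬝ᵥ x := by rw [Matrix.mulVec_transpose]
        _ = ((-M) *ᵥ x) ⬝ᵥ x := by rw [hskew]
        _ = -((M *ᵥ x) ⬝ᵥ x) := by rw [Matrix.neg_mulVec, neg_dotProduct]
        _ = -(x ⬝ᵥ M *ᵥ x) := by rw [dotProduct_comm]
    have h2 : (2 : ℂ) * (x ⬝ᵥ M *ᵥ x) = 0 := by linear_combination h1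
    rcases mul_eq_zero.mp h2 with h | h
    · norm_num at h
    · exact h
  have hnd : ∀ x : Fin n → ℂ, e *ᵥ x = x →
      (∀ y : Fin n → ℂ, e *ᵥ y = y → x ⬝ᵥ M *ᵥ y = 0) → x = 0 := by
    intro x hx hxy
    have h1 : ∀ w : Fin n → ℂ, (x ᵥ* M) ⬝ᵥ w = 0 := by
      intro w
      rw [← Matrix.dotProduct_mulVec]
      calc x ⬝ᵥ M *ᵥ w = (e *ᵥ x) ⬝ᵥ M *ᵥ w := by rw [hx]
        _ = (x ᵥ* eᵀ) ⬝ᵥ M *ᵥ w := by rw [Matrix.vecMul_transpose]
        _ = x ⬝ᵥ eᵀ *ᵥ (M *ᵥ w) := (Matrix.dotProduct_mulVec x eᵀ (M *ᵥ w)).symm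
        _ = x ⬝ᵥ (eᵀ * M) *ᵥ w := by rw [Matrix.mulVec_mulVec]
        _ = x ⬝ᵥ (M * e) *ᵥ w := by rw [heM]
        _ = x ⬝ᵥ M *ᵥ (e *ᵥ w) := by rw [Matrix.mulVec_mulVec]
        _ = 0 := by
          apply hxy
          rw [Matrix.mulVec_mulVec, hee]
    have h2 : x ᵥ* M = 0 := dotProduct_eq_zero _ h1
    have hdet : IsUnit M.det := (Matrix.isUnit_iff_isUnit_det M).mp hu
    have h3 : x ᵥ* M ᵥ* M⁻¹ = x := by
      rw [Matrix.vecMul_vecMul, Matrix.mul_nonsing_inv M hdet, Matrix.vecMul_one]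
    rw [← h3, h2, Matrix.zero_vecMul]
  obtain ⟨k, hk⟩ := Cfsg.Agent.Lib.Helper16.SpSemi.alt_rank_even M e hee halt hnd
  refine ⟨k, ?_⟩
  rw [← htr, ← Matrix.trace_toLin'_eq]
  have hidem : IsIdempotentElem (Matrix.toLin' e) := by
    unfold IsIdempotentElem
    rw [Module.End.mul_eq_comp, ← Matrix.toLin'_mul, hee]
  have hproj := LinearMap.IsIdempotentElem.isProj_range (Matrix.toLin' e) hidem
  rw [LinearMap.IsProj.trace hproj, hk]

/-- A real-valued irreducible character with Frobenius–Schur indicator `-1` contains the trivial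
character of any subgroup with even multiplicity. -/
theorem dzr_fs_neg_even (χ : Cfsg.IrrCharacter G) (hν : fsNu χ = -1) (S : Subgroup G) [Fintype S] :
    ∃ k : ℕ, (Nat.card S : ℂ)⁻¹ * ∑ s : S, (χ : G → ℂ) (s : G) = ((2 * k : ℕ) : ℂ) := by
  obtain ⟨n, ρ, hirr, hχ⟩ := χ.2
  have := hirr
  have hreal : ∀ g : G, ((χ : G → ℂ) g).im = 0 := by
    rcases fsNu_cases χ with h0 | ⟨_, hr⟩
    · rw [h0] at hν
      norm_num at hν
    · exact hr
  have hreal' : ∀ g : G, (ρ.character g).im = 0 := by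
    intro g; rw [hχ]; exact hreal g
  obtain ⟨M, hM0, hM⟩ := fs_exists ρ hreal'
  have h1 := fs_symm ρ M hM
  have hnu : fsNu χ = (Nat.card G : ℂ)⁻¹ * ∑ s : G, ρ.character (s * s) := by
    unfold fsNu; rw [hχ]
  rw [← hnu, hν, neg_one_smul] at h1
  obtain ⟨k, hk⟩ := dzr_even_fixed ρ M hM hM0 h1 S
  refine ⟨k, ?_⟩
  rw [← hk, hχ]

end

section

variable {G : Type*} [Group G]

theorem dzr_irr_one_conj {K : Type*} [Group K] (η : Cfsg.IrrCharacter K) :
    conj ((η : K → ℂ) 1) = (η : K → ℂ) 1 := by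
  rw [← (charDegree_irr η).1]
  simp

/-- `Σ_η [η_N, φ] η(1) = |M : N| φ(1)` -/
theorem dzr_sum_mult_deg (M N : Subgroup G) (hNM : N ≤ M) [Fintype M] [Fintype N]
    [Fintype (Cfsg.IrrCharacter M)] (φ : Cfsg.IrrCharacter N) :
    ∑ η : Cfsg.IrrCharacter M,
      Cfsg.classInner (fun n : N => (η : M → ℂ) ⟨(n : G), hNM n.2⟩) (φ : N → ℂ) *
        ((η : M → ℂ) 1) =
      (Nat.card M : ℂ) * ((Nat.card N : ℂ)⁻¹ * (φ : N → ℂ) 1) := by
  classical
  unfold Cfsg.classInner
  have h1 : ∀ η : Cfsg.IrrCharacter M,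
      ((Nat.card N : ℂ)⁻¹ * ∑ n : N, (η : M → ℂ) ⟨(n : G), hNM n.2⟩ * conj ((φ : N → ℂ) n)) *
        (η : M → ℂ) 1 =
      (Nat.card N : ℂ)⁻¹ * ∑ n : N, conj ((φ : N → ℂ) n) *
        ((η : M → ℂ) ⟨(n : G), hNM n.2⟩ * conj ((η : M → ℂ) 1)) := by
    intro η
    rw [dzr_irr_one_conj η, mul_assoc, Finset.sum_mul]
    congr 1
    apply Finset.sum_congr rfl
    intro n _
    ring
  simp only [h1]
  rw [← Finset.mul_sum, Finset.sum_comm]
  simp only [← Finset.mul_sum]
  have h2 : ∀ n : N, ∑ η : Cfsg.IrrCharacter M,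
      (η : M → ℂ) ⟨(n : G), hNM n.2⟩ * conj ((η : M → ℂ) 1) =
      if n = 1 then (Nat.card M : ℂ) else 0 := by
    intro n
    rw [irr_column_orthogonality]
    by_cases hn : n = 1
    · rw [if_pos hn, if_pos]
      · have htop : Subgroup.centralizer ({1} : Set M) = ⊤ := by
          ext x
          simp [Subgroup.mem_centralizer_iff]
        rw [htop, Subgroup.card_top]
      · rw [isConj_one_right]
        subst hn
        rfl
    · rw [if_neg hn, if_neg]
      rw [isConj_one_right]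
      intro h
      apply hn
      apply Subtype.ext
      have := congrArg (fun x : M => (x : G)) h
      simpa using this
  simp only [h2]
  rw [Finset.sum_eq_single (1 : N)]
  · rw [if_pos rfl, dzr_irr_one_conj φ]
    ring
  · intro n _ hn
    rw [if_neg hn, mul_zero]
  · intro h
    exact absurd (Finset.mem_univ _) h

/-- a constituent of a restriction has smaller degree -/
theorem dzr_mult_deg_le (M N : Subgroup G) (hNM : N ≤ M) [Fintype N] (η : Cfsg.IrrCharacter M)
    (φ : Cfsg.IrrCharacter N) (r : ℕ)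
    (hr : Cfsg.classInner (fun n : N => (η : M → ℂ) ⟨(n : G), hNM n.2⟩) (φ : N → ℂ) = (r : ℂ)) :
    r * Cfsg.charDegree (φ : N → ℂ) ≤ Cfsg.charDegree (η : M → ℂ) := by
  classical
  have : Fintype (Cfsg.IrrCharacter N) := Fintype.ofFinite _
  have hR : Cfsg.IsCharacter N (fun n : N => (η : M → ℂ) ⟨(n : G), hNM n.2⟩) :=
    isCharacter_comp_hom (isCharacter_of_irr η) (Subgroup.inclusion hNM)
  obtain ⟨m, hm, hexp⟩ := isCharacter_expansion hR
  have hmφ : m φ = r := by
    have h0 := hm φ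
    rw [hr] at h0
    exact_mod_cast h0.symm
  have h1 := congrFun hexp 1
  simp only [Finset.sum_apply, Pi.smul_apply, smul_eq_mul] at h1
  have h2 : (η : M → ℂ) ⟨((1 : N) : G), hNM (1 : N).2⟩ = (η : M → ℂ) 1 := rfl
  rw [h2, ← (charDegree_irr η).1] at h1
  have h3 : ∀ θ : Cfsg.IrrCharacter N, (θ : N → ℂ) 1 = (Cfsg.charDegree (θ : N → ℂ) : ℂ) :=
    fun θ => (charDegree_irr θ).1.symm
  simp only [h3] at h1
  have h4 : Cfsg.charDegree (η : M → ℂ) =
      ∑ θ : Cfsg.IrrCharacter N, m θ * Cfsg.charDegree (θ : N → ℂ) := by exact_mod_cast h1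
  rw [h4, ← hmφ]
  exact Finset.single_le_sum (f := fun θ : Cfsg.IrrCharacter N => m θ * Cfsg.charDegree (θ : N → ℂ))
    (fun _ _ => Nat.zero_le _) (Finset.mem_univ φ)

/-- `Σ_η [η_N, φ]² ≤ |M : N|` -/
theorem dzr_sum_sq_le (M N : Subgroup G) (hNM : N ≤ M) [Fintype M] [Fintype N]
    [Fintype (Cfsg.IrrCharacter M)] (φ : Cfsg.IrrCharacter N) (r : Cfsg.IrrCharacter M → ℕ)
    (hr : ∀ η : Cfsg.IrrCharacter M,
      Cfsg.classInner (fun n : N => (η : M → ℂ) ⟨(n : G), hNM n.2⟩) (φ : N → ℂ) = (r η : ℂ))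
    (k : ℕ) (hk : Nat.card M = k * Nat.card N) : ∑ η : Cfsg.IrrCharacter M, r η ^ 2 ≤ k := by
  have hA := dzr_sum_mult_deg M N hNM φ
  simp only [hr] at hA
  have hN0 : (Nat.card N : ℂ) ≠ 0 := Nat.cast_ne_zero.mpr Nat.card_pos.ne'
  have h1 : ∑ η : Cfsg.IrrCharacter M, ((r η * Cfsg.charDegree (η : M → ℂ) : ℕ) : ℂ) =
      ((k * Cfsg.charDegree (φ : N → ℂ) : ℕ) : ℂ) := by
    push_cast
    rw [(charDegree_irr φ).1]
    have h2 : ∀ η : Cfsg.IrrCharacter M, (Cfsg.charDegree (η : M → ℂ) : ℂ) = (η : M → ℂ) 1 :=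
      fun η => (charDegree_irr η).1
    simp only [h2]
    rw [hA, hk]
    push_cast
    field_simp
  have h3 : ∑ η : Cfsg.IrrCharacter M, r η * Cfsg.charDegree (η : M → ℂ) =
      k * Cfsg.charDegree (φ : N → ℂ) := by
    rw [← Nat.cast_sum] at h1
    exact_mod_cast h1
  have h4 : (∑ η : Cfsg.IrrCharacter M, r η ^ 2) * Cfsg.charDegree (φ : N → ℂ) ≤
      k * Cfsg.charDegree (φ : N → ℂ) := by
    rw [← h3, Finset.sum_mul]
    apply Finset.sum_le_sum
    intro η _
    have := dzr_mult_deg_le M N hNM η φ (r η) (hr η)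
    calc r η ^ 2 * Cfsg.charDegree (φ : N → ℂ) = r η * (r η * Cfsg.charDegree (φ : N → ℂ)) := by
          ring
      _ ≤ r η * Cfsg.charDegree (η : M → ℂ) := Nat.mul_le_mul_left _ this
  exact Nat.le_of_mul_le_mul_right h4 (charDegree_irr φ).2

/-- a normal subgroup of 2-power index lies in a normal subgroup of twice its order -/
theorem dzr_exists_mid [Finite G] (N : Subgroup G) [hN : N.Normal] (k : ℕ)
    (hidx : N.index = 2 ^ (k + 1)) :
    ∃ M : Subgroup G, M.Normal ∧ N ≤ M ∧ M.index = 2 ^ k ∧ Nat.card M = 2 * Nat.card N := by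
  have : Fact (Nat.Prime 2) := ⟨Nat.prime_two⟩
  have hQ : Nat.card (G ⧸ N) = 2 ^ (k + 1) := by
    rw [← hidx]; rfl
  have hQp : IsPGroup 2 (G ⧸ N) := IsPGroup.of_card hQ
  have htop : (⊤ : Subgroup (G ⧸ N)) ≠ ⊥ := by
    intro h
    have h1 : Nat.card (⊤ : Subgroup (G ⧸ N)) = 1 := by rw [h]; exact Subgroup.card_bot
    rw [Subgroup.card_top, hQ] at h1
    have : 2 ≤ 2 ^ (k + 1) := by
      calc 2 = 2 ^ 1 := by norm_num
        _ ≤ 2 ^ (k + 1) := Nat.pow_le_pow_right (by norm_num) (by omega)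
    omega
  obtain ⟨z, -, hz1, hz2, hzc⟩ := sra_central_invol (⊤ : Subgroup (G ⧸ N))
    (hQp.to_subgroup ⊤) htop
  set Z : Subgroup (G ⧸ N) := Subgroup.zpowers z with hZ
  have hZn : Z.Normal := by
    constructor
    intro x hx g
    have hxc : x ∈ Subgroup.center (G ⧸ N) := by
      have : Subgroup.zpowers z ≤ Subgroup.center (G ⧸ N) := by
        rw [Subgroup.zpowers_le]
        exact Subgroup.mem_center_iff.mpr (fun g => hzc g (Subgroup.mem_top g))
      exact this hx
    have h1 := Subgroup.mem_center_iff.mp hxc g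
    have h2 : g * x * g⁻¹ = x := by rw [h1]; group
    rw [h2]; exact hx
  have hZcard : Nat.card Z = 2 := by
    rw [hZ, Nat.card_zpowers]
    exact orderOf_eq_prime (by rw [pow_two]; exact hz2) hz1
  refine ⟨Z.comap (QuotientGroup.mk' N), hZn.comap _, ?_, ?_, ?_⟩
  · intro n hn
    rw [Subgroup.mem_comap]
    have : (QuotientGroup.mk' N) n = 1 := (QuotientGroup.eq_one_iff n).mpr hn
    rw [this]
    exact Z.one_mem
  · rw [Subgroup.index_comap_of_surjective Z (QuotientGroup.mk'_surjective N)]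
    have h1 := Subgroup.index_mul_card Z
    rw [hZcard, hQ, pow_succ] at h1
    omega
  · have hMidx : (Z.comap (QuotientGroup.mk' N)).index = 2 ^ k := by
      rw [Subgroup.index_comap_of_surjective Z (QuotientGroup.mk'_surjective N)]
      have h1 := Subgroup.index_mul_card Z
      rw [hZcard, hQ, pow_succ] at h1
      omega
    have h1 := Subgroup.index_mul_card (Z.comap (QuotientGroup.mk' N))
    have h2 := Subgroup.index_mul_card N
    rw [hMidx] at h1
    rw [hidx, pow_succ] at h2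
    have hpos : 0 < 2 ^ k := by positivity
    have h3 : 2 ^ k * Nat.card ↥(Z.comap (QuotientGroup.mk' N)) = 2 ^ k * (2 * Nat.card N) := by
      rw [h1, ← h2]; ring
    exact Nat.eq_of_mul_eq_mul_left hpos h3

/-- for a normal subgroup of 2-power index, an odd multiplicity in a restriction equals one -/
theorem dzr_odd_mult [Fintype G] : ∀ (k : ℕ) (N : Subgroup G) [N.Normal] [Fintype N],
    N.index = 2 ^ k → ∀ (χ : Cfsg.IrrCharacter G) (φ : Cfsg.IrrCharacter N) (e : ℕ),
    Cfsg.classInner (fun n : N => (χ : G → ℂ) n) (φ : N → ℂ) = (e : ℂ) → Odd e → e = 1 := by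
  intro k
  induction k with
  | zero =>
    intro N _ _ hidx χ φ e he hodd
    rw [pow_zero, Subgroup.index_eq_one] at hidx
    subst hidx
    have hirr : Cfsg.IsIrrCharacter (⊤ : Subgroup G) (fun n : (⊤ : Subgroup G) => (χ : G → ℂ) n) :=
      h7_isIrr_comp_equiv (Subgroup.topEquiv : (⊤ : Subgroup G) ≃* G) _ χ.2
    have h1 := irr_classInner (⟨_, hirr⟩ : Cfsg.IrrCharacter (⊤ : Subgroup G)) φ
    rw [he] at h1
    split_ifs at h1
    · exact_mod_cast h1
    · have : e = 0 := by exact_mod_cast h1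
      subst this
      exact absurd hodd (by decide)
  | succ k ih =>
    intro N _ _ hidx χ φ e he hodd
    classical
    obtain ⟨M, hMn, hNM, hMidx, hMcard⟩ := dzr_exists_mid N k hidx
    have := hMn
    have : Fintype M := Fintype.ofFinite _
    have : Fintype (Cfsg.IrrCharacter M) := Fintype.ofFinite _
    have hR := isCharacter_restrict (isCharacter_of_irr χ) M
    obtain ⟨m, hm, hexp⟩ := isCharacter_expansion hR
    have hrex : ∀ η : Cfsg.IrrCharacter M, ∃ r : ℕ,
        Cfsg.classInner (fun n : N => (η : M → ℂ) ⟨(n : G), hNM n.2⟩) (φ : N → ℂ) = (r : ℂ) :=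
      fun η => classInner_character_nat
        (isCharacter_comp_hom (isCharacter_of_irr η) (Subgroup.inclusion hNM)) (isCharacter_of_irr φ)
    choose r hr using hrex
    have hsum : e = ∑ η : Cfsg.IrrCharacter M, m η * r η := by
      have h1 : (fun n : N => (χ : G → ℂ) n) = ∑ η : Cfsg.IrrCharacter M,
          (m η : ℂ) • (fun n : N => (η : M → ℂ) ⟨(n : G), hNM n.2⟩) := by
        funext n
        have h0 := congrFun hexp ⟨(n : G), hNM n.2⟩
        simp only [Finset.sum_apply, Pi.smul_apply, smul_eq_mul] at h0 ⊢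
        exact h0
      have h2 : Cfsg.classInner (fun n : N => (χ : G → ℂ) n) (φ : N → ℂ) =
          ∑ η : Cfsg.IrrCharacter M, (m η : ℂ) * (r η : ℂ) := by
        rw [h1, classInner_sum_left]
        apply Finset.sum_congr rfl
        intro η _
        rw [classInner_smul_left, hr]
      rw [he] at h2
      have h3 : (e : ℂ) = ((∑ η : Cfsg.IrrCharacter M, m η * r η : ℕ) : ℂ) := by
        rw [h2]; push_cast; rfl
      exact_mod_cast h3
    have hsq : ∑ η : Cfsg.IrrCharacter M, r η ^ 2 ≤ 2 := dzr_sum_sq_le M N hNM φ r hr 2 hMcard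
    have hr1 : ∀ η : Cfsg.IrrCharacter M, r η ≤ 1 := by
      intro η
      by_contra h
      push Not at h
      have h1 : r η ^ 2 ≤ ∑ η : Cfsg.IrrCharacter M, r η ^ 2 :=
        Finset.single_le_sum (f := fun η : Cfsg.IrrCharacter M => r η ^ 2)
          (fun _ _ => Nat.zero_le _) (Finset.mem_univ η)
      nlinarith
    set R := Finset.univ.filter (fun η : Cfsg.IrrCharacter M => r η ≠ 0 ∧ m η ≠ 0) with hRdef
    have hRcard : R.card ≤ 2 := by
      have h1 : R.card = ∑ η ∈ R, r η ^ 2 := by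
        rw [Finset.card_eq_sum_ones]
        apply Finset.sum_congr rfl
        intro η hη
        have h1 := hr1 η
        have h2 := (Finset.mem_filter.mp hη).2.1
        have h3 : r η = 1 := by omega
        rw [h3]; norm_num
      rw [h1]
      exact (Finset.sum_le_sum_of_subset (Finset.filter_subset _ _)).trans hsq
    have he2 : e = ∑ η ∈ R, m η := by
      rw [hsum, hRdef, Finset.sum_filter]
      apply Finset.sum_congr rfl
      intro η _
      by_cases h : r η = 0
      · simp [h]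
      · have h3 : r η = 1 := by have := hr1 η; omega
        by_cases h4 : m η = 0
        · simp [h4]
        · simp [h3, h4]
    have hcl := h7_irr_isClassFunction χ.2
    have heq : ∀ η η' : Cfsg.IrrCharacter M, m η ≠ 0 → m η' ≠ 0 → m η' = m η := by
      intro η η' h1 h2
      have h1' : Cfsg.classInner (fun n : M => (χ : G → ℂ) n) (η : M → ℂ) ≠ 0 := by
        rw [hm η]; exact_mod_cast h1
      have h2' : Cfsg.classInner (fun n : M => (χ : G → ℂ) n) (η' : M → ℂ) ≠ 0 := by
        rw [hm η']; exact_mod_cast h2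
      obtain ⟨g, hg⟩ := h7_clifford_conj M (χ : G → ℂ) χ.2 (η : M → ℂ) (η' : M → ℂ) η.2 η'.2 h1' h2'
      have h3 := h7_classInner_restrict_cj M (χ : G → ℂ) hcl (η : M → ℂ) g
      rw [← hg, hm η', hm η] at h3
      exact_mod_cast h3
    have hih : ∀ η : Cfsg.IrrCharacter M, Odd (m η) → m η = 1 :=
      fun η ho => ih M hMidx χ η (m η) (hm η) ho
    rcases Finset.eq_empty_or_nonempty R with hemp | ⟨η₀, hη₀⟩
    · rw [hemp, Finset.sum_empty] at he2
      subst he2
      exact absurd hodd (by decide)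
    · have hm0 : m η₀ ≠ 0 := (Finset.mem_filter.mp hη₀).2.2
      have he3 : e = R.card * m η₀ := by
        rw [he2, Finset.sum_congr rfl (fun η hη => heq η₀ η hm0 (Finset.mem_filter.mp hη).2.2),
          Finset.sum_const, smul_eq_mul]
      have hRpos : 0 < R.card := Finset.card_pos.mpr ⟨η₀, hη₀⟩
      rw [he3] at hodd
      have hodd1 : Odd R.card := (Nat.odd_mul.mp hodd).1
      have hodd2 : Odd (m η₀) := (Nat.odd_mul.mp hodd).2
      have hR1 : R.card = 1 := by
        rcases hodd1 with ⟨j, hj⟩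
        omega
      rw [he3, hR1, one_mul]
      exact hih η₀ hodd2

end

section

/-- parity under an involution: an odd total weight forces a fixed point of odd weight -/
theorem dzr_parity {α : Type*} [Fintype α] [DecidableEq α] (σ : α → α) (hσ : ∀ x, σ (σ x) = x)
    (w : α → ℕ) (hw : ∀ x, w (σ x) = w x) (hodd : Odd (∑ x : α, w x)) :
    ∃ x : α, σ x = x ∧ Odd (w x) := by
  by_contra hcon
  push Not at hcon
  have h1 : ∑ x : α, w x = ∑ x ∈ Finset.univ.filter (fun x => σ x = x), w x +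
      ∑ x ∈ Finset.univ.filter (fun x => ¬ σ x = x), w x :=
    (Finset.sum_filter_add_sum_filter_not Finset.univ _ w).symm
  have h2 : Even (∑ x ∈ Finset.univ.filter (fun x => σ x = x), w x) := by
    apply Finset.even_sum
    intro x hx
    have := hcon x (Finset.mem_filter.mp hx).2
    exact Nat.not_odd_iff_even.mp this
  have h3 : Even (∑ x ∈ Finset.univ.filter (fun x => ¬ σ x = x), w x) := by
    rw [← ZMod.natCast_eq_zero_iff_even, Nat.cast_sum]
    apply Finset.sum_involution (fun x _ => σ x)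
    · intro a _
      rw [hw a]
      exact CharTwo.add_self_eq_zero _
    · intro a ha _
      exact (Finset.mem_filter.mp ha).2
    · intro a ha
      rw [Finset.mem_filter] at ha ⊢
      refine ⟨Finset.mem_univ _, ?_⟩
      rw [hσ a]
      intro h
      exact ha.2 h.symm
    · intro a _
      exact hσ a
  rw [h1] at hodd
  exact (Nat.not_odd_iff_even.mpr (h2.add h3)) hodd

variable {G : Type*} [Group G] [Fintype G]

/-- a character induced from a normal subgroup, when the inducing character is conjugate to its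
complex conjugate, is real-valued -/
theorem dzr_ind_real (N : Subgroup G) [hN : N.Normal] (φ : N → ℂ) (g₀ : G)
    (hconj : ∀ n n' : N, (n' : G) = g₀ * (n : G) * g₀⁻¹ → φ n' = conj (φ n)) (g : G) :
    conj (Cfsg.indFun N φ g) = Cfsg.indFun N φ g := by
  have hebz : ∀ y : G, conj (Cfsg.extendByZero N φ y) = Cfsg.extendByZero N φ (g₀ * y * g₀⁻¹) := by
    intro y
    by_cases hy : y ∈ N
    · have hy' : g₀ * y * g₀⁻¹ ∈ N := hN.conj_mem y hy g₀
      rw [h7_extendByZero_mem N φ y hy, h7_extendByZero_mem N φ _ hy']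
      exact (hconj ⟨y, hy⟩ ⟨g₀ * y * g₀⁻¹, hy'⟩ rfl).symm
    · have hy' : g₀ * y * g₀⁻¹ ∉ N := by
        intro h
        apply hy
        have := hN.conj_mem _ h g₀⁻¹
        simpa [mul_assoc] using this
      rw [h7_extendByZero_not_mem N φ y hy, h7_extendByZero_not_mem N φ _ hy', map_zero]
  unfold Cfsg.indFun
  rw [map_mul, map_inv₀, Complex.conj_natCast, map_sum]
  congr 1
  simp only [hebz]
  rw [← Equiv.sum_comp (Equiv.mulRight g₀⁻¹) (fun x => Cfsg.extendByZero N φ (x⁻¹ * g * x))]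
  apply Finset.sum_congr rfl
  intro x _
  congr 1
  simp only [Equiv.coe_mulRight, mul_inv_rev, inv_inv]
  group

/-- an induced 2-defect-zero character vanishes on nontrivial 2-elements -/
theorem dzr_ind_vanish (N : Subgroup G) [hN : N.Normal] [Fintype N] (φ : Cfsg.IrrCharacter N)
    (hdef : 2 ^ (Nat.card N).factorization 2 ∣ Cfsg.charDegree (φ : N → ℂ)) (s : G)
    (hs : 2 ∣ orderOf s) : Cfsg.indFun N (φ : N → ℂ) s = 0 := by
  by_cases hsN : s ∈ N
  · unfold Cfsg.indFun
    rw [Finset.sum_eq_zero, mul_zero]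
    intro x _
    have hmem : x⁻¹ * s * x ∈ N := by
      have := hN.conj_mem s hsN x⁻¹
      simpa using this
    rw [h7_extendByZero_mem N _ _ hmem]
    apply fz_vanish φ 2 Nat.prime_two hdef
    rw [Subgroup.orderOf_mk]
    have h1 : orderOf (x⁻¹ * s * x) = orderOf s := by
      have := MulEquiv.orderOf_eq (MulAut.conj x⁻¹) s
      simpa using this
    rw [h1]
    exact hs
  · exact indFun_eq_zero_of_not_mem N _ s hsN

theorem dzr_main (N : Subgroup G) [hN : N.Normal] (h2 : IsPGroup 2 (G ⧸ N))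
    (φ : Cfsg.IrrCharacter N)
    (hdef : 2 ^ (Nat.card N).factorization 2 ∣ Cfsg.charDegree (φ : N → ℂ))
    (hconj : ∃ g : G, ∀ n n' : N, (n' : G) = g * (n : G) * g⁻¹ →
      (φ : N → ℂ) n' = conj ((φ : N → ℂ) n)) [Fintype N] :
    ∃ χ : Cfsg.IrrCharacter G, fsNu χ = 1 ∧
      Cfsg.classInner (fun n : N => (χ : G → ℂ) n) (φ : N → ℂ) = 1 := by
  classical
  have : Fact (Nat.Prime 2) := ⟨Nat.prime_two⟩
  have : Fintype (Cfsg.IrrCharacter G) := Fintype.ofFinite _
  obtain ⟨g₀, hg₀⟩ := hconj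
  obtain ⟨S⟩ := (inferInstance : Nonempty (Sylow 2 G))
  have : Fintype (S : Subgroup G) := Fintype.ofFinite _
  set Φ := Cfsg.indFun N (φ : N → ℂ) with hΦ
  have hΦchar : Cfsg.IsCharacter G Φ := isCharacter_indFun N _ (isCharacter_of_irr φ)
  obtain ⟨m, hm, hexp⟩ := isCharacter_expansion hΦchar
  -- the average over S
  have hS0 : (Nat.card (S : Subgroup G) : ℂ) ≠ 0 := Nat.cast_ne_zero.mpr Nat.card_pos.ne'
  have haex : ∀ χ : Cfsg.IrrCharacter G, ∃ a : ℕ,
      (Nat.card (S : Subgroup G) : ℂ)⁻¹ * ∑ s : (S : Subgroup G), (χ : G → ℂ) (s : G) = (a : ℂ) := by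
    intro χ
    obtain ⟨a, ha⟩ := classInner_character_nat
      (isCharacter_restrict (isCharacter_of_irr χ) (S : Subgroup G))
      (isCharacter_of_irr (trivIrr (S : Subgroup G)))
    refine ⟨a, ?_⟩
    rw [← ha]
    unfold Cfsg.classInner
    simp
  choose a ha using haex
  -- numerics
  obtain ⟨b, hb⟩ := h2.exists_card_eq
  have hidx : N.index = 2 ^ b := by rw [← hb]; rfl
  set d := Cfsg.charDegree (φ : N → ℂ) with hd
  set v := (Nat.card N).factorization 2 with hv
  have hdN : d ∣ Nat.card N := charDegree_dvd_card φ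
  have hdef' := hdef
  obtain ⟨mm, hmm⟩ := hdef'
  have hmmodd : Odd mm := by
    rw [← Nat.not_even_iff_odd]
    intro heven
    obtain ⟨j, hj⟩ := even_iff_two_dvd.mp heven
    have h1 : 2 ^ (v + 1) ∣ Nat.card N := by
      apply dvd_trans _ hdN
      rw [hmm, hj, pow_succ]
      exact ⟨j, by ring⟩
    exact Nat.pow_succ_factorization_not_dvd Nat.card_pos.ne' Nat.prime_two h1
  have hScard : Nat.card (S : Subgroup G) = 2 ^ (v + b) := by
    rw [Sylow.card_eq_multiplicity]
    congr 1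
    have h1 : Nat.card G = Nat.card N * 2 ^ b := by
      rw [← hidx, mul_comm]
      exact (Subgroup.index_mul_card N).symm
    rw [h1, Nat.factorization_mul Nat.card_pos.ne' (by positivity), Finsupp.add_apply,
      Nat.Prime.factorization_pow Nat.prime_two]
    simp [hv]
  -- the average of Φ over S is mm
  have hΦS : (Nat.card (S : Subgroup G) : ℂ)⁻¹ * ∑ s : (S : Subgroup G), Φ (s : G) = (mm : ℂ) := by
    have h1 : ∑ s : (S : Subgroup G), Φ (s : G) = Φ 1 := by
      rw [Finset.sum_eq_single (1 : (S : Subgroup G))]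
      · rfl
      · intro s _ hs1
        apply dzr_ind_vanish N φ hdef
        have hsp : IsPGroup 2 (S : Subgroup G) := S.isPGroup'
        obtain ⟨j, hj⟩ := (IsPGroup.iff_orderOf.mp hsp) s
        have hj0 : j ≠ 0 := by
          rintro rfl
          rw [pow_zero, orderOf_eq_one_iff] at hj
          exact hs1 hj
        rw [Subgroup.orderOf_coe, hj]
        exact dvd_pow_self 2 hj0
      · intro h
        exact absurd (Finset.mem_univ _) h
    rw [h1, hΦ, h7_indFun_one, hidx, ← (charDegree_irr φ).1, ← hd, hmm, hScard]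
    push_cast
    rw [pow_add]
    field_simp
  -- expansion of the average
  have hsumw : mm = ∑ χ : Cfsg.IrrCharacter G, m χ * a χ := by
    have h1 : (Nat.card (S : Subgroup G) : ℂ)⁻¹ * ∑ s : (S : Subgroup G), Φ (s : G) =
        ∑ χ : Cfsg.IrrCharacter G, (m χ : ℂ) * (a χ : ℂ) := by
      have h2 : ∀ s : (S : Subgroup G), Φ (s : G) =
          ∑ χ : Cfsg.IrrCharacter G, (m χ : ℂ) * (χ : G → ℂ) (s : G) := by
        intro s
        have h0 := congrFun hexp (s : G)
        simp only [Finset.sum_apply, Pi.smul_apply, smul_eq_mul] at h0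
        exact h0
      simp only [h2]
      rw [Finset.sum_comm, Finset.mul_sum]
      apply Finset.sum_congr rfl
      intro χ _
      rw [← ha χ, ← Finset.mul_sum]
      ring
    rw [hΦS] at h1
    have h3 : (mm : ℂ) = ((∑ χ : Cfsg.IrrCharacter G, m χ * a χ : ℕ) : ℂ) := by
      rw [h1]; push_cast; rfl
    exact_mod_cast h3
  -- invariance under complex conjugation
  have hΦreal : ∀ g : G, conj (Φ g) = Φ g := dzr_ind_real N (φ : N → ℂ) g₀ hg₀
  have hmconj : ∀ χ : Cfsg.IrrCharacter G, m (irrConj χ) = m χ := by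
    intro χ
    have h1 : Cfsg.classInner Φ (irrConj χ : G → ℂ) = conj (Cfsg.classInner Φ (χ : G → ℂ)) := by
      unfold Cfsg.classInner
      rw [map_mul, map_inv₀, Complex.conj_natCast, map_sum]
      congr 1
      apply Finset.sum_congr rfl
      intro g _
      rw [irrConj_apply, map_mul, hΦreal]
    rw [hm, hm, Complex.conj_natCast] at h1
    exact_mod_cast h1
  have haconj : ∀ χ : Cfsg.IrrCharacter G, a (irrConj χ) = a χ := by
    intro χ
    have h1 : (a (irrConj χ) : ℂ) = conj (a χ : ℂ) := by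
      rw [← ha, ← ha, map_mul, map_inv₀, Complex.conj_natCast, map_sum]
      rfl
    rw [Complex.conj_natCast] at h1
    exact_mod_cast h1
  have hinvol : ∀ χ : Cfsg.IrrCharacter G, irrConj (irrConj χ) = χ := by
    intro χ
    apply Subtype.ext
    funext g
    rw [irrConj_apply, irrConj_apply, Complex.conj_conj]
  obtain ⟨χ, hχfix, hχodd⟩ := dzr_parity irrConj hinvol (fun χ => m χ * a χ)
    (fun χ => by rw [hmconj, haconj]) (by rw [← hsumw]; exact hmmodd)
  have hmodd : Odd (m χ) := (Nat.odd_mul.mp hχodd).1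
  have haodd : Odd (a χ) := (Nat.odd_mul.mp hχodd).2
  refine ⟨χ, ?_, ?_⟩
  · -- indicator
    have hreal : ∀ g : G, ((χ : G → ℂ) g).im = 0 := by
      intro g
      have h1 := congrArg (fun ψ : Cfsg.IrrCharacter G => (ψ : G → ℂ) g) hχfix
      simp only [irrConj_apply] at h1
      exact Complex.conj_eq_iff_im.mp h1
    rcases mul_self_eq_one_iff.mp (fsNu_mul_self_of_real χ hreal) with h | h
    · exact h
    · exfalso
      obtain ⟨k, hk⟩ := dzr_fs_neg_even χ h (S : Subgroup G)
      rw [ha χ] at hk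
      have hk' : a χ = 2 * k := by exact_mod_cast hk
      rw [hk'] at haodd
      exact (Nat.not_odd_iff_even.mpr (even_two_mul k)) haodd
  · -- multiplicity
    have hcl := h7_irr_isClassFunction χ.2
    have h1 : Cfsg.classInner (fun n : N => (χ : G → ℂ) n) (φ : N → ℂ) = (m χ : ℂ) := by
      apply classInner_symm_of_nat
      rw [← h7_frobenius_reciprocity N (φ : N → ℂ) (χ : G → ℂ) hcl]
      exact hm χ
    have h2 := dzr_odd_mult b N hidx χ φ (m χ) h1 hmodd
    rw [h1, h2, Nat.cast_one]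

end

end Cfsg.Agent.Lib.Helper25
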