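import Mathlib
import Cfsg.Prelude.Def_GeometricClasses
import Cfsg.Agent.Lib.Helper27.ASC.Defs
import Cfsg.Agent.Lib.helper23.ASCO.Defs
import Cfsg.Agent.Lib.Helper19.ASG.Defs
import Cfsg.Agent.Lib.Helper1.ASGCLIF3
import Cfsg.Agent.Lib.Helper25.ASO.Defs
import Cfsg.Agent.Lib.helper23.ASE.Defs
import Cfsg.Agent.Lib.Helper20.ASE10M.Defs
import Cfsg.Agent.Lib.Helper20.E10MF5HALF

set_option autoImplicit false
set_option linter.unusedVariables false
set_option linter.unusedSectionVars false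

/-!
# Project E10M (leader helper16), field block stage 2 (sub-leader helper20) : piece F5-ISO (`efield_iso_plus`)

The statement VERBATIM vs `Helper20/ASE10M/FieldSkel5.lean.txt`; the proof is helper20's `e10mf5half_iso` (the same statement, proved
inside the assembly file `Helper20.E10MF5HALF` because the piece was on the critical path).
-/

namespace Cfsg.Agent.Lib.Helper16.E10M

open Cfsg Cfsg.Geo Cfsg.Agent.Lib.Helper27.ASC Cfsg.Agent.Lib.helper23.ASCO Cfsg.Agent.Lib.Helper19.ASG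
  Cfsg.Agent.Lib.Helper25.ASO
open scoped MatrixGroups Matrix Kronecker

variable {n : ℕ} {F : Type*} [Field F] [Fintype F]

/-- F5-ISO : an isotropic vector of the binary form gives a totally singular `K`-line: plus type.  (`x₀ = a v + b w ≠ 0` (`hc.inj`);
`U = {k x₀ | k ∈ K}` has dimension `r` (`k ↦ k x₀` injective: `k ≠ 0` invertible); `Q (k x₀) = ℓ (k² (a² + s a b + β b²)) = 0`.) -/
theorem efield_iso_plus {r : ℕ} (hn : n = 2 * r) (Q : QuadraticForm F (Fin n → F))
    (K : Subalgebra F (Matrix (Fin n) (Fin n) F)) (hK : IsFieldSubalgebra r K)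
    {ℓ : Matrix (Fin n) (Fin n) F →ₗ[F] F} {v w : Fin n → F} {s β : Matrix (Fin n) (Fin n) F}
    (hc : EFieldCoord (⇑Q) K ℓ v w s β) (a b : Matrix (Fin n) (Fin n) F) (ha : a ∈ K) (hb : b ∈ K)
    (hab : a ≠ 0 ∨ b ≠ 0) (h0 : a * a + s * a * b + β * b * b = 0) : IsPlusTypeOn (⇑Q) ⊤ :=
  e10mf5half_iso hn Q K hK hc a b ha hb hab h0

end Cfsg.Agent.Lib.Helper16.E10M
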