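import Mathlib
import Cfsg.Prelude.Def_EvenType
import Cfsg.Prelude.Def_ChevStructure
import Cfsg.Prelude.Def_LieTypes
import Cfsg.Prelude.Def_ChevB2
import Cfsg.Agent.Lib.helper14.E2R.Defs
import Cfsg.Agent.Lib.Helper25.E2RMcore
import Cfsg.Agent.Lib.Helper20.E2RU2
import Cfsg.Agent.Lib.Helper27.E2RU3

/-!
# E2R row M1c (`psu_case`), verbatim: `e2rm1c_core` on helper20's U2 (`psu_rank_a`) and helper27's U3 (`psu_rank_b`).
-/

set_option autoImplicit false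

namespace Cfsg.Agent.Lib.helper14.E2R

open Cfsg Cfsg.Lie

universe u v w

/-- M1c [S-M]. `PSU_n(q)`: `q = 2 ^ j`, `j ≥ 1` (X5); `n = 3`: `q ≠ 2`, `q ≠ 4` by `h2` (`card F = 16`), so `q ≥ 8`, U2;
`n ≥ 4`: U3; X1. -/
theorem psu_case {G : Type u} [Group G] (h : IsPSUChar 2 G)
    (h2 : ¬ ∃ (F : Type) (_ : Field F) (_ : Fintype F), Fintype.card F = 16 ∧ Nonempty (G ≃* Cfsg.PSU 3 F 4)) :
    PRankAtLeast 2 3 G := by
  exact e2rm1c_core (fun F _ _ _ n q hF hn hq => psu_rank_a n q hF hn hq)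
    (fun F _ _ _ n q hF hn => psu_rank_b n q hF hn) h h2

end Cfsg.Agent.Lib.helper14.E2R
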