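import Mathlib
import Cfsg.Prelude.Def_EvenType
import Cfsg.Prelude.Def_ChevStructure
import Cfsg.Prelude.Def_LieTypes
import Cfsg.Prelude.Def_ChevB2
import Cfsg.Agent.Lib.helper14.E2R.Defs
import Cfsg.Agent.Lib.Helper25.E2RMcore
import Cfsg.Agent.Lib.Helper29.E2RC2
import Cfsg.Agent.Lib.helper8.E2RT1
import Cfsg.Agent.Lib.Helper9.E2RT2

/-!
# E2R row M1e (`exc_case`), verbatim: `e2rm1e_core` on helper29's C2 (`chev_rank`), helper8's T1 (`tw_d4_rank`) and
helper9's T2 (`tw_e6_rank`).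
-/

set_option autoImplicit false

namespace Cfsg.Agent.Lib.helper14.E2R

open Cfsg Cfsg.Lie

universe u v w

/-- M1e [S-M]. Exceptional and twisted groups: C2 (every case), T1, T2 (`IsPrimePow q → 2 ≤ q`); X1. -/
theorem exc_case {G : Type u} [Group G] (h : IsExceptionalChevChar 2 G ∨ IsTwistedE6D4Char 2 G) :
    PRankAtLeast 2 3 G := by
  exact e2rm1e_core (fun F _ _ _ D hD => chev_rank D hD)
    (fun K _ _ _ q hq hK => tw_d4_rank q hq hK) (fun K _ _ _ q hq hK => tw_e6_rank q hq hK) h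

end Cfsg.Agent.Lib.helper14.E2R
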