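import Mathlib
import Cfsg.Prelude.Def_EvenType
import Cfsg.Prelude.Def_ChevStructure
import Cfsg.Prelude.Def_LieTypes
import Cfsg.Prelude.Def_ChevB2
import Cfsg.Agent.Lib.helper14.E2R.Defs
import Cfsg.Agent.Lib.Helper25.E2RMcore
import Cfsg.Agent.Lib.helper3.E2RT5
import Cfsg.Agent.Lib.Helper9.E2RT3

/-!
# E2R row M1f (`sz_case`), verbatim: `e2rm1f_core` on helper3's T5 (`sz_rank`) and helper9's T3 (`tw_f4_rank`).
-/

set_option autoImplicit false

namespace Cfsg.Agent.Lib.helper14.E2R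

open Cfsg Cfsg.Lie

universe u v w

/-- M1f [S-M]. Suzuki groups T5; `²F₄(2^(2m+1))`, `m ≥ 1`: `CharP K 2` from `card K = 2 ^ (2 m + 1)`
(`charP_of_card_eq_prime_pow` or `CharP.exists` + `FiniteField.card`), `8 ≤ card K`, T3; X1. -/
theorem sz_case {G : Type u} [Group G] (h : Lie.IsoSuzuki G ∨ Lie.Iso2F4 G) :
    PRankAtLeast 2 3 G := by
  exact e2rm1f_core (fun F _ _ m hm hF => sz_rank m hm hF) (fun K _ _ _ m hK => tw_f4_rank m hK) h

end Cfsg.Agent.Lib.helper14.E2R
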