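import Mathlib
import Cfsg.Prelude.Def_EvenType
import Cfsg.Prelude.Def_ChevStructure
import Cfsg.Prelude.Def_LieTypes
import Cfsg.Prelude.Def_ChevB2
import Cfsg.Agent.Lib.helper14.E2R.Defs
import Cfsg.Agent.Lib.Helper25.E2RMcore
import Cfsg.Agent.Lib.Helper25.E2RM1a
import Cfsg.Agent.Lib.Helper25.E2RM1b
import Cfsg.Agent.Lib.Helper25.E2RM1c
import Cfsg.Agent.Lib.Helper25.E2RM1d
import Cfsg.Agent.Lib.Helper25.E2RM1e
import Cfsg.Agent.Lib.Helper25.E2RM1f

/-!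
# E2R row M1 (`lie_rank`), verbatim: `e2rm1_core` on M1a - M1f.
-/

set_option autoImplicit false

namespace Cfsg.Agent.Lib.helper14.E2R

open Cfsg Cfsg.Lie

universe u v w

/-- M1 [S]. `unfold IsLieTypeChar at h`, eleven cases: M1a - M1f; the Ree clause has `2 = 3`. -/
theorem lie_rank {G : Type u} [Group G] (h : IsLieTypeChar 2 G)
    (h1 : ¬ ∃ (F : Type) (_ : Field F) (_ : Fintype F), Fintype.card F = 4 ∧ Nonempty (G ≃* Matrix.ProjectiveSpecialLinearGroup (Fin 2) F))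
    (h2 : ¬ ∃ (F : Type) (_ : Field F) (_ : Fintype F), Fintype.card F = 16 ∧ Nonempty (G ≃* Cfsg.PSU 3 F 4))
    (h3 : ¬ ∃ (F : Type) (_ : Field F) (_ : Fintype F), Fintype.card F = 2 ∧ Nonempty (G ≃* Matrix.ProjectiveSpecialLinearGroup (Fin 3) F)) :
    PRankAtLeast 2 3 G := by
  exact e2rm1_core (fun h h1 h3 => psl_case h h1 h3) psp_case (fun h h2 => psu_case h h2) orth_case exc_case
    sz_case h h1 h2 h3

end Cfsg.Agent.Lib.helper14.E2R
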