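import Mathlib
import Cfsg.Agent.Lib.helper7.BlockCover
import Cfsg.Agent.Lib.helper7.BlockInd2
import Cfsg.Agent.Lib.helper7.BlockDefect2

/-!
Eigenvalue multiset of a finite-order operator (traces of powers, determinant), its character-level form for an element of a finite group, and the application: a faithful character of degree < 2p in the principal block of a perfect group forces C_G(P) to be a p-group (S4729).
-/

set_option autoImplicit false
set_option linter.style.haveILetI false
set_option linter.unusedVariables false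
set_option warn.classDefReducibility false
set_option maxHeartbeats 1600000

namespace Cfsg.Agent.Lib.Helper25
open Module
open Cfsg.Agent.Lib.Helper11
open Cfsg.Agent.Lib.helper2
open Cfsg.Agent.Lib.helper7
open scoped ComplexConjugate
section

/-- trace and determinant over a decomposition into two invariant complementary subspaces -/
theorem egm_split {V : Type*} [AddCommGroup V] [Module ℂ V] [FiniteDimensional ℂ V]
    (S : Module.End ℂ V) (W q : Submodule ℂ V) (h : IsCompl W q)
    (hW : ∀ x ∈ W, S x ∈ W) (hq : ∀ x ∈ q, S x ∈ q) :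
    LinearMap.trace ℂ V S = LinearMap.trace ℂ W (S.restrict hW) + LinearMap.trace ℂ q (S.restrict hq) ∧
    LinearMap.det S = LinearMap.det (S.restrict hW) * LinearMap.det (S.restrict hq) := by
  set e := Submodule.prodEquivOfIsCompl W q h with he
  have hS : S = e.conj ((S.restrict hW).prodMap (S.restrict hq)) := by
    apply LinearMap.ext
    intro x
    obtain ⟨y, rfl⟩ := e.surjective x
    rw [LinearEquiv.conj_apply_apply, LinearEquiv.symm_apply_apply]
    rw [he, Submodule.coe_prodEquivOfIsCompl', Submodule.coe_prodEquivOfIsCompl']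
    simp [map_add]
  constructor
  · conv_lhs => rw [hS]
    rw [LinearMap.trace_conj', LinearMap.trace_prodMap']
  · conv_lhs => rw [hS]
    rw [LinearEquiv.conj_apply]
    have := LinearMap.det_conj ((S.restrict hW).prodMap (S.restrict hq)) e
    rw [LinearMap.comp_assoc, this, LinearMap.det_prodMap]

/-- eigenvalue multiset of an operator of finite order: traces of powers and the determinant -/
theorem egm_exists (n : ℕ) : ∀ {V : Type*} [AddCommGroup V] [Module ℂ V] [FiniteDimensional ℂ V]
    (T : Module.End ℂ V) (o : ℕ) (ho : 0 < o) (hT : T ^ o = 1) (hn : finrank ℂ V = n),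
    ∃ m : Multiset ℂ, (∀ z ∈ m, z ^ o = 1) ∧
      (∀ k : ℕ, LinearMap.trace ℂ V (T ^ k) = (m.map (· ^ k)).sum) ∧
      LinearMap.det T = m.prod := by
  induction n with
  | zero =>
    intro V _ _ _ T o ho hT hn
    refine ⟨0, by simp, ?_, ?_⟩
    · intro k
      haveI : Subsingleton V := Module.finrank_zero_iff.mp hn
      have : T ^ k = 0 := Subsingleton.elim _ _
      rw [this]
      simp
    · rw [LinearMap.det_eq_one_of_finrank_eq_zero hn]
      simp
  | succ n ih =>
    intro V _ _ _ T o ho hT hn
    haveI : Nontrivial V := Module.nontrivial_of_finrank_pos (R := ℂ) (by omega)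
    -- semisimple
    have hss : T.IsSemisimple := by
      apply Module.End.isSemisimple_of_squarefree_aeval_eq_zero
        (p := Polynomial.X ^ o - Polynomial.C (1 : ℂ))
      · apply Polynomial.Separable.squarefree
        apply Polynomial.separable_X_pow_sub_C
        · exact_mod_cast ho.ne'
        · exact one_ne_zero
      · simp [hT]
    obtain ⟨μ, hμ⟩ := Module.End.exists_eigenvalue T
    obtain ⟨v, hv⟩ := hμ.exists_hasEigenvector
    have hv0 : v ≠ 0 := hv.2
    have hTv : T v = μ • v := hv.apply_eq_smul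
    set W : Submodule ℂ V := ℂ ∙ v with hWdef
    have hTk : ∀ k : ℕ, ∀ x ∈ W, (T ^ k) x = μ ^ k • x := by
      intro k x hx
      obtain ⟨c, rfl⟩ := Submodule.mem_span_singleton.mp hx
      induction k with
      | zero => simp
      | succ k ihk =>
        rw [pow_succ', Module.End.mul_apply, ihk, map_smul, map_smul, hTv, pow_succ']
        simp only [smul_smul]
        ring_nf
    have hWinv : ∀ x ∈ W, T x ∈ W := by
      intro x hx
      have := hTk 1 x hx
      rw [pow_one, pow_one] at this
      rw [this]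
      exact W.smul_mem _ hx
    have hWmem : W ∈ T.invtSubmodule := by
      rw [Module.End.mem_invtSubmodule]
      intro x hx
      exact hWinv x hx
    obtain ⟨q, hqmem, hcompl⟩ := (Module.End.isSemisimple_iff.mp hss) W hWmem
    have hqinv : ∀ x ∈ q, T x ∈ q := by
      intro x hx
      exact (Module.End.mem_invtSubmodule _).mp hqmem hx
    have hWrank : finrank ℂ W = 1 := finrank_span_singleton hv0
    have hqrank : finrank ℂ q = n := by
      have := Submodule.finrank_add_eq_of_isCompl hcompl
      omega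
    -- restrict T to q
    have hTq : (T.restrict hqinv) ^ o = 1 := by
      rw [Module.End.pow_restrict o hqinv]
      apply LinearMap.ext
      intro x
      apply Subtype.ext
      rw [LinearMap.coe_restrict_apply, hT]
      rfl
    obtain ⟨m', hm'1, hm'2, hm'3⟩ := ih (T.restrict hqinv) o ho hTq hqrank
    have hμo : μ ^ o = 1 := by
      have h1 := hTk o v (Submodule.mem_span_singleton_self v)
      rw [hT, Module.End.one_apply] at h1
      have h2 : (μ ^ o - 1) • v = 0 := by
        rw [sub_smul, one_smul, ← h1, sub_self]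
      rcases smul_eq_zero.mp h2 with h | h
      · exact sub_eq_zero.mp h
      · exact absurd h hv0
    refine ⟨μ ::ₘ m', ?_, ?_, ?_⟩
    · intro z hz
      rcases Multiset.mem_cons.mp hz with rfl | hz
      · exact hμo
      · exact hm'1 z hz
    · intro k
      have hWk : ∀ x ∈ W, (T ^ k) x ∈ W := Module.End.pow_apply_mem_of_forall_mem k hWinv
      have hqk : ∀ x ∈ q, (T ^ k) x ∈ q := Module.End.pow_apply_mem_of_forall_mem k hqinv
      obtain ⟨h1, -⟩ := egm_split (T ^ k) W q hcompl hWk hqk
      rw [h1, Multiset.map_cons, Multiset.sum_cons, ← hm'2 k, Module.End.pow_restrict k hqinv]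
      congr 1
      have : (T ^ k).restrict hWk = μ ^ k • (LinearMap.id : W →ₗ[ℂ] W) := by
        apply LinearMap.ext
        intro x
        apply Subtype.ext
        rw [LinearMap.coe_restrict_apply, hTk k x x.2]
        rfl
      rw [this, map_smul, LinearMap.trace_id, hWrank]
      simp
    · obtain ⟨-, h2⟩ := egm_split T W q hcompl hWinv hqinv
      rw [h2, Multiset.prod_cons, ← hm'3]
      congr 1
      have : T.restrict hWinv = μ • (LinearMap.id : W →ₗ[ℂ] W) := by
        apply LinearMap.ext
        intro x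
        apply Subtype.ext
        have := hTk 1 x x.2
        rw [pow_one, pow_one] at this
        rw [LinearMap.coe_restrict_apply, this]
        rfl
      rw [this, LinearMap.det_smul, hWrank, LinearMap.det_id]
      simp

end

section

/-- eigenvalue multiset of an element in an irreducible representation, at the level of characters;
for a perfect group the product of the eigenvalues is `1` -/
theorem egm_char {G : Type*} [Group G] [Finite G] (χ : Cfsg.IrrCharacter G) (x : G) :
    ∃ m : Multiset ℂ, (∀ z ∈ m, z ^ orderOf x = 1) ∧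
      (∀ k : ℕ, (χ : G → ℂ) (x ^ k) = (m.map (· ^ k)).sum) ∧
      (commutator G = ⊤ → m.prod = 1) := by
  obtain ⟨n, ρ, hρ, hχ⟩ := χ.2
  have ho : 0 < orderOf x := orderOf_pos x
  have hT : (ρ x) ^ orderOf x = 1 := by rw [← map_pow, pow_orderOf_eq_one, map_one]
  obtain ⟨m, h1, h2, h3⟩ := egm_exists _ (ρ x) (orderOf x) ho hT rfl
  refine ⟨m, h1, ?_, ?_⟩
  · intro k
    rw [← h2 k, ← map_pow, ← hχ]
    rfl
  · intro hperf
    rw [← h3]
    set F : G →* ℂˣ := (Units.map (LinearMap.det : _ →* ℂ)).comp ρ.asGroupHom with hF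
    have hker : x ∈ F.ker := by
      apply Abelianization.commutator_subset_ker F
      rw [hperf]
      trivial
    have h4 : F x = 1 := hker
    have h5 := congrArg Units.val h4
    rw [hF] at h5
    simp only [MonoidHom.comp_apply, Units.coe_map, Units.val_one] at h5
    rw [Representation.asGroupHom_apply] at h5
    exact h5

/-- geometric sum over a root of unity -/
theorem egm_geom (u : ℂ) (o : ℕ) (hu : u ^ o = 1) :
    ∑ j ∈ Finset.range o, u ^ j = if u = 1 then (o : ℂ) else 0 := by
  by_cases h : u = 1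
  · rw [if_pos h, h]
    simp
  · rw [if_neg h, geom_sum_eq h, hu, sub_self, zero_div]

/-- Fourier inversion for the eigenvalue multiset -/
theorem egm_fourier (m : Multiset ℂ) (o : ℕ) (ho : 0 < o) (hm : ∀ z ∈ m, z ^ o = 1) (f : ℕ → ℂ)
    (hf : ∀ k : ℕ, f k = (m.map (· ^ k)).sum) (z : ℂ) (hz : z ^ o = 1) :
    ∑ j ∈ Finset.range o, f j * (z⁻¹) ^ j = (m.count z : ℂ) * o := by
  classical
  have h1 : ∀ j ∈ Finset.range o, f j * (z⁻¹) ^ j =
      ∑ y ∈ m.toFinset, (m.count y : ℂ) * (y * z⁻¹) ^ j := by
    intro j _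
    rw [hf j, Finset.sum_multiset_map_count, Finset.sum_mul]
    refine Finset.sum_congr rfl fun y _ => ?_
    rw [nsmul_eq_mul, mul_pow]
    ring
  rw [Finset.sum_congr rfl h1, Finset.sum_comm]
  have h2 : ∀ y ∈ m.toFinset, ∑ j ∈ Finset.range o, (m.count y : ℂ) * (y * z⁻¹) ^ j =
      if y = z then (m.count z : ℂ) * o else 0 := by
    intro y hy
    have hyo : y ^ o = 1 := hm y (Multiset.mem_toFinset.mp hy)
    have hz0 : z ≠ 0 := by
      rintro rfl
      rw [zero_pow ho.ne'] at hz
      exact zero_ne_one hz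
    rw [← Finset.mul_sum, egm_geom (y * z⁻¹) o (by rw [mul_pow, inv_pow, hyo, hz, inv_one, mul_one])]
    by_cases hyz : y = z
    · rw [if_pos hyz, hyz, if_pos (mul_inv_cancel₀ hz0)]
    · rw [if_neg hyz, if_neg, mul_zero]
      intro h
      apply hyz
      have := congrArg (· * z) h
      simpa [mul_assoc, inv_mul_cancel₀ hz0] using this
  rw [Finset.sum_congr rfl h2, Finset.sum_ite_eq']
  split_ifs with h
  · rfl
  · have : m.count z = 0 := Multiset.count_eq_zero.mpr (fun hh => h (Multiset.mem_toFinset.mpr hh))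
    rw [this]
    simp

end

section

variable {G : Type*} [Group G] [Fintype G]

/-- for a character of the principal block and `y` centralizing a Sylow `p`-subgroup,
`χ(y)/χ(1) ≡ 1` -/
theorem egm_congr (p : ℕ) [hp : Fact p.Prime] (M : Ideal Cfsg.AlgInt) (hM : Cfsg.IsPModular p M)
    (P : Sylow p G) (χ : Cfsg.IrrCharacter G) (hχ : χ ∈ Cfsg.principalBlock M G)
    (y : G) (hy : y ∈ Subgroup.centralizer ((P : Subgroup G) : Set G)) :
    Cfsg.MemLocalIdeal M ((χ : G → ℂ) y / (χ : G → ℂ) 1 - 1) := by
  have hPr := hM.2.1.isPrime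
  have h1 : Cfsg.MemLocalIdeal M (Cfsg.centralChar (fun _ : G => (1 : ℂ)) y -
      Cfsg.centralChar (χ : G → ℂ) y) := hχ y
  set idx := (Subgroup.centralizer ({y} : Set G)).index with hidx
  have hle : (P : Subgroup G) ≤ Subgroup.centralizer ({y} : Set G) := by
    intro u hu
    rw [Subgroup.mem_centralizer_singleton_iff]
    have := Subgroup.mem_centralizer_iff.mp hy u hu
    exact this
  have hdvd : idx ∣ (P : Subgroup G).index := Subgroup.index_dvd_of_le hle
  have hnd : ¬ p ∣ idx := fun h => P.not_dvd_index (h.trans hdvd)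
  have hcop : idx.Coprime p := (Nat.Coprime.symm ((Nat.Prime.coprime_iff_not_dvd hp.out).mpr hnd))
  have hinv := h7_memLocalRing_inv_natCast hM idx hcop
  have hidx0 : (idx : ℂ) ≠ 0 := by
    have : idx ≠ 0 := fun h => hnd (h ▸ dvd_zero p)
    exact_mod_cast this
  have h2 : (χ : G → ℂ) y / (χ : G → ℂ) 1 - 1 =
      (idx : ℂ)⁻¹ * -(Cfsg.centralChar (fun _ : G => (1 : ℂ)) y -
        Cfsg.centralChar (χ : G → ℂ) y) := by
    unfold Cfsg.centralChar
    rw [← hidx]
    field_simp
    ring
  rw [h2]
  exact h7_memLocalIdeal_mul_left hPr hinv (h7_memLocalIdeal_neg h1)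

end

section

variable {G : Type*} [Group G] [Fintype G]

/-- two distinct elements of a multiset: their counts add up to at most the cardinality -/
theorem egm_count_add_le (m : Multiset ℂ) (a b : ℂ) (hab : a ≠ b) :
    m.count a + m.count b ≤ Multiset.card m := by
  classical
  rw [← Multiset.toFinset_sum_count_eq m]
  by_cases ha : a ∈ m.toFinset
  · by_cases hb : b ∈ m.toFinset
    · have hsub : ({a, b} : Finset ℂ) ⊆ m.toFinset := by
        intro z hz
        rcases Finset.mem_insert.mp hz with rfl | hz
        · exact ha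
        · rw [Finset.mem_singleton.mp hz]; exact hb
      calc m.count a + m.count b = ∑ z ∈ ({a, b} : Finset ℂ), m.count z := by
            rw [Finset.sum_pair hab]
        _ ≤ _ := Finset.sum_le_sum_of_subset hsub
    · have : m.count b = 0 := Multiset.count_eq_zero.mpr (fun h => hb (Multiset.mem_toFinset.mpr h))
      rw [this, add_zero]
      exact Finset.single_le_sum (f := fun z => m.count z) (fun _ _ => Nat.zero_le _) ha
  · have : m.count a = 0 := Multiset.count_eq_zero.mpr (fun h => ha (Multiset.mem_toFinset.mpr h))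
    rw [this, zero_add]
    by_cases hb : b ∈ m.toFinset
    · exact Finset.single_le_sum (f := fun z => m.count z) (fun _ _ => Nat.zero_le _) hb
    · have : m.count b = 0 := Multiset.count_eq_zero.mpr (fun h => hb (Multiset.mem_toFinset.mpr h))
      rw [this]
      exact Nat.zero_le _

theorem egm_core (p : ℕ) [hp : Fact p.Prime] (M : Ideal Cfsg.AlgInt) (hM : Cfsg.IsPModular p M)
    (hperf : commutator G = ⊤) (P : Sylow p G) (χ : Cfsg.IrrCharacter G)
    (hχ : χ ∈ Cfsg.principalBlock M G)
    (hfaith : ∀ g : G, (χ : G → ℂ) g = (χ : G → ℂ) 1 → g = 1)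
    (hdeg : Cfsg.charDegree (χ : G → ℂ) < 2 * p)
    (x : G) (hxC : x ∈ Subgroup.centralizer ((P : Subgroup G) : Set G))
    (hxp : ¬ p ∣ orderOf x) : x = 1 := by
  classical
  have hPr := hM.2.1.isPrime
  obtain ⟨-, hd0, hd1⟩ := h7_charDegree_props χ
  set d := Cfsg.charDegree (χ : G → ℂ) with hd
  set o := orderOf x with ho
  have hopos : 0 < o := orderOf_pos x
  have hdC : (d : ℂ) ≠ 0 := by exact_mod_cast hd0.ne'
  obtain ⟨m, hm1, hm2, hm3⟩ := egm_char χ x
  have hcard : Multiset.card m = d := by
    have := hm2 0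
    rw [pow_zero, ← hd1] at this
    simp only [pow_zero, Multiset.map_const', Multiset.sum_replicate, nsmul_eq_mul, mul_one] at this
    exact_mod_cast this.symm
  -- congruences
  have hA : ∀ j : ℕ, Cfsg.MemLocalIdeal M ((χ : G → ℂ) (x ^ j) / (χ : G → ℂ) 1 - 1) := by
    intro j
    exact egm_congr p M hM P χ hχ (x ^ j) (Subgroup.pow_mem _ hxC j)
  -- key: for z ∈ m, z ≠ 1: count z * o = d * W with W in the local ideal
  have hkey : ∀ z ∈ m, z ≠ 1 → ∃ W : ℂ, Cfsg.MemLocalIdeal M W ∧
      (m.count z : ℂ) * o = d * W := by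
    intro z hz hz1
    have hzo := hm1 z hz
    have hF := egm_fourier m o hopos hm1 (fun k => (χ : G → ℂ) (x ^ k)) hm2 z hzo
    have hz0 : z ≠ 0 := by
      rintro rfl
      rw [zero_pow hopos.ne'] at hzo
      exact zero_ne_one hzo
    have hzi : (z⁻¹) ^ o = 1 := by rw [inv_pow, hzo, inv_one]
    have hzi1 : z⁻¹ ≠ 1 := by
      intro h
      apply hz1
      exact inv_eq_one.mp h
    have hg := egm_geom z⁻¹ o hzi
    rw [if_neg hzi1] at hg
    refine ⟨∑ j ∈ Finset.range o, ((χ : G → ℂ) (x ^ j) / (χ : G → ℂ) 1 - 1) * (z⁻¹) ^ j, ?_, ?_⟩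
    · apply h7_memLocalIdeal_sum hPr
      intro j _
      apply h7_memLocalIdeal_mul_right hPr (hA j)
      apply h7_memLocalRing_of_isIntegral hPr
      apply IsIntegral.pow
      refine ⟨Polynomial.X ^ o - 1, Polynomial.monic_X_pow_sub_C 1 hopos.ne', ?_⟩
      simp [hzi]
    · rw [← hF, Finset.mul_sum]
      have h3 : ∀ j ∈ Finset.range o, (χ : G → ℂ) (x ^ j) * (z⁻¹) ^ j =
          (d : ℂ) * (((χ : G → ℂ) (x ^ j) / (χ : G → ℂ) 1 - 1) * (z⁻¹) ^ j) + d * (z⁻¹) ^ j := by
        intro j _
        rw [← hd1]
        field_simp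
        ring
      rw [Finset.sum_congr rfl h3, Finset.sum_add_distrib, ← Finset.mul_sum (a := (d : ℂ))
        (f := fun j => (z⁻¹) ^ j), hg, mul_zero, add_zero]
  have hpdvd : ∀ z ∈ m, z ≠ 1 → p ∣ m.count z := by
    intro z hz hz1
    obtain ⟨W, hW, hWe⟩ := hkey z hz hz1
    have h1 : Cfsg.MemLocalIdeal M (((m.count z * o : ℕ) : ℂ)) := by
      push_cast
      rw [hWe]
      exact h7_memLocalIdeal_mul_left hPr (h7_memLocalRing_natCast hPr d) hW
    have h2 := (h7_memLocalIdeal_natCast_iff hM _).mp h1
    exact ((Nat.Prime.dvd_mul hp.out).mp h2).resolve_right hxp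
  -- all eigenvalues are 1
  have hall : ∀ z ∈ m, z = 1 := by
    intro z₀ hz₀
    by_contra hz₀1
    have hn1 : 0 < m.count z₀ := Multiset.count_pos.mpr hz₀
    have hpn := hpdvd z₀ hz₀ hz₀1
    have hnle : m.count z₀ ≤ d := hcard ▸ Multiset.count_le_card z₀ m
    have hple : p ≤ m.count z₀ := Nat.le_of_dvd hn1 hpn
    have hcnt : m.count z₀ = p := by
      obtain ⟨t, ht⟩ := hpn
      have : t = 1 := by
        rcases t with _ | _ | t
        · omega
        · rfl
        · exfalso
          have : 2 * p ≤ m.count z₀ := by rw [ht]; nlinarith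
          omega
      rw [ht, this, mul_one]
    by_cases hpd : p ∣ d
    · -- d = p
      have hdp : d = p := by
        obtain ⟨t, ht⟩ := hpd
        have : t = 1 := by
          rcases t with _ | _ | t
          · omega
          · rfl
          · exfalso
            have : 2 * p ≤ d := by rw [ht]; nlinarith
            omega
        rw [ht, this, mul_one]
      obtain ⟨W, hW, hWe⟩ := hkey z₀ hz₀ hz₀1
      rw [hcnt, hdp] at hWe
      have hpC : (p : ℂ) ≠ 0 := by exact_mod_cast hp.out.ne_zero
      have hWo : W = (o : ℂ) := (mul_left_cancel₀ hpC hWe).symm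
      rw [hWo] at hW
      exact hxp ((h7_memLocalIdeal_natCast_iff hM _).mp hW)
    · -- p ∤ d: determinant
      have hothers : ∀ z ∈ m, z ≠ 1 → z = z₀ := by
        intro z hz hz1
        by_contra hne
        have h1 := hpdvd z hz hz1
        have h2 : 0 < m.count z := Multiset.count_pos.mpr hz
        have h3 : p ≤ m.count z := Nat.le_of_dvd h2 h1
        have h4 := egm_count_add_le m z z₀ hne
        omega
      have hprod : m.prod = z₀ ^ p := by
        rw [Finset.prod_multiset_count, Finset.prod_eq_single z₀]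
        · rw [hcnt]
        · intro b hb hbne
          have hb' := Multiset.mem_toFinset.mp hb
          by_cases hb1 : b = 1
          · rw [hb1, one_pow]
          · exact absurd (hothers b hb' hb1) hbne
        · intro h
          exact absurd (Multiset.mem_toFinset.mpr hz₀) h
      have h1 : z₀ ^ p = 1 := by rw [← hprod]; exact hm3 hperf
      have h2 : z₀ ^ o = 1 := hm1 z₀ hz₀
      have h3 : z₀ ^ (Nat.gcd p o) = 1 := pow_gcd_eq_one.mpr ⟨h1, h2⟩
      have h4 : Nat.gcd p o = 1 := (Nat.Prime.coprime_iff_not_dvd hp.out).mpr hxp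
      rw [h4, pow_one] at h3
      exact hz₀1 h3
  apply hfaith
  have h1 := hm2 1
  rw [pow_one] at h1
  rw [h1, ← hd1, ← hcard]
  have : m.map (· ^ 1) = m.map (fun _ => (1 : ℂ)) := by
    apply Multiset.map_congr rfl
    intro z hz
    rw [hall z hz, one_pow]
  rw [this]
  simp

end

section

variable {G : Type*} [Group G] [Fintype G]

theorem egm_main (p : ℕ) [hp : Fact p.Prime] (M : Ideal Cfsg.AlgInt) (hM : Cfsg.IsPModular p M)
    (hperf : commutator G = ⊤) (P : Sylow p G) (χ : Cfsg.IrrCharacter G)
    (hχ : χ ∈ Cfsg.principalBlock M G)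
    (hfaith : ∀ g : G, (χ : G → ℂ) g = (χ : G → ℂ) 1 → g = 1)
    (hdeg : Cfsg.charDegree (χ : G → ℂ) < 2 * p) :
    IsPGroup p ↥(Subgroup.centralizer ((P : Subgroup G) : Set G)) := by
  intro y
  set a := (orderOf (y : G)).factorization p with ha
  refine ⟨a, ?_⟩
  apply Subtype.ext
  rw [Subgroup.coe_pow, Subgroup.coe_one]
  apply egm_core p M hM hperf P χ hχ hfaith hdeg ((y : G) ^ p ^ a)
    (Subgroup.pow_mem _ y.2 _)
  rw [orderOf_pow]
  have ho : orderOf (y : G) ≠ 0 := (orderOf_pos _).ne'
  have hgcd : Nat.gcd (orderOf (y : G)) (p ^ a) = p ^ a :=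
    Nat.gcd_eq_right (Nat.ordProj_dvd _ _)
  rw [hgcd]
  exact Nat.not_dvd_ordCompl hp.out ho

end

end Cfsg.Agent.Lib.Helper25
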