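import Mathlib
import Cfsg.Agent.Lib.Helper25.Blichfeldt
import Cfsg.Agent.Lib.Helper25.Gagola
import Cfsg.Agent.Lib.Helper25.CharQuot
import Cfsg.Agent.S4467
import Cfsg.Agent.S0898

/-!
Feit-Thompson-Blichfeldt (S0899, Isaacs 14.x): a finite group with a faithful complex representation of degree n has a normal Sylow p-subgroup if p >= (n+1)^2, or if p > n+1 and all subgroups of order not divisible by p^2 are p-closed. Proof: minimal non-p-closed subgroup L (ftbCfg); no proper normal subgroup of p-power index (invariant Sylow q-subgroup, L = QP solvable, Winter S4467 on L / ker psi); hence P meets the centre trivially (blf_central) and linear characters are trivial on P; the Feit-Thompson bound S0898 gives (n+1)^2 > |P| (ftb_main).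
-/

set_option autoImplicit false
set_option linter.unusedSectionVars false
set_option linter.style.haveILetI false

namespace Cfsg.Agent.Lib.Helper25
open Cfsg.Agent.Lib.helper2
section

/-- `M` is `p`-closed: some `p`-subgroup of `M` contains every `p`-subgroup of `M`. -/
def ftbClosed (p : ℕ) {G : Type*} [Group G] (M : Subgroup G) : Prop :=
  ∃ R : Subgroup G, R ≤ M ∧ IsPGroup p R ∧ ∀ D : Subgroup G, D ≤ M → IsPGroup p D → D ≤ R

theorem ftb_closed_of_sylow_normal {G : Type*} [Group G] [Finite G] (p : ℕ) [Fact p.Prime]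
    (K : Subgroup G) (h : ∀ Q : Sylow p K, (Q : Subgroup K).Normal) : ftbClosed p K := by
  obtain ⟨Q⟩ : Nonempty (Sylow p K) := inferInstance
  have hQn := h Q
  refine ⟨(Q : Subgroup K).map K.subtype, Subgroup.map_subtype_le _, Q.2.map _, ?_⟩
  intro D hD hpD
  have hD' : IsPGroup p (D.subgroupOf K) := hpD.comap_subtype
  obtain ⟨Q', hQ'⟩ := hD'.exists_le_sylow
  haveI := Sylow.unique_of_normal Q hQn
  have hQQ : Q' = Q := Subsingleton.elim _ _
  rw [hQQ] at hQ'
  intro x hx
  exact ⟨⟨x, hD hx⟩, hQ' (by rw [Subgroup.mem_subgroupOf]; exact hx), rfl⟩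

theorem ftb_normal_of_closed_top {G : Type*} [Group G] (p : ℕ) [Fact p.Prime]
    (h : ftbClosed p (⊤ : Subgroup G)) (P : Sylow p G) : (P : Subgroup G).Normal := by
  obtain ⟨R, -, hR, hall⟩ := h
  have hPR : (P : Subgroup G) ≤ R := hall _ le_top P.2
  have hRP : R = P := P.is_maximal' hR hPR
  constructor
  intro n hn g
  have h1 : (P : Subgroup G).map (MulAut.conj g).toMonoidHom ≤ R := hall _ le_top (P.2.map _)
  rw [hRP] at h1
  exact h1 ⟨n, hn, rfl⟩

theorem ftb_exists_min {G : Type*} [Group G] [Finite G] (p : ℕ)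
    (h : ¬ ftbClosed p (⊤ : Subgroup G)) :
    ∃ L : Subgroup G, ¬ ftbClosed p L ∧ ∀ M : Subgroup G, M < L → ftbClosed p M := by
  classical
  have hex : ∃ k : ℕ, ∃ L : Subgroup G, Nat.card L = k ∧ ¬ ftbClosed p L := ⟨_, ⊤, rfl, h⟩
  obtain ⟨L, hL, hnot⟩ := Nat.find_spec hex
  refine ⟨L, hnot, fun M hM => ?_⟩
  by_contra hc
  have hlt : Nat.card M < Nat.card L := by
    by_contra hge
    push Not at hge
    exact hM.ne (Subgroup.eq_of_le_of_card_ge hM.le hge)
  exact Nat.find_min hex (hL ▸ hlt) ⟨M, rfl, hc⟩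

theorem ftb_closed_of_map {G : Type*} [Group G] (p : ℕ) (L : Subgroup G) (M : Subgroup L)
    (h : ftbClosed p (M.map L.subtype)) : ftbClosed p M := by
  obtain ⟨R, hRM, hR, hall⟩ := h
  refine ⟨R.comap L.subtype, ?_, hR.comap_of_injective _ Subtype.coe_injective, ?_⟩
  · intro x hx
    obtain ⟨y, hy, hyx⟩ := hRM hx
    have : y = x := Subtype.ext hyx
    exact this ▸ hy
  · intro D hD hpD
    have := hall (D.map L.subtype) (Subgroup.map_mono hD) (hpD.map _)
    exact Subgroup.map_le_iff_le_comap.mp this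

theorem ftb_closed_map_top {G : Type*} [Group G] (p : ℕ) (L : Subgroup G)
    (h : ftbClosed p (⊤ : Subgroup L)) : ftbClosed p L := by
  obtain ⟨R, -, hR, hall⟩ := h
  refine ⟨R.map L.subtype, Subgroup.map_subtype_le _, hR.map _, ?_⟩
  intro D hD hpD
  have := hall (D.subgroupOf L) le_top hpD.comap_subtype
  intro x hx
  exact ⟨⟨x, hD hx⟩, this (by rw [Subgroup.mem_subgroupOf]; exact hx), rfl⟩

theorem ftb_normal_le_sylow {L : Type*} [Group L] [Finite L] (p : ℕ) [Fact p.Prime]
    (R : Subgroup L) [hRn : R.Normal] (hR : IsPGroup p R) (P : Sylow p L) :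
    R ≤ (P : Subgroup L) := by
  obtain ⟨P', hP'⟩ := hR.exists_le_sylow
  obtain ⟨g, rfl⟩ := MulAction.exists_smul_eq L P' P
  intro x hx
  have h1 : g⁻¹ * x * g⁻¹⁻¹ ∈ R := hRn.conj_mem x hx g⁻¹
  have h2 := hP' h1
  rw [Sylow.smul_def, Sylow.pointwise_smul_def]
  rw [Subgroup.mem_pointwise_smul_iff_inv_smul_mem]
  simpa [MulAut.smul_def] using h2

end

section

/-- A minimal non-`p`-closed group with a faithful character of degree `n < p - 1`. -/
structure ftbCfg (p : ℕ) (L : Type*) [Group L] (n : ℕ) (χ : L → ℂ) : Prop where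
  hchar : Cfsg.IsCharacter L χ
  hfaith : ∀ g : L, χ g = χ 1 → g = 1
  hdeg : χ 1 = (n : ℂ)
  hnp : n + 1 < p
  hmin : ∀ M : Subgroup L, M ≠ ⊤ → ftbClosed p M
  hnot : ¬ ftbClosed p (⊤ : Subgroup L)

variable {L : Type*} [Group L] [Finite L] {p : ℕ} [hp : Fact p.Prime] {n : ℕ} {χ : L → ℂ}

theorem ftb_sylow_comm (h : ftbCfg p L n χ) (P : Sylow p L) :
    ∀ a ∈ (P : Subgroup L), ∀ b ∈ (P : Subgroup L), a * b = b * a := by
  apply blf_pi_abelian χ h.hchar h.hfaith n h.hdeg (P : Subgroup L)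
  intro r hr hdvd
  obtain ⟨k, hk⟩ := IsPGroup.iff_card.mp P.2
  rw [hk] at hdvd
  have := (Nat.prime_dvd_prime_iff_eq hr hp.out).1 (hr.dvd_of_dvd_pow hdvd)
  have := h.hnp
  omega

theorem ftb_exists_ne (h : ftbCfg p L n χ) (P : Sylow p L) : ∃ Q : Sylow p L, Q ≠ P := by
  by_contra hall
  push Not at hall
  apply h.hnot
  refine ⟨P, le_top, P.2, ?_⟩
  intro D _ hD
  obtain ⟨Q, hQ⟩ := hD.exists_le_sylow
  rw [hall Q] at hQ
  exact hQ

theorem ftb_sup_top (h : ftbCfg p L n χ) {P Q : Sylow p L} (hne : P ≠ Q) :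
    (P : Subgroup L) ⊔ (Q : Subgroup L) = ⊤ := by
  by_contra hne'
  obtain ⟨R, -, hR, hall⟩ := h.hmin _ hne'
  have h1 : R = P := P.is_maximal' hR (hall _ le_sup_left P.2)
  have h2 : R = Q := Q.is_maximal' hR (hall _ le_sup_right Q.2)
  exact hne (Sylow.ext (h1.symm.trans h2))

theorem ftb_inf_le_center (h : ftbCfg p L n χ) {P Q : Sylow p L} (hne : P ≠ Q) :
    (P : Subgroup L) ⊓ (Q : Subgroup L) ≤ Subgroup.center L := by
  intro x hx
  have hle : (P : Subgroup L) ⊔ (Q : Subgroup L) ≤ Subgroup.centralizer ({x} : Set L) := by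
    apply sup_le
    · intro y hy
      rw [Subgroup.mem_centralizer_iff]
      intro z hz
      rw [Set.mem_singleton_iff] at hz
      subst hz
      exact ftb_sylow_comm h P z hx.1 y hy
    · intro y hy
      rw [Subgroup.mem_centralizer_iff]
      intro z hz
      rw [Set.mem_singleton_iff] at hz
      subst hz
      exact ftb_sylow_comm h Q z hx.2 y hy
  rw [ftb_sup_top h hne] at hle
  rw [Subgroup.mem_center_iff]
  intro g
  have := hle (Subgroup.mem_top g)
  rw [Subgroup.mem_centralizer_iff] at this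
  exact (this x rfl).symm

theorem ftb_normal_le_center (h : ftbCfg p L n χ) (R : Subgroup L) [R.Normal]
    (hR : IsPGroup p R) : R ≤ Subgroup.center L := by
  obtain ⟨P⟩ : Nonempty (Sylow p L) := inferInstance
  obtain ⟨Q, hQ⟩ := ftb_exists_ne h P
  exact (le_inf (ftb_normal_le_sylow p R hR P) (ftb_normal_le_sylow p R hR Q)).trans
    (ftb_inf_le_center h hQ.symm)

/-- A Sylow `p`-subgroup is not normal. -/
theorem ftb_sylow_not_normal (h : ftbCfg p L n χ) (P : Sylow p L) : ¬ (P : Subgroup L).Normal := by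
  intro hn
  obtain ⟨Q, hQ⟩ := ftb_exists_ne h P
  haveI := Sylow.unique_of_normal P hn
  exact hQ (Subsingleton.elim _ _)

/-- A Sylow `p`-subgroup is nontrivial. -/
theorem ftb_sylow_ne_bot (h : ftbCfg p L n χ) (P : Sylow p L) : (P : Subgroup L) ≠ ⊥ := by
  intro hb
  apply ftb_sylow_not_normal h P
  rw [hb]
  infer_instance

end

section

theorem ftb_index_eq_relIndex {L : Type*} [Group L] [Finite L] (N T : Subgroup L) [T.Normal]
    (h : N ⊔ T = ⊤) : N.index = N.relIndex T := by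
  have h1 : T.relIndex N = T.index := by
    have := Subgroup.relIndex_sup_right N T
    rw [h, Subgroup.relIndex_top_right] at this
    exact this.symm
  have e1 : Nat.card (T.subgroupOf N) * T.relIndex N = Nat.card N := Subgroup.card_mul_index _
  have e2 : Nat.card (N.subgroupOf T) * N.relIndex T = Nat.card T := Subgroup.card_mul_index _
  have e3 : Nat.card N * N.index = Nat.card L := Subgroup.card_mul_index _
  have e4 : Nat.card T * T.index = Nat.card L := Subgroup.card_mul_index _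
  have e5 : Nat.card (T.subgroupOf N) = Nat.card (N.subgroupOf T) := by
    apply Nat.card_congr
    exact
      { toFun := fun x => ⟨⟨x.1.1, x.2⟩, x.1.2⟩
        invFun := fun x => ⟨⟨x.1.1, x.2⟩, x.1.2⟩
        left_inv := fun x => rfl
        right_inv := fun x => rfl }
  have hc : 0 < Nat.card (N.subgroupOf T) := Nat.card_pos
  have hi : 0 < T.index := Nat.pos_of_ne_zero Subgroup.index_ne_zero_of_finite
  rw [e5, h1] at e1
  have key : Nat.card (N.subgroupOf T) * T.index * N.index =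
      Nat.card (N.subgroupOf T) * T.index * N.relIndex T := by
    calc Nat.card (N.subgroupOf T) * T.index * N.index = Nat.card N * N.index := by rw [e1]
      _ = Nat.card L := e3
      _ = Nat.card T * T.index := e4.symm
      _ = Nat.card (N.subgroupOf T) * N.relIndex T * T.index := by rw [e2]
      _ = Nat.card (N.subgroupOf T) * T.index * N.relIndex T := by ring
  exact Nat.eq_of_mul_eq_mul_left (Nat.mul_pos hc hi) key

theorem ftb_invariant_sylow {L : Type*} [Group L] [Finite L] (p q : ℕ) [hp : Fact p.Prime]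
    [hq : Fact q.Prime] (hpq : q ≠ p) (T : Subgroup L) [T.Normal] (k : ℕ) (hT : T.index = p ^ k)
    (Z : Subgroup L) (hZT : Z ≤ T) (hZc : Z ≤ Subgroup.center L) (hZ : ¬ p ∣ Z.relIndex T)
    (P : Sylow p L) :
    ∃ Q : Sylow q L, (P : Subgroup L) ≤ Subgroup.normalizer ((Q : Subgroup L) : Set L) := by
  obtain ⟨S⟩ : Nonempty (Sylow q L) := inferInstance
  have hST : (S : Subgroup L) ≤ T := by
    intro x hx
    rw [← QuotientGroup.eq_one_iff]
    have h1 : orderOf (x : L ⧸ T) ∣ p ^ k := by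
      rw [← hT, Subgroup.index_eq_card]
      exact orderOf_dvd_natCard _
    obtain ⟨j, hj⟩ := (IsPGroup.iff_orderOf.mp S.2) ⟨x, hx⟩
    have h2 : orderOf (x : L ⧸ T) ∣ q ^ j := by
      have h3 : orderOf x = q ^ j := by
        rw [← hj]; exact Subgroup.orderOf_coe (⟨x, hx⟩ : (S : Subgroup L))
      rw [← h3]
      exact orderOf_map_dvd (QuotientGroup.mk' T) x
    have hcop : Nat.Coprime (p ^ k) (q ^ j) :=
      Nat.Coprime.pow _ _ ((Nat.coprime_primes hp.out hq.out).2 hpq.symm)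
    have h4 : orderOf (x : L ⧸ T) ∣ 1 := by
      have := Nat.dvd_gcd h1 h2
      rwa [hcop] at this
    exact orderOf_eq_one_iff.mp (Nat.dvd_one.mp h4)
  set N := Subgroup.normalizer ((S : Subgroup L) : Set L) with hN
  have hNT : N ⊔ T = ⊤ := Sylow.normalizer_sup_eq_top' S hST
  have hidx : N.index = N.relIndex T := ftb_index_eq_relIndex N T hNT
  have hZN : Z ≤ N ⊓ T := le_inf (hZc.trans (Subgroup.center_le_normalizer _)) hZT
  have hdvd : N.relIndex T ∣ Z.relIndex T := by
    rw [← Subgroup.inf_relIndex_right N T]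
    exact Subgroup.relIndex_dvd_of_le_left T hZN
  have hnd : ¬ p ∣ Nat.card (Sylow q L) := by
    have h5 := Sylow.card_eq_index_normalizer S
    rw [h5]
    change ¬ p ∣ N.index
    rw [hidx]
    exact fun hd => hZ (hd.trans hdvd)
  obtain ⟨Q, hQ⟩ := (P.2).nonempty_fixed_point_of_prime_not_dvd_card (Sylow q L) hnd
  refine ⟨Q, fun x hx => ?_⟩
  have h6 := hQ ⟨x, hx⟩
  exact Sylow.smul_eq_iff_mem_normalizer.mp h6

variable {L : Type*} [Group L] [Finite L] {p : ℕ} [hp : Fact p.Prime] {n : ℕ} {χ : L → ℂ}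

theorem ftb_closed_data (h : ftbCfg p L n χ) (T : Subgroup L) [hTn : T.Normal] (hT : T ≠ ⊤) :
    ∃ Z : Subgroup L, Z ≤ T ∧ Z ≤ Subgroup.center L ∧ ¬ p ∣ Z.relIndex T := by
  obtain ⟨R, hRT, hR, hall⟩ := h.hmin T hT
  have hRn : R.Normal := by
    constructor
    intro x hx g
    have h1 : R.map (MulAut.conj g).toMonoidHom ≤ R := by
      apply hall _ _ (hR.map _)
      rintro _ ⟨y, hy, rfl⟩
      exact hTn.conj_mem y (hRT hy) g
    exact h1 ⟨x, hx, rfl⟩
  refine ⟨R, hRT, ftb_normal_le_center h R hR, ?_⟩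
  have hmax : ∀ Q : Subgroup T, IsPGroup p Q → R.subgroupOf T ≤ Q → Q = R.subgroupOf T := by
    intro Q hQ hle
    apply le_antisymm _ hle
    have := hall (Q.map T.subtype) (Subgroup.map_subtype_le _) (hQ.map _)
    exact Subgroup.map_le_iff_le_comap.mp this
  let S : Sylow p T := ⟨R.subgroupOf T, hR.comap_subtype, fun {Q} hQ hle => hmax Q hQ hle⟩
  exact S.not_dvd_index

theorem ftb_generated (h : ftbCfg p L n χ) (T : Subgroup L) [T.Normal] (hT : T ≠ ⊤) (k : ℕ)
    (hk : T.index = p ^ k) (P : Sylow p L) :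
    ∃ (q : ℕ) (_ : Fact q.Prime) (Q : Sylow q L),
      (P : Subgroup L) ≤ Subgroup.normalizer ((Q : Subgroup L) : Set L) ∧
      (Q : Subgroup L) ⊔ (P : Subgroup L) = ⊤ := by
  set C := Subgroup.centralizer ((P : Subgroup L) : Set L) with hC
  have hPC : (P : Subgroup L) ≤ C := by
    intro x hx
    rw [Subgroup.mem_centralizer_iff]
    intro y hy
    exact ftb_sylow_comm h P y hy x hx
  have hCtop : C ≠ ⊤ := by
    intro htop
    apply ftb_sylow_not_normal h P
    constructor
    intro x hx g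
    have hg : g ∈ C := htop ▸ Subgroup.mem_top g
    rw [Subgroup.mem_centralizer_iff] at hg
    have h1 : g * x = x * g := (hg x hx).symm
    rw [h1, mul_inv_cancel_right]
    exact hx
  have hidx : C.index ≠ 1 := fun h1 => hCtop (Subgroup.index_eq_one.mp h1)
  obtain ⟨q, hq, hqd⟩ := Nat.exists_prime_and_dvd hidx
  haveI hqf : Fact q.Prime := ⟨hq⟩
  have hqp : q ≠ p := by
    rintro rfl
    exact P.not_dvd_index (hqd.trans (Subgroup.index_dvd_of_le hPC))
  obtain ⟨Z, hZT, hZc, hZ⟩ := ftb_closed_data h T hT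
  obtain ⟨Q, hQ⟩ := ftb_invariant_sylow p q hqp T k hk Z hZT hZc hZ P
  have hQC : ¬ (Q : Subgroup L) ≤ C := by
    intro hle
    exact Q.not_dvd_index (hqd.trans (Subgroup.index_dvd_of_le hle))
  refine ⟨q, hqf, Q, hQ, ?_⟩
  by_contra hne
  obtain ⟨R, -, hR, hall⟩ := h.hmin _ hne
  have hRP : R = P := P.is_maximal' hR (hall _ le_sup_right P.2)
  apply hQC
  intro y hy
  rw [Subgroup.mem_centralizer_iff]
  intro x hx
  replace hx : x ∈ (P : Subgroup L) := hx
  have h1 : y * x * y⁻¹ ∈ (P : Subgroup L) := by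
    have h0 : (P : Subgroup L).map (MulAut.conj y).toMonoidHom ≤ R := by
      apply hall _ _ (P.2.map _)
      rintro _ ⟨z, hz, rfl⟩
      change y * z * y⁻¹ ∈ _
      exact Subgroup.mul_mem _ (Subgroup.mul_mem _ (Subgroup.mem_sup_left hy)
        (Subgroup.mem_sup_right hz)) (Subgroup.inv_mem _ (Subgroup.mem_sup_left hy))
    rw [hRP] at h0
    exact h0 ⟨x, hx, rfl⟩
  have h2 : x * y⁻¹ * x⁻¹ ∈ (Q : Subgroup L) :=
    ((Subgroup.mem_normalizer_iff.mp (hQ hx)) y⁻¹).mp (inv_mem hy)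
  have h3 : y * x * y⁻¹ * x⁻¹ ∈ (P : Subgroup L) ⊓ (Q : Subgroup L) := by
    refine Subgroup.mem_inf.mpr ⟨Subgroup.mul_mem _ h1 (Subgroup.inv_mem _ hx), ?_⟩
    have e : y * x * y⁻¹ * x⁻¹ = y * (x * y⁻¹ * x⁻¹) := by group
    rw [e]
    exact Subgroup.mul_mem _ hy h2
  have hdisj : (P : Subgroup L) ⊓ (Q : Subgroup L) = ⊥ :=
    disjoint_iff.mp (IsPGroup.disjoint_of_ne p q hqp.symm _ _ P.2 Q.2)
  rw [hdisj, Subgroup.mem_bot] at h3
  have h4 : y * x = x * y := by
    have e : y * x = (y * x * y⁻¹ * x⁻¹) * (x * y) := by group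
    rw [e, h3, one_mul]
  exact h4.symm

theorem ftb_solvable (h : ftbCfg p L n χ) (P : Sylow p L) (q : ℕ) [Fact q.Prime] (Q : Sylow q L)
    (hN : (P : Subgroup L) ≤ Subgroup.normalizer ((Q : Subgroup L) : Set L))
    (htop : (Q : Subgroup L) ⊔ (P : Subgroup L) = ⊤) : Group.IsSolvable L := by
  have hQn : (Q : Subgroup L).Normal := by
    rw [← Subgroup.normalizer_eq_top_iff, eq_top_iff, ← htop]
    exact sup_le Subgroup.le_normalizer hN
  haveI := hQn
  haveI : Group.IsSolvable (Q : Subgroup L) := by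
    haveI := Q.2.isNilpotent
    infer_instance
  haveI : Group.IsSolvable (L ⧸ (Q : Subgroup L)) := by
    have hcomm : ∀ a b : (P : Subgroup L), a * b = b * a :=
      fun a b => Subtype.ext (ftb_sylow_comm h P a a.2 b b.2)
    haveI : Group.IsSolvable (P : Subgroup L) := Group.isSolvable_of_comm hcomm
    let f : (P : Subgroup L) →* L ⧸ (Q : Subgroup L) :=
      (QuotientGroup.mk' _).comp (P : Subgroup L).subtype
    apply Group.isSolvable_of_surjective (f := f)
    intro y
    obtain ⟨g, rfl⟩ := QuotientGroup.mk_surjective y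
    have hg : g ∈ ((Q : Subgroup L) ⊔ (P : Subgroup L) : Subgroup L) := htop ▸ Subgroup.mem_top g
    rw [← SetLike.mem_coe, Subgroup.normal_mul (Q : Subgroup L) (P : Subgroup L)] at hg
    obtain ⟨a, ha, b, hb, rfl⟩ := Set.mem_mul.mp hg
    refine ⟨⟨b, hb⟩, ?_⟩
    change ((b : L) : L ⧸ (Q : Subgroup L)) = ((a * b : L) : L ⧸ (Q : Subgroup L))
    rw [QuotientGroup.mk_mul, (QuotientGroup.eq_one_iff a).mpr ha, one_mul]
  exact Group.isSolvable_of_ker_le_range (Q : Subgroup L).subtype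
    (QuotientGroup.mk' (Q : Subgroup L)) (by rw [QuotientGroup.ker_mk', Subgroup.range_subtype])

end

section

variable {L : Type*} [Group L] [Finite L] {p : ℕ} [hp : Fact p.Prime] {n : ℕ} {χ : L → ℂ}

/-- Some irreducible constituent has `P ker ψ` not normal. -/
theorem ftb_exists_constituent (h : ftbCfg p L n χ) (P : Sylow p L)
    [Fintype L] [Fintype (Cfsg.IrrCharacter L)]
    (m : Cfsg.IrrCharacter L → ℕ)
    (hm : χ = ∑ ψ : Cfsg.IrrCharacter L, (m ψ : ℂ) • (ψ : L → ℂ)) :
    ∃ ψ : Cfsg.IrrCharacter L, m ψ ≠ 0 ∧ ¬ ((P : Subgroup L) ⊔ irrKer ψ).Normal := by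
  by_contra hall
  push Not at hall
  let D : Subgroup L := ⨅ ψ : {ψ : Cfsg.IrrCharacter L // m ψ ≠ 0}, (P : Subgroup L) ⊔ irrKer ψ.1
  have hDn : D.Normal := Subgroup.normal_iInf_normal (fun ψ => hall ψ.1 ψ.2)
  have hPD : (P : Subgroup L) ≤ D := le_iInf fun ψ => le_sup_left
  obtain ⟨k, hk⟩ := IsPGroup.iff_card.mp P.2
  have hDp : IsPGroup p D := by
    intro x
    refine ⟨k, ?_⟩
    apply Subtype.ext
    rw [Subgroup.coe_pow, Subgroup.coe_one]
    apply h.hfaith
    apply blf_value_of_constituents m hm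
    intro ψ hψ
    have hx : (x : L) ∈ (P : Subgroup L) ⊔ irrKer ψ :=
      (iInf_le (fun ψ : {ψ : Cfsg.IrrCharacter L // m ψ ≠ 0} => (P : Subgroup L) ⊔ irrKer ψ.1)
        ⟨ψ, hψ⟩ : D ≤ _) x.2
    rw [← SetLike.mem_coe, Subgroup.mul_normal (P : Subgroup L) (irrKer ψ)] at hx
    obtain ⟨a, ha, b, hb, hab⟩ := Set.mem_mul.mp hx
    rw [← mem_irrKer, ← QuotientGroup.eq_one_iff, QuotientGroup.mk_pow, ← hab, QuotientGroup.mk_mul,
      (QuotientGroup.eq_one_iff b).mpr hb, mul_one, ← QuotientGroup.mk_pow,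
      QuotientGroup.eq_one_iff]
    have h1 : (⟨a, ha⟩ : (P : Subgroup L)) ^ p ^ k = 1 := by
      rw [← hk]; exact pow_card_eq_one'
    have h2 := congrArg (Subtype.val) h1
    rw [Subgroup.coe_pow, Subgroup.coe_one] at h2
    change a ^ p ^ k = 1 at h2
    rw [h2]
    exact Subgroup.one_mem _
  have hDP : D = P := P.is_maximal' hDp hPD
  exact ftb_sylow_not_normal h P (hDP ▸ hDn)

/-- Winter's theorem excludes the solvable case. -/
theorem ftb_not_solvable (h : ftbCfg p L n χ) (hs : Group.IsSolvable L) : False := by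
  classical
  haveI : Fintype L := Fintype.ofFinite L
  haveI : Fintype (Cfsg.IrrCharacter L) := Fintype.ofFinite _
  obtain ⟨P⟩ : Nonempty (Sylow p L) := inferInstance
  obtain ⟨m, hm, hdeg⟩ := blf_decomp h.hchar n h.hdeg
  obtain ⟨ψ, hψ0, hψn⟩ := ftb_exists_constituent h P m hm
  obtain ⟨K, hKn, d, σ, hσ, hK, hσχ, hσf⟩ := quotient_setup ψ
  haveI := hKn
  have hKeq : K = irrKer ψ := by
    ext g
    rw [hK, mem_irrKer]
  let ψ' : Cfsg.IrrCharacter (L ⧸ K) := ⟨σ.character, d, σ, hσ, rfl⟩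
  have hdeg' : Cfsg.charDegree (ψ' : L ⧸ K → ℂ) = Cfsg.charDegree (ψ : L → ℂ) := by
    unfold Cfsg.charDegree
    have h1 : (ψ' : L ⧸ K → ℂ) 1 = (ψ : L → ℂ) 1 := hσχ 1
    rw [h1]
  let P' : Sylow p (L ⧸ K) := P.mapSurjective (QuotientGroup.mk'_surjective K)
  have hP' : ¬ (P' : Subgroup (L ⧸ K)).Normal := by
    intro hn
    apply hψn
    have h1 : ((P' : Subgroup (L ⧸ K)).comap (QuotientGroup.mk' K)).Normal := hn.comap _
    rw [Sylow.coe_mapSurjective, Subgroup.comap_map_eq, QuotientGroup.ker_mk', hKeq] at h1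
    exact h1
  obtain ⟨q, hq, hqd, hmod⟩ := Cfsg.Agent.S4467.result ψ' hσf _ rfl inferInstance p hp.out P' hP'
  rw [hdeg'] at hqd
  have hdn := hdeg ψ hψ0
  have hpos := (charDegree_irr ψ).2
  have hq2 : 2 ≤ q := hq.two_le
  have hqle : q ≤ Cfsg.charDegree (ψ : L → ℂ) := Nat.le_of_dvd hpos hqd
  have hnp := h.hnp
  have hp2 := hp.out.two_le
  have hkey : (p : ℤ) ≤ q + 1 := by
    rcases hmod with h1 | h1 | h1
    · have h2 := h1.dvd
      have h3 : (p : ℤ) ∣ (q : ℤ) + 1 := by
        have : (-1 : ℤ) - q = -((q : ℤ) + 1) := by ring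
        rw [this] at h2
        exact (dvd_neg.mp h2)
      exact Int.le_of_dvd (by positivity) h3
    · have h2 := h1.dvd
      have h3 : (p : ℤ) ∣ (q : ℤ) := by
        have : (0 : ℤ) - q = -(q : ℤ) := by ring
        rw [this] at h2
        exact (dvd_neg.mp h2)
      have := Int.le_of_dvd (by positivity) h3
      linarith
    · have h2 := h1.dvd
      have h3 : (p : ℤ) ∣ (q : ℤ) - 1 := by
        have : (1 : ℤ) - q = -((q : ℤ) - 1) := by ring
        rw [this] at h2
        exact (dvd_neg.mp h2)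
      have hq1 : (0 : ℤ) < (q : ℤ) - 1 := by
        have : (2 : ℤ) ≤ q := by exact_mod_cast hq2
        linarith
      have := Int.le_of_dvd hq1 h3
      linarith
  have : p ≤ q + 1 := by exact_mod_cast hkey
  omega

/-- No proper normal subgroup of `p`-power index. -/
theorem ftb_no_ppow_index (h : ftbCfg p L n χ) (T : Subgroup L) [T.Normal] (hT : T ≠ ⊤) (k : ℕ)
    (hk : T.index = p ^ k) : False := by
  obtain ⟨P⟩ : Nonempty (Sylow p L) := inferInstance
  obtain ⟨q, hqf, Q, hN, htop⟩ := ftb_generated h T hT k hk P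
  exact ftb_not_solvable h (ftb_solvable h P q Q hN htop)

end

section

variable {L : Type*} [Group L] [Finite L] {p : ℕ} [hp : Fact p.Prime] {n : ℕ} {χ : L → ℂ}

theorem ftb_center_inf (h : ftbCfg p L n χ) (P : Sylow p L) :
    (P : Subgroup L) ⊓ Subgroup.center L = ⊥ := by
  by_contra hne
  have hpg : IsPGroup p ((P : Subgroup L) ⊓ Subgroup.center L : Subgroup L) := P.2.to_inf_left
  have hdvd : p ∣ Nat.card ((P : Subgroup L) ⊓ Subgroup.center L : Subgroup L) := by
    obtain ⟨k, hk⟩ := IsPGroup.iff_card.mp hpg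
    rcases Nat.eq_zero_or_pos k with rfl | hkpos
    · rw [pow_zero] at hk
      exact absurd (Subgroup.card_eq_one.mp hk) hne
    · rw [hk]
      exact dvd_pow_self p hkpos.ne'
  obtain ⟨z, hz⟩ := exists_prime_orderOf_dvd_card' p hdvd
  have hz' : orderOf (z : L) = p := by
    rw [Subgroup.orderOf_coe]; exact hz
  have hzc : ∀ g : L, g * z = z * g := fun g => (Subgroup.mem_center_iff.mp z.2.2 g)
  obtain ⟨M, hMn, hMtop, c, hc⟩ := blf_central χ h.hchar h.hfaith n h.hdeg p hp.out
    (by have := h.hnp; omega) z hz' hzc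
  haveI := hMn
  exact ftb_no_ppow_index h M hMtop c hc

theorem ftb_linear_trivial (h : ftbCfg p L n χ) (P : Sylow p L) (ψ : Cfsg.IrrCharacter L)
    (h1 : (ψ : L → ℂ) 1 = 1) : ∀ x ∈ (P : Subgroup L), (ψ : L → ℂ) x = 1 := by
  intro x hx
  by_contra hne
  let μ : L →* ℂ :=
    { toFun := (ψ : L → ℂ), map_one' := h1, map_mul' := irr_linear_mul ψ h1 }
  have hμ : ∀ g, μ g = (ψ : L → ℂ) g := fun g => rfl
  set N := Nat.card L with hN
  set a := N.factorization p with ha
  set m' := N / p ^ a with hm'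
  have hNeq : p ^ a * m' = N := Nat.ordProj_mul_ordCompl_eq_self N p
  have hNpos : 0 < N := Nat.card_pos
  have hpm' : ¬ p ∣ m' := Nat.not_dvd_ordCompl hp.out hNpos.ne'
  haveI := blf_powKer_normal μ m'
  have hTtop : blf_powKer μ m' ≠ ⊤ := by
    intro htop
    have hxm : x ∈ blf_powKer μ m' := htop ▸ Subgroup.mem_top x
    have e1 : μ x ^ m' = 1 := hxm
    obtain ⟨j, hj⟩ := (IsPGroup.iff_orderOf.mp P.2) ⟨x, hx⟩
    have hxo : x ^ p ^ j = 1 := by
      have h3 : orderOf x = p ^ j := by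
        rw [← hj]; exact Subgroup.orderOf_coe (⟨x, hx⟩ : (P : Subgroup L))
      rw [← h3]; exact pow_orderOf_eq_one x
    have e2 : μ x ^ p ^ j = 1 := by rw [← map_pow, hxo, map_one]
    have d1 : orderOf (μ x) ∣ m' := orderOf_dvd_of_pow_eq_one e1
    have d2 : orderOf (μ x) ∣ p ^ j := orderOf_dvd_of_pow_eq_one e2
    have hcop : Nat.Coprime (p ^ j) m' :=
      Nat.Coprime.pow_left j ((Nat.Prime.coprime_iff_not_dvd hp.out).2 hpm')
    have d3 : orderOf (μ x) ∣ 1 := by
      have := Nat.dvd_gcd d2 d1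
      rwa [hcop] at this
    have : μ x = 1 := orderOf_eq_one_iff.mp (Nat.dvd_one.mp d3)
    exact hne this
  have hpq : IsPGroup p (L ⧸ blf_powKer μ m') := by
    intro y
    obtain ⟨g, rfl⟩ := QuotientGroup.mk_surjective y
    refine ⟨a, ?_⟩
    rw [← QuotientGroup.mk_pow, QuotientGroup.eq_one_iff]
    change μ (g ^ p ^ a) ^ m' = 1
    rw [map_pow, ← pow_mul, hNeq, ← map_pow, hN, pow_card_eq_one', map_one]
  obtain ⟨c', hc'⟩ := IsPGroup.iff_card.1 hpq
  exact ftb_no_ppow_index h (blf_powKer μ m') hTtop c' (by rw [Subgroup.index_eq_card]; exact hc')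

theorem ftb_cent_unique (h : ftbCfg p L n χ) (g : L) (hg : g ∉ Subgroup.center L)
    (P1 P2 : Sylow p L)
    (h1 : Subgroup.centralizer ({g} : Set L) ⊓ (P1 : Subgroup L) ≠ ⊥)
    (h2 : Subgroup.centralizer ({g} : Set L) ⊓ (P2 : Subgroup L) ≠ ⊥) : P1 = P2 := by
  have hM : Subgroup.centralizer ({g} : Set L) ≠ ⊤ := by
    intro htop
    apply hg
    rw [Subgroup.mem_center_iff]
    intro y
    have hy : y ∈ Subgroup.centralizer ({g} : Set L) := htop ▸ Subgroup.mem_top y
    rw [Subgroup.mem_centralizer_iff] at hy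
    exact (hy g rfl).symm
  obtain ⟨R, -, hR, hall⟩ := h.hmin _ hM
  obtain ⟨P', hP'⟩ := hR.exists_le_sylow
  have key : ∀ P0 : Sylow p L,
      Subgroup.centralizer ({g} : Set L) ⊓ (P0 : Subgroup L) ≠ ⊥ → P' = P0 := by
    intro P0 h0
    by_contra hne
    apply h0
    have hle : Subgroup.centralizer ({g} : Set L) ⊓ (P0 : Subgroup L) ≤
        (P' : Subgroup L) ⊓ (P0 : Subgroup L) :=
      le_inf ((hall _ inf_le_left (P0.2.to_inf_right)).trans hP') inf_le_right
    have hc := hle.trans (ftb_inf_le_center h hne)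
    rw [eq_bot_iff, ← ftb_center_inf h P0]
    exact le_inf inf_le_right hc
  rw [← key P1 h1, ← key P2 h2]

theorem ftb_coe_smul (P : Sylow p L) (a : L) :
    ((a • P : Sylow p L) : Subgroup L) = (P : Subgroup L).map (MulAut.conj a).toMonoidHom := rfl

theorem ftb_main (h : ftbCfg p L n χ) (P : Sylow p L) :
    Nat.card (P : Subgroup L) < (n + 1) ^ 2 := by
  classical
  haveI : Fintype L := Fintype.ofFinite L
  haveI : Fintype (Cfsg.IrrCharacter L) := Fintype.ofFinite _
  haveI : Fintype (P : Subgroup L) := Fintype.ofFinite _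
  obtain ⟨m, hm, hdeg⟩ := blf_decomp h.hchar n h.hdeg
  obtain ⟨x, hx, hx1⟩ : ∃ x ∈ (P : Subgroup L), x ≠ 1 := by
    by_contra hno
    push Not at hno
    exact ftb_sylow_ne_bot h P ((Subgroup.eq_bot_iff_forall _).mpr hno)
  obtain ⟨ψ, hψ0, hψx⟩ :
      ∃ ψ : Cfsg.IrrCharacter L, m ψ ≠ 0 ∧ (ψ : L → ℂ) x ≠ (ψ : L → ℂ) 1 := by
    by_contra hno
    push Not at hno
    exact hx1 (h.hfaith x (blf_value_of_constituents m hm x hno))
  have hψ1 : (ψ : L → ℂ) 1 ≠ 1 := by
    intro h1
    apply hψx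
    rw [ftb_linear_trivial h P ψ h1 x hx, h1]
  have hone : ∀ g : L, g ∉ Subgroup.center L → ∀ a b : L,
      Subgroup.centralizer ({g} : Set L) ⊓ (P : Subgroup L).map (MulAut.conj a).toMonoidHom ≠ ⊥ →
      Subgroup.centralizer ({g} : Set L) ⊓ (P : Subgroup L).map (MulAut.conj b).toMonoidHom ≠ ⊥ →
      (P : Subgroup L).map (MulAut.conj a).toMonoidHom =
        (P : Subgroup L).map (MulAut.conj b).toMonoidHom := by
    intro g hg a b ha hb
    rw [← ftb_coe_smul P a] at ha ⊢
    rw [← ftb_coe_smul P b] at hb ⊢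
    rw [ftb_cent_unique h g hg _ _ ha hb]
  have hnorm : ∀ M : Subgroup L, M.Normal → (P : Subgroup L) ≤ M → M = ⊤ := by
    intro M hMn hPM
    by_contra hne
    obtain ⟨R, -, hR, hall⟩ := h.hmin M hne
    have hRP : R = P := P.is_maximal' hR (hall _ hPM P.2)
    apply ftb_sylow_not_normal h P
    constructor
    intro y hy g
    have h0 : (P : Subgroup L).map (MulAut.conj g).toMonoidHom ≤ R := by
      apply hall _ _ (P.2.map _)
      rintro _ ⟨z, hz, rfl⟩
      exact hMn.conj_mem z (hPM hz) g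
    rw [hRP] at h0
    exact h0 ⟨y, hy, rfl⟩
  have hres := (Cfsg.Agent.S0898.result (P : Subgroup L) (ftb_sylow_comm h P) (ftb_center_inf h P)
    hone (ψ : L → ℂ) ψ.2 ⟨x, hx, hψx⟩).2 hψ1 hnorm
  have hd := (charDegree_irr ψ).1
  have hdn := hdeg ψ hψ0
  rw [← hd] at hres
  simp only [Complex.natCast_re] at hres
  have h2 : (Nat.card (P : Subgroup L) : ℝ) < ((1 + Cfsg.charDegree (ψ : L → ℂ) : ℕ) : ℝ) ^ 2 := by
    push_cast
    exact hres
  have h3 : Nat.card (P : Subgroup L) < (1 + Cfsg.charDegree (ψ : L → ℂ)) ^ 2 := by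
    exact_mod_cast h2
  calc Nat.card (P : Subgroup L) < (1 + Cfsg.charDegree (ψ : L → ℂ)) ^ 2 := h3
    _ ≤ (n + 1) ^ 2 := by
        apply Nat.pow_le_pow_left
        omega

end

section

/-- Feit–Thompson–Blichfeldt: normal Sylow `p`-subgroups of linear groups of small degree. -/
theorem ftb_final {G : Type*} [Group G] [Finite G] (n : ℕ) (ρ : Representation ℂ G (Fin n → ℂ))
    (hρ : Function.Injective ρ) (p : ℕ) [hp : Fact p.Prime]
    (h : (n + 1) ^ 2 ≤ p ∨ (n + 1 < p ∧ ∀ K : Subgroup G, ¬ p ^ 2 ∣ Nat.card K →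
      ∀ Q : Sylow p K, (Q : Subgroup K).Normal))
    (P : Sylow p G) : (P : Subgroup G).Normal := by
  classical
  by_contra hPn
  have hnot : ¬ ftbClosed p (⊤ : Subgroup G) := fun hc => hPn (ftb_normal_of_closed_top p hc P)
  obtain ⟨L, hLnot, hLmin⟩ := ftb_exists_min p hnot
  have hχ : Cfsg.IsCharacter G ρ.character := ⟨n, ρ, rfl⟩
  have hfr : Module.finrank ℂ (Fin n → ℂ) = n := by simp
  have hχ1 : ρ.character 1 = (n : ℂ) := by
    rw [Representation.char_one, hfr]
  have hfaith : ∀ g : G, ρ.character g = ρ.character 1 → g = 1 := by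
    intro g hg
    apply hρ
    rw [map_one]
    have h1 : ρ.character g = (Module.finrank ℂ (Fin n → ℂ) : ℂ) := by rw [hg, hχ1, hfr]
    exact (Cfsg.Agent.S0139.result ρ g).mp h1
  have hp2 := hp.out.two_le
  have hnp : n + 1 < p := by
    rcases h with h | h
    · nlinarith
    · exact h.1
  have cfg : ftbCfg p L n (fun x : L => ρ.character x) := by
    refine ⟨isCharacter_restrict hχ L, ?_, hχ1, hnp, ?_, ?_⟩
    · intro g hg
      exact Subtype.ext (hfaith g hg)
    · intro M hM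
      apply ftb_closed_of_map p L M
      apply hLmin
      refine lt_of_le_of_ne (Subgroup.map_subtype_le _) ?_
      intro heq
      apply hM
      rw [eq_top_iff]
      intro x _
      have hx : (x : G) ∈ M.map L.subtype := by rw [heq]; exact x.2
      obtain ⟨y, hy, hyx⟩ := hx
      have : y = x := Subtype.ext hyx
      exact this ▸ hy
    · exact fun hc => hLnot (ftb_closed_map_top p L hc)
  obtain ⟨PL⟩ : Nonempty (Sylow p L) := inferInstance
  have hcard := ftb_main cfg PL
  have hmul := Sylow.card_eq_multiplicity PL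
  have hne := ftb_sylow_ne_bot cfg PL
  rcases h with h | h
  · have hk : (Nat.card L).factorization p ≠ 0 := by
      intro h0
      rw [h0, pow_zero] at hmul
      exact hne (Subgroup.card_eq_one.mp hmul)
    have hge : p ≤ Nat.card (PL : Subgroup L) := by
      rw [hmul]
      exact Nat.le_self_pow hk p
    omega
  · have hdvd : p ^ 2 ∣ Nat.card L := by
      by_contra hnd
      exact hLnot (ftb_closed_of_sylow_normal p L (h.2 L hnd))
    have hk : 2 ≤ (Nat.card L).factorization p :=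
      (hp.out.pow_dvd_iff_le_factorization Nat.card_pos.ne').mp hdvd
    have hge : p ^ 2 ≤ Nat.card (PL : Subgroup L) := by
      rw [hmul]
      exact Nat.pow_le_pow_right hp.out.pos hk
    have : (n + 1) ^ 2 < p ^ 2 := Nat.pow_lt_pow_left hnp (by norm_num)
    omega

end

end Cfsg.Agent.Lib.Helper25
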