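import Mathlib
import Cfsg.Prelude.Def_Characters
import Cfsg.Prelude.Def_Blocks
import Cfsg.Agent.Lib.Helper25.GaloisFix
import Cfsg.Agent.Lib.Helper25.Gagola
import Cfsg.Agent.Lib.Helper25.CharAbelian
import Cfsg.Agent.Lib.helper2.NilpMonomial
import Cfsg.Agent.Lib.helper2.BergerG1
import Cfsg.Agent.Lib.Helper11.IndNormal
import Cfsg.Agent.Lib.Helper11.GaloisConj
import Cfsg.Agent.Lib.helper7.BlockQuot
import Cfsg.Agent.S0147

/-!
Faithful irreducible characters of p-groups: the order is bounded in terms of the degree and the degree of the field of values (S4489). Uses Galois orbits (index of the stabilizer in the ring automorphisms of the complex numbers), induction from a maximal subgroup, and induction on the order.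
-/

set_option autoImplicit false
set_option linter.style.haveILetI false
set_option linter.unusedVariables false
set_option linter.unusedSectionVars false
set_option warn.classDefReducibility false
set_option maxHeartbeats 1600000

namespace Cfsg.Agent.Lib.Helper25
open Cfsg.Agent.Lib.Helper11
open Cfsg.Agent.Lib.helper2
open Cfsg.Agent.Lib.helper7
open scoped ComplexConjugate
section

/-- Galois stabilizer of a complex-valued function. -/
noncomputable def fvp_stab {H : Type*} (φ : H → ℂ) : Subgroup (ℂ ≃+* ℂ) :=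
  MulAction.stabilizer (ℂ ≃+* ℂ) φ

theorem fvp_smul_apply {H : Type*} (τ : ℂ ≃+* ℂ) (φ : H → ℂ) (h : H) : (τ • φ) h = τ (φ h) := rfl

theorem fvp_mem_stab {H : Type*} (φ : H → ℂ) (τ : ℂ ≃+* ℂ) :
    τ ∈ fvp_stab φ ↔ ∀ h, τ (φ h) = φ h := by
  unfold fvp_stab
  rw [MulAction.mem_stabilizer_iff]
  constructor
  · intro h x
    exact congrFun h x
  · intro h
    funext x
    exact h x

/-- The size of the Galois orbit, as the index of the stabilizer. -/
noncomputable def fvp_d {H : Type*} (φ : H → ℂ) : ℕ := (fvp_stab φ).index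

theorem fvp_d_eq_ncard {H : Type*} (φ : H → ℂ) :
    fvp_d φ = (MulAction.orbit (ℂ ≃+* ℂ) φ).ncard :=
  MulAction.index_stabilizer (ℂ ≃+* ℂ) φ

theorem fvp_orbit_finite {H : Type*} [Group H] [Finite H] (φ : H → ℂ)
    (hφ : Cfsg.IsIrrCharacter H φ) : (MulAction.orbit (ℂ ≃+* ℂ) φ).Finite := by
  have h1 : (Set.range (fun ξ : Cfsg.IrrCharacter H => (ξ : H → ℂ))).Finite := Set.finite_range _
  apply h1.subset
  rintro _ ⟨τ, rfl⟩
  exact ⟨⟨_, isIrrCharacter_ringAut τ hφ⟩, rfl⟩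

theorem fvp_d_pos {H : Type*} [Group H] [Finite H] (φ : H → ℂ)
    (hφ : Cfsg.IsIrrCharacter H φ) : 0 < fvp_d φ := by
  rw [fvp_d_eq_ncard, Set.ncard_pos (fvp_orbit_finite φ hφ)]
  exact ⟨φ, MulAction.mem_orbit_self φ⟩

theorem fvp_d_le {H H' : Type*} (φ : H → ℂ) (φ' : H' → ℂ) (h : fvp_stab φ ≤ fvp_stab φ')
    (hpos : 0 < fvp_d φ) : fvp_d φ' ≤ fvp_d φ :=
  Nat.le_of_dvd hpos (Subgroup.index_dvd_of_le h)

theorem fvp_stab_comp {H H' : Type*} (π : H → H') (hπ : Function.Surjective π) (φ : H' → ℂ) :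
    fvp_stab (fun h => φ (π h)) = fvp_stab φ := by
  ext τ
  rw [fvp_mem_stab, fvp_mem_stab]
  constructor
  · intro h y
    obtain ⟨x, rfl⟩ := hπ y
    exact h x
  · intro h x
    exact h (π x)

/-- The Galois orbit is bounded by the degree of the field of values. -/
theorem fvp_d_le_finrank {H : Type*} (φ : H → ℂ)
    (hfin : 0 < Module.finrank ℚ (IntermediateField.adjoin ℚ (Set.range φ))) :
    fvp_d φ ≤ Module.finrank ℚ (IntermediateField.adjoin ℚ (Set.range φ)) := by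
  set K := IntermediateField.adjoin ℚ (Set.range φ) with hK
  haveI : FiniteDimensional ℚ K := Module.finite_of_finrank_pos hfin
  have hmem : ∀ h : H, φ h ∈ K := fun h =>
    IntermediateField.subset_adjoin ℚ _ (Set.mem_range_self h)
  let g : (K →ₐ[ℚ] ℂ) → (H → ℂ) := fun σ h => σ ⟨φ h, hmem h⟩
  have hsub : MulAction.orbit (ℂ ≃+* ℂ) φ ⊆ Set.range g := by
    rintro _ ⟨τ, rfl⟩
    refine ⟨((τ : ℂ →+* ℂ).toRatAlgHom).comp K.val, ?_⟩
    funext h
    rfl
  have hfinr : (Set.range g).Finite := Set.finite_range g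
  rw [fvp_d_eq_ncard]
  calc (MulAction.orbit (ℂ ≃+* ℂ) φ).ncard ≤ (Set.range g).ncard := Set.ncard_le_ncard hsub hfinr
    _ ≤ Nat.card (K →ₐ[ℚ] ℂ) := by
        rw [← Set.image_univ]
        calc (g '' Set.univ).ncard ≤ (Set.univ : Set (K →ₐ[ℚ] ℂ)).ncard := Set.ncard_image_le
          _ = Nat.card (K →ₐ[ℚ] ℂ) := Set.ncard_univ _
    _ = Field.finSepDegree ℚ K := (Field.finSepDegree_eq_of_isAlgClosed ℚ K ℂ).symm
    _ ≤ Module.finrank ℚ K := Field.finSepDegree_le_finrank ℚ K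

end

section

/-- A faithful linear character of a group of order `p ^ a` has at least `φ(p ^ a)` Galois
conjugates. -/
theorem fvp_base {P : Type*} [Group P] [Finite P] (p a : ℕ) (hp : p.Prime) (ha : 0 < a)
    (hP : Nat.card P = p ^ a) (χ : Cfsg.IrrCharacter P) (hlin : (χ : P → ℂ) 1 = 1)
    (hfaith : ∀ g : P, (χ : P → ℂ) g = (χ : P → ℂ) 1 → g = 1) :
    p ^ (a - 1) * (p - 1) ≤ fvp_d (χ : P → ℂ) := by
  classical
  set lam := irrLinearHom χ hlin with hlam
  have hinj : Function.Injective lam := by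
    rw [injective_iff_map_eq_one]
    intro g hg
    apply hfaith
    rw [hlin, ← irrLinearHom_apply χ hlin g, ← hlam, hg]
    rfl
  have hinj' : Function.Injective ((Units.coeHom ℂ).comp lam) := by
    intro x y hxy
    apply hinj
    exact Units.ext hxy
  haveI : IsCyclic P := isCyclic_of_injective_ringHom ((Units.coeHom ℂ).comp lam) hinj'
  obtain ⟨g, hg⟩ := IsCyclic.exists_generator (α := P)
  have hord : orderOf g = p ^ a := by
    rw [orderOf_eq_card_of_forall_mem_zpowers hg, hP]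
  set ζ : ℂ := (χ : P → ℂ) g with hζ
  have hordζ : orderOf (lam g) = p ^ a := by
    rw [orderOf_injective _ hinj g, hord]
  have hpow : ∀ h : P, ((χ : P → ℂ) h) ^ (p ^ a) = 1 := by
    intro h
    have h1 : (χ : P → ℂ) h = ((Units.coeHom ℂ).comp lam) h := rfl
    rw [h1, ← map_pow, ← hP, pow_card_eq_one', map_one]
  have hN : 0 < p ^ a := pow_pos hp.pos a
  let F : ℕ → (P → ℂ) := fun m => if h : Nat.Coprime m (p ^ a) then
      (Classical.choose (exists_ringAut_pow (p ^ a) m hN h)) • (χ : P → ℂ) else (χ : P → ℂ)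
  have hF : ∀ m, Nat.Coprime m (p ^ a) →
      F m ∈ MulAction.orbit (ℂ ≃+* ℂ) (χ : P → ℂ) ∧ F m g = ζ ^ m := by
    intro m hm
    simp only [F, dif_pos hm]
    refine ⟨⟨_, rfl⟩, ?_⟩
    rw [fvp_smul_apply]
    exact Classical.choose_spec (exists_ringAut_pow (p ^ a) m hN hm) ζ (hpow g)
  have hfin := fvp_orbit_finite (χ : P → ℂ) χ.2
  rw [fvp_d_eq_ncard, Set.ncard_eq_toFinset_card _ hfin, ← Nat.totient_prime_pow hp ha,
    Nat.totient_eq_card_coprime]
  apply Finset.card_le_card_of_injOn F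
  · intro m hm
    rw [Finset.mem_coe, Finset.mem_filter] at hm
    rw [Finset.mem_coe, Set.Finite.mem_toFinset]
    exact (hF m hm.2.symm).1
  · intro m hm m' hm' heq
    rw [Finset.mem_coe, Finset.mem_filter, Finset.mem_range] at hm hm'
    have h1 := (hF m hm.2.symm).2
    have h2 := (hF m' hm'.2.symm).2
    rw [heq, h2] at h1
    have h1' : (lam g) ^ m' = (lam g) ^ m := by
      apply Units.ext
      rw [Units.val_pow_eq_pow_val, Units.val_pow_eq_pow_val]
      exact h1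
    have h3 : m' ≡ m [MOD p ^ a] := by
      rw [← hordζ]
      exact pow_eq_pow_iff_modEq.mp h1'
    exact (Nat.ModEq.eq_of_lt_of_lt h3 hm'.1 hm.1).symm

end

section

theorem fvp_extend_ringAut {P : Type*} [Group P] (M : Subgroup P) (ψ : M → ℂ) (τ : ℂ ≃+* ℂ)
    (y : P) :
    τ (Cfsg.extendByZero M ψ y) = Cfsg.extendByZero M (fun m => τ (ψ m)) y := by
  by_cases hy : y ∈ M
  · rw [h7_extendByZero_mem M ψ y hy, h7_extendByZero_mem M _ y hy]
  · rw [h7_extendByZero_not_mem M ψ y hy, h7_extendByZero_not_mem M _ y hy, map_zero]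

theorem fvp_ind_ringAut {P : Type*} [Group P] [Fintype P] (M : Subgroup P) (ψ : M → ℂ)
    (τ : ℂ ≃+* ℂ) (g : P) :
    τ (Cfsg.indFun M ψ g) = Cfsg.indFun M (fun m => τ (ψ m)) g := by
  unfold Cfsg.indFun
  rw [map_mul, map_inv₀, map_natCast, map_sum]
  congr 1
  exact Finset.sum_congr rfl fun x _ => fvp_extend_ringAut M ψ τ _

theorem fvp_stab_le_ind {P : Type*} [Group P] [Fintype P] (M : Subgroup P) (ψ : M → ℂ) :
    fvp_stab ψ ≤ fvp_stab (Cfsg.indFun M ψ) := by
  intro τ hτ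
  rw [fvp_mem_stab] at hτ ⊢
  intro g
  rw [fvp_ind_ringAut]
  have h1 : (fun m => τ (ψ m)) = ψ := funext hτ
  rw [h1]

/-- A Galois automorphism fixing the induced irreducible character permutes the conjugates. -/
theorem fvp_conj_of_stab {P : Type*} [Group P] [Fintype P] (M : Subgroup P) [hMn : M.Normal]
    (ψ : M → ℂ) (hψ : Cfsg.IsIrrCharacter M ψ)
    (hχ : Cfsg.IsIrrCharacter P (Cfsg.indFun M ψ)) (τ : ℂ ≃+* ℂ)
    (hτ : τ ∈ fvp_stab (Cfsg.indFun M ψ)) : ∃ x : P, (fun m => τ (ψ m)) = cj M ψ x := by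
  by_contra hne
  have h0 := classInner_indFun_of_not_conj M ψ (fun m => τ (ψ m)) hψ
    (isIrrCharacter_ringAut τ hψ) hne
  have h1 : Cfsg.indFun M (fun m => τ (ψ m)) = Cfsg.indFun M ψ := by
    funext g
    rw [← fvp_ind_ringAut]
    exact (fvp_mem_stab _ τ).mp hτ g
  rw [h1, h7_irr_norm hχ] at h0
  exact one_ne_zero h0

theorem fvp_cj_mul_mem {P : Type*} [Group P] (M : Subgroup P) [hMn : M.Normal] (ψ : M → ℂ)
    (hcl : Cfsg.IsClassFunction M ψ) (g m : P) (hm : m ∈ M) :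
    cj M ψ (g * m) = cj M ψ g := by
  funext h
  rw [cj_apply, cj_apply]
  have hgm : g * m * g⁻¹ ∈ M := hMn.conj_mem m hm g
  have h1 := hcl ⟨g * h * g⁻¹, hMn.conj_mem h h.2 g⟩ ⟨g * m * g⁻¹, hgm⟩
  rw [← h1]
  congr 1
  apply Subtype.ext
  simp only [Subgroup.coe_mul, Subgroup.coe_inv, mul_inv_rev]
  group

theorem fvp_pow_cj {P : Type*} [Group P] (M : Subgroup P) [hMn : M.Normal] (ψ : M → ℂ)
    (τ : ℂ ≃+* ℂ) (x : P) (h : (fun m => τ (ψ m)) = cj M ψ x) (k : ℕ) :
    (fun m => (τ ^ k) (ψ m)) = cj M ψ (x ^ k) := by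
  induction k with
  | zero =>
    rw [pow_zero, pow_zero, cj_one]
    rfl
  | succ k ih =>
    rw [pow_succ, pow_succ, ← cj_mul, ← ih]
    funext m
    show (τ ^ k) (τ (ψ m)) = (τ ^ k) (ψ ⟨x * m * x⁻¹, _⟩)
    have h1 : τ (ψ m) = cj M ψ x m := congrFun h m
    rw [h1, cj_apply]

/-- If some Galois automorphism fixing `χ` moves `ψ`, then all conjugates of `ψ` are Galois
conjugate to `ψ` (the index being a prime). -/
theorem fvp_all_conj_galois {P : Type*} [Group P] [Fintype P] (p : ℕ) (hp : p.Prime)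
    (M : Subgroup P) [hMn : M.Normal] (hidx : M.index = p) (ψ : M → ℂ)
    (hcl : Cfsg.IsClassFunction M ψ) (τ : ℂ ≃+* ℂ) (x : P)
    (h : (fun m => τ (ψ m)) = cj M ψ x) (hne : (fun m => τ (ψ m)) ≠ ψ) (g : P) :
    ∃ k : ℕ, cj M ψ g = fun m => (τ ^ k) (ψ m) := by
  haveI : Fact p.Prime := ⟨hp⟩
  have hx : x ∉ M := by
    intro hx
    apply hne
    rw [h]
    have h1 := fvp_cj_mul_mem M ψ hcl 1 x hx
    rw [one_mul, cj_one] at h1
    exact h1
  have hcard : Nat.card (P ⧸ M) = p := by rw [← Subgroup.index_eq_card, hidx]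
  have hx1 : (x : P ⧸ M) ≠ 1 := by
    intro h1
    exact hx ((QuotientGroup.eq_one_iff x).mp h1)
  obtain ⟨k, hk⟩ := mem_powers_of_prime_card hcard hx1 (g' := (g : P ⧸ M))
  refine ⟨k, ?_⟩
  rw [fvp_pow_cj M ψ τ x h k]
  have hk' : ((x ^ k : P) : P ⧸ M) = (g : P ⧸ M) := by
    rw [QuotientGroup.mk_pow]
    exact hk
  have hm : (x ^ k)⁻¹ * g ∈ M := QuotientGroup.eq.mp hk'
  have hg : g = x ^ k * ((x ^ k)⁻¹ * g) := by group
  rw [hg, fvp_cj_mul_mem M ψ hcl _ _ hm]

theorem fvp_ind_ker {P : Type*} [Group P] [Fintype P] (M : Subgroup P) [hMn : M.Normal]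
    (ψ : M → ℂ) (m : M) (h : ∀ x : P, cj M ψ x m = cj M ψ x 1) :
    Cfsg.indFun M ψ (m : P) = Cfsg.indFun M ψ 1 := by
  have h1 := indFun_normal_apply M ψ m
  have h2 := indFun_normal_apply M ψ 1
  rw [show ((1 : M) : P) = 1 from rfl] at h2
  rw [h1, h2]
  congr 1
  exact Finset.sum_congr rfl fun x _ => h x

/-- The Galois orbit of `ψ` is at most `|P : M|` times that of the induced character. -/
theorem fvp_d_le_mul {P : Type*} [Group P] [Fintype P] (M : Subgroup P) [hMn : M.Normal]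
    (ψ : M → ℂ) (hψ : Cfsg.IsIrrCharacter M ψ)
    (hχ : Cfsg.IsIrrCharacter P (Cfsg.indFun M ψ)) :
    fvp_d ψ ≤ M.index * fvp_d (Cfsg.indFun M ψ) := by
  set S := fvp_stab (Cfsg.indFun M ψ) with hS
  set T := fvp_stab ψ with hT
  have hTS : T ≤ S := fvp_stab_le_ind M ψ
  have hcl := h7_irr_isClassFunction hψ
  have h1 : T.relIndex S * S.index = T.index := Subgroup.relIndex_mul_index hTS
  have h2 : T.subgroupOf S = MulAction.stabilizer ↥S ψ := by
    ext σ
    rw [Subgroup.mem_subgroupOf, MulAction.mem_stabilizer_iff, Subgroup.smul_def]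
    exact MulAction.mem_stabilizer_iff
  have h3 : T.relIndex S = (MulAction.orbit ↥S ψ).ncard := by
    rw [← MulAction.index_stabilizer, ← h2]
    rfl
  let c : P ⧸ M → (M → ℂ) := fun q => cj M ψ q.out
  have hsub : MulAction.orbit ↥S ψ ⊆ Set.range c := by
    rintro _ ⟨σ, rfl⟩
    obtain ⟨x, hx⟩ := fvp_conj_of_stab M ψ hψ hχ (σ : ℂ ≃+* ℂ) σ.2
    refine ⟨(x : P ⧸ M), ?_⟩
    obtain ⟨m, hm⟩ := QuotientGroup.mk_out_eq_mul M x
    show cj M ψ (Quotient.out (x : P ⧸ M)) = _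
    rw [hm, fvp_cj_mul_mem M ψ hcl x m m.2, ← hx]
    rfl
  have h4 : T.relIndex S ≤ M.index := by
    rw [h3]
    calc (MulAction.orbit ↥S ψ).ncard ≤ (Set.range c).ncard :=
          Set.ncard_le_ncard hsub (Set.finite_range c)
      _ ≤ Nat.card (P ⧸ M) := by
          rw [← Set.image_univ]
          calc (c '' Set.univ).ncard ≤ (Set.univ : Set (P ⧸ M)).ncard := Set.ncard_image_le
            _ = Nat.card (P ⧸ M) := Set.ncard_univ _
      _ = M.index := (Subgroup.index_eq_card M).symm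
  show T.index ≤ M.index * S.index
  rw [← h1]
  exact Nat.mul_le_mul_right _ h4

end

section

/-- A nonlinear irreducible character of a `p`-group is induced from a maximal subgroup. -/
theorem fvp_exists_max {P : Type*} [Group P] [Fintype P] (p a : ℕ) (hp : p.Prime)
    (hP : Nat.card P = p ^ a) (χ : Cfsg.IrrCharacter P) (hnl : (χ : P → ℂ) 1 ≠ 1) :
    ∃ (M : Subgroup P) (_ : M.Normal) (ψ : M → ℂ), M.index = p ∧ Cfsg.IsIrrCharacter M ψ ∧
      (χ : P → ℂ) = Cfsg.indFun M ψ := by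
  classical
  haveI : Fact p.Prime := ⟨hp⟩
  have hpg : IsPGroup p P := IsPGroup.of_card hP
  haveI : Group.IsNilpotent P := hpg.isNilpotent
  obtain ⟨H, lam, hχ⟩ := nilp_monomial_aux (Fintype.card P) le_rfl (χ : P → ℂ) χ.2
  have hHtop : H ≠ ⊤ := by
    intro htop
    apply hnl
    subst htop
    rw [hχ, h7_indFun_one, Subgroup.index_top]
    simp
  obtain ⟨n, hn⟩ := IsPGroup.iff_card.mp (hpg.to_subgroup H)
  have hlt : Nat.card H < Nat.card P := by
    rcases lt_or_eq_of_le (Subgroup.card_le_card_group H) with h | h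
    · exact h
    · exact absurd ((Subgroup.card_eq_iff_eq_top H).mp h) hHtop
  have hna : n < a := by
    rw [hn, hP] at hlt
    exact (Nat.pow_lt_pow_iff_right hp.one_lt).mp hlt
  have hdvd : p ^ (a - 1) ∣ Nat.card P := by
    rw [hP]
    exact pow_dvd_pow p (Nat.sub_le a 1)
  obtain ⟨M, hMcard, hHM⟩ := Sylow.exists_subgroup_card_pow_prime_le p hdvd H hn (by omega)
  have hidx : M.index = p := by
    have h1 := Subgroup.card_mul_index M
    rw [hMcard, hP] at h1
    have h2 : p ^ a = p ^ (a - 1) * p := by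
      rw [← pow_succ]
      congr 1
      omega
    rw [h2] at h1
    exact Nat.eq_of_mul_eq_mul_left (pow_pos hp.pos _) h1
  have hMn : M.Normal := by
    apply Subgroup.normal_of_index_eq_minFac_card
    rw [hidx, hP, Nat.Prime.pow_minFac hp (by omega)]
  haveI : Fintype M := Fintype.ofFinite M
  set θ : H → ℂ := fun h => ((lam h : ℂˣ) : ℂ) with hθ
  have htr := Cfsg.Agent.S0147.result H M hHM θ
  set ψ : M → ℂ := Cfsg.indFun (H.subgroupOf M)
    (fun x => θ ⟨(x : M), Subgroup.mem_subgroupOf.mp x.2⟩) with hψ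
  have hlin : Cfsg.IsCharacter (H.subgroupOf M)
      (fun x => θ ⟨(x : M), Subgroup.mem_subgroupOf.mp x.2⟩) := by
    let μ : (H.subgroupOf M) →* ℂˣ :=
      lam.comp (Subgroup.subgroupOfEquivOfLe hHM).toMonoidHom
    have h1 := isCharacter_of_irr (linIrr μ)
    convert h1 using 1
    funext x
    rfl
  have hψc : Cfsg.IsCharacter M ψ := isCharacter_indFun _ _ hlin
  have hind : Cfsg.IsIrrCharacter P (Cfsg.indFun M ψ) := by
    rw [htr, ← hχ]
    exact χ.2
  refine ⟨M, hMn, ψ, hidx, bg_irr_of_ind_irr M hψc hind, ?_⟩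
  rw [htr, hχ]

end

section

theorem fvp_arith_B (p a f₁ s : ℕ) (hp : 2 ≤ p) (ha : 1 ≤ a) (hf : 1 ≤ f₁)
    (h : (p - 1) * (a - 1) ≤ (f₁ - 1) + (p - 1) * (s + 1 + 1) * f₁) :
    (p - 1) * a ≤ (p * f₁ - 1) + (p - 1) * (s + 1) * (p * f₁) := by
  obtain ⟨u, rfl⟩ : ∃ u, p = u + 2 := ⟨p - 2, by omega⟩
  obtain ⟨a', rfl⟩ : ∃ a', a = a' + 1 := ⟨a - 1, by omega⟩
  obtain ⟨e, rfl⟩ : ∃ e, f₁ = e + 1 := ⟨f₁ - 1, by omega⟩
  have h1 : u + 2 - 1 = u + 1 := by omega
  have h2 : (u + 2) * (e + 1) - 1 = (u + 2) * e + u + 1 := by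
    have : (u + 2) * (e + 1) = (u + 2) * e + u + 1 + 1 := by ring
    omega
  rw [h1] at h ⊢
  rw [h2]
  simp only [Nat.add_sub_cancel] at h
  nlinarith [Nat.zero_le (u * e), Nat.zero_le (u * s), Nat.zero_le (u * s * e),
    Nat.zero_le (u * u * s * e), Nat.zero_le (u * u * s), Nat.zero_le (u * u * e),
    Nat.zero_le (s * e), Nat.zero_le (u * u)]

theorem fvp_arith_A (p a f₁ s : ℕ) (hp : 2 ≤ p) (ha : 1 ≤ a) (hf : 1 ≤ f₁)
    (h : (p - 1) * (a - 1) ≤ p * ((f₁ - 1) + (p - 1) * (s + 1) * f₁)) :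
    (p - 1) * a ≤ (p * f₁ - 1) + (p - 1) * (s + 1) * (p * f₁) := by
  obtain ⟨u, rfl⟩ : ∃ u, p = u + 2 := ⟨p - 2, by omega⟩
  obtain ⟨a', rfl⟩ : ∃ a', a = a' + 1 := ⟨a - 1, by omega⟩
  obtain ⟨e, rfl⟩ : ∃ e, f₁ = e + 1 := ⟨f₁ - 1, by omega⟩
  have h1 : u + 2 - 1 = u + 1 := by omega
  have h2 : (u + 2) * (e + 1) - 1 = (u + 2) * e + u + 1 := by
    have : (u + 2) * (e + 1) = (u + 2) * e + u + 1 + 1 := by ring
    omega
  rw [h1] at h ⊢
  rw [h2]
  simp only [Nat.add_sub_cancel] at h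
  nlinarith [h]

theorem fvp_arith_lin (p a s : ℕ) (hp : 2 ≤ p) (ha : 1 ≤ a)
    (h : p ^ (a - 1) * (p - 1) ≤ (p - 1) * p ^ s) :
    (p - 1) * a ≤ (1 - 1) + (p - 1) * (s + 1) * 1 := by
  have hu : 0 < p - 1 := by omega
  rw [mul_comm (p ^ (a - 1))] at h
  have h1 : p ^ (a - 1) ≤ p ^ s := Nat.le_of_mul_le_mul_left h hu
  have h2 : a - 1 ≤ s := (Nat.pow_le_pow_iff_right (by omega)).mp h1
  have h3 : a ≤ s + 1 := by omega
  simp only [Nat.sub_self, zero_add, mul_one]
  exact Nat.mul_le_mul_left _ h3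

end

section

universe u

theorem fvp_deflate {M : Type u} [Group M] [Finite M] (θ : Cfsg.IrrCharacter M) :
    ∃ φ : Cfsg.IrrCharacter (M ⧸ irrKer θ),
      (∀ q, (φ : M ⧸ irrKer θ → ℂ) q = (φ : M ⧸ irrKer θ → ℂ) 1 → q = 1) ∧
      fvp_d (φ : M ⧸ irrKer θ → ℂ) = fvp_d (θ : M → ℂ) ∧
      Cfsg.charDegree (φ : M ⧸ irrKer θ → ℂ) = Cfsg.charDegree (θ : M → ℂ) := by
  obtain ⟨φ, hφ⟩ := h7_deflate (irrKer θ) θ (fun n hn => (mem_irrKer θ n).mp hn)
  refine ⟨φ, ?_, ?_, ?_⟩
  · intro q hq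
    obtain ⟨m, rfl⟩ := QuotientGroup.mk_surjective q
    have h1 : (φ : M ⧸ irrKer θ → ℂ) 1 = (θ : M → ℂ) 1 := hφ 1
    have h2 : (φ : M ⧸ irrKer θ → ℂ) (QuotientGroup.mk m) = (θ : M → ℂ) m := hφ m
    rw [h1, h2] at hq
    exact (QuotientGroup.eq_one_iff m).mpr ((mem_irrKer θ m).mpr hq)
  · unfold fvp_d
    rw [← fvp_stab_comp (QuotientGroup.mk : M → M ⧸ irrKer θ) QuotientGroup.mk_surjective
      (φ : M ⧸ irrKer θ → ℂ)]
    congr 2
    funext m
    exact hφ m
  · unfold Cfsg.charDegree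
    have h1 : (φ : M ⧸ irrKer θ → ℂ) 1 = (θ : M → ℂ) 1 := hφ 1
    rw [h1]

end

section

universe u

theorem fvp_cj_one_apply {P : Type*} [Group P] (M : Subgroup P) [hMn : M.Normal] (ψ : M → ℂ)
    (g : P) : cj M ψ g 1 = ψ 1 := by
  rw [cj_apply]
  congr 1
  apply Subtype.ext
  simp

theorem fvp_main_aux (p : ℕ) (hp : p.Prime) (N : ℕ) :
    ∀ {P : Type u} [Group P] [Finite P] (a s f : ℕ), a ≤ N → Nat.card P = p ^ a →
      ∀ χ : Cfsg.IrrCharacter P, (∀ g : P, (χ : P → ℂ) g = (χ : P → ℂ) 1 → g = 1) →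
        Cfsg.charDegree (χ : P → ℂ) = f → fvp_d (χ : P → ℂ) ≤ (p - 1) * p ^ s →
        (p - 1) * a ≤ (f - 1) + (p - 1) * (s + 1) * f := by
  induction N with
  | zero =>
    intro P _ _ a s f ha hP χ hfaith hf hd
    have h0 : a = 0 := by omega
    subst h0
    simp
  | succ N ih =>
    intro P _ _ a s f ha hP χ hfaith hf hd
    classical
    haveI : Fintype P := Fintype.ofFinite P
    haveI : Fact p.Prime := ⟨hp⟩
    have hp2 : 2 ≤ p := hp.two_le
    rcases Nat.eq_zero_or_pos a with ha0 | ha0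
    · subst ha0
      simp
    obtain ⟨hfc, hfpos⟩ := charDegree_irr χ
    by_cases hlin : (χ : P → ℂ) 1 = 1
    · have hf1 : f = 1 := by
        rw [← hf]
        have h1 := hfc
        rw [hlin] at h1
        exact_mod_cast h1
      subst hf1
      have hb := fvp_base p a hp ha0 hP χ hlin hfaith
      exact fvp_arith_lin p a s hp2 ha0 (hb.trans hd)
    · obtain ⟨M, hMn, ψ, hidx, hψ, hχ⟩ := fvp_exists_max p a hp hP χ hlin
      haveI := hMn
      haveI : Fintype M := Fintype.ofFinite M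
      have hMcard : Nat.card M = p ^ (a - 1) := by
        have h1 := Subgroup.card_mul_index M
        rw [hidx, hP] at h1
        have h2 : p ^ a = p ^ (a - 1) * p := by
          rw [← pow_succ]
          congr 1
          omega
        rw [h2] at h1
        exact Nat.eq_of_mul_eq_mul_right hp.pos h1
      obtain ⟨f₁, hf₁⟩ : ∃ f₁, Cfsg.charDegree ψ = f₁ := ⟨_, rfl⟩
      obtain ⟨hf₁c, hf₁pos⟩ := charDegree_irr (⟨ψ, hψ⟩ : Cfsg.IrrCharacter M)
      simp only at hf₁c hf₁pos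
      rw [hf₁] at hf₁c hf₁pos
      have hfeq : f = p * f₁ := by
        have h1 : (χ : P → ℂ) 1 = (p : ℂ) * ψ 1 := by
          rw [hχ, h7_indFun_one, hidx]
        have h2 : ((Cfsg.charDegree (χ : P → ℂ) : ℕ) : ℂ) = ((p * f₁ : ℕ) : ℂ) := by
          rw [hfc, h1, ← hf₁c]
          push_cast
          rfl
        rw [← hf]
        exact_mod_cast h2
      have hirrχ : Cfsg.IsIrrCharacter P (Cfsg.indFun M ψ) := hχ ▸ χ.2
      have hdpos : 0 < fvp_d (χ : P → ℂ) := fvp_d_pos _ χ.2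
      have hcl := h7_irr_isClassFunction hψ
      have hker : ∀ m : M, (∀ x : P, cj M ψ x m = cj M ψ x 1) → m = 1 := by
        intro m hm
        have h1 := fvp_ind_ker M ψ m hm
        rw [← hχ] at h1
        have h2 := hfaith (m : P) h1
        exact Subtype.ext h2
      by_cases hcase : fvp_stab (χ : P → ℂ) ≤ fvp_stab ψ
      · -- Case A
        have hpgM : IsPGroup p M := IsPGroup.of_card hMcard
        have hB : ∀ q : P ⧸ M, ∃ aq : ℕ,
            (irrKer (⟨cj M ψ q.out, isIrr_cj M ψ hψ q.out⟩ : Cfsg.IrrCharacter M)).index = p ^ aq ∧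
            (p - 1) * aq ≤ (f₁ - 1) + (p - 1) * (s + 1) * f₁ := by
          intro q
          obtain ⟨θ, hθ⟩ : ∃ θ : Cfsg.IrrCharacter M,
              θ = ⟨cj M ψ q.out, isIrr_cj M ψ hψ q.out⟩ := ⟨_, rfl⟩
          rw [← hθ]
          have hθv : (θ : M → ℂ) = cj M ψ q.out := by rw [hθ]
          obtain ⟨φ, hφfaith, hφd, hφdeg⟩ := fvp_deflate θ
          obtain ⟨aq, haq⟩ := IsPGroup.iff_card.mp (hpgM.to_quotient (irrKer θ))
          have haq_le : aq ≤ a - 1 := by
            have h1 : Nat.card (M ⧸ irrKer θ) ∣ Nat.card M := Subgroup.card_quotient_dvd_card _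
            rw [haq, hMcard] at h1
            exact (Nat.pow_dvd_pow_iff_le_right hp.one_lt).mp h1
          refine ⟨aq, ?_, ?_⟩
          · rw [Subgroup.index_eq_card, haq]
          · have hdegθ : Cfsg.charDegree (θ : M → ℂ) = f₁ := by
              rw [← hf₁]
              unfold Cfsg.charDegree
              rw [hθv, fvp_cj_one_apply]
            have hstab : fvp_stab (χ : P → ℂ) ≤ fvp_stab (θ : M → ℂ) := by
              intro τ hτ
              have hτψ := hcase hτ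
              rw [fvp_mem_stab] at hτψ ⊢
              intro m
              rw [hθv, cj_apply]
              exact hτψ _
            have hdθ : fvp_d (θ : M → ℂ) ≤ (p - 1) * p ^ s :=
              (fvp_d_le _ _ hstab hdpos).trans hd
            exact ih (P := M ⧸ irrKer θ) aq s f₁ (by omega) haq φ hφfaith
              (hφdeg.trans hdegθ) (hφd ▸ hdθ)
        choose aq haq1 haq2 using hB
        haveI : Fintype (P ⧸ M) := Fintype.ofFinite _
        have hinf : (⨅ q : P ⧸ M,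
            irrKer (⟨cj M ψ q.out, isIrr_cj M ψ hψ q.out⟩ : Cfsg.IrrCharacter M)) = ⊥ := by
          rw [eq_bot_iff]
          intro m hm
          rw [Subgroup.mem_iInf] at hm
          rw [Subgroup.mem_bot]
          apply hker
          intro y
          have h1 := (mem_irrKer _ m).mp (hm (y : P ⧸ M))
          obtain ⟨k, hk⟩ := QuotientGroup.mk_out_eq_mul M y
          have h2 : cj M ψ (Quotient.out (y : P ⧸ M)) = cj M ψ y := by
            rw [hk, fvp_cj_mul_mem M ψ hcl y k k.2]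
          change cj M ψ (Quotient.out (y : P ⧸ M)) m = cj M ψ (Quotient.out (y : P ⧸ M)) 1 at h1
          rw [h2] at h1
          exact h1
        have hidxle := Subgroup.index_iInf_le (fun q : P ⧸ M =>
          irrKer (⟨cj M ψ q.out, isIrr_cj M ψ hψ q.out⟩ : Cfsg.IrrCharacter M))
        rw [hinf, Subgroup.index_bot, hMcard] at hidxle
        simp only [haq1] at hidxle
        rw [Finset.prod_pow_eq_pow_sum] at hidxle
        have hsum : a - 1 ≤ ∑ q : P ⧸ M, aq q := (Nat.pow_le_pow_iff_right hp.one_lt).mp hidxle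
        have hcardq : Fintype.card (P ⧸ M) = p := by
          rw [← Nat.card_eq_fintype_card, ← Subgroup.index_eq_card, hidx]
        have hfinal : (p - 1) * (a - 1) ≤ p * ((f₁ - 1) + (p - 1) * (s + 1) * f₁) := by
          calc (p - 1) * (a - 1) ≤ (p - 1) * ∑ q : P ⧸ M, aq q := Nat.mul_le_mul_left _ hsum
            _ = ∑ q : P ⧸ M, (p - 1) * aq q := Finset.mul_sum _ _ _
            _ ≤ ∑ q : P ⧸ M, ((f₁ - 1) + (p - 1) * (s + 1) * f₁) :=
                Finset.sum_le_sum fun q _ => haq2 q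
            _ = p * ((f₁ - 1) + (p - 1) * (s + 1) * f₁) := by
                rw [Finset.sum_const, Finset.card_univ, hcardq, smul_eq_mul]
        rw [hfeq]
        exact fvp_arith_A p a f₁ s hp2 ha0 hf₁pos hfinal
      · -- Case B
        obtain ⟨τ, hτS, hτT⟩ := SetLike.not_le_iff_exists.mp hcase
        have hτS' : τ ∈ fvp_stab (Cfsg.indFun M ψ) := hχ ▸ hτS
        obtain ⟨x, hx⟩ := fvp_conj_of_stab M ψ hψ hirrχ τ hτS'
        have hne : (fun m => τ (ψ m)) ≠ ψ := by
          intro h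
          apply hτT
          rw [fvp_mem_stab]
          exact fun m => congrFun h m
        have hfaithψ : ∀ m : M, ψ m = ψ 1 → m = 1 := by
          intro m hm
          apply hker
          intro y
          obtain ⟨k, hk⟩ := fvp_all_conj_galois p hp M hidx ψ hcl τ x hx hne y
          rw [hk]
          show (τ ^ k) (ψ m) = (τ ^ k) (ψ 1)
          rw [hm]
        have hdψ : fvp_d ψ ≤ (p - 1) * p ^ (s + 1) := by
          have h1 := fvp_d_le_mul M ψ hψ hirrχ
          rw [hidx, ← hχ] at h1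
          calc fvp_d ψ ≤ p * fvp_d (χ : P → ℂ) := h1
            _ ≤ p * ((p - 1) * p ^ s) := Nat.mul_le_mul_left _ hd
            _ = (p - 1) * p ^ (s + 1) := by
                rw [pow_succ]
                ring
        have hIH := ih (P := M) (a - 1) (s + 1) f₁ (by omega) hMcard ⟨ψ, hψ⟩ hfaithψ hf₁ hdψ
        rw [hfeq]
        exact fvp_arith_B p a f₁ s hp2 ha0 hf₁pos hIH

end

section

/-- A faithful irreducible character of degree `f` of a group of order `p ^ a` whose field of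
values has degree `(p - 1) p ^ t` satisfies `(p - 1) a ≤ (f - 1) + (p - 1) (t + 1) f`. -/
theorem fvp_main {P : Type*} [Group P] [Finite P] (p a : ℕ) (hp : p.Prime)
    (hP : Nat.card P = p ^ a) (χ : Cfsg.IrrCharacter P)
    (hfaith : ∀ g : P, (χ : P → ℂ) g = (χ : P → ℂ) 1 → g = 1) (f t : ℕ)
    (hf : Cfsg.charDegree (χ : P → ℂ) = f)
    (hfield : Module.finrank ℚ (IntermediateField.adjoin ℚ (Set.range (χ : P → ℂ))) =
      (p - 1) * p ^ t) :
    (p - 1) * a ≤ (f - 1) + (p - 1) * (t + 1) * f := by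
  have hpos : 0 < Module.finrank ℚ (IntermediateField.adjoin ℚ (Set.range (χ : P → ℂ))) := by
    rw [hfield]
    have h1 : 0 < p - 1 := by
      have := hp.two_le
      omega
    exact Nat.mul_pos h1 (pow_pos hp.pos t)
  have hd := fvp_d_le_finrank (χ : P → ℂ) hpos
  rw [hfield] at hd
  exact fvp_main_aux p hp a a t f le_rfl hP χ hfaith hf hd

end

end Cfsg.Agent.Lib.Helper25
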