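import Mathlib
import Cfsg.Agent.Lib.Helper25.BrauerPairCanonical
import Cfsg.Agent.Lib.Helper25.ThirdMainPair
import Cfsg.Agent.S4657

/-!
# Induced blocks from subgroups containing the centralizer of a defect group (S4726): bq_icc_trans, bq_induced_trans (transitivity of block induction through an intermediate subgroup, with transport), bq_max_center_defect (Z(Q) is a defect group of e for a maximal pair (Q,e)), bq_centSubEquiv (C_H(D₀) ≃* C_G(D₀) when C_G(D₀) ≤ H), bq_induced_nested
-/

set_option autoImplicit false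
set_option linter.style.haveILetI false
set_option linter.unusedVariables false
set_option warn.classDefReducibility false
set_option maxHeartbeats 1600000

namespace Cfsg.Agent.Lib.Helper25
open Cfsg.Agent.Lib.Helper24
open Cfsg.Agent.Lib.helper2
open Cfsg.Agent.Lib.helper7
open scoped ComplexConjugate
section

open Classical in
/-- the induced central character from a subgroup `K'` of `H`, induced further to `G`, is the
induced central character from the image of `K'` in `G` -/
theorem bq_icc_trans {G : Type*} [Group G] [Fintype G] (H : Subgroup G)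
    [Fintype (ConjClasses H)] (K' : Subgroup H)
    (K : Subgroup G) (σ : K' ≃* K) (hσ : ∀ y : K', ((σ y : K) : G) = ((y : H) : G))
    (ξ₁ : Cfsg.IrrCharacter K') (g : G) :
    Cfsg.inducedCentralChar K (bq_trIrr σ.symm ξ₁ : K → ℂ) g =
      ∑ L : ConjClasses H, (if IsConj g ((Quotient.out L : H) : G) then (1 : ℂ) else 0) *
        Cfsg.inducedCentralChar K' (ξ₁ : K' → ℂ) (Quotient.out L) := by
  classical
  haveI : Fintype H := Fintype.ofFinite _
  haveI : Fintype K := Fintype.ofFinite _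
  haveI : Fintype K' := Fintype.ofFinite _
  unfold Cfsg.inducedCentralChar
  rw [h7_finsum_mem_fintype]
  simp only [h7_finsum_mem_fintype]
  change ∑ a : K, (if IsConj g (a : G) then
      (bq_trIrr σ.symm ξ₁ : K → ℂ) a / (bq_trIrr σ.symm ξ₁ : K → ℂ) 1 else 0) =
    ∑ L : ConjClasses H, (if IsConj g ((Quotient.out L : H) : G) then (1 : ℂ) else 0) *
      ∑ k : K', (if IsConj (Quotient.out L : H) (k : H) then
        (ξ₁ : K' → ℂ) k / (ξ₁ : K' → ℂ) 1 else 0)
  rw [← Equiv.sum_comp σ.toEquiv]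
  simp only [Finset.mul_sum]
  rw [Finset.sum_comm]
  refine Finset.sum_congr rfl fun k _ => ?_
  have h1 : (bq_trIrr σ.symm ξ₁ : K → ℂ) (σ.toEquiv k) = (ξ₁ : K' → ℂ) k := by
    rw [bq_trIrr_apply]
    show (ξ₁ : K' → ℂ) (σ.symm (σ k)) = _
    rw [MulEquiv.symm_apply_apply]
  have h2 : (bq_trIrr σ.symm ξ₁ : K → ℂ) 1 = (ξ₁ : K' → ℂ) 1 := by
    rw [bq_trIrr_apply, map_one]
  have h3 : ((σ.toEquiv k : K) : G) = ((k : H) : G) := hσ k
  rw [h1, h2, h3]
  rw [Finset.sum_eq_single (ConjClasses.mk (k : H))]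
  · have hout : IsConj (Quotient.out (ConjClasses.mk (k : H)) : H) (k : H) := by
      rw [← ConjClasses.mk_eq_mk_iff_isConj]
      exact Quotient.out_eq _
    have hG : IsConj ((Quotient.out (ConjClasses.mk (k : H)) : H) : G) ((k : H) : G) := by
      obtain ⟨c, hc⟩ := isConj_iff.mp hout
      rw [isConj_iff]
      have hc' := congrArg (Subtype.val : H → G) hc
      refine ⟨(c : G), ?_⟩
      simpa using hc'
    rw [if_pos hout]
    by_cases hg : IsConj g ((k : H) : G)
    · rw [if_pos hg, if_pos (hg.trans hG.symm), one_mul]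
    · rw [if_neg hg, if_neg (fun h' => hg (h'.trans hG)), zero_mul]
  · intro L _ hL
    have hne : ¬ IsConj (Quotient.out L : H) (k : H) := by
      intro h
      apply hL
      exact (Quotient.out_eq L).symm.trans (ConjClasses.mk_eq_mk_iff_isConj.mpr h)
    rw [if_neg hne, mul_zero]
  · intro h
    exact absurd (Finset.mem_univ _) h

/-- transitivity of block induction through an intermediate subgroup -/
theorem bq_induced_trans {G : Type*} [Group G] [Fintype G] {M : Ideal Cfsg.AlgInt}
    (hPr : M.IsPrime) (H : Subgroup G) (K' : Subgroup H)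
    (K : Subgroup G) (σ : K' ≃* K) (hσ : ∀ y : K', ((σ y : K) : G) = ((y : H) : G))
    (e₀ : Set (Cfsg.IrrCharacter K')) (b : Set (Cfsg.IrrCharacter H))
    (B : Set (Cfsg.IrrCharacter G))
    (h1 : Cfsg.IsInducedBlock M K' e₀ b)
    (h2 : Cfsg.IsInducedBlock M K (bq_trSet σ.symm e₀) B) :
    Cfsg.IsInducedBlock M H b B := by
  classical
  haveI : Fintype H := Fintype.ofFinite _
  haveI : Fintype (ConjClasses H) := Fintype.ofFinite _
  haveI : Fintype (Cfsg.IrrCharacter K') := Fintype.ofFinite _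
  refine ⟨h1.2.1, h2.2.1, ?_⟩
  intro ξ hξ χ hχ g
  obtain ⟨θ₀, hθ₀⟩ := h1.1
  have hξ₁ : θ₀ ∈ e₀ := by
    rw [hθ₀]
    exact h7_sameBlock_refl hPr _
  have hmem : bq_trIrr σ.symm θ₀ ∈ bq_trSet σ.symm e₀ := (bq_mem_trSet σ.symm e₀ θ₀).mpr hξ₁
  have h3 := h2.2.2 _ hmem χ hχ g
  rw [bq_icc_trans H K' K σ hσ θ₀ g] at h3
  have h4 : Cfsg.MemLocalIdeal M (Cfsg.inducedCentralChar H (ξ : H → ℂ) g -
      ∑ L : ConjClasses H, (if IsConj g ((Quotient.out L : H) : G) then (1 : ℂ) else 0) *
        Cfsg.inducedCentralChar K' (θ₀ : K' → ℂ) (Quotient.out L)) := by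
    rw [h7_icc_expand' H ξ g, ← Finset.sum_sub_distrib]
    apply h7_memLocalIdeal_sum hPr
    intro L _
    rw [← mul_sub]
    have h5 := h1.2.2 θ₀ hξ₁ ξ hξ (Quotient.out L)
    have h6 := h7_memLocalIdeal_neg h5
    rw [neg_sub] at h6
    by_cases hc : IsConj g ((Quotient.out L : H) : G)
    · rw [if_pos hc, one_mul]
      exact h6
    · rw [if_neg hc, zero_mul]
      exact h7_memLocalIdeal_zero hPr
  have h7 := h7_memLocalIdeal_add hPr h4 h3
  rwa [sub_add_sub_cancel] at h7

end

section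

/-- for a maximal Brauer pair `(Q, e)`, the centre of `Q` is a defect group of `e` -/
theorem bq_max_center_defect {G : Type*} [Group G] [Fintype G] (p : ℕ) [hp : Fact p.Prime]
    (M : Ideal Cfsg.AlgInt) (hM : Cfsg.IsPModular p M) (B : Set (Cfsg.IrrCharacter G))
    (Q : Subgroup G) (e : Set (Cfsg.IrrCharacter (Subgroup.centralizer (Q : Set G))))
    (hmax : Cfsg.IsMaximalBrauerPair p M B Q e) :
    Cfsg.IsDefectGroup p M e
      ((Q ⊓ Subgroup.centralizer (Q : Set G)).subgroupOf (Subgroup.centralizer (Q : Set G))) := by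
  classical
  haveI : Fintype (Subgroup.centralizer (Q : Set G)) := Fintype.ofFinite _
  have hPr := hM.2.1.isPrime
  have he : Cfsg.IsPBlock M e := hmax.1.1.2
  obtain ⟨T, hT⟩ := bq_stab_exists hPr Q e he
  obtain ⟨hTN, hQT, hCT, hTst⟩ := bq_stab_basic Q e T hT
  obtain ⟨F', hF'b, hF', hdef⟩ := bq_max_stab_defect p M hM B Q e hmax T hT
  have hQN : Q ⊓ Subgroup.normalizer (Q : Set G) = Q := inf_of_le_left Subgroup.le_normalizer
  have hdef' : Cfsg.IsDefectGroup p M F' (Q.subgroupOf T) := by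
    have := hdef
    simp only [hQN] at this
    exact this
  obtain ⟨h1, h2⟩ := bq_stab_fong p M hM Q e he T hTN hCT hTst F' hF'b hF' (Q.subgroupOf T) hdef'
  have hmapQ : (Q.subgroupOf T).map T.subtype = Q := Subgroup.map_subgroupOf_eq_of_le hQT
  rw [hmapQ] at h2
  exact h2

/-- the centralizer in `H` of a subgroup `D₀` of `H`, as the centralizer in `G` of its image,
when the latter lies in `H` -/
def bq_centSubEquiv {G : Type*} [Group G] (H : Subgroup G) (D₀ : Subgroup H)
    (hC : Subgroup.centralizer ((D₀.map H.subtype : Subgroup G) : Set G) ≤ H) :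
    Subgroup.centralizer (D₀ : Set H) ≃*
      Subgroup.centralizer ((D₀.map H.subtype : Subgroup G) : Set G) where
  toFun y := ⟨((y : H) : G), by
    rw [Subgroup.mem_centralizer_iff]
    rintro _ ⟨d, hd, rfl⟩
    have := Subgroup.mem_centralizer_iff.mp y.2 d hd
    exact congrArg Subtype.val this⟩
  invFun c := ⟨⟨(c : G), hC c.2⟩, by
    rw [Subgroup.mem_centralizer_iff]
    intro d hd
    apply Subtype.ext
    exact Subgroup.mem_centralizer_iff.mp c.2 (d : G) ⟨d, hd, rfl⟩⟩
  left_inv y := rfl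
  right_inv c := rfl
  map_mul' y y' := rfl

theorem bq_centSubEquiv_coe {G : Type*} [Group G] (H : Subgroup G) (D₀ : Subgroup H)
    (hC : Subgroup.centralizer ((D₀.map H.subtype : Subgroup G) : Set G) ≤ H)
    (y : Subgroup.centralizer (D₀ : Set H)) :
    ((bq_centSubEquiv H D₀ hC y : Subgroup.centralizer
      ((D₀.map H.subtype : Subgroup G) : Set G)) : G) = ((y : H) : G) := rfl

/-- the centre part of `D₀` transported along `bq_centSubEquiv` -/
theorem bq_centSubEquiv_comap {G : Type*} [Group G] (H : Subgroup G) (D₀ : Subgroup H)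
    (hC : Subgroup.centralizer ((D₀.map H.subtype : Subgroup G) : Set G) ≤ H) :
    ((D₀ ⊓ Subgroup.centralizer (D₀ : Set H)).subgroupOf
      (Subgroup.centralizer (D₀ : Set H))).comap (bq_centSubEquiv H D₀ hC).symm.toMonoidHom =
    ((D₀.map H.subtype) ⊓ Subgroup.centralizer ((D₀.map H.subtype : Subgroup G) : Set G)).subgroupOf
      (Subgroup.centralizer ((D₀.map H.subtype : Subgroup G) : Set G)) := by
  ext c
  rw [Subgroup.mem_comap, Subgroup.mem_subgroupOf, Subgroup.mem_subgroupOf, Subgroup.mem_inf,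
    Subgroup.mem_inf]
  constructor
  · rintro ⟨h1, h2⟩
    refine ⟨⟨_, h1, rfl⟩, c.2⟩
  · rintro ⟨⟨d, hd, hdc⟩, _⟩
    refine ⟨?_, Subtype.property _⟩
    have : d = (((bq_centSubEquiv H D₀ hC).symm c : Subgroup.centralizer (D₀ : Set H)) : H) := by
      apply Subtype.ext
      exact hdc
    show (((bq_centSubEquiv H D₀ hC).symm c : Subgroup.centralizer (D₀ : Set H)) : H) ∈ D₀
    rw [← this]
    exact hd

end

section

/-- **induced blocks from subgroups containing the centralizer of a defect group**: if `b` is a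
block of `H` with defect group `D₀` and `C_G(D₀) ≤ H`, then `b` induces a block `B` of `G` having
a defect group `D ≥ D₀` all of whose central elements lie in `D₀` -/
theorem bq_induced_nested {G : Type*} [Group G] [Fintype G] (p : ℕ) [hp : Fact p.Prime]
    (M : Ideal Cfsg.AlgInt) (hM : Cfsg.IsPModular p M) (H : Subgroup G)
    (b : Set (Cfsg.IrrCharacter H)) (hb : Cfsg.IsPBlock M b) (D₀ : Subgroup H)
    (hD₀ : Cfsg.IsDefectGroup p M b D₀)
    (hC : Subgroup.centralizer ((D₀.map H.subtype : Subgroup G) : Set G) ≤ H) :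
    ∃ B : Set (Cfsg.IrrCharacter G), Cfsg.IsInducedBlock M H b B ∧
      ∃ D : Subgroup G, Cfsg.IsDefectGroup p M B D ∧ D₀.map H.subtype ≤ D ∧
        ∀ z ∈ D, (∀ w ∈ D, z * w = w * z) → z ∈ D₀.map H.subtype := by
  classical
  haveI : Fintype H := Fintype.ofFinite _
  have hPr := hM.2.1.isPrime
  have hD₀p : IsPGroup p D₀ := by
    obtain ⟨g, hg, Q, hQ⟩ := hD₀
    rw [hQ]
    exact Q.isPGroup'.map _
  obtain ⟨e₀, he₀⟩ := bq_pair_at_defect p M hM D₀ hD₀p b hb hD₀
  have hmax₀ := bq_max_of_defect p M hM b D₀ e₀ he₀ hD₀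
  have hZ₀ := bq_max_center_defect p M hM b D₀ e₀ hmax₀
  set D : Subgroup G := D₀.map H.subtype with hDdef
  set σ := bq_centSubEquiv H D₀ hC with hσdef
  set e : Set (Cfsg.IrrCharacter (Subgroup.centralizer (D : Set G))) := bq_trSet σ.symm e₀
    with hedef
  have he : Cfsg.IsPBlock M e := bq_trSet_isBlock M σ.symm e₀ he₀.1.2
  have hZ := bq_defect_trSet p M σ.symm e₀ _ hZ₀
  rw [hσdef, bq_centSubEquiv_comap H D₀ hC] at hZ
  have hDp : IsPGroup p D := hD₀p.map _
  have hpair : Cfsg.IsBrauerPair p M D e := ⟨hDp, he⟩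
  obtain ⟨B, hB, -⟩ := Cfsg.Agent.S4657.result p M hM D e hpair
  have hindG := tp_pair_induced p M hM D B e hB
  have hindH := tp_pair_induced p M hM D₀ b e₀ he₀
  have hind := bq_induced_trans hPr H (Subgroup.centralizer (D₀ : Set H))
    (Subgroup.centralizer (D : Set G)) σ (fun y => rfl) e₀ b B hindH hindG
  refine ⟨B, hind, ?_⟩
  obtain ⟨R, g, hmaxR, hle⟩ := bq_exists_max_above p M B D e hB
  have hRdef := bq_max_defect p M hM B R g hmaxR
  have hDR : D ≤ R := bq_chain_le p M _ _ hle
  refine ⟨R, hRdef, hDR, ?_⟩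
  obtain ⟨D', h', hmax', hdef', hle'⟩ := bq_cent_le_defect p M hM R D g e hmaxR.1.1 hDR hle
  obtain ⟨x, hx⟩ := qh_defect_conj p M hM e he _ D' hZ hdef'
  have hZc := bq_center_sub_central D
  have hD'Z : D' = (D ⊓ Subgroup.centralizer (D : Set G)).subgroupOf
      (Subgroup.centralizer (D : Set G)) := by
    rw [hx]
    ext c
    rw [Subgroup.mem_map]
    constructor
    · rintro ⟨z, hz, rfl⟩
      have h1 := Subgroup.mem_center_iff.mp (hZc hz) x
      have h2 : (MulAut.conj x).toMonoidHom z = z := by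
        show x * z * x⁻¹ = z
        rw [h1, mul_inv_cancel_right]
      rw [h2]
      exact hz
    · intro hc
      refine ⟨c, hc, ?_⟩
      have h1 := Subgroup.mem_center_iff.mp (hZc hc) x
      show x * c * x⁻¹ = c
      rw [h1, mul_inv_cancel_right]
  intro z hzR hzc
  have hzC : z ∈ Subgroup.centralizer (D : Set G) := by
    rw [Subgroup.mem_centralizer_iff]
    intro d hd
    exact (hzc d (hDR hd)).symm
  have hmem : (⟨z, hzC⟩ : Subgroup.centralizer (D : Set G)) ∈
      (R ⊓ Subgroup.centralizer (D : Set G)).subgroupOf (Subgroup.centralizer (D : Set G)) :=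
    Subgroup.mem_subgroupOf.mpr (Subgroup.mem_inf.mpr ⟨hzR, hzC⟩)
  have h2 := hle' hmem
  rw [hD'Z] at h2
  exact (Subgroup.mem_inf.mp (Subgroup.mem_subgroupOf.mp h2)).1

end

end Cfsg.Agent.Lib.Helper25
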