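import Mathlib
import Cfsg.Prelude.Def_BrauerPairs
import Cfsg.Agent.Lib.Helper25.BrauerPairAbelian2
import Cfsg.Agent.Lib.Helper25.ThirdMainPair
import Cfsg.Agent.Lib.Helper25.InducedNested
import Cfsg.Agent.Lib.helper7.SecondMain3

/-!
Abelian defect groups: block induction inside a subgroup as block induction in that subgroup (fi_icc_in, fi_in_iff); a block of C_G(P) inducing B is a Brauer pair of B (fi_pair_of_induced); local nilpotency criterion (fi_local_iff), existence of the local induced block (fi_exists); free action of the inertial quotient iff the local blocks are nilpotent (fi_main, S4650).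
-/

set_option autoImplicit false
set_option linter.style.haveILetI false
set_option linter.unusedVariables false
set_option warn.classDefReducibility false
set_option maxHeartbeats 1600000

namespace Cfsg.Agent.Lib.Helper25
open Cfsg.Agent.Lib.Helper24
open Cfsg.Agent.Lib.helper2
open Cfsg.Agent.Lib.helper7
open scoped ComplexConjugate
section

/-- the central character induced inside `H` is the induced central character in the group `H` -/
theorem fi_icc_in {G : Type*} [Group G] [Finite G] (H K : Subgroup G) (K' : Subgroup H)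
    (σ : K' ≃* K) (hσ : ∀ y : K', ((σ y : K) : G) = ((y : H) : G)) (ξ : K → ℂ) (h : H) :
    Cfsg.inducedCentralCharIn H K ξ (h : G) =
      Cfsg.inducedCentralChar K' (fun y => ξ (σ y)) h := by
  classical
  haveI : Fintype K := Fintype.ofFinite _
  haveI : Fintype K' := Fintype.ofFinite _
  unfold Cfsg.inducedCentralCharIn Cfsg.inducedCentralChar
  rw [h7_finsum_mem_fintype, h7_finsum_mem_fintype]
  refine (Fintype.sum_equiv σ.toEquiv _ _ fun y => ?_).symm
  have hiff : (y ∈ {k' : K' | IsConj h (k' : H)}) ↔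
      ((σ.toEquiv y) ∈ {k : K | ∃ x : H, (x : G) * (k : G) * (x : G)⁻¹ = (h : G)}) := by
    simp only [Set.mem_ofPred_eq]
    show IsConj h (y : H) ↔ ∃ x : H, (x : G) * ((σ y : K) : G) * (x : G)⁻¹ = (h : G)
    rw [hσ]
    constructor
    · intro hc
      obtain ⟨x, hx⟩ := isConj_iff.mp hc.symm
      exact ⟨x, by rw [← hx]; rfl⟩
    · rintro ⟨x, hx⟩
      apply IsConj.symm
      apply isConj_iff.mpr
      exact ⟨x, Subtype.ext hx⟩
  by_cases hy : y ∈ {k' : K' | IsConj h (k' : H)}
  · rw [if_pos hy, if_pos (hiff.mp hy)]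
    show ξ (σ y) / ξ (σ 1) = ξ (σ y) / ξ 1
    rw [map_one]
  · rw [if_neg hy, if_neg (fun hh => hy (hiff.mpr hh))]

/-- block induction inside a subgroup, as block induction in the group `H` -/
theorem fi_in_iff {G : Type*} [Group G] [Finite G] (M : Ideal Cfsg.AlgInt) (H K : Subgroup G)
    (K' : Subgroup H) (σ : K' ≃* K) (hσ : ∀ y : K', ((σ y : K) : G) = ((y : H) : G))
    (e : Set (Cfsg.IrrCharacter K)) (f : Set (Cfsg.IrrCharacter H)) :
    Cfsg.IsInducedBlockIn M H K e f ↔ Cfsg.IsInducedBlock M K' (bq_trSet σ e) f := by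
  constructor
  · rintro ⟨he, hf, hcong⟩
    refine ⟨bq_trSet_isBlock M σ e he, hf, ?_⟩
    intro ξ' hξ' χ hχ h
    have hξ : bq_trIrr σ.symm ξ' ∈ e := hξ'
    have h1 := hcong _ hξ χ hχ h
    rw [fi_icc_in H K K' σ hσ] at h1
    have h2 : (fun y => (bq_trIrr σ.symm ξ' : K → ℂ) (σ y)) = (ξ' : K' → ℂ) := by
      funext y
      rw [bq_trIrr_apply, MulEquiv.symm_apply_apply]
    rw [h2] at h1
    exact h1
  · rintro ⟨he, hf, hcong⟩
    have he' : Cfsg.IsPBlock M e := by
      have := bq_trSet_isBlock M σ.symm _ he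
      have h3 : bq_trSet σ.symm (bq_trSet σ.symm.symm e) = e := bq_trSet_symm σ.symm e
      rw [← h3]
      exact this
    refine ⟨he', hf, ?_⟩
    intro ξ hξ χ hχ h
    have hξ' : bq_trIrr σ ξ ∈ bq_trSet σ e := (bq_mem_trSet σ e ξ).mpr hξ
    have h1 := hcong _ hξ' χ hχ h
    rw [fi_icc_in H K K' σ hσ]
    exact h1

/-- a block of `C_G(P)` inducing `B` gives a Brauer pair of `B` -/
theorem fi_pair_of_induced {G : Type*} [Group G] [Fintype G] (p : ℕ) [hp : Fact p.Prime]
    (M : Ideal Cfsg.AlgInt) (hM : Cfsg.IsPModular p M) (P : Subgroup G) (hP : IsPGroup p P)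
    (B : Set (Cfsg.IrrCharacter G))
    (c : Set (Cfsg.IrrCharacter (Subgroup.centralizer (P : Set G))))
    (hc : Cfsg.IsInducedBlock M (Subgroup.centralizer (P : Set G)) c B) :
    Cfsg.IsBrauerPairOf p M B P c := by
  classical
  haveI : Fintype (Cfsg.IrrCharacter G) := Fintype.ofFinite _
  haveI : Fintype (Subgroup.centralizer (P : Set G)) := Fintype.ofFinite _
  haveI : Fintype (Cfsg.IrrCharacter (Subgroup.centralizer (P : Set G))) := Fintype.ofFinite _
  have hMp := hM.2.1.isPrime
  have hCN : Subgroup.centralizer (P : Set G) ≤ Subgroup.normalizer (P : Set G) :=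
    Subgroup.centralizer_le_normalizer (P : Set G)
  obtain ⟨ξ₀, hξ₀⟩ := hc.1
  obtain ⟨χ₀, hχ₀⟩ := h7_brauer_hom_block P (Subgroup.centralizer (P : Set G)) hM hP le_rfl hCN ξ₀
  have hind := tp_induced_centralizer hM P hP ξ₀ χ₀ hχ₀
  rw [← hξ₀] at hind
  have hB : B = Cfsg.blockOf M (χ₀ : G → ℂ) :=
    h7_induced_unique hMp _ c _ _ hc hind
  have h1 := hχ₀ _ (h7_block_indicator_mem hMp χ₀)
  have hmem : χ₀ ∈ Cfsg.blockOf M (χ₀ : G → ℂ) := h7_sameBlock_refl hMp _
  rw [if_pos hmem] at h1
  have h2 : Cfsg.MemLocalIdeal M (Cfsg.brauerOmega P (Cfsg.blockCoeff B)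
      (ξ₀ : Subgroup.centralizer (P : Set G) → ℂ) - 1) := by
    rw [hB, br_omega_eq_eval]
    exact h1
  have := bq_pair_of_omega p M hM P hP B hc.2.1 ξ₀ h2
  rw [← hξ₀] at this
  exact this

end

section

/-- the centralizer of `P` through the centralizer of a subgroup `Q ≤ P` of the abelian `P` -/
theorem fi_hR {G : Type*} [Group G] (P Q : Subgroup G) (hQP : Q ≤ P)
    (hPH : P ≤ Subgroup.centralizer (Q : Set G)) (g : G) :
    g ∈ Subgroup.centralizer (P : Set G) ↔
      ∃ h : g ∈ Subgroup.centralizer (Q : Set G),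
        (⟨g, h⟩ : Subgroup.centralizer (Q : Set G)) ∈
          Subgroup.centralizer ((P.subgroupOf (Subgroup.centralizer (Q : Set G)) :
            Subgroup (Subgroup.centralizer (Q : Set G))) : Set (Subgroup.centralizer (Q : Set G))) := by
  constructor
  · intro hg
    have hgH : g ∈ Subgroup.centralizer (Q : Set G) := Subgroup.centralizer_le hQP hg
    exact ⟨hgH, (bq_mem_centralizer_subgroupOf P _ hPH ⟨g, hgH⟩).mpr hg⟩
  · rintro ⟨hgH, hg⟩
    exact (bq_mem_centralizer_subgroupOf P _ hPH ⟨g, hgH⟩).mp hg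

theorem fi_defect_isPGroup {G : Type*} [Group G] (p : ℕ) [hp : Fact p.Prime]
    (M : Ideal Cfsg.AlgInt) (B : Set (Cfsg.IrrCharacter G)) (P : Subgroup G)
    (hPD : Cfsg.IsDefectGroup p M B P) : IsPGroup p P := by
  obtain ⟨g, hg, S, hS⟩ := hPD
  rw [hS]
  exact S.isPGroup'.map _

/-- abelian defect group: the block of `C_G(Q)` induced by `c` is nilpotent iff the stabilizer of
`c` in `N_G(P) ∩ C_G(Q)` is `C_G(P)` -/
theorem fi_local_iff {G : Type*} [Group G] [Fintype G] (p : ℕ) [hp : Fact p.Prime]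
    (M : Ideal Cfsg.AlgInt) (hM : Cfsg.IsPModular p M) (B : Set (Cfsg.IrrCharacter G))
    (P : Subgroup G) (hPD : Cfsg.IsDefectGroup p M B P)
    (hPab : ∀ x ∈ P, ∀ y ∈ P, x * y = y * x)
    (c : Set (Cfsg.IrrCharacter (Subgroup.centralizer (P : Set G))))
    (hc : Cfsg.IsInducedBlock M (Subgroup.centralizer (P : Set G)) c B)
    (Q : Subgroup G) (hQP : Q ≤ P)
    (f : Set (Cfsg.IrrCharacter (Subgroup.centralizer (Q : Set G))))
    (hf : Cfsg.IsInducedBlockIn M (Subgroup.centralizer (Q : Set G))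
      (Subgroup.centralizer (P : Set G)) c f) :
    Cfsg.IsNilpotentBlock p M f ↔ ∀ y : G, y ∈ Subgroup.centralizer (Q : Set G) →
      y ∈ Subgroup.normalizer (P : Set G) →
      Cfsg.StabilizesBlock (Subgroup.centralizer (P : Set G)) c y →
      y ∈ Subgroup.centralizer (P : Set G) := by
  classical
  haveI : Fintype (Subgroup.centralizer (Q : Set G)) := Fintype.ofFinite _
  have hPr := hM.2.1.isPrime
  have hPp : IsPGroup p P := fi_defect_isPGroup p M B P hPD
  have hpairG := fi_pair_of_induced p M hM P hPp B c hc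
  have hmaxG := bq_max_of_defect p M hM B P c hpairG hPD
  have hPH : P ≤ Subgroup.centralizer (Q : Set G) := by
    intro x hx
    rw [Subgroup.mem_centralizer_iff]
    intro q hq
    exact hPab q (hQP hq) x hx
  have hR := fi_hR P Q hQP hPH
  set P' : Subgroup (Subgroup.centralizer (Q : Set G)) := P.subgroupOf (Subgroup.centralizer (Q : Set G)) with hP'
  set σ := bq_relCent (Subgroup.centralizer (Q : Set G)) P' P hR with hσdef
  have hσ : ∀ y : Subgroup.centralizer (P' : Set (Subgroup.centralizer (Q : Set G))), ((σ y : _) : G) = ((y : (Subgroup.centralizer (Q : Set G))) : G) :=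
    fun y => rfl
  set c' := bq_trSet σ c with hc'
  have hind' : Cfsg.IsInducedBlock M (Subgroup.centralizer (P' : Set (Subgroup.centralizer (Q : Set G)))) c' f :=
    (fi_in_iff M (Subgroup.centralizer (Q : Set G)) (Subgroup.centralizer (P : Set G)) (Subgroup.centralizer (P' : Set (Subgroup.centralizer (Q : Set G))))
      σ hσ c f).mp hf
  have hP'p : IsPGroup p P' := hPp.comap_subtype
  have hpair' := fi_pair_of_induced p M hM P' hP'p f c' hind'
  have hQp : IsPGroup p Q := hPp.to_le hQP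
  have hPN : P ≤ Subgroup.normalizer (Q : Set G) :=
    hPH.trans (Subgroup.centralizer_le_normalizer _)
  have hst : ∀ x ∈ P, Cfsg.StabilizesBlock (Subgroup.centralizer (Q : Set G)) f x := fun x hx => bq_inner_stabilizes (Subgroup.centralizer (Q : Set G)) f x (hPH hx)
  have hns := bq_normalSubpair_of_pair p M Q P P' hR hQp hPp hQP hPN f hst c' hpair'
  have hcc : bq_trSet σ.symm c' = c := bq_trSet_symm σ.symm c
  rw [hcc] at hns
  have hle : Cfsg.SubpairLE p M Q f P c := Relation.ReflTransGen.single hns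
  have hdef' := bq_defect_of_le_cent p M hM B P c hmaxG Q f hQP hPH hf.2.1 hle
  have hmax' := bq_max_of_defect p M hM f P' c' hpair' hdef'
  have hab' : ∀ x ∈ P', ∀ y ∈ P', x * y = y * x := by
    intro x hx y hy
    apply Subtype.ext
    exact hPab _ (Subgroup.mem_subgroupOf.mp hx) _ (Subgroup.mem_subgroupOf.mp hy)
  have hiff := bq_abelian_nilpotent_iff p M hM f P' c' hmax' hab'
  rw [hiff]
  constructor
  · intro h y hyH hyN hyst
    have h1 : Cfsg.StabilizesBlock (Subgroup.centralizer (P' : Set (Subgroup.centralizer (Q : Set G)))) c' (⟨y, hyH⟩ : (Subgroup.centralizer (Q : Set G))) := by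
      rw [bq_rel_stabilizes (Subgroup.centralizer (Q : Set G)) _ _ σ hσ c' ⟨y, hyH⟩, hcc]
      exact hyst
    have := h ⟨y, hyH⟩ ((bq_mem_normalizer_subgroupOf P (Subgroup.centralizer (Q : Set G)) hPH _).mpr hyN) h1
    exact (bq_mem_centralizer_subgroupOf P (Subgroup.centralizer (Q : Set G)) hPH _).mp this
  · intro h x hxN hxst
    apply (bq_mem_centralizer_subgroupOf P (Subgroup.centralizer (Q : Set G)) hPH x).mpr
    apply h x x.2 ((bq_mem_normalizer_subgroupOf P (Subgroup.centralizer (Q : Set G)) hPH x).mp hxN)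
    have := (bq_rel_stabilizes (Subgroup.centralizer (Q : Set G)) _ _ σ hσ c' x).mp hxst
    rwa [hcc] at this

/-- existence of the block of `C_G(Q)` induced by `c` -/
theorem fi_exists {G : Type*} [Group G] [Fintype G] (p : ℕ) [hp : Fact p.Prime]
    (M : Ideal Cfsg.AlgInt) (hM : Cfsg.IsPModular p M)
    (P : Subgroup G) (hPp : IsPGroup p P)
    (hPab : ∀ x ∈ P, ∀ y ∈ P, x * y = y * x)
    (c : Set (Cfsg.IrrCharacter (Subgroup.centralizer (P : Set G))))
    (hc : Cfsg.IsPBlock M c)
    (Q : Subgroup G) (hQP : Q ≤ P) :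
    ∃ f : Set (Cfsg.IrrCharacter (Subgroup.centralizer (Q : Set G))),
      Cfsg.IsInducedBlockIn M (Subgroup.centralizer (Q : Set G))
        (Subgroup.centralizer (P : Set G)) c f := by
  classical
  haveI : Fintype (Subgroup.centralizer (Q : Set G)) := Fintype.ofFinite _
  haveI : Fintype (Cfsg.IrrCharacter (Subgroup.centralizer (Q : Set G))) := Fintype.ofFinite _
  have hPr := hM.2.1.isPrime
  have hPH : P ≤ Subgroup.centralizer (Q : Set G) := by
    intro x hx
    rw [Subgroup.mem_centralizer_iff]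
    intro q hq
    exact hPab q (hQP hq) x hx
  have hR := fi_hR P Q hQP hPH
  set P' : Subgroup (Subgroup.centralizer (Q : Set G)) := P.subgroupOf (Subgroup.centralizer (Q : Set G)) with hP'
  set σ := bq_relCent (Subgroup.centralizer (Q : Set G)) P' P hR with hσdef
  have hσ : ∀ y : Subgroup.centralizer (P' : Set (Subgroup.centralizer (Q : Set G))), ((σ y : _) : G) = ((y : (Subgroup.centralizer (Q : Set G))) : G) :=
    fun y => rfl
  have hP'p : IsPGroup p P' := hPp.comap_subtype
  haveI : Fintype (Subgroup.centralizer (P' : Set (Subgroup.centralizer (Q : Set G)))) := Fintype.ofFinite _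
  haveI : Fintype (Cfsg.IrrCharacter (Subgroup.centralizer (P' : Set (Subgroup.centralizer (Q : Set G))))) := Fintype.ofFinite _
  obtain ⟨ξ₀, hξ₀⟩ := bq_trSet_isBlock M σ c hc
  have hCN : Subgroup.centralizer (P' : Set (Subgroup.centralizer (Q : Set G))) ≤ Subgroup.normalizer (P' : Set (Subgroup.centralizer (Q : Set G))) :=
    Subgroup.centralizer_le_normalizer _
  obtain ⟨χ₀, hχ₀⟩ := h7_brauer_hom_block P' (Subgroup.centralizer (P' : Set (Subgroup.centralizer (Q : Set G)))) hM hP'p le_rfl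
    hCN ξ₀
  have hind := tp_induced_centralizer hM P' hP'p ξ₀ χ₀ hχ₀
  rw [← hξ₀] at hind
  exact ⟨Cfsg.blockOf M (χ₀ : (Subgroup.centralizer (Q : Set G)) → ℂ),
    (fi_in_iff M (Subgroup.centralizer (Q : Set G)) (Subgroup.centralizer (P : Set G)) (Subgroup.centralizer (P' : Set (Subgroup.centralizer (Q : Set G))))
      σ hσ c _).mpr hind⟩

end

section

/-- S4650: free action of the inertial quotient on `P#` iff all the local blocks `c^{C_G(Q)}`,
`1 ≠ Q ≤ P`, are nilpotent -/
theorem fi_main {G : Type*} [Group G] [Fintype G] (p : ℕ) [hp : Fact p.Prime]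
    (M : Ideal Cfsg.AlgInt) (hM : Cfsg.IsPModular p M) (B : Set (Cfsg.IrrCharacter G))
    (P : Subgroup G) (hPD : Cfsg.IsDefectGroup p M B P)
    (hPab : ∀ x ∈ P, ∀ y ∈ P, x * y = y * x)
    (c : Set (Cfsg.IrrCharacter (Subgroup.centralizer (P : Set G))))
    (hc : Cfsg.IsInducedBlock M (Subgroup.centralizer (P : Set G)) c B)
    (T : Subgroup G)
    (hT : ∀ g : G, g ∈ T ↔ (g ∈ Subgroup.normalizer (P : Set G) ∧
      Cfsg.StabilizesBlock (Subgroup.centralizer (P : Set G)) c g)) :
    (∀ g ∈ T, ∀ x ∈ P, x ≠ 1 → g * x * g⁻¹ = x → g ∈ Subgroup.centralizer (P : Set G)) ↔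
      ∀ Q : Subgroup G, Q ≤ P → Q ≠ ⊥ →
        ∀ f : Set (Cfsg.IrrCharacter (Subgroup.centralizer (Q : Set G))),
          Cfsg.IsInducedBlockIn M (Subgroup.centralizer (Q : Set G))
            (Subgroup.centralizer (P : Set G)) c f → Cfsg.IsNilpotentBlock p M f := by
  have hPp : IsPGroup p P := fi_defect_isPGroup p M B P hPD
  constructor
  · intro hfree Q hQP hQ1 f hf
    rw [fi_local_iff p M hM B P hPD hPab c hc Q hQP f hf]
    intro y hyH hyN hyst
    obtain ⟨a, ha⟩ := (Subgroup.ne_bot_iff_exists_ne_one).mp hQ1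
    have hx1 : (a : G) ≠ 1 := fun h => ha (Subtype.ext h)
    have hcomm : (a : G) * y = y * (a : G) := Subgroup.mem_centralizer_iff.mp hyH _ a.2
    have hyx : y * (a : G) * y⁻¹ = (a : G) := by
      rw [← hcomm, mul_inv_cancel_right]
    exact hfree y ((hT y).mpr ⟨hyN, hyst⟩) (a : G) (hQP a.2) hx1 hyx
  · intro hnil g hgT x hxP hx1 hgx
    obtain ⟨hgN, hgst⟩ := (hT g).mp hgT
    have hQP : Subgroup.zpowers x ≤ P := (Subgroup.zpowers_le).mpr hxP
    have hQ1 : Subgroup.zpowers x ≠ ⊥ := (Subgroup.zpowers_ne_bot).mpr hx1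
    obtain ⟨f, hf⟩ := fi_exists p M hM P hPp hPab c hc.1 (Subgroup.zpowers x) hQP
    have hn := hnil _ hQP hQ1 f hf
    rw [fi_local_iff p M hM B P hPD hPab c hc _ hQP f hf] at hn
    apply hn g ?_ hgN hgst
    have hcomm : Commute g x := by
      show g * x = x * g
      exact mul_inv_eq_iff_eq_mul.mp hgx
    rw [Subgroup.mem_centralizer_iff]
    intro h hh
    obtain ⟨k, rfl⟩ := Subgroup.mem_zpowers_iff.mp hh
    exact ((hcomm.zpow_right k).eq).symm

end

end Cfsg.Agent.Lib.Helper25
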