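import Mathlib
import Cfsg.Agent.Lib.Helper1.FrobPQ.Props

/-!
P9 of helper1's S4305 plan: s3_wrapper (S4305 from the ambient main theorem via the semidirect product with Perm (Fin 3)).
-/

set_option autoImplicit false

namespace Cfsg.Agent.Lib.Helper25.FrobS3Wrap
open Cfsg.Agent.Lib.Helper1.FrobPQ
open Cfsg.Agent.Lib.Helper1.Ward
open scoped commutatorElement
open SemidirectProduct
section

universe u

/-- S4305 from the ambient main theorem for `F ⋊ ⟨x⟩ = S₃` -/
theorem s3_wrapper
    (hmain : ∀ (Γ : Type u) [Group Γ] [Finite Γ] (A F G : Subgroup Γ), GoodF 3 2 A F G →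
      ⁅G, G⁆ ≤ Cfsg.fittingOf G)
    {G : Type u} [Group G] [Finite G] [Group.IsSolvable G]
    [MulDistribMulAction (Equiv.Perm (Fin 3)) G] (hcop : (Nat.card G).Coprime 6)
    (hfpf : ∀ g : G, (∀ a : Equiv.Perm (Fin 3), a • g = g) → g = 1) :
    Group.IsNilpotent ↥(commutator G) := by
  obtain ⟨φ, hφ⟩ : ∃ φ : Equiv.Perm (Fin 3) →* MulAut G,
      φ = MulDistribMulAction.toMulAut (Equiv.Perm (Fin 3)) G := ⟨_, rfl⟩
  have hφa : ∀ (a : Equiv.Perm (Fin 3)) (n : G), φ a n = a • n := by
    intro a n; rw [hφ]; rfl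
  have hfinΓ : Finite (G ⋊[φ] Equiv.Perm (Fin 3)) :=
    Finite.of_equiv _ (SemidirectProduct.equivProd).symm
  have hGn : ((inl : G →* G ⋊[φ] Equiv.Perm (Fin 3)).range).Normal := by
    rw [SemidirectProduct.range_inl_eq_ker_rightHom]
    infer_instance
  have hcardA : Nat.card ↥((inr : Equiv.Perm (Fin 3) →* G ⋊[φ] Equiv.Perm (Fin 3)).range) =
      3 * 2 := by
    rw [Nat.card_congr (MonoidHom.ofInjective (inr_injective (φ := φ))).toEquiv.symm,
      Nat.card_eq_fintype_card, Fintype.card_perm, Fintype.card_fin]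
    rfl
  have hfrob : FrobA 3 2 (inr : Equiv.Perm (Fin 3) →* G ⋊[φ] Equiv.Perm (Fin 3)).range
      ((alternatingGroup (Fin 3)).map (inr : Equiv.Perm (Fin 3) →* G ⋊[φ] Equiv.Perm (Fin 3))) :=
    { hp := Nat.prime_three
      hq := Nat.prime_two
      card := hcardA
      nonab := by
        intro hc
        have h1 := hc (inr (Equiv.swap (0 : Fin 3) 1)) ⟨_, rfl⟩ (inr (Equiv.swap (1 : Fin 3) 2))
          ⟨_, rfl⟩
        rw [← map_mul, ← map_mul] at h1
        have h2 := inr_injective h1
        revert h2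
        decide
      FA := Subgroup.map_le_range _ _
      cardF := by
        rw [Subgroup.card_map_of_injective inr_injective, nat_card_alternatingGroup,
          Nat.card_eq_fintype_card, Fintype.card_fin]
        rfl
      AF := by
        have h1 := Subgroup.le_normalizer_map (H := alternatingGroup (Fin 3))
          (inr : Equiv.Perm (Fin 3) →* G ⋊[φ] Equiv.Perm (Fin 3))
        rw [Subgroup.normalizer_eq_top, ← MonoidHom.range_eq_map] at h1
        exact h1 }
  have hgood : GoodF 3 2 (inr : Equiv.Perm (Fin 3) →* G ⋊[φ] Equiv.Perm (Fin 3)).range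
      ((alternatingGroup (Fin 3)).map (inr : Equiv.Perm (Fin 3) →* G ⋊[φ] Equiv.Perm (Fin 3)))
      (inl : G →* G ⋊[φ] Equiv.Perm (Fin 3)).range := by
    refine ⟨hfrob, hGn, ?_, ?_, ?_⟩
    · have e : Nat.card ↥((inl : G →* G ⋊[φ] Equiv.Perm (Fin 3)).range) = Nat.card G :=
        Nat.card_congr (MonoidHom.ofInjective inl_injective).toEquiv.symm
      rw [e]
      exact hcop
    · exact Group.isSolvable_of_surjective
        (MonoidHom.ofInjective (inl_injective (φ := φ))).surjective
    · rintro _ ⟨n, rfl⟩ hfix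
      have h1 : n = 1 := by
        apply hfpf n
        intro a
        have h2 := hfix (inr a) ⟨a, rfl⟩
        have h3 : (inl (φ a n) : G ⋊[φ] Equiv.Perm (Fin 3)) = inl n := by
          rw [inl_aut, h2, mul_assoc, ← map_mul, mul_inv_cancel, map_one, mul_one]
        have h4 := inl_injective h3
        rw [hφa] at h4
        exact h4
      rw [h1, map_one]
  have hcomm := hmain _ _ _ _ hgood
  have h1 : (commutator G).map (inl : G →* G ⋊[φ] Equiv.Perm (Fin 3)) =
      ⁅(inl : G →* G ⋊[φ] Equiv.Perm (Fin 3)).range,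
        (inl : G →* G ⋊[φ] Equiv.Perm (Fin 3)).range⁆ := by
    rw [commutator_def, Subgroup.map_commutator, ← MonoidHom.range_eq_map]
  have hnil : Group.IsNilpotent ↥(Cfsg.fittingOf (inl : G →* G ⋊[φ] Equiv.Perm (Fin 3)).range) :=
    fitOf_nilpotent _
  have hle : (commutator G).map (inl : G →* G ⋊[φ] Equiv.Perm (Fin 3)) ≤
      Cfsg.fittingOf (inl : G →* G ⋊[φ] Equiv.Perm (Fin 3)).range := by
    rw [h1]; exact hcomm
  have h2 : Group.IsNilpotent ↥(((commutator G).map
      (inl : G →* G ⋊[φ] Equiv.Perm (Fin 3))).subgroupOf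
        (Cfsg.fittingOf (inl : G →* G ⋊[φ] Equiv.Perm (Fin 3)).range)) :=
    Subgroup.isNilpotent _
  have h3 : Group.IsNilpotent ↥((commutator G).map (inl : G →* G ⋊[φ] Equiv.Perm (Fin 3))) :=
    (Group.isNilpotent_congr (Subgroup.subgroupOfEquivOfLe hle)).mp h2
  exact (Group.isNilpotent_congr (Subgroup.equivMapOfInjective _ _ inl_injective)).mpr h3

end

end Cfsg.Agent.Lib.Helper25.FrobS3Wrap
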