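import Mathlib
import Cfsg.Agent.Lib.Helper10.QuotModule
import Cfsg.Agent.Lib.Helper20.FrobBridge
import Cfsg.Agent.Lib.Helper20.FrobTower

set_option autoImplicit false
set_option linter.unusedSectionVars false

/-!
P8 of helper1's S4305 plan: `GoodF.tower2`, the bridge from the ambient configuration to the
module form `Core2Prop` (for `p = 3`, `q = 2`): the derived subgroup of an `A`-invariant
`r`-subgroup of `G` centralizes `O_ℓ(G)`.
-/

namespace Cfsg.Agent.Lib.Helper25.FrobTower2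

open Cfsg.Agent.Lib.Helper1.FrobPQ Cfsg.Agent.Lib.Helper1.Ward
open Cfsg.Agent.Lib.Helper20.FrobBridge
open scoped commutatorElement

universe u

theorem GoodF.tower2 {Γ : Type u} [Group Γ] [Finite Γ] {A F G : Subgroup Γ}
    (hG : GoodF 3 2 A F G) (hcore : Core2Prop.{u})
    {ℓ r : ℕ} (hℓ : ℓ.Prime) (hr : r.Prime) (hℓr : ℓ ≠ r)
    {R : Subgroup Γ} (hRG : R ≤ G) (hR : IsPGroup r R)
    (hAR : A ≤ Subgroup.normalizer (R : Set Γ)) :
    ⁅R, R⁆ ≤ Subgroup.centralizer ((Oq G ℓ : Subgroup Γ) : Set Γ) := by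
  have hGn := hG.normal
  have hVn : (Oq G ℓ).Normal := Oq_normal G ℓ
  have hVG : Oq G ℓ ≤ G := Oq_le G ℓ
  have hV : IsPGroup ℓ ↥(Oq G ℓ) := Oq_isPGroup G ℓ
  have hRRR : ⁅R, R⁆ ≤ R :=
    Subgroup.le_normalizer_iff_commutator_le_left.mp Subgroup.le_normalizer
  -- trivial cases
  by_cases hRbot : R = ⊥
  · rw [hRbot, Subgroup.commutator_bot_left]; exact bot_le
  by_cases hVbot : Oq G ℓ = ⊥
  · rw [hVbot, centralizer_bot_top]; exact le_top
  have hrp : r ≠ 3 := fun h => hRbot (pgroup_bot hG (Or.inl h) hRG hR)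
  have hrq : r ≠ 2 := fun h => hRbot (pgroup_bot hG (Or.inr h) hRG hR)
  have hℓp : ℓ ≠ 3 := fun h => hVbot (pgroup_bot hG (Or.inl h) hVG hV)
  have hℓq : ℓ ≠ 2 := fun h => hVbot (pgroup_bot hG (Or.inr h) hVG hV)
  -- the module
  have := Fact.mk hℓ
  have hV₀n : ((frattini ↥(Oq G ℓ)).map (Oq G ℓ).subtype).Normal :=
    ConjAct.normal_of_characteristic_of_normal
  have hV₀V : (frattini ↥(Oq G ℓ)).map (Oq G ℓ).subtype ≤ Oq G ℓ := Subgroup.map_subtype_le _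
  have hder : ⁅Oq G ℓ, Oq G ℓ⁆ ≤ (frattini ↥(Oq G ℓ)).map (Oq G ℓ).subtype := by
    rw [← Subgroup.map_subtype_commutator]
    exact Subgroup.map_mono (Cfsg.Agent.Lib.Helper1.pgroup_commutator_le_frattini hV)
  obtain ⟨M, instM, instF, Ψ, π, hsurj, hker, hact⟩ :=
    Cfsg.Agent.Lib.Helper10.QuotModule.exists_quot_module (Oq G ℓ)
      ((frattini ↥(Oq G ℓ)).map (Oq G ℓ).subtype) hVn hV₀n hV₀V hder
  have Q : QMod (Oq G ℓ) ((frattini ↥(Oq G ℓ)).map (Oq G ℓ).subtype) M Ψ π :=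
    QMod.of_normal hVn hsurj hker hact
  have hcopR : ∀ K : Subgroup Γ, K ≤ R → (Nat.card K).Coprime ℓ := by
    intro K hK
    have := Fact.mk hr
    obtain ⟨n, hn⟩ := (IsPGroup.iff_card).mp (hR.to_le hK)
    rw [hn]
    exact Nat.Coprime.pow_left n ((Nat.coprime_primes hr hℓ).mpr (Ne.symm hℓr))
  by_cases hcase : ∀ f ∈ F, Ψ f = 1
  · -- Case 1
    have hcopF : (Nat.card F).Coprime ℓ := by
      rw [hG.frob.cardF]
      exact (Nat.coprime_primes hG.frob.hp hℓ).mpr (Ne.symm hℓp)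
    have hFV : F ≤ Subgroup.centralizer ((Oq G ℓ : Subgroup Γ) : Set Γ) :=
      Q.le_centralizer hVn hℓ hV hcopF hcase
    exact hRRR.trans (case1 hG hℓ hVn hVG hV hFV hr (Ne.symm hℓr) hRG hR (hG.frob.FA.trans hAR))
  · -- Case 2
    push Not at hcase
    obtain ⟨hinj, hfrob⟩ := frob_map hG.frob Ψ hcase
    have hcomm : ∀ a ∈ R.map Ψ, ∀ b ∈ R.map Ψ, a * b = b * a :=
      hcore M ℓ r hℓ hr hℓq hℓp hrq hrp (Ne.symm hℓr) (Q.expM hℓ hV) (A.map Ψ) (F.map Ψ)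
        hfrob.toPQ hfrob.FA hfrob.cardF hfrob.AF (fpfM hG Q hVn hV₀n hV₀V hVG)
        (R.map Ψ) (hR.map Ψ) (map_norm' Ψ hAR) (fpf_map hG Ψ hRG hAR)
    have h1 : ⁅R.map Ψ, R.map Ψ⁆ = ⊥ := by
      rw [Subgroup.commutator_eq_bot_iff_le_centralizer]
      intro a ha
      rw [Subgroup.mem_centralizer_iff]
      intro b hb
      exact hcomm b hb a ha
    rw [← Subgroup.map_commutator, Subgroup.map_eq_bot_iff] at h1
    exact Q.le_centralizer hVn hℓ hV (hcopR _ hRRR) (fun k hk => MonoidHom.mem_ker.mp (h1 hk))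

end Cfsg.Agent.Lib.Helper25.FrobTower2
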