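import Mathlib
import Cfsg.Prelude.Def_Characters
import Cfsg.Agent.Lib.helper2.FullRam2
import Cfsg.Agent.Lib.helper2.CliffordCorr
import Cfsg.Agent.Lib.helper2.BergerG1
import Cfsg.Agent.S0854
import Cfsg.Agent.S4565
import Cfsg.Agent.Lib.Helper18.E8Connected

/-!
Fully ramified characters: De Meyer-Janusz reduction to Sylow subgroups, Clifford theory over
an intermediate normal subgroup and the construction of a complement to a Sylow subgroup of
`H / K` (used for S4564 and S4563).  Main results: `frc_dj`, `frc_numeric`, `frc_trans`,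
`frc_stab_cyclic`, `frc_complement`, `frc_core`, `frc_main`, `frc_cyclic_complement`.
-/

set_option autoImplicit false
set_option linter.style.haveILetI false
set_option linter.unusedVariables false
set_option linter.unusedSectionVars false
set_option warn.classDefReducibility false
set_option maxHeartbeats 1600000

namespace Cfsg.Agent.Lib.Helper25
open Cfsg
open Cfsg.Agent.Lib.helper2
open Cfsg.Agent.Lib.helper7
open Cfsg.Agent.Lib.Helper11
open scoped ComplexConjugate Pointwise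
section

/-- an irreducible constituent of a character lies over `θ` only if the character does -/
theorem frc_over {A B : Type*} [Group A] [Group B] [Fintype A] [Fintype B] (f : A →* B)
    {Ψ ω : B → ℂ} (hΨ : Cfsg.IsCharacter B Ψ) (hω : Cfsg.IsIrrCharacter B ω)
    (h : Cfsg.classInner Ψ ω ≠ 0) {θ : A → ℂ} (hθ : Cfsg.IsIrrCharacter A θ)
    (h2 : Cfsg.classInner (fun a => ω (f a)) θ ≠ 0) :
    Cfsg.classInner (fun a => Ψ (f a)) θ ≠ 0 := by
  obtain ⟨Δ, hΔ, hsplit⟩ := h7_char_split hΨ ω hω h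
  have h3 : (fun a => Ψ (f a)) = (fun a => ω (f a)) + (fun a => Δ (f a)) := by
    funext a
    rw [hsplit]
    rfl
  rw [h3, classInner_add_left]
  obtain ⟨m, hm⟩ := classInner_character_nat
    (isCharacter_comp_hom (h7_irr_isCharacter hω) f) (h7_irr_isCharacter hθ)
  obtain ⟨k, hk⟩ := classInner_character_nat (isCharacter_comp_hom hΔ f) (h7_irr_isCharacter hθ)
  rw [hm] at h2 ⊢
  rw [hk]
  have hm0 : m ≠ 0 := by
    intro h0
    apply h2
    rw [h0]
    simp
  have : (m + k : ℕ) ≠ 0 := by omega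
  exact_mod_cast this

end

section

/-- every irreducible constituent of the character induced from `φ` (over `θ`) is `ξ` -/
theorem frc_ind_unique {G : Type*} [Group G] [Fintype G] (Z L : Subgroup G)
    [Fintype Z] [Fintype L] (hZL : Z ≤ L) (θ : Z → ℂ)
    (hθ : Cfsg.IsIrrCharacter Z θ) (ξ : G → ℂ)
    (huniq : ∀ ψ : G → ℂ, Cfsg.IsIrrCharacter G ψ →
      Cfsg.classInner (fun z : Z => ψ z) θ ≠ 0 → ψ = ξ)
    (φ : L → ℂ) (hφ : Cfsg.IsIrrCharacter L φ)
    (hφθ : Cfsg.classInner (fun z : Z => φ ⟨z, hZL z.2⟩) θ ≠ 0)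
    (ψ : G → ℂ) (hψ : Cfsg.IsIrrCharacter G ψ)
    (hne : Cfsg.classInner (Cfsg.indFun L φ) ψ ≠ 0) : ψ = ξ := by
  have hcl := h7_irr_isClassFunction hψ
  rw [h7_frobenius_irr L ψ hcl φ] at hne
  have h1 : Cfsg.classInner (fun n : L => ψ n) φ ≠ 0 := by
    intro h0
    apply hne
    rw [h0]
    simp
  apply huniq ψ hψ
  exact frc_over (Subgroup.inclusion hZL) (isCharacter_restrict (h7_irr_isCharacter hψ) L) hφ h1
    hθ hφθ

/-- the character induced from `φ` is a multiple of `ξ` -/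
theorem frc_ind_eq {G : Type*} [Group G] [Fintype G] (Z L : Subgroup G)
    [Fintype Z] [Fintype L] (hZL : Z ≤ L) (θ : Z → ℂ)
    (hθ : Cfsg.IsIrrCharacter Z θ) (ξ : G → ℂ) (hξ : Cfsg.IsIrrCharacter G ξ)
    (huniq : ∀ ψ : G → ℂ, Cfsg.IsIrrCharacter G ψ →
      Cfsg.classInner (fun z : Z => ψ z) θ ≠ 0 → ψ = ξ)
    (φ : L → ℂ) (hφ : Cfsg.IsIrrCharacter L φ)
    (hφθ : Cfsg.classInner (fun z : Z => φ ⟨z, hZL z.2⟩) θ ≠ 0) :
    ∃ f : ℕ, 0 < f ∧ Cfsg.indFun L φ = (f : ℂ) • ξ ∧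
      Cfsg.classInner (fun n : L => ξ n) φ = (f : ℂ) := by
  classical
  haveI : Fintype (Cfsg.IrrCharacter G) := Fintype.ofFinite _
  have hI := isCharacter_indFun L φ (h7_irr_isCharacter hφ)
  obtain ⟨m, hm, hexp⟩ := isCharacter_expansion hI
  have hz : ∀ ψ : Cfsg.IrrCharacter G, ψ ≠ ⟨ξ, hξ⟩ → m ψ = 0 := by
    intro ψ hψ
    by_contra h0
    apply hψ
    apply Subtype.ext
    apply frc_ind_unique Z L hZL θ hθ ξ huniq φ hφ hφθ (ψ : G → ℂ) ψ.2
    rw [hm ψ]
    exact_mod_cast h0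
  have hexp2 : Cfsg.indFun L φ = (m ⟨ξ, hξ⟩ : ℂ) • ξ := by
    rw [hexp]
    rw [Finset.sum_eq_single (⟨ξ, hξ⟩ : Cfsg.IrrCharacter G)]
    · intro ψ _ hψ
      rw [hz ψ hψ]
      simp
    · intro h'
      exact absurd (Finset.mem_univ _) h'
  have hpos : 0 < m ⟨ξ, hξ⟩ := by
    rcases Nat.eq_zero_or_pos (m ⟨ξ, hξ⟩) with h0 | h0
    · exfalso
      rw [h0] at hexp2
      have h1 := congrFun hexp2 1
      rw [h7_indFun_one] at h1
      simp only [Nat.cast_zero, zero_smul, Pi.zero_apply] at h1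
      have h2 : (L.index : ℂ) ≠ 0 := by
        exact_mod_cast Subgroup.index_ne_zero_of_finite
      have h3 := irr_one_ne_zero (⟨φ, hφ⟩ : Cfsg.IrrCharacter L)
      exact (mul_ne_zero h2 h3) h1
    · exact h0
  refine ⟨m ⟨ξ, hξ⟩, hpos, hexp2, ?_⟩
  have h1 := hm ⟨ξ, hξ⟩
  simp only at h1
  rw [h7_frobenius_irr L ξ (h7_irr_isClassFunction hξ) φ] at h1
  have h2 := congrArg conj h1
  rw [Complex.conj_conj, Complex.conj_natCast] at h2
  exact h2

end

section

theorem frc_cj_one {G : Type*} [Group G] (L : Subgroup G) [hL : L.Normal] (φ : L → ℂ) (g : G) :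
    cj L φ g 1 = φ 1 := by
  rw [cj_apply]
  congr 1
  apply Subtype.ext
  simp

/-- the numerical relations between ramification, stabilizer index and degrees -/
theorem frc_numeric {G : Type*} [Group G] [Fintype G] (Z L : Subgroup G) [hL : L.Normal]
    [Fintype Z] [Fintype L] (hZL : Z ≤ L) (θ : Z → ℂ)
    (hθ : Cfsg.IsIrrCharacter Z θ) (ξ : G → ℂ) (hξ : Cfsg.IsIrrCharacter G ξ)
    (huniq : ∀ ψ : G → ℂ, Cfsg.IsIrrCharacter G ψ →
      Cfsg.classInner (fun z : Z => ψ z) θ ≠ 0 → ψ = ξ)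
    (φ : L → ℂ) (hφ : Cfsg.IsIrrCharacter L φ)
    (hφθ : Cfsg.classInner (fun z : Z => φ ⟨z, hZL z.2⟩) θ ≠ 0) :
    ∃ f : ℕ, 0 < f ∧ Cfsg.classInner (fun n : L => ξ n) φ = (f : ℂ) ∧
      f ^ 2 * (cjStab L φ).index = L.index ∧
      ξ 1 = (f : ℂ) * ((cjStab L φ).index : ℂ) * φ 1 := by
  classical
  obtain ⟨f, hf, hind, hcon⟩ := frc_ind_eq Z L hZL θ hθ ξ hξ huniq φ hφ hφθ
  have hcon' : Cfsg.classInner (fun n : L => ξ n) φ ≠ 0 := by
    rw [hcon]
    exact_mod_cast hf.ne'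
  obtain ⟨e, he, he1, he2⟩ := h7_clifford L ξ hξ φ hφ hcon'
  have hef : e = f := by
    rw [hcon] at he1
    exact_mod_cast he1.symm
  subst hef
  have hξ1 : ξ 1 = (e : ℂ) * ((cjStab L φ).index : ℂ) * φ 1 := by
    have h1 := congrFun he2 1
    simp only [Pi.smul_apply, smul_eq_mul, Finset.sum_apply] at h1
    have h2 : ∑ ψ ∈ Finset.univ.image (fun g : G => cj L φ g), ψ 1 =
        ((Finset.univ.image (fun g : G => cj L φ g)).card : ℂ) * φ 1 := by
      rw [Finset.sum_congr rfl (g := fun _ => φ 1)]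
      · rw [Finset.sum_const, nsmul_eq_mul]
      · intro ψ hψ
        obtain ⟨g, -, rfl⟩ := Finset.mem_image.mp hψ
        exact frc_cj_one L φ g
    rw [h2, card_image_cj] at h1
    have h3 : ξ ((1 : L) : G) = ξ 1 := rfl
    rw [← h3, h1]
    ring
  refine ⟨e, hf, hcon, ?_, hξ1⟩
  have h4 := congrFun hind 1
  rw [h7_indFun_one, Pi.smul_apply, smul_eq_mul, hξ1] at h4
  have hφ1 := irr_one_ne_zero (⟨φ, hφ⟩ : Cfsg.IrrCharacter L)
  simp only at hφ1
  have h5 : (L.index : ℂ) = (e : ℂ) * ((e : ℂ) * ((cjStab L φ).index : ℂ)) := by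
    apply mul_right_cancel₀ hφ1
    rw [h4]
    ring
  have h6 : L.index = e * (e * (cjStab L φ).index) := by exact_mod_cast h5
  rw [h6]
  ring

end

section

/-- all irreducible characters of `L` over `θ` are conjugate -/
theorem frc_trans {G : Type*} [Group G] [Fintype G] (Z L : Subgroup G) [hL : L.Normal]
    [Fintype Z] [Fintype L] (hZL : Z ≤ L) (θ : Z → ℂ)
    (hθ : Cfsg.IsIrrCharacter Z θ) (ξ : G → ℂ) (hξ : Cfsg.IsIrrCharacter G ξ)
    (huniq : ∀ ψ : G → ℂ, Cfsg.IsIrrCharacter G ψ →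
      Cfsg.classInner (fun z : Z => ψ z) θ ≠ 0 → ψ = ξ)
    (φ : L → ℂ) (hφ : Cfsg.IsIrrCharacter L φ)
    (hφθ : Cfsg.classInner (fun z : Z => φ ⟨z, hZL z.2⟩) θ ≠ 0)
    (φ' : L → ℂ) (hφ' : Cfsg.IsIrrCharacter L φ')
    (hφ'θ : Cfsg.classInner (fun z : Z => φ' ⟨z, hZL z.2⟩) θ ≠ 0) :
    ∃ g : G, φ' = cj L φ g := by
  obtain ⟨f, hf, -, hcon⟩ := frc_ind_eq Z L hZL θ hθ ξ hξ huniq φ hφ hφθ
  obtain ⟨f', hf', -, hcon'⟩ := frc_ind_eq Z L hZL θ hθ ξ hξ huniq φ' hφ' hφ'θ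
  apply h7_clifford_conj L ξ hξ φ φ' hφ hφ'
  · rw [hcon]
    exact_mod_cast hf.ne'
  · rw [hcon']
    exact_mod_cast hf'.ne'

theorem frc_cyclic_sub {G : Type*} [Group G] (L T : Subgroup G) [hL : L.Normal]
    (hcyc : IsCyclic (G ⧸ L)) : IsCyclic (↥T ⧸ L.subgroupOf T) := by
  let F : ↥T ⧸ L.subgroupOf T →* G ⧸ L :=
    QuotientGroup.map (L.subgroupOf T) L T.subtype (fun x hx => hx)
  have hinj : Function.Injective F := by
    rw [injective_iff_map_eq_one]
    intro q hq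
    obtain ⟨x, rfl⟩ := QuotientGroup.mk_surjective q
    have h1 : F (QuotientGroup.mk x) = QuotientGroup.mk (x : G) := rfl
    rw [h1] at hq
    have h2 : (x : G) ∈ L := (QuotientGroup.eq_one_iff _).mp hq
    exact (QuotientGroup.eq_one_iff x).mpr h2
  exact isCyclic_of_injective F hinj

/-- in the cyclic case the stabilizer of `φ` is `L` -/
theorem frc_stab_cyclic {G : Type*} [Group G] [Fintype G] (Z L : Subgroup G) [hL : L.Normal]
    [Fintype Z] [Fintype L] (hZL : Z ≤ L) (θ : Z → ℂ)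
    (hθ : Cfsg.IsIrrCharacter Z θ) (ξ : G → ℂ) (hξ : Cfsg.IsIrrCharacter G ξ)
    (huniq : ∀ ψ : G → ℂ, Cfsg.IsIrrCharacter G ψ →
      Cfsg.classInner (fun z : Z => ψ z) θ ≠ 0 → ψ = ξ)
    (φ : L → ℂ) (hφ : Cfsg.IsIrrCharacter L φ)
    (hφθ : Cfsg.classInner (fun z : Z => φ ⟨z, hZL z.2⟩) θ ≠ 0)
    (hcyc : IsCyclic (G ⧸ L)) : cjStab L φ ≤ L := by
  classical
  obtain ⟨f, hf, hcon, hnum, -⟩ := frc_numeric Z L hZL θ hθ ξ hξ huniq φ hφ hφθ
  set T : Subgroup G := cjStab L φ with hT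
  haveI : Fintype T := Fintype.ofFinite _
  have hLT : L ≤ T := le_cjStab L φ (h7_irr_isClassFunction hφ)
  have hTmem : ∀ g : G, g ∈ T ↔ ∀ n : L, φ ⟨g * n * g⁻¹, hL.conj_mem (n : G) n.2 g⟩ = φ n := by
    intro g
    rw [hT, mem_cjStab]
    constructor
    · intro h n
      have := congrFun h n
      rw [cj_apply] at this
      exact this
    · intro h
      funext n
      rw [cj_apply]
      exact h n
  have hcon' : Cfsg.classInner (fun n : L => ξ n) φ ≠ 0 := by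
    rw [hcon]
    exact_mod_cast hf.ne'
  obtain ⟨η, hη, -, hηφ⟩ := Cfsg.Agent.S0854.result L φ hφ T hTmem hLT ξ hξ hcon'
  have hcon'' : Cfsg.classInner (fun n : L => η ⟨(n : G), hLT n.2⟩) φ ≠ 0 := by
    rw [hηφ]
    exact hcon'
  obtain ⟨f', hf', hf'1, hf'2⟩ := h7_clifford_invariant_le L T hLT η hη φ hφ hcon''
    (fun t ht n => (hTmem t).mp ht n)
  have hff : f' = f := by
    rw [hηφ, hcon] at hf'1
    exact_mod_cast hf'1.symm
  subst hff
  -- the index relation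
  have hidx : f' ^ 2 = (L.subgroupOf T).index := by
    have h1 := Subgroup.relIndex_mul_index hLT
    rw [← h1] at hnum
    have h2 : T.index ≠ 0 := Subgroup.index_ne_zero_of_finite
    exact Nat.eq_of_mul_eq_mul_right (Nat.pos_of_ne_zero h2) hnum
  by_contra hnot
  have hne : L.subgroupOf T ≠ ⊤ := by
    intro h
    apply hnot
    exact Subgroup.subgroupOf_eq_top.mp h
  let E : L.subgroupOf T ≃* L := Subgroup.subgroupOfEquivOfLe hLT
  have hθ' : Cfsg.IsIrrCharacter (L.subgroupOf T) (fun k => φ (E k)) :=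
    h7_isIrr_comp_equiv E φ hφ
  have hcycT : IsCyclic (↥T ⧸ L.subgroupOf T) := frc_cyclic_sub L T hcyc
  have hC : IsCyclic (⊤ : Subgroup (↥T ⧸ L.subgroupOf T)) := inferInstance
  have hres : ∀ z : ↥(L.subgroupOf T), η (z : T) = (f' : ℂ) * φ (E z) := by
    intro z
    have h1 := congrFun hf'2 (E z)
    simp only [Pi.smul_apply, smul_eq_mul] at h1
    rw [← h1]
    congr 1
  have key := Cfsg.Agent.S4565.result (H := ↥T) (L.subgroupOf T) ⟨η, hη⟩
    ⟨⟨fun k => φ (E k), hθ'⟩, f', hidx, hres⟩ hne ⊤ hC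
  apply key
  obtain ⟨g₀, hg₀⟩ := hcycT.exists_generator
  ext q
  simp only [Subgroup.mem_top, iff_true]
  rw [Subgroup.mem_centralizer_iff]
  intro r _
  obtain ⟨i, rfl⟩ := Subgroup.mem_zpowers_iff.mp (hg₀ q)
  obtain ⟨j, rfl⟩ := Subgroup.mem_zpowers_iff.mp (hg₀ r)
  rw [← zpow_add, ← zpow_add, add_comm]

end

section

/-- a sum of natural numbers equal to `N`, each nonzero term being at least `N`, has exactly one
nonzero term -/
theorem frc_sum_unique {ι : Type*} [Fintype ι] [DecidableEq ι] (m : ι → ℕ) (N : ℕ) (hN : 0 < N)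
    (hsum : ∑ i, m i = N) (hge : ∀ i, m i ≠ 0 → N ≤ m i) :
    ∃ i₀, m i₀ = N ∧ ∀ i, i ≠ i₀ → m i = 0 := by
  have hex : ∃ i₀, m i₀ ≠ 0 := by
    by_contra h
    push Not at h
    have : ∑ i, m i = 0 := Finset.sum_eq_zero (fun i _ => h i)
    omega
  obtain ⟨i₀, hi₀⟩ := hex
  have h1 : m i₀ ≤ N := by
    rw [← hsum]
    exact Finset.single_le_sum (fun i _ => Nat.zero_le _) (Finset.mem_univ i₀)
  refine ⟨i₀, le_antisymm h1 (hge i₀ hi₀), ?_⟩
  intro i hi
  by_contra h0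
  have h2 : m i + m i₀ ≤ N := by
    rw [← hsum, ← Finset.sum_pair hi]
    exact Finset.sum_le_sum_of_subset (Finset.subset_univ _)
  have := hge i h0
  have := hge i₀ hi₀
  omega

/-- abstract De Meyer-Janusz counting step -/
theorem frc_dj_count {G : Type*} [Group G] [Fintype G] (Z : Subgroup G) [hZ : Z.Normal]
    [Fintype Z] (θ : Z → ℂ) (hθ : Cfsg.IsIrrCharacter Z θ)
    (hdvd : ∀ ξ : G → ℂ, Cfsg.IsIrrCharacter G ξ →
      Cfsg.classInner (fun z : Z => ξ z) θ ≠ 0 →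
      ∃ a : ℕ, (fun z : Z => ξ z) = (a : ℂ) • θ ∧ Z.index ∣ a ^ 2) :
    ∃ (ξ : G → ℂ) (a : ℕ), Cfsg.IsIrrCharacter G ξ ∧ (fun z : Z => ξ z) = (a : ℂ) • θ ∧
      a ^ 2 = Z.index ∧ Cfsg.classInner (fun z : Z => ξ z) θ ≠ 0 ∧
      ∀ ψ : G → ℂ, Cfsg.IsIrrCharacter G ψ →
        Cfsg.classInner (fun z : Z => ψ z) θ ≠ 0 → ψ = ξ := by
  classical
  haveI : Fintype (Cfsg.IrrCharacter G) := Fintype.ofFinite _
  have hI := isCharacter_indFun Z θ (h7_irr_isCharacter hθ)
  obtain ⟨m, hm, hexp⟩ := isCharacter_expansion hI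
  have hθ1 := irr_one_ne_zero (⟨θ, hθ⟩ : Cfsg.IrrCharacter Z)
  simp only at hθ1
  have hθθ : Cfsg.classInner θ θ = 1 := h7_irr_norm hθ
  -- relation between m and restriction
  have hmrel : ∀ ξ : Cfsg.IrrCharacter G,
      Cfsg.classInner (fun z : Z => (ξ : G → ℂ) z) θ = (m ξ : ℂ) := by
    intro ξ
    have h1 := hm ξ
    rw [h7_frobenius_irr Z (ξ : G → ℂ) (h7_irr_isClassFunction ξ.2) θ] at h1
    have h2 := congrArg conj h1
    rw [Complex.conj_conj, Complex.conj_natCast] at h2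
    exact h2
  have hdeg : ∀ ξ : Cfsg.IrrCharacter G, m ξ ≠ 0 →
      (ξ : G → ℂ) 1 = (m ξ : ℂ) * θ 1 ∧ Z.index ∣ (m ξ) ^ 2 := by
    intro ξ hξ
    have hcon : Cfsg.classInner (fun z : Z => (ξ : G → ℂ) z) θ ≠ 0 := by
      rw [hmrel]
      exact_mod_cast hξ
    obtain ⟨a, ha, hadvd⟩ := hdvd (ξ : G → ℂ) ξ.2 hcon
    have ham : a = m ξ := by
      have h1 := hmrel ξ
      rw [ha, classInner_smul_left, hθθ, mul_one] at h1
      exact_mod_cast h1
    subst ham
    refine ⟨?_, hadvd⟩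
    have h1 := congrFun ha 1
    simp only [Pi.smul_apply, smul_eq_mul] at h1
    exact h1
  have hsum : ∑ ξ : Cfsg.IrrCharacter G, (m ξ) ^ 2 = Z.index := by
    have h1 := congrFun hexp 1
    rw [h7_indFun_one] at h1
    simp only [Finset.sum_apply, Pi.smul_apply, smul_eq_mul] at h1
    have h2 : ∑ ξ : Cfsg.IrrCharacter G, (m ξ : ℂ) * (ξ : G → ℂ) 1 =
        (∑ ξ : Cfsg.IrrCharacter G, ((m ξ) ^ 2 : ℕ)) * θ 1 := by
      push_cast
      rw [Finset.sum_mul]
      apply Finset.sum_congr rfl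
      intro ξ _
      by_cases h0 : m ξ = 0
      · rw [h0]
        simp
      · rw [(hdeg ξ h0).1]
        ring
    rw [h2] at h1
    have h3 := mul_right_cancel₀ hθ1 h1
    exact_mod_cast h3.symm
  have hN : 0 < Z.index := Nat.pos_of_ne_zero Subgroup.index_ne_zero_of_finite
  obtain ⟨ξ₀, h1, h2⟩ := frc_sum_unique (fun ξ => (m ξ) ^ 2) Z.index hN hsum (by
    intro ξ hξ
    have h0 : m ξ ≠ 0 := by
      intro h
      apply hξ
      rw [h]
      rfl
    exact Nat.le_of_dvd (Nat.pos_of_ne_zero hξ) (hdeg ξ h0).2)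
  have hm0 : m ξ₀ ≠ 0 := by
    intro h
    rw [h] at h1
    simp at h1
    omega
  have hcon : Cfsg.classInner (fun z : Z => (ξ₀ : G → ℂ) z) θ ≠ 0 := by
    rw [hmrel]
    exact_mod_cast hm0
  obtain ⟨a, ha, -⟩ := hdvd (ξ₀ : G → ℂ) ξ₀.2 hcon
  have ham : a = m ξ₀ := by
    have h3 := hmrel ξ₀
    rw [ha, classInner_smul_left, hθθ, mul_one] at h3
    exact_mod_cast h3
  refine ⟨(ξ₀ : G → ℂ), a, ξ₀.2, ha, by rw [ham]; exact h1, hcon, ?_⟩
  intro ψ hψ hψθ
  by_contra hne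
  have h3 := h2 ⟨ψ, hψ⟩ (by
    intro h
    apply hne
    exact congrArg Subtype.val h)
  have h4 : m ⟨ψ, hψ⟩ = 0 := by
    have := pow_eq_zero_iff (n := 2) (by norm_num) |>.mp h3
    exact this
  apply hψθ
  have h5 := hmrel ⟨ψ, hψ⟩
  simp only at h5
  rw [h5, h4]
  simp

end

section

/-- invariance of the character under a fully ramified one -/
theorem frc_theta_inv {H : Type*} [Group H] [Fintype H] (Z : Subgroup H) [hZ : Z.Normal]
    [Fintype Z] (χ : H → ℂ) (hχ : Cfsg.IsIrrCharacter H χ) (θ : Z → ℂ)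
    (e : ℕ) (he : e ^ 2 = Z.index) (hres : ∀ z : Z, χ z = (e : ℂ) * θ z) (x : H) (z : Z) :
    θ ⟨x * z * x⁻¹, hZ.conj_mem z z.2 x⟩ = θ z := by
  have he0 : e ≠ 0 := by
    intro h0
    have : Z.index ≠ 0 := Subgroup.index_ne_zero_of_finite
    apply this
    rw [← he, h0]
    rfl
  have heC : (e : ℂ) ≠ 0 := by exact_mod_cast he0
  have hcl := h7_irr_isClassFunction hχ
  have h1 := hres ⟨x * z * x⁻¹, hZ.conj_mem z z.2 x⟩
  have h2 := hres z
  have h3 : χ (x * z * x⁻¹) = χ z := hcl z x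
  rw [h3, h2] at h1
  exact (mul_left_cancel₀ heC h1).symm

/-- uniqueness of the fully ramified character -/
theorem frc_fr_unique {H : Type*} [Group H] [Fintype H] (Z : Subgroup H)
    [Fintype Z] (χ : H → ℂ) (hχ : Cfsg.IsIrrCharacter H χ) (θ : Z → ℂ)
    (hθ : Cfsg.IsIrrCharacter Z θ)
    (e : ℕ) (he : e ^ 2 = Z.index) (hres : ∀ z : Z, χ z = (e : ℂ) * θ z)
    (ψ : H → ℂ) (hψ : Cfsg.IsIrrCharacter H ψ)
    (hψθ : Cfsg.classInner (fun z : Z => ψ z) θ ≠ 0) : ψ = χ := by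
  by_contra hne
  apply hψθ
  have h1 := fz_unique Z χ hχ θ hθ e he hres ψ hψ hne
  rw [Cfsg.Agent.Lib.helper2.classInner_conj_symm, h1]
  simp

/-- De Meyer-Janusz divisibility: for `Z ≤ S` with `[S:Z] = p ^ n` and `p ∤ [H:S]`, every
irreducible character of `S` over `θ` restricts to `a θ` with `p ^ n ∣ a ^ 2`. -/
theorem frc_dj_dvd {H : Type*} [Group H] [Fintype H] (Z S : Subgroup H) [hZ : Z.Normal]
    [Fintype Z] [Fintype S] (hZS : Z ≤ S) (χ : H → ℂ) (hχ : Cfsg.IsIrrCharacter H χ) (θ : Z → ℂ)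
    (hθ : Cfsg.IsIrrCharacter Z θ)
    (e : ℕ) (he : e ^ 2 = Z.index) (hres : ∀ z : Z, χ z = (e : ℂ) * θ z)
    (p n : ℕ) (hp : p.Prime) (hSZ : Z.relIndex S = p ^ n) (hpS : ¬ p ∣ S.index)
    (ξ : S → ℂ) (hξ : Cfsg.IsIrrCharacter S ξ)
    (hcon : Cfsg.classInner (fun z : Z => ξ ⟨(z : H), hZS z.2⟩) θ ≠ 0) :
    ∃ a : ℕ, (fun z : Z => ξ ⟨(z : H), hZS z.2⟩) = (a : ℂ) • θ ∧ p ^ n ∣ a ^ 2 := by
  classical
  obtain ⟨a, ha, ha1, ha2⟩ := h7_clifford_invariant_le Z S hZS ξ hξ θ hθ hcon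
    (fun t _ z => frc_theta_inv Z χ hχ θ e he hres t z)
  refine ⟨a, ha2, ?_⟩
  obtain ⟨b, hb, hind, -⟩ := frc_ind_eq Z S hZS θ hθ χ hχ
    (fun ψ hψ hψθ => frc_fr_unique Z χ hχ θ hθ e he hres ψ hψ hψθ) ξ hξ hcon
  have h1 := congrFun hind 1
  rw [h7_indFun_one, Pi.smul_apply, smul_eq_mul] at h1
  have hξ1 : ξ 1 = (a : ℂ) * θ 1 := by
    have := congrFun ha2 1
    simp only [Pi.smul_apply, smul_eq_mul] at this
    rw [← this]
    rfl
  have hχ1 : χ 1 = (e : ℂ) * θ 1 := hres 1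
  rw [hξ1, hχ1] at h1
  have hθ1 := irr_one_ne_zero (⟨θ, hθ⟩ : Cfsg.IrrCharacter Z)
  simp only at hθ1
  have h2 : (S.index : ℂ) * (a : ℂ) = (b : ℂ) * (e : ℂ) := by
    apply mul_right_cancel₀ hθ1
    rw [mul_assoc, h1]
    ring
  have h3 : S.index * a = b * e := by exact_mod_cast h2
  have h4 : S.index * a ^ 2 = b ^ 2 * p ^ n := by
    have h5 : (S.index * a) ^ 2 = (b * e) ^ 2 := by rw [h3]
    rw [mul_pow, mul_pow, he, ← Subgroup.relIndex_mul_index hZS, hSZ] at h5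
    have h6 : S.index ≠ 0 := Subgroup.index_ne_zero_of_finite
    have h7 : S.index * (S.index * a ^ 2) = S.index * (b ^ 2 * p ^ n) := by
      rw [← mul_assoc, ← pow_two, h5]
      ring
    exact Nat.eq_of_mul_eq_mul_left (Nat.pos_of_ne_zero h6) h7
  have hcop : (p ^ n).Coprime S.index :=
    Nat.Coprime.pow_left n ((Nat.Prime.coprime_iff_not_dvd hp).mpr hpS)
  apply hcop.dvd_of_dvd_mul_left
  rw [h4]
  exact dvd_mul_left _ _

end

section

/-- De Meyer-Janusz: the triple `(S, Z, θ)` is again fully ramified when `[S:Z]` is the full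
`p`-part of `[H:Z]`. -/
theorem frc_dj {H : Type*} [Group H] [Fintype H] (Z S : Subgroup H) [hZ : Z.Normal]
    [Fintype Z] [Fintype S] [Fintype (Z.subgroupOf S)]
    (hZS : Z ≤ S) (χ : H → ℂ) (hχ : Cfsg.IsIrrCharacter H χ) (θ : Z → ℂ)
    (hθ : Cfsg.IsIrrCharacter Z θ)
    (e : ℕ) (he : e ^ 2 = Z.index) (hres : ∀ z : Z, χ z = (e : ℂ) * θ z)
    (p n : ℕ) (hp : p.Prime) (hSZ : Z.relIndex S = p ^ n) (hpS : ¬ p ∣ S.index) :
    ∃ (ξ : S → ℂ) (a : ℕ), Cfsg.IsIrrCharacter S ξ ∧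
      (fun z : Z.subgroupOf S => ξ z) =
        (a : ℂ) • (fun z : Z.subgroupOf S => θ (Subgroup.subgroupOfEquivOfLe hZS z)) ∧
      a ^ 2 = (Z.subgroupOf S).index ∧
      Cfsg.classInner (fun z : Z.subgroupOf S => ξ z)
        (fun z : Z.subgroupOf S => θ (Subgroup.subgroupOfEquivOfLe hZS z)) ≠ 0 ∧
      ∀ ψ : S → ℂ, Cfsg.IsIrrCharacter S ψ →
        Cfsg.classInner (fun z : Z.subgroupOf S => ψ z)
          (fun z : Z.subgroupOf S => θ (Subgroup.subgroupOfEquivOfLe hZS z)) ≠ 0 → ψ = ξ := by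
  classical
  let E : Z.subgroupOf S ≃* Z := Subgroup.subgroupOfEquivOfLe hZS
  have hθ' : Cfsg.IsIrrCharacter (Z.subgroupOf S) (fun z => θ (E z)) :=
    h7_isIrr_comp_equiv E θ hθ
  apply frc_dj_count (Z.subgroupOf S) (fun z => θ (E z)) hθ'
  intro ξ hξ hcon
  have hfun : (fun z : Z.subgroupOf S => ξ z) =
      fun z => (fun n : Z => ξ ⟨(n : H), hZS n.2⟩) (E z) := by
    funext z
    rfl
  have hcon' : Cfsg.classInner (fun z : Z => ξ ⟨(z : H), hZS z.2⟩) θ ≠ 0 := by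
    rw [hfun, h7_classInner_comp_equiv E (fun n : Z => ξ ⟨(n : H), hZS n.2⟩) θ] at hcon
    exact hcon
  obtain ⟨a, ha, hadvd⟩ := frc_dj_dvd Z S hZS χ hχ θ hθ e he hres p n hp hSZ hpS ξ hξ hcon'
  refine ⟨a, ?_, ?_⟩
  · funext z
    have h1 := congrFun ha (E z)
    simp only [Pi.smul_apply, smul_eq_mul] at h1 ⊢
    rw [← h1]
    rfl
  · have : (Z.subgroupOf S).index = p ^ n := hSZ
    rw [this]
    exact hadvd

end

section

theorem frc_dedekind {H : Type*} [Group H] (A Z K : Subgroup H) [hZ : Z.Normal] (hZK : Z ≤ K) :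
    (A ⊔ Z) ⊓ K = (A ⊓ K) ⊔ Z := by
  apply le_antisymm
  · intro x hx
    obtain ⟨hx1, hx2⟩ := Subgroup.mem_inf.mp hx
    obtain ⟨a, ha, z, hz, rfl⟩ := Subgroup.mem_sup_of_normal_right.mp hx1
    have haK : a ∈ K := by
      have := K.mul_mem hx2 (K.inv_mem (hZK hz))
      rwa [mul_inv_cancel_right] at this
    exact Subgroup.mul_mem _ (Subgroup.mem_sup_left (Subgroup.mem_inf.mpr ⟨ha, haK⟩))
      (Subgroup.mem_sup_right hz)
  · exact sup_le (le_inf (inf_le_left.trans le_sup_left) inf_le_right) (le_inf le_sup_right hZK)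

theorem frc_normalizer_sup {H : Type*} [Group H] (Q Z : Subgroup H) [hZ : Z.Normal] :
    Subgroup.normalizer (Q : Set H) ≤ Subgroup.normalizer ((Q ⊔ Z : Subgroup H) : Set H) := by
  have key : ∀ g ∈ Subgroup.normalizer (Q : Set H), ∀ x ∈ Q ⊔ Z, g * x * g⁻¹ ∈ Q ⊔ Z := by
    intro g hg x hx
    obtain ⟨q, hq, z, hz, rfl⟩ := Subgroup.mem_sup_of_normal_right.mp hx
    have h1 : g * q * g⁻¹ ∈ Q := (Subgroup.mem_normalizer_iff.mp hg q).mp hq
    have h2 : g * z * g⁻¹ ∈ Z := hZ.conj_mem z hz g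
    have e : g * (q * z) * g⁻¹ = (g * q * g⁻¹) * (g * z * g⁻¹) := by group
    rw [e]
    exact Subgroup.mul_mem _ (Subgroup.mem_sup_left h1) (Subgroup.mem_sup_right h2)
  intro g hg
  rw [Subgroup.mem_normalizer_iff]
  intro x
  constructor
  · exact key g hg x
  · intro hx
    have := key g⁻¹ (Subgroup.inv_mem _ hg) _ hx
    have e : g⁻¹ * (g * x * g⁻¹) * g⁻¹⁻¹ = x := by group
    rwa [e] at this

theorem frc_not_dvd_relIndex_sylow {G : Type*} [Group G] [Finite G] (p : ℕ) [Fact p.Prime]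
    (S : Sylow p G) (D : Subgroup G) [D.Normal] :
    ¬ p ∣ ((S : Subgroup G) ⊓ D).relIndex D := by
  rw [Subgroup.inf_relIndex_right]
  intro h
  have hC : D.relIndex ((S : Subgroup G) ⊔ D) * ((S : Subgroup G) ⊔ D).index = D.index :=
    Subgroup.relIndex_mul_index le_sup_right
  have hA : ((S : Subgroup G) ⊓ D).relIndex D * D.index = ((S : Subgroup G) ⊓ D).index :=
    Subgroup.relIndex_mul_index inf_le_right
  have hB : ((S : Subgroup G) ⊓ D).relIndex (S : Subgroup G) * (S : Subgroup G).index =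
      ((S : Subgroup G) ⊓ D).index := Subgroup.relIndex_mul_index inf_le_left
  rw [Subgroup.inf_relIndex_right] at hA
  rw [Subgroup.inf_relIndex_left, ← Subgroup.relIndex_sup_right (S : Subgroup G) D] at hB
  -- (S.relIndex D) * D.index = D.relIndex (S ⊔ D) * S.index
  have h1 : (S : Subgroup G).relIndex D * (D.relIndex ((S : Subgroup G) ⊔ D) *
      ((S : Subgroup G) ⊔ D).index) = D.relIndex ((S : Subgroup G) ⊔ D) * (S : Subgroup G).index := by
    rw [hC, hA, hB]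
  have hne : D.relIndex ((S : Subgroup G) ⊔ D) ≠ 0 := by
    unfold Subgroup.relIndex
    exact Subgroup.index_ne_zero_of_finite
  have h2 : (S : Subgroup G).relIndex D * ((S : Subgroup G) ⊔ D).index = (S : Subgroup G).index := by
    apply Nat.eq_of_mul_eq_mul_left (Nat.pos_of_ne_zero hne)
    rw [← h1]
    ring
  exact S.not_dvd_index (h2 ▸ Dvd.dvd.mul_right h _)

theorem frc_frattini_inf {G : Type*} [Group G] [Finite G] (p : ℕ) [Fact p.Prime] (S : Sylow p G)
    (D : Subgroup G) [D.Normal] :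
    Subgroup.normalizer (((S : Subgroup G) ⊓ D : Subgroup G) : Set G) ⊔ D = ⊤ := by
  have hp1 : IsPGroup p ↥((((S : Subgroup G) ⊓ D).subgroupOf D)) :=
    (S.isPGroup'.to_le inf_le_left).comap_of_injective _ (Subgroup.subtype_injective _)
  have hp2 : ¬ p ∣ (((S : Subgroup G) ⊓ D).subgroupOf D).index :=
    frc_not_dvd_relIndex_sylow p S D
  have := Sylow.normalizer_sup_eq_top (hp1.toSylow hp2)
  rw [IsPGroup.toSylow_coe, Subgroup.map_subgroupOf_eq_of_le inf_le_right] at this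
  exact this

end

section

/-- arithmetic core: a divisor of a prime power dividing a number prime to `p` is `1` -/
theorem frc_dvd_one {p d r c : ℕ} (hp : p.Prime) {j : ℕ} (hr : r = p ^ j) (hd : d ∣ r) (hdc : d ∣ c)
    (hc : ¬ p ∣ c) : d = 1 := by
  rw [hr] at hd
  obtain ⟨i, -, rfl⟩ := (Nat.dvd_prime_pow hp).mp hd
  rcases Nat.eq_zero_or_pos i with h0 | h0
  · rw [h0, pow_zero]
  · exfalso
    apply hc
    exact dvd_trans (dvd_pow_self p h0.ne') hdc

/-- The group-theoretic construction of the complement. -/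
theorem frc_complement {H : Type*} [Group H] [Finite H] (p : ℕ) [hpF : Fact p.Prime]
    (K Z : Subgroup H) [hK : K.Normal] [hZ : Z.Normal] (hZK : Z ≤ K) (S₀ : Sylow p H)
    (Stab : Subgroup H)
    (h1 : ∀ n ∈ Subgroup.normalizer
        (((((S₀ : Subgroup H) ⊔ Z) ⊓ K : Subgroup H)) : Set H),
      ∃ s ∈ (S₀ : Subgroup H) ⊔ Z, s⁻¹ * n ∈ Stab)
    (h2 : ∀ s ∈ (S₀ : Subgroup H) ⊔ Z, s ∈ Stab → s ∈ K)
    (h3 : ((S₀ : Subgroup H) ⊔ Z) ⊓ K ≤ Stab) :
    ∃ M : Subgroup (H ⧸ K), M.index = p ^ (Nat.card (H ⧸ K)).factorization p := by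
  classical
  have hp := hpF.out
  set S : Subgroup H := (S₀ : Subgroup H) ⊔ Z with hS
  set L : Subgroup H := S ⊓ K with hL
  set N : Subgroup H := Subgroup.normalizer (L : Set H) with hN
  set W : Subgroup H := K ⊓ N with hW
  set A : Subgroup H := Stab ⊓ N with hA
  have hLS : L ≤ S := inf_le_left
  have hLK : L ≤ K := inf_le_right
  have hLN : L ≤ N := Subgroup.le_normalizer
  have hZL : Z ≤ L := le_inf le_sup_right hZK
  -- S ≤ N
  have hSN : S ≤ N := by
    intro s hs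
    rw [hN, Subgroup.mem_normalizer_iff]
    intro x
    constructor
    · intro hx
      obtain ⟨hx1, hx2⟩ := Subgroup.mem_inf.mp hx
      exact Subgroup.mem_inf.mpr ⟨S.mul_mem (S.mul_mem hs hx1) (S.inv_mem hs), hK.conj_mem x hx2 s⟩
    · intro hx
      obtain ⟨hx1, hx2⟩ := Subgroup.mem_inf.mp hx
      refine Subgroup.mem_inf.mpr ⟨?_, ?_⟩
      · have := S.mul_mem (S.mul_mem (S.inv_mem hs) hx1) hs
        have e : s⁻¹ * (s * x * s⁻¹) * s = x := by group
        rwa [e] at this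
      · have := hK.conj_mem _ hx2 s⁻¹
        have e : s⁻¹ * (s * x * s⁻¹) * s⁻¹⁻¹ = x := by group
        rwa [e] at this
  -- Frattini
  have hfrat : N ⊔ K = ⊤ := by
    have h := frc_frattini_inf p S₀ K
    have hle : Subgroup.normalizer ((((S₀ : Subgroup H) ⊓ K : Subgroup H)) : Set H) ≤ N := by
      rw [hN, hL, hS, frc_dedekind (S₀ : Subgroup H) Z K hZK]
      exact frc_normalizer_sup _ Z
    rw [eq_top_iff, ← h]
    exact sup_le_sup_right hle K
  -- the product decomposition N = S * A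
  have hAN : A ≤ N := inf_le_right
  have hSA : S ⊓ A = L := by
    apply le_antisymm
    · intro x hx
      obtain ⟨hx1, hx2⟩ := Subgroup.mem_inf.mp hx
      obtain ⟨hx3, -⟩ := Subgroup.mem_inf.mp hx2
      exact Subgroup.mem_inf.mpr ⟨hx1, h2 x hx1 hx3⟩
    · exact le_inf hLS (le_inf h3 hLN)
  have hset : ((S : Set H) * (A : Set H) : Set H) = (N : Set H) := by
    ext n
    constructor
    · rintro ⟨s, hs, a, ha, rfl⟩
      exact N.mul_mem (hSN hs) (hAN ha)
    · intro hn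
      obtain ⟨s, hs, hsn⟩ := h1 n hn
      refine ⟨s, hs, s⁻¹ * n, ?_, by group⟩
      exact Subgroup.mem_inf.mpr ⟨hsn, N.mul_mem (N.inv_mem (hSN hs)) hn⟩
  have hcard1 : Nat.card N * Nat.card L = Nat.card S * Nat.card A := by
    have := Cfsg.Agent.Lib.Helper5.card_mul_set_mul_card_inf S A
    rw [hset, hSA] at this
    exact this
  set r := L.relIndex S with hr
  have hcardS : Nat.card L * r = Nat.card S := Cfsg.Agent.Lib.Helper5.card_mul_relIndex_of_le hLS
  have hLpos : 0 < Nat.card L := Nat.card_pos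
  have hApos : 0 < Nat.card A := Nat.card_pos
  have hcardN : Nat.card N = r * Nat.card A := by
    apply Nat.eq_of_mul_eq_mul_right hLpos
    rw [hcard1, ← hcardS]
    ring
  -- r is a power of p
  obtain ⟨j, hj⟩ : ∃ j, r = p ^ j := by
    have h4 : r ∣ Z.relIndex S := Subgroup.relIndex_dvd_of_le_left S hZL
    have h5 : Z.relIndex S = Z.relIndex (S₀ : Subgroup H) := by
      rw [hS]
      exact Subgroup.relIndex_sup_right _ _
    have h6 : Z.relIndex (S₀ : Subgroup H) ∣ Nat.card (S₀ : Subgroup H) :=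
      Subgroup.relIndex_dvd_card _ _
    obtain ⟨k, hk⟩ := IsPGroup.iff_card.mp S₀.isPGroup'
    rw [h5] at h4
    have h7 : r ∣ p ^ k := by
      rw [← hk]
      exact dvd_trans h4 h6
    obtain ⟨j, -, hj⟩ := (Nat.dvd_prime_pow hp).mp h7
    exact ⟨j, hj⟩
  -- p ∤ [K : L]
  have hpKL : ¬ p ∣ L.relIndex K := by
    intro h
    apply frc_not_dvd_relIndex_sylow p S₀ K
    have hle : (S₀ : Subgroup H) ⊓ K ≤ L := le_inf (inf_le_left.trans le_sup_left) inf_le_right
    exact dvd_trans h (Subgroup.relIndex_dvd_of_le_left K hle)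
  -- W ≤ A
  have hWK : W ≤ K := inf_le_left
  have hWN : W ≤ N := inf_le_right
  have hLW : L ≤ W := le_inf hLK hLN
  have hLA : L ≤ A := le_inf h3 hLN
  have hAnW : A ≤ Subgroup.normalizer (W : Set H) := by
    intro g hg
    have hgN : g ∈ N := hAN hg
    rw [Subgroup.mem_normalizer_iff]
    intro x
    constructor
    · intro hx
      obtain ⟨hx1, hx2⟩ := Subgroup.mem_inf.mp hx
      exact Subgroup.mem_inf.mpr ⟨hK.conj_mem x hx1 g, N.mul_mem (N.mul_mem hgN hx2) (N.inv_mem hgN)⟩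
    · intro hx
      obtain ⟨hx1, hx2⟩ := Subgroup.mem_inf.mp hx
      refine Subgroup.mem_inf.mpr ⟨?_, ?_⟩
      · have := hK.conj_mem _ hx1 g⁻¹
        have e : g⁻¹ * (g * x * g⁻¹) * g⁻¹⁻¹ = x := by group
        rwa [e] at this
      · have := N.mul_mem (N.mul_mem (N.inv_mem hgN) hx2) hgN
        have e : g⁻¹ * (g * x * g⁻¹) * g = x := by group
        rwa [e] at this
  have hWA : W ≤ A := by
    have hprod := Cfsg.Agent.Lib.Helper18.E8C.card_sup_mul_card_inf hAnW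
    have hsupN : A ⊔ W ≤ N := sup_le hAN hWN
    have hd1 : Nat.card A ∣ Nat.card (A ⊔ W : Subgroup H) := Subgroup.card_dvd_of_le le_sup_left
    obtain ⟨d, hd⟩ := hd1
    have hd2 : Nat.card (A ⊔ W : Subgroup H) ∣ Nat.card N := Subgroup.card_dvd_of_le hsupN
    have hdr : d ∣ r := by
      rw [hd, hcardN, mul_comm r] at hd2
      exact (Nat.mul_dvd_mul_iff_left hApos).mp hd2
    have hi1 : Nat.card L ∣ Nat.card (A ⊓ W : Subgroup H) :=
      Subgroup.card_dvd_of_le (le_inf hLA hLW)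
    obtain ⟨i', hi'⟩ := hi1
    have hcW : Nat.card L * L.relIndex W = Nat.card W :=
      Cfsg.Agent.Lib.Helper5.card_mul_relIndex_of_le hLW
    have hdc : d ∣ L.relIndex W := by
      rw [hd, hi', ← hcW] at hprod
      have h5 : Nat.card A * Nat.card L * (d * i') = Nat.card A * Nat.card L * L.relIndex W := by
        have e1 : Nat.card A * Nat.card L * (d * i') = Nat.card A * d * (Nat.card L * i') := by ring
        have e2 : Nat.card A * Nat.card L * L.relIndex W =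
            Nat.card A * (Nat.card L * L.relIndex W) := by ring
        rw [e1, e2]
        exact hprod
      have h6 : d * i' = L.relIndex W :=
        Nat.eq_of_mul_eq_mul_left (Nat.mul_pos hApos hLpos) h5
      exact ⟨i', h6.symm⟩
    have hc : ¬ p ∣ L.relIndex W := by
      intro h
      apply hpKL
      rw [← Subgroup.relIndex_mul_relIndex L W K hLW hWK]
      exact Dvd.dvd.mul_right h _
    have hd1 : d = 1 := frc_dvd_one hp hj hdr hdc hc
    rw [hd1, mul_one] at hd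
    have hEq : A = A ⊔ W := Subgroup.eq_of_le_of_card_ge le_sup_left hd.le
    rw [hEq]
    exact le_sup_right
  -- index computations
  have hKidx : K.index = K.relIndex N := by
    have h4 := Subgroup.relIndex_sup_right N K
    rw [hfrat, Subgroup.relIndex_top_right] at h4
    exact h4
  have hKN : K.relIndex N = W.relIndex N := by
    rw [hW, Subgroup.inf_relIndex_right]
  have hWAN : W.relIndex A * A.relIndex N = W.relIndex N :=
    Subgroup.relIndex_mul_relIndex W A N hWA hAN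
  have hArel : A.relIndex N = r := by
    have h4 := Cfsg.Agent.Lib.Helper5.card_mul_relIndex_of_le hAN
    rw [hcardN, mul_comm r] at h4
    exact Nat.eq_of_mul_eq_mul_left hApos h4
  set M : Subgroup (H ⧸ K) := A.map (QuotientGroup.mk' K) with hM
  have hMcard : Nat.card M = W.relIndex A := by
    have h4 := Subgroup.relIndex_ker (QuotientGroup.mk' K) (K := A)
    rw [QuotientGroup.ker_mk'] at h4
    rw [hM, ← h4]
    have h5 : K ⊓ A = W := by
      apply le_antisymm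
      · exact le_inf inf_le_left (inf_le_right.trans hAN)
      · exact le_inf hWK hWA
    rw [← h5, Subgroup.inf_relIndex_right]
  have hMidx : M.index = r := by
    have h4 := Subgroup.card_mul_index M
    rw [← Subgroup.index_eq_card K, hKidx, hKN, ← hWAN, hArel, hMcard] at h4
    have hpos : 0 < W.relIndex A := by
      rw [← hMcard]
      exact Nat.card_pos
    exact Nat.eq_of_mul_eq_mul_left hpos h4
  -- r is the full p-part
  refine ⟨M, ?_⟩
  rw [hMidx, ← Subgroup.index_eq_card K]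
  have h4 : K.relIndex (S ⊔ K) * (S ⊔ K).index = K.index :=
    Subgroup.relIndex_mul_index le_sup_right
  have h5 : K.relIndex (S ⊔ K) = r := by
    rw [Subgroup.relIndex_sup_right, hr, hL, Subgroup.inf_relIndex_left]
  have h6 : ¬ p ∣ (S ⊔ K).index := by
    intro h
    apply S₀.not_dvd_index
    have hle : (S₀ : Subgroup H) ≤ S ⊔ K := le_sup_left.trans le_sup_left
    exact dvd_trans h (Subgroup.index_dvd_of_le hle)
  rw [← h4, h5, hj]
  have hne1 : p ^ j ≠ 0 := pow_ne_zero _ hp.ne_zero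
  have hne2 : (S ⊔ K).index ≠ 0 := Subgroup.index_ne_zero_of_finite
  rw [Nat.factorization_mul hne1 hne2, Nat.Prime.factorization_pow hp]
  simp only [Finsupp.coe_add, Pi.add_apply, Finsupp.single_eq_same]
  rw [Nat.factorization_eq_zero_of_not_dvd h6, add_zero]

end

section

/-- the stabilizer of a function under conjugation -/
def frc_fstab {H : Type*} [Group H] (F : H → ℂ) : Subgroup H where
  carrier := {g | ∀ x, F (g⁻¹ * x * g) = F x}
  one_mem' := by
    intro x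
    simp
  mul_mem' := by
    intro a b ha hb x
    have h1 := hb (a⁻¹ * x * a)
    rw [ha x] at h1
    rw [← h1]
    congr 1
    group
  inv_mem' := by
    intro a ha x
    have h1 := ha (a⁻¹⁻¹ * x * a⁻¹)
    rw [← h1]
    congr 1
    group

theorem frc_mem_fstab {H : Type*} [Group H] (F : H → ℂ) (g : H) :
    g ∈ frc_fstab F ↔ ∀ x, F (g⁻¹ * x * g) = F x := Iff.rfl

/-- conjugation by a normalizing element as an automorphism of `B ∩ S` viewed inside `S` -/
def frc_conjEquiv {H : Type*} [Group H] (S B : Subgroup H) (n : H)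
    (h1 : ∀ x ∈ S, x ∈ B → n⁻¹ * x * n ∈ S ∧ n⁻¹ * x * n ∈ B)
    (h2 : ∀ x ∈ S, x ∈ B → n * x * n⁻¹ ∈ S ∧ n * x * n⁻¹ ∈ B) :
    ↥(B.subgroupOf S) ≃* ↥(B.subgroupOf S) where
  toFun x := ⟨⟨n⁻¹ * ((x : S) : H) * n, (h1 _ x.1.2 x.2).1⟩, (h1 _ x.1.2 x.2).2⟩
  invFun x := ⟨⟨n * ((x : S) : H) * n⁻¹, (h2 _ x.1.2 x.2).1⟩, (h2 _ x.1.2 x.2).2⟩
  left_inv := by
    intro x
    apply Subtype.ext
    apply Subtype.ext
    show n * (n⁻¹ * ((x : S) : H) * n) * n⁻¹ = ((x : S) : H)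
    group
  right_inv := by
    intro x
    apply Subtype.ext
    apply Subtype.ext
    show n⁻¹ * (n * ((x : S) : H) * n⁻¹) * n = ((x : S) : H)
    group
  map_mul' := by
    intro x y
    apply Subtype.ext
    apply Subtype.ext
    show n⁻¹ * (((x : S) : H) * ((y : S) : H)) * n =
      (n⁻¹ * ((x : S) : H) * n) * (n⁻¹ * ((y : S) : H) * n)
    group

theorem frc_conjEquiv_coe {H : Type*} [Group H] (S B : Subgroup H) (n : H)
    (h1 : ∀ x ∈ S, x ∈ B → n⁻¹ * x * n ∈ S ∧ n⁻¹ * x * n ∈ B)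
    (h2 : ∀ x ∈ S, x ∈ B → n * x * n⁻¹ ∈ S ∧ n * x * n⁻¹ ∈ B) (x : ↥(B.subgroupOf S)) :
    (((frc_conjEquiv S B n h1 h2 x : ↥(B.subgroupOf S)) : S) : H) = n⁻¹ * ((x : S) : H) * n := rfl

/-- the extension by zero to `H` of a function on `K ∩ S` (viewed inside `S`) -/
noncomputable def frc_ext {H : Type*} [Group H] (S K : Subgroup H)
    (φ : ↥(K.subgroupOf S) → ℂ) : H → ℂ := by
  classical
  exact fun h => if hh : h ∈ S ∧ h ∈ K then φ ⟨⟨h, hh.1⟩, hh.2⟩ else 0

theorem frc_ext_coe {H : Type*} [Group H] (S K : Subgroup H)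
    (φ : ↥(K.subgroupOf S) → ℂ) (x : ↥(K.subgroupOf S)) :
    frc_ext S K φ ((x : S) : H) = φ x := by
  classical
  unfold frc_ext
  have hh : ((x : S) : H) ∈ S ∧ ((x : S) : H) ∈ K := ⟨x.1.2, x.2⟩
  rw [dif_pos hh]

theorem frc_ext_mem {H : Type*} [Group H] (S K : Subgroup H)
    (φ : ↥(K.subgroupOf S) → ℂ) (h : H) (h1 : h ∈ S) (h2 : h ∈ K) :
    frc_ext S K φ h = φ ⟨⟨h, h1⟩, h2⟩ :=
  frc_ext_coe S K φ ⟨⟨h, h1⟩, h2⟩

theorem frc_ext_not_mem {H : Type*} [Group H] (S K : Subgroup H)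
    (φ : ↥(K.subgroupOf S) → ℂ) (h : H) (hh : ¬ (h ∈ S ∧ h ∈ K)) :
    frc_ext S K φ h = 0 := by
  classical
  unfold frc_ext
  rw [dif_neg hh]

theorem frc_le_normalizer {H : Type*} [Group H] (S K : Subgroup H) [hK : K.Normal] :
    S ≤ Subgroup.normalizer ((S ⊓ K : Subgroup H) : Set H) := by
  intro s hs
  rw [Subgroup.mem_normalizer_iff]
  intro x
  constructor
  · intro hx
    obtain ⟨hx1, hx2⟩ := Subgroup.mem_inf.mp hx
    exact Subgroup.mem_inf.mpr ⟨S.mul_mem (S.mul_mem hs hx1) (S.inv_mem hs), hK.conj_mem x hx2 s⟩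
  · intro hx
    obtain ⟨hx1, hx2⟩ := Subgroup.mem_inf.mp hx
    refine Subgroup.mem_inf.mpr ⟨?_, ?_⟩
    · have := S.mul_mem (S.mul_mem (S.inv_mem hs) hx1) hs
      have e : s⁻¹ * (s * x * s⁻¹) * s = x := by group
      rwa [e] at this
    · have := hK.conj_mem _ hx2 s⁻¹
      have e : s⁻¹ * (s * x * s⁻¹) * s⁻¹⁻¹ = x := by group
      rwa [e] at this

end

section

/-- From the character-theoretic data on `S = S₀ Z` to the complement in `H / K`. -/
theorem frc_core {H : Type*} [Group H] [Fintype H] (p : ℕ) [hpF : Fact p.Prime]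
    (K Z : Subgroup H) [hK : K.Normal] [hZ : Z.Normal] (hZK : Z ≤ K) (S₀ : Sylow p H)
    (S : Subgroup H) (hS : S = (S₀ : Subgroup H) ⊔ Z)
    [Fintype Z] [Fintype (Z.subgroupOf S)] [Fintype (K.subgroupOf S)]
    (hZS : Z ≤ S) (hZL : Z.subgroupOf S ≤ K.subgroupOf S)
    (θ : Z → ℂ) (hθinv : ∀ (x : H) (z : Z), θ ⟨x * z * x⁻¹, hZ.conj_mem z z.2 x⟩ = θ z)
    (φ : ↥(K.subgroupOf S) → ℂ) (hφ : Cfsg.IsIrrCharacter ↥(K.subgroupOf S) φ)
    (htrans : ∀ φ' : ↥(K.subgroupOf S) → ℂ, Cfsg.IsIrrCharacter ↥(K.subgroupOf S) φ' →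
      Cfsg.classInner (fun z : Z.subgroupOf S => φ' ⟨z, hZL z.2⟩)
        (fun z : Z.subgroupOf S => θ (Subgroup.subgroupOfEquivOfLe hZS z)) =
      Cfsg.classInner (fun z : Z.subgroupOf S => φ ⟨z, hZL z.2⟩)
        (fun z : Z.subgroupOf S => θ (Subgroup.subgroupOfEquivOfLe hZS z)) →
      ∃ g : S, φ' = cj (K.subgroupOf S) φ g)
    (hstab : cjStab (K.subgroupOf S) φ ≤ K.subgroupOf S) :
    ∃ M : Subgroup (H ⧸ K), M.index = p ^ (Nat.card (H ⧸ K)).factorization p := by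
  classical
  have hcomp := frc_complement p K Z hZK S₀ (frc_fstab (frc_ext S K φ))
  rw [← hS] at hcomp
  apply hcomp
  · -- transitivity
    intro n hn
    have hn1 : ∀ x ∈ S, x ∈ K → n⁻¹ * x * n ∈ S ∧ n⁻¹ * x * n ∈ K := by
      intro x hx1 hx2
      have := (Subgroup.mem_normalizer_iff''.mp hn x).mp (Subgroup.mem_inf.mpr ⟨hx1, hx2⟩)
      exact Subgroup.mem_inf.mp this
    have hn2 : ∀ x ∈ S, x ∈ K → n * x * n⁻¹ ∈ S ∧ n * x * n⁻¹ ∈ K := by
      intro x hx1 hx2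
      have := (Subgroup.mem_normalizer_iff.mp hn x).mp (Subgroup.mem_inf.mpr ⟨hx1, hx2⟩)
      exact Subgroup.mem_inf.mp this
    have hz1 : ∀ x ∈ S, x ∈ Z → n⁻¹ * x * n ∈ S ∧ n⁻¹ * x * n ∈ Z := by
      intro x hx1 hx2
      refine ⟨(hn1 x hx1 (hZK hx2)).1, ?_⟩
      have := hZ.conj_mem x hx2 n⁻¹
      rwa [inv_inv] at this
    have hz2 : ∀ x ∈ S, x ∈ Z → n * x * n⁻¹ ∈ S ∧ n * x * n⁻¹ ∈ Z := by
      intro x hx1 hx2
      exact ⟨(hn2 x hx1 (hZK hx2)).1, hZ.conj_mem x hx2 n⟩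
    let c := frc_conjEquiv S K n hn1 hn2
    let d := frc_conjEquiv S Z n hz1 hz2
    have hφ'' : Cfsg.IsIrrCharacter ↥(K.subgroupOf S) (fun x' => φ (c x')) :=
      h7_isIrr_comp_equiv c φ hφ
    have hover'' : Cfsg.classInner (fun z : Z.subgroupOf S => (fun x' => φ (c x')) ⟨z, hZL z.2⟩)
        (fun z : Z.subgroupOf S => θ (Subgroup.subgroupOfEquivOfLe hZS z)) =
        Cfsg.classInner (fun z : Z.subgroupOf S => φ ⟨z, hZL z.2⟩)
        (fun z : Z.subgroupOf S => θ (Subgroup.subgroupOfEquivOfLe hZS z)) := by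
      rw [← h7_classInner_comp_equiv d (fun w : Z.subgroupOf S => φ ⟨w, hZL w.2⟩)
        (fun z : Z.subgroupOf S => θ (Subgroup.subgroupOfEquivOfLe hZS z))]
      have e1 : (fun z : Z.subgroupOf S => (fun x' => φ (c x')) ⟨z, hZL z.2⟩) =
          fun a => (fun w : Z.subgroupOf S => φ ⟨w, hZL w.2⟩) (d a) := by
        funext z
        show φ (c ⟨z, hZL z.2⟩) = φ ⟨d z, hZL (d z).2⟩
        congr 1
      have e2 : (fun z : Z.subgroupOf S => θ (Subgroup.subgroupOfEquivOfLe hZS z)) =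
          fun a => (fun z : Z.subgroupOf S => θ (Subgroup.subgroupOfEquivOfLe hZS z)) (d a) := by
        funext z
        show θ (Subgroup.subgroupOfEquivOfLe hZS z) = θ (Subgroup.subgroupOfEquivOfLe hZS (d z))
        have h4 := hθinv n⁻¹ (Subgroup.subgroupOfEquivOfLe hZS z)
        rw [← h4]
        congr 1
        apply Subtype.ext
        show n⁻¹ * ((z : S) : H) * n⁻¹⁻¹ = n⁻¹ * ((z : S) : H) * n
        rw [inv_inv]
      rw [e1]
      conv_lhs => rw [e2]
    obtain ⟨g, hg⟩ := htrans _ hφ'' hover''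
    have key : ∀ y : H, frc_ext S K φ (n⁻¹ * y * n) =
        frc_ext S K φ ((g : H) * y * (g : H)⁻¹) := by
      intro y
      by_cases hy : y ∈ S ∧ y ∈ K
      · have h4 := congrFun hg ⟨⟨y, hy.1⟩, hy.2⟩
        rw [cj_apply] at h4
        have h5 := frc_ext_coe S K φ (c ⟨⟨y, hy.1⟩, hy.2⟩)
        have h6 := frc_ext_coe S K φ ⟨g * (⟨⟨y, hy.1⟩, hy.2⟩ : ↥(K.subgroupOf S)) * g⁻¹,
          (inferInstance : (K.subgroupOf S).Normal).conj_mem _
            (⟨⟨y, hy.1⟩, hy.2⟩ : ↥(K.subgroupOf S)).2 g⟩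
        rw [← h4] at h6
        rw [← h5] at h6
        exact h6.symm
      · rw [frc_ext_not_mem, frc_ext_not_mem]
        · intro h
          apply hy
          constructor
          · have := S.mul_mem (S.mul_mem (S.inv_mem g.2) h.1) g.2
            have e : (g : H)⁻¹ * ((g : H) * y * (g : H)⁻¹) * (g : H) = y := by group
            rwa [e] at this
          · have := hK.conj_mem _ h.2 (g : H)⁻¹
            have e : (g : H)⁻¹ * ((g : H) * y * (g : H)⁻¹) * (g : H)⁻¹⁻¹ = y := by group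
            rwa [e] at this
        · intro h
          apply hy
          have := hn2 _ h.1 h.2
          have e : n * (n⁻¹ * y * n) * n⁻¹ = y := by group
          rwa [e] at this
    refine ⟨((g⁻¹ : S) : H), (g⁻¹ : S).2, ?_⟩
    rw [frc_mem_fstab]
    intro x
    have e : (((g⁻¹ : S) : H)⁻¹ * n)⁻¹ * x * (((g⁻¹ : S) : H)⁻¹ * n) =
        n⁻¹ * ((g : H)⁻¹ * x * (g : H)) * n := by
      simp only [Subgroup.coe_inv, inv_inv, mul_inv_rev]
      group
    rw [e, key]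
    congr 1
    group
  · -- stabilizer in S
    intro s hs hsF
    have hmem : (⟨s, hs⟩ : S)⁻¹ ∈ cjStab (K.subgroupOf S) φ := by
      rw [mem_cjStab]
      funext x'
      rw [cj_apply]
      have h4 := (frc_mem_fstab _ s).mp hsF ((x' : S) : H)
      rw [frc_ext_coe] at h4
      rw [← h4]
      have h5 := frc_ext_coe S K φ ⟨(⟨s, hs⟩ : S)⁻¹ * (x' : S) * (⟨s, hs⟩ : S)⁻¹⁻¹,
          (inferInstance : (K.subgroupOf S).Normal).conj_mem _ x'.2 _⟩
      rw [← h5]
      congr 1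
      simp
    have h6 := hstab hmem
    have h7 : ((⟨s, hs⟩ : S)⁻¹ : S).1 ∈ K := h6
    have h8 : s⁻¹ ∈ K := h7
    have := K.inv_mem h8
    rwa [inv_inv] at this
  · -- L fixes
    intro l hl
    obtain ⟨hl1, hl2⟩ := Subgroup.mem_inf.mp hl
    rw [frc_mem_fstab]
    intro x
    by_cases hx : x ∈ S ∧ x ∈ K
    · have hx' : l⁻¹ * x * l ∈ S ∧ l⁻¹ * x * l ∈ K :=
        ⟨S.mul_mem (S.mul_mem (S.inv_mem hl1) hx.1) hl1,
          K.mul_mem (K.mul_mem (K.inv_mem hl2) hx.2) hl2⟩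
      rw [frc_ext_mem S K φ _ hx'.1 hx'.2, frc_ext_mem S K φ _ hx.1 hx.2]
      have hcl := h7_irr_isClassFunction hφ
      have h4 := hcl ⟨⟨x, hx.1⟩, hx.2⟩ (⟨⟨l, hl1⟩, hl2⟩ : ↥(K.subgroupOf S))⁻¹
      rw [← h4]
      congr 1
      apply Subtype.ext
      apply Subtype.ext
      simp
    · rw [frc_ext_not_mem S K φ _ hx, frc_ext_not_mem]
      intro h
      apply hx
      constructor
      · have := S.mul_mem (S.mul_mem hl1 h.1) (S.inv_mem hl1)
        have e : l * (l⁻¹ * x * l) * l⁻¹ = x := by group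
        rwa [e] at this
      · have := K.mul_mem (K.mul_mem hl2 h.2) (K.inv_mem hl2)
        have e : l * (l⁻¹ * x * l) * l⁻¹ = x := by group
        rwa [e] at this

end

section

/-- a character lying over `θ` has an irreducible constituent lying over `θ` -/
theorem frc_exists_over {L Z : Type*} [Group L] [Group Z] [Fintype L] [Fintype Z] (f : Z →* L)
    {Ψ : L → ℂ} (hΨ : Cfsg.IsCharacter L Ψ) (θ : Z → ℂ)
    (h : Cfsg.classInner (fun z => Ψ (f z)) θ ≠ 0) :
    ∃ φ : L → ℂ, Cfsg.IsIrrCharacter L φ ∧ Cfsg.classInner Ψ φ ≠ 0 ∧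
      Cfsg.classInner (fun z => φ (f z)) θ ≠ 0 := by
  classical
  haveI : Fintype (Cfsg.IrrCharacter L) := Fintype.ofFinite _
  obtain ⟨m, hm, hexp⟩ := isCharacter_expansion hΨ
  by_contra hno
  push Not at hno
  apply h
  have h1 : (fun z => Ψ (f z)) =
      ∑ φ : Cfsg.IrrCharacter L, (m φ : ℂ) • (fun z => (φ : L → ℂ) (f z)) := by
    funext z
    have := congrFun hexp (f z)
    simp only [Finset.sum_apply, Pi.smul_apply, smul_eq_mul] at this ⊢
    exact this
  rw [h1, classInner_sum_left]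
  apply Finset.sum_eq_zero
  intro φ _
  rw [classInner_smul_left]
  by_cases h0 : m φ = 0
  · rw [h0]
    simp
  · have h2 : Cfsg.classInner Ψ (φ : L → ℂ) ≠ 0 := by
      rw [hm φ]
      exact_mod_cast h0
    rw [hno (φ : L → ℂ) φ.2 h2, mul_zero]

/-- a subgroup whose index is the full `p`-part of the order is a complement of every Sylow
`p`-subgroup -/
theorem frc_isComplement'_of_index {G : Type*} [Group G] [Finite G] (p : ℕ) [hpF : Fact p.Prime]
    (M : Subgroup G) (hM : M.index = p ^ (Nat.card G).factorization p) (P : Sylow p G) :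
    M.IsComplement' (P : Subgroup G) := by
  have hp := hpF.out
  have hP : Nat.card (P : Subgroup G) = p ^ (Nat.card G).factorization p :=
    Sylow.card_eq_multiplicity P
  have h1 := Subgroup.card_mul_index M
  rw [hM] at h1
  apply Subgroup.isComplement'_of_coprime
  · rw [hP]
    exact h1
  · rw [hP]
    apply Nat.Coprime.pow_right
    rw [Nat.coprime_comm]
    apply (Nat.Prime.coprime_iff_not_dvd hp).mpr
    intro hdvd
    have hG : Nat.card G ≠ 0 := Nat.card_pos.ne'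
    apply Nat.pow_succ_factorization_not_dvd hG hp
    have h2 : p ^ ((Nat.card G).factorization p + 1) ∣
        Nat.card M * p ^ (Nat.card G).factorization p := by
      rw [pow_succ, mul_comm]
      exact Nat.mul_dvd_mul hdvd (dvd_refl _)
    rw [h1] at h2
    exact h2

end

section

theorem frc_sylow_sup_index {H : Type*} [Group H] [Finite H] (p : ℕ) [hpF : Fact p.Prime]
    (S₀ : Sylow p H) (Z : Subgroup H) [hZ : Z.Normal] :
    (∃ n, Z.relIndex ((S₀ : Subgroup H) ⊔ Z) = p ^ n) ∧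
      ¬ p ∣ ((S₀ : Subgroup H) ⊔ Z).index := by
  have hp := hpF.out
  constructor
  · rw [Subgroup.relIndex_sup_right]
    have h6 : Z.relIndex (S₀ : Subgroup H) ∣ Nat.card (S₀ : Subgroup H) :=
      Subgroup.relIndex_dvd_card _ _
    obtain ⟨k, hk⟩ := IsPGroup.iff_card.mp S₀.isPGroup'
    rw [hk] at h6
    obtain ⟨j, -, hj⟩ := (Nat.dvd_prime_pow hp).mp h6
    exact ⟨j, hj⟩
  · intro h
    apply S₀.not_dvd_index
    exact dvd_trans h (Subgroup.index_dvd_of_le le_sup_left)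

/-- The main reduction: it suffices to show that the stabilizer in `S = S₀ Z` of an irreducible
character of `S ∩ K` over `θ` is `S ∩ K`. -/
theorem frc_main {H : Type*} [Group H] [Fintype H] (Z : Subgroup H) [hZ : Z.Normal] [Fintype Z]
    (χ : H → ℂ) (hχ : Cfsg.IsIrrCharacter H χ) (θ : Z → ℂ) (hθ : Cfsg.IsIrrCharacter Z θ)
    (e : ℕ) (he : e ^ 2 = Z.index) (hres : ∀ z : Z, χ z = (e : ℂ) * θ z)
    (K : Subgroup H) [hK : K.Normal] (hZK : Z ≤ K) (p : ℕ) [hpF : Fact p.Prime]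
    (S₀ : Sylow p H) (S : Subgroup H) (hS : S = (S₀ : Subgroup H) ⊔ Z)
    [Fintype S] [Fintype (Z.subgroupOf S)] [Fintype (K.subgroupOf S)]
    (hZS : Z ≤ S) (hZL : Z.subgroupOf S ≤ K.subgroupOf S)
    (hyp : ∀ (ξ : S → ℂ) (a : ℕ) (φ : ↥(K.subgroupOf S) → ℂ), Cfsg.IsIrrCharacter S ξ →
      (fun z : Z.subgroupOf S => ξ z) =
        (a : ℂ) • (fun z : Z.subgroupOf S => θ (Subgroup.subgroupOfEquivOfLe hZS z)) →
      a ^ 2 = (Z.subgroupOf S).index →
      (∀ ψ : S → ℂ, Cfsg.IsIrrCharacter S ψ →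
        Cfsg.classInner (fun z : Z.subgroupOf S => ψ z)
          (fun z : Z.subgroupOf S => θ (Subgroup.subgroupOfEquivOfLe hZS z)) ≠ 0 → ψ = ξ) →
      Cfsg.IsIrrCharacter ↥(K.subgroupOf S) φ →
      Cfsg.classInner (fun z : Z.subgroupOf S => φ ⟨z, hZL z.2⟩)
        (fun z : Z.subgroupOf S => θ (Subgroup.subgroupOfEquivOfLe hZS z)) ≠ 0 →
      cjStab (K.subgroupOf S) φ ≤ K.subgroupOf S) :
    ∃ M : Subgroup (H ⧸ K), M.index = p ^ (Nat.card (H ⧸ K)).factorization p := by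
  classical
  have hp := hpF.out
  obtain ⟨⟨n, hn⟩, hpS⟩ := frc_sylow_sup_index p S₀ Z
  rw [← hS] at hn hpS
  obtain ⟨ξ, a, hξ, hξres, ha, hξθ, huniq⟩ :=
    frc_dj Z S hZS χ hχ θ hθ e he hres p n hp hn hpS
  have hθ' : Cfsg.IsIrrCharacter (Z.subgroupOf S)
      (fun z : Z.subgroupOf S => θ (Subgroup.subgroupOfEquivOfLe hZS z)) :=
    h7_isIrr_comp_equiv (Subgroup.subgroupOfEquivOfLe hZS) θ hθ
  obtain ⟨φ, hφ, -, hφθ⟩ := frc_exists_over (Subgroup.inclusion hZL)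
    (isCharacter_restrict (h7_irr_isCharacter hξ) (K.subgroupOf S))
    (fun z : Z.subgroupOf S => θ (Subgroup.subgroupOfEquivOfLe hZS z)) hξθ
  have hφθ' : Cfsg.classInner (fun z : Z.subgroupOf S => φ ⟨z, hZL z.2⟩)
      (fun z : Z.subgroupOf S => θ (Subgroup.subgroupOfEquivOfLe hZS z)) ≠ 0 := hφθ
  have hstab := hyp ξ a φ hξ hξres ha huniq hφ hφθ'
  apply frc_core p K Z hZK S₀ S hS hZS hZL θ
    (fun x z => frc_theta_inv Z χ hχ θ e he hres x z) φ hφ ?_ hstab
  intro φ' hφ' heq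
  apply frc_trans (Z.subgroupOf S) (K.subgroupOf S) hZL _ hθ' ξ hξ huniq φ hφ hφθ' φ' hφ'
  rw [heq]
  exact hφθ'

end

section

theorem frc_cyclic_quot {H : Type*} [Group H] [Finite H] (p : ℕ) [hpF : Fact p.Prime]
    (K Z : Subgroup H) [hK : K.Normal] [hZ : Z.Normal] (hZK : Z ≤ K) (S₀ : Sylow p H)
    (S : Subgroup H) (hS : S = (S₀ : Subgroup H) ⊔ Z)
    (P : Sylow p (H ⧸ K)) (hcyc : IsCyclic P) : IsCyclic (↥S ⧸ K.subgroupOf S) := by
  have hQ : IsPGroup p ((S₀ : Subgroup H).map (QuotientGroup.mk' K)) := S₀.isPGroup'.map _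
  obtain ⟨P', hP'⟩ := hQ.exists_le_sylow
  haveI : IsCyclic P' :=
    isCyclic_of_surjective (Sylow.equiv P P').toMonoidHom (Sylow.equiv P P').surjective
  let F : ↥S ⧸ K.subgroupOf S →* H ⧸ K :=
    QuotientGroup.map (K.subgroupOf S) K S.subtype (fun x hx => hx)
  have hF : ∀ q, F q ∈ (P' : Subgroup (H ⧸ K)) := by
    intro q
    obtain ⟨x, rfl⟩ := QuotientGroup.mk_surjective q
    have h1 : F (QuotientGroup.mk x) = QuotientGroup.mk (x : H) := rfl
    rw [h1]
    have hx : (x : H) ∈ (S₀ : Subgroup H) ⊔ Z := hS ▸ x.2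
    obtain ⟨s, hs, z, hz, hsz⟩ := Subgroup.mem_sup_of_normal_right.mp hx
    rw [← hsz, QuotientGroup.mk_mul]
    have h2 : (QuotientGroup.mk z : H ⧸ K) = 1 := (QuotientGroup.eq_one_iff z).mpr (hZK hz)
    rw [h2, mul_one]
    apply hP'
    exact Subgroup.mem_map_of_mem (QuotientGroup.mk' K) hs
  let F' : ↥S ⧸ K.subgroupOf S →* (P' : Subgroup (H ⧸ K)) := F.codRestrict _ hF
  have hinj : Function.Injective F' := by
    rw [injective_iff_map_eq_one]
    intro q hq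
    have h0 : F q = 1 := congrArg Subtype.val hq
    obtain ⟨x, rfl⟩ := QuotientGroup.mk_surjective q
    have h1 : F (QuotientGroup.mk x) = QuotientGroup.mk (x : H) := rfl
    rw [h1] at h0
    have h2 : (x : H) ∈ K := (QuotientGroup.eq_one_iff _).mp h0
    exact (QuotientGroup.eq_one_iff x).mpr h2
  exact isCyclic_of_injective F' hinj

/-- S4564 core: complement to a cyclic Sylow subgroup -/
theorem frc_cyclic_complement {H : Type*} [Group H] [Finite H] (Z : Subgroup H) [hZ : Z.Normal]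
    (χ : H → ℂ) (hχ : Cfsg.IsIrrCharacter H χ) (θ : Z → ℂ) (hθ : Cfsg.IsIrrCharacter Z θ)
    (e : ℕ) (he : e ^ 2 = Z.index) (hres : ∀ z : Z, χ z = (e : ℂ) * θ z)
    (K : Subgroup H) [hK : K.Normal] (hZK : Z ≤ K) (p : ℕ) [hpF : Fact p.Prime]
    (P : Sylow p (H ⧸ K)) (hcyc : IsCyclic P) :
    ∃ M : Subgroup (H ⧸ K), M.IsComplement' (P : Subgroup (H ⧸ K)) := by
  classical
  haveI : Fintype H := Fintype.ofFinite _
  haveI : Fintype Z := Fintype.ofFinite _
  obtain ⟨S₀⟩ : Nonempty (Sylow p H) := inferInstance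
  obtain ⟨S, hS⟩ : ∃ S : Subgroup H, S = (S₀ : Subgroup H) ⊔ Z := ⟨_, rfl⟩
  haveI : Fintype S := Fintype.ofFinite _
  haveI : Fintype (Z.subgroupOf S) := Fintype.ofFinite _
  haveI : Fintype (K.subgroupOf S) := Fintype.ofFinite _
  have hZS : Z ≤ S := hS ▸ le_sup_right
  have hZL : Z.subgroupOf S ≤ K.subgroupOf S := fun x hx => hZK hx
  have hcycS := frc_cyclic_quot p K Z hZK S₀ S hS P hcyc
  obtain ⟨M, hM⟩ := frc_main Z χ hχ θ hθ e he hres K hZK p S₀ S hS hZS hZL (by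
    intro ξ a φ hξ hξres ha huniq hφ hφθ
    exact frc_stab_cyclic (Z.subgroupOf S) (K.subgroupOf S) hZL _
      (h7_isIrr_comp_equiv (Subgroup.subgroupOfEquivOfLe hZS) θ hθ) ξ hξ huniq φ hφ hφθ hcycS)
  exact ⟨M, frc_isComplement'_of_index p M hM P⟩

end

end Cfsg.Agent.Lib.Helper25
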