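import Mathlib
import Cfsg.Agent.Lib.Helper25.FullyRamifiedCyclic
import Cfsg.Agent.S0006

/-!
Fully ramified characters induced from an intermediate normal subgroup `K`: the quotient
`H / K` has Hall `p'`-subgroups for all `p`, hence is solvable (S4563).  Main results:
`fri_res_mult`, `fri_constituent_over`, `fri_degree_mult`, `fri_stab`, `fri_solvable`.
-/

set_option autoImplicit false
set_option linter.style.haveILetI false
set_option linter.unusedVariables false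
set_option linter.unusedSectionVars false
set_option warn.classDefReducibility false
set_option maxHeartbeats 1600000

namespace Cfsg.Agent.Lib.Helper25
open Cfsg
open Cfsg.Agent.Lib.helper2
open Cfsg.Agent.Lib.helper7
open Cfsg.Agent.Lib.Helper11
open scoped ComplexConjugate Pointwise
section

/-- if `χ = ind_K^H φ` is fully ramified over `Z ≤ K`, then `φ` restricts to a multiple of `θ` -/
theorem fri_res_mult {H : Type*} [Group H] [Fintype H] (Z K : Subgroup H) [Fintype Z] [Fintype K]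
    (hZK : Z ≤ K) (χ : H → ℂ) (hχ : Cfsg.IsIrrCharacter H χ) (θ : Z → ℂ)
    (hθ : Cfsg.IsIrrCharacter Z θ) (e : ℕ) (hres : ∀ z : Z, χ z = (e : ℂ) * θ z)
    (φ : K → ℂ) (hφ : Cfsg.IsCharacter K φ) (hind : Cfsg.indFun K φ = χ) :
    Cfsg.IsIrrCharacter K φ ∧ ∃ c : ℕ, (fun z : Z => φ ⟨(z : H), hZK z.2⟩) = (c : ℂ) • θ := by
  have hφirr : Cfsg.IsIrrCharacter K φ := bg_irr_of_ind_irr K hφ (hind ▸ hχ)
  refine ⟨hφirr, ?_⟩
  have hcl := h7_irr_isClassFunction hχ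
  have h1 := h7_frobenius_irr K χ hcl φ
  rw [hind, h7_irr_norm hχ] at h1
  have h2 : Cfsg.classInner (fun n : K => χ n) φ ≠ 0 := by
    intro h0
    rw [h0] at h1
    simp at h1
  obtain ⟨Δ, hΔ, hsplit⟩ := h7_char_split (isCharacter_restrict (h7_irr_isCharacter hχ) K) φ
    hφirr h2
  have h3 : (fun z : Z => φ ⟨(z : H), hZK z.2⟩) + (fun z : Z => Δ ⟨(z : H), hZK z.2⟩) =
      (e : ℂ) • θ := by
    funext z
    have h4 := congrFun hsplit ⟨(z : H), hZK z.2⟩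
    simp only [Pi.add_apply, Pi.smul_apply, smul_eq_mul] at h4 ⊢
    rw [← h4]
    exact hres z
  exact bg_sub_multiple (isCharacter_comp_hom hφ (Subgroup.inclusion hZK))
    (isCharacter_comp_hom hΔ (Subgroup.inclusion hZK)) hθ (e : ℂ) h3

/-- an irreducible constituent of a character restricting to a multiple of `θ` lies over `θ` -/
theorem fri_constituent_over {L Z : Type*} [Group L] [Group Z] [Fintype L] [Fintype Z]
    (f : Z →* L) {Ψ : L → ℂ} (hΨ : Cfsg.IsCharacter L Ψ) (θ : Z → ℂ)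
    (hθ : Cfsg.IsIrrCharacter Z θ) (c : ℂ) (hc : (fun z => Ψ (f z)) = c • θ)
    (ψ : L → ℂ) (hψ : Cfsg.IsIrrCharacter L ψ) (hcon : Cfsg.classInner Ψ ψ ≠ 0) :
    Cfsg.classInner (fun z => ψ (f z)) θ ≠ 0 := by
  obtain ⟨Δ, hΔ, hsplit⟩ := h7_char_split hΨ ψ hψ hcon
  have h3 : (fun z => ψ (f z)) + (fun z => Δ (f z)) = c • θ := by
    rw [← hc]
    funext z
    rw [hsplit]
    rfl
  obtain ⟨c₁, hc₁⟩ := bg_sub_multiple (isCharacter_comp_hom (h7_irr_isCharacter hψ) f)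
    (isCharacter_comp_hom hΔ f) hθ c h3
  rw [hc₁, classInner_smul_left, h7_irr_norm hθ, mul_one]
  intro h0
  have h4 := congrFun hc₁ 1
  simp only [Pi.smul_apply, smul_eq_mul] at h4
  rw [h0, zero_mul, map_one] at h4
  exact irr_one_ne_zero (⟨ψ, hψ⟩ : Cfsg.IrrCharacter L) h4

/-- a character all of whose irreducible constituents have the degree `d` has degree a multiple
of `d` -/
theorem fri_degree_mult {L : Type*} [Group L] [Fintype L] {Ψ : L → ℂ}
    (hΨ : Cfsg.IsCharacter L Ψ) (d : ℂ)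
    (h : ∀ ψ : L → ℂ, Cfsg.IsIrrCharacter L ψ → Cfsg.classInner Ψ ψ ≠ 0 → ψ 1 = d) :
    ∃ m : ℕ, Ψ 1 = (m : ℂ) * d := by
  classical
  haveI : Fintype (Cfsg.IrrCharacter L) := Fintype.ofFinite _
  obtain ⟨m, hm, hexp⟩ := isCharacter_expansion hΨ
  refine ⟨∑ ψ : Cfsg.IrrCharacter L, m ψ, ?_⟩
  have h1 := congrFun hexp 1
  simp only [Finset.sum_apply, Pi.smul_apply, smul_eq_mul] at h1
  rw [h1]
  push_cast
  rw [Finset.sum_mul]
  apply Finset.sum_congr rfl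
  intro ψ _
  by_cases h0 : m ψ = 0
  · rw [h0]
    simp
  · rw [h (ψ : L → ℂ) ψ.2 (by rw [hm ψ]; exact_mod_cast h0)]

end

section

/-- the arithmetic of the induced case -/
theorem fri_arith {p j r f t a e z₁ k₁ kidx c' dφ dθ dK m : ℕ} (hp : p.Prime) (hr : r = p ^ j)
    (h1 : f ^ 2 * t = r) (ha : a ^ 2 = z₁ * r) (haξ : a * dθ = f * t * dφ)
    (he : e ^ 2 = z₁ * k₁ * kidx) (heχ : e * dθ = kidx * dK)
    (h4 : dK = m * dφ) (h5 : kidx = r * c') (h6 : ¬ p ∣ k₁) (hφ0 : dφ ≠ 0) (hk0 : kidx ≠ 0)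
    (ht0 : t ≠ 0) (hf0 : f ≠ 0) : t = r := by
  -- (B)
  have hB : t * dφ ^ 2 = z₁ * dθ ^ 2 := by
    have h7 : (a * dθ) ^ 2 = (f * t * dφ) ^ 2 := by rw [haξ]
    rw [mul_pow, ha, ← h1] at h7
    have h8 : f ^ 2 * t * (z₁ * dθ ^ 2) = f ^ 2 * t * (t * dφ ^ 2) := by
      rw [← mul_assoc, mul_comm (f ^ 2 * t) z₁, h7]
      ring
    have hpos : 0 < f ^ 2 * t := Nat.mul_pos (pow_pos (Nat.pos_of_ne_zero hf0) 2)
      (Nat.pos_of_ne_zero ht0)
    exact (Nat.eq_of_mul_eq_mul_left hpos h8).symm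
  -- (C)
  have hC : kidx * dK ^ 2 = z₁ * k₁ * dθ ^ 2 := by
    have h7 : (e * dθ) ^ 2 = (kidx * dK) ^ 2 := by rw [heχ]
    rw [mul_pow, he] at h7
    have h8 : kidx * (z₁ * k₁ * dθ ^ 2) = kidx * (kidx * dK ^ 2) := by
      rw [← mul_assoc, mul_comm kidx (z₁ * k₁), h7]
      ring
    exact (Nat.eq_of_mul_eq_mul_left (Nat.pos_of_ne_zero hk0) h8).symm
  have hD : kidx * m ^ 2 = k₁ * t := by
    have h7 : dφ ^ 2 * (kidx * m ^ 2) = dφ ^ 2 * (k₁ * t) := by
      have h8 : dφ ^ 2 * (kidx * m ^ 2) = kidx * dK ^ 2 := by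
        rw [h4]
        ring
      have h9 : dφ ^ 2 * (k₁ * t) = k₁ * (t * dφ ^ 2) := by ring
      rw [h8, h9, hC, hB]
      ring
    exact Nat.eq_of_mul_eq_mul_left (pow_pos (Nat.pos_of_ne_zero hφ0) 2) h7
  have hrt : r ∣ t := by
    have hcop : r.Coprime k₁ := by
      rw [hr]
      exact Nat.Coprime.pow_left j ((Nat.Prime.coprime_iff_not_dvd hp).mpr h6)
    apply hcop.dvd_of_dvd_mul_left
    rw [← hD, h5]
    exact ⟨c' * m ^ 2, by ring⟩
  have htr : t ∣ r := ⟨f ^ 2, by rw [← h1]; ring⟩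
  exact Nat.dvd_antisymm htr hrt

end

section

/-- in the induced case the stabilizer of `φ` in `S` is `S ∩ K` -/
theorem fri_stab {H : Type*} [Group H] [Fintype H] (Z : Subgroup H) [hZ : Z.Normal] [Fintype Z]
    (χ : H → ℂ) (hχ : Cfsg.IsIrrCharacter H χ) (θ : Z → ℂ) (hθ : Cfsg.IsIrrCharacter Z θ)
    (e : ℕ) (he : e ^ 2 = Z.index) (hres : ∀ z : Z, χ z = (e : ℂ) * θ z)
    (K : Subgroup H) [hK : K.Normal] [Fintype K] (hZK : Z ≤ K)
    (φK : K → ℂ) (hφK : Cfsg.IsCharacter K φK) (hind : Cfsg.indFun K φK = χ)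
    (p : ℕ) [hpF : Fact p.Prime]
    (S₀ : Sylow p H) (S : Subgroup H) (hS : S = (S₀ : Subgroup H) ⊔ Z)
    [Fintype S] [Fintype (Z.subgroupOf S)] [Fintype (K.subgroupOf S)]
    (hZS : Z ≤ S) (hZL : Z.subgroupOf S ≤ K.subgroupOf S)
    (ξ : S → ℂ) (a : ℕ) (φ : ↥(K.subgroupOf S) → ℂ) (hξ : Cfsg.IsIrrCharacter S ξ)
    (hξres : (fun z : Z.subgroupOf S => ξ z) =
        (a : ℂ) • (fun z : Z.subgroupOf S => θ (Subgroup.subgroupOfEquivOfLe hZS z)))
    (ha : a ^ 2 = (Z.subgroupOf S).index)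
    (huniq : ∀ ψ : S → ℂ, Cfsg.IsIrrCharacter S ψ →
        Cfsg.classInner (fun z : Z.subgroupOf S => ψ z)
          (fun z : Z.subgroupOf S => θ (Subgroup.subgroupOfEquivOfLe hZS z)) ≠ 0 → ψ = ξ)
    (hφ : Cfsg.IsIrrCharacter ↥(K.subgroupOf S) φ)
    (hφθ : Cfsg.classInner (fun z : Z.subgroupOf S => φ ⟨z, hZL z.2⟩)
        (fun z : Z.subgroupOf S => θ (Subgroup.subgroupOfEquivOfLe hZS z)) ≠ 0) :
    cjStab (K.subgroupOf S) φ ≤ K.subgroupOf S := by
  classical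
  have hp := hpF.out
  have hθ' : Cfsg.IsIrrCharacter (Z.subgroupOf S)
      (fun z : Z.subgroupOf S => θ (Subgroup.subgroupOfEquivOfLe hZS z)) :=
    h7_isIrr_comp_equiv (Subgroup.subgroupOfEquivOfLe hZS) θ hθ
  obtain ⟨f, hf, hcon, hnum, hξ1⟩ :=
    frc_numeric (Z.subgroupOf S) (K.subgroupOf S) hZL _ hθ' ξ hξ huniq φ hφ hφθ
  obtain ⟨hφKirr, c, hc⟩ := fri_res_mult Z K hZK χ hχ θ hθ e hres φK hφK hind
  -- restriction of φK to S ∩ K
  let ι : ↥(K.subgroupOf S) →* ↥K :=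
    MonoidHom.codRestrict (S.subtype.comp (K.subgroupOf S).subtype) K (fun x => x.2)
  have hΨ : Cfsg.IsCharacter ↥(K.subgroupOf S) (fun x => φK (ι x)) := isCharacter_comp_hom hφK ι
  have hΨZ : (fun z : Z.subgroupOf S => (fun x => φK (ι x)) (Subgroup.inclusion hZL z)) =
      (c : ℂ) • (fun z : Z.subgroupOf S => θ (Subgroup.subgroupOfEquivOfLe hZS z)) := by
    funext z
    have h1 := congrFun hc (Subgroup.subgroupOfEquivOfLe hZS z)
    simp only [Pi.smul_apply, smul_eq_mul] at h1 ⊢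
    rw [← h1]
    rfl
  have hdeg : ∀ ψ : ↥(K.subgroupOf S) → ℂ, Cfsg.IsIrrCharacter ↥(K.subgroupOf S) ψ →
      Cfsg.classInner (fun x => φK (ι x)) ψ ≠ 0 → ψ 1 = φ 1 := by
    intro ψ hψ hconψ
    have h1 := fri_constituent_over (Subgroup.inclusion hZL) hΨ _ hθ' (c : ℂ) hΨZ ψ hψ hconψ
    obtain ⟨g, rfl⟩ := frc_trans (Z.subgroupOf S) (K.subgroupOf S) hZL _ hθ' ξ hξ huniq φ hφ hφθ
      ψ hψ h1
    exact frc_cj_one _ φ g
  obtain ⟨m, hm⟩ := fri_degree_mult hΨ (φ 1) hdeg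
  have hm' : φK 1 = (m : ℂ) * φ 1 := by
    rw [← hm]
    show φK 1 = φK (ι 1)
    rw [map_one]
  -- degrees as natural numbers
  obtain ⟨dφ, hdφ⟩ := isCharacter_one_eq_nat (h7_irr_isCharacter hφ)
  obtain ⟨dθ, hdθ⟩ := isCharacter_one_eq_nat (h7_irr_isCharacter hθ)
  obtain ⟨dK, hdK⟩ := isCharacter_one_eq_nat hφK
  have hdφ0 : dφ ≠ 0 := by
    intro h0
    have := irr_one_ne_zero (⟨φ, hφ⟩ : Cfsg.IrrCharacter ↥(K.subgroupOf S))
    apply this
    simp only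
    rw [hdφ, h0]
    simp
  have h4 : dK = m * dφ := by
    rw [hdK, hdφ] at hm'
    exact_mod_cast hm'
  -- a * dθ = f * t * dφ
  have haξ : a * dθ = f * (cjStab (K.subgroupOf S) φ).index * dφ := by
    have h1 := congrFun hξres 1
    simp only [Pi.smul_apply, smul_eq_mul] at h1
    have h2 : ξ ((1 : Z.subgroupOf S) : S) = ξ 1 := rfl
    have h3 : θ (Subgroup.subgroupOfEquivOfLe hZS (1 : Z.subgroupOf S)) = θ 1 := by
      rw [map_one]
    rw [h2, h3, hξ1, hdφ, hdθ] at h1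
    exact_mod_cast h1.symm
  -- e * dθ = K.index * dK
  have heχ : e * dθ = K.index * dK := by
    have h1 := congrFun hind 1
    rw [h7_indFun_one] at h1
    have h2 : χ 1 = (e : ℂ) * θ 1 := hres 1
    rw [h2, hdθ, hdK] at h1
    exact_mod_cast h1.symm
  -- indices
  obtain ⟨⟨n, hn⟩, hpS⟩ := frc_sylow_sup_index p S₀ Z
  rw [← hS] at hn hpS
  have hrdvd : K.relIndex S ∣ Z.relIndex S := Subgroup.relIndex_dvd_of_le_left S hZK
  rw [hn] at hrdvd
  obtain ⟨j, -, hj⟩ := (Nat.dvd_prime_pow hp).mp hrdvd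
  have hLidx : (K.subgroupOf S).index = K.relIndex S := rfl
  have hz1 : (Z.subgroupOf S).relIndex (K.subgroupOf S) = Z.relIndex (S ⊓ K) := by
    rw [← Subgroup.inf_subgroupOf_left K S]
    exact Subgroup.relIndex_subgroupOf inf_le_left
  have ha' : a ^ 2 = Z.relIndex (S ⊓ K) * K.relIndex S := by
    rw [ha, ← Subgroup.relIndex_mul_index hZL, hz1, hLidx]
  have hZSK : Z ≤ S ⊓ K := le_inf hZS hZK
  have he' : e ^ 2 = Z.relIndex (S ⊓ K) * (S ⊓ K).relIndex K * K.index := by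
    rw [he, ← Subgroup.relIndex_mul_index hZK,
      ← Subgroup.relIndex_mul_relIndex Z (S ⊓ K) K hZSK inf_le_right]
  have hk1 : ¬ p ∣ (S ⊓ K).relIndex K := by
    intro h
    apply frc_not_dvd_relIndex_sylow p S₀ K
    have hle : (S₀ : Subgroup H) ⊓ K ≤ S ⊓ K := by
      rw [hS]
      exact le_inf (inf_le_left.trans le_sup_left) inf_le_right
    exact dvd_trans h (Subgroup.relIndex_dvd_of_le_left K hle)
  have h5 : K.index = K.relIndex S * (S ⊔ K).index := by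
    rw [← Subgroup.relIndex_mul_index (le_sup_right : K ≤ S ⊔ K), Subgroup.relIndex_sup_right]
  have hnum' : f ^ 2 * (cjStab (K.subgroupOf S) φ).index = K.relIndex S := hnum
  have ht0 : (cjStab (K.subgroupOf S) φ).index ≠ 0 := Subgroup.index_ne_zero_of_finite
  have hk0 : K.index ≠ 0 := Subgroup.index_ne_zero_of_finite
  have hteq : (cjStab (K.subgroupOf S) φ).index = K.relIndex S :=
    fri_arith hp hj hnum' ha' haξ he' heχ h4 h5 hk1 hdφ0 hk0 ht0 hf.ne'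
  -- conclusion
  have hLT : K.subgroupOf S ≤ cjStab (K.subgroupOf S) φ :=
    le_cjStab _ φ (h7_irr_isClassFunction hφ)
  have h6 := Subgroup.relIndex_mul_index hLT
  rw [hteq, hLidx] at h6
  have h7 : (K.subgroupOf S).relIndex (cjStab (K.subgroupOf S) φ) = 1 := by
    have hpos : 0 < K.relIndex S := by
      rw [← hteq]
      exact Nat.pos_of_ne_zero ht0
    have : (K.subgroupOf S).relIndex (cjStab (K.subgroupOf S) φ) * K.relIndex S =
        1 * K.relIndex S := by rw [h6, one_mul]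
    exact Nat.eq_of_mul_eq_mul_right hpos this
  exact Subgroup.relIndex_eq_one.mp h7

end

section

/-- S4563 core: a fully ramified character induced from `K` forces `H / K` to be solvable -/
theorem fri_solvable {H : Type*} [Group H] [Fintype H] (Z : Subgroup H) [hZ : Z.Normal]
    (χ : H → ℂ) (hχ : Cfsg.IsIrrCharacter H χ) (θ : Z → ℂ) (hθ : Cfsg.IsIrrCharacter Z θ)
    (e : ℕ) (he : e ^ 2 = Z.index) (hres : ∀ z : Z, χ z = (e : ℂ) * θ z)
    (K : Subgroup H) [hK : K.Normal] [Fintype K] (hZK : Z ≤ K)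
    (φK : K → ℂ) (hφK : Cfsg.IsCharacter K φK) (hind : Cfsg.indFun K φK = χ) :
    Group.IsSolvable (H ⧸ K) ∧ (Group.IsSolvable ↥K → Group.IsSolvable H) := by
  classical
  haveI : Fintype Z := Fintype.ofFinite _
  have h1 : Group.IsSolvable (H ⧸ K) := by
    apply Cfsg.Agent.S0006.result
    intro p hp
    haveI : Fact p.Prime := ⟨hp⟩
    obtain ⟨S₀⟩ : Nonempty (Sylow p H) := inferInstance
    obtain ⟨S, hS⟩ : ∃ S : Subgroup H, S = (S₀ : Subgroup H) ⊔ Z := ⟨_, rfl⟩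
    haveI : Fintype S := Fintype.ofFinite _
    haveI : Fintype (Z.subgroupOf S) := Fintype.ofFinite _
    haveI : Fintype (K.subgroupOf S) := Fintype.ofFinite _
    have hZS : Z ≤ S := hS ▸ le_sup_right
    have hZL : Z.subgroupOf S ≤ K.subgroupOf S := fun x hx => hZK hx
    exact frc_main Z χ hχ θ hθ e he hres K hZK p S₀ S hS hZS hZL (by
      intro ξ a φ hξ hξres ha huniq hφ hφθ
      exact fri_stab Z χ hχ θ hθ e he hres K hZK φK hφK hind p S₀ S hS hZS hZL ξ a φ hξ hξres ha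
        huniq hφ hφθ)
  refine ⟨h1, ?_⟩
  intro h2
  exact (Group.isSolvable_iff_subgroup_quotient K).mpr ⟨h2, h1⟩

end

end Cfsg.Agent.Lib.Helper25
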