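import Mathlib
import Cfsg.Agent.Lib.Helper20.GLO.Defs
import Cfsg.Agent.Lib.Helper20.GLOL0
import Cfsg.Agent.Lib.Helper11.GLOT4
import Cfsg.Agent.Lib.Helper25.GLOT3core

/-!
# Project GLO (designer helper20), rows T3 and T5 (helper25), VERBATIM: `LB_norm_hl LB_norm_wl LB_norm_wl'`, `d3_base`

The cores of `Helper25.GLOT3core` applied to the landed rows T4 (`Helper11.GLOT4`: `hl_pair_s hl_pair_l wl_pair_l`), Λ0 / Λ1 (`Helper20.GLOL0`: `exists_lam_ratio`, `act_surj`).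
-/

set_option autoImplicit false
set_option linter.unusedSectionVars false
set_option linter.unusedVariables false

namespace Cfsg.Agent.Lib.Helper20.GLO

open Cfsg.Agent.Lib.helper3.STC (ng ab)
open Cfsg.Agent.Lib.helper3.SPM (Pts pe sgm sn sig2 ptsFin pe2)
open Cfsg.Agent.Lib.Helper27.STU
open Cfsg.Agent.Lib.helper17.SLP (cm)
open Cfsg.Agent.Lib.Helper20.GLE (lamC lamP)

universe u v w x v' y

section main
variable {F : Type u} [Field F] [StarRing F] {L : Type x} [Group L] {ι : Type w} [Fintype ι] [DecidableEq ι] {G : Type v} [Group G]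
  (S₂ : SysU F True (Fin 2) L) (swL : L) (p : Pts ι) (ν : Equiv.Perm ι →* G) (lam : L →* G)

/-- T3 -/
theorem LB_norm_hl (H : Glue S₂ swL p ν lam) (hU : UFacts S₂ swL) {i k : ι} (hik : i ≠ k) {ξ η : Lam F True} (hξ : ξ.c ≠ 0) (hη : η.c ≠ 0)
    {g : G} (hg : g ∈ LB S₂ p ν lam k) :
    hrl S₂ p ν lam (Sum.inl i) ξ η * g * (hrl S₂ p ν lam (Sum.inl i) ξ η)⁻¹ ∈ LB S₂ p ν lam k :=
  glot3_hl_core S₂ p ν lam (fun ha ξ' => hl_pair_l S₂ swL p ν lam H hU hik hξ hη ha ξ') hg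

theorem LB_norm_wl (H : Glue S₂ swL p ν lam) (hU : UFacts S₂ swL) {i k : ι} (hik : i ≠ k) {ξ : Lam F True} (hξ : ξ.c ≠ 0)
    {g : G} (hg : g ∈ LB S₂ p ν lam k) :
    wrl S₂ p ν lam (Sum.inl i) ξ * g * (wrl S₂ p ν lam (Sum.inl i) ξ)⁻¹ ∈ LB S₂ p ν lam k :=
  glot3_wl_core S₂ p ν lam hik (fun ha ξ' => wl_pair_l S₂ swL p ν lam H hU hik hξ ha ξ') hg

theorem LB_norm_wl' (H : Glue S₂ swL p ν lam) (hU : UFacts S₂ swL) {i k : ι} (hik : i ≠ k) {ξ : Lam F True} (hξ : ξ.c ≠ 0)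
    {g : G} (hg : g ∈ LB S₂ p ν lam k) :
    (wrl S₂ p ν lam (Sum.inl i) ξ)⁻¹ * g * wrl S₂ p ν lam (Sum.inl i) ξ ∈ LB S₂ p ν lam k :=
  glot3_wl'_core S₂ p ν lam hik hξ (fun ha ξ' => wl_pair_l S₂ swL p ν lam H hU hik hξ ha ξ')
    (fun ht ξ' => act_surj ht ξ') hg

/-- T5 -/
theorem d3_base (hF : Hyp F) (H : Glue S₂ swL p ν lam) (hU : UFacts S₂ swL) (t : F) {g : G} (hg : g ∈ LB S₂ p ν lam p.o2) :
    Commute (xrs S₂ p ν lam (Sum.inl p.o0) (Sum.inl p.o1) t) g :=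
  glot5_core S₂ swL p ν lam H (fun hr => exists_lam_ratio hF hr)
    (fun hξ hη t' => hl_pair_s S₂ swL p ν lam H hU p.h01 hξ hη (a := Sum.inl p.o0) (b := Sum.inl p.o1) p.h01
      (Or.inl rfl) (Or.inr rfl) t')
    (fun hξ hη _ hg' => LB_norm_hl S₂ swL p ν lam H hU p.h02 hξ hη hg') t hg

end main

end Cfsg.Agent.Lib.Helper20.GLO
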