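import Mathlib
import Cfsg.Agent.Lib.Helper25.Gagola
import Cfsg.Agent.Lib.Helper25.CharRestrict
import Cfsg.Agent.Lib.Helper25.RealOver

/-!
Characters nonzero on exactly two classes: centralizers of support elements and inertia groups
of the characters of the support are Sylow subgroups.
-/

set_option autoImplicit false
set_option linter.deprecated false

namespace Cfsg.Agent.Lib.Helper25
open Cfsg.Agent.Lib.Helper11
open scoped ComplexConjugate

variable {G : Type*} [Group G]



/-- value of a two-class character at the nontrivial class -/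
theorem gagola_value [Finite G] (hG : 2 < Nat.card G)
    (χ : Cfsg.IrrCharacter G) (x : G) (hx1 : x ≠ 1)
    (hsupp : ∀ g : G, (χ : G → ℂ) g ≠ 0 → g = 1 ∨ IsConj x g) :
    (χ : G → ℂ) x = -((Cfsg.charDegree (χ : G → ℂ) : ℂ) / (Nat.card {g : G // IsConj x g} : ℂ)) := by
  have h := gagola_sum_zero hG χ x hx1 hsupp
  have hk : (Nat.card {g : G // IsConj x g} : ℂ) ≠ 0 := by
    haveI : Nonempty {g : G // IsConj x g} := ⟨⟨x, IsConj.refl x⟩⟩
    exact_mod_cast Nat.card_pos.ne'
  rw [(charDegree_irr χ).1]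
  field_simp
  linear_combination h

theorem gagola_degree_eq [Finite G] (hG : 2 < Nat.card G)
    (χ : Cfsg.IrrCharacter G) (x : G) (hx1 : x ≠ 1)
    (hsupp : ∀ g : G, (χ : G → ℂ) g ≠ 0 → g = 1 ∨ IsConj x g) :
    Cfsg.charDegree (χ : G → ℂ) ^ 2 * (Nat.card {g : G // IsConj x g} + 1) =
      Nat.card G * Nat.card {g : G // IsConj x g} := by
  classical
  haveI := Fintype.ofFinite G
  have hk : (Nat.card {g : G // IsConj x g} : ℂ) ≠ 0 := by
    haveI : Nonempty {g : G // IsConj x g} := ⟨⟨x, IsConj.refl x⟩⟩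
    exact_mod_cast Nat.card_pos.ne'
  have hval := gagola_value hG χ x hx1 hsupp
  have hnorm := irr_classInner χ χ
  rw [if_pos rfl] at hnorm
  unfold Cfsg.classInner at hnorm
  have hsum := sum_two_classes x hx1 (fun g => (χ : G → ℂ) g * conj ((χ : G → ℂ) g))
    (by
      intro g hg
      apply hsupp
      intro h0
      apply hg
      simp only [h0, zero_mul])
    (by
      intro g hg
      simp only [irr_isConj_eq χ hg])
  rw [hsum] at hnorm
  rw [hval, ← (charDegree_irr χ).1] at hnorm
  simp only [map_neg, map_div₀, Complex.conj_natCast] at hnorm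
  have hGne : (Nat.card G : ℂ) ≠ 0 := by exact_mod_cast Nat.card_pos.ne'
  have : ((Cfsg.charDegree (χ : G → ℂ) ^ 2 * (Nat.card {g : G // IsConj x g} + 1) : ℕ) : ℂ) =
      ((Nat.card G * Nat.card {g : G // IsConj x g} : ℕ) : ℂ) := by
    push_cast
    field_simp at hnorm
    linear_combination hnorm
  exact_mod_cast this



/-- the support `N` has `k + 1` elements -/
theorem gagola_card_support [Finite G] (χ : Cfsg.IrrCharacter G) (x : G) (hx1 : x ≠ 1)
    (hx0 : (χ : G → ℂ) x ≠ 0)
    (hsupp : ∀ g : G, (χ : G → ℂ) g ≠ 0 → g = 1 ∨ IsConj x g)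
    (N : Subgroup G) (hN : ∀ g : G, g ∈ N ↔ (χ : G → ℂ) g ≠ 0) :
    Nat.card N = Nat.card {g : G // IsConj x g} + 1 := by
  classical
  haveI := Fintype.ofFinite G
  have hconjN : ∀ g : G, IsConj x g → g ∈ N := by
    intro g hg
    rw [hN, ← irr_isConj_eq χ hg]
    exact hx0
  have e : Option {g : G // IsConj x g} ≃ N :=
    { toFun := fun o => match o with
        | none => ⟨1, N.one_mem⟩
        | some g => ⟨g.1, hconjN g.1 g.2⟩
      invFun := fun n => if h : (n : G) = 1 then none else
        some ⟨n.1, ((hsupp n.1 ((hN n.1).1 n.2)).resolve_left h)⟩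
      left_inv := by
        intro o
        cases o with
        | none => simp
        | some g =>
          have hg1 : (g : G) ≠ 1 := by
            intro h
            have := g.2
            rw [h] at this
            exact hx1 (isConj_one_left.1 this)
          simp [hg1]
      right_inv := by
        intro n
        by_cases h : (n : G) = 1
        · simp only [h, dite_true]
          exact Subtype.ext h.symm
        · simp only [h, dite_false] }
  rw [← Nat.card_congr e, Nat.card_eq_fintype_card, Fintype.card_option,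
    ← Nat.card_eq_fintype_card]

/-- the `q`-part of `|G|` divides `χ(1)` for `q ≠ p` -/
theorem gagola_qpart_dvd [Finite G] (χ : Cfsg.IrrCharacter G) (p : ℕ) [Fact p.Prime]
    (N : Subgroup G) (hN : ∀ g : G, g ∈ N ↔ (χ : G → ℂ) g ≠ 0) (hNp : IsPGroup p N)
    (q : ℕ) (hq : q.Prime) (hqp : q ≠ p) :
    q ^ (Nat.card G).factorization q ∣ Cfsg.charDegree (χ : G → ℂ) := by
  classical
  haveI := Fintype.ofFinite G
  haveI : Fact q.Prime := ⟨hq⟩
  obtain ⟨Q⟩ : Nonempty (Sylow q G) := inferInstance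
  haveI : Fintype (Q : Subgroup G) := Fintype.ofFinite _
  obtain ⟨j, hj⟩ := sum_subgroup_irr (Q : Subgroup G) χ
  have hvan : ∀ y : (Q : Subgroup G), y ≠ 1 → (χ : G → ℂ) (y : G) = 0 := by
    intro y hy
    by_contra hne
    have hyN : (y : G) ∈ N := (hN _).2 hne
    obtain ⟨a, ha⟩ := hNp ⟨(y : G), hyN⟩
    obtain ⟨b, hb⟩ := Q.isPGroup' y
    have ha' : (y : G) ^ p ^ a = 1 := by
      have := congrArg (fun z : N => (z : G)) ha
      simpa using this
    have hb' : (y : G) ^ q ^ b = 1 := by
      have := congrArg (fun z : (Q : Subgroup G) => (z : G)) hb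
      simpa using this
    have h1 : orderOf (y : G) ∣ p ^ a := orderOf_dvd_of_pow_eq_one ha'
    have h2 : orderOf (y : G) ∣ q ^ b := orderOf_dvd_of_pow_eq_one hb'
    have hcop : Nat.Coprime (p ^ a) (q ^ b) :=
      Nat.Coprime.pow _ _ ((Nat.coprime_primes (Fact.out : p.Prime) hq).2 (Ne.symm hqp))
    have h3 : orderOf (y : G) = 1 := Nat.eq_one_of_dvd_coprimes hcop h1 h2
    apply hy
    apply Subtype.ext
    exact orderOf_eq_one_iff.1 h3
  have hsum : ∑ y : (Q : Subgroup G), (χ : G → ℂ) (y : G) = (χ : G → ℂ) 1 := by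
    rw [Finset.sum_eq_single (1 : (Q : Subgroup G))]
    · rfl
    · intro y _ hy
      exact hvan y hy
    · intro h; exact absurd (Finset.mem_univ _) h
  rw [hsum, ← (charDegree_irr χ).1] at hj
  have hnat : Cfsg.charDegree (χ : G → ℂ) = Nat.card (Q : Subgroup G) * j := by exact_mod_cast hj
  rw [hnat, Sylow.card_eq_multiplicity]
  exact Dvd.intro _ rfl



theorem gagola_sylow_criterion [Finite G] (hG : 2 < Nat.card G)
    (χ : Cfsg.IrrCharacter G) (x : G) (hx1 : x ≠ 1) (hx0 : (χ : G → ℂ) x ≠ 0)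
    (hsupp : ∀ g : G, (χ : G → ℂ) g ≠ 0 → g = 1 ∨ IsConj x g)
    (p : ℕ) [Fact p.Prime] (N : Subgroup G) (hN : ∀ g : G, g ∈ N ↔ (χ : G → ℂ) g ≠ 0)
    (hNp : IsPGroup p N) (hN1 : N ≠ ⊥)
    (H : Subgroup G) (hH : Nat.card H * Nat.card {g : G // IsConj x g} = Nat.card G) :
    IsPGroup p H ∧ ¬ p ∣ H.index := by
  classical
  set k := Nat.card {g : G // IsConj x g} with hk
  set D := Cfsg.charDegree (χ : G → ℂ) with hD
  have hpp : p.Prime := Fact.out
  have hG0 : Nat.card G ≠ 0 := Nat.card_pos.ne'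
  have hH0 : Nat.card H ≠ 0 := Nat.card_pos.ne'
  have hD0 : D ≠ 0 := (charDegree_irr χ).2.ne'
  have hcardN := gagola_card_support χ x hx1 hx0 hsupp N hN
  have hdeg := gagola_degree_eq hG χ x hx1 hsupp
  try rw [← hk] at hcardN
  try rw [← hk] at hdeg
  try rw [← hD] at hdeg
  obtain ⟨n, hn⟩ := IsPGroup.iff_card.1 hNp
  have hn0 : n ≠ 0 := by
    intro h0
    rw [h0, pow_zero] at hn
    apply hN1
    exact Subgroup.card_eq_one.1 hn
  have hpk : ¬ p ∣ k := by
    intro hdvd
    have h1 : p ∣ k + 1 := by rw [← hcardN, hn]; exact dvd_pow_self p hn0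
    have : p ∣ 1 := (Nat.dvd_add_right hdvd).1 h1
    exact hpp.one_lt.ne' (Nat.dvd_one.1 this)
  have hindex : H.index = k := by
    have h1 := Subgroup.card_mul_index H
    rw [← hH] at h1
    exact Nat.eq_of_mul_eq_mul_left (Nat.pos_of_ne_zero hH0) h1
  refine ⟨?_, by rw [hindex]; exact hpk⟩
  have hkey : Nat.card H * D ^ 2 * Nat.card N = Nat.card G ^ 2 := by
    rw [hcardN, mul_assoc, hdeg, ← hH]
    ring
  have hN0 : Nat.card N ≠ 0 := Nat.card_pos.ne'
  have hprime_only : ∀ q : ℕ, q.Prime → q ∣ Nat.card H → q = p := by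
    intro q hq hqH
    by_contra hqp
    have hqD := gagola_qpart_dvd χ p N hN hNp q hq hqp
    have hfD : (Nat.card G).factorization q ≤ D.factorization q := by
      have := (Nat.factorization_le_iff_dvd (pow_ne_zero _ hq.ne_zero) hD0).2 hqD q
      rwa [Nat.factorization_pow, Finsupp.smul_apply, hq.factorization_self, smul_eq_mul,
        mul_one] at this
    have hfH : 1 ≤ (Nat.card H).factorization q :=
      (hq.dvd_iff_one_le_factorization hH0).1 hqH
    have hfac : (Nat.card H * D ^ 2 * Nat.card N).factorization q =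
        (Nat.card G ^ 2).factorization q := by rw [hkey]
    rw [Nat.factorization_mul (mul_ne_zero hH0 (pow_ne_zero _ hD0)) hN0,
      Nat.factorization_mul hH0 (pow_ne_zero _ hD0), Nat.factorization_pow,
      Nat.factorization_pow] at hfac
    simp only [Finsupp.coe_add, Pi.add_apply, Finsupp.smul_apply, smul_eq_mul] at hfac
    omega
  have hcard : Nat.card H = p ^ (Nat.card H).primeFactorsList.length :=
    Nat.eq_prime_pow_of_unique_prime_dvd hH0 (fun {q} hq hqd => hprime_only q hq hqd)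
  exact IsPGroup.of_card hcard



theorem gagola_inertia_card [Fintype G] (hG : 2 < Nat.card G)
    (χ : Cfsg.IrrCharacter G) (x : G) (hx1 : x ≠ 1) (hx0 : (χ : G → ℂ) x ≠ 0)
    (hsupp : ∀ g : G, (χ : G → ℂ) g ≠ 0 → g = 1 ∨ IsConj x g)
    (N : Subgroup G) [hNn : N.Normal] (hN : ∀ g : G, g ∈ N ↔ (χ : G → ℂ) g ≠ 0)
    (hcomm : ∀ a b : N, a * b = b * a)
    (μ : Cfsg.IrrCharacter N) (hμ : (μ : N → ℂ) ≠ (fun _ => (1 : ℂ))) :
    Nat.card (cjStab N (μ : N → ℂ)) * Nat.card {g : G // IsConj x g} = Nat.card G := by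
  classical
  haveI : Fintype N := Fintype.ofFinite _
  haveI : Fintype (Cfsg.IrrCharacter G) := Fintype.ofFinite _
  set k := Nat.card {g : G // IsConj x g} with hk
  set D := Cfsg.charDegree (χ : G → ℂ) with hD
  have hkpos : 0 < k := by
    haveI : Nonempty {g : G // IsConj x g} := ⟨⟨x, IsConj.refl x⟩⟩
    exact Nat.card_pos
  have hkC : (k : ℂ) ≠ 0 := by exact_mod_cast hkpos.ne'
  have hNC : (Nat.card N : ℂ) ≠ 0 := by exact_mod_cast Nat.card_pos.ne'
  have hcardN := gagola_card_support χ x hx1 hx0 hsupp N hN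
  have hdeg := gagola_degree_eq hG χ x hx1 hsupp
  have hval := gagola_value hG χ x hx1 hsupp
  try rw [← hk] at hcardN
  try rw [← hk] at hdeg
  try rw [← hD] at hdeg
  try rw [← hk] at hval
  try rw [← hD] at hval
  have hμ1 : (μ : N → ℂ) 1 = 1 := by
    letI : CommGroup N := { (inferInstance : Group N) with mul_comm := hcomm }
    exact irr_one_of_comm μ
  have hμne : μ ≠ trivIrr N := by
    intro h
    apply hμ
    rw [h]
    funext n
    simp
  have hμsum : ∑ n : N, (μ : N → ℂ) n = 0 := by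
    have h := irr_classInner μ (trivIrr N)
    rw [if_neg hμne] at h
    unfold Cfsg.classInner at h
    simp only [trivIrr_apply, map_one, mul_one] at h
    rcases mul_eq_zero.1 h with h1 | h1
    · exact absurd (inv_eq_zero.1 h1) hNC
    · exact h1
  have hμsumc : ∑ n : N, conj ((μ : N → ℂ) n) = 0 := by
    rw [← map_sum, hμsum, map_zero]
  have hother : ∀ ψ : Cfsg.IrrCharacter G, ψ ≠ χ → resInner N ψ μ = 0 := by
    intro ψ hψ
    have hx := gagola_other_kernel hG χ x hx1 hsupp ψ hψ
    have hconst : ∀ n : N, (ψ : G → ℂ) (n : G) = (ψ : G → ℂ) 1 := by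
      intro n
      rcases hsupp (n : G) ((hN _).1 n.2) with h | h
      · rw [h]
      · rw [← irr_isConj_eq ψ h, hx]
    unfold resInner Cfsg.classInner
    simp_rw [hconst]
    rw [← Finset.mul_sum, hμsumc, mul_zero, mul_zero]
  have hχval : ∀ n : N, (χ : G → ℂ) (n : G) =
      (χ : G → ℂ) x + (if n = 1 then (D : ℂ) - (χ : G → ℂ) x else 0) := by
    intro n
    by_cases h1 : n = 1
    · rw [if_pos h1, h1]
      simp only [OneMemClass.coe_one]
      rw [hD, (charDegree_irr χ).1]
      ring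
    · rw [if_neg h1, add_zero]
      rcases hsupp (n : G) ((hN _).1 n.2) with h | h
      · exfalso; exact h1 (Subtype.ext h)
      · exact (irr_isConj_eq χ h).symm
  have hmain : resInner N χ μ = (D : ℂ) / (k : ℂ) := by
    unfold resInner Cfsg.classInner
    simp_rw [hχval, add_mul, Finset.sum_add_distrib, ← Finset.mul_sum, hμsumc, mul_zero, zero_add,
      ite_mul, zero_mul]
    rw [Finset.sum_ite_eq' Finset.univ (1 : N)]
    simp only [Finset.mem_univ, if_true]
    rw [hμ1, map_one, mul_one, hval, hcardN]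
    push_cast
    field_simp
    ring
  have hsq := resInner_sq_sum N μ
  rw [Finset.sum_eq_single χ (fun ψ _ hψ => by rw [hother ψ hψ, zero_mul])
    (fun h => absurd (Finset.mem_univ _) h), hmain] at hsq
  have hT : Nat.card {g : G // cj N (μ : N → ℂ) g = (μ : N → ℂ)} =
      Nat.card (cjStab N (μ : N → ℂ)) := rfl
  rw [hT, hcardN] at hsq
  simp only [map_div₀, Complex.conj_natCast] at hsq
  have hdegC : ((D : ℂ)) ^ 2 * ((k : ℂ) + 1) = (Nat.card G : ℂ) * (k : ℂ) := by
    exact_mod_cast hdeg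
  have : ((Nat.card (cjStab N (μ : N → ℂ)) * k : ℕ) : ℂ) = ((Nat.card G : ℕ) : ℂ) := by
    push_cast at hsq ⊢
    have hk1 : ((k : ℂ) + 1) ≠ 0 := by exact_mod_cast (Nat.succ_ne_zero k)
    field_simp at hsq
    have h3 : (Nat.card (cjStab N (μ : N → ℂ)) : ℂ) * (k : ℂ) * (k : ℂ) =
        (Nat.card G : ℂ) * (k : ℂ) := by
      rw [← hdegC]
      linear_combination -hsq
    exact mul_right_cancel₀ hkC h3
  exact_mod_cast this

end Cfsg.Agent.Lib.Helper25
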