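import Mathlib
import Cfsg.Agent.Lib.Helper25.GagolaSylow

/-!
Characters nonzero on exactly two classes: centralizers outside the support, the centre and the
upper central series of a Sylow subgroup.
-/

set_option autoImplicit false
set_option linter.deprecated false

namespace Cfsg.Agent.Lib.Helper25
open Cfsg.Agent.Lib.Helper11
open scoped ComplexConjugate

variable {G : Type*} [Group G]



/-- outside the support, every element is conjugate to everything in its coset -/
theorem gagola_coset_conj [Finite G] (hG : 2 < Nat.card G)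
    (χ : Cfsg.IrrCharacter G) (x₀ : G) (hx1 : x₀ ≠ 1)
    (hsupp : ∀ g : G, (χ : G → ℂ) g ≠ 0 → g = 1 ∨ IsConj x₀ g)
    (N : Subgroup G) [hNn : N.Normal] (hN : ∀ g : G, g ∈ N ↔ (χ : G → ℂ) g ≠ 0)
    (x : G) (hx : x ∉ N) (n : G) (hn : n ∈ N) : IsConj x (n * x) := by
  apply isConj_of_irr_eq
  intro ψ
  by_cases hψ : ψ = χ
  · rw [hψ]
    have h1 : (χ : G → ℂ) x = 0 := by
      by_contra h; exact hx ((hN x).2 h)
    have h2 : (χ : G → ℂ) (n * x) = 0 := by
      by_contra h
      have : n * x ∈ N := (hN _).2 h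
      have hx' : x = n⁻¹ * (n * x) := by group
      rw [hx'] at hx
      exact hx (N.mul_mem (N.inv_mem hn) this)
    rw [h1, h2]
  · have hker : ∀ m ∈ N, (ψ : G → ℂ) m = (ψ : G → ℂ) 1 := by
      intro m hm
      rcases hsupp m ((hN m).1 hm) with h | h
      · rw [h]
      · rw [← irr_isConj_eq ψ h]
        exact gagola_other_kernel hG χ x₀ hx1 hsupp ψ hψ
    have hmem : x⁻¹ * n * x ∈ N := by
      have := hNn.conj_mem n hn x⁻¹
      rwa [inv_inv] at this
    have h3 : n * x = x * (x⁻¹ * n * x) := by group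
    rw [h3, irr_mul_of_ker ψ x _ (hker _ hmem)]

theorem gagola_centralizer_quotient [Finite G] (hG : 2 < Nat.card G)
    (χ : Cfsg.IrrCharacter G) (x₀ : G) (hx1 : x₀ ≠ 1)
    (hsupp : ∀ g : G, (χ : G → ℂ) g ≠ 0 → g = 1 ∨ IsConj x₀ g)
    (N : Subgroup G) [hNn : N.Normal] (hN : ∀ g : G, g ∈ N ↔ (χ : G → ℂ) g ≠ 0)
    (x : G) (hx : x ∉ N) :
    Nat.card (Subgroup.centralizer ({x} : Set G)) =
      Nat.card (Subgroup.centralizer ({(x : G ⧸ N)} : Set (G ⧸ N))) := by
  classical
  set Cbar := Subgroup.centralizer ({(x : G ⧸ N)} : Set (G ⧸ N)) with hCbar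
  set M := Cbar.comap (QuotientGroup.mk' N) with hM
  have hmemM : ∀ g : G, g ∈ M ↔ g * x * g⁻¹ * x⁻¹ ∈ N := by
    intro g
    rw [hM, Subgroup.mem_comap, hCbar, Subgroup.mem_centralizer_iff]
    simp only [Set.mem_singleton_iff, forall_eq, QuotientGroup.mk'_apply]
    rw [← QuotientGroup.mk_mul, ← QuotientGroup.mk_mul, QuotientGroup.eq]
    constructor
    · intro h
      have h2 := hNn.conj_mem _ h (x * g)
      have : x * g * ((x * g)⁻¹ * (g * x)) * (x * g)⁻¹ = g * x * g⁻¹ * x⁻¹ := by group
      rwa [this] at h2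
    · intro h
      have h2 := hNn.conj_mem _ h (x * g)⁻¹
      have : (x * g)⁻¹ * (g * x * g⁻¹ * x⁻¹) * (x * g)⁻¹⁻¹ = (x * g)⁻¹ * (g * x) := by group
      rwa [this] at h2
  have hcardM1 : Nat.card M = Nat.card N * Nat.card Cbar := by
    have hidx : M.index = Cbar.index :=
      Subgroup.index_comap_of_surjective Cbar (QuotientGroup.mk'_surjective N)
    have h1 := Subgroup.card_mul_index M
    have h2 := Subgroup.card_mul_index Cbar
    have h3 := Subgroup.card_mul_index N
    have h4 : Nat.card (G ⧸ N) = N.index := rfl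
    rw [hidx] at h1
    rw [h4] at h2
    have hpos : 0 < Cbar.index := Nat.pos_of_ne_zero (Subgroup.index_ne_zero_of_finite)
    have : Nat.card M * Cbar.index = Nat.card N * Nat.card Cbar * Cbar.index := by
      rw [h1, mul_assoc, h2, h3]
    exact Nat.eq_of_mul_eq_mul_right hpos this
  have hex : ∀ n : N, ∃ g : G, g * x * g⁻¹ = (n : G) * x := by
    intro n
    have h := gagola_coset_conj hG χ x₀ hx1 hsupp N hN x hx n n.2
    exact isConj_iff.1 h
  choose γ hγ using hex
  have hcardM2 : Nat.card M = Nat.card N * Nat.card (Subgroup.centralizer ({x} : Set G)) := by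
    rw [← Nat.card_prod]
    apply Nat.card_congr
    symm
    refine Equiv.ofBijective (fun nc : N × Subgroup.centralizer ({x} : Set G) =>
      (⟨γ nc.1 * (nc.2 : G), ?_⟩ : M)) ⟨?_, ?_⟩
    · rw [hmemM]
      have hc : (nc.2 : G) * x * (nc.2 : G)⁻¹ = x := by
        have := nc.2.2
        rw [Subgroup.mem_centralizer_iff] at this
        have h := this x (Set.mem_singleton x)
        rw [← h]; group
      have : γ nc.1 * (nc.2 : G) * x * (γ nc.1 * (nc.2 : G))⁻¹ * x⁻¹ =
          γ nc.1 * ((nc.2 : G) * x * (nc.2 : G)⁻¹) * (γ nc.1)⁻¹ * x⁻¹ := by group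
      rw [this, hc, hγ]
      have : (nc.1 : G) * x * x⁻¹ = (nc.1 : G) := by group
      rw [this]
      exact nc.1.2
    · rintro ⟨n, c⟩ ⟨n', c'⟩ h
      have h' : γ n * (c : G) = γ n' * (c' : G) := congrArg Subtype.val h
      have hc : (c : G) * x * (c : G)⁻¹ = x := by
        have := c.2
        rw [Subgroup.mem_centralizer_iff] at this
        have h := this x (Set.mem_singleton x)
        rw [← h]; group
      have hc' : (c' : G) * x * (c' : G)⁻¹ = x := by
        have := c'.2
        rw [Subgroup.mem_centralizer_iff] at this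
        have h := this x (Set.mem_singleton x)
        rw [← h]; group
      have e1 : γ n * (c : G) * x * (γ n * (c : G))⁻¹ = (n : G) * x := by
        have : γ n * (c : G) * x * (γ n * (c : G))⁻¹ =
            γ n * ((c : G) * x * (c : G)⁻¹) * (γ n)⁻¹ := by group
        rw [this, hc, hγ]
      have e2 : γ n' * (c' : G) * x * (γ n' * (c' : G))⁻¹ = (n' : G) * x := by
        have : γ n' * (c' : G) * x * (γ n' * (c' : G))⁻¹ =
            γ n' * ((c' : G) * x * (c' : G)⁻¹) * (γ n')⁻¹ := by group
        rw [this, hc', hγ]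
      rw [h'] at e1
      rw [e1] at e2
      have hnn : n = n' := Subtype.ext (mul_right_cancel e2)
      subst hnn
      have hcc : (c : G) = (c' : G) := mul_left_cancel h'
      rw [Subtype.ext hcc]
    · rintro ⟨g, hg⟩
      rw [hmemM] at hg
      set n : N := ⟨g * x * g⁻¹ * x⁻¹, hg⟩ with hn
      have hgn : g * x * g⁻¹ = (n : G) * x := by
        show g * x * g⁻¹ = g * x * g⁻¹ * x⁻¹ * x
        group
      have hcmem : (γ n)⁻¹ * g ∈ Subgroup.centralizer ({x} : Set G) := by
        rw [Subgroup.mem_centralizer_iff]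
        intro y hy
        rw [Set.mem_singleton_iff] at hy
        subst hy
        have h1 := hγ n
        rw [← hgn] at h1
        have : y * ((γ n)⁻¹ * g) = (γ n)⁻¹ * (γ n * y * (γ n)⁻¹) * g := by group
        rw [this, h1]
        group
      refine ⟨(n, ⟨(γ n)⁻¹ * g, hcmem⟩), ?_⟩
      apply Subtype.ext
      show γ n * ((γ n)⁻¹ * g) = g
      group
  have hNpos : 0 < Nat.card N := Nat.card_pos
  rw [hcardM1] at hcardM2
  exact (Nat.eq_of_mul_eq_mul_left hNpos hcardM2).symm



/-- a `p`-subgroup centralizing an element outside the support is small -/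
theorem gagola_pbound [Finite G] (hG : 2 < Nat.card G)
    (χ : Cfsg.IrrCharacter G) (x₀ : G) (hx1 : x₀ ≠ 1)
    (hsupp : ∀ g : G, (χ : G → ℂ) g ≠ 0 → g = 1 ∨ IsConj x₀ g)
    (p : ℕ) [Fact p.Prime] (N : Subgroup G) [hNn : N.Normal]
    (hN : ∀ g : G, g ∈ N ↔ (χ : G → ℂ) g ≠ 0) (hNp : IsPGroup p N) (P : Sylow p G)
    (z : G) (hz : z ∉ N) (R : Subgroup G) (hR : IsPGroup p R)
    (hRz : R ≤ Subgroup.centralizer ({z} : Set G)) :
    Nat.card R * Nat.card N ≤ Nat.card P := by
  have hpp : p.Prime := Fact.out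
  have h1 : Nat.card R ∣ Nat.card (Subgroup.centralizer ({z} : Set G)) :=
    Subgroup.card_dvd_of_le hRz
  rw [gagola_centralizer_quotient hG χ x₀ hx1 hsupp N hN z hz] at h1
  have h2 : Nat.card (Subgroup.centralizer ({(z : G ⧸ N)} : Set (G ⧸ N))) ∣ N.index :=
    Subgroup.card_subgroup_dvd_card _
  have h3 : Nat.card R * Nat.card N ∣ Nat.card G := by
    rw [← Subgroup.card_mul_index N, mul_comm]
    exact Nat.mul_dvd_mul_left _ (h1.trans h2)
  obtain ⟨a, ha⟩ := IsPGroup.iff_card.1 hR
  obtain ⟨n, hn⟩ := IsPGroup.iff_card.1 hNp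
  rw [ha, hn, ← pow_add] at h3 ⊢
  rw [Sylow.card_eq_multiplicity]
  have hG0 : Nat.card G ≠ 0 := Nat.card_pos.ne'
  have := (hpp.pow_dvd_iff_le_factorization hG0).1 h3
  exact Nat.pow_le_pow_right hpp.pos this

theorem gagola_center_le [Finite G] (hG : 2 < Nat.card G)
    (χ : Cfsg.IrrCharacter G) (x₀ : G) (hx1 : x₀ ≠ 1)
    (hsupp : ∀ g : G, (χ : G → ℂ) g ≠ 0 → g = 1 ∨ IsConj x₀ g)
    (p : ℕ) [Fact p.Prime] (N : Subgroup G) [hNn : N.Normal]
    (hN : ∀ g : G, g ∈ N ↔ (χ : G → ℂ) g ≠ 0) (hNp : IsPGroup p N) (hN1 : N ≠ ⊥)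
    (P : Sylow p G) :
    (Subgroup.center ↥(P : Subgroup G)).map (P : Subgroup G).subtype ≤ N := by
  rintro z ⟨z', hz', rfl⟩
  by_contra hzN
  have hPle : (P : Subgroup G) ≤ Subgroup.centralizer ({((P : Subgroup G).subtype z')} : Set G) := by
    intro y hy
    rw [Subgroup.mem_centralizer_iff]
    intro w hw
    rw [Set.mem_singleton_iff] at hw
    subst hw
    have := Subgroup.mem_center_iff.1 hz' ⟨y, hy⟩
    have h2 := congrArg (fun t : (P : Subgroup G) => (t : G)) this
    simpa using h2.symm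
  have hb := gagola_pbound hG χ x₀ hx1 hsupp p N hN hNp P _ hzN (P : Subgroup G) P.isPGroup' hPle
  have hNcard : 1 < Nat.card N := by
    rw [Subgroup.one_lt_card_iff_ne_bot]
    exact hN1
  have hPpos : 0 < Nat.card P := Nat.card_pos
  have : Nat.card P * 1 < Nat.card P * Nat.card N := Nat.mul_lt_mul_of_pos_left hNcard hPpos
  have hPP : Nat.card (P : Subgroup G) = Nat.card P := rfl
  omega



theorem gagola_center_eq_iff [Finite G] (hG : 2 < Nat.card G)
    (χ : Cfsg.IrrCharacter G) (x₀ : G) (hx1 : x₀ ≠ 1) (hx0 : (χ : G → ℂ) x₀ ≠ 0)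
    (hsupp : ∀ g : G, (χ : G → ℂ) g ≠ 0 → g = 1 ∨ IsConj x₀ g)
    (p : ℕ) [Fact p.Prime] (N : Subgroup G) [hNn : N.Normal]
    (hN : ∀ g : G, g ∈ N ↔ (χ : G → ℂ) g ≠ 0) (hNp : IsPGroup p N) (hN1 : N ≠ ⊥)
    (P : Sylow p G) :
    ((Subgroup.center ↥(P : Subgroup G)).map (P : Subgroup G).subtype = N ↔
      (P : Subgroup G).Normal) := by
  have hle := gagola_center_le hG χ x₀ hx1 hsupp p N hN hNp hN1 P
  have hNP : N ≤ (P : Subgroup G) := hNp.le_sylow_of_normal P
  have hx₀N : x₀ ∈ N := (hN x₀).2 hx0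
  constructor
  · intro heq
    -- every element of N is central in P
    have hcent : ∀ n ∈ N, ∀ y ∈ (P : Subgroup G), y * n = n * y := by
      intro n hn y hy
      rw [← heq] at hn
      obtain ⟨n', hn', rfl⟩ := hn
      have := Subgroup.mem_center_iff.1 hn' ⟨y, hy⟩
      have h2 := congrArg (fun t : (P : Subgroup G) => (t : G)) this
      simpa using h2
    -- P = C_G(x) for every nonidentity x in N
    have hPeq : ∀ x ∈ N, x ≠ 1 → (P : Subgroup G) = Subgroup.centralizer ({x} : Set G) := by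
      intro x hxN hx1'
      have hx0' : (χ : G → ℂ) x ≠ 0 := (hN x).1 hxN
      have hconj : IsConj x₀ x := (hsupp x hx0').resolve_left hx1'
      have hsupp' : ∀ g : G, (χ : G → ℂ) g ≠ 0 → g = 1 ∨ IsConj x g := by
        intro g hg
        rcases hsupp g hg with h | h
        · exact Or.inl h
        · exact Or.inr (hconj.symm.trans h)
      have hcard : Nat.card (Subgroup.centralizer ({x} : Set G)) *
          Nat.card {g : G // IsConj x g} = Nat.card G := by
        rw [mul_comm]; exact card_conj_mul_card_centralizer x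
      obtain ⟨h1, h2⟩ := gagola_sylow_criterion hG χ x hx1' hx0' hsupp' p N hN hNp hN1 _ hcard
      have hPle : (P : Subgroup G) ≤ Subgroup.centralizer ({x} : Set G) := by
        intro y hy
        rw [Subgroup.mem_centralizer_iff]
        intro w hw
        rw [Set.mem_singleton_iff] at hw
        subst hw
        exact (hcent w hxN y hy).symm
      exact (P.is_maximal' h1 hPle).symm
    constructor
    intro y hy g
    rw [hPeq x₀ hx₀N hx1, Subgroup.mem_centralizer_iff]
    intro w hw
    rw [Set.mem_singleton_iff] at hw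
    subst hw
    have hmem : g⁻¹ * w * g ∈ N := by
      have := hNn.conj_mem w hx₀N g⁻¹
      rwa [inv_inv] at this
    have hne : g⁻¹ * w * g ≠ 1 := by
      intro h
      apply hx1
      have : w = g * (g⁻¹ * w * g) * g⁻¹ := by group
      rw [this, h]; group
    have hyc : y ∈ Subgroup.centralizer ({g⁻¹ * w * g} : Set G) := by
      rw [← hPeq _ hmem hne]; exact hy
    rw [Subgroup.mem_centralizer_iff] at hyc
    have h3 := hyc _ (Set.mem_singleton _)
    calc w * (g * y * g⁻¹) = g * ((g⁻¹ * w * g) * y) * g⁻¹ := by group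
      _ = g * (y * (g⁻¹ * w * g)) * g⁻¹ := by rw [h3]
      _ = g * y * g⁻¹ * w := by group
  · intro hnormal
    haveI := hnormal
    apply le_antisymm hle
    haveI : ((Subgroup.center ↥(P : Subgroup G)).map (P : Subgroup G).subtype).Normal :=
      ConjAct.normal_of_characteristic_of_normal
    have hPnt : Nontrivial (P : Subgroup G) := by
      rw [Subgroup.nontrivial_iff_ne_bot]
      intro hbot
      apply hN1
      rw [eq_bot_iff, ← hbot]
      exact hNP
    haveI := hPnt
    have hZnt : Nontrivial (Subgroup.center ↥(P : Subgroup G)) :=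
      IsPGroup.center_nontrivial P.isPGroup'
    have hZ1 : (Subgroup.center ↥(P : Subgroup G)).map (P : Subgroup G).subtype ≠ ⊥ := by
      intro hbot
      rw [Subgroup.map_eq_bot_iff_of_injective _ (Subgroup.subtype_injective _)] at hbot
      rw [Subgroup.nontrivial_iff_ne_bot] at hZnt
      exact hZnt hbot
    have hx₀Z := gagola_minimal hG χ x₀ hx1 hsupp _ inferInstance hZ1
    intro n hn
    rcases hsupp n ((hN n).1 hn) with h | h
    · rw [h]; exact Subgroup.one_mem _
    · obtain ⟨c, hc⟩ := isConj_iff.1 h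
      rw [← hc]
      exact (inferInstance : ((Subgroup.center ↥(P : Subgroup G)).map
        (P : Subgroup G).subtype).Normal).conj_mem _ hx₀Z c



theorem gagola_ucs_step [Finite G] (hG : 2 < Nat.card G)
    (χ : Cfsg.IrrCharacter G) (x₀ : G) (hx1 : x₀ ≠ 1)
    (hsupp : ∀ g : G, (χ : G → ℂ) g ≠ 0 → g = 1 ∨ IsConj x₀ g)
    (p : ℕ) [Fact p.Prime] (N : Subgroup G) [hNn : N.Normal]
    (hN : ∀ g : G, g ∈ N ↔ (χ : G → ℂ) g ≠ 0) (hNp : IsPGroup p N)
    (P : Sylow p G) (i : ℕ)
    (hlt : Subgroup.upperCentralSeries ↥(P : Subgroup G) i < N.subgroupOf (P : Subgroup G)) :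
    Subgroup.upperCentralSeries ↥(P : Subgroup G) (i + 1) ≤ N.subgroupOf (P : Subgroup G) := by
  classical
  intro z hz
  rw [Subgroup.mem_subgroupOf]
  by_contra hzN
  have hNP : N ≤ (P : Subgroup G) := hNp.le_sylow_of_normal P
  rw [Subgroup.mem_upperCentralSeries_succ_iff] at hz
  -- class bound
  have hclass : Nat.card {w : (P : Subgroup G) // IsConj z w} ≤
      Nat.card (Subgroup.upperCentralSeries ↥(P : Subgroup G) i) := by
    apply Nat.card_le_card_of_injective
      (fun w : {w : (P : Subgroup G) // IsConj z w} =>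
        (⟨w.1 * z⁻¹, by
          obtain ⟨y, hy⟩ := isConj_iff.1 w.2
          have h1 := hz y
          rw [commutatorElement_def] at h1
          have h2 := Subgroup.inv_mem _ h1
          have : (z * y * z⁻¹ * y⁻¹)⁻¹ = w.1 * z⁻¹ := by rw [← hy]; group
          rwa [this] at h2⟩ : Subgroup.upperCentralSeries ↥(P : Subgroup G) i))
    intro w w' h
    have h' : w.1 * z⁻¹ = w'.1 * z⁻¹ := congrArg Subtype.val h
    exact Subtype.ext (mul_right_cancel h')
  have hltcard : Nat.card (Subgroup.upperCentralSeries ↥(P : Subgroup G) i) < Nat.card N := by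
    have h1 : Nat.card (N.subgroupOf (P : Subgroup G)) = Nat.card N :=
      Nat.card_congr (Subgroup.subgroupOfEquivOfLe hNP).toEquiv
    rw [← h1]
    have hle := Subgroup.card_le_of_le hlt.le
    rcases Nat.lt_or_ge (Nat.card (Subgroup.upperCentralSeries ↥(P : Subgroup G) i))
      (Nat.card (N.subgroupOf (P : Subgroup G))) with h | h
    · exact h
    · exfalso
      exact hlt.ne (Subgroup.eq_of_le_of_card_ge hlt.le h)
  have horb := card_conj_mul_card_centralizer z
  set R : Subgroup G := (Subgroup.centralizer ({z} : Set (P : Subgroup G))).map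
    (P : Subgroup G).subtype with hR
  have hRcard : Nat.card R = Nat.card (Subgroup.centralizer ({z} : Set (P : Subgroup G))) := by
    rw [hR]
    exact Nat.card_congr
      (Subgroup.equivMapOfInjective _ _ (Subgroup.subtype_injective _)).symm.toEquiv
  have hRp : IsPGroup p R := by
    rw [hR]
    exact (P.isPGroup'.to_subgroup _).map _
  have hRz : R ≤ Subgroup.centralizer ({(z : G)} : Set G) := by
    rintro y ⟨y', hy', rfl⟩
    rw [Subgroup.mem_centralizer_iff]
    intro w hw
    rw [Set.mem_singleton_iff] at hw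
    subst hw
    have := (Subgroup.mem_centralizer_iff.1 hy') z (Set.mem_singleton z)
    have h2 := congrArg (fun t : (P : Subgroup G) => (t : G)) this
    simpa using h2
  have hb := gagola_pbound hG χ x₀ hx1 hsupp p N hN hNp P (z : G) hzN R hRp hRz
  rw [hRcard] at hb
  have hPP : Nat.card (P : Subgroup G) = Nat.card P := rfl
  rw [hPP] at horb
  have hCpos : 0 < Nat.card (Subgroup.centralizer ({z} : Set (P : Subgroup G))) := Nat.card_pos
  have h5 : Nat.card {w : (P : Subgroup G) // IsConj z w} *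
      Nat.card (Subgroup.centralizer ({z} : Set (P : Subgroup G))) <
      Nat.card N * Nat.card (Subgroup.centralizer ({z} : Set (P : Subgroup G))) :=
    Nat.mul_lt_mul_of_pos_right (lt_of_le_of_lt hclass hltcard) hCpos
  rw [horb, mul_comm (Nat.card N)] at h5
  omega

theorem gagola_ucs [Finite G] (hG : 2 < Nat.card G)
    (χ : Cfsg.IrrCharacter G) (x₀ : G) (hx1 : x₀ ≠ 1)
    (hsupp : ∀ g : G, (χ : G → ℂ) g ≠ 0 → g = 1 ∨ IsConj x₀ g)
    (p : ℕ) [Fact p.Prime] (N : Subgroup G) [hNn : N.Normal]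
    (hN : ∀ g : G, g ∈ N ↔ (χ : G → ℂ) g ≠ 0) (hNp : IsPGroup p N)
    (P : Sylow p G) :
    ∃ i : ℕ, Subgroup.upperCentralSeries ↥(P : Subgroup G) i = N.subgroupOf (P : Subgroup G) := by
  have key : ∀ i : ℕ, Subgroup.upperCentralSeries ↥(P : Subgroup G) i ≤ N.subgroupOf (P : Subgroup G) ∨
      ∃ j : ℕ, Subgroup.upperCentralSeries ↥(P : Subgroup G) j = N.subgroupOf (P : Subgroup G) := by
    intro i
    induction i with
    | zero =>
      left
      rw [Subgroup.upperCentralSeries_zero]
      exact bot_le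
    | succ i ih =>
      rcases ih with h | h
      · rcases lt_or_eq_of_le h with h1 | h1
        · left
          exact gagola_ucs_step hG χ x₀ hx1 hsupp p N hN hNp P i h1
        · right
          exact ⟨i, h1⟩
      · right; exact h
  haveI : Group.IsNilpotent (P : Subgroup G) := P.isPGroup'.isNilpotent
  obtain ⟨c, hc⟩ := Group.IsNilpotent.nilpotent (G := (P : Subgroup G))
  rcases key c with h | h
  · refine ⟨c, le_antisymm h ?_⟩
    rw [hc]
    exact le_top
  · exact h

end Cfsg.Agent.Lib.Helper25
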