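import Mathlib
import Cfsg.Prelude.Def_Characters
import Cfsg.Prelude.Def_Blocks
import Cfsg.Prelude.Def_CharExt
import Cfsg.Agent.Lib.Helper25.CharLinear
import Cfsg.Agent.Lib.Helper25.CharAbelian
import Cfsg.Agent.Lib.Helper25.DefectZeroCount
import Cfsg.Agent.Lib.helper7.Clifford
import Cfsg.Agent.Lib.helper7.BlockQuot
import Cfsg.Agent.Lib.helper7.ProjExtDet
import Cfsg.Agent.S0867
import Cfsg.Agent.S0856
import Cfsg.Agent.Lib.Helper5.PConstr
import Cfsg.Agent.Lib.Helper1.Cores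
import Cfsg.Agent.Lib.helper2.CharInd
import Cfsg.Agent.Lib.helper2.CharNat
import Cfsg.Agent.Lib.helper7.CliffordSub
import Cfsg.Agent.S0887
import Cfsg.Agent.Lib.Helper22.SpanOrbit
import Cfsg.Agent.Lib.Helper24.QuotDefect2
import Cfsg.Agent.Lib.Helper25.DefectOneTwo
import Cfsg.Agent.Lib.helper7.SecondMain3
import Cfsg.Agent.Lib.helper7.BlockHom
import Cfsg.Agent.S4435
import Cfsg.Agent.S4436
import Cfsg.Agent.S4492
import Cfsg.Agent.S0914

/-!
Heights in blocks of p-solvable groups are at most the exponent of p in |D : Z(D)| for a defect group D (S4439). Contains: determinantal order divides the group order, relative degrees over a normal p'-subgroup with abelian p-quotient (via the coprime extension theorem S0867 and Gallagher S0856), the normal subgroup A = preimage of Z(O_p(G/O_{p'}(G))) and its index, a relative Ito theorem (via S0887), and the Fong-Reynolds induction (S4435, S4436) with Fong's theorem S4492.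
-/

set_option autoImplicit false
set_option linter.style.haveILetI false
set_option linter.unusedVariables false
set_option linter.unusedSectionVars false
set_option warn.classDefReducibility false
set_option maxHeartbeats 1600000

namespace Cfsg.Agent.Lib.Helper25
open Cfsg.Agent.Lib.Helper11
open Cfsg.Agent.Lib.helper2
open Cfsg.Agent.Lib.helper7
open scoped ComplexConjugate
section

/-- The determinantal order of an irreducible character divides the group order. -/
theorem hcz_detOrder_dvd {N : Type*} [Group N] [Finite N] (θ : Cfsg.IrrCharacter N) :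
    Cfsg.detOrder (θ : N → ℂ) ∣ Nat.card N := by
  obtain ⟨m, ρ, hρ, hθ⟩ := θ.2
  haveI := hρ
  unfold Cfsg.detOrder
  apply orderOf_dvd_of_pow_eq_one
  funext n
  rw [Pi.pow_apply, Pi.one_apply, ← hθ, h7_detChar_eq ρ n, ← map_pow, ← map_pow,
    pow_card_eq_one', map_one, map_one]

/-- If `N` is a normal subgroup of order prime to `p` with `H/N` an abelian `p`-group, then every
irreducible character of `H` over an invariant irreducible character `θ` of `N` has the degree of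
`θ`. -/
theorem hcz_rel_degree {H : Type*} [Group H] [Fintype H] (p : ℕ) [hp : Fact p.Prime]
    (N : Subgroup H) [hN : N.Normal] [Fintype N] (hNp : (Nat.card N).Coprime p)
    (hidx : ∃ k : ℕ, N.index = p ^ k) (hab : ∀ a b : H, a * b * a⁻¹ * b⁻¹ ∈ N)
    (θ : Cfsg.IrrCharacter N)
    (hinv : ∀ (g : H) (n : N),
      (θ : N → ℂ) ⟨g * n * g⁻¹, hN.conj_mem n n.2 g⟩ = (θ : N → ℂ) n)
    (η : Cfsg.IrrCharacter H)
    (hcon : Cfsg.classInner (fun n : N => (η : H → ℂ) n) (θ : N → ℂ) ≠ 0) :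
    Cfsg.charDegree (η : H → ℂ) = Cfsg.charDegree (θ : N → ℂ) := by
  classical
  obtain ⟨k, hk⟩ := hidx
  obtain ⟨hd1, hd0⟩ := charDegree_irr θ
  have hddvd := charDegree_dvd_card θ
  have hcop : Nat.Coprime N.index (Cfsg.detOrder (θ : N → ℂ) * Cfsg.charDegree (θ : N → ℂ)) := by
    rw [hk]
    apply Nat.Coprime.pow_left
    apply Nat.Coprime.mul_right
    · exact (Nat.Coprime.coprime_dvd_left (hcz_detOrder_dvd θ) hNp).symm
    · exact (Nat.Coprime.coprime_dvd_left hddvd hNp).symm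
  obtain ⟨χ, ⟨hχirr, hχext, -⟩, -⟩ := Cfsg.Agent.S0867.result N (θ : N → ℂ) θ.2 hinv
    (Cfsg.charDegree (θ : N → ℂ)) hd1.symm hcop
  have htriv : Cfsg.IsIrrCharacter N (fun _ : N => (1 : ℂ)) := by
    have h1 : ((trivIrr N : Cfsg.IrrCharacter N) : N → ℂ) = fun _ => 1 := by
      funext n
      exact trivIrr_apply N n
    rw [← h1]
    exact (trivIrr N).2
  have hmul : (fun _ : N => (1 : ℂ)) * (θ : N → ℂ) = (θ : N → ℂ) := by
    funext n
    simp
  have hbij := Cfsg.Agent.S0856.result N (fun _ : N => (1 : ℂ)) (θ : N → ℂ) htriv θ.2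
    (fun _ _ => rfl) hinv (by rw [hmul]; exact θ.2) χ hχirr hχext
  have hηmem : (η : H → ℂ) ∈ {ψ : H → ℂ | Cfsg.IsIrrCharacter H ψ ∧
      Cfsg.classInner (Cfsg.indFun N ((fun _ : N => (1 : ℂ)) * (θ : N → ℂ))) ψ ≠ 0} := by
    refine ⟨η.2, ?_⟩
    rw [hmul, h7_frobenius_irr N (η : H → ℂ) (h7_irr_isClassFunction η.2) (θ : N → ℂ)]
    intro h0
    apply hcon
    have := congrArg conj h0
    simpa using this
  obtain ⟨β, ⟨hβirr, hβcon⟩, hβη⟩ := hbij.surjOn hηmem
  -- `β` is trivial on `N`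
  have hβcon' : Cfsg.classInner (fun n : N => β n) ((trivIrr N : Cfsg.IrrCharacter N) : N → ℂ) ≠ 0 := by
    rw [h7_frobenius_irr N β (h7_irr_isClassFunction hβirr) (fun _ : N => (1 : ℂ))] at hβcon
    intro h0
    apply hβcon
    have h1 : ((trivIrr N : Cfsg.IrrCharacter N) : N → ℂ) = fun _ => 1 := by
      funext n
      exact trivIrr_apply N n
    rw [h1] at h0
    rw [h0, map_zero]
  have hinvt : ∀ g : H, cj N ((trivIrr N : Cfsg.IrrCharacter N) : N → ℂ) g =
      ((trivIrr N : Cfsg.IrrCharacter N) : N → ℂ) := by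
    intro g
    funext m
    rfl
  obtain ⟨e, he, -, hres⟩ := h7_clifford_invariant N β hβirr
    ((trivIrr N : Cfsg.IrrCharacter N) : N → ℂ) (trivIrr N).2 hβcon' hinvt
  have hβN : ∀ n ∈ N, β n = β 1 := by
    intro n hn
    have h1 := congrFun hres ⟨n, hn⟩
    have h2 := congrFun hres 1
    simp only [Pi.smul_apply, trivIrr_apply, smul_eq_mul, mul_one] at h1 h2
    rw [h1]
    exact h2.symm
  obtain ⟨φ, hφ⟩ := h7_deflate N (⟨β, hβirr⟩ : Cfsg.IrrCharacter H) hβN
  letI : CommGroup (H ⧸ N) :=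
    { (inferInstance : Group (H ⧸ N)) with
      mul_comm := by
        intro a b
        obtain ⟨a, rfl⟩ := QuotientGroup.mk_surjective a
        obtain ⟨b, rfl⟩ := QuotientGroup.mk_surjective b
        rw [← QuotientGroup.mk_mul, ← QuotientGroup.mk_mul, QuotientGroup.eq]
        have h1 := hab b⁻¹ a⁻¹
        have h2 : (a * b)⁻¹ * (b * a) = b⁻¹ * a⁻¹ * b⁻¹⁻¹ * a⁻¹⁻¹ := by group
        rw [h2]
        exact h1 }
  have hφ1 : (φ : H ⧸ N → ℂ) 1 = 1 := irr_one_of_comm φ
  have hβ1 : β 1 = 1 := by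
    have h9 : (φ : H ⧸ N → ℂ) 1 = β 1 := hφ 1
    rw [← h9]
    exact hφ1
  have hη1 : (η : H → ℂ) 1 = (θ : N → ℂ) 1 := by
    rw [← hβη]
    show β 1 * χ 1 = (θ : N → ℂ) 1
    rw [hβ1, one_mul]
    exact hχext 1
  obtain ⟨he1, -⟩ := charDegree_irr η
  have : ((Cfsg.charDegree (η : H → ℂ) : ℕ) : ℂ) = ((Cfsg.charDegree (θ : N → ℂ) : ℕ) : ℂ) := by
    rw [he1, hd1, hη1]
  exact_mod_cast this

end

section

/-- In a `p`-solvable group `G` with `K = O_{p'}(G)` and Sylow `p`-subgroup `P`, the preimage `A` of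
`Z(O_p(G/K))` is a normal subgroup with `A/K` an abelian `p`-group and the `p`-part of `|G : A|` at
most `|P : Z(P)|`. -/
theorem hcz_exists_A {G : Type*} [Group G] [Finite G] (p : ℕ) [hp : Fact p.Prime]
    (hsolv : Cfsg.IsPSolvable p G) (P : Sylow p G) :
    ∃ A : Subgroup G, A.Normal ∧ Cfsg.pPrimeCore p G ≤ A ∧
      (∃ k : ℕ, (Cfsg.pPrimeCore p G).relIndex A = p ^ k) ∧
      (∀ a ∈ A, ∀ b ∈ A, a * b * a⁻¹ * b⁻¹ ∈ Cfsg.pPrimeCore p G) ∧
      (A.index).factorization p ≤ ((Subgroup.center (P : Subgroup G)).index).factorization p := by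
  classical
  haveI hKn : (Cfsg.pPrimeCore p G).Normal := Cfsg.Agent.Lib.Helper1.pPrimeCore_normal p
  have hKcop : (Nat.card ↥(Cfsg.pPrimeCore p G)).Coprime p :=
    Cfsg.Agent.Lib.Helper1.pPrimeCore_card_coprime p
  have hπ : Function.Surjective (QuotientGroup.mk' (Cfsg.pPrimeCore p G)) :=
    QuotientGroup.mk'_surjective _
  have hsolvX : Cfsg.IsPSolvable p (G ⧸ Cfsg.pPrimeCore p G) :=
    Cfsg.Agent.Lib.Helper5.h5_isPSolvable_of_surjective _ hπ hsolv
  have hO : Cfsg.pPrimeCore p (G ⧸ Cfsg.pPrimeCore p G) = ⊥ :=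
    Cfsg.Agent.Lib.Helper1.pPrimeCore_quotient_eq_bot p
  have hC := Cfsg.Agent.Lib.Helper5.h5_centralizer_pCore_le hsolvX hO
  have hQp : IsPGroup p ↥(Cfsg.pCore p (G ⧸ Cfsg.pPrimeCore p G)) :=
    Cfsg.Agent.Lib.Helper1.pCore_isPGroup p
  haveI hCn : (Subgroup.centralizer
      (Cfsg.pCore p (G ⧸ Cfsg.pPrimeCore p G) : Set (G ⧸ Cfsg.pPrimeCore p G))).Normal :=
    Subgroup.normal_centralizer
  set AX : Subgroup (G ⧸ Cfsg.pPrimeCore p G) := Cfsg.pCore p (G ⧸ Cfsg.pPrimeCore p G) ⊓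
    Subgroup.centralizer
      (Cfsg.pCore p (G ⧸ Cfsg.pPrimeCore p G) : Set (G ⧸ Cfsg.pPrimeCore p G)) with hAX
  haveI hAXn : AX.Normal := Subgroup.normal_inf_normal _ _
  have hAXp : IsPGroup p AX := hQp.to_le inf_le_left
  refine ⟨AX.comap (QuotientGroup.mk' (Cfsg.pPrimeCore p G)), Subgroup.Normal.comap hAXn _, ?_,
    ?_, ?_, ?_⟩
  · intro x hx
    rw [Subgroup.mem_comap]
    have : QuotientGroup.mk' (Cfsg.pPrimeCore p G) x = 1 := (QuotientGroup.eq_one_iff x).mpr hx
    rw [this]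
    exact Subgroup.one_mem _
  · have h2 : (Cfsg.pPrimeCore p G) =
        (⊥ : Subgroup (G ⧸ Cfsg.pPrimeCore p G)).comap
          (QuotientGroup.mk' (Cfsg.pPrimeCore p G)) := by
      rw [MonoidHom.comap_bot, QuotientGroup.ker_mk']
    have h3 : (Cfsg.pPrimeCore p G).relIndex
        (AX.comap (QuotientGroup.mk' (Cfsg.pPrimeCore p G))) = Nat.card ↥AX := by
      have h4 : (Cfsg.pPrimeCore p G).relIndex
          (AX.comap (QuotientGroup.mk' (Cfsg.pPrimeCore p G))) =
          ((⊥ : Subgroup (G ⧸ Cfsg.pPrimeCore p G)).comap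
            (QuotientGroup.mk' (Cfsg.pPrimeCore p G))).relIndex
          (AX.comap (QuotientGroup.mk' (Cfsg.pPrimeCore p G))) := by
        rw [← h2]
      rw [h4, Subgroup.relIndex_comap, Subgroup.relIndex_bot_left,
        Subgroup.map_comap_eq_self_of_surjective hπ]
    obtain ⟨k, hk⟩ := IsPGroup.iff_card.mp hAXp
    exact ⟨k, by rw [h3, hk]⟩
  · intro a ha b hb
    rw [Subgroup.mem_comap] at ha hb
    rw [← QuotientGroup.eq_one_iff]
    have h1 : QuotientGroup.mk' (Cfsg.pPrimeCore p G) b *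
        QuotientGroup.mk' (Cfsg.pPrimeCore p G) a =
        QuotientGroup.mk' (Cfsg.pPrimeCore p G) a *
        QuotientGroup.mk' (Cfsg.pPrimeCore p G) b :=
      Subgroup.mem_centralizer_iff.mp ha.2 _ hb.1
    show QuotientGroup.mk' (Cfsg.pPrimeCore p G) (a * b * a⁻¹ * b⁻¹) = 1
    rw [map_mul, map_mul, map_mul, map_inv, map_inv, ← h1]
    group
  · -- the index computation
    have hidx : (AX.comap (QuotientGroup.mk' (Cfsg.pPrimeCore p G))).index = AX.index :=
      Subgroup.index_comap_of_surjective AX hπ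
    rw [hidx]
    have hXcard : Nat.card (G ⧸ Cfsg.pPrimeCore p G) = AX.index * Nat.card ↥AX :=
      (Subgroup.index_mul_card AX).symm
    have hGcard : Nat.card G = Nat.card (G ⧸ Cfsg.pPrimeCore p G) *
        Nat.card ↥(Cfsg.pPrimeCore p G) :=
      Subgroup.card_eq_card_quotient_mul_card_subgroup _
    have hPcard : Nat.card ↥(P : Subgroup G) = p ^ (Nat.card G).factorization p :=
      Sylow.card_eq_multiplicity P
    have hPZ : Nat.card ↥(P : Subgroup G) = (Subgroup.center ↥(P : Subgroup G)).index *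
        Nat.card ↥(Subgroup.center ↥(P : Subgroup G)) :=
      (Subgroup.index_mul_card _).symm
    -- the embedding of `Z(P)` into `AX`
    have hmem : ∀ z : ↥(P : Subgroup G), z ∈ Subgroup.center ↥(P : Subgroup G) →
        QuotientGroup.mk' (Cfsg.pPrimeCore p G) (z : G) ∈ AX := by
      intro z hz
      have hcent : QuotientGroup.mk' (Cfsg.pPrimeCore p G) (z : G) ∈ Subgroup.centralizer
          (Cfsg.pCore p (G ⧸ Cfsg.pPrimeCore p G) : Set (G ⧸ Cfsg.pPrimeCore p G)) := by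
        rw [Subgroup.mem_centralizer_iff]
        intro y hy
        have hle := Cfsg.Agent.Lib.Helper1.pCore_le_sylow p (P.mapSurjective hπ)
        have hy' : y ∈ (P : Subgroup G).map (QuotientGroup.mk' (Cfsg.pPrimeCore p G)) := hle hy
        obtain ⟨u, hu, rfl⟩ := Subgroup.mem_map.mp hy'
        have hcomm := Subgroup.mem_center_iff.mp hz ⟨u, hu⟩
        have hcomm' : u * (z : G) = (z : G) * u := congrArg Subtype.val hcomm
        rw [← map_mul, ← map_mul, hcomm']
      exact ⟨hC hcent, hcent⟩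
    let f : ↥(Subgroup.center ↥(P : Subgroup G)) →* ↥AX :=
      ((QuotientGroup.mk' (Cfsg.pPrimeCore p G)).comp
        ((P : Subgroup G).subtype.comp (Subgroup.center ↥(P : Subgroup G)).subtype)).codRestrict AX
        (fun z => hmem z.1 z.2)
    have hf : Function.Injective f := by
      rw [injective_iff_map_eq_one]
      intro z hz
      have h1 : QuotientGroup.mk' (Cfsg.pPrimeCore p G) ((z : ↥(P : Subgroup G)) : G) = 1 :=
        congrArg Subtype.val hz
      have h2 : ((z : ↥(P : Subgroup G)) : G) ∈ Cfsg.pPrimeCore p G :=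
        (QuotientGroup.eq_one_iff _).mp h1
      have h3 : ((z : ↥(P : Subgroup G)) : G) = 1 :=
        Cfsg.Agent.Lib.Helper5.h5_eq_one_of_mem_pgroup_of_mem_coprime P.isPGroup' hKcop
          (z : ↥(P : Subgroup G)).2 h2
      apply Subtype.ext
      apply Subtype.ext
      exact h3
    have hdvd : Nat.card ↥(Subgroup.center ↥(P : Subgroup G)) ∣ Nat.card ↥AX :=
      Subgroup.card_dvd_of_injective f hf
    -- valuations
    have hAXi : AX.index ≠ 0 := Subgroup.index_ne_zero_of_finite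
    have hZi : (Subgroup.center ↥(P : Subgroup G)).index ≠ 0 := Subgroup.index_ne_zero_of_finite
    have hAXc : Nat.card ↥AX ≠ 0 := Nat.card_pos.ne'
    have hZc : Nat.card ↥(Subgroup.center ↥(P : Subgroup G)) ≠ 0 := Nat.card_pos.ne'
    have hKc : Nat.card ↥(Cfsg.pPrimeCore p G) ≠ 0 := Nat.card_pos.ne'
    have hXc : Nat.card (G ⧸ Cfsg.pPrimeCore p G) ≠ 0 := Nat.card_pos.ne'
    have v1 : (Nat.card (G ⧸ Cfsg.pPrimeCore p G)).factorization p =
        (AX.index).factorization p + (Nat.card ↥AX).factorization p := by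
      rw [hXcard, Nat.factorization_mul hAXi hAXc]
      rfl
    have v2 : (Nat.card G).factorization p =
        (Nat.card (G ⧸ Cfsg.pPrimeCore p G)).factorization p := by
      rw [hGcard, Nat.factorization_mul hXc hKc]
      have : (Nat.card ↥(Cfsg.pPrimeCore p G)).factorization p = 0 := by
        apply Nat.factorization_eq_zero_of_not_dvd
        exact (Nat.Prime.coprime_iff_not_dvd hp.out).mp hKcop.symm
      simp [this]
    have v3 : (Nat.card ↥(P : Subgroup G)).factorization p = (Nat.card G).factorization p := by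
      rw [hPcard, Nat.Prime.factorization_pow hp.out]
      simp
    have v4 : (Nat.card ↥(P : Subgroup G)).factorization p =
        ((Subgroup.center ↥(P : Subgroup G)).index).factorization p +
        (Nat.card ↥(Subgroup.center ↥(P : Subgroup G))).factorization p := by
      rw [hPZ, Nat.factorization_mul hZi hZc]
      rfl
    have v5 : (Nat.card ↥(Subgroup.center ↥(P : Subgroup G))).factorization p ≤
        (Nat.card ↥AX).factorization p :=
      (Nat.factorization_le_iff_dvd hZc hAXc).mpr hdvd p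
    omega

end

section

/-- Some irreducible constituent of the restriction of `χ` to `A` lies over `θ`. -/
theorem hcz_exists_middle {G : Type*} [Group G] [Fintype G] (K A : Subgroup G) [Fintype K]
    [Fintype A] [Fintype (K.subgroupOf A)] (hKA : K ≤ A) (θ : Cfsg.IrrCharacter K)
    (χ : Cfsg.IrrCharacter G)
    (hcon : Cfsg.classInner (fun n : K => (χ : G → ℂ) n) (θ : K → ℂ) ≠ 0) :
    ∃ η : Cfsg.IrrCharacter A,
      Cfsg.classInner (fun a : A => (χ : G → ℂ) a) (η : A → ℂ) ≠ 0 ∧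
      Cfsg.classInner (fun k : K.subgroupOf A => (η : A → ℂ) k)
        (fun k : K.subgroupOf A => (θ : K → ℂ) (Subgroup.subgroupOfEquivOfLe hKA k)) ≠ 0 := by
  classical
  haveI : Fintype (Cfsg.IrrCharacter A) := Fintype.ofFinite _
  have hψ : Cfsg.IsCharacter A (fun a : A => (χ : G → ℂ) a) :=
    isCharacter_restrict (isCharacter_of_irr χ) A
  obtain ⟨m, hm, hexp⟩ := isCharacter_expansion hψ
  by_contra hall
  push Not at hall
  apply hcon
  have h1 := h7_classInner_comp_equiv (Subgroup.subgroupOfEquivOfLe hKA)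
    (fun n : K => (χ : G → ℂ) n) (θ : K → ℂ)
  rw [← h1]
  have h2 : ∀ k : K.subgroupOf A,
      (χ : G → ℂ) ((Subgroup.subgroupOfEquivOfLe hKA k : K) : G) =
      ∑ η : Cfsg.IrrCharacter A, (m η : ℂ) * (η : A → ℂ) (k : A) := by
    intro k
    have h3 := congrFun hexp (k : A)
    rw [Finset.sum_apply] at h3
    simp only [Pi.smul_apply, smul_eq_mul] at h3
    rw [← h3]
    rfl
  have hterm : ∀ η : Cfsg.IrrCharacter A, ∑ k : K.subgroupOf A, (m η : ℂ) * (η : A → ℂ) (k : A) *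
      conj ((θ : K → ℂ) (Subgroup.subgroupOfEquivOfLe hKA k)) = 0 := by
    intro η
    by_cases hmη : m η = 0
    · simp [hmη]
    · have h4 := hall η (by rw [hm η]; exact_mod_cast hmη)
      unfold Cfsg.classInner at h4
      have h5 : ∑ k : K.subgroupOf A, (η : A → ℂ) (k : A) *
          conj ((θ : K → ℂ) (Subgroup.subgroupOfEquivOfLe hKA k)) = 0 := by
        rcases mul_eq_zero.mp h4 with h6 | h6
        · exfalso
          have : (Nat.card ↥(K.subgroupOf A) : ℂ) ≠ 0 := by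
            exact_mod_cast (Nat.card_pos (α := ↥(K.subgroupOf A))).ne'
          exact inv_ne_zero this h6
        · exact h6
      calc ∑ k : K.subgroupOf A, (m η : ℂ) * (η : A → ℂ) (k : A) *
            conj ((θ : K → ℂ) (Subgroup.subgroupOfEquivOfLe hKA k))
          = (m η : ℂ) * ∑ k : K.subgroupOf A, (η : A → ℂ) (k : A) *
            conj ((θ : K → ℂ) (Subgroup.subgroupOfEquivOfLe hKA k)) := by
            rw [Finset.mul_sum]
            refine Finset.sum_congr rfl fun k _ => ?_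
            ring
        _ = 0 := by rw [h5, mul_zero]
  have hsum : ∑ k : K.subgroupOf A,
      (χ : G → ℂ) ((Subgroup.subgroupOfEquivOfLe hKA k : K) : G) *
      conj ((θ : K → ℂ) (Subgroup.subgroupOfEquivOfLe hKA k)) = 0 := by
    calc ∑ k : K.subgroupOf A, (χ : G → ℂ) ((Subgroup.subgroupOfEquivOfLe hKA k : K) : G) *
          conj ((θ : K → ℂ) (Subgroup.subgroupOfEquivOfLe hKA k))
        = ∑ k : K.subgroupOf A, ∑ η : Cfsg.IrrCharacter A, (m η : ℂ) * (η : A → ℂ) (k : A) *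
          conj ((θ : K → ℂ) (Subgroup.subgroupOfEquivOfLe hKA k)) := by
          refine Finset.sum_congr rfl fun k _ => ?_
          rw [h2 k, Finset.sum_mul]
      _ = ∑ η : Cfsg.IrrCharacter A, ∑ k : K.subgroupOf A, (m η : ℂ) * (η : A → ℂ) (k : A) *
          conj ((θ : K → ℂ) (Subgroup.subgroupOfEquivOfLe hKA k)) := Finset.sum_comm
      _ = 0 := Finset.sum_eq_zero (fun η _ => hterm η)
  unfold Cfsg.classInner
  show _ * (∑ k : K.subgroupOf A,
      (χ : G → ℂ) ((Subgroup.subgroupOfEquivOfLe hKA k : K) : G) *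
      conj ((θ : K → ℂ) (Subgroup.subgroupOfEquivOfLe hKA k))) = 0
  rw [hsum, mul_zero]

/-- Relative Ito: if `K ≤ A` are normal in `G`, `K` has order prime to `p`, `A/K` is an abelian
`p`-group and `χ` lies over a `G`-invariant irreducible character of `K`, then the `p`-part of
`χ(1)` divides `|G : A|`. -/
theorem hcz_degree_val {G : Type*} [Group G] [Fintype G] (p : ℕ) [hp : Fact p.Prime]
    (K A : Subgroup G) [hK : K.Normal] [hA : A.Normal] [Fintype K] (hKA : K ≤ A)
    (hKp : (Nat.card K).Coprime p) (hidx : ∃ k : ℕ, K.relIndex A = p ^ k)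
    (hab : ∀ a ∈ A, ∀ b ∈ A, a * b * a⁻¹ * b⁻¹ ∈ K) (θ : Cfsg.IrrCharacter K)
    (hinv : ∀ (g : G) (n : K),
      (θ : K → ℂ) ⟨g * n * g⁻¹, hK.conj_mem n n.2 g⟩ = (θ : K → ℂ) n)
    (χ : Cfsg.IrrCharacter G)
    (hcon : Cfsg.classInner (fun n : K => (χ : G → ℂ) n) (θ : K → ℂ) ≠ 0) :
    (Cfsg.charDegree (χ : G → ℂ)).factorization p ≤ (A.index).factorization p := by
  classical
  haveI : Fintype A := Fintype.ofFinite _
  haveI : Fintype (K.subgroupOf A) := Fintype.ofFinite _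
  obtain ⟨η, hη1, hη2⟩ := hcz_exists_middle K A hKA θ χ hcon
  let e := Subgroup.subgroupOfEquivOfLe hKA
  let θ' : Cfsg.IrrCharacter (K.subgroupOf A) :=
    ⟨fun k => (θ : K → ℂ) (e k), h7_isIrr_comp_equiv e (θ : K → ℂ) θ.2⟩
  haveI hK'n : (K.subgroupOf A).Normal := Subgroup.normal_subgroupOf
  have hcard : Nat.card ↥(K.subgroupOf A) = Nat.card K := Nat.card_congr e.toEquiv
  have hdegE : Cfsg.charDegree (η : A → ℂ) = Cfsg.charDegree (θ' : K.subgroupOf A → ℂ) := by
    apply hcz_rel_degree p (K.subgroupOf A) (by rw [hcard]; exact hKp) hidx _ θ' _ η hη2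
    · intro a b
      rw [Subgroup.mem_subgroupOf]
      have := hab (a : G) a.2 (b : G) b.2
      simpa using this
    · intro g n
      have h1 := hinv (g : G) (e n)
      show (θ : K → ℂ) (e ⟨g * n * g⁻¹, _⟩) = (θ : K → ℂ) (e n)
      rw [← h1]
      congr 1
  have hdegθ : Cfsg.charDegree (θ' : K.subgroupOf A → ℂ) = Cfsg.charDegree (θ : K → ℂ) := by
    have h1 := (charDegree_irr θ').1
    have h2 := (charDegree_irr θ).1
    have h3 : (θ' : K.subgroupOf A → ℂ) 1 = (θ : K → ℂ) 1 := by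
      show (θ : K → ℂ) (e 1) = (θ : K → ℂ) 1
      rw [map_one]
    have : ((Cfsg.charDegree (θ' : K.subgroupOf A → ℂ) : ℕ) : ℂ) =
        ((Cfsg.charDegree (θ : K → ℂ) : ℕ) : ℂ) := by rw [h1, h2, h3]
    exact_mod_cast this
  obtain ⟨hc1, hc0⟩ := charDegree_irr χ
  obtain ⟨hd1, hd0⟩ := charDegree_irr η
  obtain ⟨hdvd, hquot⟩ := Cfsg.Agent.S0887.result A (χ : G → ℂ) χ.2 (η : A → ℂ) η.2 hη1
    (Cfsg.charDegree (χ : G → ℂ)) (Cfsg.charDegree (η : A → ℂ)) hc1.symm hd1.symm
  have hpd : ¬ p ∣ Cfsg.charDegree (η : A → ℂ) := by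
    rw [hdegE, hdegθ]
    intro h
    have h1 : p ∣ Nat.card K := dvd_trans h (charDegree_dvd_card θ)
    exact (Nat.Prime.coprime_iff_not_dvd hp.out).mp hKp.symm h1
  have hmul : Cfsg.charDegree (χ : G → ℂ) = Cfsg.charDegree (η : A → ℂ) *
      (Cfsg.charDegree (χ : G → ℂ) / Cfsg.charDegree (η : A → ℂ)) :=
    (Nat.mul_div_cancel' hdvd).symm
  have hq0 : Cfsg.charDegree (χ : G → ℂ) / Cfsg.charDegree (η : A → ℂ) ≠ 0 := by
    intro h0
    rw [h0, mul_zero] at hmul
    omega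
  have hAi : A.index ≠ 0 := Subgroup.index_ne_zero_of_finite
  have v1 : (Cfsg.charDegree (χ : G → ℂ)).factorization p =
      (Cfsg.charDegree (χ : G → ℂ) / Cfsg.charDegree (η : A → ℂ)).factorization p := by
    conv_lhs => rw [hmul]
    rw [Nat.factorization_mul hd0.ne' hq0]
    have : (Cfsg.charDegree (η : A → ℂ)).factorization p = 0 :=
      Nat.factorization_eq_zero_of_not_dvd hpd
    simp [this]
  rw [v1]
  exact (Nat.factorization_le_iff_dvd hq0 hAi).mpr hquot p

/-- The core estimate: in a `p`-solvable group, a character lying over an invariant character of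
`O_{p'}(G)` has `p`-part of its degree at most `|P : Z(P)|`. -/
theorem hcz_core {G : Type*} [Group G] [Fintype G] (p : ℕ) [hp : Fact p.Prime]
    (hsolv : Cfsg.IsPSolvable p G) (K : Subgroup G) [hK : K.Normal] [Fintype K]
    (hKdef : K = Cfsg.pPrimeCore p G) (θ : Cfsg.IrrCharacter K)
    (hinv : ∀ (g : G) (n : K),
      (θ : K → ℂ) ⟨g * n * g⁻¹, hK.conj_mem n n.2 g⟩ = (θ : K → ℂ) n)
    (χ : Cfsg.IrrCharacter G)
    (hcon : Cfsg.classInner (fun n : K => (χ : G → ℂ) n) (θ : K → ℂ) ≠ 0) (P : Sylow p G) :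
    (Cfsg.charDegree (χ : G → ℂ)).factorization p ≤
      ((Subgroup.center ↥(P : Subgroup G)).index).factorization p := by
  subst hKdef
  obtain ⟨A, hAn, hKA, hidx, hab, hval⟩ := hcz_exists_A p hsolv P
  haveI := hAn
  have hKp : (Nat.card ↥(Cfsg.pPrimeCore p G)).Coprime p :=
    Cfsg.Agent.Lib.Helper1.pPrimeCore_card_coprime p
  exact le_trans (hcz_degree_val p (Cfsg.pPrimeCore p G) A hKA hKp hidx hab θ hinv χ hcon) hval

end

section

universe u

/-- The inertia subgroup of a character of a normal subgroup. -/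
def hcz_inertia {G : Type*} [Group G] (N : Subgroup G) [hN : N.Normal] (ϑ : N → ℂ) : Subgroup G where
  carrier := {g | cj N ϑ g = ϑ}
  mul_mem' := by
    intro g h hg hh
    show cj N ϑ (g * h) = ϑ
    funext n
    have h1 := congrFun hg ⟨h * n * h⁻¹, hN.conj_mem (n : G) n.2 h⟩
    have h2 := congrFun hh n
    rw [cj_apply] at h1 h2 ⊢
    rw [← h2, ← h1]
    congr 1
    apply Subtype.ext
    simp only
    group
  one_mem' := by
    show cj N ϑ 1 = ϑ
    exact cj_one N ϑ
  inv_mem' := by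
    intro g hg
    show cj N ϑ g⁻¹ = ϑ
    funext n
    have h1 := congrFun hg ⟨g⁻¹ * n * g⁻¹⁻¹, hN.conj_mem (n : G) n.2 g⁻¹⟩
    rw [cj_apply] at h1 ⊢
    rw [← h1]
    congr 1
    apply Subtype.ext
    simp only
    group

theorem hcz_mem_inertia {G : Type*} [Group G] (N : Subgroup G) [hN : N.Normal] (ϑ : N → ℂ) (g : G) :
    g ∈ hcz_inertia N ϑ ↔ ∀ n : N, ϑ ⟨g * n * g⁻¹, hN.conj_mem n n.2 g⟩ = ϑ n := by
  constructor
  · intro h n
    exact congrFun h n
  · intro h
    funext n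
    exact h n

/-- The index of the centre is invariant under isomorphism. -/
theorem hcz_center_index_congr {A B : Type*} [Group A] [Group B] [Finite A] (e : A ≃* B) :
    (Subgroup.center A).index = (Subgroup.center B).index := by
  haveI : Finite B := Finite.of_equiv A e.toEquiv
  have h1 : Nat.card A = Nat.card B := Nat.card_congr e.toEquiv
  have h2 : Nat.card (Subgroup.center A) = Nat.card (Subgroup.center B) :=
    Nat.card_congr (Subgroup.centerCongr e).toEquiv
  have h3 := Subgroup.index_mul_card (Subgroup.center A)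
  have h4 := Subgroup.index_mul_card (Subgroup.center B)
  have h5 : Nat.card (Subgroup.center B) ≠ 0 := Nat.card_pos.ne'
  rw [h1, h2, ← h4] at h3
  exact Nat.eq_of_mul_eq_mul_right (Nat.pos_of_ne_zero h5) h3

/-- Two blocks containing a common character coincide. -/
theorem hcz_block_eq {G : Type*} [Group G] [Fintype G] {M : Ideal Cfsg.AlgInt} (hPr : M.IsPrime)
    (B₁ B₂ : Set (Cfsg.IrrCharacter G)) (h₁ : Cfsg.IsPBlock M B₁) (h₂ : Cfsg.IsPBlock M B₂)
    (χ : Cfsg.IrrCharacter G) (hχ₁ : χ ∈ B₁) (hχ₂ : χ ∈ B₂) : B₁ = B₂ := by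
  haveI : Fintype (Cfsg.IrrCharacter G) := Fintype.ofFinite _
  obtain ⟨χ₁, rfl⟩ := h₁
  obtain ⟨χ₂, rfl⟩ := h₂
  rw [h7_blockOf_eq_of_mem hPr χ₁ χ hχ₁, h7_blockOf_eq_of_mem hPr χ₂ χ hχ₂]

/-- Heights in blocks of `p`-solvable groups are bounded by the index of the centre of a defect
group. -/
theorem hcz_main (p : ℕ) [hp : Fact p.Prime] (M : Ideal Cfsg.AlgInt) (hM : Cfsg.IsPModular p M) :
    ∀ (n : ℕ) (G : Type u) [Group G] [Fintype G], Nat.card G = n → Cfsg.IsPSolvable p G →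
      ∀ (B : Set (Cfsg.IrrCharacter G)), Cfsg.IsPBlock M B → ∀ (P : Subgroup G),
      Cfsg.IsDefectGroup p M B P → ∀ χ : Cfsg.IrrCharacter G, χ ∈ B →
      Cfsg.blockHeight p B (χ : G → ℂ) ≤ ((Subgroup.center ↥P).index).factorization p := by
  intro n
  induction n using Nat.strong_induction_on with
  | _ n ih =>
  intro G _ _ hcard hsolv B hB P hP χ hχ
  classical
  have hPr : M.IsPrime := hM.2.1.isPrime
  haveI : Fintype (Cfsg.IrrCharacter G) := Fintype.ofFinite _
  haveI hKn : (Cfsg.pPrimeCore p G).Normal := Cfsg.Agent.Lib.Helper1.pPrimeCore_normal p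
  haveI : Fintype ↥(Cfsg.pPrimeCore p G) := Fintype.ofFinite _
  have hKcop : (Nat.card ↥(Cfsg.pPrimeCore p G)).Coprime p :=
    Cfsg.Agent.Lib.Helper1.pPrimeCore_card_coprime p
  -- a constituent `θ` of the restriction to `K`
  have hψ : Cfsg.IsCharacter ↥(Cfsg.pPrimeCore p G)
      (fun k : ↥(Cfsg.pPrimeCore p G) => (χ : G → ℂ) k) :=
    isCharacter_restrict (isCharacter_of_irr χ) _
  obtain ⟨hc1, hc0⟩ := charDegree_irr χ
  have hψ1 : (fun k : ↥(Cfsg.pPrimeCore p G) => (χ : G → ℂ) k) 1 ≠ 0 := by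
    show (χ : G → ℂ) 1 ≠ 0
    rw [← hc1]
    exact_mod_cast hc0.ne'
  obtain ⟨θ, m, hm0, hmθ⟩ := isCharacter_exists_constituent hψ hψ1
  have hcon : Cfsg.classInner (fun k : ↥(Cfsg.pPrimeCore p G) => (χ : G → ℂ) k)
      (θ : ↥(Cfsg.pPrimeCore p G) → ℂ) ≠ 0 := by
    rw [hmθ]
    exact_mod_cast hm0.ne'
  -- the block `{θ}`
  have hθdvd := charDegree_dvd_card θ
  have hb : Cfsg.IsPBlock M ({θ} : Set (Cfsg.IrrCharacter ↥(Cfsg.pPrimeCore p G))) := by
    refine ⟨θ, ?_⟩
    symm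
    rw [← Cfsg.Agent.S0914.result p M hM θ]
    intro h
    have h1 : p ∣ Nat.card ↥(Cfsg.pPrimeCore p G) :=
      dvd_trans h (Nat.div_dvd_of_dvd hθdvd)
    exact (Nat.Prime.coprime_iff_not_dvd hp.out).mp hKcop.symm h1
  -- the inertia group
  set T : Subgroup G := hcz_inertia (Cfsg.pPrimeCore p G) (θ : ↥(Cfsg.pPrimeCore p G) → ℂ) with hTdef
  haveI : Fintype T := Fintype.ofFinite _
  have hT : ∀ g : G, g ∈ T ↔ ∀ θ₁ ∈ ({θ} : Set (Cfsg.IrrCharacter ↥(Cfsg.pPrimeCore p G))),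
      ∀ θ' : Cfsg.IrrCharacter ↥(Cfsg.pPrimeCore p G),
      (∀ k : ↥(Cfsg.pPrimeCore p G), (θ' : ↥(Cfsg.pPrimeCore p G) → ℂ) k =
        (θ₁ : ↥(Cfsg.pPrimeCore p G) → ℂ) ⟨g * k * g⁻¹, hKn.conj_mem k k.2 g⟩) →
      θ' ∈ ({θ} : Set (Cfsg.IrrCharacter ↥(Cfsg.pPrimeCore p G))) := by
    intro g
    rw [hcz_mem_inertia]
    constructor
    · intro hg θ₁ hθ₁ θ' hθ'
      rw [Set.mem_singleton_iff] at hθ₁ ⊢
      subst hθ₁
      apply Subtype.ext
      funext k
      rw [hθ' k, hg k]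
    · intro hg k
      have h1 := hg θ rfl ⟨cj (Cfsg.pPrimeCore p G) (θ : ↥(Cfsg.pPrimeCore p G) → ℂ) g,
        isIrr_cj _ _ θ.2 g⟩ (fun k => rfl)
      rw [Set.mem_singleton_iff] at h1
      have h2 := congrArg (fun t : Cfsg.IrrCharacter ↥(Cfsg.pPrimeCore p G) =>
        (t : ↥(Cfsg.pPrimeCore p G) → ℂ) k) h1
      exact h2
  have hKT : Cfsg.pPrimeCore p G ≤ T := by
    intro x hx
    rw [hTdef, hcz_mem_inertia]
    intro k
    have hcl := h7_irr_isClassFunction θ.2
    have h1 := hcl k ⟨x, hx⟩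
    rw [← h1]
    congr 1
  by_cases hTtop : T = ⊤
  · -- the invariant case
    have hinv : ∀ (g : G) (k : ↥(Cfsg.pPrimeCore p G)),
        (θ : ↥(Cfsg.pPrimeCore p G) → ℂ) ⟨g * k * g⁻¹, hKn.conj_mem k k.2 g⟩ =
        (θ : ↥(Cfsg.pPrimeCore p G) → ℂ) k := by
      intro g
      have hg : g ∈ T := by rw [hTtop]; exact Subgroup.mem_top g
      rw [hTdef, hcz_mem_inertia] at hg
      exact hg
    obtain ⟨B₀, hB₀, hB₀mem, -, hB₀def⟩ :=
      Cfsg.Agent.S4492.result p M hM hsolv (Cfsg.pPrimeCore p G) rfl θ hinv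
    have hχB₀ : χ ∈ B₀ := (hB₀mem χ).mpr hcon
    have hBB : B = B₀ := hcz_block_eq hPr B B₀ hB hB₀ χ hχ hχB₀
    obtain ⟨P', hP'⟩ := hB₀def P (hBB ▸ hP)
    subst hP'
    have h1 := hcz_core p hsolv (Cfsg.pPrimeCore p G) rfl θ hinv χ hcon P'
    refine le_trans ?_ h1
    unfold Cfsg.blockHeight
    exact Nat.sub_le _ _
  · -- the Fong–Reynolds case
    have hTlt : Nat.card T < n := by
      rw [← hcard]
      apply lt_of_le_of_ne (Subgroup.card_le_card_group T)
      intro h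
      exact hTtop (Subgroup.eq_top_of_card_eq T h)
    obtain ⟨h_i, -, h_iii⟩ := Cfsg.Agent.S4435.result p M hM (Cfsg.pPrimeCore p G)
      ({θ} : Set (Cfsg.IrrCharacter ↥(Cfsg.pPrimeCore p G))) hb T hT hKT
    obtain ⟨B', hB', hcov', hind⟩ := h_iii B hB ⟨χ, hχ, θ, rfl, hcon⟩
    obtain ⟨B₂, hind₂, -, -, hmem₂⟩ := h_i B' hB' hcov'
    have hB₂ : B₂ = B := h7_induced_unique hPr T B' B₂ B hind₂ hind
    rw [hB₂] at hmem₂
    obtain ⟨ψ, hψB', hχψ⟩ := (hmem₂ χ).mp hχ
    obtain ⟨hdef, hht⟩ := Cfsg.Agent.S4436.result p M hM (Cfsg.pPrimeCore p G)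
      ({θ} : Set (Cfsg.IrrCharacter ↥(Cfsg.pPrimeCore p G))) hb T hT hKT B' hB' hcov' B hind
    obtain ⟨χ', hχ'B, hχ'eq, hheight⟩ := hht ψ hψB'
    have hheq : Cfsg.blockHeight p B (χ : G → ℂ) = Cfsg.blockHeight p B' (ψ : T → ℂ) := by
      rw [← hheight, hχ'eq, ← hχψ]
    obtain ⟨D', hD'⟩ := sd_exists_defect p M hM B' hB'
    have hDmap := hdef D' hD'
    have hsolvT : Cfsg.IsPSolvable p ↥T := Cfsg.Agent.Lib.Helper22.SpanOrbit.pSolvable_subgroup hsolv T
    have hIH := ih (Nat.card T) hTlt ↥T rfl hsolvT B' hB' D' hD' ψ hψB'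
    rw [hheq]
    refine le_trans hIH (le_of_eq ?_)
    obtain ⟨x, hx⟩ := Cfsg.Agent.Lib.Helper24.qh_defect_conj p M hM B hB (D'.map T.subtype) P hDmap hP
    have e1 : ↥D' ≃* ↥(D'.map T.subtype) := Subgroup.equivMapOfInjective D' T.subtype T.subtype_injective
    have e2 : ↥(D'.map T.subtype) ≃* ↥((D'.map T.subtype).map (MulAut.conj x).toMonoidHom) :=
      Subgroup.equivMapOfInjective _ _ (MulAut.conj x).injective
    rw [hx]
    rw [hcz_center_index_congr (e1.trans e2)]

end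

end Cfsg.Agent.Lib.Helper25
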