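import Mathlib
import Cfsg.Prelude.Def_ChevStructure
import Cfsg.Prelude.Def_ChevE7
import Cfsg.Agent.Lib.helper8.ChevIE7n
import Cfsg.Agent.Lib.helper8.ChevIE7a
import Cfsg.Agent.Lib.helper14.INVNCb
import Cfsg.Agent.Lib.helper14.INVNCa
import Cfsg.Agent.Lib.helper14.INVGT3
import Cfsg.Agent.Lib.helper14.F4Ca
import Cfsg.Agent.Lib.Helper10.INVWZERO
import Cfsg.Agent.Lib.Helper11.INVMEM
import Cfsg.Agent.Lib.Helper11.INVSTDN
import Cfsg.Agent.Lib.helper8.ChevCommAll
import Cfsg.Agent.Lib.helper8.ChevOrdAll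

/-!
# Project INVE7 (S2181): piece MEM. The five representatives are involutions of the group.
-/

set_option autoImplicit false
set_option linter.unusedVariables false

namespace Cfsg.Agent.Lib.helper8.E7I

open Cfsg.Lie Cfsg.Lie.ChevalleyDatum Cfsg.Agent.Lib.helper8 Cfsg.Agent.Lib.helper14
  Cfsg.Agent.Lib.helper14.INV

universe u

variable {F : Type u} [Field F]

/-- the representatives are increasing lists of positive roots -/
theorem e7mem_fil : ∀ a ∈ e7Reps,
    (h8Lk chevE7 0).filter (fun r => decide (r ∈ a)) = a := by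
  decide +kernel

/-- the root subgroups of a representative commute pairwise -/
theorem e7mem_comm : ∀ a ∈ e7Reps, a.Pairwise (fun r s => invstdnChk1 chevE7 r s = true) := by
  decide +kernel

/-- the roots of the representatives are positive -/
theorem e7mem_pos : ∀ a ∈ e7Reps, ∀ r ∈ a, chevE7.IsPosRoot r := by
  decide +kernel

/-- the representatives are nonempty -/
theorem e7mem_ne : ∀ a ∈ e7Reps, a ≠ [] := by
  decide

/-- MEM : the five representatives are involutions of `G` -/
theorem e7_mem_order [CharP F 2] (hB : H8Base.{u} chevE7) (a : List ℕ) (ha : a ∈ e7Reps) :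
    (w1 chevE7 hB a : GL chevE7.Idx F) ∈ chevE7.group F ∧
      orderOf (w1 chevE7 hB a : GL chevE7.Idx F) = 2 := by
  refine ⟨h8wordU_mem_group chevE7 hB _, ?_⟩
  have hD := h8e7_mem
  have hC := h8commAll.{u} chevE7 hD
  obtain ⟨hO, hO2⟩ := h8ord_all chevE7 hD
  apply orderOf_eq_prime
  · rw [pow_two]
    unfold w1 h8wordU
    apply invstdn_prod_sq
    · intro g hg
      rw [List.map_map, List.mem_map] at hg
      obtain ⟨r, hr, rfl⟩ := hg
      exact invmem_x_sq chevE7 hB r (e7mem_pos a ha r hr).1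
    · rw [List.map_map, List.pairwise_map]
      exact (e7mem_comm a ha).imp (fun {r s} h => invstdn_comm1 chevE7 hB hC r s h 1 1)
  · intro h
    have e1 : (w1 chevE7 hB a : GL chevE7.Idx F) =
        f4cW chevE7 hB 0 (fun r => if (decide (r ∈ a)) = true then (1 : F) else 0) := by
      rw [← f4c_ordP_fill chevE7 hB (fun r => decide (r ∈ a)) (fun _ => (1 : F)) chevE7.nroots 0
        (by omega)]
      unfold w1 h8ordP
      rw [e7mem_fil a ha]
    have e2 : f4cW chevE7 hB 0 (fun _ => (0 : F)) = 1 :=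
      f4cW_zero' chevE7 hB _ (fun _ _ => rfl)
    obtain ⟨r, hr⟩ := List.exists_mem_of_ne_nil a (e7mem_ne a ha)
    have h3 := f4c_W_unique0 chevE7 hB hO2 _ _ (e1.symm.trans (h.trans e2.symm)) r
      (e7mem_pos a ha r hr)
    simp only [hr, decide_true, if_true] at h3
    exact one_ne_zero h3

end Cfsg.Agent.Lib.helper8.E7I
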