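import Mathlib
import Cfsg.Prelude.Def_ChevStructure
import Cfsg.Prelude.Def_ChevE7
import Cfsg.Agent.Lib.helper8.ChevIE7n
import Cfsg.Agent.Lib.helper8.ChevIE7a
import Cfsg.Agent.Lib.helper8.ChevIE7g
import Cfsg.Agent.Lib.helper14.INVNCb
import Cfsg.Agent.Lib.helper14.INVNCa
import Cfsg.Agent.Lib.helper14.INVGT3

/-!
# Project INVE7 (S2181): piece NCC. The combinatorial contradiction: the roots of the `j`-th
representative cannot be mapped by an element of the Weyl group into the up-closure of the `i`-th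
representative, `i < j`.
-/

set_option autoImplicit false
set_option linter.unusedVariables false

namespace Cfsg.Agent.Lib.helper8.E7I

open Cfsg.Lie Cfsg.Lie.ChevalleyDatum Cfsg.Agent.Lib.helper8 Cfsg.Agent.Lib.helper14
  Cfsg.Agent.Lib.helper14.INV

/-- the Cartan integers of `E₇` are symmetric -/
theorem e7ncc_gtSym : gtSymChk chevE7 = true := by decide +kernel

/-- two distinct orthogonal roots -/
def e7nccO (a b : ℕ) : Prop := a < 126 ∧ b < 126 ∧ a ≠ b ∧ gtIpL chevE7 a b = 0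

instance e7nccO_dec (a b : ℕ) : Decidable (e7nccO a b) := by
  unfold e7nccO
  infer_instance

/-- the roots of the representatives are pairwise distinct and orthogonal -/
theorem e7ncc_data : e7nccO 118 121 ∧ e7nccO 114 116 ∧ e7nccO 114 119 ∧ e7nccO 116 119 ∧
    e7nccO 92 107 ∧ e7nccO 92 111 ∧ e7nccO 107 111 ∧ e7nccO 92 119 ∧ e7nccO 107 119 ∧
    e7nccO 111 119 := by
  decide +kernel

/-- `L₁` contains no three pairwise orthogonal roots -/
theorem e7ncc_no3 : ∀ x ∈ e7ncL.getD 1 [], ∀ y ∈ e7ncL.getD 1 [], x ≠ y → gtIpL chevE7 x y = 0 →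
    ∀ z ∈ e7ncL.getD 1 [], x ≠ z → y ≠ z → gtIpL chevE7 x z = 0 → gtIpL chevE7 y z = 0 →
      False := by
  decide +kernel

set_option synthInstance.maxHeartbeats 400000 in
set_option synthInstance.maxSize 2048 in
/-- `L₂` and `L₃` contain no four pairwise orthogonal roots -/
theorem e7ncc_no4 : ∀ i ∈ [2, 3], ∀ x ∈ e7ncL.getD i [], ∀ y ∈ e7ncL.getD i [], x ≠ y →
    gtIpL chevE7 x y = 0 →
    ∀ z ∈ e7ncL.getD i [], x ≠ z → y ≠ z → gtIpL chevE7 x z = 0 → gtIpL chevE7 y z = 0 →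
    ∀ t ∈ e7ncL.getD i [], x ≠ t → y ≠ t → z ≠ t → gtIpL chevE7 x t = 0 → gtIpL chevE7 y t = 0 →
      gtIpL chevE7 z t = 0 → False := by
  decide +kernel

/-- the only orthogonal triple of `L₂` has odd total inner product with the root `0` -/
theorem e7ncc_tri : ∀ x ∈ e7ncL.getD 2 [], ∀ y ∈ e7ncL.getD 2 [], x ≠ y → gtIpL chevE7 x y = 0 →
    ∀ z ∈ e7ncL.getD 2 [], x ≠ z → y ≠ z → gtIpL chevE7 x z = 0 → gtIpL chevE7 y z = 0 →
      (gtIpL chevE7 0 x + gtIpL chevE7 0 y + gtIpL chevE7 0 z) % 2 = 1 := by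
  decide +kernel

/-- every root has even total inner product with the roots of the fourth representative -/
theorem e7ncc_even : ∀ t < 126,
    (gtIpL chevE7 t 92 + gtIpL chevE7 t 107 + gtIpL chevE7 t 111) % 2 = 0 := by
  decide +kernel

/-- transport of a pair of distinct orthogonal roots -/
theorem e7ncc_tr (w w₂ : List ℕ) (hw₂ : ∀ a ∈ w₂, a < chevE7.rank)
    (h4 : ∀ r < chevE7.nroots, h8sW chevE7 w (h8sW chevE7 w₂ r) = r) (a b : ℕ)
    (h : e7nccO a b) :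
    h8sW chevE7 w₂ a ≠ h8sW chevE7 w₂ b ∧
      gtIpL chevE7 (h8sW chevE7 w₂ a) (h8sW chevE7 w₂ b) = 0 := by
  obtain ⟨ha, hb, hab, ho⟩ := h
  have hA := h8reflAll chevE7 h8e7_mem
  constructor
  · intro e
    have e2 := congrArg (h8sW chevE7 w) e
    rw [h4 a ha, h4 b hb] at e2
    exact hab e2
  · rw [gt_ipL_inv chevE7 hA e7_gtChk e7ncc_gtSym w₂ hw₂ a b ha hb]
    exact ho

/-- case `i = 0` -/
theorem e7ncc_c0 (f : ℕ → ℕ) (a b : ℕ) (hab : f a ≠ f b ∧ gtIpL chevE7 (f a) (f b) = 0)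
    (ha : f a ∈ e7ncL.getD 0 []) (hb : f b ∈ e7ncL.getD 0 []) : False := by
  have e : e7ncL.getD 0 [] = [125] := rfl
  rw [e, List.mem_singleton] at ha hb
  exact hab.1 (ha.trans hb.symm)

/-- case `i = 1` -/
theorem e7ncc_c1 (f : ℕ → ℕ) (a b c : ℕ) (hab : f a ≠ f b ∧ gtIpL chevE7 (f a) (f b) = 0)
    (hac : f a ≠ f c ∧ gtIpL chevE7 (f a) (f c) = 0)
    (hbc : f b ≠ f c ∧ gtIpL chevE7 (f b) (f c) = 0)
    (ha : f a ∈ e7ncL.getD 1 []) (hb : f b ∈ e7ncL.getD 1 []) (hc : f c ∈ e7ncL.getD 1 []) :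
    False :=
  e7ncc_no3 (f a) ha (f b) hb hab.1 hab.2 (f c) hc hac.1 hbc.1 hac.2 hbc.2

/-- cases `i = 2, 3`, `j = 4` -/
theorem e7ncc_c4 (i : ℕ) (hi : i ∈ [2, 3]) (f : ℕ → ℕ) (a b c d : ℕ)
    (hab : f a ≠ f b ∧ gtIpL chevE7 (f a) (f b) = 0)
    (hac : f a ≠ f c ∧ gtIpL chevE7 (f a) (f c) = 0)
    (hbc : f b ≠ f c ∧ gtIpL chevE7 (f b) (f c) = 0)
    (had : f a ≠ f d ∧ gtIpL chevE7 (f a) (f d) = 0)
    (hbd : f b ≠ f d ∧ gtIpL chevE7 (f b) (f d) = 0)
    (hcd : f c ≠ f d ∧ gtIpL chevE7 (f c) (f d) = 0)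
    (ha : f a ∈ e7ncL.getD i []) (hb : f b ∈ e7ncL.getD i []) (hc : f c ∈ e7ncL.getD i [])
    (hd : f d ∈ e7ncL.getD i []) : False :=
  e7ncc_no4 i hi (f a) ha (f b) hb hab.1 hab.2 (f c) hc hac.1 hbc.1 hac.2 hbc.2 (f d) hd had.1 hbd.1
    hcd.1 had.2 hbd.2 hcd.2

/-- NCC : the combinatorial contradiction (backup copy under a fresh name: the piece `e7nc_comb`
itself is `Cfsg.Agent.Lib.helper8.ChevIE7p`) -/
theorem e7ncc_comb_h25 (i j : ℕ) (hij : i < j) (hj : j < 5) (w w₂ : List ℕ)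
    (hw : ∀ a ∈ w, a < chevE7.rank) (hw₂ : ∀ a ∈ w₂, a < chevE7.rank)
    (h1 : ∀ r ∈ e7Reps.getD i [], h8sW chevE7 w r ∈ e7ncL.getD j [])
    (h2 : ∀ r ∈ e7Reps.getD j [], h8sW chevE7 w₂ r ∈ e7ncL.getD i [])
    (h3 : ∀ r < chevE7.nroots, h8sW chevE7 w₂ (h8sW chevE7 w r) = r)
    (h4 : ∀ r < chevE7.nroots, h8sW chevE7 w (h8sW chevE7 w₂ r) = r) : False := by
  obtain ⟨d1, d2, d3, d4, d5, d6, d7, d8, d9, d10⟩ := e7ncc_data
  have tr := e7ncc_tr w w₂ hw₂ h4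
  have hA := h8reflAll chevE7 h8e7_mem
  interval_cases j
  · omega
  · -- j = 1
    have hi : i = 0 := by omega
    subst hi
    exact e7ncc_c0 _ 118 121 (tr _ _ d1) (h2 118 (by decide)) (h2 121 (by decide))
  · -- j = 2
    interval_cases i
    · exact e7ncc_c0 _ 114 116 (tr _ _ d2) (h2 114 (by decide)) (h2 116 (by decide))
    · exact e7ncc_c1 _ 114 116 119 (tr _ _ d2) (tr _ _ d3) (tr _ _ d4) (h2 114 (by decide))
        (h2 116 (by decide)) (h2 119 (by decide))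
  · -- j = 3
    interval_cases i
    · exact e7ncc_c0 _ 92 107 (tr _ _ d5) (h2 92 (by decide)) (h2 107 (by decide))
    · exact e7ncc_c1 _ 92 107 111 (tr _ _ d5) (tr _ _ d6) (tr _ _ d7) (h2 92 (by decide))
        (h2 107 (by decide)) (h2 111 (by decide))
    · -- (2, 3) : parity
      have hodd := e7ncc_tri _ (h2 92 (by decide)) _ (h2 107 (by decide)) (tr _ _ d5).1
        (tr _ _ d5).2 _ (h2 111 (by decide)) (tr _ _ d6).1 (tr _ _ d7).1 (tr _ _ d6).2
        (tr _ _ d7).2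
      have e0 : h8sW chevE7 w₂ (h8sW chevE7 w 0) = 0 := h3 0 (by decide)
      have hlt : h8sW chevE7 w 0 < chevE7.nroots := h8sW_lt chevE7 hA w hw 0 (by decide)
      have hip : ∀ r < 126, gtIpL chevE7 0 (h8sW chevE7 w₂ r) =
          gtIpL chevE7 (h8sW chevE7 w 0) r := by
        intro r hr
        have := gt_ipL_inv chevE7 hA e7_gtChk e7ncc_gtSym w₂ hw₂ (h8sW chevE7 w 0) r hlt hr
        rw [e0] at this
        exact this
      rw [hip 92 (by norm_num), hip 107 (by norm_num), hip 111 (by norm_num)] at hodd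
      have hev := e7ncc_even (h8sW chevE7 w 0) hlt
      omega
  · -- j = 4
    interval_cases i
    · exact e7ncc_c0 _ 92 107 (tr _ _ d5) (h2 92 (by decide)) (h2 107 (by decide))
    · exact e7ncc_c1 _ 92 107 111 (tr _ _ d5) (tr _ _ d6) (tr _ _ d7) (h2 92 (by decide))
        (h2 107 (by decide)) (h2 111 (by decide))
    · exact e7ncc_c4 2 (by decide) _ 92 107 111 119 (tr _ _ d5) (tr _ _ d6) (tr _ _ d7)
        (tr _ _ d8) (tr _ _ d9) (tr _ _ d10) (h2 92 (by decide)) (h2 107 (by decide))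
        (h2 111 (by decide)) (h2 119 (by decide))
    · exact e7ncc_c4 3 (by decide) _ 92 107 111 119 (tr _ _ d5) (tr _ _ d6) (tr _ _ d7)
        (tr _ _ d8) (tr _ _ d9) (tr _ _ d10) (h2 92 (by decide)) (h2 107 (by decide))
        (h2 111 (by decide)) (h2 119 (by decide))

end Cfsg.Agent.Lib.helper8.E7I
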