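import Cfsg.Agent.Lib.helper14.INV.Defs

/-!
Project INV (S2174), piece M1b : the length of `s_i w` when `w` is an involution fixing the fundamental
root `p_i`; with the general lemmas on the number of inversions shared with piece M2b (helper25).
-/

set_option autoImplicit false
set_option linter.unusedVariables false

namespace Cfsg.Agent.Lib.helper14.INV

open Cfsg.Lie Cfsg.Lie.ChevalleyDatum Cfsg.Agent.Lib.helper8 Cfsg.Agent.Lib.helper14

universe u

variable {F : Type u} [Field F]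

/-- the negative of a root, twice -/
theorem invm1b_negF_negF (D : ChevalleyDatum) (hW : H8BN2 D) (hO2 : H8Ord2 D) (r : Fin D.nroots) :
    h8negF D hW (h8negF D hW r) = r := by
  apply Fin.ext
  exact (hO2.negneg r.val r.2).2

/-- one half of the invariance of the number of inversions under inversion -/
theorem invm1b_Ninv_le (D : ChevalleyDatum) (hB : H8Base.{0} D) (hA : H8ReflAll D)
    (hBN : H8BN D) (hW : H8BN2 D) (hO2 : H8Ord2 D) (σ : Equiv.Perm (Fin D.nroots))
    (hσ : σ ∈ h8W D hA) : h8Ninv D σ ≤ h8Ninv D σ⁻¹ := by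
  classical
  unfold h8Ninv
  apply Finset.card_le_card_of_injOn (fun r => h8negF D hW (σ r))
  · intro r hr
    have hr' := Finset.mem_filter.mp (Finset.mem_coe.mp hr)
    obtain ⟨hp, hn⟩ := hr'.2
    apply Finset.mem_coe.mpr
    apply Finset.mem_filter.mpr
    refine ⟨Finset.mem_univ _, ?_, ?_⟩
    · exact (h8negF_pos D hB hBN hW hO2 (σ r)).mpr hn
    · rw [h8W_negc D hA hW σ⁻¹ (Subgroup.inv_mem _ hσ), Equiv.Perm.inv_def, Equiv.symm_apply_apply,
        h8negF_pos D hB hBN hW hO2 r]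
      exact fun h => h hp
  · intro r _ r' _ h
    have h1 : h8negF D hW (σ r) = h8negF D hW (σ r') := h
    have h2 := congrArg (h8negF D hW) h1
    rw [invm1b_negF_negF D hW hO2, invm1b_negF_negF D hW hO2] at h2
    exact σ.injective h2

/-- the number of inversions of the inverse -/
theorem invm1b_Ninv_inv (D : ChevalleyDatum) (hB : H8Base.{0} D) (hA : H8ReflAll D)
    (hBN : H8BN D) (hW : H8BN2 D) (hO2 : H8Ord2 D) (σ : Equiv.Perm (Fin D.nroots))
    (hσ : σ ∈ h8W D hA) : h8Ninv D σ⁻¹ = h8Ninv D σ := by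
  apply le_antisymm
  · have h1 := invm1b_Ninv_le D hB hA hBN hW hO2 σ⁻¹ (Subgroup.inv_mem _ hσ)
    rwa [inv_inv] at h1
  · exact invm1b_Ninv_le D hB hA hBN hW hO2 σ hσ

theorem invm1b_wPerm_mem (D : ChevalleyDatum) (hA : H8ReflAll D) (w : List ℕ) (hw : ValidW D w) :
    h8wPerm D hA w ∈ h8W D hA :=
  (h8W_mem_iff D hA _).mpr ⟨w, hw, rfl⟩

theorem invm1b_sPerm_mem (D : ChevalleyDatum) (hA : H8ReflAll D) (i : ℕ) (hi : i < D.rank) :
    h8sPerm D hA i ∈ h8W D hA :=
  Subgroup.subset_closure ⟨i, hi, rfl⟩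

theorem invm1b_wPerm_snoc (D : ChevalleyDatum) (hA : H8ReflAll D) (w : List ℕ) (i : ℕ) :
    h8wPerm D hA (w ++ [i]) = h8wPerm D hA w * h8sPerm D hA i := by
  unfold h8wPerm
  rw [List.map_append, List.prod_append, List.map_singleton, List.prod_singleton]

/-- the permutation of an involutory word is an involution -/
theorem invm1b_wPerm_sq (D : ChevalleyDatum) (hA : H8ReflAll D) (w : List ℕ) (hw : ValidW D w)
    (hinv : ∀ r < D.nroots, h8sW D w (h8sW D w r) = r) :
    h8wPerm D hA w * h8wPerm D hA w = 1 := by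
  apply Equiv.ext
  intro r
  apply Fin.ext
  rw [Equiv.Perm.mul_apply, h8wPerm_val D hA w hw, h8wPerm_val D hA w hw, Equiv.Perm.one_apply]
  exact hinv r.val r.2

theorem invm1b_wPerm_inv (D : ChevalleyDatum) (hA : H8ReflAll D) (w : List ℕ) (hw : ValidW D w)
    (hinv : ∀ r < D.nroots, h8sW D w (h8sW D w r) = r) :
    (h8wPerm D hA w)⁻¹ = h8wPerm D hA w :=
  inv_eq_of_mul_eq_one_right (invm1b_wPerm_sq D hA w hw hinv)

/-- right multiplication by `s_i` raises the length when `π p_i` is positive -/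
theorem invm1b_Ninv_mul_right (D : ChevalleyDatum) (hB : H8Base.{0} D) (hA : H8ReflAll D)
    (hBN : H8BN D) (hW : H8BN2 D) (hO2 : H8Ord2 D) (π : Equiv.Perm (Fin D.nroots))
    (hπ : π ∈ h8W D hA) (j : Fin D.rank) (hpos : D.IsPosRoot (π (h8simF D hBN j)).val) :
    h8Ninv D (π * h8sPerm D hA j.val) = h8Ninv D π + 1 := by
  have hs := invm1b_sPerm_mem D hA j.val j.2
  have hneg : ¬ D.IsPosRoot ((π * h8sPerm D hA j.val) (h8simF D hBN j)).val := by
    rw [Equiv.Perm.mul_apply, h8sPerm_simF D hA hBN hW j, h8W_negc D hA hW π hπ,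
      h8negF_pos D hB hBN hW hO2]
    exact fun h => h hpos
  have h1 := h8Ninv_mul_simple D hB hA hBN hW hO2 (π * h8sPerm D hA j.val)
    (Subgroup.mul_mem _ hπ hs) j hneg
  rw [mul_assoc, h8sPerm_sq, mul_one] at h1
  exact h1.symm

/-- M1b : the length of `s_i w` -/
theorem len_cons_simple (D : ChevalleyDatum) (hB : H8Base.{0} D) (hA : H8ReflAll D)
    (hBN : H8BN D) (hW : H8BN2 D) (hO2 : H8Ord2 D)
    (w : List ℕ) (hw : ValidW D w) (i : ℕ) (hi : i < D.rank)
    (hinv : ∀ r < D.nroots, h8sW D w (h8sW D w r) = r)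
    (hfix : h8sW D w (D.simple i) = D.simple i) :
    len D hA (i :: w) = len D hA w + 1 := by
  unfold len
  have hπ := invm1b_wPerm_mem D hA w hw
  have hcomm : h8sPerm D hA i * h8wPerm D hA w = h8wPerm D hA w * h8sPerm D hA i := by
    have h1 := h8W_conj_simple D hB hA hBN hW hO2 w hw i i hi hi hfix
    rw [mul_inv_eq_iff_eq_mul] at h1
    exact h1.symm
  have hpos : D.IsPosRoot ((h8wPerm D hA w) (h8simF D hBN ⟨i, hi⟩)).val := by
    rw [h8wPerm_val D hA w hw]
    show D.IsPosRoot (h8sW D w (D.simple i))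
    rw [hfix]
    exact h8simple_pos D hBN i hi
  rw [h8wPerm_cons', hcomm]
  exact invm1b_Ninv_mul_right D hB hA hBN hW hO2 _ hπ ⟨i, hi⟩ hpos

end Cfsg.Agent.Lib.helper14.INV
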