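import Cfsg.Agent.Lib.helper14.INV.Defs
import Cfsg.Agent.Lib.Helper25.INVM1b

/-!
Project INV (S2174), piece M2b : the length of `s_i w s_i` when `w` is an involution mapping the
fundamental root `p_i` to a positive root different from `p_i` (helper25).
-/

set_option autoImplicit false
set_option linter.unusedVariables false

namespace Cfsg.Agent.Lib.helper14.INV

open Cfsg.Lie Cfsg.Lie.ChevalleyDatum Cfsg.Agent.Lib.helper8 Cfsg.Agent.Lib.helper14

universe u

variable {F : Type u} [Field F]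

/-- M2b : the length of `s_i w s_i` -/
theorem len_conj_simple (D : ChevalleyDatum) (hB : H8Base.{0} D) (hA : H8ReflAll D)
    (hBN : H8BN D) (hW : H8BN2 D) (hO2 : H8Ord2 D)
    (w : List ℕ) (hw : ValidW D w) (i : ℕ) (hi : i < D.rank)
    (hinv : ∀ r < D.nroots, h8sW D w (h8sW D w r) = r)
    (hpos : D.IsPosRoot (h8sW D w (D.simple i))) (hne : h8sW D w (D.simple i) ≠ D.simple i) :
    len D hA (i :: (w ++ [i])) = len D hA w + 2 := by
  unfold len
  have hπ := invm1b_wPerm_mem D hA w hw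
  have hs := invm1b_sPerm_mem D hA i hi
  have hπinv := invm1b_wPerm_inv D hA w hw hinv
  -- `β = π p_i`
  have hβval : ((h8wPerm D hA w) (h8simF D hBN ⟨i, hi⟩)).val = h8sW D w (D.simple i) := by
    rw [h8wPerm_val D hA w hw]
    rfl
  have hβpos : D.IsPosRoot ((h8wPerm D hA w) (h8simF D hBN ⟨i, hi⟩)).val := by
    rw [hβval]
    exact hpos
  -- step 1 : `l(π s) = l(π) + 1`
  have h1 : h8Ninv D (h8wPerm D hA w * h8sPerm D hA i) = h8Ninv D (h8wPerm D hA w) + 1 :=
    invm1b_Ninv_mul_right D hB hA hBN hW hO2 _ hπ ⟨i, hi⟩ hβpos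
  -- step 2 : `l(s π) = l(π s)`
  have h2 : h8Ninv D (h8sPerm D hA i * h8wPerm D hA w) =
      h8Ninv D (h8wPerm D hA w * h8sPerm D hA i) := by
    have h3 := invm1b_Ninv_inv D hB hA hBN hW hO2 (h8sPerm D hA i * h8wPerm D hA w)
      (Subgroup.mul_mem _ hs hπ)
    rw [_root_.mul_inv_rev, hπinv, h8sPerm_inv] at h3
    exact h3.symm
  -- step 3 : `l(s π s) = l(s π) + 1`
  have hsβ := h8spChk_spec D i (hBN.sp i hi) _ hpos hne
  have h4 : D.IsPosRoot ((h8sPerm D hA i * h8wPerm D hA w) (h8simF D hBN ⟨i, hi⟩)).val := by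
    rw [Equiv.Perm.mul_apply, h8sPerm_val D hA i hi, hβval]
    exact hsβ.1
  have h5 : h8Ninv D (h8sPerm D hA i * h8wPerm D hA w * h8sPerm D hA i) =
      h8Ninv D (h8sPerm D hA i * h8wPerm D hA w) + 1 :=
    invm1b_Ninv_mul_right D hB hA hBN hW hO2 _ (Subgroup.mul_mem _ hs hπ) ⟨i, hi⟩ h4
  rw [h8wPerm_cons', invm1b_wPerm_snoc, ← mul_assoc, h5, h2, h1]

end Cfsg.Agent.Lib.helper14.INV
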