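import Mathlib
import Cfsg.Agent.Lib.Helper28.IPB.Defs
import Cfsg.Agent.Lib.Helper25.ItoSolvable
import Cfsg.Agent.Lib.helper7.BlockDefect2
import Cfsg.Agent.Lib.helper7.Clifford
import Cfsg.Agent.Lib.helper2.CharInd
import Cfsg.Agent.Lib.helper2.CharNat
import Cfsg.Agent.Lib.helper2.CD3PQcore
import Cfsg.Agent.Lib.helper23.CD3OVERQ
import Cfsg.Agent.S0887

/-!
# Project IPB (S4463), piece T3: over every `ζ ∈ Irr(K)`, `G/K` nonabelian, there is a character of degree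
at least `2 ζ(1)` (Gallagher)
-/

set_option autoImplicit false
open scoped commutatorElement

namespace Cfsg.Agent.Lib.Helper28.IPB

universe u

section tools
variable {G : Type u} [Group G]

/-- a constituent of the restriction with the same degree is the restriction -/
theorem ipbt3_res_eq [Fintype G] (K : Subgroup G) [K.Normal] [Fintype K] (χ : Cfsg.IrrCharacter G)
    (θ : Cfsg.IrrCharacter K)
    (hcon : Cfsg.classInner (fun k : K => (χ : G → ℂ) k) (θ : K → ℂ) ≠ 0)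
    (hdeg : Cfsg.charDegree (χ : G → ℂ) = Cfsg.charDegree (θ : K → ℂ)) :
    (fun k : K => (χ : G → ℂ) k) = (θ : K → ℂ) := by
  classical
  have hχp := Cfsg.Agent.Lib.helper7.h7_charDegree_props χ
  have hθp := Cfsg.Agent.Lib.helper7.h7_charDegree_props θ
  obtain ⟨e, he, _, hcl⟩ :=
    Cfsg.Agent.Lib.helper7.h7_clifford K (χ : G → ℂ) χ.2 (θ : K → ℂ) θ.2 hcon
  set S := Finset.univ.image (fun g : G => Cfsg.Agent.Lib.Helper11.cj K (θ : K → ℂ) g) with hS
  have hθS : (θ : K → ℂ) ∈ S := by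
    rw [hS, Finset.mem_image]
    exact ⟨1, Finset.mem_univ _, Cfsg.Agent.Lib.Helper11.cj_one K _⟩
  have h2 : ∀ ψ ∈ S, ψ 1 = (θ : K → ℂ) 1 := by
    intro ψ hψ
    obtain ⟨g, -, rfl⟩ := Finset.mem_image.mp hψ
    rw [Cfsg.Agent.Lib.Helper11.cj_apply]
    apply congrArg
    apply Subtype.ext
    simp
  have h3 := congrFun hcl 1
  simp only [Pi.smul_apply, Finset.sum_apply, smul_eq_mul] at h3
  rw [Finset.sum_congr rfl h2, Finset.sum_const, nsmul_eq_mul, Subgroup.coe_one, ← hχp.2.2,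
    ← hθp.2.2, hdeg] at h3
  have h4 : (Cfsg.charDegree (θ : K → ℂ)) = e * (S.card * Cfsg.charDegree (θ : K → ℂ)) := by
    exact_mod_cast h3
  have h5 : e * S.card = 1 := by
    have h6 : 1 * Cfsg.charDegree (θ : K → ℂ) = (e * S.card) * Cfsg.charDegree (θ : K → ℂ) := by
      rw [one_mul, mul_assoc]; exact h4
    exact (Nat.eq_of_mul_eq_mul_right hθp.2.1 h6).symm
  have he1 : e = 1 := Nat.eq_one_of_mul_eq_one_right h5
  have hS1 : S.card = 1 := Nat.eq_one_of_mul_eq_one_left h5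
  obtain ⟨ψ0, hψ0⟩ := Finset.card_eq_one.mp hS1
  have hθψ : (θ : K → ℂ) = ψ0 := by
    rw [hψ0, Finset.mem_singleton] at hθS
    exact hθS
  rw [hcl, hψ0, Finset.sum_singleton, he1, Nat.cast_one, one_smul, hθψ]

-- piece T3
theorem exists_over_two_mul [Finite G] (K : Subgroup G) [K.Normal] (hK : ¬ commutator G ≤ K)
    (ζ : Cfsg.IrrCharacter K) :
    ∃ χ : Cfsg.IrrCharacter G,
      2 * Cfsg.charDegree (ζ : K → ℂ) ≤ Cfsg.charDegree (χ : G → ℂ) := by
  classical
  have := Fintype.ofFinite G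
  have : Fintype K := Fintype.ofFinite K
  obtain ⟨χ, hcon⟩ := Cfsg.Agent.Lib.Helper25.itn_exists_over K ζ
  have hχp := Cfsg.Agent.Lib.helper7.h7_charDegree_props χ
  have hζp := Cfsg.Agent.Lib.helper7.h7_charDegree_props ζ
  obtain ⟨hd1, -⟩ := Cfsg.Agent.S0887.result K (χ : G → ℂ) χ.2 (ζ : K → ℂ) ζ.2 hcon
    (Cfsg.charDegree (χ : G → ℂ)) (Cfsg.charDegree (ζ : K → ℂ)) hχp.2.2.symm hζp.2.2.symm
  by_cases h2 : 2 * Cfsg.charDegree (ζ : K → ℂ) ≤ Cfsg.charDegree (χ : G → ℂ)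
  · exact ⟨χ, h2⟩
  · -- the degrees are equal
    have hdeg : Cfsg.charDegree (χ : G → ℂ) = Cfsg.charDegree (ζ : K → ℂ) := by
      obtain ⟨c, hc⟩ := hd1
      have hc0 : c ≠ 0 := by
        rintro rfl
        rw [mul_zero] at hc
        have := hχp.2.1
        omega
      have hc2 : c < 2 := by
        by_contra hge
        push Not at hge
        apply h2
        rw [hc]
        calc 2 * Cfsg.charDegree (ζ : K → ℂ) = Cfsg.charDegree (ζ : K → ℂ) * 2 := by ring
          _ ≤ Cfsg.charDegree (ζ : K → ℂ) * c := Nat.mul_le_mul_left _ hge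
      have hc1 : c = 1 := by omega
      rw [hc, hc1, mul_one]
    have hres : Cfsg.IsIrrCharacter K (fun k : K => (χ : G → ℂ) k) := by
      rw [ipbt3_res_eq K χ ζ hcon hdeg]
      exact ζ.2
    obtain ⟨f, hf1, -, hfmem⟩ := Cfsg.Agent.Lib.Helper28.CD3.cd3pq_core K χ hres
      (Cfsg.Agent.Lib.Helper28.CD3.exists_nonlinear_over K hK)
    obtain ⟨χ', hχ'⟩ := hfmem
    refine ⟨χ', ?_⟩
    rw [hχ', hdeg]
    exact Nat.mul_le_mul_right _ hf1

end tools

end Cfsg.Agent.Lib.Helper28.IPB
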