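import Mathlib
import Cfsg.Prelude.Def_Blocks
import Cfsg.Agent.Lib.helper7.BlockInd
import Cfsg.Agent.Lib.helper7.BlockInd2
import Cfsg.Agent.Lib.helper7.BlockDefect2
import Cfsg.Agent.Lib.helper7.BlockCover
import Cfsg.Agent.Lib.helper2.CharInd
import Cfsg.Agent.Lib.helper2.CharNat

/-!
Induced blocks of equal defect: a height-zero character of b occurs with multiplicity prime to p in some height-zero character of b^G.
-/

set_option autoImplicit false
set_option linter.style.haveILetI false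
set_option linter.unusedVariables false
set_option warn.classDefReducibility false

namespace Cfsg.Agent.Lib.Helper25
open Cfsg.Agent.Lib.helper7
open Cfsg.Agent.Lib.helper2
section

/-- if `b^G = B` have the same defect and `ζ ∈ b` has height zero then some height-zero `χ ∈ B`
occurs in `ζ^G` with multiplicity prime to `p` -/
theorem ih_main {G : Type*} [Group G] [Fintype G] (p : ℕ) [hp : Fact p.Prime]
    (M : Ideal Cfsg.AlgInt) (hM : Cfsg.IsPModular p M) (H : Subgroup G)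
    (b : Set (Cfsg.IrrCharacter ↥H)) (B : Set (Cfsg.IrrCharacter G))
    (hind : Cfsg.IsInducedBlock M H b B)
    (hdef : Cfsg.blockDefect p b = Cfsg.blockDefect p B) (ζ : Cfsg.IrrCharacter ↥H)
    (hζ : ζ ∈ b) (hζ0 : Cfsg.blockHeight p b (ζ : ↥H → ℂ) = 0) :
    ∃ χ ∈ B, Cfsg.blockHeight p B (χ : G → ℂ) = 0 ∧ ∃ a : ℕ,
      Cfsg.classInner (Cfsg.indFun H (ζ : ↥H → ℂ)) (χ : G → ℂ) = (a : ℂ) ∧ ¬ p ∣ a := by
  classical
  haveI : Fintype H := Fintype.ofFinite _
  haveI : Fintype (Cfsg.IrrCharacter G) := Fintype.ofFinite _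
  haveI : Fintype (ConjClasses G) := Fintype.ofFinite _
  have hMp := hM.2.1.isPrime
  obtain ⟨hb, ⟨χ₀, rfl⟩, hcong⟩ := hind
  set B := Cfsg.blockOf M (χ₀ : G → ℂ) with hB
  set Ψ := Cfsg.indFun H (ζ : H → ℂ) with hΨ
  have hΨchar : Cfsg.IsCharacter G Ψ := isCharacter_indFun H _ (isCharacter_of_irr ζ)
  obtain ⟨a, ha, _⟩ := isCharacter_expansion hΨchar
  have hcl : ∀ g h : G, Ψ (h * g * h⁻¹) = Ψ g := fun g h => h7_indFun_conj H _ g h
  have h0 : χ₀ ∈ B := h7_sameBlock_refl hMp _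
  set fG : Cfsg.IrrCharacter G → ℕ := fun χ => (Cfsg.charDegree (χ : G → ℂ)).factorization p
    with hfG
  set fH : Cfsg.IrrCharacter H → ℕ := fun χ => (Cfsg.charDegree (χ : H → ℂ)).factorization p
    with hfH
  set νB := sInf (fG '' B) with hνB
  set νb := sInf (fH '' b) with hνb
  have hνB_le : ∀ χ ∈ B, νB ≤ fG χ := fun χ hχ => Nat.sInf_le ⟨χ, hχ, rfl⟩
  have hνb_le : ∀ χ ∈ b, νb ≤ fH χ := fun χ hχ => Nat.sInf_le ⟨χ, hχ, rfl⟩
  -- arithmetic of the degree of the induced character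
  obtain ⟨hζd1, hζd2, hζd3⟩ := h7_charDegree_props ζ
  obtain ⟨hχ₀d1, hχ₀d2, hχ₀d3⟩ := h7_charDegree_props χ₀
  have hζν : fH ζ = νb := by
    have h1 : fH ζ - νb = 0 := hζ0
    have h2 := hνb_le ζ hζ
    omega
  have hcardG : Nat.card G = H.index * Nat.card H := (Subgroup.index_mul_card H).symm
  have hidx0 : H.index ≠ 0 := Subgroup.index_ne_zero_of_finite
  have hcH0 : Nat.card H ≠ 0 := Nat.card_pos.ne'
  have hfacG : (Nat.card G).factorization p =
      H.index.factorization p + (Nat.card H).factorization p := by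
    rw [hcardG, Nat.factorization_mul hidx0 hcH0]
    rfl
  have hνb_aH : νb ≤ (Nat.card H).factorization p := by
    rw [← hζν]
    exact (Nat.factorization_le_iff_dvd hζd2.ne' hcH0).mpr hζd1 p
  have hνB_aG : νB ≤ (Nat.card G).factorization p := by
    refine (hνB_le χ₀ h0).trans ?_
    exact (Nat.factorization_le_iff_dvd hχ₀d2.ne' Nat.card_pos.ne').mpr hχ₀d1 p
  have hdef' : (Nat.card H).factorization p - νb = (Nat.card G).factorization p - νB := hdef
  set D := H.index * Cfsg.charDegree (ζ : H → ℂ) with hD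
  have hD0 : D ≠ 0 := Nat.mul_ne_zero hidx0 hζd2.ne'
  have hDfac : D.factorization p = νB := by
    rw [hD, Nat.factorization_mul hidx0 hζd2.ne']
    show H.index.factorization p + fH ζ = νB
    rw [hζν]
    omega
  have hΨ1 : Ψ 1 = (D : ℂ) := by
    rw [hΨ, h7_indFun_one, hD, ← hζd3]
    push_cast
    ring
  -- the key congruence
  set c : Cfsg.IrrCharacter G → ℂ := fun χ => if χ ∈ B then (1 : ℂ) else 0 with hc
  have hcm : c ∈ h7_intSubring (G := G) M hMp := h7_block_indicator_mem hMp χ₀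
  set S : ℕ := ∑ χ : Cfsg.IrrCharacter G, if χ ∈ B then a χ * Cfsg.charDegree (χ : G → ℂ) else 0
    with hS
  have h1 : ∑ g : G, h7_coef c g * Ψ g = (S : ℂ) := by
    rw [h7_sum_coef_mul_classfun c Ψ hcl, hS]
    push_cast
    refine Finset.sum_congr rfl fun χ _ => ?_
    by_cases hχ : χ ∈ B
    · simp only [hc, if_pos hχ, one_mul, ha χ]
      rw [(h7_charDegree_props χ).2.2]
    · simp only [hc, if_neg hχ, zero_mul, mul_zero]
  have h2 := h7_sum_coef_centralChar c Ψ hcl
  rw [h1, hΨ1] at h2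
  have h3 := h7_eval_expand c χ₀
  have hc0 : c χ₀ = 1 := by simp only [hc, if_pos h0]
  rw [hc0] at h3
  have hkey : Cfsg.MemLocalIdeal M ((S : ℂ) / (D : ℂ) - 1) := by
    rw [h2, h3, ← Finset.sum_sub_distrib]
    apply h7_memLocalIdeal_sum hMp
    intro K _
    rw [← mul_sub]
    apply h7_memLocalIdeal_mul_left hMp (hcm _)
    rw [hΨ, ← Cfsg.Agent.S0932.induced_eq]
    exact hcong ζ hζ χ₀ h0 _
  by_contra hcon
  push Not at hcon
  -- every term of S is divisible by p^(νB+1)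
  have hdiv : p ^ (νB + 1) ∣ S := by
    rw [hS]
    apply Finset.dvd_sum
    intro χ _
    by_cases hχ : χ ∈ B
    · rw [if_pos hχ]
      obtain ⟨hd1, hd2, hd3⟩ := h7_charDegree_props χ
      by_cases hh : Cfsg.blockHeight p B (χ : G → ℂ) = 0
      · have hpa : p ∣ a χ := hcon χ hχ hh (a χ) (ha χ)
        have hpd : p ^ νB ∣ Cfsg.charDegree (χ : G → ℂ) :=
          (pow_dvd_pow p (hνB_le χ hχ)).trans (Nat.ordProj_dvd _ p)
        rw [pow_succ, mul_comm (p ^ νB) p]
        exact Nat.mul_dvd_mul hpa hpd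
      · have h4 : fG χ - νB ≠ 0 := hh
        have h5 : νB + 1 ≤ fG χ := by omega
        have hpd : p ^ (νB + 1) ∣ Cfsg.charDegree (χ : G → ℂ) :=
          (pow_dvd_pow p h5).trans (Nat.ordProj_dvd _ p)
        exact Dvd.dvd.mul_left hpd _
    · rw [if_neg hχ]
      exact dvd_zero _
  obtain ⟨s, hs⟩ := hdiv
  -- D = p^νB * t with t prime to p
  set t := D / p ^ νB with ht
  have hDt : p ^ νB * t = D := by
    rw [ht, ← hDfac]
    exact Nat.ordProj_mul_ordCompl_eq_self D p
  have htp : ¬ p ∣ t := by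
    rw [ht, ← hDfac]
    exact Nat.not_dvd_ordCompl hp.out hD0
  have htcop : t.Coprime p := (Nat.Coprime.symm ((Nat.Prime.coprime_iff_not_dvd hp.out).mpr htp))
  have ht0 : (t : ℂ) ≠ 0 := by
    intro h
    have : t = 0 := by exact_mod_cast h
    rw [this] at htp
    exact htp (dvd_zero _)
  have hp0 : (p : ℂ) ≠ 0 := by exact_mod_cast hp.out.ne_zero
  have hSD : (S : ℂ) / (D : ℂ) = (p : ℂ) * ((s : ℂ) * (t : ℂ)⁻¹) := by
    rw [hs, ← hDt]
    push_cast
    have : ((p : ℂ) ^ νB) ≠ 0 := pow_ne_zero _ hp0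
    field_simp
    ring
  have hmem : Cfsg.MemLocalIdeal M ((S : ℂ) / (D : ℂ)) := by
    rw [hSD]
    apply h7_memLocalIdeal_mul_right hMp (h7_memLocalIdeal_p hM)
    exact h7_memLocalRing_mul hMp (h7_memLocalRing_natCast hMp s)
      (h7_memLocalRing_inv_natCast hM t htcop)
  apply h7_not_memLocalIdeal_one hMp
  have e : (1 : ℂ) = (S : ℂ) / (D : ℂ) - ((S : ℂ) / (D : ℂ) - 1) := by ring
  rw [e]
  exact h7_memLocalIdeal_sub hMp hmem hkey

end

end Cfsg.Agent.Lib.Helper25
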