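import Mathlib

set_option autoImplicit false
set_option linter.deprecated false

namespace Cfsg.Agent.Lib.Helper25
open scoped Pointwise


def conjAutOf {G : Type*} [Group G] (H : Subgroup G) (t : G) (ht2 : t * t = 1)
    (htH : ∀ c ∈ H, t * c * t⁻¹ ∈ H) : MulAut H where
  toFun c := ⟨t * c * t⁻¹, htH c c.2⟩
  invFun c := ⟨t * c * t⁻¹, htH c c.2⟩
  left_inv c := by
    apply Subtype.ext
    have : t⁻¹ = t := inv_eq_of_mul_eq_one_right ht2
    simp only [this]
    calc t * (t * (c : G) * t) * t = (t * t) * (c : G) * (t * t) := by group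
      _ = c := by rw [ht2, one_mul, mul_one]
  right_inv c := by
    apply Subtype.ext
    have : t⁻¹ = t := inv_eq_of_mul_eq_one_right ht2
    simp only [this]
    calc t * (t * (c : G) * t) * t = (t * t) * (c : G) * (t * t) := by group
      _ = c := by rw [ht2, one_mul, mul_one]
  map_mul' a b := by
    apply Subtype.ext
    simp only [Subgroup.coe_mul]
    group

theorem conjAutOf_apply {G : Type*} [Group G] (H : Subgroup G) (t : G) (ht2 : t * t = 1)
    (htH : ∀ c ∈ H, t * c * t⁻¹ ∈ H) (c : H) :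
    ((conjAutOf H t ht2 htH c : H) : G) = t * c * t⁻¹ := rfl

theorem conjAutOf_sq {G : Type*} [Group G] (H : Subgroup G) (t : G) (ht2 : t * t = 1)
    (htH : ∀ c ∈ H, t * c * t⁻¹ ∈ H) : conjAutOf H t ht2 htH * conjAutOf H t ht2 htH = 1 := by
  ext c
  have : t⁻¹ = t := inv_eq_of_mul_eq_one_right ht2
  simp only [MulAut.mul_apply, conjAutOf_apply, MulAut.one_apply, this]
  calc t * (t * (c : G) * t) * t = (t * t) * (c : G) * (t * t) := by group
    _ = c := by rw [ht2, one_mul, mul_one]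

theorem inv_sylow {G : Type*} [Group G] [Finite G] (p : ℕ) [Fact p.Prime] (H : Subgroup G)
    (hodd : Odd (Nat.card H)) (t : G) (ht2 : t * t = 1) (htH : ∀ c ∈ H, t * c * t⁻¹ ∈ H) :
    ∃ S : Subgroup G, S ≤ H ∧ IsPGroup p S ∧ Nat.card S = p ^ (Nat.card H).factorization p ∧
      ∀ c ∈ S, t * c * t⁻¹ ∈ S := by
  classical
  set ψ := conjAutOf H t ht2 htH with hψ
  haveI : Fintype (Sylow p H) := Fintype.ofFinite _
  let f : Function.End (Sylow p H) := fun S => ψ • S
  have hf : f ^ 2 ^ 1 = 1 := by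
    rw [pow_one, pow_two]
    funext S
    change ψ • (ψ • S) = S
    rw [← mul_smul, conjAutOf_sq, one_smul]
  haveI : Fact (Nat.Prime 2) := ⟨Nat.prime_two⟩
  have hmod := Equiv.Perm.card_fixedPoints_modEq (p := 2) (n := 1) hf
  have hoddS : Odd (Fintype.card (Sylow p H)) := by
    obtain ⟨S⟩ : Nonempty (Sylow p H) := inferInstance
    have h1 : Nat.card (Sylow p H) ∣ Nat.card H :=
      (S.card_dvd_index).trans (Subgroup.index_dvd_card _)
    rw [Nat.card_eq_fintype_card] at h1
    exact Odd.of_dvd_nat hodd h1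
  have hne : 0 < Fintype.card (Function.fixedPoints f) := by
    by_contra h0
    have h0' : Fintype.card (Function.fixedPoints f) = 0 := by omega
    rw [h0'] at hmod
    have := Nat.odd_iff.1 hoddS
    unfold Nat.ModEq at hmod
    omega
  obtain ⟨⟨S₀, hS₀⟩⟩ := Fintype.card_pos_iff.1 hne
  have hfix : ψ • S₀ = S₀ := hS₀
  refine ⟨(S₀ : Subgroup H).map H.subtype, Subgroup.map_subtype_le _, ?_, ?_, ?_⟩
  · exact S₀.isPGroup'.map H.subtype
  · rw [Subgroup.card_map_of_injective H.subtype_injective, S₀.card_eq_multiplicity]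
  · rintro c ⟨c', hc', rfl⟩
    refine ⟨ψ c', ?_, rfl⟩
    have h1 : ψ c' ∈ ψ • (S₀ : Subgroup H) := Subgroup.smul_mem_pointwise_smul _ _ _ hc'
    have h2 : ((ψ • S₀ : Sylow p H) : Subgroup H) = ψ • (S₀ : Subgroup H) := rfl
    rw [← h2, hfix] at h1
    exact h1


theorem fpf_abelian {G : Type*} [Group G] [Finite G] (S : Subgroup G) (t : G) (ht2 : t * t = 1)
    (htS : ∀ c ∈ S, t * c * t⁻¹ ∈ S) (hfpf : ∀ c ∈ S, t * c * t⁻¹ = c → c = 1) :
    ∀ a ∈ S, ∀ b ∈ S, a * b = b * a := by
  set φ := conjAutOf S t ht2 htS with hφ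
  have hfp : MonoidHom.FixedPointFree φ := by
    intro g hg
    apply Subtype.ext
    apply hfpf g g.2
    have := congrArg Subtype.val hg
    rwa [conjAutOf_apply] at this
  have hinv : Function.Involutive φ := by
    intro g
    have := congrArg (fun ψ : MulAut S => ψ g) (conjAutOf_sq S t ht2 htS)
    simpa using this
  intro a ha b hb
  have := hfp.commute_all_of_involutive hinv ⟨a, ha⟩ ⟨b, hb⟩
  exact congrArg Subtype.val this.eq


theorem mem_of_full_pcard {G : Type*} [Group G] [Finite G] (p : ℕ) [Fact p.Prime]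
    (H S : Subgroup G) (hSH : S ≤ H) (hSp : IsPGroup p S)
    (hScard : Nat.card S = p ^ (Nat.card H).factorization p) (y : G) (hyH : y ∈ H)
    (hy : ∃ k : ℕ, orderOf y = p ^ k) (hcomm : ∀ s ∈ S, y * s = s * y) : y ∈ S := by
  have hpp : p.Prime := Fact.out
  have hzp : IsPGroup p (Subgroup.zpowers y) := by
    obtain ⟨k, hk⟩ := hy
    apply IsPGroup.of_card (n := k)
    rw [Nat.card_zpowers, hk]
  have hnorm : S ≤ Subgroup.normalizer (Subgroup.zpowers y : Set G) := by
    rw [Subgroup.le_normalizer_iff]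
    intro s hs c hc
    obtain ⟨i, rfl⟩ := Subgroup.mem_zpowers_iff.1 hc
    have h1 : s * y ^ i * s⁻¹ = y ^ i := by
      have hc' : Commute y s := hcomm s hs
      have := (hc'.zpow_left i).eq
      calc s * y ^ i * s⁻¹ = (y ^ i * s) * s⁻¹ := by rw [this]
        _ = y ^ i := by group
    rw [h1]
    exact Subgroup.zpow_mem_zpowers y i
  have hK : IsPGroup p (S ⊔ Subgroup.zpowers y : Subgroup G) :=
    IsPGroup.to_sup_of_normal_right' hSp hzp hnorm
  have hKH : S ⊔ Subgroup.zpowers y ≤ H := sup_le hSH ((Subgroup.zpowers_le).2 hyH)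
  obtain ⟨j, hj⟩ := hK.exists_card_eq
  have hdvd : Nat.card (S ⊔ Subgroup.zpowers y : Subgroup G) ∣ Nat.card H :=
    Subgroup.card_dvd_of_le hKH
  rw [hj] at hdvd
  have hjle : j ≤ (Nat.card H).factorization p :=
    (hpp.pow_dvd_iff_le_factorization Nat.card_pos.ne').1 hdvd
  have hcardle : Nat.card (S ⊔ Subgroup.zpowers y : Subgroup G) ≤ Nat.card S := by
    rw [hj, hScard]
    exact Nat.pow_le_pow_right hpp.pos hjle
  have heq : S = S ⊔ Subgroup.zpowers y :=
    Subgroup.eq_of_le_of_card_ge le_sup_left hcardle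
  rw [heq]
  exact (le_sup_right : Subgroup.zpowers y ≤ S ⊔ Subgroup.zpowers y) (Subgroup.mem_zpowers y)


theorem centralizer_conj_inv {G : Type*} [Group G] (t u : G) (ht2 : t * t = 1)
    (htu : t * u * t⁻¹ = u⁻¹) :
    ∀ c ∈ Subgroup.centralizer ({u} : Set G), t * c * t⁻¹ ∈ Subgroup.centralizer ({u} : Set G) := by
  intro c hc
  have htinv : t⁻¹ = t := inv_eq_of_mul_eq_one_right ht2
  rw [Subgroup.mem_centralizer_iff] at hc ⊢
  intro y hy
  rw [Set.mem_singleton_iff] at hy
  subst hy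
  have hcu : y * c = c * y := hc y (Set.mem_singleton y)
  have h1 : t⁻¹ * y * t = y⁻¹ := by
    rw [htinv]
    have := htu
    rw [htinv] at this
    exact this
  have hcu' : y⁻¹ * c = c * y⁻¹ := by
    calc y⁻¹ * c = y⁻¹ * (c * y) * y⁻¹ := by group
      _ = y⁻¹ * (y * c) * y⁻¹ := by rw [hcu]
      _ = c * y⁻¹ := by group
  calc y * (t * c * t⁻¹) = t * ((t⁻¹ * y * t) * c) * t⁻¹ := by group
    _ = t * (y⁻¹ * c) * t⁻¹ := by rw [h1]
    _ = t * (c * y⁻¹) * t⁻¹ := by rw [hcu']
    _ = t * c * t⁻¹ * (t * y⁻¹ * t⁻¹) := by group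
    _ = t * c * t⁻¹ * y := by
        have : t * y⁻¹ * t⁻¹ = y := by
          have h2 := congrArg (fun w => w⁻¹) htu
          simp only [mul_inv_rev, inv_inv] at h2
          rw [← mul_assoc] at h2
          exact h2
        rw [this]


theorem exists_inv_sylow {G : Type*} [Group G] [Finite G] (p : ℕ) [Fact p.Prime]
    (hC : ∀ g : G, g ≠ 1 → (∃ k : ℕ, orderOf g = p ^ k) →
      Odd (Nat.card ↥(Subgroup.centralizer ({g} : Set G))))
    (t u : G) (ht2 : t * t = 1) (ht1 : t ≠ 1) (hu1 : u ≠ 1) (hu : ∃ k : ℕ, orderOf u = p ^ k)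
    (htu : t * u * t⁻¹ = u⁻¹) :
    ∃ S : Subgroup G, Nat.card S = p ^ (Nat.card G).factorization p ∧
      (∀ c ∈ S, t * c * t⁻¹ ∈ S) ∧ (∀ a ∈ S, ∀ b ∈ S, a * b = b * a) := by
  have hpp : p.Prime := Fact.out
  have hto : orderOf t = 2 := orderOf_eq_prime (by rw [pow_two]; exact ht2) ht1
  -- fixed-point-freeness on p-subgroups
  have hfpf : ∀ S : Subgroup G, IsPGroup p S → ∀ c ∈ S, t * c * t⁻¹ = c → c = 1 := by
    intro S hS c hc htc
    by_contra hc1
    have hcp : ∃ k : ℕ, orderOf c = p ^ k := by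
      obtain ⟨k, hk⟩ := (IsPGroup.iff_orderOf.1 hS) ⟨c, hc⟩
      exact ⟨k, by rw [← hk, Subgroup.orderOf_mk]⟩
    have hodd := hC c hc1 hcp
    have htc' : t ∈ Subgroup.centralizer ({c} : Set G) := by
      rw [Subgroup.mem_centralizer_iff]
      intro y hy
      rw [Set.mem_singleton_iff] at hy
      subst hy
      calc y * t = (t * y * t⁻¹) * t := by rw [htc]
        _ = t * y := by group
    have h2 : 2 ∣ Nat.card (Subgroup.centralizer ({c} : Set G)) := by
      have := orderOf_dvd_natCard (⟨t, htc'⟩ : Subgroup.centralizer ({c} : Set G))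
      rwa [Subgroup.orderOf_mk, hto] at this
    exact (Nat.not_even_iff_odd.2 hodd) (even_iff_two_dvd.2 h2)
  -- round 1
  set H := Subgroup.centralizer ({u} : Set G) with hH
  obtain ⟨S, hSH, hSp, hScard, hSt⟩ := inv_sylow p H (hC u hu1 hu) t ht2
    (centralizer_conj_inv t u ht2 htu)
  have hSab := fpf_abelian S t ht2 hSt (hfpf S hSp)
  have hSinv : ∀ c ∈ S, t * c * t⁻¹ = c⁻¹ := by
    intro c hc
    set φ := conjAutOf S t ht2 hSt with hφ
    have hfp : MonoidHom.FixedPointFree φ := by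
      intro g hg
      apply Subtype.ext
      apply hfpf S hSp g g.2
      have := congrArg Subtype.val hg
      rwa [conjAutOf_apply] at this
    have hinv : Function.Involutive φ := by
      intro g
      have := congrArg (fun ψ : MulAut S => ψ g) (conjAutOf_sq S t ht2 hSt)
      simpa using this
    have h1 := congrFun (hfp.coe_eq_inv_of_involutive hinv) ⟨c, hc⟩
    have h2 := congrArg Subtype.val h1
    rw [hφ, conjAutOf_apply] at h2
    simpa using h2
  have huH : u ∈ H := by
    rw [hH, Subgroup.mem_centralizer_iff]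
    intro y hy
    rw [Set.mem_singleton_iff] at hy
    rw [hy]
  have huS : u ∈ S := by
    apply mem_of_full_pcard p H S hSH hSp hScard u huH hu
    intro s hs
    have := Subgroup.mem_centralizer_iff.1 (hSH hs) u (Set.mem_singleton u)
    exact this
  obtain ⟨P, hSP⟩ := hSp.exists_le_sylow
  haveI : Nontrivial (P : Subgroup G) :=
    ⟨⟨⟨u, hSP huS⟩, 1, fun h => hu1 (congrArg Subtype.val h)⟩⟩
  haveI : Nontrivial (Subgroup.center (P : Subgroup G)) := P.isPGroup'.center_nontrivial
  obtain ⟨z, hz⟩ := exists_ne (1 : Subgroup.center (P : Subgroup G))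
  set z' : G := ((z : (P : Subgroup G)) : G) with hz'
  have hz1 : z' ≠ 1 := by
    intro h1
    apply hz
    apply Subtype.ext
    apply Subtype.ext
    exact h1
  have hzP : z' ∈ (P : Subgroup G) := (z : (P : Subgroup G)).2
  have hzcent : ∀ b ∈ (P : Subgroup G), z' * b = b * z' := by
    intro b hb
    have := Subgroup.mem_center_iff.1 z.2 ⟨b, hb⟩
    have h2 := congrArg Subtype.val this
    simp only [Subgroup.coe_mul] at h2
    exact h2.symm
  have hzp : ∃ k : ℕ, orderOf z' = p ^ k := by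
    obtain ⟨k, hk⟩ := (IsPGroup.iff_orderOf.1 P.isPGroup') ⟨z', hzP⟩
    exact ⟨k, by rw [← hk, Subgroup.orderOf_mk]⟩
  have hzH : z' ∈ H := by
    rw [hH, Subgroup.mem_centralizer_iff]
    intro y hy
    rw [Set.mem_singleton_iff] at hy
    subst hy
    exact (hzcent y (hSP huS)).symm
  have hzS : z' ∈ S := by
    apply mem_of_full_pcard p H S hSH hSp hScard z' hzH hzp
    intro s hs
    exact hzcent s (hSP hs)
  have htz : t * z' * t⁻¹ = z'⁻¹ := hSinv z' hzS
  -- round 2
  set H₂ := Subgroup.centralizer ({z'} : Set G) with hH₂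
  obtain ⟨S₂, hS₂H, hS₂p, hS₂card, hS₂t⟩ := inv_sylow p H₂ (hC z' hz1 hzp) t ht2
    (centralizer_conj_inv t z' ht2 htz)
  have hPH₂ : (P : Subgroup G) ≤ H₂ := by
    intro b hb
    rw [hH₂, Subgroup.mem_centralizer_iff]
    intro y hy
    rw [Set.mem_singleton_iff] at hy
    subst hy
    exact hzcent b hb
  have hfac : (Nat.card H₂).factorization p = (Nat.card G).factorization p := by
    apply le_antisymm
    · exact (Nat.factorization_le_iff_dvd Nat.card_pos.ne' Nat.card_pos.ne').2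
        (Subgroup.card_subgroup_dvd_card H₂) p
    · have h1 : Nat.card (P : Subgroup G) ∣ Nat.card H₂ := Subgroup.card_dvd_of_le hPH₂
      rw [P.card_eq_multiplicity] at h1
      exact (hpp.pow_dvd_iff_le_factorization Nat.card_pos.ne').1 h1
  refine ⟨S₂, by rw [hS₂card, hfac], hS₂t, ?_⟩
  exact fpf_abelian S₂ t ht2 hS₂t (hfpf S₂ hS₂p)


end Cfsg.Agent.Lib.Helper25
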