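import Mathlib
import Cfsg.Agent.Lib.Helper25.InvolSylow

set_option autoImplicit false
set_option linter.deprecated false

namespace Cfsg.Agent.Lib.Helper25
open scoped Pointwise


theorem fpf_inverts {G : Type*} [Group G] [Finite G] (S : Subgroup G) (t : G) (ht2 : t * t = 1)
    (htS : ∀ c ∈ S, t * c * t⁻¹ ∈ S) (hfpf : ∀ c ∈ S, t * c * t⁻¹ = c → c = 1) :
    ∀ c ∈ S, t * c * t⁻¹ = c⁻¹ := by
  intro c hc
  set φ := conjAutOf S t ht2 htS with hφ
  have hfp : MonoidHom.FixedPointFree φ := by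
    intro g hg
    apply Subtype.ext
    apply hfpf g g.2
    have := congrArg Subtype.val hg
    rwa [conjAutOf_apply] at this
  have hinv : Function.Involutive φ := by
    intro g
    have := congrArg (fun ψ : MulAut S => ψ g) (conjAutOf_sq S t ht2 htS)
    simpa using this
  have h1 := congrFun (hfp.coe_eq_inv_of_involutive hinv) ⟨c, hc⟩
  have h2 := congrArg Subtype.val h1
  rw [hφ, conjAutOf_apply] at h2
  simpa using h2

theorem involutions_conj_of_odd_prod {G : Type*} [Group G] (s t : G) (hs : s * s = 1)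
    (ht : t * t = 1) (hodd : Odd (orderOf (s * t))) : IsConj s t := by
  obtain ⟨m, hm⟩ := hodd
  set r := s * t with hr
  have hsinv : s⁻¹ = s := inv_eq_of_mul_eq_one_right hs
  have htinv : t⁻¹ = t := inv_eq_of_mul_eq_one_right ht
  have hsr : s * r * s = r⁻¹ := by
    rw [hr, mul_inv_rev, hsinv, htinv]
    calc s * (s * t) * s = (s * s) * t * s := by group
      _ = t * s := by rw [hs, one_mul]
  clear_value r
  have hsrpow : ∀ j : ℕ, s * r ^ j * s = (r ^ j)⁻¹ := by
    intro j
    induction j with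
    | zero => simp [hs]
    | succ j ih =>
      calc s * r ^ (j + 1) * s = (s * r ^ j * s) * (s * r * s) := by
            rw [pow_succ]
            calc s * (r ^ j * r) * s = s * r ^ j * (1 : G) * r * s := by group
              _ = s * r ^ j * (s * s) * r * s := by rw [hs]
              _ = (s * r ^ j * s) * (s * r * s) := by group
        _ = (r ^ j)⁻¹ * r⁻¹ := by rw [ih, hsr]
        _ = (r ^ (j + 1))⁻¹ := by
            rw [pow_succ', mul_inv_rev]
  have hrn : r ^ (2 * m + 1) = 1 := by rw [← hm]; exact pow_orderOf_eq_one r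
  rw [isConj_iff]
  refine ⟨r ^ m, ?_⟩
  have h1 : r ^ m * s = s * (r ^ m)⁻¹ := by
    have := hsrpow m
    calc r ^ m * s = (s * s) * r ^ m * s := by rw [hs, one_mul]
      _ = s * (s * r ^ m * s) := by group
      _ = s * (r ^ m)⁻¹ := by rw [this]
  have h2 : (r ^ m)⁻¹ * (r ^ m)⁻¹ = r := by
    have h3 : r ^ m * r ^ m * r = 1 := by
      rw [← pow_add, ← pow_succ]
      have : m + m + 1 = 2 * m + 1 := by ring
      rw [this, hrn]
    have h4 : r = (r ^ m * r ^ m)⁻¹ := by
      rw [eq_inv_iff_mul_eq_one]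
      have hc : Commute r (r ^ m * r ^ m) := ((Commute.refl r).pow_right m).mul_right ((Commute.refl r).pow_right m)
      rw [hc.eq]
      exact h3
    rw [← mul_inv_rev, ← h4]
  calc r ^ m * s * (r ^ m)⁻¹ = s * (r ^ m)⁻¹ * (r ^ m)⁻¹ := by rw [h1]
    _ = s * ((r ^ m)⁻¹ * (r ^ m)⁻¹) := by group
    _ = s * r := by rw [h2]
    _ = t := by rw [hr]; calc s * (s * t) = (s * s) * t := by group
                          _ = t := by rw [hs, one_mul]


theorem odd_centralizer_of_no_2p {G : Type*} [Group G] [Finite G] (p : ℕ) [Fact p.Prime]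
    (hp2 : p ≠ 2) (h2p : ∀ g : G, orderOf g ≠ 2 * p) (g : G) (hg1 : g ≠ 1)
    (hgp : ∃ k : ℕ, orderOf g = p ^ k) :
    Odd (Nat.card ↥(Subgroup.centralizer ({g} : Set G))) := by
  have hpp : p.Prime := Fact.out
  rw [← Nat.not_even_iff_odd]
  intro heven
  haveI : Fact (Nat.Prime 2) := ⟨Nat.prime_two⟩
  obtain ⟨t, ht⟩ := exists_prime_orderOf_dvd_card' (G := Subgroup.centralizer ({g} : Set G)) 2
    heven.two_dvd
  have ht' : orderOf (t : G) = 2 := by rw [Subgroup.orderOf_coe]; exact ht
  obtain ⟨k, hk⟩ := hgp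
  have hk0 : k ≠ 0 := by
    rintro rfl
    rw [pow_zero] at hk
    exact hg1 (orderOf_eq_one_iff.1 hk)
  obtain ⟨j, rfl⟩ := Nat.exists_eq_succ_of_ne_zero hk0
  set g' := g ^ (p ^ j) with hg'
  have hg'ord : orderOf g' = p := by
    have : orderOf (g ^ (p ^ j)) = orderOf g / Nat.gcd (orderOf g) (p ^ j) := orderOf_pow g
    rw [hg', this, hk]
    have hgcd : Nat.gcd (p ^ (j + 1)) (p ^ j) = p ^ j :=
      Nat.gcd_eq_right (pow_dvd_pow p (Nat.le_succ j))
    rw [hgcd, pow_succ, Nat.mul_div_cancel_left _ (pow_pos hpp.pos j)]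
  have hcomm : Commute (t : G) g' := by
    have h1 : g * (t : G) = (t : G) * g :=
      Subgroup.mem_centralizer_iff.1 t.2 g (Set.mem_singleton g)
    have h2 : Commute (t : G) g := h1.symm
    exact h2.pow_right _
  have hcop : Nat.Coprime (orderOf (t : G)) (orderOf g') := by
    rw [ht', hg'ord]
    exact (Nat.coprime_primes Nat.prime_two hpp).2 (Ne.symm hp2)
  have := hcomm.orderOf_mul_eq_mul_orderOf_of_coprime hcop
  rw [ht', hg'ord] at this
  exact h2p _ this


end Cfsg.Agent.Lib.Helper25
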