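import Mathlib
import Cfsg.Agent.Lib.Helper25.Blichfeldt
import Cfsg.Agent.Lib.helper7.Clifford
import Cfsg.Agent.S0015
import Cfsg.Agent.S4470

/-!
Explicit Jordan bound (Isaacs 14.12): a finite group with a faithful character of degree n has an abelian normal subgroup of index at most n! * 12^(n(pi(n+1)+1)). blf_nilp_abelian_index: nilpotent group with faithful character of degree n has an abelian subgroup of index dividing n!; blf_fact_index_le; blf_small_prime; blf_arith; blf_jordan.
-/

set_option autoImplicit false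
set_option linter.style.haveILetI false
set_option linter.unusedVariables false
set_option linter.unusedSectionVars false
set_option warn.classDefReducibility false
set_option maxHeartbeats 1600000

namespace Cfsg.Agent.Lib.Helper25
open Cfsg.Agent.Lib.Helper11
open Cfsg.Agent.Lib.helper2
open Cfsg.Agent.Lib.helper7
open Cfsg.Agent.Lib.Helper24
open scoped ComplexConjugate Pointwise
section

universe u

/-- A maximal normal abelian subgroup exists. -/
theorem blf_exists_max_abelian_normal (P : Type*) [Group P] [Finite P] :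
    ∃ N : Subgroup P, N.Normal ∧ IsMulCommutative N ∧
      ∀ M : Subgroup P, M.Normal → IsMulCommutative M → N ≤ M → M = N := by
  classical
  let S : Set (Subgroup P) := {N | N.Normal ∧ IsMulCommutative N}
  have hfin : S.Finite := Set.toFinite S
  have hne : S.Nonempty := by
    refine ⟨⊥, inferInstance, ⟨⟨fun a b => ?_⟩⟩⟩
    exact Subsingleton.elim _ _
  obtain ⟨N, hN⟩ := hfin.exists_maximal hne
  refine ⟨N, hN.1.1, hN.1.2, ?_⟩
  intro M hMn hMc hle
  exact le_antisymm (hN.2 (show M ∈ S from ⟨hMn, hMc⟩) hle) hle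

/-- A nilpotent group with a faithful character of degree `n` has an abelian subgroup of index
dividing `n!`. -/
theorem blf_nilp_abelian_index {P : Type u} [Group P] [Finite P] [Group.IsNilpotent P]
    (χ : P → ℂ) (hχ : Cfsg.IsCharacter P χ) (hfaith : ∀ g : P, χ g = χ 1 → g = 1)
    (n : ℕ) (hn : χ 1 = (n : ℂ)) :
    ∃ N : Subgroup P, (∀ x ∈ N, ∀ y ∈ N, x * y = y * x) ∧ N.index ∣ n.factorial := by
  classical
  obtain ⟨N, hNn, hNc, hmax⟩ := blf_exists_max_abelian_normal P
  haveI := hNn
  haveI := hNc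
  have hcent : Subgroup.centralizer (N : Set P) = N := Cfsg.Agent.S0015.result N hmax
  haveI : Fintype N := Fintype.ofFinite N
  haveI : Fintype (Cfsg.IrrCharacter N) := Fintype.ofFinite _
  have hres := isCharacter_restrict hχ N
  obtain ⟨m, hm1, hm⟩ := isCharacter_expansion hres
  have hcl : Cfsg.IsClassFunction P χ := isCharacter_isClassFunction hχ
  have hlin : ∀ ψ : Cfsg.IrrCharacter N, (ψ : N → ℂ) 1 = 1 :=
    fun ψ => gn_irr_one_of_isMulCommutative ψ
  have hinv : ∀ (ψ : Cfsg.IrrCharacter N) (g : P)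
      (h : Cfsg.IsIrrCharacter N (cj N (ψ : N → ℂ) g)), m ⟨cj N (ψ : N → ℂ) g, h⟩ = m ψ := by
    intro ψ g h
    have h1 := h7_classInner_restrict_cj N χ hcl (ψ : N → ℂ) g
    rw [hm1 ψ] at h1
    have h2 := hm1 ⟨_, h⟩
    simp only at h2
    rw [h1] at h2
    exact_mod_cast h2.symm
  -- the set of constituents
  let Λ := {ψ : Cfsg.IrrCharacter N // m ψ ≠ 0}
  have hsum : n = ∑ ψ : Cfsg.IrrCharacter N, m ψ := by
    have h1 := congrFun hm 1
    simp only [Finset.sum_apply, Pi.smul_apply, smul_eq_mul, hlin, mul_one] at h1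
    have h2 : χ ((1 : N) : P) = (n : ℂ) := by simpa using hn
    rw [h2] at h1
    exact_mod_cast h1
  have hcard : Nat.card Λ ≤ n := by
    rw [Nat.card_eq_fintype_card, Fintype.card_subtype, Finset.card_filter, hsum]
    apply Finset.sum_le_sum
    intro ψ _
    by_cases h : m ψ = 0
    · rw [if_neg (by simpa using h)]; omega
    · rw [if_pos h]; omega
  letI act : MulAction P Λ :=
    { smul := fun g ψ => ⟨⟨cj N (ψ.1 : N → ℂ) g⁻¹, isIrr_cj N _ ψ.1.2 g⁻¹⟩, by
        rw [hinv]; exact ψ.2⟩
      one_smul := fun ψ => by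
        apply Subtype.ext; apply Subtype.ext
        show cj N (ψ.1 : N → ℂ) (1 : P)⁻¹ = _
        rw [inv_one, cj_one]
      mul_smul := fun g h ψ => by
        apply Subtype.ext; apply Subtype.ext
        show cj N (ψ.1 : N → ℂ) (g * h)⁻¹ = cj N (cj N (ψ.1 : N → ℂ) h⁻¹) g⁻¹
        rw [cj_mul, mul_inv_rev] }
  have hsmul : ∀ (g : P) (ψ : Λ), ((g • ψ : Λ).1 : N → ℂ) = cj N (ψ.1 : N → ℂ) g⁻¹ :=
    fun g ψ => rfl
  let φ : P →* Equiv.Perm Λ := MulAction.toPermHom P Λ
  have hker : φ.ker ≤ N := by
    intro g hg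
    rw [← hcent, Subgroup.mem_centralizer_iff]
    intro a ha
    have hg' : φ g = 1 := hg
    have hfix : ∀ ψ : Λ, cj N (ψ.1 : N → ℂ) g⁻¹ = (ψ.1 : N → ℂ) := by
      intro ψ
      have h1 := congrArg (fun e : Equiv.Perm Λ => e ψ) hg'
      simp only [φ, MulAction.toPermHom_apply, MulAction.toPerm_apply, Equiv.Perm.coe_one,
        id_eq] at h1
      rw [← hsmul g ψ, h1]
    let a' : N := ⟨a, ha⟩
    let b' : N := ⟨g⁻¹ * a * g⁻¹⁻¹, hNn.conj_mem a ha g⁻¹⟩
    have hc : b' * a'⁻¹ = 1 := by
      have hfa : ∀ h : N, (fun h : N => χ h) h = (fun h : N => χ h) 1 → h = 1 := by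
        intro h hh
        apply Subtype.ext
        apply hfaith
        simpa using hh
      apply hfa
      apply blf_value_of_constituents m hm
      intro ψ hψ0
      have h1 := hlin ψ
      have h2 := congrFun (hfix ⟨ψ, hψ0⟩) a'
      rw [cj_apply] at h2
      rw [irr_linear_mul ψ h1]
      have h3 : (ψ : N → ℂ) b' = (ψ : N → ℂ) a' := h2
      rw [h3, ← irr_linear_mul ψ h1, mul_inv_cancel]
    have h4 : b' = a' := by
      have := congrArg (fun t => t * a') hc
      simpa [mul_assoc] using this
    have h5 := congrArg Subtype.val h4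
    simp only [a', b', inv_inv] at h5
    -- g⁻¹ * a * g = a
    have : a * g = g * (g⁻¹ * a * g) := by group
    rw [this, h5]
  refine ⟨N, fun x hx y hy => ?_, ?_⟩
  · have := hNc.is_comm.comm ⟨x, hx⟩ ⟨y, hy⟩
    exact congrArg Subtype.val this
  · have h1 : N.index ∣ φ.ker.index := Subgroup.index_dvd_of_le hker
    have h2 : φ.ker.index = Nat.card φ.range := Subgroup.index_ker φ
    have h3 : Nat.card φ.range ∣ Nat.card (Equiv.Perm Λ) := Subgroup.card_subgroup_dvd_card _
    rw [Nat.card_perm] at h3
    exact h1.trans (h2 ▸ h3.trans (Nat.factorial_dvd_factorial hcard))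

end

section

universe u

theorem blf_relIndex_ne_zero {G : Type*} [Group G] [Finite G] (A X : Subgroup G) :
    A.relIndex X ≠ 0 := by
  unfold Subgroup.relIndex
  exact Subgroup.index_ne_zero_of_finite

/-- If `p` does not divide the index of `X`, the `p`-part of `|G : A|` is seen inside `X`. -/
theorem blf_fact_index_le {G : Type*} [Group G] [Finite G] (A X : Subgroup G) [A.Normal] (p : ℕ)
    (hX : ¬ p ∣ X.index) :
    A.index.factorization p ≤ (A.relIndex X).factorization p := by
  have h1 : A.relIndex (X ⊔ A) * (X ⊔ A).index = A.index :=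
    Subgroup.relIndex_mul_index le_sup_right
  have h2 : A.relIndex (X ⊔ A) = A.relIndex X := Subgroup.relIndex_sup_right X A
  have h3 : (X ⊔ A).index ∣ X.index := Subgroup.index_dvd_of_le le_sup_left
  have h4 : ¬ p ∣ (X ⊔ A).index := fun h => hX (h.trans h3)
  have h5 : A.relIndex X ≠ 0 := blf_relIndex_ne_zero A X
  have h6 : (X ⊔ A).index ≠ 0 := Subgroup.index_ne_zero_of_finite
  rw [← h1, h2, Nat.factorization_mul h5 h6]
  simp [Nat.factorization_eq_zero_of_not_dvd h4]

/-- The `p`-part of the index of `A`, bounded through a Sylow `p`-subgroup. -/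
theorem blf_small_prime {G : Type u} [Group G] [Finite G] (χ : G → ℂ) (hχ : Cfsg.IsCharacter G χ)
    (hfaith : ∀ g : G, χ g = χ 1 → g = 1) (n : ℕ) (hn : χ 1 = (n : ℂ))
    (A : Subgroup G) [A.Normal] (B : ℕ)
    (hA : ∀ H : Subgroup G, (∀ x ∈ H, ∀ y ∈ H, x * y = y * x) → (A.subgroupOf H).index ≤ B)
    (p : ℕ) (hp : p.Prime) :
    p ^ A.index.factorization p ≤ p ^ (n.factorial).factorization p * B := by
  classical
  haveI : Fact p.Prime := ⟨hp⟩
  obtain ⟨P⟩ : Nonempty (Sylow p G) := inferInstance
  have hPidx : ¬ p ∣ (P : Subgroup G).index := Sylow.not_dvd_index P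
  have h1 := blf_fact_index_le A (P : Subgroup G) p hPidx
  have hR0 : A.relIndex (P : Subgroup G) ≠ 0 := blf_relIndex_ne_zero _ _
  have h2 : p ^ A.index.factorization p ≤ A.relIndex (P : Subgroup G) := by
    apply Nat.le_of_dvd (Nat.pos_of_ne_zero hR0)
    exact (pow_dvd_pow p h1).trans (Nat.ordProj_dvd _ p)
  -- the Sylow subgroup as a group
  haveI : Group.IsNilpotent (P : Subgroup G) := IsPGroup.isNilpotent P.isPGroup'
  have hres := isCharacter_restrict hχ (P : Subgroup G)
  have hfa : ∀ h : (P : Subgroup G), (fun h : (P : Subgroup G) => χ h) h =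
      (fun h : (P : Subgroup G) => χ h) 1 → h = 1 := by
    intro h hh
    apply Subtype.ext
    apply hfaith
    simpa using hh
  have hn' : (fun h : (P : Subgroup G) => χ h) 1 = (n : ℂ) := by simpa using hn
  obtain ⟨N₀, hN₀c, hN₀i⟩ := blf_nilp_abelian_index _ hres hfa n hn'
  let N' : Subgroup G := N₀.map (P : Subgroup G).subtype
  have hN'P : N' ≤ (P : Subgroup G) := by
    intro x hx
    obtain ⟨y, -, rfl⟩ := hx
    exact y.2
  have hN'c : ∀ x ∈ N', ∀ y ∈ N', x * y = y * x := by
    intro x hx y hy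
    obtain ⟨x₀, hx₀, rfl⟩ := hx
    obtain ⟨y₀, hy₀, rfl⟩ := hy
    have := hN₀c x₀ hx₀ y₀ hy₀
    exact congrArg Subtype.val this
  have hN'idx : N'.relIndex (P : Subgroup G) = N₀.index := by
    unfold Subgroup.relIndex Subgroup.subgroupOf
    rw [Subgroup.comap_map_eq_self_of_injective (Subgroup.subtype_injective _)]
  have h3 : A.relIndex N' ≤ B := hA N' hN'c
  have h4 : (A ⊓ N').relIndex N' * N'.relIndex (P : Subgroup G) =
      (A ⊓ N').relIndex (P : Subgroup G) :=
    Subgroup.relIndex_mul_relIndex _ _ _ inf_le_right hN'P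
  rw [Subgroup.inf_relIndex_right] at h4
  have h5 : A.relIndex (P : Subgroup G) ∣ (A ⊓ N').relIndex (P : Subgroup G) :=
    Subgroup.relIndex_dvd_of_le_left _ inf_le_left
  have h6 : A.relIndex (P : Subgroup G) ≤ A.relIndex N' * N₀.index := by
    rw [← hN'idx, h4]
    apply Nat.le_of_dvd (Nat.pos_of_ne_zero (blf_relIndex_ne_zero _ _)) h5
  -- the index of N₀ is a power of p dividing n!
  have h7 : N₀.index ∣ Nat.card (P : Subgroup G) := Subgroup.index_dvd_card N₀
  obtain ⟨k, hk⟩ := IsPGroup.iff_card.mp P.isPGroup'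
  rw [hk] at h7
  obtain ⟨j, -, hj⟩ := (Nat.dvd_prime_pow hp).1 h7
  have h8 : j ≤ (n.factorial).factorization p := by
    rw [← hp.pow_dvd_iff_le_factorization (Nat.factorial_ne_zero n), ← hj]
    exact hN₀i
  have h9 : N₀.index ≤ p ^ (n.factorial).factorization p := by
    rw [hj]; exact Nat.pow_le_pow_right hp.pos h8
  calc p ^ A.index.factorization p ≤ A.relIndex (P : Subgroup G) := h2
    _ ≤ A.relIndex N' * N₀.index := h6
    _ ≤ B * p ^ (n.factorial).factorization p := Nat.mul_le_mul h3 h9
    _ = p ^ (n.factorial).factorization p * B := Nat.mul_comm _ _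

end

section

universe u

/-- The arithmetic at the end of the explicit Jordan bound. -/
theorem blf_arith (I n R B : ℕ) (hI : I ≠ 0) (hR : R ≠ 0) (hRB : R ≤ B) (hB : 1 ≤ B)
    (hbig : ∀ q : ℕ, q.Prime → n + 1 < q → I.factorization q ≤ R.factorization q)
    (hsmall : ∀ p : ℕ, p.Prime → p ≤ n + 1 →
      p ^ I.factorization p ≤ p ^ (n.factorial).factorization p * B) :
    I ≤ n.factorial * B ^ (Nat.primeCounting (n + 1) + 1) := by
  classical
  set f := I.factorization with hf
  set fS := f.filter (fun p => p ≤ n + 1) with hfS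
  set fL := f.filter (fun p => ¬ p ≤ n + 1) with hfL
  have hsplit : fS + fL = f := Finsupp.filter_add_filter_not f _
  set S := fS.prod (fun p k => p ^ k) with hS
  set L := fL.prod (fun p k => p ^ k) with hL
  have hSL : S * L = I := by
    rw [hS, hL, ← Finsupp.prod_add_index' (h := fun p k => p ^ k) (fun a => pow_zero a)
      (fun a b c => pow_add a b c), hsplit, hf]
    exact Nat.prod_factorization_pow_eq_self hI
  have hfprime : ∀ p ∈ f.support, p.Prime := by
    intro p hp
    rw [hf, Nat.support_factorization] at hp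
    exact Nat.prime_of_mem_primeFactors hp
  -- the large part divides R
  have hLprime : ∀ p ∈ fL.support, p.Prime := by
    intro p hp
    apply hfprime
    rw [hfL, Finsupp.support_filter] at hp
    exact (Finset.mem_filter.1 hp).1
  have hLfac : L.factorization = fL := Nat.prod_pow_factorization_eq_self hLprime
  have hL0 : L ≠ 0 := by
    intro h
    rw [h, mul_zero] at hSL
    exact hI hSL.symm
  have hS0 : S ≠ 0 := by
    intro h
    rw [h, zero_mul] at hSL
    exact hI hSL.symm
  have hLR : L ∣ R := by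
    rw [← Nat.factorization_le_iff_dvd hL0 hR, hLfac]
    intro q
    rw [hfL, Finsupp.filter_apply]
    by_cases hq : q ≤ n + 1
    · rw [if_neg (not_not.2 hq)]; exact Nat.zero_le _
    · rw [if_pos hq]
      by_cases hqp : q.Prime
      · exact hbig q hqp (by omega)
      · rw [hf, Nat.factorization_eq_zero_of_not_prime _ hqp]; exact Nat.zero_le _
  have hLB : L ≤ B := (Nat.le_of_dvd (Nat.pos_of_ne_zero hR) hLR).trans hRB
  -- the small part
  set T := (Finset.range (n + 2)).filter Nat.Prime with hT
  have hTcard : T.card = Nat.primeCounting (n + 1) := by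
    rw [hT, ← Nat.count_eq_card_filter_range]
    rfl
  have hSsub : fS.support ⊆ T := by
    intro p hp
    rw [hfS, Finsupp.support_filter] at hp
    obtain ⟨hp1, hp2⟩ := Finset.mem_filter.1 hp
    rw [hT, Finset.mem_filter, Finset.mem_range]
    exact ⟨by omega, hfprime p hp1⟩
  have hSeq : S = ∏ p ∈ T, p ^ fS p :=
    Finsupp.prod_of_support_subset fS hSsub (fun p k => p ^ k) (fun i _ => pow_zero i)
  have hSle : S ≤ ∏ p ∈ T, (p ^ (n.factorial).factorization p * B) := by
    rw [hSeq]
    apply Finset.prod_le_prod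
    · intro p _; exact Nat.zero_le _
    · intro p hp
      rw [hT, Finset.mem_filter, Finset.mem_range] at hp
      have hple : p ≤ n + 1 := by omega
      have : fS p = I.factorization p := by
        rw [hfS, Finsupp.filter_apply, if_pos hple]
      rw [this]
      exact hsmall p hp.2 hple
  have hfact : ∏ p ∈ T, p ^ (n.factorial).factorization p = n.factorial := by
    have hsub : (n.factorial).factorization.support ⊆ T := by
      intro p hp
      rw [Nat.support_factorization] at hp
      have hpp := Nat.prime_of_mem_primeFactors hp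
      have hpd := Nat.dvd_of_mem_primeFactors hp
      rw [hpp.dvd_factorial] at hpd
      rw [hT, Finset.mem_filter, Finset.mem_range]
      exact ⟨by omega, hpp⟩
    have := Finsupp.prod_of_support_subset (n.factorial).factorization hsub (fun p k => p ^ k)
      (fun i _ => pow_zero i)
    rw [← this]
    exact Nat.prod_factorization_pow_eq_self (Nat.factorial_ne_zero n)
  rw [Finset.prod_mul_distrib, hfact, Finset.prod_const, hTcard] at hSle
  calc I = S * L := hSL.symm
    _ ≤ (n.factorial * B ^ Nat.primeCounting (n + 1)) * B := Nat.mul_le_mul hSle hLB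
    _ = n.factorial * B ^ (Nat.primeCounting (n + 1) + 1) := by rw [pow_succ, mul_assoc]

/-- The explicit Jordan bound (Isaacs 14.12). -/
theorem blf_jordan {G : Type u} [Group G] [Finite G] (χ : G → ℂ) (hχ : Cfsg.IsCharacter G χ)
    (hfaith : ∀ g : G, χ g = χ 1 → g = 1) (n : ℕ) (hn : Cfsg.charDegree χ = n) :
    ∃ A : Subgroup G, A.Normal ∧ (∀ x ∈ A, ∀ y ∈ A, x * y = y * x) ∧
      A.index ≤ Nat.factorial n * 12 ^ (n * (Nat.primeCounting (n + 1) + 1)) := by
  obtain ⟨A, hAn, hAc, hA⟩ := Cfsg.Agent.S4470.result χ hχ hfaith n hn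
  haveI := hAn
  obtain ⟨H, hHc, -, -, hHidx⟩ := blf_hall χ hχ hfaith n hn
  refine ⟨A, hAn, hAc, ?_⟩
  have hn1 : χ 1 = (n : ℂ) := blf_char_one hχ n hn
  rw [pow_mul]
  apply blf_arith A.index n (A.relIndex H) (12 ^ n) Subgroup.index_ne_zero_of_finite
    (blf_relIndex_ne_zero A H) (hA H hHc) (Nat.one_le_pow _ _ (by norm_num))
  · intro q hq hnq
    apply blf_fact_index_le A H q
    intro hdvd
    have := hHidx q hq hdvd
    omega
  · intro p hp _
    exact blf_small_prime χ hχ hfaith n hn1 A (12 ^ n) hA p hp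

end

end Cfsg.Agent.Lib.Helper25
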