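import Cfsg.Agent.Lib.Helper13.KInfC

set_option autoImplicit false

/-! The sandwich property of Glauberman's K-infinity subgroups: if both K-infinity subgroups of
`P` lie in `R ≤ P`, then `R` and `P` have the same K-infinity subgroups (helper25). -/

namespace Cfsg.Agent.Lib.Helper25.KSandwich

open Cfsg Cfsg.Agent.Lib.Helper13

variable {G : Type*} [Group G]

theorem upIn_mono_left {P P' : Subgroup G} (h : P ≤ P') (Q : Subgroup G) :
    upIn P Q ⊆ upIn P' Q := fun _ hB => ⟨hB.1, hB.2.trans h⟩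

theorem lowIn_mono_left {P P' : Subgroup G} (h : P ≤ P') (Q : Subgroup G) :
    lowIn P Q ⊆ lowIn P' Q := fun _ hB => ⟨hB.1, hB.2.trans h⟩

theorem kEvenIn_def (P : Subgroup G) (n : ℕ) : kEvenIn P n = sSup (lowIn P (kOddIn P n)) := rfl

theorem kseq_step (P : Subgroup G) (n : ℕ) :
    kOddIn P (n + 1) ≤ kOddIn P n ∧ kEvenIn P n ≤ kEvenIn P (n + 1) := by
  induction n with
  | zero =>
    have h1 : kOddIn P 1 ≤ kOddIn P 0 := by
      rw [kOddIn_succ, kOddIn_zero]
      exact sSup_upIn_le _ _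
    exact ⟨h1, sSup_le_sSup (lowIn_anti P h1)⟩
  | succ n ih =>
    have h1 : kOddIn P (n + 2) ≤ kOddIn P (n + 1) := by
      rw [kOddIn_succ, kOddIn_succ]
      exact sSup_le_sSup (upIn_anti P ih.2)
    exact ⟨h1, sSup_le_sSup (lowIn_anti P h1)⟩

theorem kOddIn_antitone (P : Subgroup G) : Antitone (kOddIn P) :=
  antitone_nat_of_succ_le (fun n => (kseq_step P n).1)

theorem kEvenIn_monotone (P : Subgroup G) : Monotone (kEvenIn P) :=
  monotone_nat_of_le_succ (fun n => (kseq_step P n).2)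

theorem exists_kseq_stable [Finite G] (P : Subgroup G) :
    ∃ N, (⨆ n, kEvenIn P n) = kEvenIn P N ∧ (⨅ n, kOddIn P n) = kOddIn P N ∧
      (⨅ n, kOddIn P n) = kOddIn P (N + 1) := by
  obtain ⟨N₁, hN₁⟩ := WellFoundedLT.antitone_chain_condition (kOddIn_antitone P)
  obtain ⟨N₂, hN₂⟩ := WellFoundedGT.monotone_chain_condition ⟨kEvenIn P, kEvenIn_monotone P⟩
  simp only [OrderHom.coe_mk] at hN₂
  have hO : ∀ m, N₁ ≤ m → (⨅ n, kOddIn P n) = kOddIn P m := by
    intro m hm
    refine le_antisymm (iInf_le _ m) (le_iInf (fun n => ?_))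
    rcases le_total n N₁ with h | h
    · rw [← hN₁ m hm]
      exact kOddIn_antitone P h
    · rw [← hN₁ m hm, hN₁ n h]
  have hE : ∀ m, N₂ ≤ m → (⨆ n, kEvenIn P n) = kEvenIn P m := by
    intro m hm
    refine le_antisymm (iSup_le (fun n => ?_)) (le_iSup _ m)
    rcases le_total n N₂ with h | h
    · rw [← hN₂ m hm]
      exact kEvenIn_monotone P h
    · rw [← hN₂ m hm, hN₂ n h]
  exact ⟨max N₁ N₂, hE _ (le_max_right _ _), hO _ (le_max_left _ _),
    hO _ ((le_max_left _ _).trans (Nat.le_succ _))⟩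

/-- The sandwich property of the K-infinity subgroups. -/
theorem ksandwich [Finite G] {P R : Subgroup G} (hRP : R ≤ P)
    (hL : (⨆ n, kEvenIn P n) ≤ R) (hU : (⨅ n, kOddIn P n) ≤ R) :
    (⨆ n, kEvenIn R n) = (⨆ n, kEvenIn P n) ∧ (⨅ n, kOddIn R n) = (⨅ n, kOddIn P n) := by
  obtain ⟨L, hLdef⟩ : ∃ L : Subgroup G, L = ⨆ n, kEvenIn P n := ⟨_, rfl⟩
  obtain ⟨U, hUdef⟩ : ∃ U : Subgroup G, U = ⨅ n, kOddIn P n := ⟨_, rfl⟩
  rw [← hLdef] at hL ⊢
  rw [← hUdef] at hU ⊢
  have hEL : ∀ n, kEvenIn P n ≤ L := fun n => hLdef ▸ le_iSup (kEvenIn P) n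
  have hUO : ∀ n, U ≤ kOddIn P n := fun n => hUdef ▸ iInf_le (kOddIn P) n
  -- stabilization identities
  obtain ⟨N, hNE, hNO, hNO'⟩ := exists_kseq_stable P
  have hlowU : sSup (lowIn P U) = L := by
    rw [hUdef, hLdef, hNO, hNE]
    rfl
  have hupL : sSup (upIn P L) = U := by
    rw [hUdef, hLdef, hNO', hNE, kOddIn_succ]
  -- Step 1
  have h1 : ∀ n, kOddIn R n ≤ kOddIn P n ∧ kEvenIn P n ≤ kEvenIn R n := by
    intro n
    induction n with
    | zero =>
      have h0 : kOddIn R 0 ≤ kOddIn P 0 := hRP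
      refine ⟨h0, sSup_le (fun B hB => ?_)⟩
      have hBR : B ≤ R := ((le_sSup hB).trans (hEL 0)).trans hL
      exact le_sSup ⟨kLower_anti h0 hB.1, hBR⟩
    | succ n ih =>
      have h0 : kOddIn R (n + 1) ≤ kOddIn P (n + 1) := by
        rw [kOddIn_succ, kOddIn_succ]
        exact sSup_le_sSup ((upIn_anti R ih.2).trans (upIn_mono_left hRP _))
      refine ⟨h0, sSup_le (fun B hB => ?_)⟩
      have hBR : B ≤ R := ((le_sSup hB).trans (hEL (n + 1))).trans hL
      exact le_sSup ⟨kLower_anti h0 hB.1, hBR⟩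
  -- Step 2
  have h2 : ∀ n, U ≤ kOddIn R n ∧ kEvenIn R n ≤ L := by
    intro n
    induction n with
    | zero =>
      have h0 : U ≤ kOddIn R 0 := hU
      exact ⟨h0, (sSup_le_sSup ((lowIn_anti R h0).trans (lowIn_mono_left hRP _))).trans hlowU.le⟩
    | succ n ih =>
      have h0 : U ≤ kOddIn R (n + 1) := by
        rw [kOddIn_succ]
        rw [← hupL]
        refine sSup_le (fun B hB => ?_)
        have hBR : B ≤ R := ((le_sSup hB).trans hupL.le).trans hU
        exact le_sSup ⟨kUpper_anti ih.2 hB.1, hBR⟩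
      exact ⟨h0, (sSup_le_sSup ((lowIn_anti R h0).trans (lowIn_mono_left hRP _))).trans hlowU.le⟩
  constructor
  · apply le_antisymm
    · exact iSup_le (fun n => (h2 n).2)
    · rw [hLdef]
      exact iSup_le (fun n => ((h1 n).2).trans (le_iSup (kEvenIn R) n))
  · apply le_antisymm
    · rw [hUdef]
      exact le_iInf (fun n => (iInf_le (kOddIn R) n).trans (h1 n).1)
    · exact le_iInf (fun n => (h2 n).1)

section Induced

universe u

variable {G : Type u} [Group G]

/-- The sandwich property, for the induced functors. -/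
theorem ksandwich_induced [Finite G] {P R : Subgroup G} (hRP : R ≤ P)
    (hL : Cfsg.inducedFunctor (G := G) Cfsg.kInfLower P ≤ R)
    (hU : Cfsg.inducedFunctor (G := G) Cfsg.kInfUpper P ≤ R) :
    Cfsg.inducedFunctor (G := G) Cfsg.kInfLower R = Cfsg.inducedFunctor (G := G) Cfsg.kInfLower P ∧
      Cfsg.inducedFunctor (G := G) Cfsg.kInfUpper R =
        Cfsg.inducedFunctor (G := G) Cfsg.kInfUpper P := by
  rw [inducedFunctor_kInfLower, inducedFunctor_kInfUpper] at *
  rw [inducedFunctor_kInfLower, inducedFunctor_kInfUpper]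
  exact ksandwich hRP hL hU

/-- The induced K-infinity functors of a subgroup `M` are the restrictions of those of `G`. -/
theorem inducedFunctor_kInfLower_map (M : Subgroup G) (S : Subgroup ↥M) :
    (Cfsg.inducedFunctor (G := ↥M) Cfsg.kInfLower S).map M.subtype =
      Cfsg.inducedFunctor (G := G) Cfsg.kInfLower (S.map M.subtype) := by
  have hinj : Function.Injective (M.subtype.comp S.subtype) :=
    (Subgroup.subtype_injective M).comp (Subgroup.subtype_injective S)
  have hr : (M.subtype.comp S.subtype).range = S.map M.subtype := by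
    rw [MonoidHom.range_comp, Subgroup.range_subtype]
  show ((Cfsg.kInfLower ↥S).map S.subtype).map M.subtype = _
  rw [Subgroup.map_map, kmap_infLower hinj, hr, inducedFunctor_kInfLower]

theorem inducedFunctor_kInfUpper_map (M : Subgroup G) (S : Subgroup ↥M) :
    (Cfsg.inducedFunctor (G := ↥M) Cfsg.kInfUpper S).map M.subtype =
      Cfsg.inducedFunctor (G := G) Cfsg.kInfUpper (S.map M.subtype) := by
  have hinj : Function.Injective (M.subtype.comp S.subtype) :=
    (Subgroup.subtype_injective M).comp (Subgroup.subtype_injective S)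
  have hr : (M.subtype.comp S.subtype).range = S.map M.subtype := by
    rw [MonoidHom.range_comp, Subgroup.range_subtype]
  show ((Cfsg.kInfUpper ↥S).map S.subtype).map M.subtype = _
  rw [Subgroup.map_map, kmap_infUpper hinj, hr, inducedFunctor_kInfUpper]

end Induced

end Cfsg.Agent.Lib.Helper25.KSandwich
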