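import Mathlib
import Cfsg.Prelude.Def_BrauerPairs
import Cfsg.Prelude.Def_OddOrderLocal
import Cfsg.Agent.Lib.Helper25.FreeInertial
import Cfsg.Agent.Lib.Helper25.WeightPair
import Cfsg.Agent.Lib.Helper25.SubsectionCount
import Cfsg.Agent.Lib.Helper25.SubsectionTrace
import Cfsg.Agent.Lib.Helper11.PiCore
import Cfsg.Agent.Lib.Helper11.TransOvergroup
import Cfsg.Agent.Lib.helper7.Fourier

/-!
Kernels of blocks and pi'-cores along Brauer pairs (Brauer, Some applications of the theory of blocks I): averaging idempotent of a normal subgroup (kb_avg, kb_avg_eq, kb_fourier_avg), all-or-none for blocks and normal p'-subgroups (kb_kset_block, kb_block_dichotomy), Brauer-map value of the averaging idempotent (kb_omega_avg), the kernel step (kb_step), normal subpair step (kb_normal_step), induced block step (kb_induced_step), the invariant kb_inv and its descent along chains (kb_down, kb_chain_down), conjugation (kb_conj_back), top and bottom (kb_top, kb_bottom), main theorem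 kb_main_down (S4734).
-/

set_option autoImplicit false
set_option linter.style.haveILetI false
set_option linter.unusedVariables false
set_option warn.classDefReducibility false
set_option maxHeartbeats 1600000

namespace Cfsg.Agent.Lib.Helper25
open Cfsg.Agent.Lib.Helper24
open Cfsg.Agent.Lib.Helper11
open Cfsg.Agent.Lib.helper2
open Cfsg.Agent.Lib.helper7
open scoped ComplexConjugate
section

open Classical in
/-- the averaging idempotent of a subgroup `L` -/
noncomputable def kb_avg {K : Type*} [Group K] (L : Subgroup K) : K → ℂ :=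
  fun k => if k ∈ L then (Nat.card L : ℂ)⁻¹ else 0

/-- the irreducible characters with `L` in their kernel -/
def kb_kset {K : Type*} [Group K] (L : Subgroup K) : Set (Cfsg.IrrCharacter K) :=
  {ψ | ∀ l ∈ L, (ψ : K → ℂ) l = (ψ : K → ℂ) 1}

theorem kb_avg_mem {K : Type*} [Group K] (L : Subgroup K) (k : K) (hk : k ∈ L) :
    kb_avg L k = (Nat.card L : ℂ)⁻¹ := by
  unfold kb_avg
  rw [if_pos hk]

theorem kb_avg_not_mem {K : Type*} [Group K] (L : Subgroup K) (k : K) (hk : k ∉ L) :
    kb_avg L k = 0 := by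
  unfold kb_avg
  rw [if_neg hk]

theorem kb_avg_class {K : Type*} [Group K] (L : Subgroup K) [hL : L.Normal] (g h : K) :
    kb_avg L (h * g * h⁻¹) = kb_avg L g := by
  by_cases hg : g ∈ L
  · rw [kb_avg_mem L g hg, kb_avg_mem L _ (hL.conj_mem g hg h)]
  · rw [kb_avg_not_mem L g hg, kb_avg_not_mem L _ (fun hh => hg ?_)]
    have := hL.conj_mem _ hh h⁻¹
    simpa [mul_assoc] using this

theorem kb_avg_conv {K : Type*} [Group K] [Fintype K] (L : Subgroup K) :
    h7_conv (kb_avg L) (kb_avg L) = kb_avg L := by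
  classical
  funext g
  rw [h7_conv_apply]
  have hL0 : (Nat.card L : ℂ) ≠ 0 := by exact_mod_cast Nat.card_pos.ne'
  by_cases hg : g ∈ L
  · have h1 : ∀ h : K, kb_avg L h * kb_avg L (h⁻¹ * g) =
        if h ∈ L then (Nat.card L : ℂ)⁻¹ * (Nat.card L : ℂ)⁻¹ else 0 := by
      intro h
      by_cases hh : h ∈ L
      · rw [if_pos hh, kb_avg_mem L h hh,
          kb_avg_mem L _ (L.mul_mem (L.inv_mem hh) hg)]
      · rw [if_neg hh, kb_avg_not_mem L h hh, zero_mul]
    rw [Finset.sum_congr rfl (fun h _ => h1 h), Finset.sum_ite, Finset.sum_const_zero, add_zero,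
      Finset.sum_const, kb_avg_mem L g hg]
    have hc : (Finset.univ.filter (fun h : K => h ∈ L)).card = Nat.card L := by
      rw [Nat.card_eq_fintype_card, Fintype.card_subtype]
    rw [hc, nsmul_eq_mul]
    field_simp
  · rw [kb_avg_not_mem L g hg]
    apply Finset.sum_eq_zero
    intro h _
    by_cases hh : h ∈ L
    · rw [kb_avg_not_mem L (h⁻¹ * g) (fun h2 => hg ?_), mul_zero]
      have := L.mul_mem hh h2
      rwa [mul_inv_cancel_left] at this
    · rw [kb_avg_not_mem L h hh, zero_mul]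

open Classical in
theorem kb_fourier_avg_eq {K : Type*} [Group K] [Fintype K] [Fintype (Cfsg.IrrCharacter K)]
    (L : Subgroup K) (ψ : Cfsg.IrrCharacter K) :
    h7_fourier (kb_avg L) ψ =
      (∑ g : K, if g ∈ L then (ψ : K → ℂ) g else 0) / ((Nat.card L : ℂ) * (ψ : K → ℂ) 1) := by
  rw [h7_fourier_apply]
  have h1 : ∑ g : K, kb_avg L g * (ψ : K → ℂ) g =
      (Nat.card L : ℂ)⁻¹ * ∑ g : K, if g ∈ L then (ψ : K → ℂ) g else 0 := by
    rw [Finset.mul_sum]
    refine Finset.sum_congr rfl fun g _ => ?_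
    by_cases hg : g ∈ L
    · rw [if_pos hg, kb_avg_mem L g hg]
    · rw [if_neg hg, kb_avg_not_mem L g hg, zero_mul, mul_zero]
  rw [h1]
  have hL0 : (Nat.card L : ℂ) ≠ 0 := by exact_mod_cast Nat.card_pos.ne'
  have := irr_one_ne_zero ψ
  field_simp

/-- the value of the central character at the averaging idempotent of a normal subgroup -/
theorem kb_fourier_avg {K : Type*} [Group K] [Fintype K] [Fintype (Cfsg.IrrCharacter K)]
    (L : Subgroup K) [hL : L.Normal]
    (ψ : Cfsg.IrrCharacter K) [Decidable (ψ ∈ kb_kset L)] :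
    h7_fourier (kb_avg L) ψ = if ψ ∈ kb_kset L then 1 else 0 := by
  classical
  have hL0 : (Nat.card L : ℂ) ≠ 0 := by exact_mod_cast Nat.card_pos.ne'
  have hψ1 := irr_one_ne_zero ψ
  obtain ⟨hd1, hd2, hd3⟩ := h7_charDegree_props ψ
  have hcard : (Finset.univ.filter (fun g : K => g ∈ L)).card = Nat.card L := by
    rw [Nat.card_eq_fintype_card, Fintype.card_subtype]
  by_cases hψ : ψ ∈ kb_kset L
  · rw [if_pos hψ, kb_fourier_avg_eq]
    have : (∑ g : K, if g ∈ L then (ψ : K → ℂ) g else 0) =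
        (Nat.card L : ℂ) * (ψ : K → ℂ) 1 := by
      have h2 : ∀ g : K, (if g ∈ L then (ψ : K → ℂ) g else 0) =
          if g ∈ L then (ψ : K → ℂ) 1 else 0 := by
        intro g
        by_cases hg : g ∈ L
        · rw [if_pos hg, if_pos hg, hψ g hg]
        · rw [if_neg hg, if_neg hg]
      rw [Finset.sum_congr rfl (fun g _ => h2 g), ← Finset.sum_filter, Finset.sum_const,
        nsmul_eq_mul, hcard]
    rw [this]
    field_simp
  · rw [if_neg hψ]
    set t := h7_fourier (kb_avg L) ψ with ht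
    have hidem : t * t = t := by
      have := congrFun (h7_fourier_conv (kb_avg L) (kb_avg L) (kb_avg_class L) (kb_avg_class L)) ψ
      rw [kb_avg_conv, Pi.mul_apply] at this
      exact this.symm
    have h01 : t = 0 ∨ t = 1 := by
      have : t * (t - 1) = 0 := by rw [mul_sub, hidem, mul_one, sub_self]
      rcases mul_eq_zero.mp this with h | h
      · exact Or.inl h
      · exact Or.inr (sub_eq_zero.mp h)
    rcases h01 with h | h
    · exact h
    · exfalso
      apply hψ
      rw [ht, kb_fourier_avg_eq, div_eq_one_iff_eq (mul_ne_zero hL0 hψ1)] at h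
      set d : ℝ := (Cfsg.charDegree (ψ : K → ℂ) : ℝ) with hd
      have hd0 : 0 ≤ d := by
        rw [hd]
        positivity
      have hψd : (ψ : K → ℂ) 1 = (d : ℂ) := by
        rw [← hd3, hd]
        push_cast
        rfl
      have hnorm : ∀ g : K, ‖(ψ : K → ℂ) g‖ ≤ d := by
        intro g
        have h1 := irr_norm_le ψ g
        rw [hψd, Complex.norm_real, Real.norm_eq_abs, abs_of_nonneg hd0] at h1
        exact h1
      have hre : ∑ g ∈ Finset.univ.filter (fun g : K => g ∈ L), ((ψ : K → ℂ) g).re =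
          ∑ g ∈ Finset.univ.filter (fun g : K => g ∈ L), d := by
        have := congrArg Complex.re h
        rw [← Finset.sum_filter, Complex.re_sum] at this
        rw [this, hψd, Finset.sum_const, nsmul_eq_mul, hcard]
        have e : ((Nat.card L : ℂ) * (d : ℂ)) = (((Nat.card L : ℝ) * d : ℝ) : ℂ) := by
          push_cast
          rfl
        rw [e, Complex.ofReal_re]
      have hle : ∀ g ∈ Finset.univ.filter (fun g : K => g ∈ L), ((ψ : K → ℂ) g).re ≤ d := by
        intro g _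
        exact le_trans (Complex.re_le_norm _) (hnorm g)
      have heq := (Finset.sum_eq_sum_iff_of_le hle).mp hre
      intro l hl
      have h1 := heq l (by simp [hl])
      rw [hψd]
      exact wt_eq_of_re_eq _ d h1 (hnorm l)

/-- the averaging idempotent of a normal subgroup is the idempotent of the set of characters
with that subgroup in their kernel -/
theorem kb_avg_eq {K : Type*} [Group K] [Fintype K] (L : Subgroup K) [hL : L.Normal] (k : K) :
    kb_avg L k = Cfsg.blockCoeff (kb_kset L) k := by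
  classical
  haveI : Fintype (Cfsg.IrrCharacter K) := Fintype.ofFinite _
  rw [← h7_coef_indicator]
  have h1 := h7_coef_fourier (kb_avg L) (kb_avg_class L)
  have h2 : h7_fourier (kb_avg L) =
      fun ψ : Cfsg.IrrCharacter K => if ψ ∈ kb_kset L then (1 : ℂ) else 0 := by
    funext ψ
    exact kb_fourier_avg L ψ
  rw [h2] at h1
  exact (congrFun h1 k).symm

end

section

theorem kb_avg_memLocalRing {K : Type*} [Group K] [Finite K] {p : ℕ} [hp : Fact p.Prime]
    {M : Ideal Cfsg.AlgInt} (hM : Cfsg.IsPModular p M) (L : Subgroup K)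
    (hLp : (Nat.card L).Coprime p) (k : K) : Cfsg.MemLocalRing M (kb_avg L k) := by
  by_cases hk : k ∈ L
  · rw [kb_avg_mem L k hk]
    exact h7_memLocalRing_inv_natCast hM _ hLp
  · rw [kb_avg_not_mem L k hk]
    exact h7_memLocalRing_zero hM.2.1.isPrime

theorem kb_bm_omega_avg {K : Type*} [Group K] [Fintype K] [Fintype (Cfsg.IrrCharacter K)]
    (L : Subgroup K) (ψ : Cfsg.IrrCharacter K) :
    bm_omega (kb_avg L) (ψ : K → ℂ) = h7_fourier (kb_avg L) ψ := by
  unfold bm_omega
  rw [h7_fourier_apply, Finset.sum_div]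

/-- a block contains a character with the normal `p'`-subgroup `L` in its kernel iff all its
members have `L` in their kernel -/
theorem kb_kset_block {K : Type*} [Group K] [Fintype K] (p : ℕ) [hp : Fact p.Prime]
    (M : Ideal Cfsg.AlgInt) (hM : Cfsg.IsPModular p M) (L : Subgroup K) [hL : L.Normal]
    (hLp : (Nat.card L).Coprime p) (ψ ψ' : Cfsg.IrrCharacter K)
    (h : Cfsg.SameBlock M (ψ : K → ℂ) (ψ' : K → ℂ)) (hψ : ψ ∈ kb_kset L) : ψ' ∈ kb_kset L := by
  classical
  haveI : Fintype (Cfsg.IrrCharacter K) := Fintype.ofFinite _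
  have hPr := hM.2.1.isPrime
  have h1 := bm_omega_congr hPr (kb_avg L) (kb_avg_class L)
    (fun k => kb_avg_memLocalRing hM L hLp k) ψ ψ' h
  rw [kb_bm_omega_avg, kb_bm_omega_avg, kb_fourier_avg, kb_fourier_avg, if_pos hψ] at h1
  by_contra hψ'
  rw [if_neg hψ', sub_zero] at h1
  exact h7_not_memLocalIdeal_one hPr h1

/-- the characters of the subgroup `K` with `L` in their kernel -/
def kb_kerSet {G : Type*} [Group G] (K L : Subgroup G) : Set (Cfsg.IrrCharacter K) :=
  kb_kset (L.subgroupOf K)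

theorem kb_mem_kerSet {G : Type*} [Group G] (K L : Subgroup G) (ψ : Cfsg.IrrCharacter K) :
    ψ ∈ kb_kerSet K L ↔ ∀ k : K, (k : G) ∈ L → (ψ : K → ℂ) k = (ψ : K → ℂ) 1 := Iff.rfl

theorem kb_card_subgroupOf {G : Type*} [Group G] (K L : Subgroup G) (hLK : L ≤ K) :
    Nat.card (L.subgroupOf K) = Nat.card L :=
  Nat.card_congr (Subgroup.subgroupOfEquivOfLe hLK).toEquiv

theorem kb_card_subgroupOf_dvd {G : Type*} [Group G] (K L : Subgroup G) :
    Nat.card (L.subgroupOf K) ∣ Nat.card L := by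
  let f : (L.subgroupOf K) →* L :=
    { toFun := fun x => ⟨((x : K) : G), x.2⟩
      map_one' := rfl
      map_mul' := fun _ _ => rfl }
  have hf : Function.Injective f := by
    intro x y hxy
    apply Subtype.ext
    apply Subtype.ext
    exact congrArg (fun z : L => (z : G)) hxy
  exact Subgroup.card_dvd_of_injective f hf

/-- the idempotent of the set of characters of `K` with the normal subgroup `L` in their
kernel -/
theorem kb_sbc_kerSet {G : Type*} [Group G] [Fintype G] (K L : Subgroup G) (hLK : L ≤ K)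
    (hKL : K ≤ Subgroup.normalizer (L : Set G)) :
    Cfsg.subgroupBlockCoeff K (kb_kerSet K L) = kb_avg L := by
  classical
  haveI : Fintype K := Fintype.ofFinite _
  haveI : (L.subgroupOf K).Normal := Subgroup.normal_subgroupOf_of_le_normalizer hKL
  funext g
  by_cases hg : g ∈ K
  · rw [bq_sbc_mem K _ g hg]
    unfold kb_kerSet
    rw [← kb_avg_eq (L.subgroupOf K) ⟨g, hg⟩]
    by_cases hgL : g ∈ L
    · rw [kb_avg_mem L g hgL, kb_avg_mem (L.subgroupOf K) ⟨g, hg⟩ hgL, kb_card_subgroupOf K L hLK]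
    · rw [kb_avg_not_mem L g hgL, kb_avg_not_mem (L.subgroupOf K) ⟨g, hg⟩ hgL]
  · rw [bq_sbc_not_mem K _ g hg, kb_avg_not_mem L g (fun h => hg (hLK h))]

open Classical in
/-- the Brauer-map value of the averaging idempotent -/
theorem kb_omega_avg {G : Type*} [Group G] [Fintype G] (P L : Subgroup G)
    (hDL : Subgroup.centralizer (P : Set G) ≤ Subgroup.normalizer (L : Set G))
    (ξ : Cfsg.IrrCharacter (Subgroup.centralizer (P : Set G))) :
    Cfsg.brauerOmega P (kb_avg L) (ξ : Subgroup.centralizer (P : Set G) → ℂ) =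
      ((Nat.card (L.subgroupOf (Subgroup.centralizer (P : Set G))) : ℂ) / (Nat.card L : ℂ)) *
        (if ξ ∈ kb_kerSet (Subgroup.centralizer (P : Set G)) L then 1 else 0) := by
  haveI : Fintype (Subgroup.centralizer (P : Set G)) := Fintype.ofFinite _
  haveI : Fintype (Cfsg.IrrCharacter (Subgroup.centralizer (P : Set G))) := Fintype.ofFinite _
  haveI : (L.subgroupOf (Subgroup.centralizer (P : Set G))).Normal :=
    Subgroup.normal_subgroupOf_of_le_normalizer hDL
  have hL0 : (Nat.card L : ℂ) ≠ 0 := by exact_mod_cast Nat.card_pos.ne'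
  have hL'0 : (Nat.card (L.subgroupOf (Subgroup.centralizer (P : Set G))) : ℂ) ≠ 0 := by
    exact_mod_cast Nat.card_pos.ne'
  rw [bq_omega_eq]
  have h1 : (fun x : Subgroup.centralizer (P : Set G) => kb_avg L (x : G)) =
      fun x => ((Nat.card (L.subgroupOf (Subgroup.centralizer (P : Set G))) : ℂ) /
        (Nat.card L : ℂ)) * kb_avg (L.subgroupOf (Subgroup.centralizer (P : Set G))) x := by
    funext x
    by_cases hx : (x : G) ∈ L
    · rw [kb_avg_mem L _ hx, kb_avg_mem (L.subgroupOf _) x hx]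
      field_simp
    · rw [kb_avg_not_mem L _ hx, kb_avg_not_mem (L.subgroupOf _) x hx, mul_zero]
  rw [h1]
  have h2 : bm_omega (fun x => ((Nat.card (L.subgroupOf (Subgroup.centralizer (P : Set G))) : ℂ) /
        (Nat.card L : ℂ)) * kb_avg (L.subgroupOf (Subgroup.centralizer (P : Set G))) x)
        (ξ : Subgroup.centralizer (P : Set G) → ℂ) =
      ((Nat.card (L.subgroupOf (Subgroup.centralizer (P : Set G))) : ℂ) / (Nat.card L : ℂ)) *
        bm_omega (kb_avg (L.subgroupOf (Subgroup.centralizer (P : Set G))))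
          (ξ : Subgroup.centralizer (P : Set G) → ℂ) := by
    unfold bm_omega
    rw [Finset.mul_sum]
    refine Finset.sum_congr rfl fun x _ => ?_
    ring
  rw [h2, kb_bm_omega_avg, kb_fourier_avg]
  rfl

theorem kb_avg_conj {G : Type*} [Group G] (L : Subgroup G) (u : G)
    (hu : u ∈ Subgroup.normalizer (L : Set G)) (x : G) :
    kb_avg L (u * x * u⁻¹) = kb_avg L x := by
  have hiff : u * x * u⁻¹ ∈ L ↔ x ∈ L := ((Subgroup.mem_normalizer_iff.mp hu) x).symm
  by_cases hx : x ∈ L
  · rw [kb_avg_mem L x hx, kb_avg_mem L _ (hiff.mpr hx)]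
  · rw [kb_avg_not_mem L x hx, kb_avg_not_mem L _ (fun h => hx (hiff.mp h))]

/-- **the kernel step**: if `ω_ξ(Br_P(a)) ≡ 1` and `a * e_L` is `a` (resp. `0`), then `ξ` has
(resp. has not) `C_L(P)` in its kernel -/
theorem kb_step {G : Type*} [Group G] [Fintype G] (p : ℕ) [hp : Fact p.Prime]
    (M : Ideal Cfsg.AlgInt) (hM : Cfsg.IsPModular p M) (P : Subgroup G) (hP : IsPGroup p P)
    (a : G → ℂ) (haR : ∀ x, Cfsg.MemLocalRing M (a x))
    (haP : ∀ u ∈ P, ∀ x, a (u * x * u⁻¹) = a x)
    (haD : ∀ d ∈ Subgroup.centralizer (P : Set G), ∀ x, a (d * x * d⁻¹) = a x)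
    (L : Subgroup G) (hLP : P ≤ Subgroup.normalizer (L : Set G))
    (hLD : Subgroup.centralizer (P : Set G) ≤ Subgroup.normalizer (L : Set G))
    (hLp : (Nat.card L).Coprime p)
    (ξ : Cfsg.IrrCharacter (Subgroup.centralizer (P : Set G)))
    (h1 : Cfsg.MemLocalIdeal M (Cfsg.brauerOmega P a
      (ξ : Subgroup.centralizer (P : Set G) → ℂ) - 1)) :
    (h7_conv a (kb_avg L) = a → ξ ∈ kb_kerSet (Subgroup.centralizer (P : Set G)) L) ∧
    (h7_conv a (kb_avg L) = 0 → ξ ∉ kb_kerSet (Subgroup.centralizer (P : Set G)) L) := by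
  classical
  have hPr := hM.2.1.isPrime
  have hmul := bq_omega_mul p M hM P hP a (kb_avg L) haR
    (fun x => kb_avg_memLocalRing hM L hLp x) haP
    (fun u hu x => kb_avg_conj L u (hLP hu) x) haD
    (fun d hd x => kb_avg_conj L d (hLD hd) x) ξ
  set A := Cfsg.brauerOmega P a (ξ : Subgroup.centralizer (P : Set G) → ℂ) with hA
  have hAR : Cfsg.MemLocalRing M A :=
    bq_omega_mem hPr P a haD haR ξ
  have hw := kb_omega_avg P L hLD ξ
  set n' := Nat.card (L.subgroupOf (Subgroup.centralizer (P : Set G))) with hn'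
  have hn'p : n'.Coprime p := Nat.Coprime.coprime_dvd_left (kb_card_subgroupOf_dvd _ L) hLp
  have hL0 : (Nat.card L : ℂ) ≠ 0 := by exact_mod_cast Nat.card_pos.ne'
  have hn'0 : (n' : ℂ) ≠ 0 := by
    rw [hn']
    exact_mod_cast Nat.card_pos.ne'
  have huR : Cfsg.MemLocalRing M ((n' : ℂ) / (Nat.card L : ℂ)) := by
    rw [div_eq_mul_inv]
    exact h7_memLocalRing_mul hPr (h7_memLocalRing_natCast hPr _)
      (h7_memLocalRing_inv_natCast hM _ hLp)
  have huinvR : Cfsg.MemLocalRing M ((Nat.card L : ℂ) / (n' : ℂ)) := by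
    rw [div_eq_mul_inv]
    exact h7_memLocalRing_mul hPr (h7_memLocalRing_natCast hPr _)
      (h7_memLocalRing_inv_natCast hM _ hn'p)
  constructor
  · intro hconv
    rw [hconv, hw] at hmul
    by_contra hξ
    rw [if_neg hξ, mul_zero, mul_zero, sub_zero] at hmul
    have := h7_memLocalIdeal_sub hPr hmul h1
    rw [sub_sub_cancel] at this
    exact h7_not_memLocalIdeal_one hPr this
  · intro hconv hξ
    rw [hconv, bq_omega_zero, hw, if_pos hξ, mul_one, zero_sub] at hmul
    -- A * u ∈ I, A ≡ 1 ⇒ u ∈ I ⇒ 1 ∈ I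
    have h2 : Cfsg.MemLocalIdeal M (A * ((n' : ℂ) / (Nat.card L : ℂ))) := by
      have := h7_memLocalIdeal_neg hmul
      rwa [neg_neg] at this
    have h3 : Cfsg.MemLocalIdeal M ((A - 1) * ((n' : ℂ) / (Nat.card L : ℂ))) :=
      h7_memLocalIdeal_mul_right hPr h1 huR
    have h4 : Cfsg.MemLocalIdeal M ((n' : ℂ) / (Nat.card L : ℂ)) := by
      have := h7_memLocalIdeal_sub hPr h2 h3
      have e : A * ((n' : ℂ) / (Nat.card L : ℂ)) - (A - 1) * ((n' : ℂ) / (Nat.card L : ℂ)) =
          (n' : ℂ) / (Nat.card L : ℂ) := by ring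
      rwa [e] at this
    have h5 := h7_memLocalIdeal_mul_right hPr h4 huinvR
    have e : (n' : ℂ) / (Nat.card L : ℂ) * ((Nat.card L : ℂ) / (n' : ℂ)) = 1 := by
      field_simp
    rw [e] at h5
    exact h7_not_memLocalIdeal_one hPr h5

end

section

/-- all-or-none for a block of a group and a normal `p'`-subgroup -/
theorem kb_block_dichotomy {K : Type*} [Group K] [Fintype K] (p : ℕ) [hp : Fact p.Prime]
    (M : Ideal Cfsg.AlgInt) (hM : Cfsg.IsPModular p M) (L : Subgroup K) [hL : L.Normal]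
    (hLp : (Nat.card L).Coprime p) (f : Set (Cfsg.IrrCharacter K)) (hf : Cfsg.IsPBlock M f) :
    f ⊆ kb_kset L ∨ f ∩ kb_kset L = ∅ := by
  haveI : Fintype (Cfsg.IrrCharacter K) := Fintype.ofFinite _
  have hPr := hM.2.1.isPrime
  by_cases h : f ∩ kb_kset L = ∅
  · exact Or.inr h
  · left
    obtain ⟨ψ, hψf, hψk⟩ := Set.nonempty_iff_ne_empty.mpr h
    obtain ⟨θ₀, rfl⟩ := hf
    intro ψ' hψ'
    have hs : Cfsg.SameBlock M (ψ : K → ℂ) (ψ' : K → ℂ) :=
      h7_sameBlock_trans hPr (h7_sameBlock_symm hψf) hψ'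
    exact kb_kset_block p M hM L hLp ψ ψ' hs hψk

theorem kb_blockCoeff_empty {K : Type*} [Group K] [Fintype K] :
    Cfsg.blockCoeff (∅ : Set (Cfsg.IrrCharacter K)) = 0 := by
  funext g
  unfold Cfsg.blockCoeff
  simp

/-- **normal subpair step**: for `(Q,f) ⊴ (R,g)` and a `p'`-subgroup `L` normal in `C_G(Q)` and
normalized by `R`: `L ≤ ker f` iff `C_L(R) ≤ ker g` -/
theorem kb_normal_step {G : Type*} [Group G] [Fintype G] (p : ℕ) [hp : Fact p.Prime]
    (M : Ideal Cfsg.AlgInt) (hM : Cfsg.IsPModular p M) (Q R : Subgroup G)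
    (f : Set (Cfsg.IrrCharacter (Subgroup.centralizer (Q : Set G))))
    (g : Set (Cfsg.IrrCharacter (Subgroup.centralizer (R : Set G))))
    (hn : Cfsg.IsNormalSubpair p M Q f R g) (L : Subgroup G)
    (hLK : L ≤ Subgroup.centralizer (Q : Set G))
    (hKL : Subgroup.centralizer (Q : Set G) ≤ Subgroup.normalizer (L : Set G))
    (hRL : R ≤ Subgroup.normalizer (L : Set G)) (hLp : (Nat.card L).Coprime p) :
    f ⊆ kb_kerSet (Subgroup.centralizer (Q : Set G)) L ↔
      g ⊆ kb_kerSet (Subgroup.centralizer (R : Set G)) L := by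
  classical
  haveI : Fintype (Subgroup.centralizer (Q : Set G)) := Fintype.ofFinite _
  haveI : Fintype (Subgroup.centralizer (R : Set G)) := Fintype.ofFinite _
  haveI : Fintype (Cfsg.IrrCharacter (Subgroup.centralizer (R : Set G))) := Fintype.ofFinite _
  have hPr := hM.2.1.isPrime
  obtain ⟨⟨hQ, hf⟩, ⟨hR, hg⟩, hQR, hRN, hst, hom⟩ := hn
  have hDK : Subgroup.centralizer (R : Set G) ≤ Subgroup.centralizer (Q : Set G) :=
    Subgroup.centralizer_le hQR
  have hLD : Subgroup.centralizer (R : Set G) ≤ Subgroup.normalizer (L : Set G) := hDK.trans hKL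
  have hconv : h7_conv (Cfsg.subgroupBlockCoeff (Subgroup.centralizer (Q : Set G)) f) (kb_avg L) =
      Cfsg.subgroupBlockCoeff (Subgroup.centralizer (Q : Set G))
        (f ∩ kb_kerSet (Subgroup.centralizer (Q : Set G)) L) := by
    rw [← kb_sbc_kerSet _ L hLK hKL, bq_sbc_conv]
  have hstep := fun ξ hξ => kb_step p M hM R hR
    (Cfsg.subgroupBlockCoeff (Subgroup.centralizer (Q : Set G)) f)
    (bq_sbc_memLocalRing hPr _ f hf)
    (fun u hu x => bq_sbc_stable hPr _ f hf u (hst u hu) x)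
    (fun d hd x => bq_sbc_inner _ f d (hDK hd) x) L hRL hLD hLp ξ (hom ξ hξ)
  haveI : (L.subgroupOf (Subgroup.centralizer (Q : Set G))).Normal :=
    Subgroup.normal_subgroupOf_of_le_normalizer hKL
  have hLp' : (Nat.card (L.subgroupOf (Subgroup.centralizer (Q : Set G)))).Coprime p := by
    rw [kb_card_subgroupOf _ L hLK]
    exact hLp
  constructor
  · intro hsub ξ hξ
    apply (hstep ξ hξ).1
    rw [hconv, Set.inter_eq_left.mpr hsub]
  · intro hsub
    rcases kb_block_dichotomy p M hM (L.subgroupOf (Subgroup.centralizer (Q : Set G))) hLp' f hf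
      with h | h
    · exact h
    · exfalso
      obtain ⟨ξ₀, hξ₀⟩ := hg
      have hξ₀g : ξ₀ ∈ g := by
        rw [hξ₀]
        exact h7_sameBlock_refl hPr _
      apply (hstep ξ₀ hξ₀g).2 ?_ (hsub hξ₀g)
      rw [hconv]
      have : f ∩ kb_kerSet (Subgroup.centralizer (Q : Set G)) L = ∅ := h
      rw [this, bq_sbc_empty]

/-- **induced block step**: if the block `e` of `C_X(P)` induces the block `B` of `X` and `L` is a
normal `p'`-subgroup of `X`, then `L ≤ ker B` iff `C_L(P) ≤ ker e` -/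
theorem kb_induced_step {X : Type*} [Group X] [Fintype X] (p : ℕ) [hp : Fact p.Prime]
    (M : Ideal Cfsg.AlgInt) (hM : Cfsg.IsPModular p M) (P : Subgroup X) (hP : IsPGroup p P)
    (e : Set (Cfsg.IrrCharacter (Subgroup.centralizer (P : Set X))))
    (B : Set (Cfsg.IrrCharacter X))
    (hind : Cfsg.IsInducedBlock M (Subgroup.centralizer (P : Set X)) e B)
    (L : Subgroup X) [hL : L.Normal] (hLp : (Nat.card L).Coprime p) :
    B ⊆ kb_kset L ↔ e ⊆ kb_kerSet (Subgroup.centralizer (P : Set X)) L := by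
  classical
  haveI : Fintype (Cfsg.IrrCharacter X) := Fintype.ofFinite _
  haveI : Fintype (Subgroup.centralizer (P : Set X)) := Fintype.ofFinite _
  haveI : Fintype (Cfsg.IrrCharacter (Subgroup.centralizer (P : Set X))) := Fintype.ofFinite _
  have hPr := hM.2.1.isPrime
  have hpair := fi_pair_of_induced p M hM P hP B e hind
  obtain ⟨⟨_, he⟩, hB, hom⟩ := hpair
  have hLN : ∀ S : Subgroup X, S ≤ Subgroup.normalizer (L : Set X) := by
    intro S
    rw [Subgroup.normalizer_eq_top]
    exact le_top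
  have hconv : h7_conv (Cfsg.blockCoeff B) (kb_avg L) = Cfsg.blockCoeff (B ∩ kb_kset L) := by
    have : kb_avg L = Cfsg.blockCoeff (kb_kset L) := funext (kb_avg_eq L)
    rw [this, bq_blockCoeff_conv]
  have haR : ∀ x, Cfsg.MemLocalRing M (Cfsg.blockCoeff B x) := by
    obtain ⟨χ', rfl⟩ := hB
    exact fun x => h7_osima hPr χ' x
  have hstep := fun ξ hξ => kb_step p M hM P hP (Cfsg.blockCoeff B) haR
    (fun u _ x => br_blockCoeff_conj B x u) (fun d _ x => br_blockCoeff_conj B x d)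
    L (hLN _) (hLN _) hLp ξ (hom ξ hξ)
  constructor
  · intro hsub ξ hξ
    apply (hstep ξ hξ).1
    rw [hconv, Set.inter_eq_left.mpr hsub]
  · intro hsub
    rcases kb_block_dichotomy p M hM L hLp B hB with h | h
    · exact h
    · exfalso
      obtain ⟨ξ₀, hξ₀⟩ := he
      have hξ₀e : ξ₀ ∈ e := by
        rw [hξ₀]
        exact h7_sameBlock_refl hPr _
      apply (hstep ξ₀ hξ₀e).2 ?_ (hsub hξ₀e)
      rw [hconv, h, kb_blockCoeff_empty]

end

section

/-- the invariant: the `π'`-core of `C_G(Q)` lies in the kernel of `f` -/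
def kb_inv {G : Type*} [Group G] (π' : Set ℕ) (a : Cfsg.BrauerPairIdx G) : Prop :=
  ∀ x : Subgroup.centralizer (a.1 : Set G),
    x ∈ Cfsg.piCore π' (Subgroup.centralizer (a.1 : Set G)) →
      ∀ ψ ∈ a.2, (ψ : Subgroup.centralizer (a.1 : Set G) → ℂ) x =
        (ψ : Subgroup.centralizer (a.1 : Set G) → ℂ) 1

theorem kb_mem_piCoreOf {G : Type*} [Group G] (π' : Set ℕ) (X : Subgroup G) (x : X) :
    (x : G) ∈ Cfsg.piCoreOf π' X ↔ x ∈ Cfsg.piCore π' X := by
  unfold Cfsg.piCoreOf
  constructor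
  · rintro ⟨y, hy, hyx⟩
    have : y = x := Subtype.ext hyx
    rwa [← this]
  · intro hx
    exact ⟨x, hx, rfl⟩

theorem kb_inv_iff {G : Type*} [Group G] (π' : Set ℕ) (Q : Subgroup G)
    (f : Set (Cfsg.IrrCharacter (Subgroup.centralizer (Q : Set G)))) :
    kb_inv π' ⟨Q, f⟩ ↔ f ⊆ kb_kerSet (Subgroup.centralizer (Q : Set G))
      (Cfsg.piCoreOf π' (Subgroup.centralizer (Q : Set G))) := by
  constructor
  · intro h ψ hψ
    rw [kb_mem_kerSet]
    intro k hk
    exact h k ((kb_mem_piCoreOf π' _ k).mp hk) ψ hψ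
  · intro h x hx ψ hψ
    exact (kb_mem_kerSet _ _ ψ).mp (h hψ) x ((kb_mem_piCoreOf π' _ x).mpr hx)

theorem kb_coprime_of_piNum {π' : Set ℕ} {p : ℕ} (hp : p.Prime) (hpπ : p ∉ π') {n : ℕ}
    (hn : PiNum π' n) : n.Coprime p := by
  rw [Nat.coprime_comm, Nat.Prime.coprime_iff_not_dvd hp]
  intro hd
  exact hpπ (hn p hp hd)

/-- the invariant goes down along a normal inclusion of Brauer pairs -/
theorem kb_down {G : Type*} [Group G] [Fintype G] (p : ℕ) [hp : Fact p.Prime]
    (M : Ideal Cfsg.AlgInt) (hM : Cfsg.IsPModular p M) (π' : Set ℕ) (hpπ : p ∉ π')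
    (a b : Cfsg.BrauerPairIdx G) (hn : Cfsg.NormalSubpairRel p M a b) (hb : kb_inv π' b) :
    kb_inv π' a := by
  obtain ⟨Q, f⟩ := a
  obtain ⟨R, g⟩ := b
  have hn' : Cfsg.IsNormalSubpair p M Q f R g := hn
  have hQR : Q ≤ R := hn'.2.2.1
  have hRN : R ≤ Subgroup.normalizer (Q : Set G) := hn'.2.2.2.1
  rw [kb_inv_iff]
  set L := Cfsg.piCoreOf π' (Subgroup.centralizer (Q : Set G)) with hL
  have hLK : L ≤ Subgroup.centralizer (Q : Set G) := piCoreOf_le π' _
  have hKL : Subgroup.centralizer (Q : Set G) ≤ Subgroup.normalizer (L : Set G) :=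
    le_normalizer_piCoreOf π' _
  have hRL : R ≤ Subgroup.normalizer (L : Set G) :=
    hRN.trans (normalizer_le_normalizer_piCoreOf_centralizer π' Q)
  have hLnum : PiNum π' (Nat.card L) := piCoreOf_piNum π' _
  have hLp : (Nat.card L).Coprime p := kb_coprime_of_piNum hp.out hpπ hLnum
  rw [kb_normal_step p M hM Q R f g hn' L hLK hKL hRL hLp]
  intro ξ hξ
  rw [kb_mem_kerSet]
  intro k hk
  have hDK : Subgroup.centralizer (R : Set G) ≤ Subgroup.centralizer (Q : Set G) :=
    Subgroup.centralizer_le hQR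
  have hW : L ⊓ Subgroup.centralizer (R : Set G) ≤
      Cfsg.piCoreOf π' (Subgroup.centralizer (R : Set G)) := by
    apply le_piCoreOf inf_le_right
    · intro c hc
      have h1 : c ∈ Subgroup.normalizer (L : Set G) := hKL (hDK hc)
      have h2 : c ∈ Subgroup.normalizer
          ((Subgroup.centralizer (R : Set G) : Subgroup G) : Set G) := Subgroup.le_normalizer hc
      rw [Subgroup.mem_normalizer_iff] at h1 h2 ⊢
      intro w
      rw [Subgroup.mem_inf, Subgroup.mem_inf, ← h1 w, ← h2 w]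
    · exact hLnum.of_dvd (Subgroup.card_dvd_of_le inf_le_left)
  have hk' : k ∈ Cfsg.piCore π' (Subgroup.centralizer (R : Set G)) :=
    (kb_mem_piCoreOf π' _ k).mp (hW ⟨hk, k.2⟩)
  exact hb k hk' ξ hξ

theorem kb_chain_down_idx {G : Type*} [Group G] [Fintype G] (p : ℕ) [hp : Fact p.Prime]
    (M : Ideal Cfsg.AlgInt) (hM : Cfsg.IsPModular p M) (π' : Set ℕ) (hpπ : p ∉ π')
    (a b : Cfsg.BrauerPairIdx G)
    (h : Relation.ReflTransGen (Cfsg.NormalSubpairRel p M) a b) (hb : kb_inv π' b) :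
    kb_inv π' a := by
  induction h using Relation.ReflTransGen.head_induction_on with
  | refl => exact hb
  | head h' _ ih => exact kb_down p M hM π' hpπ _ _ h' ih

/-- the invariant goes down along an inclusion of Brauer pairs -/
theorem kb_chain_down {G : Type*} [Group G] [Fintype G] (p : ℕ) [hp : Fact p.Prime]
    (M : Ideal Cfsg.AlgInt) (hM : Cfsg.IsPModular p M) (π' : Set ℕ) (hpπ : p ∉ π')
    (Q P : Subgroup G) (f : Set (Cfsg.IrrCharacter (Subgroup.centralizer (Q : Set G))))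
    (e : Set (Cfsg.IrrCharacter (Subgroup.centralizer (P : Set G))))
    (hle : Cfsg.SubpairLE p M Q f P e) (hP : kb_inv π' ⟨P, e⟩) : kb_inv π' ⟨Q, f⟩ :=
  kb_chain_down_idx p M hM π' hpπ _ _ hle hP

/-- the `π`-core is preserved by isomorphisms -/
theorem kb_piCore_map {A B : Type*} [Group A] [Group B] [Finite A] (π' : Set ℕ) (σ : A ≃* B)
    (y : A) (hy : y ∈ Cfsg.piCore π' A) : σ y ∈ Cfsg.piCore π' B := by
  have hn : ((Cfsg.piCore π' A).map σ.toMonoidHom).Normal :=
    Subgroup.Normal.map (Cfsg.piCore_normal π' A) _ σ.surjective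
  have hcard : Nat.card ((Cfsg.piCore π' A).map σ.toMonoidHom) = Nat.card (Cfsg.piCore π' A) :=
    Subgroup.card_map_of_injective σ.injective
  have hle : (Cfsg.piCore π' A).map σ.toMonoidHom ≤ Cfsg.piCore π' B :=
    le_piCore hn (hcard ▸ piCore_piNum π')
  exact hle ⟨y, hy, rfl⟩

/-- the invariant is preserved by conjugation -/
theorem kb_conj_back {G : Type*} [Group G] [Finite G] (π' : Set ℕ) (Q : Subgroup G) (x : G)
    (f : Set (Cfsg.IrrCharacter (Subgroup.centralizer (Q : Set G))))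
    (h : kb_inv π' ⟨Q.map (MulAut.conj x).toMonoidHom, Cfsg.conjBlock Q x f⟩) :
    kb_inv π' ⟨Q, f⟩ := by
  intro y hy ψ hψ
  have hψ' : bq_push Q x ψ ∈ Cfsg.conjBlock Q x f := (bq_push_mem Q x f ψ).mpr hψ
  have hy' := kb_piCore_map π' (bq_centConj Q x) y hy
  have h1 := h (bq_centConj Q x y) hy' (bq_push Q x ψ) hψ'
  rw [bq_push_apply, bq_push_apply, MulEquiv.symm_apply_apply, map_one] at h1
  exact h1

end

section

/-- transitivity: a root of a block `b` of `H` in `C_H(S) ≅ C_G(R)` induces `b^G` -/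
theorem kb_lift_pair {G : Type*} [Group G] [Fintype G] (p : ℕ) [hp : Fact p.Prime]
    (M : Ideal Cfsg.AlgInt) (hM : Cfsg.IsPModular p M) (H : Subgroup G) (S : Subgroup H)
    (R : Subgroup G) (hR : IsPGroup p R)
    (σ : Subgroup.centralizer (S : Set H) ≃* Subgroup.centralizer (R : Set G))
    (hσ : ∀ y : Subgroup.centralizer (S : Set H), ((σ y : _) : G) = ((y : H) : G))
    (e' : Set (Cfsg.IrrCharacter (Subgroup.centralizer (S : Set H))))
    (b : Set (Cfsg.IrrCharacter H)) (B : Set (Cfsg.IrrCharacter G))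
    (h1 : Cfsg.IsInducedBlock M (Subgroup.centralizer (S : Set H)) e' b)
    (h2 : Cfsg.IsInducedBlock M H b B) :
    Cfsg.IsInducedBlock M (Subgroup.centralizer (R : Set G)) (bq_trSet σ.symm e') B := by
  classical
  haveI : Fintype (Cfsg.IrrCharacter G) := Fintype.ofFinite _
  haveI : Fintype (Subgroup.centralizer (R : Set G)) := Fintype.ofFinite _
  haveI : Fintype (Cfsg.IrrCharacter (Subgroup.centralizer (R : Set G))) := Fintype.ofFinite _
  have hPr := hM.2.1.isPrime
  obtain ⟨ξ₀, hξ₀⟩ := bq_trSet_isBlock M σ.symm e' h1.1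
  have hCN : Subgroup.centralizer (R : Set G) ≤ Subgroup.normalizer (R : Set G) :=
    Subgroup.centralizer_le_normalizer _
  obtain ⟨χ₀, hχ₀⟩ := h7_brauer_hom_block R (Subgroup.centralizer (R : Set G)) hM hR le_rfl hCN ξ₀
  have hind := tp_induced_centralizer hM R hR ξ₀ χ₀ hχ₀
  rw [← hξ₀] at hind
  have h3 := bq_induced_trans hPr H (Subgroup.centralizer (S : Set H))
    (Subgroup.centralizer (R : Set G)) σ hσ e' b _ h1 hind
  have hB : B = Cfsg.blockOf M (χ₀ : G → ℂ) := h7_induced_unique hPr H b _ _ h2 h3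
  rw [hB]
  exact hind

/-- **top**: from the Brauer correspondent `B₁` in `N_G(D)` to a maximal Brauer pair on `D` -/
theorem kb_top {G : Type*} [Group G] [Fintype G] (p : ℕ) [hp : Fact p.Prime]
    (M : Ideal Cfsg.AlgInt) (hM : Cfsg.IsPModular p M) (π' : Set ℕ) (hpπ : p ∉ π')
    (B : Set (Cfsg.IrrCharacter G)) (D : Subgroup G) (hBD : Cfsg.IsDefectGroup p M B D)
    (B₁ : Set (Cfsg.IrrCharacter (Subgroup.normalizer (D : Set G))))
    (hB₁ : Cfsg.IsInducedBlock M (Subgroup.normalizer (D : Set G)) B₁ B)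
    (hB₁D : Cfsg.IsDefectGroup p M B₁ (D.subgroupOf (Subgroup.normalizer (D : Set G))))
    (hker : ∀ n : Subgroup.normalizer (D : Set G),
      n ∈ Cfsg.piCore π' (Subgroup.normalizer (D : Set G)) → n ∈ Cfsg.blockKer B₁) :
    ∃ e : Set (Cfsg.IrrCharacter (Subgroup.centralizer (D : Set G))),
      Cfsg.IsMaximalBrauerPair p M B D e ∧ kb_inv π' ⟨D, e⟩ := by
  classical
  haveI : Fintype (Subgroup.normalizer (D : Set G)) := Fintype.ofFinite _
  have hPr := hM.2.1.isPrime
  have hDp : IsPGroup p D := fi_defect_isPGroup p M B D hBD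
  have hDN : D ≤ Subgroup.normalizer (D : Set G) := Subgroup.le_normalizer
  have hD'p : IsPGroup p (D.subgroupOf (Subgroup.normalizer (D : Set G))) := hDp.comap_subtype
  obtain ⟨e', he'⟩ := bq_pair_at_defect p M hM _ hD'p B₁ hB₁.1 hB₁D
  have hindX := tp_pair_induced p M hM _ B₁ e' he'
  have hR : ∀ g : G, g ∈ Subgroup.centralizer (D : Set G) ↔
      ∃ h : g ∈ Subgroup.normalizer (D : Set G),
        (⟨g, h⟩ : Subgroup.normalizer (D : Set G)) ∈ Subgroup.centralizer
          ((D.subgroupOf (Subgroup.normalizer (D : Set G)) :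
            Subgroup (Subgroup.normalizer (D : Set G))) : Set (Subgroup.normalizer (D : Set G))) := by
    intro g
    constructor
    · intro hg
      have hgN : g ∈ Subgroup.normalizer (D : Set G) :=
        Subgroup.centralizer_le_normalizer _ hg
      exact ⟨hgN, (bq_mem_centralizer_subgroupOf D _ hDN ⟨g, hgN⟩).mpr hg⟩
    · rintro ⟨hgN, hg⟩
      exact (bq_mem_centralizer_subgroupOf D _ hDN ⟨g, hgN⟩).mp hg
  set σ := bq_relCent (Subgroup.normalizer (D : Set G))
    (D.subgroupOf (Subgroup.normalizer (D : Set G))) D hR with hσdef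
  have hσ : ∀ y, ((σ y : _) : G) = ((y : Subgroup.normalizer (D : Set G)) : G) := fun y => rfl
  have hind := kb_lift_pair p M hM _ _ D hDp σ hσ e' B₁ B hindX hB₁
  have hpair := fi_pair_of_induced p M hM D hDp B _ hind
  refine ⟨bq_trSet σ.symm e', bq_max_of_defect p M hM B D _ hpair hBD, ?_⟩
  -- the invariant
  have hLnum : PiNum π' (Nat.card (Cfsg.piCore π' (Subgroup.normalizer (D : Set G)))) :=
    piCore_piNum π'
  have hLp := kb_coprime_of_piNum hp.out hpπ hLnum
  have hstep := (kb_induced_step p M hM _ hD'p e' B₁ hindX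
    (Cfsg.piCore π' (Subgroup.normalizer (D : Set G))) hLp).mp
    (fun χ hχ l hl => hker l hl χ hχ)
  intro y hy ψ hψ
  have hψ' : bq_trIrr σ ψ ∈ e' := hψ
  have h1 := (kb_mem_kerSet _ _ _).mp (hstep hψ') (σ.symm y) ?_
  · rw [bq_trIrr_apply, bq_trIrr_apply, MulEquiv.apply_symm_apply, map_one] at h1
    exact h1
  · -- `σ.symm y` lies in the `π'`-core of `N_G(D)`
    have hle : Cfsg.piCoreOf π' (Subgroup.centralizer (D : Set G)) ≤
        Cfsg.piCoreOf π' (Subgroup.normalizer (D : Set G)) := by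
      apply le_piCoreOf
      · exact (piCoreOf_le π' _).trans (Subgroup.centralizer_le_normalizer _)
      · exact normalizer_le_normalizer_piCoreOf_centralizer π' D
      · exact piCoreOf_piNum π' _
    have hyG : (y : G) ∈ Cfsg.piCoreOf π' (Subgroup.centralizer (D : Set G)) :=
      (kb_mem_piCoreOf π' _ y).mpr hy
    have h2 := hle hyG
    have h3 : (((σ.symm y : _) : Subgroup.normalizer (D : Set G)) : G) = (y : G) := by
      rw [← hσ, MulEquiv.apply_symm_apply]
    rw [← h3] at h2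
    exact (kb_mem_piCoreOf π' _ _).mp h2

/-- **bottom**: from a Brauer pair on a defect group of `B₀` to the kernel of `B₀` -/
theorem kb_bottom {G : Type*} [Group G] [Fintype G] (p : ℕ) [hp : Fact p.Prime]
    (M : Ideal Cfsg.AlgInt) (hM : Cfsg.IsPModular p M) (π' : Set ℕ) (hpπ : p ∉ π')
    (B : Set (Cfsg.IrrCharacter G)) (G₀ : Subgroup G) (B₀ : Set (Cfsg.IrrCharacter G₀))
    (hB₀ : Cfsg.IsInducedBlock M G₀ B₀ B) (D₀ : Subgroup G₀)
    (hD₀ : Cfsg.IsDefectGroup p M B₀ D₀)
    (hC : Subgroup.centralizer ((D₀.map G₀.subtype : Subgroup G) : Set G) ≤ G₀) :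
    ∃ e : Set (Cfsg.IrrCharacter
        (Subgroup.centralizer ((D₀.map G₀.subtype : Subgroup G) : Set G))),
      Cfsg.IsBrauerPairOf p M B (D₀.map G₀.subtype) e ∧
      (kb_inv π' ⟨D₀.map G₀.subtype, e⟩ →
        ∀ x : G₀, x ∈ Cfsg.piCore π' G₀ → x ∈ Cfsg.blockKer B₀) := by
  classical
  haveI : Fintype G₀ := Fintype.ofFinite _
  have hPr := hM.2.1.isPrime
  have hD₀p : IsPGroup p D₀ := fi_defect_isPGroup p M B₀ D₀ hD₀
  have hRp : IsPGroup p (D₀.map G₀.subtype) := hD₀p.map _
  obtain ⟨e₀, he₀⟩ := bq_pair_at_defect p M hM D₀ hD₀p B₀ hB₀.1 hD₀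
  have hindX := tp_pair_induced p M hM D₀ B₀ e₀ he₀
  set σ := bq_centSubEquiv G₀ D₀ hC with hσdef
  have hσ : ∀ y, ((σ y : _) : G) = ((y : G₀) : G) := fun y => rfl
  have hind := kb_lift_pair p M hM G₀ D₀ _ hRp σ hσ e₀ B₀ B hindX hB₀
  have hpair := fi_pair_of_induced p M hM _ hRp B _ hind
  refine ⟨bq_trSet σ.symm e₀, hpair, ?_⟩
  intro hinv
  have hLnum : PiNum π' (Nat.card (Cfsg.piCore π' G₀)) := piCore_piNum π'
  have hLp := kb_coprime_of_piNum hp.out hpπ hLnum
  have hstep := (kb_induced_step p M hM D₀ hD₀p e₀ B₀ hindX (Cfsg.piCore π' G₀) hLp).mpr ?_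
  · intro x hx χ hχ
    exact hstep hχ x hx
  · intro ξ₀ hξ₀
    rw [kb_mem_kerSet]
    intro k hk
    have hψ : bq_trIrr σ.symm ξ₀ ∈ bq_trSet σ.symm e₀ := (bq_mem_trSet σ.symm e₀ ξ₀).mpr hξ₀
    have hy : σ k ∈ Cfsg.piCore π'
        (Subgroup.centralizer ((D₀.map G₀.subtype : Subgroup G) : Set G)) := by
      apply (kb_mem_piCoreOf π' _ _).mp
      have hW : Cfsg.piCoreOf π' G₀ ⊓
          Subgroup.centralizer ((D₀.map G₀.subtype : Subgroup G) : Set G) ≤
          Cfsg.piCoreOf π'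
            (Subgroup.centralizer ((D₀.map G₀.subtype : Subgroup G) : Set G)) := by
        apply le_piCoreOf inf_le_right
        · intro c hc
          have h1 : c ∈ Subgroup.normalizer ((Cfsg.piCoreOf π' G₀ : Subgroup G) : Set G) :=
            le_normalizer_piCoreOf π' G₀ (hC hc)
          have h2 : c ∈ Subgroup.normalizer ((Subgroup.centralizer
              ((D₀.map G₀.subtype : Subgroup G) : Set G) : Subgroup G) : Set G) :=
            Subgroup.le_normalizer hc
          rw [Subgroup.mem_normalizer_iff] at h1 h2 ⊢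
          intro w
          rw [Subgroup.mem_inf, Subgroup.mem_inf, ← h1 w, ← h2 w]
        · exact (piCoreOf_piNum π' G₀).of_dvd (Subgroup.card_dvd_of_le inf_le_left)
      apply hW
      refine ⟨?_, (σ k).2⟩
      rw [hσ]
      exact (kb_mem_piCoreOf π' G₀ (k : G₀)).mpr hk
    have h1 := hinv (σ k) hy _ hψ
    rw [bq_trIrr_apply, bq_trIrr_apply, MulEquiv.symm_apply_apply, map_one] at h1
    exact h1

end

section

/-- S4734: if `O_{π'}(N_G(D))` lies in the kernel of the Brauer correspondent of `B`, then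
`O_{π'}(G₀)` lies in the kernel of every block `B₀` of `G₀ ≥ C_G(D₀)` with `B₀^G = B` -/
theorem kb_main_down {G : Type*} [Group G] [Fintype G] (p : ℕ) [hp : Fact p.Prime]
    (M : Ideal Cfsg.AlgInt) (hM : Cfsg.IsPModular p M) (π : Set ℕ) (hpπ : p ∈ π)
    (B : Set (Cfsg.IrrCharacter G)) (D : Subgroup G) (hBD : Cfsg.IsDefectGroup p M B D)
    (B₁ : Set (Cfsg.IrrCharacter (Subgroup.normalizer (D : Set G))))
    (hB₁ : Cfsg.IsInducedBlock M (Subgroup.normalizer (D : Set G)) B₁ B)
    (hB₁D : Cfsg.IsDefectGroup p M B₁ (D.subgroupOf (Subgroup.normalizer (D : Set G))))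
    (hker : ∀ n : Subgroup.normalizer (D : Set G),
      n ∈ Cfsg.piCore {q | q ∉ π} (Subgroup.normalizer (D : Set G)) → n ∈ Cfsg.blockKer B₁)
    (G₀ : Subgroup G) (B₀ : Set (Cfsg.IrrCharacter G₀))
    (hB₀ : Cfsg.IsInducedBlock M G₀ B₀ B) (D₀ : Subgroup G₀)
    (hD₀ : Cfsg.IsDefectGroup p M B₀ D₀)
    (hC : Subgroup.centralizer ((D₀.map G₀.subtype : Subgroup G) : Set G) ≤ G₀) :
    ∀ x : G₀, x ∈ Cfsg.piCore {q | q ∉ π} G₀ → x ∈ Cfsg.blockKer B₀ := by
  have hpπ' : p ∉ {q | q ∉ π} := fun h => h hpπ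
  obtain ⟨e, hmax, hinv⟩ := kb_top p M hM _ hpπ' B D hBD B₁ hB₁ hB₁D hker
  obtain ⟨e₀, hpair, hbot⟩ := kb_bottom p M hM _ hpπ' B G₀ B₀ hB₀ D₀ hD₀ hC
  obtain ⟨x, hle⟩ := bq_conj_into_max p M hM B D _ e e₀ hmax hpair
  have h1 := kb_chain_down p M hM _ hpπ' _ D _ e hle hinv
  exact hbot (kb_conj_back _ _ x e₀ h1)

end

end Cfsg.Agent.Lib.Helper25
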