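import Mathlib
import Cfsg.Agent.Lib.Helper25.KernelBlock
import Cfsg.Agent.Lib.Helper24.StabIndex2
import Cfsg.Agent.Lib.Helper25.PCoreBlocks

/-!
Coset constancy of blocks for kernel blocks (S4727): going-down corollary of KernelBlock.
-/

set_option autoImplicit false
set_option linter.style.haveILetI false
set_option linter.unusedVariables false
set_option warn.classDefReducibility false
set_option maxHeartbeats 1600000

namespace Cfsg.Agent.Lib.Helper25
open Cfsg.Agent.Lib.Helper24
open Cfsg.Agent.Lib.Helper11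
open Cfsg.Agent.Lib.helper2
open Cfsg.Agent.Lib.helper7
open scoped ComplexConjugate
section

/-- a central `p`-element lies in every defect group -/
theorem kb_central_mem_defect {H : Type*} [Group H] [Finite H] (p : ℕ) [hp : Fact p.Prime]
    (M : Ideal Cfsg.AlgInt) (hM : Cfsg.IsPModular p M) (b : Set (Cfsg.IrrCharacter H))
    (hb : Cfsg.IsPBlock M b) (D₀ : Subgroup H) (hD₀ : Cfsg.IsDefectGroup p M b D₀)
    (z : H) (hz : z ∈ Subgroup.center H) (hzp : ∃ k : ℕ, orderOf z = p ^ k) : z ∈ D₀ := by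
  have h1 : Cfsg.pCore p H ≤ D₀ := an_pCore_le_defectGroup p M hM b hb D₀ hD₀
  apply h1
  have hle : Subgroup.zpowers z ≤ Subgroup.center H := by
    rw [Subgroup.zpowers_le]
    exact hz
  have hn : (Subgroup.zpowers z).Normal := bq_normal_of_le_center _ hle
  have hpg : IsPGroup p (Subgroup.zpowers z) := by
    obtain ⟨k, hk⟩ := hzp
    apply IsPGroup.of_card (n := k)
    rw [Nat.card_zpowers, hk]
  have : Subgroup.zpowers z ≤ Cfsg.pCore p H := le_sSup ⟨hn, hpg⟩
  exact this (Subgroup.mem_zpowers z)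

/-- S4727 -/
theorem kb_coset_const {G : Type*} [Group G] [Fintype G] (p : ℕ) [hp : Fact p.Prime]
    (M : Ideal Cfsg.AlgInt) (hM : Cfsg.IsPModular p M) (π : Set ℕ) (hpπ : p ∈ π)
    (B : Set (Cfsg.IrrCharacter G)) (hB : Cfsg.IsPBlock M B) (D : Subgroup G)
    (hBD : Cfsg.IsDefectGroup p M B D)
    (B₁ : Set (Cfsg.IrrCharacter (Subgroup.normalizer (D : Set G))))
    (hB₁ : Cfsg.IsInducedBlock M (Subgroup.normalizer (D : Set G)) B₁ B)
    (hB₁D : Cfsg.IsDefectGroup p M B₁ (D.subgroupOf (Subgroup.normalizer (D : Set G))))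
    (hker : ∀ n : Subgroup.normalizer (D : Set G),
      n ∈ Cfsg.piCore {q | q ∉ π} (Subgroup.normalizer (D : Set G)) → n ∈ Cfsg.blockKer B₁)
    (y : G) (hy : ∃ k : ℕ, orderOf y = p ^ k)
    (hC : ∀ x : Subgroup.centralizer ({y} : Set G),
      (∀ q : ℕ, q.Prime → q ∣ orderOf x → q ∉ π) →
        x ∈ Cfsg.piCore {q | q ∉ π} (Subgroup.centralizer ({y} : Set G))) :
    ∀ χ ∈ B, ∀ x : G, x ∈ Subgroup.centralizer ({y} : Set G) →
      (∀ q : ℕ, q.Prime → q ∣ orderOf x → q ∉ π) → (χ : G → ℂ) (y * x) = (χ : G → ℂ) y := by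
  classical
  intro χ hχ x hxH hxπ
  haveI : Fintype (Subgroup.centralizer ({y} : Set G)) := Fintype.ofFinite _
  haveI : Fintype (Cfsg.IrrCharacter (Subgroup.centralizer ({y} : Set G))) := Fintype.ofFinite _
  have hPr := hM.2.1.isPrime
  have hyH : y ∈ Subgroup.centralizer ({y} : Set G) :=
    Subgroup.mem_centralizer_singleton_iff.mpr rfl
  have hcent : ∀ h ∈ Subgroup.centralizer ({y} : Set G), h * y = y * h := fun h hh =>
    Subgroup.mem_centralizer_singleton_iff.mp hh
  have hcent' : ∀ g : G, g * y = y * g → g ∈ Subgroup.centralizer ({y} : Set G) := fun g hg =>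
    Subgroup.mem_centralizer_singleton_iff.mpr hg
  obtain ⟨hP, hPH, hCH, hHN⟩ := h7_centralizer_brauer_hyps p y hy
  have hdef : ∀ b : Set (Cfsg.IrrCharacter ↥(Subgroup.centralizer ({y} : Set G))),
      Cfsg.IsPBlock M b → Cfsg.InducedBlockDefined M (Subgroup.centralizer ({y} : Set G)) b :=
    fun b hb => Cfsg.Agent.S0919.result p M hM (Subgroup.zpowers y) _ hP hPH hCH hHN b hb
  set s : Subgroup.centralizer ({y} : Set G) := ⟨x, hxH⟩ with hs
  have hso : orderOf s = orderOf x := by
    rw [← Subgroup.orderOf_coe]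
  have hscore : s ∈ Cfsg.piCore {q | q ∉ π} (Subgroup.centralizer ({y} : Set G)) := by
    apply hC s
    rw [hso]
    exact hxπ
  have hsreg : ¬ p ∣ orderOf s := by
    rw [hso]
    intro hd
    exact hxπ p hp.out hd hpπ
  have h1reg : ¬ p ∣ orderOf (1 : Subgroup.centralizer ({y} : Set G)) := by
    rw [orderOf_one]
    exact hp.out.one_lt.ne' ∘ Nat.dvd_one.mp
  set θ : Subgroup.centralizer ({y} : Set G) → ℂ := fun c => (χ : G → ℂ) (y * (c : G)) with hθ
  have hθcl : ∀ g h : Subgroup.centralizer ({y} : Set G), θ (h * g * h⁻¹) = θ g :=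
    fun g h => st_theta_class _ y hcent χ g h
  have hsum1 := sc_sum_blockPart hPr θ hθcl s
  have hsum2 := sc_sum_blockPart hPr θ hθcl 1
  have hyc : (⟨y, hyH⟩ : Subgroup.centralizer ({y} : Set G)) ∈
      Subgroup.center (Subgroup.centralizer ({y} : Set G)) := by
    rw [Subgroup.mem_center_iff]
    intro g
    apply Subtype.ext
    exact hcent g g.2
  have hyo : ∃ k : ℕ, orderOf (⟨y, hyH⟩ : Subgroup.centralizer ({y} : Set G)) = p ^ k := by
    obtain ⟨k, hk⟩ := hy
    refine ⟨k, ?_⟩
    rw [← hk, ← Subgroup.orderOf_coe]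
  have hterm : ∀ b : Set (Cfsg.IrrCharacter (Subgroup.centralizer ({y} : Set G))),
      (if Cfsg.IsPBlock M b then Cfsg.blockPart b θ s else 0) =
      (if Cfsg.IsPBlock M b then Cfsg.blockPart b θ 1 else 0) := by
    intro b
    by_cases hb : Cfsg.IsPBlock M b
    · rw [if_pos hb, if_pos hb]
      obtain ⟨B', hB'⟩ := hdef b hb
      by_cases hBB : B' = B
      · rw [hBB] at hB'
        obtain ⟨D₀, hD₀⟩ := si_exists_defect hM b hb
        have hyD₀ := kb_central_mem_defect p M hM b hb D₀ hD₀ _ hyc hyo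
        have hC' : Subgroup.centralizer ((D₀.map (Subgroup.centralizer ({y} : Set G)).subtype :
            Subgroup G) : Set G) ≤ Subgroup.centralizer ({y} : Set G) := by
          intro g hg
          apply hcent'
          have := Subgroup.mem_centralizer_iff.mp hg y ⟨⟨y, hyH⟩, hyD₀, rfl⟩
          exact this.symm
        have hk := kb_main_down p M hM π hpπ B D hBD B₁ hB₁ hB₁D hker _ b hB' D₀ hD₀ hC' s hscore
        rw [ib_blockPart_apply, ib_blockPart_apply]
        apply finsum_mem_congr rfl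
        intro ψ hψ
        rw [hk ψ hψ]
      · have hχB' : χ ∉ B' := by
          intro h
          apply hBB
          by_contra hne
          have := bq_block_inter hPr B' B hB'.2.1 hB hne
          exact (Set.eq_empty_iff_forall_notMem.mp this) χ ⟨h, hχ⟩
        rw [st_smt p M hM _ y hyH hcent hcent' hy b B' hB' χ hχB' s hsreg,
          st_smt p M hM _ y hyH hcent hcent' hy b B' hB' χ hχB' 1 h1reg]
    · rw [if_neg hb, if_neg hb]
  rw [Finset.sum_congr rfl (fun b _ => hterm b), hsum2] at hsum1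
  have e1 : θ s = (χ : G → ℂ) (y * x) := rfl
  have e2 : θ 1 = (χ : G → ℂ) y := by
    show (χ : G → ℂ) (y * ((1 : Subgroup.centralizer ({y} : Set G)) : G)) = _
    rw [Subgroup.coe_one, mul_one]
  rw [← e1, ← e2]
  exact hsum1.symm

end

end Cfsg.Agent.Lib.Helper25
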