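import Mathlib
import Cfsg.Agent.Lib.Helper25.KernelBlock2

/-!
Going up for kernel blocks (S4728): from a normal Hall pi'-subgroup of C_G(D0) in the kernel of a block of D0 C_G(D0) to the Brauer correspondent.
-/

set_option autoImplicit false
set_option linter.style.haveILetI false
set_option linter.unusedVariables false
set_option warn.classDefReducibility false
set_option maxHeartbeats 1600000

namespace Cfsg.Agent.Lib.Helper25
open Cfsg.Agent.Lib.Helper24
open Cfsg.Agent.Lib.Helper11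
open Cfsg.Agent.Lib.helper2
open Cfsg.Agent.Lib.helper7
open scoped ComplexConjugate
section

/-- the upward invariant: `C_G(Q)` has a normal Hall `π'`-subgroup, which lies in the kernel of
`f` -/
def kb_up {G : Type*} [Group G] (π' : Set ℕ) (a : Cfsg.BrauerPairIdx G) : Prop :=
  (∀ x : Subgroup.centralizer (a.1 : Set G),
    (∀ q : ℕ, q.Prime → q ∣ orderOf x → q ∈ π') →
      x ∈ Cfsg.piCore π' (Subgroup.centralizer (a.1 : Set G))) ∧ kb_inv π' a

/-- elements of the `π'`-core have `π'`-order -/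
theorem kb_order_of_mem_piCore {K : Type*} [Group K] [Finite K] (π' : Set ℕ) (x : K)
    (hx : x ∈ Cfsg.piCore π' K) : ∀ q : ℕ, q.Prime → q ∣ orderOf x → q ∈ π' := by
  intro q hq hd
  have h1 : PiNum π' (Nat.card (Cfsg.piCore π' K)) := piCore_piNum π'
  apply h1 q hq
  have h2 : orderOf (⟨x, hx⟩ : Cfsg.piCore π' K) = orderOf x := by
    rw [← Subgroup.orderOf_coe]
  rw [← h2] at hd
  exact hd.trans (orderOf_dvd_natCard _)

/-- the upward invariant goes up along a normal inclusion of Brauer pairs -/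
theorem kb_up_step {G : Type*} [Group G] [Fintype G] (p : ℕ) [hp : Fact p.Prime]
    (M : Ideal Cfsg.AlgInt) (hM : Cfsg.IsPModular p M) (π' : Set ℕ) (hpπ : p ∉ π')
    (a b : Cfsg.BrauerPairIdx G) (hn : Cfsg.NormalSubpairRel p M a b) (ha : kb_up π' a) :
    kb_up π' b := by
  obtain ⟨Q, f⟩ := a
  obtain ⟨R, g⟩ := b
  have hn' : Cfsg.IsNormalSubpair p M Q f R g := hn
  have hQR : Q ≤ R := hn'.2.2.1
  have hRN : R ≤ Subgroup.normalizer (Q : Set G) := hn'.2.2.2.1
  obtain ⟨hHall, hinv⟩ := ha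
  rw [kb_inv_iff] at hinv
  have hLK : Cfsg.piCoreOf π' (Subgroup.centralizer (Q : Set G)) ≤
      Subgroup.centralizer (Q : Set G) := piCoreOf_le π' _
  have hKL : Subgroup.centralizer (Q : Set G) ≤ Subgroup.normalizer
      ((Cfsg.piCoreOf π' (Subgroup.centralizer (Q : Set G)) : Subgroup G) : Set G) :=
    le_normalizer_piCoreOf π' _
  have hRL : R ≤ Subgroup.normalizer
      ((Cfsg.piCoreOf π' (Subgroup.centralizer (Q : Set G)) : Subgroup G) : Set G) :=
    hRN.trans (normalizer_le_normalizer_piCoreOf_centralizer π' Q)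
  have hLnum : PiNum π' (Nat.card (Cfsg.piCoreOf π' (Subgroup.centralizer (Q : Set G)))) :=
    piCoreOf_piNum π' _
  have hLp : (Nat.card (Cfsg.piCoreOf π' (Subgroup.centralizer (Q : Set G)))).Coprime p :=
    kb_coprime_of_piNum hp.out hpπ hLnum
  have hg := (kb_normal_step p M hM Q R f g hn' _ hLK hKL hRL hLp).mp hinv
  have hDK : Subgroup.centralizer (R : Set G) ≤ Subgroup.centralizer (Q : Set G) :=
    Subgroup.centralizer_le hQR
  -- `π'`-elements of `C_G(R)` lie in `L`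
  have hmemL : ∀ x : Subgroup.centralizer (R : Set G),
      (∀ q : ℕ, q.Prime → q ∣ orderOf x → q ∈ π') →
        (x : G) ∈ Cfsg.piCoreOf π' (Subgroup.centralizer (Q : Set G)) := by
    intro x hx
    have h1 := hHall ⟨(x : G), hDK x.2⟩ (by
      intro q hq hd
      apply hx q hq
      rw [← Subgroup.orderOf_coe] at hd ⊢
      exact hd)
    exact (kb_mem_piCoreOf π' _ _).mpr h1
  have hW : Cfsg.piCoreOf π' (Subgroup.centralizer (Q : Set G)) ⊓
      Subgroup.centralizer (R : Set G) ≤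
      Cfsg.piCoreOf π' (Subgroup.centralizer (R : Set G)) := by
    apply le_piCoreOf inf_le_right
    · intro c hc
      have h1 : c ∈ Subgroup.normalizer
          ((Cfsg.piCoreOf π' (Subgroup.centralizer (Q : Set G)) : Subgroup G) : Set G) :=
        hKL (hDK hc)
      have h2 : c ∈ Subgroup.normalizer
          ((Subgroup.centralizer (R : Set G) : Subgroup G) : Set G) := Subgroup.le_normalizer hc
      rw [Subgroup.mem_normalizer_iff] at h1 h2 ⊢
      intro w
      rw [Subgroup.mem_inf, Subgroup.mem_inf, ← h1 w, ← h2 w]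
    · exact hLnum.of_dvd (Subgroup.card_dvd_of_le inf_le_left)
  refine ⟨?_, ?_⟩
  · intro x hx
    exact (kb_mem_piCoreOf π' _ x).mp (hW ⟨hmemL x hx, x.2⟩)
  · intro x hx ψ hψ
    have hxL := hmemL x (kb_order_of_mem_piCore π' x hx)
    exact (kb_mem_kerSet _ _ ψ).mp (hg hψ) x hxL

theorem kb_chain_up_idx {G : Type*} [Group G] [Fintype G] (p : ℕ) [hp : Fact p.Prime]
    (M : Ideal Cfsg.AlgInt) (hM : Cfsg.IsPModular p M) (π' : Set ℕ) (hpπ : p ∉ π')
    (a b : Cfsg.BrauerPairIdx G)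
    (h : Relation.ReflTransGen (Cfsg.NormalSubpairRel p M) a b) (ha : kb_up π' a) :
    kb_up π' b := by
  induction h with
  | refl => exact ha
  | tail _ h' ih => exact kb_up_step p M hM π' hpπ _ _ h' ih

/-- the upward invariant goes up along an inclusion of Brauer pairs -/
theorem kb_chain_up {G : Type*} [Group G] [Fintype G] (p : ℕ) [hp : Fact p.Prime]
    (M : Ideal Cfsg.AlgInt) (hM : Cfsg.IsPModular p M) (π' : Set ℕ) (hpπ : p ∉ π')
    (Q P : Subgroup G) (f : Set (Cfsg.IrrCharacter (Subgroup.centralizer (Q : Set G))))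
    (e : Set (Cfsg.IrrCharacter (Subgroup.centralizer (P : Set G))))
    (hle : Cfsg.SubpairLE p M Q f P e) (hQ : kb_up π' ⟨Q, f⟩) : kb_up π' ⟨P, e⟩ :=
  kb_chain_up_idx p M hM π' hpπ _ _ hle hQ

end

section

/-- the upward invariant is preserved by conjugation -/
theorem kb_up_conj {G : Type*} [Group G] [Finite G] (π' : Set ℕ) (Q : Subgroup G) (x : G)
    (f : Set (Cfsg.IrrCharacter (Subgroup.centralizer (Q : Set G))))
    (h : kb_up π' ⟨Q, f⟩) :
    kb_up π' ⟨Q.map (MulAut.conj x).toMonoidHom, Cfsg.conjBlock Q x f⟩ := by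
  obtain ⟨hHall, hinv⟩ := h
  refine ⟨?_, ?_⟩
  · intro y hy
    have h1 := hHall ((bq_centConj Q x).symm y) (by
      intro q hq hd
      apply hy q hq
      rw [MulEquiv.orderOf_eq] at hd
      exact hd)
    have h2 := kb_piCore_map π' (bq_centConj Q x) _ h1
    rw [MulEquiv.apply_symm_apply] at h2
    exact h2
  · intro y hy ψ hψ
    have hψ' : bq_pull Q x ψ ∈ f := (bq_mem_conjBlock Q x f ψ).mp hψ
    have hy' := kb_piCore_map π' (bq_centConj Q x).symm y hy
    have h1 := hinv ((bq_centConj Q x).symm y) hy' (bq_pull Q x ψ) hψ'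
    rw [bq_pull_apply, bq_pull_apply, MulEquiv.apply_symm_apply, map_one] at h1
    exact h1

end

section

/-- a block has a Brauer pair on every `p`-subgroup centralizing an element at which the block
idempotent has a unit coefficient -/
theorem kb_pair_at_unit {G : Type*} [Group G] [Fintype G] (p : ℕ) [hp : Fact p.Prime]
    (M : Ideal Cfsg.AlgInt) (hM : Cfsg.IsPModular p M) (P : Subgroup G) (hP : IsPGroup p P)
    (B : Set (Cfsg.IrrCharacter G)) (hB : Cfsg.IsPBlock M B)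
    (g : G) (hg : g ∈ Subgroup.centralizer (P : Set G))
    (hunit : ¬ Cfsg.MemLocalIdeal M (Cfsg.blockCoeff B g)) :
    ∃ e : Set (Cfsg.IrrCharacter (Subgroup.centralizer (P : Set G))),
      Cfsg.IsBrauerPairOf p M B P e := by
  classical
  haveI : Fintype (Cfsg.IrrCharacter G) := Fintype.ofFinite _
  haveI : Fintype (Subgroup.centralizer (P : Set G)) := Fintype.ofFinite _
  have hMp := hM.2.1.isPrime
  have hBR : ∀ x, Cfsg.MemLocalRing M (Cfsg.blockCoeff B x) := by
    obtain ⟨χ', rfl⟩ := hB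
    exact fun x => h7_osima hMp χ' x
  obtain ⟨ξ, hξ⟩ := bq_nonvanishing p M hM P hP (Cfsg.blockCoeff B) hBR
    (fun u _ x => br_blockCoeff_conj B x u) (fun d _ x => br_blockCoeff_conj B x d)
    (by rw [bq_blockCoeff_conv, Set.inter_self]) g hg hunit
  rcases bq_pair_dichotomy p M hM P hP B hB ξ with h | h
  · exact ⟨_, bq_pair_of_omega p M hM P hP B hB ξ h⟩
  · exact absurd h hξ

/-- a block has a Brauer pair on every normal `p`-subgroup -/
theorem kb_pair_at_normal {H : Type*} [Group H] [Fintype H] (p : ℕ) [hp : Fact p.Prime]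
    (M : Ideal Cfsg.AlgInt) (hM : Cfsg.IsPModular p M) (N : Subgroup H) [hNn : N.Normal]
    (hN : IsPGroup p N) (b : Set (Cfsg.IrrCharacter H)) (hb : Cfsg.IsPBlock M b) :
    ∃ e : Set (Cfsg.IrrCharacter (Subgroup.centralizer (N : Set H))),
      Cfsg.IsBrauerPairOf p M b N e := by
  obtain ⟨Δ, hΔ⟩ := si_exists_defect hM b hb
  have h1 : Cfsg.pCore p H ≤ Δ := an_pCore_le_defectGroup p M hM b hb Δ hΔ
  have h2 : N ≤ Cfsg.pCore p H := le_sSup ⟨hNn, hN⟩
  obtain ⟨g, hg, hunit⟩ := bq_defect_unit p M b Δ hΔ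
  have hg' : g ∈ Subgroup.centralizer (N : Set H) :=
    Subgroup.centralizer_le (h2.trans h1) hg
  exact kb_pair_at_unit p M hM N hN b hb g hg' hunit

end

section

/-- **bottom (upward)**: from a block `b` of `H₀ = D₀ C_G(D₀)` inducing `B` whose kernel contains
the normal Hall `π'`-subgroup of `C_G(D₀)` to a Brauer pair of `B` on `D₀` with the upward
invariant -/
theorem kb_up_bottom {G : Type*} [Group G] [Fintype G] (p : ℕ) [hp : Fact p.Prime]
    (M : Ideal Cfsg.AlgInt) (hM : Cfsg.IsPModular p M) (π' : Set ℕ) (hpπ : p ∉ π')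
    (B : Set (Cfsg.IrrCharacter G)) (D₀ : Subgroup G) (hD₀ : IsPGroup p D₀) (H₀ : Subgroup G)
    (hH₀ : H₀ = D₀ ⊔ Subgroup.centralizer (D₀ : Set G)) (b : Set (Cfsg.IrrCharacter H₀))
    (hb : Cfsg.IsInducedBlock M H₀ b B)
    (hcompl : ∀ x : Subgroup.centralizer (D₀ : Set G),
      (∀ q : ℕ, q.Prime → q ∣ orderOf x → q ∈ π') →
        x ∈ Cfsg.piCore π' (Subgroup.centralizer (D₀ : Set G)))
    (hkerb : ∀ x : Subgroup.centralizer (D₀ : Set G),
      x ∈ Cfsg.piCore π' (Subgroup.centralizer (D₀ : Set G)) → ∀ θ ∈ b, ∀ h : H₀,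
        (h : G) = (x : G) → (θ : H₀ → ℂ) h = (θ : H₀ → ℂ) 1) :
    ∃ e₀ : Set (Cfsg.IrrCharacter (Subgroup.centralizer (D₀ : Set G))),
      Cfsg.IsBrauerPairOf p M B D₀ e₀ ∧ kb_up π' ⟨D₀, e₀⟩ := by
  classical
  haveI : Fintype H₀ := Fintype.ofFinite _
  have hPr := hM.2.1.isPrime
  have hD₀H : D₀ ≤ H₀ := by
    rw [hH₀]
    exact le_sup_left
  have hCH : Subgroup.centralizer (D₀ : Set G) ≤ H₀ := by
    rw [hH₀]
    exact le_sup_right
  have hHN : H₀ ≤ Subgroup.normalizer (D₀ : Set G) := by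
    rw [hH₀]
    exact sup_le Subgroup.le_normalizer (Subgroup.centralizer_le_normalizer _)
  haveI hD₀'n : (D₀.subgroupOf H₀).Normal := Subgroup.normal_subgroupOf_of_le_normalizer hHN
  have hD₀'p : IsPGroup p (D₀.subgroupOf H₀) := hD₀.comap_subtype
  obtain ⟨e', he'⟩ := kb_pair_at_normal p M hM (D₀.subgroupOf H₀) hD₀'p b hb.1
  have hindX := tp_pair_induced p M hM _ b e' he'
  have hR : ∀ g : G, g ∈ Subgroup.centralizer (D₀ : Set G) ↔
      ∃ h : g ∈ H₀, (⟨g, h⟩ : H₀) ∈ Subgroup.centralizer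
          ((D₀.subgroupOf H₀ : Subgroup H₀) : Set H₀) := by
    intro g
    constructor
    · intro hg
      exact ⟨hCH hg, (bq_mem_centralizer_subgroupOf D₀ _ hD₀H ⟨g, hCH hg⟩).mpr hg⟩
    · rintro ⟨hgH, hg⟩
      exact (bq_mem_centralizer_subgroupOf D₀ _ hD₀H ⟨g, hgH⟩).mp hg
  set σ := bq_relCent H₀ (D₀.subgroupOf H₀) D₀ hR with hσdef
  have hσ : ∀ y, ((σ y : _) : G) = ((y : H₀) : G) := fun y => rfl
  have hind := kb_lift_pair p M hM _ _ D₀ hD₀ σ hσ e' b B hindX hb
  have hpair := fi_pair_of_induced p M hM D₀ hD₀ B _ hind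
  refine ⟨bq_trSet σ.symm e', hpair, hcompl, ?_⟩
  -- the kernel part
  have hLC : Cfsg.piCoreOf π' (Subgroup.centralizer (D₀ : Set G)) ≤
      Subgroup.centralizer (D₀ : Set G) := piCoreOf_le π' _
  have hHL : H₀ ≤ Subgroup.normalizer
      ((Cfsg.piCoreOf π' (Subgroup.centralizer (D₀ : Set G)) : Subgroup G) : Set G) :=
    hHN.trans (normalizer_le_normalizer_piCoreOf_centralizer π' D₀)
  haveI hL'n : ((Cfsg.piCoreOf π' (Subgroup.centralizer (D₀ : Set G))).subgroupOf H₀).Normal :=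
    Subgroup.normal_subgroupOf_of_le_normalizer hHL
  have hLnum : PiNum π' (Nat.card (Cfsg.piCoreOf π' (Subgroup.centralizer (D₀ : Set G)))) :=
    piCoreOf_piNum π' _
  have hLp : (Nat.card ((Cfsg.piCoreOf π' (Subgroup.centralizer (D₀ : Set G))).subgroupOf
      H₀)).Coprime p := by
    rw [kb_card_subgroupOf _ _ (hLC.trans hCH)]
    exact kb_coprime_of_piNum hp.out hpπ hLnum
  have hstep := (kb_induced_step p M hM _ hD₀'p e' b hindX
    ((Cfsg.piCoreOf π' (Subgroup.centralizer (D₀ : Set G))).subgroupOf H₀) hLp).mp (by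
      intro χ hχ l hl
      have hl' : (l : G) ∈ Cfsg.piCoreOf π' (Subgroup.centralizer (D₀ : Set G)) :=
        Subgroup.mem_subgroupOf.mp hl
      exact hkerb ⟨(l : G), hLC hl'⟩ ((kb_mem_piCoreOf π' _ _).mp hl') χ hχ l rfl)
  intro y hy ψ hψ
  have hψ' : bq_trIrr σ ψ ∈ e' := hψ
  have h1 := (kb_mem_kerSet _ _ _).mp (hstep hψ') (σ.symm y) (by
    apply Subgroup.mem_subgroupOf.mpr
    have h3 : (((σ.symm y : _) : H₀) : G) = (y : G) := by
      rw [← hσ, MulEquiv.apply_symm_apply]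
    rw [h3]
    exact (kb_mem_piCoreOf π' _ y).mpr hy)
  rw [bq_trIrr_apply, bq_trIrr_apply, MulEquiv.apply_symm_apply, map_one] at h1
  exact h1

end

section

/-- S4728: if `O_{π'}(C_G(D₀))` is a normal Hall `π'`-subgroup of `C_G(D₀)` lying in the kernel
of a block `b` of `D₀ C_G(D₀)` with `b^G = B`, then `O_{π'}(N_G(D))` lies in the kernel of the
Brauer correspondent of `B` -/
theorem kb_main_up {G : Type*} [Group G] [Fintype G] (p : ℕ) [hp : Fact p.Prime]
    (M : Ideal Cfsg.AlgInt) (hM : Cfsg.IsPModular p M) (π : Set ℕ) (hpπ : p ∈ π)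
    (B : Set (Cfsg.IrrCharacter G)) (D : Subgroup G) (hBD : Cfsg.IsDefectGroup p M B D)
    (B₁ : Set (Cfsg.IrrCharacter (Subgroup.normalizer (D : Set G))))
    (hB₁ : Cfsg.IsInducedBlock M (Subgroup.normalizer (D : Set G)) B₁ B)
    (hB₁D : Cfsg.IsDefectGroup p M B₁ (D.subgroupOf (Subgroup.normalizer (D : Set G))))
    (D₀ : Subgroup G) (hD₀ : IsPGroup p D₀) (H₀ : Subgroup G)
    (hH₀ : H₀ = D₀ ⊔ Subgroup.centralizer (D₀ : Set G)) (b : Set (Cfsg.IrrCharacter H₀))
    (hb : Cfsg.IsInducedBlock M H₀ b B)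
    (hcompl : ∀ x : Subgroup.centralizer (D₀ : Set G),
      (∀ q : ℕ, q.Prime → q ∣ orderOf x → q ∉ π) →
        x ∈ Cfsg.piCore {q | q ∉ π} (Subgroup.centralizer (D₀ : Set G)))
    (hkerb : ∀ x : Subgroup.centralizer (D₀ : Set G),
      x ∈ Cfsg.piCore {q | q ∉ π} (Subgroup.centralizer (D₀ : Set G)) → ∀ θ ∈ b, ∀ h : H₀,
        (h : G) = (x : G) → (θ : H₀ → ℂ) h = (θ : H₀ → ℂ) 1) :
    ∀ n : Subgroup.normalizer (D : Set G),
      n ∈ Cfsg.piCore {q | q ∉ π} (Subgroup.normalizer (D : Set G)) → n ∈ Cfsg.blockKer B₁ := by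
  have hpπ' : p ∉ {q | q ∉ π} := fun h => h hpπ
  have hD'' : (D.subgroupOf (Subgroup.normalizer (D : Set G))).map
      (Subgroup.normalizer (D : Set G)).subtype = D :=
    Subgroup.map_subgroupOf_eq_of_le Subgroup.le_normalizer
  have hC : Subgroup.centralizer (((D.subgroupOf (Subgroup.normalizer (D : Set G))).map
      (Subgroup.normalizer (D : Set G)).subtype : Subgroup G) : Set G) ≤
      Subgroup.normalizer (D : Set G) := by
    rw [hD'']
    exact Subgroup.centralizer_le_normalizer _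
  obtain ⟨e, hpair, hbot⟩ := kb_bottom p M hM _ hpπ' B _ B₁ hB₁
    (D.subgroupOf (Subgroup.normalizer (D : Set G))) hB₁D hC
  have hdef'' : Cfsg.IsDefectGroup p M B ((D.subgroupOf (Subgroup.normalizer (D : Set G))).map
      (Subgroup.normalizer (D : Set G)).subtype) := by
    rw [hD'']
    exact hBD
  have hmax := bq_max_of_defect p M hM B _ e hpair hdef''
  obtain ⟨e₀, hpair₀, hup₀⟩ := kb_up_bottom p M hM _ hpπ' B D₀ hD₀ H₀ hH₀ b hb hcompl hkerb
  obtain ⟨x, hle⟩ := bq_conj_into_max p M hM B _ D₀ e e₀ hmax hpair₀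
  have h1 := kb_chain_up p M hM _ hpπ' _ _ _ e hle (kb_up_conj _ D₀ x e₀ hup₀)
  exact hbot h1.2

end

end Cfsg.Agent.Lib.Helper25
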