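import Mathlib
import Cfsg.Agent.Lib.Helper25.PrincipalNPC
import Cfsg.Agent.Lib.helper7.DegSqSum
import Cfsg.Agent.Lib.Helper24.FongPrincipal
import Cfsg.Agent.Lib.Helper25.KnorrBound
import Cfsg.Agent.Lib.Helper25.Gagola
import Cfsg.Agent.Lib.Helper1.Tate
import Cfsg.Agent.Lib.Helper1.Frat
import Cfsg.Agent.Lib.Helper1.Residual
import Cfsg.Agent.Lib.Helper22.SpanOrbit
import Cfsg.Agent.Lib.Helper18.PPrimeCore

/-!
# Principal blocks for two primes in p-solvable groups (S4885). ppq_over (a p'-degree principal-block character over every linear character of a Sylow p-subgroup), ppq_mu_one, ppq_inter_le (P ∩ O_{p'}(G)O_{q'}(G) ≤ P'), ppq_psub_le, ppq_step (Tate step), ppq_top (G = O_{p'}(G)O_{q'}(G)), ppq_main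
-/

set_option autoImplicit false
set_option linter.style.haveILetI false
set_option linter.unusedVariables false
set_option linter.unusedSectionVars false
set_option warn.classDefReducibility false
set_option maxHeartbeats 1600000

namespace Cfsg.Agent.Lib.Helper25
open Cfsg.Agent.Lib.Helper24
open Cfsg.Agent.Lib.Helper11
open Cfsg.Agent.Lib.helper2
open Cfsg.Agent.Lib.helper7
open scoped ComplexConjugate
section

/-- over every linear character of a Sylow `p`-subgroup lies a `p'`-degree character of the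
principal block -/
theorem ppq_over {G : Type*} [Group G] [Finite G] (p : ℕ) [hp : Fact p.Prime]
    (M : Ideal Cfsg.AlgInt) (hM : Cfsg.IsPModular p M) (P : Sylow p G)
    [Fintype (P : Subgroup G)] (μ : (P : Subgroup G) →* ℂˣ) :
    ∃ χ : Cfsg.IrrCharacter G, χ ∈ Cfsg.principalBlock M G ∧
      ¬ p ∣ Cfsg.charDegree (χ : G → ℂ) ∧ pq_mult (P : Subgroup G) μ χ ≠ 0 := by
  classical
  haveI : Fintype G := Fintype.ofFinite _
  haveI : Fintype (Cfsg.IrrCharacter G) := Fintype.ofFinite _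
  have hPr := hM.2.1.isPrime
  have h1 := pq_key_identity hM (trivIrr G) (P : Subgroup G) P.isPGroup' μ
  obtain ⟨_, q, hq, hS⟩ := h7_dss_main p M hM (trivIrr G)
  have hB : Cfsg.blockOf M ((trivIrr G : Cfsg.IrrCharacter G) : G → ℂ) =
      Cfsg.principalBlock M G := rfl
  rw [hB] at h1 hS
  have hdef : Cfsg.blockDefect p (Cfsg.principalBlock M G) = (Nat.card G).factorization p := by
    unfold Cfsg.blockDefect
    rw [pq_sInf_principal p M hPr, Nat.sub_zero]
  rw [pq_sInf_principal p M hPr, hdef, Nat.mul_zero, Nat.zero_add] at hS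
  rw [hS, Sylow.card_eq_multiplicity] at h1
  have hpos : 0 < p ^ (Nat.card G).factorization p := pow_pos hp.out.pos _
  have h2 := Nat.eq_of_mul_eq_mul_left hpos h1
  by_contra hcon
  push Not at hcon
  apply hq
  rw [← h2]
  apply Finset.dvd_sum
  intro χ _
  by_cases hχ : χ ∈ Cfsg.principalBlock M G
  · rw [if_pos hχ]
    by_cases hd : p ∣ Cfsg.charDegree (χ : G → ℂ)
    · exact Dvd.dvd.mul_right hd _
    · rw [hcon χ hχ hd, Nat.mul_zero]
      exact dvd_zero _
  · rw [if_neg hχ]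
    exact dvd_zero _

/-- a linear constituent of the restriction is trivial on the kernel -/
theorem ppq_mu_one {G : Type*} [Group G] [Finite G] (χ : Cfsg.IrrCharacter G)
    (P : Subgroup G) [Fintype P] (μ : P →* ℂˣ) (x : P)
    (hx : (χ : G → ℂ) (x : G) = (χ : G → ℂ) 1)
    (hm : Cfsg.classInner (linFun μ) (fun y : P => (χ : G → ℂ) y) ≠ 0) : μ x = 1 := by
  classical
  unfold Cfsg.classInner at hm
  have hS : ∑ y : P, linFun μ y * conj ((χ : G → ℂ) y) ≠ 0 := by
    intro h0
    apply hm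
    rw [h0, mul_zero]
  have h1 : ∑ y : P, linFun μ y * conj ((χ : G → ℂ) y) =
      ((μ x : ℂˣ) : ℂ) * ∑ y : P, linFun μ y * conj ((χ : G → ℂ) y) := by
    rw [Finset.mul_sum]
    rw [← Equiv.sum_comp (Equiv.mulLeft x) (fun y : P => linFun μ y * conj ((χ : G → ℂ) y))]
    refine Finset.sum_congr rfl fun y _ => ?_
    rw [Equiv.coe_mulLeft, linFun_apply, linFun_apply, map_mul, Units.val_mul, Subgroup.coe_mul,
      knb_ker_mul_left χ (x : G) (y : G) hx]
    ring
  have h2 : (((μ x : ℂˣ) : ℂ) - 1) * ∑ y : P, linFun μ y * conj ((χ : G → ℂ) y) = 0 := by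
    rw [sub_mul, one_mul, ← h1, sub_self]
  rcases mul_eq_zero.mp h2 with h3 | h3
  · apply Units.ext
    rw [Units.val_one]
    exact sub_eq_zero.mp h3
  · exact absurd h3 hS

/-- the intersection of a Sylow `p`-subgroup with `O_{p'}(G) O_{q'}(G)` lies in its derived
subgroup -/
theorem ppq_inter_le {G : Type*} [Group G] [Finite G] (p q : ℕ) [hp : Fact p.Prime]
    [hq : Fact q.Prime] (Mp Mq : Ideal Cfsg.AlgInt) (hMp : Cfsg.IsPModular p Mp)
    (hMq : Cfsg.IsPModular q Mq)
    (h : ∀ χ : Cfsg.IrrCharacter G, χ ∈ Cfsg.principalBlock Mp G →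
      ¬ p ∣ Cfsg.charDegree (χ : G → ℂ) → χ ∈ Cfsg.principalBlock Mq G)
    (P : Sylow p G) (x : (P : Subgroup G))
    (hx : (x : G) ∈ Cfsg.pPrimeCore p G ⊔ Cfsg.pPrimeCore q G) :
    x ∈ commutator (P : Subgroup G) := by
  classical
  haveI : Fintype G := Fintype.ofFinite _
  haveI : Fintype (P : Subgroup G) := Fintype.ofFinite _
  apply pq_mem_commutator
  intro μ
  obtain ⟨χ, hχ, hd, hm⟩ := ppq_over p Mp hMp P μ
  have hK := fg_principal_le p Mp hMp χ hχ
  have hL := fg_principal_le q Mq hMq χ (h χ hχ hd)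
  have hle : Cfsg.pPrimeCore p G ⊔ Cfsg.pPrimeCore q G ≤ irrKer χ := by
    apply sup_le
    · intro n hn
      exact (mem_irrKer χ n).2 (hK n hn)
    · intro n hn
      exact (mem_irrKer χ n).2 (hL n hn)
  have hxk := (mem_irrKer χ (x : G)).1 (hle hx)
  apply ppq_mu_one χ (P : Subgroup G) μ x hxk
  rw [pq_mult_cast]
  exact_mod_cast hm

end

section

/-- `p`-subgroups of `R` lie in a normal subgroup of `p'`-index -/
theorem ppq_psub_le {G : Type*} [Group G] [Finite G] (p : ℕ) [hp : Fact p.Prime]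
    (N R S : Subgroup G) [N.Normal] (hSR : S ≤ R) (hS : IsPGroup p S)
    (hc : (N.relIndex R).Coprime p) : S ≤ N := by
  have h1 : N.relIndex S ∣ N.relIndex R :=
    Cfsg.Agent.Lib.Helper22.SpanOrbit.relIndex_dvd_of_le N S R hSR
  have h2 : N.relIndex S ∣ Nat.card S := (N.subgroupOf S).index_dvd_card
  obtain ⟨k, hk⟩ := IsPGroup.iff_card.mp hS
  rw [hk] at h2
  obtain ⟨j, _, hj⟩ := (Nat.dvd_prime_pow hp.out).mp h2
  have h3 : (N.relIndex S).Coprime p := Nat.Coprime.coprime_dvd_left h1 hc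
  rw [hj] at h3
  have hj0 : j = 0 := by
    by_contra hne
    have : p ∣ Nat.gcd (p ^ j) p := Nat.dvd_gcd (dvd_pow_self p hne) dvd_rfl
    rw [h3] at this
    exact hp.out.one_lt.ne' (Nat.dvd_one.mp this)
  rw [hj0, pow_zero] at hj
  exact Subgroup.relIndex_eq_one.mp hj

/-- the Tate step -/
theorem ppq_step {G : Type*} [Group G] [Finite G] (p : ℕ) [hp : Fact p.Prime] (P : Sylow p G)
    (A R : Subgroup G) [hA : A.Normal] [hR : R.Normal] (hKA : Cfsg.pPrimeCore p G ≤ A)
    (hAR : A ≤ R) (hc : (A.relIndex R).Coprime p)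
    (hP : ∀ x : (P : Subgroup G), (x : G) ∈ A → x ∈ commutator (P : Subgroup G)) : R ≤ A := by
  have h1 : R ⊓ (P : Subgroup G) ≤
      (frattini ↥(P : Subgroup G)).map (P : Subgroup G).subtype := by
    intro x hx
    have hS : IsPGroup p ↥(R ⊓ (P : Subgroup G)) := P.isPGroup'.to_le inf_le_right
    have hxA : x ∈ A := ppq_psub_le p A R (R ⊓ (P : Subgroup G)) inf_le_left hS hc hx
    have hxc := hP ⟨x, hx.2⟩ hxA
    exact ⟨⟨x, hx.2⟩, Cfsg.Agent.Lib.Helper1.pgroup_commutator_le_frattini P.isPGroup' hxc, rfl⟩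
  have h2 := Cfsg.Agent.Lib.Helper1.Tate.tate P R h1
  set O : Subgroup G := (Cfsg.pResidual p ↥R).map R.subtype with hO
  haveI hOn : O.Normal := ConjAct.normal_of_characteristic_of_normal
  have hcard : Nat.card O = Nat.card ↥(Cfsg.pResidual p ↥R) :=
    Subgroup.card_map_of_injective R.subtype_injective
  have hOc : (Nat.card O).Coprime p := by
    rw [hcard]
    exact ((Nat.Prime.coprime_iff_not_dvd hp.out).mpr h2).symm
  have hOA : O ≤ A := le_trans (Cfsg.Agent.Lib.Helper18.le_pPrimeCore_h18 hOn hOc) hKA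
  have hOR : O ≤ R := Subgroup.map_subtype_le _
  have hsub : O.subgroupOf R = Cfsg.pResidual p ↥R := by
    rw [hO]
    ext x
    rw [Subgroup.mem_subgroupOf]
    constructor
    · rintro ⟨y, hy, hxy⟩
      have : y = x := Subtype.ext hxy
      rwa [← this]
    · intro hx
      exact ⟨x, hx, rfl⟩
  have hidx : ∃ k : ℕ, O.relIndex R = p ^ k := by
    unfold Subgroup.relIndex
    rw [hsub]
    have hq := Cfsg.Agent.Lib.Helper1.quotient_pResidual_isPGroup (G := ↥R) p
    haveI := Cfsg.Agent.Lib.Helper1.pResidual_normal (G := ↥R) p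
    obtain ⟨k, hk⟩ := IsPGroup.iff_card.mp hq
    exact ⟨k, by rw [Subgroup.index_eq_card]; exact hk⟩
  obtain ⟨k, hk⟩ := hidx
  have h3 : A.relIndex R ∣ O.relIndex R := Subgroup.relIndex_dvd_of_le_left R hOA
  rw [hk] at h3
  obtain ⟨j, _, hj⟩ := (Nat.dvd_prime_pow hp.out).mp h3
  rw [hj] at hc
  have hj0 : j = 0 := by
    by_contra hne
    have : p ∣ Nat.gcd (p ^ j) p := Nat.dvd_gcd (dvd_pow_self p hne) dvd_rfl
    rw [hc] at this
    exact hp.out.one_lt.ne' (Nat.dvd_one.mp this)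
  rw [hj0, pow_zero] at hj
  exact Subgroup.relIndex_eq_one.mp hj

end

section

/-- climbing a `p`-series: `O_{p'}(G) O_{q'}(G)` is the whole group -/
theorem ppq_top {G : Type*} [Group G] [Finite G] (p q : ℕ) [hp : Fact p.Prime]
    [hq : Fact q.Prime] (hpq : p ≠ q) (hsolv : Cfsg.IsPSolvable p G) (P : Sylow p G)
    (Q : Sylow q G)
    (hP : ∀ x : (P : Subgroup G), (x : G) ∈ Cfsg.pPrimeCore p G ⊔ Cfsg.pPrimeCore q G →
      x ∈ commutator (P : Subgroup G))
    (hQ : ∀ x : (Q : Subgroup G), (x : G) ∈ Cfsg.pPrimeCore p G ⊔ Cfsg.pPrimeCore q G →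
      x ∈ commutator (Q : Subgroup G)) :
    Cfsg.pPrimeCore p G ⊔ Cfsg.pPrimeCore q G = ⊤ := by
  obtain ⟨n, H, h0, hlast, hmono, hnorm, hfac⟩ := hsolv
  haveI hKn : (Cfsg.pPrimeCore p G).Normal := Cfsg.Agent.Lib.Helper18.pPrimeCore_normal_h18 p G
  haveI hLn : (Cfsg.pPrimeCore q G).Normal := Cfsg.Agent.Lib.Helper18.pPrimeCore_normal_h18 q G
  set A : Subgroup G := Cfsg.pPrimeCore p G ⊔ Cfsg.pPrimeCore q G with hA
  haveI hAn : A.Normal := Subgroup.sup_normal _ _
  have key : ∀ i : Fin (n + 1), H i ≤ A := by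
    intro i
    induction i using Fin.induction with
    | zero => rw [h0]; exact bot_le
    | succ i ih =>
      haveI := hnorm i.succ
      set R : Subgroup G := H i.succ ⊔ A with hR
      haveI : R.Normal := Subgroup.sup_normal _ _
      have hAR : A ≤ R := le_sup_right
      have hrel : A.relIndex R = A.relIndex (H i.succ) := Subgroup.relIndex_sup_right _ _
      have hdvd : A.relIndex (H i.succ) ∣ (H i.castSucc).relIndex (H i.succ) :=
        Subgroup.relIndex_dvd_of_le_left _ ih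
      have hRA : R ≤ A := by
        rcases hfac i with ⟨m, hm⟩ | hc
        · have hc : (A.relIndex R).Coprime q := by
            rw [hrel]
            rw [hm] at hdvd
            obtain ⟨j, _, hj⟩ := (Nat.dvd_prime_pow hp.out).mp hdvd
            rw [hj]
            exact Nat.Coprime.pow_left _ ((Nat.coprime_primes hp.out hq.out).mpr hpq)
          exact ppq_step q Q A R le_sup_right hAR hc hQ
        · have hc' : (A.relIndex R).Coprime p := by
            rw [hrel]
            exact Nat.Coprime.coprime_dvd_left hdvd hc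
          exact ppq_step p P A R le_sup_left hAR hc' hP
      exact le_trans le_sup_left hRA
  rw [eq_top_iff, ← hlast]
  exact key _

/-- **S4885** -/
theorem ppq_main {G : Type*} [Group G] [Finite G] (p q : ℕ) [hp : Fact p.Prime]
    [hq : Fact q.Prime] (hpd : p ∣ Nat.card G) (hqd : q ∣ Nat.card G)
    (hps : Cfsg.IsPSolvable p G) (Mp Mq : Ideal Cfsg.AlgInt) (hMp : Cfsg.IsPModular p Mp)
    (hMq : Cfsg.IsPModular q Mq)
    (h : ∀ χ : Cfsg.IrrCharacter G,
      (χ ∈ Cfsg.principalBlock Mp G ∧ ¬ p ∣ Cfsg.charDegree (χ : G → ℂ)) ↔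
      (χ ∈ Cfsg.principalBlock Mq G ∧ ¬ q ∣ Cfsg.charDegree (χ : G → ℂ))) : p = q := by
  by_contra hpq
  let P : Sylow p G := default
  let Q : Sylow q G := default
  have hP : ∀ x : (P : Subgroup G), (x : G) ∈ Cfsg.pPrimeCore p G ⊔ Cfsg.pPrimeCore q G →
      x ∈ commutator (P : Subgroup G) := fun x hx =>
    ppq_inter_le p q Mp Mq hMp hMq (fun χ h1 h2 => ((h χ).1 ⟨h1, h2⟩).1) P x hx
  have hQ : ∀ x : (Q : Subgroup G), (x : G) ∈ Cfsg.pPrimeCore p G ⊔ Cfsg.pPrimeCore q G →
      x ∈ commutator (Q : Subgroup G) := fun x hx =>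
    ppq_inter_le q p Mq Mp hMq hMp (fun χ h1 h2 => ((h χ).2 ⟨h1, h2⟩).1) Q x
      (by rwa [sup_comm])
  have htop := ppq_top p q hpq hps P Q hP hQ
  have hall : ∀ x : (P : Subgroup G), x ∈ commutator (P : Subgroup G) := fun x =>
    hP x (by rw [htop]; exact Subgroup.mem_top _)
  haveI : Group.IsNilpotent (P : Subgroup G) := P.isPGroup'.isNilpotent
  have hbot : (⊤ : Subgroup (P : Subgroup G)) = ⊥ := by
    apply Cfsg.Agent.Lib.Helper1.Tate.eq_bot_of_le_commutator_top
    intro x _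
    have := hall x
    rwa [commutator_def] at this
  have hPbot : (P : Subgroup G) = ⊥ := by
    rw [eq_bot_iff]
    intro x hx
    have h1 : (⟨x, hx⟩ : (P : Subgroup G)) ∈ (⊤ : Subgroup (P : Subgroup G)) :=
      Subgroup.mem_top _
    rw [hbot, Subgroup.mem_bot] at h1
    rw [Subgroup.mem_bot]
    exact congrArg Subtype.val h1
  exact P.ne_bot_of_dvd_card hpd hPbot

end

end Cfsg.Agent.Lib.Helper25
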