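import Mathlib
import Cfsg.Prelude.Def_Characters
import Cfsg.Prelude.Def_Blocks
import Cfsg.Agent.Lib.Helper25.PrincipalTwoPrimes
import Cfsg.Agent.Lib.Helper25.Gagola
import Cfsg.Agent.Lib.Helper25.CharAbelian
import Cfsg.Agent.Lib.Helper25.DefectZeroCount
import Cfsg.Agent.Lib.helper2.CharInt
import Cfsg.Agent.Lib.helper2.CharInd
import Cfsg.Agent.Lib.helper2.MGroup
import Cfsg.Agent.Lib.helper7.OrbitSum
import Cfsg.Agent.Lib.helper7.BlockQuot
import Cfsg.Agent.Lib.helper7.Clifford

/-!
Navarro's theorem: the intersection of the kernels of the irreducible characters of degree prime to p is the normal core of N P', where P is a Sylow p-subgroup and N is the largest normal subgroup in which P has trivial centralizer (S4591). Contains: expansion of characters induced from linear characters of a Sylow subgroup, p-regular elements centralizing P, orbit sums under p-group actions, and linear constituents of p'-degree characters restricted to p-subgroups.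
-/

set_option autoImplicit false
set_option linter.style.haveILetI false
set_option linter.unusedVariables false
set_option linter.unusedSectionVars false
set_option warn.classDefReducibility false
set_option maxHeartbeats 1600000

namespace Cfsg.Agent.Lib.Helper25
open Cfsg.Agent.Lib.Helper11
open Cfsg.Agent.Lib.helper2
open Cfsg.Agent.Lib.helper7
open scoped ComplexConjugate
section

/-- Expansion of the character induced from a linear character of a subgroup. -/
theorem kpd_ind_expand {G : Type*} [Group G] [Fintype G] [Fintype (Cfsg.IrrCharacter G)]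
    (P : Subgroup G) [Fintype P] (μ : P →* ℂˣ) :
    (∑ χ : Cfsg.IrrCharacter G, pq_mult P μ χ * Cfsg.charDegree (χ : G → ℂ) = P.index) ∧
    ∀ g : G, (∀ y : G, y⁻¹ * g * y ∉ P) →
      ∑ χ : Cfsg.IrrCharacter G, (pq_mult P μ χ : ℂ) * (χ : G → ℂ) g = 0 := by
  classical
  have hlin : Cfsg.IsCharacter P (linFun μ) := isCharacter_of_irr (linIrr μ)
  have hΨ : Cfsg.IsCharacter G (Cfsg.indFun P (linFun μ)) := isCharacter_indFun P _ hlin
  obtain ⟨m, hm, hexp⟩ := isCharacter_expansion hΨ
  have hmeq : ∀ χ : Cfsg.IrrCharacter G, m χ = pq_mult P μ χ := by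
    intro χ
    have h1 := hm χ
    rw [h7_frobenius_reciprocity P (linFun μ) (χ : G → ℂ) (h7_irr_isClassFunction χ.2),
      pq_mult_cast] at h1
    exact_mod_cast h1.symm
  have hval : ∀ g : G, Cfsg.indFun P (linFun μ) g =
      ∑ χ : Cfsg.IrrCharacter G, (pq_mult P μ χ : ℂ) * (χ : G → ℂ) g := by
    intro g
    conv_lhs => rw [hexp]
    rw [Finset.sum_apply]
    refine Finset.sum_congr rfl fun χ _ => ?_
    rw [Pi.smul_apply, smul_eq_mul, hmeq]
  constructor
  · have h1 := hval 1
    rw [h7_indFun_one] at h1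
    have h2 : linFun μ 1 = 1 := by
      rw [linFun_apply, map_one]
      rfl
    rw [h2, mul_one] at h1
    have h3 : ∑ χ : Cfsg.IrrCharacter G, (pq_mult P μ χ : ℂ) * (χ : G → ℂ) 1 =
        ((∑ χ : Cfsg.IrrCharacter G, pq_mult P μ χ * Cfsg.charDegree (χ : G → ℂ) : ℕ) : ℂ) := by
      push_cast
      refine Finset.sum_congr rfl fun χ _ => ?_
      rw [(charDegree_irr χ).1]
    rw [h3] at h1
    exact_mod_cast h1.symm
  · intro g hg
    rw [← hval g]
    unfold Cfsg.indFun
    rw [Finset.sum_eq_zero, mul_zero]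
    intro x _
    exact h7_extendByZero_not_mem P _ _ (hg x)

/-- Over every linear character of a Sylow subgroup lies an irreducible character of degree prime
to `p`. -/
theorem kpd_exists_over {G : Type*} [Group G] [Finite G] (p : ℕ) [hp : Fact p.Prime]
    (P : Sylow p G) [Fintype (P : Subgroup G)] (μ : (P : Subgroup G) →* ℂˣ) :
    ∃ χ : Cfsg.IrrCharacter G, ¬ p ∣ Cfsg.charDegree (χ : G → ℂ) ∧
      pq_mult (P : Subgroup G) μ χ ≠ 0 := by
  classical
  haveI : Fintype G := Fintype.ofFinite _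
  haveI : Fintype (Cfsg.IrrCharacter G) := Fintype.ofFinite _
  have h1 := (kpd_ind_expand (P : Subgroup G) μ).1
  have h2 : ¬ p ∣ (P : Subgroup G).index := P.not_dvd_index
  by_contra hcon
  push Not at hcon
  apply h2
  rw [← h1]
  apply Finset.dvd_sum
  intro χ _
  by_cases hd : p ∣ Cfsg.charDegree (χ : G → ℂ)
  · exact Dvd.dvd.mul_left hd _
  · rw [hcon χ hd, zero_mul]
    exact dvd_zero p

/-- The intersection of the kernels of the `p'`-degree characters meets a Sylow subgroup inside
its commutator subgroup. -/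
theorem kpd_inter_le {G : Type*} [Group G] [Finite G] (p : ℕ) [hp : Fact p.Prime]
    (P : Sylow p G) (x : (P : Subgroup G))
    (hx : ∀ χ : Cfsg.IrrCharacter G, ¬ p ∣ Cfsg.charDegree (χ : G → ℂ) →
      (χ : G → ℂ) (x : G) = (χ : G → ℂ) 1) :
    x ∈ commutator (P : Subgroup G) := by
  classical
  haveI : Fintype G := Fintype.ofFinite _
  haveI : Fintype (P : Subgroup G) := Fintype.ofFinite _
  apply pq_mem_commutator
  intro μ
  obtain ⟨χ, hχ1, hχ2⟩ := kpd_exists_over p P μ
  apply ppq_mu_one χ (P : Subgroup G) μ x (hx χ hχ1)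
  rw [pq_mult_cast]
  exact_mod_cast hχ2

end

section

/-- A `p`-regular element centralizing a Sylow `p`-subgroup and lying in the kernel of every
irreducible character of degree prime to `p` is trivial. -/
theorem kpd_regular_central {G : Type*} [Group G] [Finite G] (p : ℕ) [hp : Fact p.Prime]
    (P : Sylow p G) (x : G)
    (hxc : x ∈ Subgroup.centralizer ((P : Subgroup G) : Set G)) (hxo : ¬ p ∣ orderOf x)
    (hx : ∀ χ : Cfsg.IrrCharacter G, ¬ p ∣ Cfsg.charDegree (χ : G → ℂ) →
      (χ : G → ℂ) x = (χ : G → ℂ) 1) : x = 1 := by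
  classical
  by_contra hne
  haveI : Fintype G := Fintype.ofFinite _
  haveI : Fintype (Cfsg.IrrCharacter G) := Fintype.ofFinite _
  haveI : Fintype (P : Subgroup G) := Fintype.ofFinite _
  have hnc : ∀ y : G, y⁻¹ * x * y ∉ (P : Subgroup G) := by
    intro y hy
    obtain ⟨k, hk⟩ := P.isPGroup' ⟨_, hy⟩
    have h1 : (y⁻¹ * x * y) ^ (p ^ k) = 1 := by
      have := congrArg Subtype.val hk
      simpa using this
    have h2 : y⁻¹ * x ^ (p ^ k) * y = 1 := by
      rw [← h1]
      exact (conj_pow (a := y⁻¹) (b := x) (i := p ^ k) |> fun h => by simpa using h.symm)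
    have h3 : x ^ (p ^ k) = 1 := by
      have : x ^ (p ^ k) = y * (y⁻¹ * x ^ (p ^ k) * y) * y⁻¹ := by group
      rw [this, h2]
      group
    have h4 : orderOf x ∣ p ^ k := orderOf_dvd_of_pow_eq_one h3
    obtain ⟨j, _, hj⟩ := (Nat.dvd_prime_pow hp.out).mp h4
    rcases Nat.eq_zero_or_pos j with h0 | h0
    · rw [h0, pow_zero] at hj
      exact hne (orderOf_eq_one_iff.mp hj)
    · apply hxo
      rw [hj]
      exact dvd_pow_self p h0.ne'
  obtain ⟨h1, h2⟩ := kpd_ind_expand (P : Subgroup G) (1 : (P : Subgroup G) →* ℂˣ)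
  have h3 := h2 x hnc
  set c := (Subgroup.centralizer ({x} : Set G)).index with hc
  have hcp : ¬ p ∣ c := by
    intro hd
    apply P.not_dvd_index
    have hle : (P : Subgroup G) ≤ Subgroup.centralizer ({x} : Set G) := by
      intro y hy
      rw [Subgroup.mem_centralizer_iff]
      intro z hz
      rw [Set.mem_singleton_iff] at hz
      rw [hz]
      exact ((Subgroup.mem_centralizer_iff.mp hxc) y hy).symm
    exact dvd_trans hd (Subgroup.index_dvd_of_le hle)
  set m : Cfsg.IrrCharacter G → ℕ := fun χ => pq_mult (P : Subgroup G) 1 χ with hm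
  set ω : Cfsg.IrrCharacter G → ℂ := fun χ => (c : ℂ) * (χ : G → ℂ) x / (χ : G → ℂ) 1 with hω
  have hωint : ∀ χ, IsIntegral ℤ (ω χ) := fun χ => irr_central_char_integral χ x
  set T : ℂ := ∑ χ : Cfsg.IrrCharacter G,
    (if p ∣ Cfsg.charDegree (χ : G → ℂ) then
      ((m χ * (Cfsg.charDegree (χ : G → ℂ) / p) : ℕ) : ℂ) * ω χ else 0) with hT
  have hTint : IsIntegral ℤ T := by
    apply IsIntegral.sum
    intro χ _
    split_ifs
    · exact IsIntegral.mul (isIntegral_natCast _) (hωint χ)
    · exact isIntegral_zero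
  set S₁ : ℕ := ∑ χ : Cfsg.IrrCharacter G,
    (if p ∣ Cfsg.charDegree (χ : G → ℂ) then 0 else m χ * Cfsg.charDegree (χ : G → ℂ)) with hS₁
  set S₂ : ℕ := ∑ χ : Cfsg.IrrCharacter G,
    (if p ∣ Cfsg.charDegree (χ : G → ℂ) then m χ * Cfsg.charDegree (χ : G → ℂ) else 0) with hS₂
  have hsum : S₁ + S₂ = (P : Subgroup G).index := by
    rw [← h1, hS₁, hS₂, ← Finset.sum_add_distrib]
    refine Finset.sum_congr rfl fun χ _ => ?_
    split_ifs <;> simp [hm]
  have hS₂p : p ∣ S₂ := by
    apply Finset.dvd_sum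
    intro χ _
    split_ifs with h
    · exact Dvd.dvd.mul_left h _
    · exact dvd_zero p
  have hkey : ((c * S₁ : ℕ) : ℂ) + (p : ℂ) * T = 0 := by
    have h4 : (c : ℂ) * ∑ χ : Cfsg.IrrCharacter G, (m χ : ℂ) * (χ : G → ℂ) x = 0 := by
      rw [h3, mul_zero]
    rw [Finset.mul_sum] at h4
    rw [← h4, hS₁, hT, Finset.mul_sum]
    push_cast
    rw [Finset.mul_sum, ← Finset.sum_add_distrib]
    refine Finset.sum_congr rfl fun χ _ => ?_
    obtain ⟨hd1, hd0⟩ := charDegree_irr χ
    have hχ1 : (χ : G → ℂ) 1 ≠ 0 := by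
      rw [← hd1]
      exact_mod_cast hd0.ne'
    by_cases hd : p ∣ Cfsg.charDegree (χ : G → ℂ)
    · rw [if_pos hd, if_pos hd]
      obtain ⟨e, he⟩ := hd
      have he' : Cfsg.charDegree (χ : G → ℂ) / p = e := by
        rw [he, Nat.mul_div_cancel_left _ hp.out.pos]
      rw [he']
      have h5 : (χ : G → ℂ) 1 = (p : ℂ) * (e : ℂ) := by
        rw [← hd1, he]
        push_cast
        rfl
      simp only [hω]
      rw [h5]
      have hpe : (p : ℂ) * (e : ℂ) ≠ 0 := by
        rw [← h5]
        exact hχ1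
      obtain ⟨hp0, he0⟩ := mul_ne_zero_iff.mp hpe
      field_simp
      ring
    · rw [if_neg hd, if_neg hd, hx χ hd, ← hd1]
      ring
  have hdiv : IsIntegral ℤ (((c * S₁ : ℕ) : ℂ) / ((p : ℕ) : ℂ)) := by
    have h5 : ((c * S₁ : ℕ) : ℂ) / ((p : ℕ) : ℂ) = -T := by
      have hp0 : ((p : ℕ) : ℂ) ≠ 0 := by exact_mod_cast hp.out.ne_zero
      field_simp
      linear_combination hkey
    rw [h5]
    exact IsIntegral.neg hTint
  have hdvd : p ∣ c * S₁ := nat_dvd_of_isIntegral_div (c * S₁) p hp.out.ne_zero hdiv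
  have hS₁p : p ∣ S₁ := by
    rcases (Nat.Prime.dvd_mul hp.out).mp hdvd with h | h
    · exact absurd h hcp
    · exact h
  apply P.not_dvd_index
  rw [← hsum]
  exact dvd_add hS₁p hS₂p

end

section

/-- Sum of an invariant algebraic-integer valued function over a set on which a `p`-group acts:
congruent modulo `p` to the sum over the fixed points. -/
theorem kpd_orbit_sum {P X : Type*} [Group P] [Fintype P] [MulAction P X] [Fintype X]
    (p : ℕ) [hp : Fact p.Prime] (hP : IsPGroup p P) (f : X → ℂ)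
    (hint : ∀ x, IsIntegral ℤ (f x)) (hf : ∀ (a : P) (x : X), f (a • x) = f x)
    [DecidablePred (fun x : X => ∀ a : P, a • x = x)] :
    ∃ T : ℂ, IsIntegral ℤ T ∧ ∑ x : X, f x =
      (∑ x ∈ Finset.univ.filter (fun x : X => ∀ a : P, a • x = x), f x) + (p : ℂ) * T := by
  classical
  haveI : Fintype (Quotient (MulAction.orbitRel P X)) := Fintype.ofFinite _
  have hfix : ∀ (b : P) (x : X), (∀ a : P, a • x = x) ↔ (∀ a : P, a • (b • x) = b • x) := by
    intro b x
    constructor
    · intro h a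
      rw [h b, h a]
    · intro h a
      have h1 := h (b * a * b⁻¹)
      rw [← mul_smul, mul_assoc, inv_mul_cancel, mul_one, mul_smul] at h1
      exact smul_left_cancel b h1
  let g : X → ℂ := fun x => if (∀ a : P, a • x = x) then 0 else f x
  have hg : ∀ (a : P) (x : X), g (a • x) = g x := by
    intro a x
    simp only [g]
    by_cases h : ∀ c : P, c • x = x
    · rw [if_pos h, if_pos ((hfix a x).mp h)]
    · rw [if_neg h, if_neg (fun h' => h ((hfix a x).mpr h')), hf]
  let sz : Quotient (MulAction.orbitRel P X) → ℕ := fun ω =>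
    Nat.card P / Nat.card (MulAction.stabilizer P (Quotient.out ω))
  let T : ℂ := ∑ ω : Quotient (MulAction.orbitRel P X),
    (if (∀ c : P, c • (Quotient.out ω) = Quotient.out ω) then 0
      else ((sz ω / p : ℕ) : ℂ) * f (Quotient.out ω))
  have hTint : IsIntegral ℤ T := by
    apply IsIntegral.sum
    intro ω _
    split_ifs
    · exact isIntegral_zero
    · exact IsIntegral.mul (isIntegral_natCast _) (hint _)
  have h1 : ∑ x : X, g x = (p : ℂ) * T := by
    rw [h7_sum_eq_sum_orbits g hg, Finset.mul_sum]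
    apply Finset.sum_congr rfl
    intro ω _
    by_cases h : ∀ c : P, c • (Quotient.out ω) = Quotient.out ω
    · simp only [g]
      rw [if_pos h, if_pos h, smul_zero, mul_zero]
    · have hne : MulAction.stabilizer P (Quotient.out ω) ≠ ⊤ := by
        intro htop
        apply h
        intro c
        have : c ∈ MulAction.stabilizer P (Quotient.out ω) := by
          rw [htop]
          exact Subgroup.mem_top c
        exact this
      obtain ⟨n, hn⟩ := hP.index (MulAction.stabilizer P (Quotient.out ω))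
      have hidx : Nat.card P / Nat.card (MulAction.stabilizer P (Quotient.out ω)) =
          (MulAction.stabilizer P (Quotient.out ω)).index := by
        rw [← Subgroup.index_mul_card (MulAction.stabilizer P (Quotient.out ω)),
          Nat.mul_div_cancel _ Nat.card_pos]
      have hn0 : n ≠ 0 := by
        intro h0
        rw [h0, pow_zero] at hn
        exact hne (Subgroup.index_eq_one.mp hn)
      have hsz : sz ω = p * (sz ω / p) := by
        have h2 : sz ω = p ^ n := by
          simp only [sz]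
          rw [hidx, hn]
        have h3 : p ∣ sz ω := by
          rw [h2]
          exact dvd_pow_self p hn0
        exact (Nat.mul_div_cancel' h3).symm
      simp only [g]
      rw [if_neg h, if_neg h, nsmul_eq_mul]
      have h4 : ((Nat.card P / Nat.card (MulAction.stabilizer P (Quotient.out ω)) : ℕ) : ℂ) =
          (p : ℂ) * ((sz ω / p : ℕ) : ℂ) := by
        have : (Nat.card P / Nat.card (MulAction.stabilizer P (Quotient.out ω)) : ℕ) = sz ω := rfl
        rw [this]
        conv_lhs => rw [hsz]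
        push_cast
        rfl
      rw [h4]
      ring
  have h2 : ∀ x : X, f x = g x + (if (∀ a : P, a • x = x) then f x else 0) := by
    intro x
    simp only [g]
    by_cases h : ∀ c : P, c • x = x
    · rw [if_pos h, if_pos h, zero_add]
    · rw [if_neg h, if_neg h, add_zero]
  refine ⟨T, hTint, ?_⟩
  rw [Finset.sum_congr rfl (fun x _ => h2 x), Finset.sum_add_distrib, h1, Finset.sum_filter]
  ring

/-- A normal subgroup meeting the centralizer of a Sylow `p`-subgroup trivially lies in the kernel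
of every irreducible character of degree prime to `p`. -/
theorem kpd_normal_le_ker {G : Type*} [Group G] [Finite G] (p : ℕ) [hp : Fact p.Prime]
    (P : Sylow p G) (N : Subgroup G) [hNn : N.Normal]
    (hN : N ⊓ Subgroup.centralizer ((P : Subgroup G) : Set G) = ⊥)
    (χ : Cfsg.IrrCharacter G) (hχ : ¬ p ∣ Cfsg.charDegree (χ : G → ℂ)) (n : G) (hn : n ∈ N) :
    (χ : G → ℂ) n = (χ : G → ℂ) 1 := by
  classical
  haveI : Fintype G := Fintype.ofFinite _
  haveI : Fintype N := Fintype.ofFinite _
  haveI : Fintype (P : Subgroup G) := Fintype.ofFinite _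
  letI act : MulAction (P : Subgroup G) N :=
    MulAction.compHom N ((MulAut.conjNormal (H := N)).comp (P : Subgroup G).subtype)
  have hact : ∀ (a : (P : Subgroup G)) (m : N), ((a • m : N) : G) = (a : G) * m * (a : G)⁻¹ := by
    intro a m
    rfl
  have hcl := h7_irr_isClassFunction χ.2
  obtain ⟨T, hTint, hsum⟩ := kpd_orbit_sum p P.isPGroup' (fun m : N => (χ : G → ℂ) m)
    (fun m => irr_integral χ m)
    (fun a m => by
      show (χ : G → ℂ) ((a • m : N) : G) = (χ : G → ℂ) m
      rw [hact]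
      exact hcl _ _)
  have hfixed : Finset.univ.filter (fun m : N => ∀ a : (P : Subgroup G), a • m = m) = {1} := by
    ext m
    simp only [Finset.mem_filter, Finset.mem_univ, true_and, Finset.mem_singleton]
    constructor
    · intro h
      have h1 : (m : G) ∈ N ⊓ Subgroup.centralizer ((P : Subgroup G) : Set G) := by
        refine Subgroup.mem_inf.mpr ⟨m.2, Subgroup.mem_centralizer_iff.mpr ?_⟩
        intro y hy
        have h2 := congrArg Subtype.val (h ⟨y, hy⟩)
        rw [hact] at h2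
        simp only at h2
        calc y * (m : G) = y * m * y⁻¹ * y := by group
          _ = m * y := by rw [h2]
      rw [hN, Subgroup.mem_bot] at h1
      exact Subtype.ext h1
    · rintro rfl a
      apply Subtype.ext
      rw [hact]
      simp
  rw [hfixed, Finset.sum_singleton] at hsum
  have hne : ∑ m : N, (χ : G → ℂ) m ≠ 0 := by
    intro h0
    rw [h0] at hsum
    apply hχ
    obtain ⟨hd1, hd0⟩ := charDegree_irr χ
    apply nat_dvd_of_isIntegral_div _ p hp.out.ne_zero
    have h5 : ((Cfsg.charDegree (χ : G → ℂ) : ℕ) : ℂ) / ((p : ℕ) : ℂ) = -T := by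
      have hp0 : ((p : ℕ) : ℂ) ≠ 0 := by exact_mod_cast hp.out.ne_zero
      rw [hd1]
      field_simp
      have h6 : (χ : G → ℂ) ((1 : N) : G) = (χ : G → ℂ) 1 := rfl
      rw [h6] at hsum
      linear_combination -hsum
    rw [h5]
    exact IsIntegral.neg hTint
  have hcon : Cfsg.classInner (fun m : N => (χ : G → ℂ) m) (trivIrr N : N → ℂ) ≠ 0 := by
    unfold Cfsg.classInner
    have h1 : ∑ g : N, (χ : G → ℂ) g * conj ((trivIrr N : N → ℂ) g) = ∑ m : N, (χ : G → ℂ) m := by
      refine Finset.sum_congr rfl fun g _ => ?_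
      rw [trivIrr_apply, map_one, mul_one]
    rw [h1]
    apply mul_ne_zero _ hne
    apply inv_ne_zero
    exact_mod_cast (Nat.card_pos (α := N)).ne'
  have hinv : ∀ g : G, cj N (trivIrr N : N → ℂ) g = (trivIrr N : N → ℂ) := by
    intro g
    funext m
    rfl
  obtain ⟨e, he, _, hres⟩ := h7_clifford_invariant N (χ : G → ℂ) χ.2 (trivIrr N : N → ℂ)
    (trivIrr N).2 hcon hinv
  have h1 := congrFun hres ⟨n, hn⟩
  have h2 := congrFun hres 1
  simp only [Pi.smul_apply, trivIrr_apply, smul_eq_mul, mul_one] at h1 h2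
  rw [h1]
  exact h2.symm

end

section

/-- If the sum of an irreducible character over a normal subgroup is nonzero, then the normal
subgroup lies in the kernel of the character. -/
theorem kpd_ker_of_sum_ne_zero {G : Type*} [Group G] [Finite G] (N : Subgroup G) [hNn : N.Normal]
    [Fintype N] (χ : Cfsg.IrrCharacter G) (hne : ∑ m : N, (χ : G → ℂ) m ≠ 0)
    (n : G) (hn : n ∈ N) : (χ : G → ℂ) n = (χ : G → ℂ) 1 := by
  classical
  haveI : Fintype G := Fintype.ofFinite _
  have hcon : Cfsg.classInner (fun m : N => (χ : G → ℂ) m) (trivIrr N : N → ℂ) ≠ 0 := by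
    unfold Cfsg.classInner
    have h1 : ∑ g : N, (χ : G → ℂ) g * conj ((trivIrr N : N → ℂ) g) = ∑ m : N, (χ : G → ℂ) m := by
      refine Finset.sum_congr rfl fun g _ => ?_
      rw [trivIrr_apply, map_one, mul_one]
    rw [h1]
    apply mul_ne_zero _ hne
    apply inv_ne_zero
    exact_mod_cast (Nat.card_pos (α := N)).ne'
  have hinv : ∀ g : G, cj N (trivIrr N : N → ℂ) g = (trivIrr N : N → ℂ) := by
    intro g
    funext m
    rfl
  obtain ⟨e, he, _, hres⟩ := h7_clifford_invariant N (χ : G → ℂ) χ.2 (trivIrr N : N → ℂ)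
    (trivIrr N).2 hcon hinv
  have h1 := congrFun hres ⟨n, hn⟩
  have h2 := congrFun hres 1
  simp only [Pi.smul_apply, trivIrr_apply, smul_eq_mul, mul_one] at h1 h2
  rw [h1]
  exact h2.symm

/-- A character of degree prime to `p` restricted to a `p`-group has a linear constituent. -/
theorem kpd_linear_constituent {Q : Type*} [Group Q] [Fintype Q] (p : ℕ) [hp : Fact p.Prime]
    (hQ : IsPGroup p Q) (ψ : Q → ℂ) (hψ : Cfsg.IsCharacter Q ψ) (d : ℕ) (hd : ψ 1 = (d : ℂ))
    (hpd : ¬ p ∣ d) :
    ∃ μ : Cfsg.IrrCharacter Q, (μ : Q → ℂ) 1 = 1 ∧ Cfsg.classInner ψ (μ : Q → ℂ) ≠ 0 := by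
  classical
  haveI : Fintype (Cfsg.IrrCharacter Q) := Fintype.ofFinite _
  obtain ⟨m, hm, hexp⟩ := isCharacter_expansion hψ
  by_contra hcon
  push Not at hcon
  apply hpd
  have h1 : (d : ℂ) = ∑ μ : Cfsg.IrrCharacter Q, (m μ : ℂ) * (Cfsg.charDegree (μ : Q → ℂ) : ℂ) := by
    rw [← hd]
    have h2 := congrFun hexp 1
    rw [h2, Finset.sum_apply]
    refine Finset.sum_congr rfl fun μ _ => ?_
    rw [Pi.smul_apply, smul_eq_mul, (charDegree_irr μ).1]
  have h3 : d = ∑ μ : Cfsg.IrrCharacter Q, m μ * Cfsg.charDegree (μ : Q → ℂ) := by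
    exact_mod_cast h1
  rw [h3]
  apply Finset.dvd_sum
  intro μ _
  by_cases hmμ : m μ = 0
  · rw [hmμ, zero_mul]
    exact dvd_zero _
  · apply Dvd.dvd.mul_left
    obtain ⟨k, hk⟩ := hQ.exists_card_eq
    have hdvd := charDegree_dvd_card μ
    rw [hk] at hdvd
    obtain ⟨i, hi, hdeg⟩ := (Nat.dvd_prime_pow hp.out).mp hdvd
    rcases Nat.eq_zero_or_pos i with h0 | hpos
    · exfalso
      rw [h0, pow_zero] at hdeg
      have hμ1 : (μ : Q → ℂ) 1 = 1 := by
        rw [← (charDegree_irr μ).1, hdeg]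
        simp
      have h9 := hcon μ hμ1
      rw [hm μ] at h9
      exact hmμ (by exact_mod_cast h9)
    · rw [hdeg]
      exact dvd_pow_self p hpos.ne'

/-- A normal subgroup contained in the derived subgroup of a `p`-subgroup lies in the kernel of
every irreducible character of degree prime to `p`. -/
theorem kpd_commutator_le_ker {G : Type*} [Group G] [Finite G] (p : ℕ) [hp : Fact p.Prime]
    (Q : Subgroup G) (hQ : IsPGroup p Q) (J : Subgroup G) [hJn : J.Normal] (hJ : J ≤ ⁅Q, Q⁆)
    (χ : Cfsg.IrrCharacter G) (hχ : ¬ p ∣ Cfsg.charDegree (χ : G → ℂ)) (j : G) (hj : j ∈ J) :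
    (χ : G → ℂ) j = (χ : G → ℂ) 1 := by
  classical
  haveI : Fintype G := Fintype.ofFinite _
  haveI : Fintype Q := Fintype.ofFinite _
  haveI : Fintype J := Fintype.ofFinite _
  have hψ : Cfsg.IsCharacter Q (fun q : Q => (χ : G → ℂ) q) :=
    isCharacter_restrict (isCharacter_of_irr χ) Q
  obtain ⟨μ, hμ1, hμc⟩ := kpd_linear_constituent p hQ (fun q : Q => (χ : G → ℂ) q) hψ
    (Cfsg.charDegree (χ : G → ℂ)) ((charDegree_irr χ).1.symm) hχ
  obtain ⟨R, hR, hsplit⟩ := isCharacter_split hψ μ hμc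
  have hJQ : J ≤ Q := hJ.trans (Subgroup.commutator_le_self Q)
  have hcomm : ∀ x : J, (⟨(x : G), hJQ x.2⟩ : Q) ∈ commutator Q := by
    intro x
    have h1 : (x : G) ∈ (commutator Q).map Q.subtype := by
      rw [Subgroup.map_subtype_commutator]
      exact hJ x.2
    obtain ⟨y, hy, hyx⟩ := Subgroup.mem_map.mp h1
    have : y = ⟨(x : G), hJQ x.2⟩ := Subtype.ext hyx
    rw [← this]
    exact hy
  have hRJ : Cfsg.IsCharacter J (fun x : J => R (Subgroup.inclusion hJQ x)) :=
    isCharacter_comp_hom hR (Subgroup.inclusion hJQ)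
  obtain ⟨m', hm'⟩ := classInner_character_nat hRJ (isCharacter_of_irr (trivIrr J))
  have hsumR : ∑ x : J, R (Subgroup.inclusion hJQ x) = (Nat.card J : ℂ) * (m' : ℂ) := by
    rw [← hm']
    unfold Cfsg.classInner
    have hJ0 : (Nat.card J : ℂ) ≠ 0 := by exact_mod_cast (Nat.card_pos (α := J)).ne'
    rw [← mul_assoc, mul_inv_cancel₀ hJ0, one_mul]
    refine Finset.sum_congr rfl fun x _ => ?_
    rw [trivIrr_apply, map_one, mul_one]
  have hsum : ∑ x : J, (χ : G → ℂ) x = (Nat.card J : ℂ) * (1 + (m' : ℂ)) := by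
    have h1 : ∀ x : J, (χ : G → ℂ) x = 1 + R (Subgroup.inclusion hJQ x) := by
      intro x
      have h2 := congrFun hsplit (Subgroup.inclusion hJQ x)
      rw [Pi.add_apply] at h2
      have h3 : (μ : Q → ℂ) (Subgroup.inclusion hJQ x) = 1 :=
        irr_linear_commutator μ hμ1 (hcomm x)
      rw [h3] at h2
      exact h2
    rw [Finset.sum_congr rfl (fun x _ => h1 x), Finset.sum_add_distrib, hsumR]
    simp only [Finset.sum_const, Finset.card_univ, nsmul_eq_mul, mul_one]
    rw [Nat.card_eq_fintype_card]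
    ring
  apply kpd_ker_of_sum_ne_zero J χ _ j hj
  rw [hsum]
  apply mul_ne_zero
  · exact_mod_cast (Nat.card_pos (α := J)).ne'
  · have : ((1 + m' : ℕ) : ℂ) ≠ 0 := by
      exact_mod_cast (Nat.succ_ne_zero m' ∘ (by omega : 1 + m' = 0 → m'.succ = 0))
    exact_mod_cast this

end

section

/-- The intersection of the kernels of the irreducible characters of degree prime to `p`. -/
noncomputable def kpd_K (G : Type*) [Group G] (p : ℕ) : Subgroup G :=
  ⨅ χ : {χ : Cfsg.IrrCharacter G // ¬ p ∣ Cfsg.charDegree (χ : G → ℂ)}, irrKer χ.1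

instance kpd_K_normal (G : Type*) [Group G] (p : ℕ) : (kpd_K G p).Normal :=
  Subgroup.normal_iInf_normal (fun χ => irrKer_normal χ.1)

theorem mem_kpd_K {G : Type*} [Group G] [Finite G] (p : ℕ) (g : G) :
    g ∈ kpd_K G p ↔ ∀ χ : Cfsg.IrrCharacter G, ¬ p ∣ Cfsg.charDegree (χ : G → ℂ) →
      (χ : G → ℂ) g = (χ : G → ℂ) 1 := by
  unfold kpd_K
  rw [Subgroup.mem_iInf]
  constructor
  · intro h χ hχ
    exact (mem_irrKer χ g).1 (h ⟨χ, hχ⟩)
  · intro h χ
    exact (mem_irrKer χ.1 g).2 (h χ.1 χ.2)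

/-- The intersection of the kernels of the characters of `p'`-degree lies in `N P'`. -/
theorem kpd_K_le {G : Type*} [Group G] [Finite G] (p : ℕ) [hp : Fact p.Prime] (P : Sylow p G)
    (N : Subgroup G) [hNn : N.Normal]
    (hmax : ∀ L : Subgroup G, L.Normal →
      L ⊓ Subgroup.centralizer ((P : Subgroup G) : Set G) = ⊥ → L ≤ N) :
    kpd_K G p ≤ N ⊔ ⁅(P : Subgroup G), (P : Subgroup G)⁆ := by
  set K := kpd_K G p with hK
  have hKP : ∀ x : G, x ∈ K → ∀ hx : x ∈ (P : Subgroup G),
      (⟨x, hx⟩ : (P : Subgroup G)) ∈ commutator (P : Subgroup G) := by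
    intro x hxK hxP
    exact kpd_inter_le p P ⟨x, hxP⟩ ((mem_kpd_K p x).1 hxK)
  have h1 : K ⊓ (P : Subgroup G) ≤
      (frattini ↥(P : Subgroup G)).map (P : Subgroup G).subtype := by
    intro x hx
    exact ⟨⟨x, hx.2⟩, Cfsg.Agent.Lib.Helper1.pgroup_commutator_le_frattini P.isPGroup'
      (hKP x hx.1 hx.2), rfl⟩
  have h2 := Cfsg.Agent.Lib.Helper1.Tate.tate P K h1
  set O : Subgroup G := (Cfsg.pResidual p ↥K).map K.subtype with hO
  haveI hOn : O.Normal := ConjAct.normal_of_characteristic_of_normal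
  have hcard : Nat.card O = Nat.card ↥(Cfsg.pResidual p ↥K) :=
    Subgroup.card_map_of_injective K.subtype_injective
  have hOK : O ≤ K := Subgroup.map_subtype_le _
  have hOC : O ⊓ Subgroup.centralizer ((P : Subgroup G) : Set G) = ⊥ := by
    rw [eq_bot_iff]
    intro x hx
    rw [Subgroup.mem_bot]
    apply kpd_regular_central p P x hx.2 _ ((mem_kpd_K p x).1 (hOK hx.1))
    intro hdvd
    apply h2
    rw [← hcard]
    have h3 : orderOf x ∣ Nat.card O := by
      have h4 := orderOf_dvd_natCard (⟨x, hx.1⟩ : O)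
      rwa [Subgroup.orderOf_mk] at h4
    exact hdvd.trans h3
  have hON : O ≤ N := hmax O hOn hOC
  have hpow : ∀ k : G, k ∈ K → ∃ n : ℕ, k ^ (p ^ n) ∈ O := by
    intro k hk
    have hq := Cfsg.Agent.Lib.Helper1.quotient_pResidual_isPGroup (G := ↥K) p
    haveI := Cfsg.Agent.Lib.Helper1.pResidual_normal (G := ↥K) p
    obtain ⟨n, hn⟩ := hq (QuotientGroup.mk (⟨k, hk⟩ : K))
    refine ⟨n, ?_⟩
    rw [← QuotientGroup.mk_pow, QuotientGroup.eq_one_iff] at hn
    exact ⟨_, hn, rfl⟩
  have hπ : Function.Surjective (QuotientGroup.mk' O) := QuotientGroup.mk'_surjective O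
  haveI hKQn : (K.map (QuotientGroup.mk' O)).Normal :=
    Subgroup.Normal.map inferInstance (QuotientGroup.mk' O) hπ
  have hKQp : IsPGroup p (K.map (QuotientGroup.mk' O)) := by
    rintro ⟨y, hy⟩
    obtain ⟨k, hk, rfl⟩ := Subgroup.mem_map.mp hy
    obtain ⟨n, hn⟩ := hpow k hk
    refine ⟨n, ?_⟩
    apply Subtype.ext
    show (QuotientGroup.mk' O k) ^ (p ^ n) = 1
    rw [← map_pow]
    exact (QuotientGroup.eq_one_iff _).mpr hn
  have hle := hKQp.le_sylow_of_normal (P.mapSurjective hπ)
  have hsplit : K ≤ O ⊔ (K ⊓ (P : Subgroup G)) := by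
    intro k hk
    have h3 : QuotientGroup.mk' O k ∈ (P : Subgroup G).map (QuotientGroup.mk' O) :=
      hle (Subgroup.mem_map_of_mem _ hk)
    obtain ⟨x, hxP, hxk⟩ := Subgroup.mem_map.mp h3
    have h4 : x⁻¹ * k ∈ O := by
      rw [← QuotientGroup.eq]
      exact hxk
    have hxK : x ∈ K := by
      have h5 : x = k * (x⁻¹ * k)⁻¹ := by group
      rw [h5]
      exact K.mul_mem hk (K.inv_mem (hOK h4))
    have h6 : k = (x * (x⁻¹ * k)) := by group
    rw [h6]
    exact Subgroup.mul_mem _ (Subgroup.mem_sup_right ⟨hxK, hxP⟩) (Subgroup.mem_sup_left h4)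
  have hKPle : K ⊓ (P : Subgroup G) ≤ ⁅(P : Subgroup G), (P : Subgroup G)⁆ := by
    intro x hx
    rw [← Subgroup.map_subtype_commutator]
    exact ⟨⟨x, hx.2⟩, hKP x hx.1 hx.2, rfl⟩
  exact hsplit.trans (sup_le_sup hON hKPle)

/-- The normal core of `N P'` lies in the kernel of every character of `p'`-degree. -/
theorem kpd_core_le_ker {G : Type*} [Group G] [Finite G] (p : ℕ) [hp : Fact p.Prime]
    (P : Sylow p G) (N : Subgroup G) [hNn : N.Normal]
    (hN : N ⊓ Subgroup.centralizer ((P : Subgroup G) : Set G) = ⊥)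
    (χ : Cfsg.IrrCharacter G) (hχ : ¬ p ∣ Cfsg.charDegree (χ : G → ℂ)) (g : G)
    (hg : g ∈ (N ⊔ ⁅(P : Subgroup G), (P : Subgroup G)⁆).normalCore) :
    (χ : G → ℂ) g = (χ : G → ℂ) 1 := by
  have hNker := kpd_normal_le_ker p P N hN χ hχ
  obtain ⟨φ, hφ⟩ := h7_deflate N χ hNker
  have hπ : Function.Surjective (QuotientGroup.mk' N) := QuotientGroup.mk'_surjective N
  set J := (N ⊔ ⁅(P : Subgroup G), (P : Subgroup G)⁆).normalCore with hJ
  haveI : J.Normal := Subgroup.normalCore_normal _
  haveI : (J.map (QuotientGroup.mk' N)).Normal :=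
    Subgroup.Normal.map inferInstance (QuotientGroup.mk' N) hπ
  have hQ : IsPGroup p ((P : Subgroup G).map (QuotientGroup.mk' N)) :=
    P.isPGroup'.map (QuotientGroup.mk' N)
  have hJle : J.map (QuotientGroup.mk' N) ≤
      ⁅(P : Subgroup G).map (QuotientGroup.mk' N), (P : Subgroup G).map (QuotientGroup.mk' N)⁆ := by
    rw [← Subgroup.map_commutator]
    have h1 : J.map (QuotientGroup.mk' N) ≤
        (N ⊔ ⁅(P : Subgroup G), (P : Subgroup G)⁆).map (QuotientGroup.mk' N) :=
      Subgroup.map_mono (Subgroup.normalCore_le _)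
    rw [Subgroup.map_sup] at h1
    have h2 : N.map (QuotientGroup.mk' N) = ⊥ := by
      rw [Subgroup.map_eq_bot_iff, QuotientGroup.ker_mk']
    rw [h2, bot_sup_eq] at h1
    exact h1
  have h7 : (φ : G ⧸ N → ℂ) 1 = (χ : G → ℂ) 1 := hφ 1
  have hdeg : Cfsg.charDegree (φ : G ⧸ N → ℂ) = Cfsg.charDegree (χ : G → ℂ) := by
    have h1 := (charDegree_irr φ).1
    have h2 := (charDegree_irr χ).1
    exact_mod_cast (h1.trans (h7.trans h2.symm))
  have h5 := kpd_commutator_le_ker p ((P : Subgroup G).map (QuotientGroup.mk' N)) hQ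
    (J.map (QuotientGroup.mk' N)) hJle φ (by rw [hdeg]; exact hχ) (QuotientGroup.mk' N g)
    (Subgroup.mem_map_of_mem _ hg)
  have h6 : (φ : G ⧸ N → ℂ) (QuotientGroup.mk' N g) = (χ : G → ℂ) g := hφ g
  rw [← h6, ← h7]
  exact h5

/-- The intersection of the kernels of the irreducible characters of degree prime to `p` is the
normal core of `N P'`, where `N` is the largest normal subgroup in which a Sylow `p`-subgroup
`P` has trivial centralizer. -/
theorem kpd_main {G : Type*} [Group G] [Finite G] (p : ℕ) [hp : Fact p.Prime] (P : Sylow p G)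
    (N : Subgroup G) [hNn : N.Normal]
    (hN : N ⊓ Subgroup.centralizer ((P : Subgroup G) : Set G) = ⊥)
    (hmax : ∀ L : Subgroup G, L.Normal →
      L ⊓ Subgroup.centralizer ((P : Subgroup G) : Set G) = ⊥ → L ≤ N) :
    {g : G | ∀ χ : Cfsg.IrrCharacter G, ¬ p ∣ Cfsg.charDegree (χ : G → ℂ) →
      (χ : G → ℂ) g = (χ : G → ℂ) 1} =
      ((N ⊔ ⁅(P : Subgroup G), (P : Subgroup G)⁆).normalCore : Set G) := by
  ext g
  rw [Set.mem_ofPred_eq, ← mem_kpd_K p g]
  constructor
  · intro hg
    exact Subgroup.normal_le_normalCore.mpr (kpd_K_le p P N hmax) hg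
  · intro hg
    rw [mem_kpd_K]
    intro χ hχ
    exact kpd_core_le_ker p P N hN χ hχ g hg

end

end Cfsg.Agent.Lib.Helper25
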