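import Mathlib
import Cfsg.Prelude.Def_Characters
import Cfsg.Prelude.Def_Blocks
import Cfsg.Agent.Lib.Helper25.CliffordCorr
import Cfsg.Agent.Lib.Helper25.CosetVanish
import Cfsg.Agent.Lib.Helper25.CharLinear
import Cfsg.Agent.Lib.Helper25.CharAbelian
import Cfsg.Agent.Lib.Helper11.AbelianQuot
import Cfsg.Agent.Lib.helper7.CharMul
import Cfsg.Agent.Lib.Helper1.MinNormal

/-!
Number of linear characters bounded via a character of a nonabelian minimal normal subgroup
extending to its stabilizer (S4870).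
-/

set_option autoImplicit false

namespace Cfsg.Agent.Lib.Helper25
open Cfsg.Agent.Lib.helper7 Cfsg.Agent.Lib.Helper11 Cfsg.Agent.Lib.helper2
open scoped ComplexConjugate

variable {G : Type*} [Group G]

/-- a nonabelian minimal normal subgroup lies in the commutator subgroup -/
theorem lb_le_commutator (N : Subgroup G) [hN : N.Normal]
    (hmin : ∀ M : Subgroup G, M.Normal → M ≤ N → M = ⊥ ∨ M = N)
    (hna : ¬ IsMulCommutative ↥N) : N ≤ commutator G := by
  have h1 : (⁅N, N⁆ : Subgroup G).Normal := Subgroup.commutator_normal N N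
  have h2 : ⁅N, N⁆ ≤ N := Subgroup.commutator_le_right N N
  rcases hmin _ h1 h2 with h | h
  · exact absurd (Cfsg.Agent.Lib.Helper1.isMulCommutative_of_commutator_eq_bot N h) hna
  · rw [commutator_def, ← h]
    exact Subgroup.commutator_mono le_top le_top

theorem lb_degree_one {χ : Cfsg.IrrCharacter G} (h : Cfsg.charDegree (χ : G → ℂ) = 1) :
    (χ : G → ℂ) 1 = 1 := by
  have := (charDegree_irr χ).1
  rw [h] at this
  simpa using this.symm

/-- fibre bound: linear characters with prescribed restriction to `I` -/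
theorem lb_fiber [Fintype G] [Fintype (Cfsg.IrrCharacter G)] [DecidableEq (Cfsg.IrrCharacter G)]
    (I : Subgroup G) [Fintype I]
    (lam : Cfsg.IrrCharacter G) (hlam : (lam : G → ℂ) 1 = 1)
    (S : Finset (Cfsg.IrrCharacter G))
    (hS : ∀ μ ∈ S, (μ : G → ℂ) 1 = 1 ∧ ∀ x : I, (μ : G → ℂ) x = (lam : G → ℂ) x) :
    S.card ≤ I.index := by
  classical
  let lamI : Cfsg.IrrCharacter I := linIrr ((irrLinearHom lam hlam).comp I.subtype)
  have hlamI : ∀ x : I, (lamI : I → ℂ) x = (lam : G → ℂ) x := fun x => rfl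
  have hΨ : Cfsg.IsCharacter G (Cfsg.indFun I (lamI : I → ℂ)) :=
    isCharacter_indFun I _ (h7_irr_isCharacter lamI.2)
  obtain ⟨m, hm, hexp⟩ := isCharacter_expansion hΨ
  have h1 := congrFun hexp 1
  rw [h7_indFun_one, hlamI, Subgroup.coe_one, hlam, mul_one] at h1
  simp only [Finset.sum_apply, Pi.smul_apply, smul_eq_mul] at h1
  have h2 : I.index = ∑ χ : Cfsg.IrrCharacter G, m χ * Cfsg.charDegree (χ : G → ℂ) := by
    have : ((I.index : ℕ) : ℂ) =
        ((∑ χ : Cfsg.IrrCharacter G, m χ * Cfsg.charDegree (χ : G → ℂ) : ℕ) : ℂ) := by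
      rw [h1]
      push_cast
      refine Finset.sum_congr rfl fun χ _ => ?_
      rw [(charDegree_irr χ).1]
    exact_mod_cast this
  rw [h2]
  have h3 : ∀ μ ∈ S, m μ * Cfsg.charDegree (μ : G → ℂ) = 1 := by
    intro μ hμ
    obtain ⟨hμ1, hμI⟩ := hS μ hμ
    have hd : Cfsg.charDegree (μ : G → ℂ) = 1 := by
      have := (charDegree_irr μ).1
      rw [hμ1] at this
      exact_mod_cast this
    have hmμ : m μ = 1 := by
      have hfr := h7_frobenius_reciprocity I (lamI : I → ℂ) (μ : G → ℂ)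
        (h7_irr_isClassFunction μ.2)
      rw [hm μ] at hfr
      have : (fun x : I => (μ : G → ℂ) x) = (lamI : I → ℂ) := by
        funext x
        rw [hμI x, hlamI]
      rw [this, h7_irr_norm lamI.2] at hfr
      exact_mod_cast hfr
    rw [hd, hmμ]
  calc S.card = ∑ μ ∈ S, 1 := by simp
    _ = ∑ μ ∈ S, m μ * Cfsg.charDegree (μ : G → ℂ) := by
        refine Finset.sum_congr rfl fun μ hμ => (h3 μ hμ).symm
    _ ≤ ∑ χ : Cfsg.IrrCharacter G, m χ * Cfsg.charDegree (χ : G → ℂ) :=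
        Finset.sum_le_sum_of_subset (Finset.subset_univ S)

/-- an extension of an irreducible character determines the linear twist -/
theorem lb_twist_inj [Fintype G] (N I : Subgroup G) [hN : N.Normal] (hNI : N ≤ I)
    (φ : Cfsg.IrrCharacter N) (ψ : Cfsg.IrrCharacter I)
    (hψ : ∀ n : N, (ψ : I → ℂ) (Subgroup.inclusion hNI n) = (φ : N → ℂ) n)
    (lam mu : Cfsg.IrrCharacter G) (hlam : (lam : G → ℂ) 1 = 1) (hmu : (mu : G → ℂ) 1 = 1)
    (hlamN : ∀ n ∈ N, (lam : G → ℂ) n = 1) (hmuN : ∀ n ∈ N, (mu : G → ℂ) n = 1)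
    (heq : ∀ x : I, (lam : G → ℂ) x * (ψ : I → ℂ) x = (mu : G → ℂ) x * (ψ : I → ℂ) x) :
    ∀ x : I, (mu : G → ℂ) x = (lam : G → ℂ) x := by
  classical
  by_contra hcon
  push Not at hcon
  obtain ⟨x, hx⟩ := hcon
  haveI : (N.subgroupOf I).Normal := Subgroup.normal_subgroupOf
  have hvan : ∀ n : N.subgroupOf I, (ψ : I → ℂ) ((n : I) * x) = 0 := by
    intro n
    have hnN : ((n : I) : G) ∈ N := n.2
    have h1 := heq ((n : I) * x)
    rw [Subgroup.coe_mul, irr_linear_mul lam hlam, irr_linear_mul mu hmu, hlamN _ hnN,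
      hmuN _ hnN, one_mul, one_mul] at h1
    have h2 : ((lam : G → ℂ) x - (mu : G → ℂ) x) * (ψ : I → ℂ) ((n : I) * x) = 0 := by
      rw [sub_mul, h1, sub_self]
    rcases mul_eq_zero.mp h2 with h | h
    · exact absurd (sub_eq_zero.mp h).symm hx
    · exact h
  apply csv_reducible_of_vanish (N.subgroupOf I) ψ x hvan
  let e : N.subgroupOf I ≃* N := Subgroup.subgroupOfEquivOfLe hNI
  have : (fun n : N.subgroupOf I => (ψ : I → ℂ) n) = fun n => (φ : N → ℂ) (e n) := by
    funext n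
    rw [← hψ]
    congr 1
  rw [this]
  exact h7_isIrr_comp_equiv e _ φ.2

theorem lb_main [Finite G] (N : Subgroup G) (hN : N.Normal)
    (hmin : ∀ M : Subgroup G, M.Normal → M ≤ N → M = ⊥ ∨ M = N) (hna : ¬ IsMulCommutative ↥N)
    (φ : Cfsg.IrrCharacter ↥N) (I : Subgroup G)
    (hI : ∀ g : G, g ∈ I ↔ ∀ n n' : ↥N, (n' : G) = g * (n : G) * g⁻¹ →
      (φ : ↥N → ℂ) n' = (φ : ↥N → ℂ) n) (hNI : N ≤ I)
    (hext : ∃ ψ : Cfsg.IrrCharacter ↥I, ∀ n : ↥N,
      (ψ : ↥I → ℂ) (Subgroup.inclusion hNI n) = (φ : ↥N → ℂ) n) :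
    Nat.card {χ : Cfsg.IrrCharacter G // Cfsg.charDegree (χ : G → ℂ) = 1} ≤
      I.index * Nat.card {χ : Cfsg.IrrCharacter G //
        Cfsg.charDegree (χ : G → ℂ) = Cfsg.charDegree (φ : ↥N → ℂ) * I.index} := by
  classical
  haveI := hN
  haveI := Fintype.ofFinite G
  haveI : Fintype N := Fintype.ofFinite _
  haveI : Fintype I := Fintype.ofFinite _
  haveI : Fintype (Cfsg.IrrCharacter G) := Fintype.ofFinite _
  obtain ⟨ψ, hψ⟩ := hext
  have hNc := lb_le_commutator N hmin hna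
  have hlinN : ∀ lam : Cfsg.IrrCharacter G, (lam : G → ℂ) 1 = 1 → ∀ n ∈ N,
      (lam : G → ℂ) n = 1 := fun lam h n hn => irr_linear_commutator lam h (hNc hn)
  -- the twisted extensions
  let tw : ∀ lam : Cfsg.IrrCharacter G, (lam : G → ℂ) 1 = 1 → Cfsg.IrrCharacter I :=
    fun lam h => ⟨fun x => (lam : G → ℂ) x * (ψ : I → ℂ) x,
      isIrr_linChar_mul ((irrLinearHom lam h).comp I.subtype) _ ψ.2⟩
  have htwN : ∀ (lam : Cfsg.IrrCharacter G) (h : (lam : G → ℂ) 1 = 1),
      (fun n : N => (tw lam h : I → ℂ) ⟨(n : G), hNI n.2⟩) = (φ : N → ℂ) := by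
    intro lam h
    funext n
    show (lam : G → ℂ) n * (ψ : I → ℂ) ⟨(n : G), hNI n.2⟩ = _
    rw [hlinN lam h n n.2, one_mul, ← hψ]
    rfl
  have htwover : ∀ (lam : Cfsg.IrrCharacter G) (h : (lam : G → ℂ) 1 = 1),
      Cfsg.classInner (fun n : N => (tw lam h : I → ℂ) ⟨(n : G), hNI n.2⟩) (φ : N → ℂ) ≠ 0 := by
    intro lam h
    rw [htwN lam h, h7_irr_norm φ.2]
    exact one_ne_zero
  have hψ1 : (ψ : I → ℂ) 1 = (φ : N → ℂ) 1 := by
    rw [← hψ]; rfl
  -- the map
  let F : {χ : Cfsg.IrrCharacter G // Cfsg.charDegree (χ : G → ℂ) = 1} →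
      {χ : Cfsg.IrrCharacter G //
        Cfsg.charDegree (χ : G → ℂ) = Cfsg.charDegree (φ : ↥N → ℂ) * I.index} := fun lam =>
    ⟨⟨Cfsg.indFun I (tw lam.1 (lb_degree_one lam.2) : I → ℂ),
      (cc_ind_irr N I hNI φ hI _ (htwover lam.1 (lb_degree_one lam.2))).1⟩, by
      show Cfsg.charDegree (Cfsg.indFun I (tw lam.1 (lb_degree_one lam.2) : I → ℂ)) = _
      have hval : Cfsg.indFun I (tw lam.1 (lb_degree_one lam.2) : I → ℂ) 1 =
          ((Cfsg.charDegree (φ : N → ℂ) * I.index : ℕ) : ℂ) := by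
        rw [h7_indFun_one]
        show (I.index : ℂ) * ((lam.1 : G → ℂ) ((1 : I) : G) * (ψ : I → ℂ) 1) = _
        rw [Subgroup.coe_one, lb_degree_one lam.2, one_mul, hψ1, ← (charDegree_irr φ).1]
        push_cast
        ring
      unfold Cfsg.charDegree at hval ⊢
      rw [hval, Complex.natCast_re, Nat.floor_natCast]⟩
  have hF : ∀ lam mu, F lam = F mu → ∀ x : I, (mu.1 : G → ℂ) x = (lam.1 : G → ℂ) x := by
    intro lam mu h
    have h1 : Cfsg.indFun I (tw lam.1 (lb_degree_one lam.2) : I → ℂ) =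
        Cfsg.indFun I (tw mu.1 (lb_degree_one mu.2) : I → ℂ) := by
      have := congrArg (fun z => (z.1 : G → ℂ)) h
      exact this
    have h2 := cc_ind_inj N I hNI φ hI _ _ (htwover lam.1 (lb_degree_one lam.2))
      (htwover mu.1 (lb_degree_one mu.2)) h1
    have h3 : ∀ x : I, (lam.1 : G → ℂ) x * (ψ : I → ℂ) x = (mu.1 : G → ℂ) x * (ψ : I → ℂ) x := by
      intro x
      exact congrFun (congrArg Subtype.val h2) x
    exact lb_twist_inj N I hNI φ ψ hψ lam.1 mu.1 (lb_degree_one lam.2) (lb_degree_one mu.2)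
      (hlinN lam.1 (lb_degree_one lam.2)) (hlinN mu.1 (lb_degree_one mu.2)) h3
  -- counting
  rw [Nat.card_eq_fintype_card, Nat.card_eq_fintype_card]
  have hcount := Finset.card_le_mul_card_image (f := F) Finset.univ I.index (by
    intro b hb
    obtain ⟨lam, -, rfl⟩ := Finset.mem_image.mp hb
    have hle := lb_fiber I lam.1 (lb_degree_one lam.2)
      ((Finset.univ.filter fun x => F x = F lam).image Subtype.val) (by
        intro μ hμ
        obtain ⟨mu, hmu, rfl⟩ := Finset.mem_image.mp hμ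
        have hFm := (Finset.mem_filter.mp hmu).2
        exact ⟨lb_degree_one mu.2, hF lam mu hFm.symm⟩)
    rw [Finset.card_image_of_injective _ Subtype.val_injective] at hle
    exact hle)
  calc Fintype.card {χ : Cfsg.IrrCharacter G // Cfsg.charDegree (χ : G → ℂ) = 1}
      = (Finset.univ : Finset {χ : Cfsg.IrrCharacter G //
          Cfsg.charDegree (χ : G → ℂ) = 1}).card := rfl
    _ ≤ I.index * (Finset.univ.image F).card := hcount
    _ ≤ I.index * Fintype.card {χ : Cfsg.IrrCharacter G //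
        Cfsg.charDegree (χ : G → ℂ) = Cfsg.charDegree (φ : ↥N → ℂ) * I.index} :=
        Nat.mul_le_mul_left _ (Finset.card_le_univ _)

end Cfsg.Agent.Lib.Helper25
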