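import Mathlib
import Cfsg.Agent.Lib.helper2.MI2.Defs

/-!
# Project MI2 (S2142, designer helper2), row T3 `exists_stab_act` — VERBATIM (helper25)
-/

set_option autoImplicit false
set_option linter.unusedVariables false
set_option linter.unusedSectionVars false

namespace Cfsg.Agent.Lib.helper2.MI2

open Matrix

variable {m : ℕ}

/-- `x + (x + y) = y` over `ZMod 2` -/
theorem mi2t3_add_add (x y : V m) : x + (x + y) = y := by
  rw [← add_assoc, v_add_self, zero_add]

/-- **T3** [M] The stabiliser of `v` is transitive on `v^⊥ ∖ {0, v}`. -/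
theorem exists_stab_act
    (hz : ∀ v x y : V m, v ≠ 0 → x ≠ 0 → y ≠ 0 → x ≠ v → y ≠ v → y ≠ x → y ≠ v + x →
      ∃ z : V m, ff v z = 0 ∧ ff x z = 1 ∧ ff y z = 1)
    (hz2 : ∀ v x : V m, v ≠ 0 → x ≠ 0 → x ≠ v → ∃ z : V m, ff v z = 0 ∧ ff x z = 1)
    {v x y : V m} (hv : v ≠ 0) (hx0 : x ≠ 0) (hxv : x ≠ v) (hx : ff v x = 0)
    (hy0 : y ≠ 0) (hyv : y ≠ v) (hy : ff v y = 0) :
    ∃ g : G m, act g v = v ∧ act g x = y := by
  rcases z2_cases (ff x y) with h0 | h1
  · by_cases hyx : y = x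
    · exact ⟨1, act_one v, by rw [act_one, hyx]⟩
    by_cases hyvx : y = v + x
    · obtain ⟨z, hvz, hxz⟩ := hz2 v x hv hx0 hxv
      refine ⟨qe v z 0, act_qe_self hvz 0, ?_⟩
      rw [act_qe_of_perp hvz 0 hx, hxz, one_smul, hyvx, add_comm]
    · obtain ⟨z, hvz, hxz, hyz⟩ := hz v x y hv hx0 hy0 hxv hyv hyx hyvx
      have a1 : act (tv (x + z)) v = v := by
        rw [act_tv, ff_add_right, hx, hvz, add_zero, zero_smul, add_zero]
      have a2 : act (tv (z + y)) v = v := by
        rw [act_tv, ff_add_right, hvz, hy, add_zero, zero_smul, add_zero]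
      have a3 : act (tv (x + z)) x = z := by
        rw [act_tv, ff_add_right, ff_self, hxz, zero_add, one_smul, mi2t3_add_add]
      have a4 : act (tv (z + y)) z = y := by
        rw [act_tv, ff_add_right, ff_self, ff_comm z y, hyz, zero_add, one_smul, mi2t3_add_add]
      exact ⟨tv (z + y) * tv (x + z), by rw [act_mul, a1, a2], by rw [act_mul, a3, a4]⟩
  · refine ⟨tv (x + y), ?_, ?_⟩
    · rw [act_tv, ff_add_right, hx, hy, add_zero, zero_smul, add_zero]
    · rw [act_tv, ff_add_right, ff_self, h1, zero_add, one_smul, mi2t3_add_add]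

end Cfsg.Agent.Lib.helper2.MI2
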