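import Mathlib
import Cfsg.Prelude.Def_Characters
import Cfsg.Agent.Lib.Helper25.CharOrth
import Cfsg.Agent.Lib.Helper25.CharLinear
import Cfsg.Agent.Lib.Helper25.CharAbelian
import Cfsg.Agent.Lib.Helper25.ExtraspecialUnique
import Cfsg.Agent.Lib.Helper25.DefectZeroCount
import Cfsg.Agent.Lib.Helper25.CharNormal
import Cfsg.Agent.Lib.helper2.CharNat
import Cfsg.Agent.Lib.helper7.CharMul
import Cfsg.Agent.Lib.Helper1.FrobeniusThm
import Cfsg.Agent.Lib.Helper24.GaloisNorm

/-!
Characters multiplicative on pairs of nontrivial elements of coprime prime power orders (S4756): structure theorem. Prefix mcp_.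
-/

set_option autoImplicit false

namespace Cfsg.Agent.Lib.Helper25
open scoped commutatorElement
open Cfsg.Agent.Lib.helper2
open Cfsg.Agent.Lib.helper7
open Cfsg.Agent.Lib.Helper1
open scoped ComplexConjugate
open scoped ComplexConjugate commutatorElement Pointwise
open Cfsg.Agent.Lib.Helper24
open scoped ComplexConjugate commutatorElement
section

/-- core: a finite commutative group acting on a nontrivial abelian group `V` of `p`-power
exponent, `p ∤ |A|`, without fixed points, is cyclic -/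
theorem mcp_cyclic_core {A : Type*} [CommGroup A] [Finite A] {V : Type*} [AddCommGroup V]
    [Nontrivial V] (ρ : A →* Module.End ℤ V) (p k : ℕ) (hV : ∀ v : V, (p ^ k : ℤ) • v = 0)
    (hA : (Nat.card A).Coprime p)
    (hfpf : ∀ a : A, a ≠ 1 → ∀ v : V, ρ a v = v → v = 0) : IsCyclic A := by
  classical
  set Φ : MonoidAlgebra ℤ A →ₐ[ℤ] Module.End ℤ V :=
    MonoidAlgebra.lift ℤ (Module.End ℤ V) A ρ with hΦ
  have hΦof : ∀ a : A, Φ (MonoidAlgebra.of ℤ A a) = ρ a := fun a => by
    rw [hΦ, MonoidAlgebra.lift_of]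
  set I : Ideal (MonoidAlgebra ℤ A) := RingHom.ker (Φ : MonoidAlgebra ℤ A →+* Module.End ℤ V)
    with hIdef
  have hI : I ≠ ⊤ := by
    intro h
    have h1 : (1 : MonoidAlgebra ℤ A) ∈ I := by rw [h]; trivial
    rw [hIdef, RingHom.mem_ker] at h1
    have h2 : Φ 1 = 0 := h1
    rw [map_one] at h2
    exact one_ne_zero h2
  obtain ⟨m, hm, hIm⟩ := Ideal.exists_le_maximal I hI
  haveI := hm
  letI : Field (MonoidAlgebra ℤ A ⧸ m) := Ideal.Quotient.field m
  let f : A →* (MonoidAlgebra ℤ A ⧸ m) :=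
    ((Ideal.Quotient.mk m : MonoidAlgebra ℤ A →+* MonoidAlgebra ℤ A ⧸ m) : MonoidAlgebra ℤ A →* _).comp
      (MonoidAlgebra.of ℤ A)
  apply isCyclic_of_subgroup_isDomain f
  rw [injective_iff_map_eq_one]
  intro a ha
  by_contra ha1
  have hfa : (Ideal.Quotient.mk m) (MonoidAlgebra.of ℤ A a) = 1 := ha
  -- the norm element is in I
  have h1 : ∑ i ∈ Finset.range (orderOf a), (MonoidAlgebra.of ℤ A a) ^ i ∈ I := by
    rw [hIdef, RingHom.mem_ker]
    change Φ _ = 0
    rw [map_sum]
    simp only [map_pow, hΦof]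
    have hpow : ρ a ^ orderOf a = 1 := by rw [← map_pow, pow_orderOf_eq_one, map_one]
    have hg := mul_geom_sum (ρ a) (orderOf a)
    rw [hpow, sub_self, sub_mul, one_mul, sub_eq_zero] at hg
    apply LinearMap.ext
    intro v
    rw [LinearMap.zero_apply]
    apply hfpf a ha1
    have := congrArg (fun T : Module.End ℤ V => T v) hg
    simpa using this
  have h2 := Ideal.Quotient.eq_zero_iff_mem.mpr (hIm h1)
  rw [map_sum] at h2
  simp only [map_pow, hfa, one_pow, Finset.sum_const, Finset.card_range, nsmul_eq_mul,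
    mul_one] at h2
  -- p is zero in the quotient
  have h3 : ((p : MonoidAlgebra ℤ A) ^ k) ∈ I := by
    rw [hIdef, RingHom.mem_ker]
    change Φ _ = 0
    rw [map_pow, map_natCast]
    apply LinearMap.ext
    intro v
    have := hV v
    rw [LinearMap.zero_apply]
    rw [← this, ← Nat.cast_pow, Module.End.natCast_apply, ← Nat.cast_pow, natCast_zsmul]
  have h4 : ((p : MonoidAlgebra ℤ A ⧸ m)) = 0 := by
    have := Ideal.Quotient.eq_zero_iff_mem.mpr (hIm h3)
    rw [map_pow, map_natCast] at this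
    exact eq_zero_of_pow_eq_zero this
  have hcop : (orderOf a).Coprime p := Nat.Coprime.of_dvd_left (orderOf_dvd_natCard a) hA
  obtain ⟨u, v, huv⟩ := Nat.isCoprime_iff_coprime.mpr hcop
  have h5 := congrArg (fun z : ℤ => (z : MonoidAlgebra ℤ A ⧸ m)) huv
  simp only [Int.cast_add, Int.cast_mul, Int.cast_natCast, Int.cast_one] at h5
  rw [h2, h4, mul_zero, mul_zero, add_zero] at h5
  exact one_ne_zero h5.symm

end

section

/-- a commutative `p'`-subgroup acting by conjugation without fixed points on a nontrivial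
commutative normal `p`-subgroup is cyclic -/
theorem mcp_cyclic_of_fpf {G : Type*} [Group G] [Finite G] (p : ℕ) [Fact p.Prime] (A N : Subgroup G)
    [hN : N.Normal] (hNc : ∀ x ∈ N, ∀ y ∈ N, x * y = y * x) (hN1 : N ≠ ⊥) (hNp : IsPGroup p N)
    (hAc : ∀ x ∈ A, ∀ y ∈ A, x * y = y * x) (hA : (Nat.card A).Coprime p)
    (hfpf : ∀ a ∈ A, a ≠ 1 → ∀ n ∈ N, a * n = n * a → n = 1) : IsCyclic A := by
  letI iA : CommGroup A :=
    { (inferInstance : Group A) with mul_comm := fun x y => Subtype.ext (hAc x x.2 y y.2) }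
  letI iN : CommGroup N :=
    { (inferInstance : Group N) with mul_comm := fun x y => Subtype.ext (hNc x x.2 y y.2) }
  haveI : Nontrivial N := (Subgroup.nontrivial_iff_ne_bot N).mpr hN1
  haveI : Nontrivial (Additive N) := inferInstance
  obtain ⟨k, hk⟩ := (IsPGroup.iff_card).mp hNp
  let ρ : A →* Module.End ℤ (Additive N) :=
    { toFun := fun a => (MonoidHom.toAdditive
        ((MulAut.conjNormal (a : G) : MulAut N).toMonoidHom)).toIntLinearMap
      map_one' := by
        apply LinearMap.ext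
        intro v
        change Additive.ofMul ((MulAut.conjNormal ((1 : A) : G) : MulAut N) (Additive.toMul v)) = v
        rw [Subgroup.coe_one, map_one, MulAut.one_apply]
        rfl
      map_mul' := by
        intro a b
        apply LinearMap.ext
        intro v
        change Additive.ofMul ((MulAut.conjNormal ((a * b : A) : G) : MulAut N) (Additive.toMul v)) =
          Additive.ofMul ((MulAut.conjNormal (a : G) : MulAut N)
            ((MulAut.conjNormal (b : G) : MulAut N) (Additive.toMul v)))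
        rw [Subgroup.coe_mul, map_mul, MulAut.mul_apply] }
  have hρ : ∀ (a : A) (n : N), ρ a (Additive.ofMul n) =
      Additive.ofMul ((MulAut.conjNormal (a : G) : MulAut N) n) := fun a n => rfl
  have key := mcp_cyclic_core (A := A) (V := Additive N) ρ p k ?_ hA ?_
  · exact key
  · intro v
    have h1 : (Additive.toMul v) ^ (p ^ k) = 1 := by
      rw [← hk]
      exact pow_card_eq_one'
    have h2 : (p ^ k : ℕ) • v = 0 := by
      change Additive.ofMul ((Additive.toMul v) ^ (p ^ k)) = 0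
      rw [h1]; rfl
    rw [← Nat.cast_pow, natCast_zsmul]
    exact h2
  · intro a ha v hv
    have h1 := hρ a (Additive.toMul v)
    have h2 : (MulAut.conjNormal (a : G) : MulAut N) (Additive.toMul v) = Additive.toMul v := by
      have : ρ a v = v := hv
      rw [show v = Additive.ofMul (Additive.toMul v) from rfl, h1] at this
      exact Additive.ofMul.injective this
    have h3 := congrArg (fun n : N => (n : G)) h2
    simp only [MulAut.conjNormal_apply] at h3
    have h4 : (a : G) * ((Additive.toMul v : N) : G) = ((Additive.toMul v : N) : G) * (a : G) := by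
      calc (a : G) * ((Additive.toMul v : N) : G)
          = ((a : G) * ((Additive.toMul v : N) : G) * (a : G)⁻¹) * (a : G) := by group
        _ = ((Additive.toMul v : N) : G) * (a : G) := by rw [h3]
    have ha1 : (a : G) ≠ 1 := fun h => ha (Subtype.ext h)
    have h5 := hfpf a a.2 ha1 _ (Additive.toMul v : N).2 h4
    have h6 : (Additive.toMul v : N) = 1 := Subtype.ext h5
    change Additive.ofMul (Additive.toMul v) = 0
    rw [h6]; rfl

end

section

variable {G : Type*} [Group G]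

theorem mcp_orderOf_conj (g x : G) : orderOf (g * x * g⁻¹) = orderOf x := by
  have := MulEquiv.orderOf_eq (MulAut.conj g) x
  rwa [MulAut.conj_apply] at this

/-- if `|C(y)| |G'| = |G|` then the class of `y` is the whole coset `G' y` -/
theorem mcp_conj_surj [Finite G] (y : G)
    (hy : Nat.card (Subgroup.centralizer ({y} : Set G)) * Nat.card (commutator G) = Nat.card G)
    (d : G) (hd : d ∈ commutator G) : ∃ g : G, g * y * g⁻¹ = d * y := by
  classical
  have h1 := card_conj_mul_card_centralizer y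
  have hc0 : 0 < Nat.card (Subgroup.centralizer ({y} : Set G)) := Nat.card_pos
  have h2 : Nat.card {x : G // IsConj y x} = Nat.card (commutator G) := by
    have : Nat.card {x : G // IsConj y x} * Nat.card (Subgroup.centralizer ({y} : Set G)) =
        Nat.card (commutator G) * Nat.card (Subgroup.centralizer ({y} : Set G)) := by
      rw [h1, ← hy, mul_comm]
    exact Nat.eq_of_mul_eq_mul_right hc0 this
  have hmem : ∀ x : {x : G // IsConj y x}, (x : G) * y⁻¹ ∈ commutator G := by
    intro x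
    obtain ⟨g, hg⟩ := isConj_iff.mp x.2
    rw [← hg]
    have : g * y * g⁻¹ * y⁻¹ = ⁅g, y⁆ := by rw [commutatorElement_def]
    rw [this, commutator_def]
    exact Subgroup.commutator_mem_commutator (Subgroup.mem_top _) (Subgroup.mem_top _)
  let f : {x : G // IsConj y x} → commutator G := fun x => ⟨(x : G) * y⁻¹, hmem x⟩
  have hinj : Function.Injective f := by
    intro x x' hxx
    have := congrArg (fun z : commutator G => (z : G)) hxx
    simp only [f] at this
    exact Subtype.ext (mul_right_cancel this)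
  have hbij := (Nat.bijective_iff_injective_and_card f).mpr ⟨hinj, h2⟩
  obtain ⟨x, hx⟩ := hbij.2 ⟨d, hd⟩
  obtain ⟨g, hg⟩ := isConj_iff.mp x.2
  refine ⟨g, ?_⟩
  have := congrArg (fun z : commutator G => (z : G)) hx
  simp only [f] at this
  rw [hg, ← this]; group

/-- commutators with a fixed-point-free element fill the normal subgroup, coset-wise -/
theorem mcp_comm_surj [Finite G] (N : Subgroup G) [hN : N.Normal] (g u : G) (hgu : ⁅g, u⁆ ∈ N)
    (hfix : ∀ n ∈ N, g * n = n * g → n = 1) (d : G) (hd : d ∈ N) :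
    ∃ e ∈ N, ⁅g, u * e⁆ = d := by
  classical
  have hmem : ∀ e : N, ⁅g, u * (e : G)⁆ ∈ N := by
    intro e
    have h1 : ⁅g, u * (e : G)⁆ = ⁅g, u⁆ * (u * ((g * (e : G) * g⁻¹) * (e : G)⁻¹) * u⁻¹) := by
      simp only [commutatorElement_def]; group
    rw [h1]
    exact N.mul_mem hgu (hN.conj_mem _ (N.mul_mem (hN.conj_mem _ e.2 g) (N.inv_mem e.2)) u)
  let f : N → N := fun e => ⟨⁅g, u * (e : G)⁆, hmem e⟩
  have hinj : Function.Injective f := by
    intro e e' hee
    have h1 := congrArg (fun z : N => (z : G)) hee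
    simp only [f, commutatorElement_def] at h1
    -- (e'⁻¹ e) commutes with g
    have h2 : g * ((e' : G)⁻¹ * (e : G)) = ((e' : G)⁻¹ * (e : G)) * g := by
      have h3 : (u * (e : G)) * g⁻¹ * (u * (e : G))⁻¹ = (u * (e' : G)) * g⁻¹ * (u * (e' : G))⁻¹ := by
        have := congrArg (fun z => g⁻¹ * z) h1
        calc (u * (e : G)) * g⁻¹ * (u * (e : G))⁻¹
            = g⁻¹ * (g * (u * (e : G)) * g⁻¹ * (u * (e : G))⁻¹) := by group
          _ = g⁻¹ * (g * (u * (e' : G)) * g⁻¹ * (u * (e' : G))⁻¹) := this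
          _ = (u * (e' : G)) * g⁻¹ * (u * (e' : G))⁻¹ := by group
      have h4 : ((e' : G)⁻¹ * (e : G)) * g⁻¹ = g⁻¹ * ((e' : G)⁻¹ * (e : G)) := by
        calc ((e' : G)⁻¹ * (e : G)) * g⁻¹
            = (u * (e' : G))⁻¹ * ((u * (e : G)) * g⁻¹ * (u * (e : G))⁻¹) * (u * (e : G)) := by group
          _ = (u * (e' : G))⁻¹ * ((u * (e' : G)) * g⁻¹ * (u * (e' : G))⁻¹) * (u * (e : G)) := by
              rw [h3]
          _ = g⁻¹ * ((e' : G)⁻¹ * (e : G)) := by group
      calc g * ((e' : G)⁻¹ * (e : G))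
          = g * (((e' : G)⁻¹ * (e : G)) * g⁻¹) * g := by group
        _ = g * (g⁻¹ * ((e' : G)⁻¹ * (e : G))) * g := by rw [h4]
        _ = ((e' : G)⁻¹ * (e : G)) * g := by group
    have h5 := hfix _ (N.mul_mem (N.inv_mem e'.2) e.2) h2
    apply Subtype.ext
    have : (e : G) = (e' : G) * ((e' : G)⁻¹ * (e : G)) := by group
    rw [this, h5, mul_one]
  have hsurj := Finite.injective_iff_surjective.mp hinj
  obtain ⟨e, he⟩ := hsurj ⟨d, hd⟩
  refine ⟨e, e.2, ?_⟩
  have := congrArg (fun z : N => (z : G)) he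
  simpa [f] using this

/-- all elements of the coset `g N` are `N`-conjugate to a fixed-point-free `g` -/
theorem mcp_conj_coset [Finite G] (N : Subgroup G) [hN : N.Normal] (g : G)
    (hfix : ∀ n ∈ N, g * n = n * g → n = 1) (d : G) (hd : d ∈ N) :
    ∃ e ∈ N, e * g * e⁻¹ = g * d := by
  have hd' : (g * d * g⁻¹)⁻¹ ∈ N := N.inv_mem (hN.conj_mem d hd g)
  obtain ⟨e, he, hee⟩ := mcp_comm_surj N g 1 (by simp) hfix _ hd'
  refine ⟨e, he, ?_⟩
  rw [one_mul, commutatorElement_def] at hee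
  -- g e g⁻¹ e⁻¹ = (g d g⁻¹)⁻¹  ⇒  e g e⁻¹ = g d
  have h1 : e * g⁻¹ * e⁻¹ = g⁻¹ * (g * d * g⁻¹)⁻¹ := by
    rw [← hee]; group
  have h2 : e * g * e⁻¹ = (e * g⁻¹ * e⁻¹)⁻¹ := by group
  rw [h2, h1]; group

end

section

variable {G : Type*} [Group G]

/-- the multiplicativity hypothesis -/
def mcpCond (G : Type*) [Group G] : Prop :=
  ∀ (x y : G) (χ : Cfsg.IrrCharacter G), x ≠ 1 → y ≠ 1 →
    (∃ p q a b : ℕ, p.Prime ∧ q.Prime ∧ p ≠ q ∧ orderOf x = p ^ a ∧ orderOf y = q ^ b) →
    (χ : G → ℂ) (x * y) = (χ : G → ℂ) x * (χ : G → ℂ) y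

theorem mcp_prod_zero [Finite G] (H : mcpCond G) (χ : Cfsg.IrrCharacter G)
    (hχ : (χ : G → ℂ) 1 ≠ 1) (x y : G) (hx : x ≠ 1) (hy : y ≠ 1) (r s a b : ℕ) (hr : r.Prime)
    (hs : s.Prime) (hrs : r ≠ s) (hxo : orderOf x = r ^ a) (hyo : orderOf y = s ^ b) :
    (χ : G → ℂ) x * (χ : G → ℂ) y = 0 := by
  classical
  haveI := Fintype.ofFinite G
  have h1 := irr_sum_conj_mul χ x y
  have h2 : ∀ g : G, (χ : G → ℂ) (g * x * g⁻¹ * y) = (χ : G → ℂ) x * (χ : G → ℂ) y := by
    intro g
    have hne : g * x * g⁻¹ ≠ 1 := by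
      intro h
      apply hx
      have : x = g⁻¹ * (g * x * g⁻¹) * g := by group
      rw [this, h]; group
    rw [H (g * x * g⁻¹) y χ hne hy ⟨r, s, a, b, hr, hs, hrs, by rw [mcp_orderOf_conj, hxo], hyo⟩,
      irr_conj_invariant]
  simp only [h2, Finset.sum_const, Finset.card_univ, nsmul_eq_mul] at h1
  rw [← Nat.card_eq_fintype_card] at h1
  have hne : (Nat.card G : ℂ) ≠ 0 := by exact_mod_cast Nat.card_pos.ne'
  have h10 : (χ : G → ℂ) 1 ≠ 0 := irr_one_ne_zero χ
  by_contra hc
  apply hχ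
  field_simp at h1
  have h3 : ((χ : G → ℂ) x * (χ : G → ℂ) y) * ((χ : G → ℂ) 1 - 1) = 0 := by
    linear_combination h1
  rcases mul_eq_zero.mp h3 with h4 | h4
  · exact absurd h4 hc
  · exact sub_eq_zero.mp h4

/-- a character vanishing on all nontrivial elements of prime power order has degree divisible
by the group order -/
theorem mcp_card_dvd [Finite G] {Ψ : G → ℂ} (hΨ : Cfsg.IsCharacter G Ψ)
    (hv : ∀ g : G, g ≠ 1 → (∃ r a : ℕ, r.Prime ∧ orderOf g = r ^ a) → Ψ g = 0) :
    ∃ n : ℕ, Ψ 1 = (n : ℂ) ∧ Nat.card G ∣ n := by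
  classical
  obtain ⟨n, hn⟩ := isCharacter_one_eq_nat hΨ
  refine ⟨n, hn, ?_⟩
  rcases Nat.eq_zero_or_pos n with h0 | hpos
  · rw [h0]; exact dvd_zero _
  have hG0 : Nat.card G ≠ 0 := Nat.card_pos.ne'
  rw [← Nat.factorization_le_iff_dvd hG0 hpos.ne']
  intro r
  by_cases hr : r.Prime
  · haveI : Fact r.Prime := ⟨hr⟩
    rw [← hr.pow_dvd_iff_le_factorization hpos.ne']
    obtain ⟨R⟩ : Nonempty (Sylow r G) := inferInstance
    rw [← Sylow.card_eq_multiplicity R]
    haveI : Fintype (R : Subgroup G) := Fintype.ofFinite _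
    obtain ⟨m, hm⟩ := classInner_character_nat (isCharacter_restrict hΨ (R : Subgroup G))
      (isCharacter_const_one (R : Subgroup G))
    unfold Cfsg.classInner at hm
    have h1 : ∑ h : (R : Subgroup G), Ψ h * conj (1 : ℂ) = Ψ 1 := by
      rw [Finset.sum_eq_single (1 : (R : Subgroup G))]
      · simp
      · intro h _ hh
        have hh1 : (h : G) ≠ 1 := fun e => hh (Subtype.ext e)
        obtain ⟨k, hk⟩ := (IsPGroup.iff_orderOf.mp R.isPGroup') h
        rw [hv (h : G) hh1 ⟨r, k, hr, by rw [Subgroup.orderOf_coe, hk]⟩, zero_mul]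
      · intro h; exact absurd (Finset.mem_univ _) h
    rw [h1, hn] at hm
    have hRne : (Nat.card (R : Subgroup G) : ℂ) ≠ 0 := by exact_mod_cast Nat.card_pos.ne'
    have h2 : (n : ℂ) = (Nat.card (R : Subgroup G) : ℂ) * (m : ℂ) := by
      rw [← hm]; field_simp
    have h3 : n = Nat.card (R : Subgroup G) * m := by exact_mod_cast h2
    exact ⟨m, h3⟩
  · rw [Nat.factorization_eq_zero_of_not_prime _ hr]
    exact Nat.zero_le _

theorem mcp_sum_deg_sq [Finite G] [Fintype (Cfsg.IrrCharacter G)] :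
    ∑ ψ : Cfsg.IrrCharacter G, Cfsg.charDegree (ψ : G → ℂ) ^ 2 = Nat.card G := by
  classical
  haveI := Fintype.ofFinite G
  have h := irr_regular_indicator (1 : G)
  rw [if_pos rfl] at h
  have : ((∑ ψ : Cfsg.IrrCharacter G, Cfsg.charDegree (ψ : G → ℂ) ^ 2 : ℕ) : ℂ) =
      (Nat.card G : ℂ) := by
    rw [← h]
    push_cast
    apply Finset.sum_congr rfl
    intro ψ _
    rw [(charDegree_irr ψ).1]; ring
  exact_mod_cast this

theorem mcp_deg_lt [Finite G] (χ : Cfsg.IrrCharacter G) (hχ : (χ : G → ℂ) 1 ≠ 1) :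
    Cfsg.charDegree (χ : G → ℂ) ^ 2 < Nat.card G := by
  classical
  haveI : Fintype (Cfsg.IrrCharacter G) := Fintype.ofFinite _
  have hne : trivIrr G ≠ χ := by
    intro h
    apply hχ
    rw [← h]
    rfl
  have h1 := Finset.add_le_sum (s := Finset.univ)
    (f := fun ψ : Cfsg.IrrCharacter G => Cfsg.charDegree (ψ : G → ℂ) ^ 2)
    (fun i _ => Nat.zero_le _) (Finset.mem_univ (trivIrr G)) (Finset.mem_univ χ) hne
  rw [mcp_sum_deg_sq] at h1
  have h2 : 0 < Cfsg.charDegree ((trivIrr G : Cfsg.IrrCharacter G) : G → ℂ) ^ 2 :=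
    pow_pos (charDegree_irr (trivIrr G)).2 2
  omega

end

section

variable {G : Type*} [Group G]

/-- there is a prime `p` such that every nonlinear irreducible character vanishes on every
nontrivial element of prime power order for a prime different from `p` -/
theorem mcp_exists_p [Finite G] (H : mcpCond G) (hnc : ¬ ∀ a b : G, a * b = b * a) :
    ∃ p : ℕ, p.Prime ∧ ∀ χ : Cfsg.IrrCharacter G, (χ : G → ℂ) 1 ≠ 1 → ∀ y : G, y ≠ 1 →
      ∀ s b : ℕ, s.Prime → s ≠ p → orderOf y = s ^ b → (χ : G → ℂ) y = 0 := by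
  classical
  -- a nonlinear character
  obtain ⟨χ₀, hχ₀⟩ : ∃ χ₀ : Cfsg.IrrCharacter G, (χ₀ : G → ℂ) 1 ≠ 1 := by
    by_contra hcon
    push Not at hcon
    exact hnc (xs_comm_of_all_linear hcon)
  have hd₀ := charDegree_irr χ₀
  have hlt₀ := mcp_deg_lt χ₀ hχ₀
  -- it does not vanish on all prime power elements
  obtain ⟨x₀, hx₀1, p, a, hp, hx₀o, hx₀χ⟩ : ∃ x₀ : G, x₀ ≠ 1 ∧ ∃ p a : ℕ, p.Prime ∧
      orderOf x₀ = p ^ a ∧ (χ₀ : G → ℂ) x₀ ≠ 0 := by
    by_contra hcon
    push Not at hcon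
    obtain ⟨n, hn, hdvd⟩ := mcp_card_dvd (isCharacter_of_irr χ₀) (by
      intro g hg ⟨r, a, hr, hga⟩
      exact hcon g hg r a hr hga)
    have hnd : n = Cfsg.charDegree (χ₀ : G → ℂ) := by
      have : (n : ℂ) = (Cfsg.charDegree (χ₀ : G → ℂ) : ℂ) := by rw [hd₀.1, hn]
      exact_mod_cast this
    rw [hnd] at hdvd
    have h1 := Nat.le_of_dvd hd₀.2 hdvd
    have h2 : Cfsg.charDegree (χ₀ : G → ℂ) ≤ Cfsg.charDegree (χ₀ : G → ℂ) ^ 2 := by
      nlinarith [hd₀.2]
    omega
  refine ⟨p, hp, ?_⟩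
  intro χ hχ y hy s b hs hsp hyo
  by_contra hχy
  have hd := charDegree_irr χ
  have hlt := mcp_deg_lt χ hχ
  obtain ⟨n, hn, hdvd⟩ := mcp_card_dvd
    (h7_isCharacter_mul (isCharacter_of_irr χ) (isCharacter_of_irr χ₀)) (by
      intro g hg ⟨r, c, hr, hgc⟩
      rw [Pi.mul_apply]
      by_cases hrp : r = p
      · have hrs : r ≠ s := by rw [hrp]; exact fun h => hsp h.symm
        have := mcp_prod_zero H χ hχ g y hg hy r s c b hr hs hrs hgc hyo
        rcases mul_eq_zero.mp this with h | h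
        · rw [h, zero_mul]
        · exact absurd h hχy
      · have := mcp_prod_zero H χ₀ hχ₀ g x₀ hg hx₀1 r p c a hr hp hrp hgc hx₀o
        rcases mul_eq_zero.mp this with h | h
        · rw [h, mul_zero]
        · exact absurd h hx₀χ)
  rw [Pi.mul_apply] at hn
  have hnd : n = Cfsg.charDegree (χ : G → ℂ) * Cfsg.charDegree (χ₀ : G → ℂ) := by
    have : (n : ℂ) = ((Cfsg.charDegree (χ : G → ℂ) * Cfsg.charDegree (χ₀ : G → ℂ) : ℕ) : ℂ) := by
      push_cast
      rw [hd.1, hd₀.1, hn]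
    exact_mod_cast this
  rw [hnd] at hdvd
  have hpos : 0 < Cfsg.charDegree (χ : G → ℂ) * Cfsg.charDegree (χ₀ : G → ℂ) :=
    Nat.mul_pos hd.2 hd₀.2
  have h1 := Nat.le_of_dvd hpos hdvd
  have h2 : (Cfsg.charDegree (χ : G → ℂ) * Cfsg.charDegree (χ₀ : G → ℂ)) ^ 2 <
      Nat.card G ^ 2 := by
    rw [mul_pow, sq (Nat.card G)]
    exact Nat.mul_lt_mul'' hlt hlt₀
  have h3 := lt_of_pow_lt_pow_left₀ 2 (Nat.zero_le _) h2
  omega

/-- if all nonlinear characters vanish at `y ≠ 1`, then `|C(y)| |G'| = |G|` and `y ∉ G'` -/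
theorem mcp_centralizer [Finite G] (y : G) (hy : y ≠ 1)
    (hv : ∀ χ : Cfsg.IrrCharacter G, (χ : G → ℂ) 1 ≠ 1 → (χ : G → ℂ) y = 0) :
    Nat.card (Subgroup.centralizer ({y} : Set G)) * Nat.card (commutator G) = Nat.card G ∧
      y ∉ commutator G := by
  classical
  haveI := Fintype.ofFinite G
  haveI : Fintype (Cfsg.IrrCharacter G) := Fintype.ofFinite _
  have hlin := xs_card_linear (G := G)
  have hcard : (Nat.card {χ : Cfsg.IrrCharacter G // (χ : G → ℂ) 1 = 1} : ℂ) =
      ∑ χ : Cfsg.IrrCharacter G, if (χ : G → ℂ) 1 = 1 then (1 : ℂ) else 0 := by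
    rw [Nat.card_eq_fintype_card, Fintype.card_subtype, Finset.sum_ite, Finset.sum_const_zero,
      add_zero, Finset.sum_const, nsmul_eq_mul, mul_one]
  constructor
  · have h := irr_column_orthogonality y y
    rw [if_pos (IsConj.refl y)] at h
    have h2 : ∀ χ : Cfsg.IrrCharacter G, (χ : G → ℂ) y * conj ((χ : G → ℂ) y) =
        if (χ : G → ℂ) 1 = 1 then (1 : ℂ) else 0 := by
      intro χ
      split_ifs with h1
      · exact irr_linear_mul_conj χ h1 y
      · rw [hv χ h1, zero_mul]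
    simp only [h2] at h
    rw [← hcard] at h
    have h3 : Nat.card {χ : Cfsg.IrrCharacter G // (χ : G → ℂ) 1 = 1} =
        Nat.card (Subgroup.centralizer ({y} : Set G)) := by exact_mod_cast h
    rw [← h3, mul_comm]
    exact hlin
  · intro hyc
    have h := irr_regular_indicator y
    rw [if_neg hy] at h
    have h2 : ∀ χ : Cfsg.IrrCharacter G, (χ : G → ℂ) y * (χ : G → ℂ) 1 =
        if (χ : G → ℂ) 1 = 1 then (1 : ℂ) else 0 := by
      intro χ
      split_ifs with h1
      · rw [irr_linear_commutator χ h1 hyc, h1, mul_one]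
      · rw [hv χ h1, zero_mul]
    simp only [h2] at h
    rw [← hcard] at h
    have h3 : Nat.card {χ : Cfsg.IrrCharacter G // (χ : G → ℂ) 1 = 1} = 0 := by exact_mod_cast h
    rw [h3, mul_zero] at hlin
    exact Nat.card_pos.ne' hlin.symm

end

section

variable {G : Type*} [Group G]

theorem mcp_comm_mem (a b : G) : ⁅a, b⁆ ∈ commutator G := by
  rw [commutator_def]
  exact Subgroup.commutator_mem_commutator (Subgroup.mem_top _) (Subgroup.mem_top _)

/-- prime-order power of a nontrivial element -/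
theorem mcp_exists_prime_pow [Finite G] (a : G) (ha : a ≠ 1) :
    ∃ s : ℕ, s.Prime ∧ s ∣ orderOf a ∧ orderOf (a ^ (orderOf a / s)) = s := by
  have h1 : orderOf a ≠ 1 := fun h => ha (orderOf_eq_one_iff.mp h)
  obtain ⟨s, hs, hsd⟩ := Nat.exists_prime_and_dvd h1
  exact ⟨s, hs, hsd, orderOf_pow_orderOf_div (orderOf_pos a).ne' hsd⟩

theorem mcp_forward_struct [Finite G] (p : ℕ) [hp : Fact p.Prime]
    (hV : ∀ y : G, y ≠ 1 → ∀ s b : ℕ, s.Prime → s ≠ p → orderOf y = s ^ b →
      Nat.card (Subgroup.centralizer ({y} : Set G)) * Nat.card (commutator G) = Nat.card G ∧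
        y ∉ commutator G)
    (hnp : ¬ IsPGroup p G) (hnc : ¬ ∀ a b : G, a * b = b * a) :
    ∃ (P : Sylow p G) (A : Subgroup G), (P : Subgroup G).Normal ∧ IsCyclic ↥A ∧ A ≠ ⊥ ∧
      (Nat.card ↥A).Coprime p ∧ A ⊔ (P : Subgroup G) = ⊤ ∧
      IsMulCommutative ↥((P : Subgroup G) ⊓ Subgroup.centralizer (A : Set G)) ∧
      (⁅A, (P : Subgroup G)⁆).Normal ∧
      ((P : Subgroup G) ⊓ Subgroup.centralizer (A : Set G)) ⊔ ⁅A, (P : Subgroup G)⁆ =
        (P : Subgroup G) ∧
      ((P : Subgroup G) ⊓ Subgroup.centralizer (A : Set G)) ⊓ ⁅A, (P : Subgroup G)⁆ = ⊥ ∧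
      ∀ a ∈ A, a ≠ 1 → ∀ d ∈ ⁅A, (P : Subgroup G)⁆, a * d = d * a → d = 1 := by
  classical
  -- (1) G' is a p-group
  have hD : IsPGroup p (commutator G) := by
    have hcard : ∃ n, Nat.card (commutator G) = p ^ n := by
      refine ⟨_, Nat.eq_prime_pow_of_unique_prime_dvd Nat.card_pos.ne' ?_⟩
      intro s hs hsd
      by_contra hsp
      haveI : Fact s.Prime := ⟨hs⟩
      obtain ⟨x, hx⟩ := exists_prime_orderOf_dvd_card' s hsd
      have hx1 : (x : G) ≠ 1 := by
        intro h
        have : x = 1 := Subtype.ext h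
        rw [this, orderOf_one] at hx
        exact hs.one_lt.ne hx
      exact (hV (x : G) hx1 s 1 hs hsp (by rw [Subgroup.orderOf_coe, hx, pow_one])).2 x.2
    obtain ⟨n, hn⟩ := hcard
    exact IsPGroup.of_card hn
  obtain ⟨P, hDP⟩ := hD.exists_le_sylow
  have hPn : (P : Subgroup G).Normal := by
    constructor
    intro n hn g
    have : g * n * g⁻¹ = ⁅g, n⁆ * n := by rw [commutatorElement_def]; group
    rw [this]
    exact (P : Subgroup G).mul_mem (hDP (mcp_comm_mem g n)) hn
  haveI := hPn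
  obtain ⟨A, hA⟩ := Subgroup.exists_right_complement'_of_coprime (P.card_coprime_index)
  have hsup : A ⊔ (P : Subgroup G) = ⊤ := by rw [sup_comm]; exact hA.sup_eq_top
  have hdisj : (P : Subgroup G) ⊓ A = ⊥ := disjoint_iff.mp hA.disjoint
  have hAcard : (P : Subgroup G).index = Nat.card A := hA.symm.index_eq_card
  have hAcop : (Nat.card A).Coprime p := by
    rw [← hAcard, Nat.coprime_comm, Nat.Prime.coprime_iff_not_dvd hp.out]
    exact P.not_dvd_index
  have hA1 : A ≠ ⊥ := by
    intro h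
    rw [h, bot_sup_eq] at hsup
    apply hnp
    have := P.isPGroup'
    rw [hsup] at this
    exact IsPGroup.of_equiv this Subgroup.topEquiv
  have hAc : ∀ x ∈ A, ∀ y ∈ A, x * y = y * x := by
    intro x hx y hy
    have h1 : ⁅x, y⁆ ∈ (P : Subgroup G) ⊓ A :=
      ⟨hDP (mcp_comm_mem x y), A.mul_mem (A.mul_mem (A.mul_mem hx hy) (A.inv_mem hx)) (A.inv_mem hy)⟩
    rw [hdisj, Subgroup.mem_bot, commutatorElement_def] at h1
    calc x * y = (x * y * x⁻¹ * y⁻¹) * (y * x) := by group
      _ = y * x := by rw [h1, one_mul]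
  -- (4) fixed-point-freeness on G'
  have hfpf : ∀ a ∈ A, a ≠ 1 → ∀ d ∈ commutator G, a * d = d * a → d = 1 := by
    intro a haA ha d hd hcomm
    obtain ⟨s, hs, hsd, hso⟩ := mcp_exists_prime_pow a ha
    set y := a ^ (orderOf a / s) with hy
    have hsp : s ≠ p := by
      intro h
      have h1 : s ∣ Nat.card A := hsd.trans (Subgroup.orderOf_dvd_natCard A haA)
      rw [h] at h1
      exact (Nat.Prime.coprime_iff_not_dvd hp.out).mp hAcop.symm h1
    have hy1 : y ≠ 1 := by
      intro h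
      rw [h, orderOf_one] at hso
      exact hs.one_lt.ne hso
    have hcy := (hV y hy1 s 1 hs hsp (by rw [hso, pow_one])).1
    obtain ⟨g, hg⟩ := mcp_conj_surj y hcy d hd
    have hdy : Commute d y := by
      have : Commute d a := hcomm.symm
      exact this.pow_right _
    have h1 : orderOf (d * y) = s := by rw [← hg, mcp_orderOf_conj, hso]
    have h2 : (d * y) ^ s = 1 := by rw [← h1]; exact pow_orderOf_eq_one _
    rw [hdy.mul_pow, ← hso, pow_orderOf_eq_one, mul_one, hso] at h2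
    obtain ⟨k, hk⟩ := (IsPGroup.iff_orderOf.mp hD) ⟨d, hd⟩
    have h3 : orderOf d ∣ s := orderOf_dvd_of_pow_eq_one h2
    have h4 : orderOf d = p ^ k := by
      rw [← hk]; exact Subgroup.orderOf_coe ⟨d, hd⟩
    rcases (Nat.dvd_prime hs).mp h3 with h5 | h5
    · exact orderOf_eq_one_iff.mp h5
    · exfalso
      rw [h4] at h5
      rcases Nat.eq_zero_or_pos k with hk0 | hkpos
      · rw [hk0, pow_zero] at h5
        exact hs.one_lt.ne h5
      · apply hsp
        have : p ∣ s := by rw [← h5]; exact dvd_pow_self p hkpos.ne'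
        exact ((Nat.prime_dvd_prime_iff_eq hp.out hs).mp this).symm
  -- (5) A is cyclic
  have hDne : commutator G ≠ ⊥ := by
    intro h
    apply hnc
    intro a b
    have := mcp_comm_mem a b
    rw [h, Subgroup.mem_bot, commutatorElement_def] at this
    calc a * b = (a * b * a⁻¹ * b⁻¹) * (b * a) := by group
      _ = b * a := by rw [this, one_mul]
  have hcyc : IsCyclic A := by
    set Z : Subgroup G := commutator G ⊓ Subgroup.centralizer (commutator G : Set G) with hZ
    haveI hZn : Z.Normal := by rw [hZ]; infer_instance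
    have hZc : ∀ x ∈ Z, ∀ y ∈ Z, x * y = y * x := by
      intro x hx y hy
      exact (Subgroup.mem_centralizer_iff.mp hy.2 x hx.1)
    have hZ1 : Z ≠ ⊥ := by
      haveI : Nontrivial (commutator G) := (Subgroup.nontrivial_iff_ne_bot _).mpr hDne
      haveI := hD.center_nontrivial
      obtain ⟨z, hz⟩ := exists_ne (1 : Subgroup.center (commutator G))
      intro hbot
      apply hz
      have hzmem : ((z : commutator G) : G) ∈ Z := by
        refine ⟨(z : commutator G).2, ?_⟩
        change ((z : commutator G) : G) ∈ Subgroup.centralizer (commutator G : Set G)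
        rw [Subgroup.mem_centralizer_iff]
        intro d hd
        have := Subgroup.mem_center_iff.mp z.2 ⟨d, hd⟩
        exact congrArg (fun w : commutator G => (w : G)) this
      rw [hbot, Subgroup.mem_bot] at hzmem
      exact Subtype.ext (Subtype.ext hzmem)
    have hZp : IsPGroup p Z := hD.to_le inf_le_left
    exact mcp_cyclic_of_fpf p A Z hZc hZ1 hZp hAc hAcop
      (fun a ha ha1 n hn hc => hfpf a ha ha1 n hn.1 hc)
  -- (6) generator
  haveI := hcyc
  obtain ⟨a₀, ha₀⟩ := IsCyclic.exists_generator (α := A)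
  have ha₀1 : (a₀ : G) ≠ 1 := by
    intro h
    apply hA1
    rw [Subgroup.eq_bot_iff_forall]
    intro x hx
    have := ha₀ ⟨x, hx⟩
    have h1 : a₀ = 1 := Subtype.ext h
    rw [h1, Subgroup.zpowers_one_eq_bot, Subgroup.mem_bot] at this
    exact congrArg (fun w : A => (w : G)) this
  have hfix₀ : ∀ n ∈ commutator G, (a₀ : G) * n = n * (a₀ : G) → n = 1 :=
    fun n hn hc => hfpf a₀ a₀.2 ha₀1 n hn hc
  have hgen : ∀ x : G, (a₀ : G) * x = x * (a₀ : G) → x ∈ Subgroup.centralizer (A : Set G) := by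
    intro x hx
    rw [Subgroup.mem_centralizer_iff]
    intro b hb
    obtain ⟨k, hk⟩ := Subgroup.mem_zpowers_iff.mp (ha₀ ⟨b, hb⟩)
    have hb' : b = (a₀ : G) ^ k := by
      have := congrArg (fun w : A => (w : G)) hk
      simpa using this.symm
    rw [hb']
    have hc : Commute (a₀ : G) x := hx
    exact (hc.zpow_left k).eq
  -- D = G'
  have hDeq : ⁅A, (P : Subgroup G)⁆ = commutator G := by
    apply le_antisymm
    · rw [commutator_def]
      exact Subgroup.commutator_mono le_top le_top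
    · intro d hd
      obtain ⟨e, he, hee⟩ := mcp_comm_surj (commutator G) (a₀ : G) 1
        (by rw [commutatorElement_def]; simp) hfix₀ d hd
      rw [one_mul] at hee
      rw [← hee]
      exact Subgroup.commutator_mem_commutator a₀.2 (hDP he)
  refine ⟨P, A, hPn, hcyc, hA1, hAcop, hsup, ?_, ?_, ?_, ?_, ?_⟩
  · -- C abelian
    refine ⟨⟨fun x y => ?_⟩⟩
    have h1 : ⁅(x : G), (y : G)⁆ = 1 := by
      apply hfix₀ _ (mcp_comm_mem _ _)
      have hxc : Commute (a₀ : G) (x : G) :=
        (Subgroup.mem_centralizer_iff.mp x.2.2 a₀ a₀.2)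
      have hyc : Commute (a₀ : G) (y : G) :=
        (Subgroup.mem_centralizer_iff.mp y.2.2 a₀ a₀.2)
      rw [commutatorElement_def]
      exact (((hxc.mul_right hyc).mul_right hxc.inv_right).mul_right hyc.inv_right).eq
    apply Subtype.ext
    rw [commutatorElement_def] at h1
    change (x : G) * (y : G) = (y : G) * (x : G)
    calc (x : G) * (y : G) = ((x : G) * (y : G) * (x : G)⁻¹ * (y : G)⁻¹) * ((y : G) * (x : G)) := by
          group
      _ = (y : G) * (x : G) := by rw [h1, one_mul]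
  · rw [hDeq]; infer_instance
  · rw [hDeq]
    apply le_antisymm
    · exact sup_le inf_le_left hDP
    · intro u hu
      obtain ⟨e, he, hee⟩ := mcp_comm_surj (commutator G) (a₀ : G) u (mcp_comm_mem _ _) hfix₀ 1
        (Subgroup.one_mem _)
      rw [commutatorElement_def] at hee
      have hc : (a₀ : G) * (u * e) = (u * e) * (a₀ : G) := by
        calc (a₀ : G) * (u * e) = ((a₀ : G) * (u * e) * (a₀ : G)⁻¹ * (u * e)⁻¹) * ((u * e) * (a₀ : G)) := by
              group
          _ = (u * e) * (a₀ : G) := by rw [hee, one_mul]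
      have h1 : u * e ∈ (P : Subgroup G) ⊓ Subgroup.centralizer (A : Set G) :=
        ⟨(P : Subgroup G).mul_mem hu (hDP he), hgen _ hc⟩
      have h2 : u = (u * e) * e⁻¹ := by group
      rw [h2]
      exact Subgroup.mul_mem _ (Subgroup.mem_sup_left h1)
        (Subgroup.mem_sup_right ((commutator G).inv_mem he))
  · rw [hDeq, Subgroup.eq_bot_iff_forall]
    intro x hx
    apply hfix₀ x hx.2
    exact (Subgroup.mem_centralizer_iff.mp hx.1.2 a₀ a₀.2)
  · rw [hDeq]
    exact hfpf

end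

section

variable {G : Type*} [Group G]

theorem mcp_cyclic_comm (A : Subgroup G) (hc : IsCyclic A) {a b : G} (ha : a ∈ A) (hb : b ∈ A) :
    a * b = b * a := by
  haveI := hc
  letI := IsCyclic.commGroup (α := A)
  have := mul_comm (⟨a, ha⟩ : A) ⟨b, hb⟩
  exact congrArg (fun w : A => (w : G)) this

theorem mcp_backward_struct [Finite G] (p : ℕ) [hp : Fact p.Prime] (P : Sylow p G)
    (A : Subgroup G) (hPn : (P : Subgroup G).Normal) (hcyc : IsCyclic ↥A)
    (hAcop : (Nat.card ↥A).Coprime p) (hsup : A ⊔ (P : Subgroup G) = ⊤)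
    (hCc : IsMulCommutative ↥((P : Subgroup G) ⊓ Subgroup.centralizer (A : Set G)))
    (hDn : (⁅A, (P : Subgroup G)⁆).Normal)
    (hCD : ((P : Subgroup G) ⊓ Subgroup.centralizer (A : Set G)) ⊔ ⁅A, (P : Subgroup G)⁆ =
      (P : Subgroup G))
    (hfpf : ∀ a ∈ A, a ≠ 1 → ∀ d ∈ ⁅A, (P : Subgroup G)⁆, a * d = d * a → d = 1)
    (χ : Cfsg.IrrCharacter G) (hχ : (χ : G → ℂ) 1 ≠ 1) (g : G) (hg : g ∉ (P : Subgroup G)) :
    (χ : G → ℂ) g = 0 := by
  classical
  haveI := hPn
  haveI := hDn
  set D : Subgroup G := ⁅A, (P : Subgroup G)⁆ with hD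
  set C : Subgroup G := (P : Subgroup G) ⊓ Subgroup.centralizer (A : Set G) with hC
  have hDP : D ≤ (P : Subgroup G) := by rw [← hCD]; exact le_sup_right
  -- B0: decomposition
  have hdec : ∀ g : G, ∃ a ∈ A, ∃ c ∈ C, ∃ d ∈ D, g = a * c * d := by
    intro g
    have hgtop : g ∈ A ⊔ (P : Subgroup G) := by rw [hsup]; trivial
    have h1 : g ∈ ((A ⊔ (P : Subgroup G) : Subgroup G) : Set G) := hgtop
    rw [Subgroup.mul_normal] at h1
    obtain ⟨a, ha, u, hu, rfl⟩ := Set.mem_mul.mp h1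
    have hu' : u ∈ C ⊔ D := by rw [hCD]; exact hu
    have h2 : u ∈ ((C ⊔ D : Subgroup G) : Set G) := hu'
    rw [Subgroup.mul_normal] at h2
    obtain ⟨c, hc, d, hd, rfl⟩ := Set.mem_mul.mp h2
    exact ⟨a, ha, c, hc, d, hd, by group⟩
  have hCcomm : ∀ c ∈ C, ∀ c' ∈ C, c * c' = c' * c := by
    intro c hc c' hc'
    have := hCc.is_comm.comm (⟨c, hc⟩ : C) ⟨c', hc'⟩
    exact congrArg (fun w : C => (w : G)) this
  have hAC : ∀ a ∈ A, ∀ c ∈ C, a * c = c * a := by
    intro a ha c hc
    exact (Subgroup.mem_centralizer_iff.mp hc.2 a ha)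
  -- elements a c pairwise commute
  have hcomm2 : ∀ a ∈ A, ∀ c ∈ C, ∀ a' ∈ A, ∀ c' ∈ C, (a * c) * (a' * c') = (a' * c') * (a * c) := by
    intro a ha c hc a' ha' c' hc'
    calc (a * c) * (a' * c') = a * (c * a') * c' := by group
      _ = a * (a' * c) * c' := by rw [hAC a' ha' c hc]
      _ = (a * a') * (c * c') := by group
      _ = (a' * a) * (c' * c) := by rw [mcp_cyclic_comm A hcyc ha ha', hCcomm c hc c' hc']
      _ = a' * (a * c') * c := by group
      _ = a' * (c' * a) * c := by rw [hAC a ha c' hc']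
      _ = (a' * c') * (a * c) := by group
  -- B1: G' ≤ D
  have hG'D : commutator G ≤ D := by
    rw [commutator_def, Subgroup.commutator_le]
    intro x _ y _
    obtain ⟨a, ha, c, hc, d, hd, rfl⟩ := hdec x
    obtain ⟨a', ha', c', hc', d', hd', rfl⟩ := hdec y
    rw [← QuotientGroup.eq_one_iff (N := D)]
    have hd1 : ((d : G) : G ⧸ D) = 1 := (QuotientGroup.eq_one_iff d).mpr hd
    have hd1' : ((d' : G) : G ⧸ D) = 1 := (QuotientGroup.eq_one_iff d').mpr hd'
    have hq := congrArg (fun w : G => (w : G ⧸ D)) (hcomm2 a ha c hc a' ha' c' hc')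
    simp only [QuotientGroup.mk_mul] at hq
    rw [commutatorElement_def]
    simp only [QuotientGroup.mk_mul, QuotientGroup.mk_inv, hd1, hd1', mul_one]
    have hq' : Commute (((a : G) : G ⧸ D) * ((c : G) : G ⧸ D))
        (((a' : G) : G ⧸ D) * ((c' : G) : G ⧸ D)) := hq
    rw [hq'.eq]
    group
  -- a nonlinear character does not contain D in its kernel
  have hker : ∃ n ∈ D, (χ : G → ℂ) n ≠ (χ : G → ℂ) 1 := by
    by_contra hcon
    push Not at hcon
    exact hχ (xs_linear_of_comm_le_ker χ (fun w hw => hcon w (hG'D hw)))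
  -- B2: g acts without fixed points on D
  have hfix : ∀ d ∈ D, g * d = d * g → d = 1 := by
    obtain ⟨a, ha, c, hc, d₀, hd₀, hgdec⟩ := hdec g
    have ha1 : a ≠ 1 := by
      intro h
      apply hg
      rw [hgdec, h, one_mul]
      exact (P : Subgroup G).mul_mem hc.1 (hDP hd₀)
    set m := Nat.card (P : Subgroup G) with hm
    obtain ⟨k, hk⟩ := (IsPGroup.iff_card).mp P.isPGroup'
    have hcm : c ^ m = 1 := by
      have : (⟨c, hc.1⟩ : (P : Subgroup G)) ^ m = 1 := pow_card_eq_one'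
      exact congrArg (fun w : (P : Subgroup G) => (w : G)) this
    -- g^m ∈ a^m D
    have hgm : (a ^ m)⁻¹ * g ^ m ∈ D := by
      rw [← QuotientGroup.eq_one_iff (N := D)]
      have hd1 : ((d₀ : G) : G ⧸ D) = 1 := (QuotientGroup.eq_one_iff d₀).mpr hd₀
      have hcq : Commute ((a : G) : G ⧸ D) ((c : G) : G ⧸ D) := by
        have := congrArg (fun w : G => (w : G ⧸ D)) (hAC a ha c hc)
        simp only [QuotientGroup.mk_mul] at this
        exact this
      rw [hgdec]
      simp only [QuotientGroup.mk_mul, QuotientGroup.mk_inv, QuotientGroup.mk_pow, hd1, mul_one]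
      have hcm' : ((c : G) : G ⧸ D) ^ m = 1 := by
        rw [← QuotientGroup.mk_pow D c m, hcm]; rfl
      rw [hcq.mul_pow, hcm', mul_one]
      group
    set a' := a ^ m with ha'
    have ha'A : a' ∈ A := A.pow_mem ha m
    have ha'1 : a' ≠ 1 := by
      intro h
      apply ha1
      have h1 : orderOf a ∣ m := orderOf_dvd_of_pow_eq_one h
      have h2 : orderOf a ∣ Nat.card A := Subgroup.orderOf_dvd_natCard A ha
      have h3 : (Nat.card A).Coprime m := by rw [hm, hk]; exact Nat.Coprime.pow_right k hAcop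
      have h4 : orderOf a = 1 := Nat.eq_one_of_dvd_coprimes h3 h2 h1
      exact orderOf_eq_one_iff.mp h4
    obtain ⟨e, he, hee⟩ := mcp_conj_coset D a' (hfpf a' ha'A ha'1) _ hgm
    have hgm' : e * a' * e⁻¹ = g ^ m := by rw [hee]; group
    intro d hd hgd
    have h1 : Commute (g ^ m) d := (Commute.pow_left hgd m)
    rw [← hgm'] at h1
    have h2 : a' * (e⁻¹ * d * e) = (e⁻¹ * d * e) * a' := by
      have := h1.eq
      calc a' * (e⁻¹ * d * e) = e⁻¹ * ((e * a' * e⁻¹) * d) * e := by group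
        _ = e⁻¹ * (d * (e * a' * e⁻¹)) * e := by rw [this]
        _ = (e⁻¹ * d * e) * a' := by group
    have h3 : e⁻¹ * d * e ∈ D := by
      have := hDn.conj_mem d hd e⁻¹
      simpa using this
    have h4 := hfpf a' ha'A ha'1 _ h3 h2
    calc d = e * (e⁻¹ * d * e) * e⁻¹ := by group
      _ = 1 := by rw [h4]; group
  -- B3
  haveI : Fintype D := Fintype.ofFinite _
  have hsum := irr_sum_normal χ D hker g
  have hconst : ∀ n : D, (χ : G → ℂ) (g * (n : G)) = (χ : G → ℂ) g := by
    intro n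
    obtain ⟨e, _, hee⟩ := mcp_conj_coset D g hfix (n : G) n.2
    rw [← hee, irr_conj_invariant]
  simp only [hconst, Finset.sum_const, Finset.card_univ, nsmul_eq_mul] at hsum
  rcases mul_eq_zero.mp hsum with h | h
  · exfalso
    have : Fintype.card D ≠ 0 := Fintype.card_ne_zero
    exact this (by exact_mod_cast h)
  · exact h

end

section

variable {G : Type*} [Group G]

theorem mcp_prime_eq {x : G} (hx : x ≠ 1) {r a p k : ℕ} (hr : r.Prime) (hp : p.Prime)
    (h1 : orderOf x = r ^ a) (h2 : orderOf x = p ^ k) : r = p := by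
  have ha : a ≠ 0 := by
    intro h
    rw [h, pow_zero] at h1
    exact hx (orderOf_eq_one_iff.mp h1)
  have h3 : r ∣ p ^ k := by
    rw [← h2, h1]
    exact dvd_pow_self r ha
  exact (Nat.prime_dvd_prime_iff_eq hr hp).mp (hr.dvd_of_dvd_pow h3)

theorem mcp_main [Finite G] : mcpCond G ↔ ((∃ p : ℕ, p.Prime ∧ IsPGroup p G) ∨ IsMulCommutative G ∨
    ∃ (p : ℕ) (_ : Fact p.Prime) (P : Sylow p G) (A : Subgroup G), (P : Subgroup G).Normal ∧
      IsCyclic ↥A ∧ A ≠ ⊥ ∧ (Nat.card ↥A).Coprime p ∧ A ⊔ (P : Subgroup G) = ⊤ ∧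
      IsMulCommutative ↥((P : Subgroup G) ⊓ Subgroup.centralizer (A : Set G)) ∧
      (⁅A, (P : Subgroup G)⁆).Normal ∧
      ((P : Subgroup G) ⊓ Subgroup.centralizer (A : Set G)) ⊔ ⁅A, (P : Subgroup G)⁆ =
        (P : Subgroup G) ∧
      ((P : Subgroup G) ⊓ Subgroup.centralizer (A : Set G)) ⊓ ⁅A, (P : Subgroup G)⁆ = ⊥ ∧
      ∀ a ∈ A, a ≠ 1 → ∀ d ∈ ⁅A, (P : Subgroup G)⁆, a * d = d * a → d = 1) := by
  constructor
  · intro H
    by_cases hcomm : ∀ a b : G, a * b = b * a
    · right; left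
      exact ⟨⟨hcomm⟩⟩
    by_cases hpg : ∃ p : ℕ, p.Prime ∧ IsPGroup p G
    · left; exact hpg
    right; right
    obtain ⟨p, hp, hprop⟩ := mcp_exists_p H hcomm
    haveI : Fact p.Prime := ⟨hp⟩
    refine ⟨p, ⟨hp⟩, ?_⟩
    apply mcp_forward_struct p _ (fun h => hpg ⟨p, hp, h⟩) hcomm
    intro y hy s b hs hsp hyo
    exact mcp_centralizer y hy (fun χ hχ => hprop χ hχ y hy s b hs hsp hyo)
  · rintro (⟨p, hp, hG⟩ | hcomm | ⟨p, hp, P, A, hPn, hcyc, hA1, hAcop, hsup, hCc, hDn, hCD, -, hfpf⟩)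
    · intro x y χ hx hy ⟨r, s, a, b, hr, hs, hrs, hxo, hyo⟩
      exfalso
      haveI : Fact p.Prime := ⟨hp⟩
      obtain ⟨k, hk⟩ := IsPGroup.iff_orderOf.mp hG x
      obtain ⟨l, hl⟩ := IsPGroup.iff_orderOf.mp hG y
      exact hrs ((mcp_prime_eq hx hr hp hxo hk).trans (mcp_prime_eq hy hs hp hyo hl).symm)
    · intro x y χ _ _ _
      haveI := hcomm
      exact irr_linear_mul χ (gn_irr_one_of_isMulCommutative χ) x y
    · intro x y χ hx hy ⟨r, s, a, b, hr, hs, hrs, hxo, hyo⟩
      by_cases hχ : (χ : G → ℂ) 1 = 1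
      · exact irr_linear_mul χ hχ x y
      have hvan := mcp_backward_struct p P A hPn hcyc hAcop hsup hCc hDn hCD hfpf χ hχ
      have hmemP : ∀ z : G, z ∈ (P : Subgroup G) → ∃ k, orderOf z = p ^ k := by
        intro z hz
        obtain ⟨k, hk⟩ := IsPGroup.iff_orderOf.mp P.isPGroup' ⟨z, hz⟩
        exact ⟨k, by rw [← hk]; exact (Subgroup.orderOf_coe ⟨z, hz⟩)⟩
      have hnotboth : ¬ (x ∈ (P : Subgroup G) ∧ y ∈ (P : Subgroup G)) := by
        rintro ⟨hxP, hyP⟩
        obtain ⟨k, hk⟩ := hmemP x hxP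
        obtain ⟨l, hl⟩ := hmemP y hyP
        exact hrs ((mcp_prime_eq hx hr hp.out hxo hk).trans (mcp_prime_eq hy hs hp.out hyo hl).symm)
      have hxy : x * y ∉ (P : Subgroup G) := by
        intro hxyP
        haveI := hPn
        apply hnotboth
        have h1 : ((x : G) : G ⧸ (P : Subgroup G)) = ((y : G) : G ⧸ (P : Subgroup G))⁻¹ := by
          have := (QuotientGroup.eq_one_iff (N := (P : Subgroup G)) (x * y)).mpr hxyP
          rw [QuotientGroup.mk_mul] at this
          exact eq_inv_of_mul_eq_one_left this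
        have h2 : orderOf ((x : G) : G ⧸ (P : Subgroup G)) ∣ r ^ a := by
          rw [← hxo]
          exact orderOf_map_dvd (QuotientGroup.mk' (P : Subgroup G)) x
        have h3 : orderOf ((x : G) : G ⧸ (P : Subgroup G)) ∣ s ^ b := by
          rw [h1, orderOf_inv, ← hyo]
          exact orderOf_map_dvd (QuotientGroup.mk' (P : Subgroup G)) y
        have hcop : (r ^ a).Coprime (s ^ b) :=
          Nat.Coprime.pow _ _ ((Nat.coprime_primes hr hs).mpr hrs)
        have h4 : orderOf ((x : G) : G ⧸ (P : Subgroup G)) = 1 :=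
          Nat.eq_one_of_dvd_coprimes hcop h2 h3
        have hxP : x ∈ (P : Subgroup G) :=
          (QuotientGroup.eq_one_iff x).mp (orderOf_eq_one_iff.mp h4)
        refine ⟨hxP, ?_⟩
        have : y = x⁻¹ * (x * y) := by group
        rw [this]
        exact (P : Subgroup G).mul_mem ((P : Subgroup G).inv_mem hxP) hxyP
      rw [hvan (x * y) hxy]
      by_cases hxP : x ∈ (P : Subgroup G)
      · have hyP : y ∉ (P : Subgroup G) := fun h => hnotboth ⟨hxP, h⟩
        rw [hvan y hyP, mul_zero]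
      · rw [hvan x hxP, zero_mul]

end

end Cfsg.Agent.Lib.Helper25
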