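import Mathlib
import Cfsg.Agent.Lib.helper7.NCV.Defs
import Cfsg.Agent.Lib.Helper1.NCVA5core

/-!
# Project NCV (S3894, designer helper7), row A11 (LRROW), helper25: corrected statement
(with the hypothesis `hur : r ᵥ* u = r`, cf. helper1's correction of A5), on `ncva5_core`.
-/

set_option autoImplicit false

namespace Cfsg.Agent.Lib.helper7.NCV

open Matrix

universe u

variable {F : Type u} [Field F] {n : ℕ}

theorem ncva11_vecMul_inv (u : GL (Fin n) F) (w : Fin n → F) :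
    (w ᵥ* (u : Matrix (Fin n) (Fin n) F)) ᵥ* ((u⁻¹ : GL (Fin n) F) : Matrix (Fin n) (Fin n) F) = w := by
  rw [Matrix.vecMul_vecMul, ← Units.val_mul, mul_inv_cancel, Units.val_one, Matrix.vecMul_one]

theorem ncva11_vecMul_inv' (u : GL (Fin n) F) (w : Fin n → F) :
    (w ᵥ* ((u⁻¹ : GL (Fin n) F) : Matrix (Fin n) (Fin n) F)) ᵥ* (u : Matrix (Fin n) (Fin n) F) = w := by
  rw [Matrix.vecMul_vecMul, ← Units.val_mul, inv_mul_cancel, Units.val_one, Matrix.vecMul_one]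

/-- **A11 (LRROW)**, with the hypothesis `hur : r ᵥ* u = r`. -/
theorem ncva11_core (X : Subgroup (GL (Fin n) F)) [Group.IsNilpotent ↥X] (u : GL (Fin n) F)
    (hu : u ∈ X) (r : Fin n → F) (hur : r ᵥ* (u : Matrix (Fin n) (Fin n) F) = r)
    (hfix : ∀ w : Fin n → F, w ᵥ* (u : Matrix (Fin n) (Fin n) F) = w → ∃ c : F, w = c • r)
    (heig : ∀ (c : F) (w : Fin n → F), w ≠ 0 →
      w ᵥ* (u : Matrix (Fin n) (Fin n) F) = c • w → c = 1) :
    ∀ x ∈ X, ∃ c : F, r ᵥ* (x : Matrix (Fin n) (Fin n) F) = c • r := by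
  have key := ncva5_core (F := F) (Γ := ↥X) (V := Fin n → F)
    (fun x w => w ᵥ* (((x : GL (Fin n) F)⁻¹ : GL (Fin n) F) : Matrix (Fin n) (Fin n) F))
    (by
      intro w
      show w ᵥ* ((((1 : ↥X) : GL (Fin n) F)⁻¹ : GL (Fin n) F) : Matrix (Fin n) (Fin n) F) = w
      rw [Subgroup.coe_one, inv_one, Units.val_one, Matrix.vecMul_one])
    (by
      intro x y w
      show w ᵥ* ((((x * y : ↥X) : GL (Fin n) F)⁻¹ : GL (Fin n) F) : Matrix (Fin n) (Fin n) F) =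
        (w ᵥ* (((y : GL (Fin n) F)⁻¹ : GL (Fin n) F) : Matrix (Fin n) (Fin n) F)) ᵥ*
          (((x : GL (Fin n) F)⁻¹ : GL (Fin n) F) : Matrix (Fin n) (Fin n) F)
      rw [Matrix.vecMul_vecMul, ← Units.val_mul, Subgroup.coe_mul, _root_.mul_inv_rev])
    (by
      intro x c w
      show (c • w) ᵥ* (((x : GL (Fin n) F)⁻¹ : GL (Fin n) F) : Matrix (Fin n) (Fin n) F) =
        c • (w ᵥ* (((x : GL (Fin n) F)⁻¹ : GL (Fin n) F) : Matrix (Fin n) (Fin n) F))
      rw [Matrix.smul_vecMul])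
    ⟨u, hu⟩ r
    (by
      show r ᵥ* ((u⁻¹ : GL (Fin n) F) : Matrix (Fin n) (Fin n) F) = r
      conv_lhs => rw [← hur]
      exact ncva11_vecMul_inv u r)
    (by
      intro w hw
      apply hfix
      have hw' : w ᵥ* ((u⁻¹ : GL (Fin n) F) : Matrix (Fin n) (Fin n) F) = w := hw
      conv_lhs => rw [← hw']
      exact ncva11_vecMul_inv' u w)
    (by
      intro c w hw0 hw
      have hw' : w ᵥ* ((u⁻¹ : GL (Fin n) F) : Matrix (Fin n) (Fin n) F) = c • w := hw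
      have h2 : w = c • (w ᵥ* (u : Matrix (Fin n) (Fin n) F)) := by
        have := ncva11_vecMul_inv' u w
        rw [hw', Matrix.smul_vecMul] at this
        exact this.symm
      have hc0 : c ≠ 0 := by
        rintro rfl
        rw [zero_smul] at h2
        exact hw0 h2
      have h3 : w ᵥ* (u : Matrix (Fin n) (Fin n) F) = c⁻¹ • w := by
        conv_rhs => rw [h2]
        rw [smul_smul, inv_mul_cancel₀ hc0, one_smul]
      have h4 := heig c⁻¹ w hw0 h3
      rw [inv_eq_one] at h4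
      exact h4)
  intro x hx
  obtain ⟨c, hc⟩ := key (⟨x, hx⟩⁻¹ : ↥X)
  refine ⟨c, ?_⟩
  have e : ((((⟨x, hx⟩⁻¹ : ↥X) : GL (Fin n) F)⁻¹ : GL (Fin n) F) : Matrix (Fin n) (Fin n) F) =
      (x : Matrix (Fin n) (Fin n) F) := by
    rw [Subgroup.coe_inv, inv_inv]
  have hc' : r ᵥ* ((((⟨x, hx⟩⁻¹ : ↥X) : GL (Fin n) F)⁻¹ : GL (Fin n) F) :
      Matrix (Fin n) (Fin n) F) = c • r := hc
  rw [e] at hc'
  exact hc'

end Cfsg.Agent.Lib.helper7.NCV
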