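import Mathlib
import Cfsg.Agent.Lib.helper7.NCV.Defs

/-!
# Project NCV (S3894, designer helper7), row C16 (EXS): `exists_s` (helper25).
-/

set_option autoImplicit false

namespace Cfsg.Agent.Lib.helper7.NCV

open Matrix

universe u

variable {F : Type u} [Field F] {n : ℕ}

/-- **C16 (EXS).** `q ≥ 4`: some unit has `s² ≠ 1`. -/
theorem exists_s [Fintype F] (hq : 4 ≤ Fintype.card F) : ∃ s : Fˣ, (s : F) ^ 2 ≠ 1 := by
  classical
  have hex : ∃ z : F, z ∉ ({0, 1, -1} : Finset F) := by
    by_contra h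
    push Not at h
    have hsub : (Finset.univ : Finset F) ⊆ {0, 1, -1} := fun z _ => h z
    have h1 := Finset.card_le_card hsub
    have h2 : ({0, 1, -1} : Finset F).card ≤ 3 := Finset.card_le_three
    rw [Finset.card_univ] at h1
    omega
  obtain ⟨z, hz⟩ := hex
  simp only [Finset.mem_insert, Finset.mem_singleton, not_or] at hz
  obtain ⟨h0, h1, hm1⟩ := hz
  refine ⟨Units.mk0 z h0, ?_⟩
  rw [Units.val_mk0]
  intro h
  have h2 : (z - 1) * (z + 1) = 0 := by
    have : (z - 1) * (z + 1) = z ^ 2 - 1 := by ring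
    rw [this, h, sub_self]
  rcases mul_eq_zero.mp h2 with h' | h'
  · exact h1 (sub_eq_zero.mp h')
  · exact hm1 (eq_neg_of_add_eq_zero_left h')

end Cfsg.Agent.Lib.helper7.NCV
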