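import Cfsg.Agent.Lib.Helper16.O9H.Defs

set_option autoImplicit false

/-!
# O9H row KIRR (helper25): `irr_dichotomy`.
-/

namespace Cfsg.Agent.Lib.Helper16.O9H

open Matrix Polynomial Module

variable {ι : Type} [Fintype ι] [DecidableEq ι] {F : Type*} [Field F]

/-- KIRR [S-M]: `f` irreducible: `IsCoprime f P` or `f ∣ P` (`Irreducible.coprime_or_dvd`); if `u f + v P = 1` then on `ker f(L)`: `x = v(L) (P(L) x)`. -/
theorem irr_dichotomy (g : GL ι F) (f P : F[X]) (hf : Irreducible f) :
    f ∣ P ∨ ∀ x ∈ kerP g f, aeval (linOf g) P x = 0 → x = 0 := by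
  rcases hf.isCoprime_or_dvd P with hc | hd
  · right
    intro x hx hPx
    obtain ⟨u, v, huv⟩ := hc
    have hfx : aeval (linOf g) f x = 0 := LinearMap.mem_ker.mp hx
    have h1 : aeval (linOf g) (u * f + v * P) x = x := by
      rw [huv]; simp
    rw [map_add, map_mul, map_mul] at h1
    simp only [LinearMap.add_apply, Module.End.mul_apply, hfx, hPx, map_zero, add_zero] at h1
    exact h1.symm
  · left; exact hd

end Cfsg.Agent.Lib.Helper16.O9H
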