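import Mathlib
import Cfsg.Prelude.Def_GeometricClasses
import Cfsg.Agent.Lib.Helper27.ASC.Defs
import Cfsg.Agent.Lib.helper23.ASCO.Defs
import Cfsg.Agent.Lib.Lead.Reindex
import Cfsg.Agent.Lib.Helper25.O9.Defs
import Cfsg.Agent.Lib.Helper24.ASCOTRND
import Cfsg.Agent.Lib.Helper26.ASOTR2

set_option autoImplicit false
set_option linter.unusedVariables false
set_option linter.unusedSectionVars false

/-!
# Project O9 (leader: helper25), piece TRD : `classDec3_transport`
-/

namespace Cfsg.Agent.Lib.Helper25.O9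

open Cfsg Cfsg.Geo Cfsg.Agent.Lib.Helper27.ASC Cfsg.Agent.Lib.helper23.ASCO
open scoped MatrixGroups Matrix

variable {n : ℕ} {F : Type*} [Field F] [Fintype F]

section transport

open Cfsg.Agent.Lib.Lead

variable {ι κ : Type} [Fintype ι] [DecidableEq ι] [Fintype κ] [DecidableEq κ]

/-- TRD -/
theorem classDec3_transport (e : ι ≃ κ) (Q : (ι → F) → F) (H : Subgroup (GL ι F))
    (h : ClassDec3 (fun x : κ → F => Q (x ∘ e)) (H.map (RI.glReindex (F := F) e).toMonoidHom)) :
    ClassDec3 Q H := by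
  obtain ⟨D', hD, hH⟩ := h
  refine ⟨fun i => (D' i).map (LinearEquiv.funCongrLeft F F e : (κ → F) →ₗ[F] (ι → F)),
    Cfsg.Agent.Lib.Helper25.ASO.asotr2_odecomp e Q D' hD, ?_⟩
  exact ascotrnd_group e Q H _ _ (Cfsg.Agent.Lib.Helper25.ASO.asotr2_stab e D') hH

end transport

end Cfsg.Agent.Lib.Helper25.O9
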