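import Mathlib
import Cfsg.Prelude.Def_GeometricClasses
import Cfsg.Agent.Lib.Helper27.ASC.Defs
import Cfsg.Agent.Lib.helper23.ASCO.Defs
import Cfsg.Agent.Lib.Lead.Reindex
import Cfsg.Agent.Lib.Helper25.O9.Defs
import Cfsg.Agent.Lib.Helper24.ASCOTRND
import Cfsg.Agent.Lib.helper6.ASOTR3

set_option autoImplicit false
set_option linter.unusedVariables false
set_option linter.unusedSectionVars false

/-!
# Project O9 (leader: helper25), piece TRF : `classFld3_transport`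
-/

namespace Cfsg.Agent.Lib.Helper25.O9

open Cfsg Cfsg.Geo Cfsg.Agent.Lib.Helper27.ASC Cfsg.Agent.Lib.helper23.ASCO
open scoped MatrixGroups Matrix

variable {n : ℕ} {F : Type*} [Field F] [Fintype F]

section transport

open Cfsg.Agent.Lib.Lead

variable {ι κ : Type} [Fintype ι] [DecidableEq ι] [Fintype κ] [DecidableEq κ]

/-- TRF -/
theorem classFld3_transport (e : ι ≃ κ) (Q : (ι → F) → F) (H : Subgroup (GL ι F))
    (h : ClassFld3 (fun x : κ → F => Q (x ∘ e)) (H.map (RI.glReindex (F := F) e).toMonoidHom)) :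
    ClassFld3 Q H := by
  obtain ⟨K', hK', hsa, hH⟩ := h
  refine ⟨Cfsg.Agent.Lib.Helper18.ASP.asptrc8K e.symm K',
    Cfsg.Agent.Lib.Helper18.ASP.asptrc8_field e.symm 3 K' hK', ?_, ?_⟩
  · intro k hk u v
    obtain ⟨k', hk', rfl⟩ := Cfsg.Agent.Lib.Helper18.ASP.asptrc8_exists e.symm K' k hk
    have h1 := hsa k' hk' (u ∘ e.symm) (v ∘ e.symm)
    rw [Cfsg.Agent.Lib.Helper25.ASO.asotr3_polar, Cfsg.Agent.Lib.Helper25.ASO.asotr3_polar] at h1
    have e1 : ∀ w : ι → F, (k' *ᵥ (w ∘ e.symm)) ∘ e = Matrix.reindexAlgEquiv F F e.symm k' *ᵥ w := by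
      intro w
      rw [← Cfsg.Agent.Lib.Helper18.ASP.asptrc8_mulVec e.symm k' w]
      funext i
      simp
    have e2 : ∀ w : ι → F, (w ∘ e.symm) ∘ e = w := by
      intro w
      funext i
      simp
    rw [e1, e1, e2, e2] at h1
    exact h1
  · apply ascotrnd_group e Q H _ _ _ hH
    rw [Cfsg.Agent.Lib.Helper18.ASP.asptrc8_map_norm, Cfsg.Agent.Lib.Helper25.ASO.asotr3_K_K]

end transport

end Cfsg.Agent.Lib.Helper25.O9
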