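import Mathlib
import Cfsg.Prelude.Def_GeometricClasses
import Cfsg.Agent.Lib.Helper27.ASC.Defs
import Cfsg.Agent.Lib.helper23.ASCO.Defs
import Cfsg.Agent.Lib.Helper25.ASO.Defs
import Cfsg.Agent.Lib.Helper25.O9.Defs
-- the landed pieces of project O9
import Cfsg.Agent.Lib.Helper1.O9TRW
import Cfsg.Agent.Lib.Helper10.O9D3Q3
import Cfsg.Agent.Lib.Helper10.O9DEC
import Cfsg.Agent.Lib.Helper11.O9PERP
import Cfsg.Agent.Lib.Helper11.O9WR
import Cfsg.Agent.Lib.Helper13.O9CENT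
import Cfsg.Agent.Lib.Helper13.O9FLD
import Cfsg.Agent.Lib.Helper25.O9TRD
import Cfsg.Agent.Lib.Helper25.O9TRF
-- project ASO (S5673) and the landed pieces of ASC / ASCO
import Cfsg.Agent.Lib.Helper25.ASOMain
import Cfsg.Agent.Lib.helper23.ASCOMain
import Cfsg.Agent.Lib.helper23.ASCOFinal

/-!
# Project O9 : assembly of S5835 from the piece statements of `Skel.lean.txt` and `aso_main` (project ASO)
-/

set_option autoImplicit false
set_option linter.unusedVariables false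
set_option linter.unusedSectionVars false

namespace Cfsg.Agent.Lib.Helper25.O9

open Cfsg Cfsg.Geo Cfsg.Agent.Lib.Helper27.ASC Cfsg.Agent.Lib.helper23.ASCO Cfsg.Agent.Lib.Helper25.ASO
open scoped MatrixGroups Matrix

variable {F : Type*} [Field F] [Fintype F]

/-- a totally singular subspace is proper -/
theorem o9_ts_ne_top {n : ℕ} (hn : 0 < n) (Q : QuadraticForm F (Fin n → F))
    (hQ : (QuadraticMap.polarBilin Q).Nondegenerate) (W : Submodule F (Fin n → F))
    (hW : IsTotallySingularQuad (⇑Q) W) : W ≠ ⊤ := by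
  rintro rfl
  have hQ0 : ∀ v, Q v = 0 := fun v => hW v Submodule.mem_top
  have hB : QuadraticMap.polarBilin Q = 0 := by
    ext u v
    simp [QuadraticMap.polar, hQ0]
  have hne : (Pi.single (⟨0, hn⟩ : Fin n) (1 : F) : Fin n → F) ≠ 0 := by
    intro h
    have := congrFun h ⟨0, hn⟩
    simp at this
  apply hne
  apply hQ.1
  intro y
  rw [hB]
  rfl

theorem o9_arith_dec {t k : ℕ} (h : t * k = 9) (hk : 1 < k) (ht : 2 ≤ t) : t = 3 ∧ k = 3 := by
  have ht9 : t ≤ 9 := by nlinarith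
  have hk9 : k ≤ 9 := by nlinarith
  interval_cases t <;> interval_cases k <;> simp_all

theorem o9_arith_pow {k t : ℕ} (h : 9 = k ^ t) (hk : 3 ≤ k) (ht : 2 ≤ t) : k = 3 ∧ t = 2 := by
  have h1 : k ^ 2 ≤ k ^ t := Nat.pow_le_pow_right (by omega) ht
  have hk3 : k ≤ 3 := by nlinarith
  have hk' : k = 3 := by omega
  subst hk'
  refine ⟨rfl, ?_⟩
  by_contra hne
  have h3 : 3 ≤ t := by omega
  have h2 : (3 : ℕ) ^ 3 ≤ 3 ^ t := Nat.pow_le_pow_right (by omega) h3
  omega

theorem o9_five_le (h2 : (2 : F) ≠ 0) (h3 : Fintype.card F ≠ 3) : 5 ≤ Fintype.card F := by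
  have hodd := asco_odd_card h2
  have h1 : 1 < Fintype.card F := Fintype.one_lt_card
  obtain ⟨j, hj⟩ := hodd
  omega

/-- The theorem over the index type `Fin 9`. -/
theorem o9_fin (h2 : (2 : F) ≠ 0) (Q : QuadraticForm F (Fin 9 → F))
    (hQ : (QuadraticMap.polarBilin Q).Nondegenerate) (hG : GramPrime (⇑Q)) (H : Subgroup (GL (Fin 9) F))
    (hH : IsMaximalIn (omegaGL (⇑Q)) H) : ConclO9 (⇑Q) H := by
  classical
  have hodd : Odd 9 := ⟨4, rfl⟩
  have hHΩ : H ≤ omegaGL (⇑Q) := hH.1.le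
  have hHO : H ≤ isometryGroup F (⇑Q) := hHΩ.trans (omega_le_iso _)
  rcases aso_main hodd (by norm_num) h2 Q hQ hG H hHΩ with ⟨M, hM, hle⟩ | hres
  swap
  · exact Or.inr (Or.inr (Or.inr (Or.inr (Or.inr (Or.inr (Or.inr hres))))))
  rcases hM with ⟨W, h0, hts, rfl⟩ | ⟨W, h0, h1, hnd, rfl⟩ | ⟨t, k, D, hk, hD, rfl⟩ | ⟨t, D, hp, hD, rfl⟩ |
    ⟨r, K, hr, hnr, hK, hsa, rfl⟩ | ⟨n₁, n₂, e, P, f₁, f₂, h1, h2', -, -, -, rfl⟩ | ⟨F₀, r, P, hr, hc, hrat, rfl⟩ |
    ⟨k, t, e, P, f₁, hk, ht, h33, hf₁, hT, rfl⟩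
  · -- totally singular subspaces
    exact Or.inl ⟨W, h0, hts, max_principle hH (hle.trans inf_le_left)
      (omega_not_le_stab (by norm_num) h2 Q hQ W h0 (o9_ts_ne_top (by norm_num) Q hQ W hts))⟩
  · -- non-degenerate subspaces
    obtain ⟨W', h0', h1', hev, hnd', hst⟩ := ond_even hodd h2 Q hQ W h0 h1 hnd
    have hW' : H ≤ subspaceStabilizer W' := hle.trans hst
    by_cases hex : Fintype.card F = 3 ∧ Module.finrank F W' = 2 ∧ IsPlusTypeOn (⇑Q) W'
    · obtain ⟨hq, hd, hpl⟩ := hex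
      obtain ⟨W'', h0'', h1'', hev'', hnd'', hd'', hW''⟩ :=
        plus_plane_q3 hodd (by norm_num) Q hQ hq hHO W' hnd' hd hpl hW'
      exact Or.inr (Or.inl ⟨W'', h0'', hev'', hnd'', fun h => hd'' h.2.1,
        max_principle hH hW'' (omega_not_le_stab (by norm_num) h2 Q hQ W'' h0'' h1'')⟩)
    · exact Or.inr (Or.inl ⟨W', h0', hev, hnd', hex,
        max_principle hH hW' (omega_not_le_stab (by norm_num) h2 Q hQ W' h0' h1')⟩)
  · -- blocks of dimension `k > 1` : three blocks of dimension three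
    have hcard := Cfsg.Agent.Lib.Helper28.Ld.card_eq D hD.decomp.decomp
    obtain ⟨rfl, rfl⟩ := o9_arith_dec hcard hk hD.decomp.decomp.two_le
    by_cases hq : Fintype.card F = 3
    · obtain ⟨D', hD', hst⟩ := dec3_q3 h2 Q hQ hq D hD
      have hp : (Fintype.card F).Prime := by rw [hq]; norm_num
      exact Or.inr (Or.inr (Or.inl ⟨hp, D', hD', max_principle hH (hle.trans hst)
        (omega_not_le_frame (by norm_num) h2 Q hQ D' hD'.decomp.decomp)⟩))
    · exact Or.inr (Or.inr (Or.inr (Or.inl ⟨o9_five_le h2 hq, D, hD, max_principle hH (hle.trans inf_le_left)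
        (omega_not_le_dec (by norm_num) h2 Q hQ D hD.decomp.decomp)⟩)))
  · -- frames of lines over a prime field
    have ht : t = 9 := aso_frame_cast (⇑Q) D hD
    subst ht
    exact Or.inr (Or.inr (Or.inl ⟨hp, D, hD, max_principle hH (hle.trans inf_le_left)
      (omega_not_le_frame (by norm_num) h2 Q hQ D hD.decomp.decomp)⟩))
  · -- extension fields : the degree is three
    have hdvd : r ∣ 9 := field_finrank_dvd (by norm_num) K hK
    have hr3 : r = 3 := by
      have h39 : (9 : ℕ) = 3 ^ 2 := by norm_num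
      rw [h39] at hdvd
      exact (Nat.prime_dvd_prime_iff_eq hr Nat.prime_three).mp (hr.dvd_of_dvd_pow hdvd)
    subst hr3
    exact Or.inr (Or.inr (Or.inr (Or.inr (Or.inl ⟨K, hK, hsa, max_principle hH (hle.trans inf_le_left)
      (omega_not_le_field (by norm_num) h2 Q hQ (by norm_num) K hK)⟩))))
  · -- tensor products `3 ≤ n₁ < n₂` : impossible in dimension nine
    exfalso
    have hcard : 9 = n₁ * n₂ := by
      have := Fintype.card_congr e
      simpa using this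
    nlinarith
  · -- subfields
    have h1' : F₀ ≠ ⊤ := asco_ne_top_of_card_pow hr hc
    exact Or.inr (Or.inr (Or.inr (Or.inr (Or.inr (Or.inl ⟨F₀, r, P, hr, hc, hrat,
      max_principle hH (hle.trans inf_le_left) (omega_not_le_subfield (by norm_num) h2 Q hQ F₀ h1' P)⟩)))))
  · -- tensor powers : `k = 3`, `t = 2`
    have hcard : 9 = k ^ t := by
      have := Fintype.card_congr e
      simpa using this
    obtain ⟨rfl, rfl⟩ := o9_arith_pow hcard hk ht
    have hq : Fintype.card F ≠ 3 := fun h => h33 ⟨h, rfl⟩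
    exact Or.inr (Or.inr (Or.inr (Or.inr (Or.inr (Or.inr (Or.inl ⟨o9_five_le h2 hq, e, P, f₁, hf₁, hT,
      max_principle hH (hle.trans inf_le_left) (omega_not_le_wreath32 h2 Q hQ e P)⟩))))))

section final

open Cfsg.Agent.Lib.Lead Cfsg.Agent.Lib.Helper16

/-- The theorem for any index type of cardinality nine. -/
theorem o9_any {ι : Type} [Fintype ι] [DecidableEq ι] (hcard : Fintype.card ι = 9) (h2 : (2 : F) ≠ 0)
    (Q : QuadraticForm F (ι → F)) (hQ : (QuadraticMap.polarBilin Q).Nondegenerate)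
    (hG : GramPrime (⇑Q)) (H : Subgroup (GL ι F)) (hH : IsMaximalIn (omegaGL (⇑Q)) H) :
    ConclO9 (⇑Q) H := by
  let e : ι ≃ Fin 9 := Fintype.equivFinOfCardEq hcard
  have hH' := asco_isMaximalIn_map (RI.glReindex (F := F) e) _ _ hH
  rw [Cfsg.Agent.Lib.Helper28.OTrans.map_omegaGL] at hH'
  have hc := o9_fin h2 (RI.qReindex e Q) (RI.qReindex_nondeg e Q hQ)
    (gramPrime_reindex e (⇑Q) hG) _ hH'
  rcases hc with h | h | ⟨hp, h⟩ | ⟨h5, h⟩ | h | h | ⟨h5, h⟩ | h
  · exact Or.inl (classTS_transport e (⇑Q) H h)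
  · exact Or.inr (Or.inl (classND_transport e (⇑Q) H h))
  · exact Or.inr (Or.inr (Or.inl ⟨hp, classFrame_transport e 9 (⇑Q) H h⟩))
  · exact Or.inr (Or.inr (Or.inr (Or.inl ⟨h5, classDec3_transport e (⇑Q) H h⟩)))
  · exact Or.inr (Or.inr (Or.inr (Or.inr (Or.inl (classFld3_transport e (⇑Q) H h)))))
  · exact Or.inr (Or.inr (Or.inr (Or.inr (Or.inr (Or.inl (classSub_transport e (⇑Q) H h))))))
  · exact Or.inr (Or.inr (Or.inr (Or.inr (Or.inr (Or.inr (Or.inl ⟨h5, classPow32_transport e (⇑Q) H h⟩))))))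
  · exact Or.inr (Or.inr (Or.inr (Or.inr (Or.inr (Or.inr (Or.inr (residual_transport e H h)))))))

/-- the standard form in dimension nine -/
theorem o9_std (hodd : Odd (Fintype.card F)) (H : Subgroup (GL (Unit ⊕ (Fin 4 ⊕ Fin 4)) F))
    (hH : IsMaximalIn (omegaGL (quadFormOdd 4 F)) H) : ConclO9 (quadFormOdd 4 F) H := by
  have h2 : (2 : F) ≠ 0 := Cfsg.Agent.S0292.two_ne_zero_of_odd rfl hodd
  have hcard : Fintype.card (Unit ⊕ (Fin 4 ⊕ Fin 4)) = 9 := by
    simp only [Fintype.card_sum, Fintype.card_fin, Fintype.card_unit]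
  have := o9_any hcard h2 (qfOdd 4 F) (Cfsg.Agent.S0292.nondeg_odd h2 4)
    (by rw [qfOdd_coe]; exact gramPrime_quadFormOdd 4) H (by rw [qfOdd_coe]; exact hH)
  rw [qfOdd_coe] at this
  exact this

end final

end Cfsg.Agent.Lib.Helper25.O9
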