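import Mathlib
import Cfsg.Agent.Lib.Helper18.OCT.Defs

/-!
# OCG row G2 (verbatim): `matOf f * matOf g = matOf (f ∘ g)` for linear `f`, `g`

Via `LinearMap.toMatrix'`: `matOf ⇑L = LinearMap.toMatrix' L` (`ocgg2_matOf_eq`).
-/

set_option autoImplicit false

namespace Cfsg.Agent.Lib.Helper18.OCT

open Cfsg.Lie Matrix
open scoped MatrixGroups

variable {F : Type*} [Field F]

/-- `matOf` of (the function of) a linear map is its standard matrix. -/
theorem ocgg2_matOf_eq (L : Oct F →ₗ[F] Oct F) : matOf (⇑L) = LinearMap.toMatrix' L := by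
  ext i j
  rw [LinearMap.toMatrix'_apply]
  simp only [matOf, Matrix.of_apply]

/-- own copy of G1: `matOf f *ᵥ x = f x`. -/
theorem ocgg2_mulVec (f : Oct F → Oct F) (hf : IsLinearMap F f) (x : Oct F) : matOf f *ᵥ x = f x := by
  have h1 : matOf f = LinearMap.toMatrix' (hf.mk' f) := ocgg2_matOf_eq (hf.mk' f)
  rw [h1, LinearMap.toMatrix'_mulVec]
  rfl

/-- G2 [S-M]. -/
theorem matOf_comp (f g : Oct F → Oct F) (hf : IsLinearMap F f) (hg : IsLinearMap F g) :
    matOf f * matOf g = matOf (f ∘ g) := by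
  have h1 : matOf f = LinearMap.toMatrix' (hf.mk' f) := ocgg2_matOf_eq (hf.mk' f)
  have h2 : matOf g = LinearMap.toMatrix' (hg.mk' g) := ocgg2_matOf_eq (hg.mk' g)
  have h3 : matOf (f ∘ g) = LinearMap.toMatrix' ((hf.mk' f).comp (hg.mk' g)) :=
    ocgg2_matOf_eq ((hf.mk' f).comp (hg.mk' g))
  rw [h1, h2, h3, LinearMap.toMatrix'_comp]

end Cfsg.Agent.Lib.Helper18.OCT
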