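import Mathlib
import Cfsg.Agent.Lib.helper8.OME.Defs
import Cfsg.Agent.Lib.Helper28.OMESCALRED
import Cfsg.Agent.Lib.Helper20.OMESTDCTX
import Cfsg.Agent.Lib.Helper27.OMEARITHSUFF
import Cfsg.Agent.Lib.helper17.OPEQCYCTY
import Cfsg.Agent.Lib.Helper18.OPESUFFABS
import Cfsg.Agent.Lib.helper14.ODNSQd

/-!
# OME row ODDSUFF (helper25): `ome_odd_suff`, verbatim (twin of OPE `odd_suff`, Helper25/OPEODDSUFFcore.lean).
-/

set_option autoImplicit false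
set_option linter.unusedVariables false

namespace Cfsg.Agent.Lib.helper8.OME

open Polynomial Module Cfsg.Agent.Lib.Helper13.S5955 Cfsg.Agent.Lib.helper15.S5972
  Cfsg.Agent.Lib.Helper18.OPE
open scoped Matrix

/-- ODDSUFF core: the instances of SCALRED, STDCTX, STDFACTS, ARITHSUFF as hypotheses (OPE `q_adm`, `q_suff_abs` cited). -/
theorem omeoddsuff_core {F : Type*} [Field F] [Fintype F] {p : ℕ} [Fact p.Prime] [CharP F p]
    (d m : ℕ) (hme : Even m) (a b : F) (r : ℕ) [Fact r.Prime]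
    (hrp : r ≠ p) (hr2 : r ≠ 2) (i c : ℕ)
    (hi : i = orderOf ((Fintype.card F : ℕ) : ZMod r)) (hc : c = if Even i then i else 2 * i)
    (hSCAL : ∀ (x : GL (MI d) F), x ∈ Cfsg.isometryGroup F (Cfsg.quadFormMinus (d - 1) F a b) →
      ∀ z : F, ((x ^ r : GL (MI d) F) : Matrix (MI d) (MI d) F) = z • (1 : Matrix (MI d) (MI d) F) →
        (∀ z : F, (x : Matrix (MI d) (MI d) F) ≠ z • (1 : Matrix (MI d) (MI d) F)) →
        (Odd r → ∃ x' : GL (MI d) F, x' ∈ Cfsg.isometryGroup F (Cfsg.quadFormMinus (d - 1) F a b) ∧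
          x' ^ r = 1 ∧ x' ≠ 1 ∧
          ∀ W : Submodule F (MI d → F),
            W.map (Matrix.toLin' (x' : Matrix (MI d) (MI d) F)) ≤ W →
            W.map (Matrix.toLin' (x : Matrix (MI d) (MI d) F)) ≤ W))
    (hCTX : ∀ (x : GL (MI d) F), x ∈ Cfsg.isometryGroup F (Cfsg.quadFormMinus (d - 1) F a b) →
      x ^ r = 1 → QCtx r (Qm d F a b) (Matrix.toLin' (x : Matrix (MI d) (MI d) F)))
    (hV : finrank F (MI d → F) = 2 * d)
    (hτ : QTy (Qm d F a b) (⊤ : Submodule F (MI d → F)) (-1))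
    (hARITH : ∀ A : ℕ, 1 ≤ A → c * A ≤ 2 * d → (c * A = 2 * d → sg i A = -1) →
      Fits c i (-1) d m (-1) A) :
    AllFixM F d m (-1) r a b := by
  intro x hxΩ ⟨z, hz⟩ hns
  have hx : x ∈ Cfsg.isometryGroup F (Cfsg.quadFormMinus (d - 1) F a b) :=
    Cfsg.Agent.Lib.helper14.ODNSQ.odnsq_omegaGL_le _ x hxΩ
  have hrodd : Odd r := (Fact.out : r.Prime).odd_of_ne_two hr2
  obtain ⟨x', hx', hx'r, hx'1, hx'W⟩ := hSCAL x hx z hz hns hrodd
  have hctx := hCTX x' hx' hx'r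
  obtain ⟨A, hAdim, hA, hAs, hA1⟩ := q_adm hrp hr2 hctx d hV (-1) hτ i c hi hc
  have hy1 : Matrix.toLin' (x' : Matrix (MI d) (MI d) F) ≠ 1 := by
    intro h1
    apply hx'1
    apply Units.ext
    apply Matrix.toLin'.injective
    rw [h1, Units.val_one, Matrix.toLin'_one]
    rfl
  have hfit := hARITH A (hA1 hy1) hA hAs
  obtain ⟨W, hWinv, hWnd, hWm, hWty⟩ :=
    q_suff_abs hrp hr2 hctx d m hV (-1) hτ hme i c hi hc A hAdim (-1) (Or.inr rfl) hfit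
  refine ⟨W, hWm, hWnd, hWty, hx'W W ?_⟩
  rintro _ ⟨w, hw, rfl⟩
  exact hWinv w hw

/-- ODDSUFF [M-L] (twin of OPE `odd_suff`, Helper25/OPEODDSUFFcore.lean): SCALRED gives `x'` of order `r`; STDCTX + STDFACTS; OPE `q_adm` with `τ = -1` gives `A` (`1 ≤ A` as `toLin' x' ≠ 1`); ARITHSUFF; OPE `q_suff_abs`; the `W` is `x`-invariant by SCALRED.
(`Cfsg.Geo.omegaGL Q ≤ isometryGroup`: `Cfsg.Agent.Lib.helper14.ODNSQ.odnsq_omegaGL_le`.) -/
theorem ome_odd_suff {F : Type*} [Field F] [Fintype F] {p : ℕ} [Fact p.Prime] [CharP F p]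
    (d m : ℕ) (hd : 4 ≤ d) (hm : 2 ≤ m) (hme : Even m) (hmn : m + 2 ≤ 2 * d) (a b : F)
    (hab : ∀ x y : F, x ^ 2 + a * x * y + b * y ^ 2 = 0 → x = 0 ∧ y = 0) (r : ℕ) [Fact r.Prime]
    (hrp : r ≠ p) (hr2 : r ≠ 2) (i c : ℕ)
    (hi : i = orderOf ((Fintype.card F : ℕ) : ZMod r)) (hc : c = if Even i then i else 2 * i)
    (hR : RM i c d m) : AllFixM F d m (-1) r a b := by
  have hi1 : 1 ≤ i := hi ▸ Cfsg.Agent.Lib.Helper24.el_ord_pos (F := F) r hrp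
  obtain ⟨hV, hτ, -⟩ := ome_std_facts (F := F) d (by omega) a b hab
  exact omeoddsuff_core d m hme a b r hrp hr2 i c hi hc
    (fun x hx z hz hns => (ome_scal_red d a b r x hx z hz hns).2)
    (fun x hx hxr => ome_std_qctx d r a b hab x hx hxr) hV hτ
    (fun A hA1 hA hAs => ome_arith_suff i c d m hi1 hc hme hm hmn hR A hA1 hA hAs)

end Cfsg.Agent.Lib.helper8.OME
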