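import Mathlib
import Cfsg.Agent.Lib.Helper18.OPE.Defs
import Cfsg.Agent.Lib.Helper25.OPEEFIXEDcore
import Cfsg.Agent.Lib.helper17.OPEQTYEX

/-!
# OPE row EFIXED (helper25): `e_fixed`, verbatim (`= opeefixed_core` + QTYEX `qty_ex`).
-/

set_option autoImplicit false

namespace Cfsg.Agent.Lib.Helper18.OPE

open Polynomial Module Cfsg.Agent.Lib.Helper13.S5955 Cfsg.Agent.Lib.helper15.S5972

/-- EFIXED [M]: `K = ker N`, `I = range N ≤ K` and `I = K^⊥` (`⊆` by EBASIC, dimensions); a complement `C` of `I` in `K` is nondegenerate (`u ∈ C`, `u ⟂ C` ⇒ `u ⟂ K` ⇒ `u ∈ I ⊓ C`)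
of dimension `dim V - 2 rank N` (even: QTYIFF needs it; `dim V` is even as `B` is alternating nondegenerate, or add the parity to the hypotheses of your core); QTYEX inside `C`; `W ≤ K` is fixed pointwise. -/
theorem e_fixed {F : Type*} [Field F] [Fintype F] (h2 : (2 : F) = 0)
    {V : Type*} [AddCommGroup V] [Module F V] [FiniteDimensional F V]
    {Q : QuadraticForm F V} {x : Module.End F V} (h : QCtx 2 Q x) (hVe : Even (finrank F V))
    (e : ℕ) (he : Even e) (he0 : 0 < e)
    (hlt : e + 2 * finrank F (LinearMap.range (x - 1)) < finrank F V)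
    (s : ℤ) (hs : s = 1 ∨ s = -1) : QNDt Q x e s :=
  opeefixed_core h2 h hVe e he he0 hlt s hs
    (fun N hN hev heN => qty_ex Q N hN hev e he he0 heN s hs)

end Cfsg.Agent.Lib.Helper18.OPE
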