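import Mathlib
import Cfsg.Agent.Lib.Helper18.OPE.Defs2
import Cfsg.Agent.Lib.Helper24.OPESTDCTX
import Cfsg.Agent.Lib.helper17.OPEQCYCTY
import Cfsg.Agent.Lib.helper14.ODNSQd

/-!
# OPE row ODDSUFF (helper25), core: `odd_suff` with the instances of SCALRED (`scal_red`), ARITHSUFF (`arith_suff`) and SUFFABS (`q_suff_abs`) as hypotheses.
-/

set_option autoImplicit false
set_option linter.unusedVariables false

namespace Cfsg.Agent.Lib.Helper18.OPE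

open Polynomial Module Cfsg.Agent.Lib.Helper13.S5955 Cfsg.Agent.Lib.helper15.S5972
open scoped Matrix

/-- ODDSUFF core -/
theorem opeoddsuff_core {F : Type*} [Field F] [Fintype F] {p : ℕ} [Fact p.Prime] [CharP F p]
    (d m : ℕ) (hd : 4 ≤ d) (hm : 2 ≤ m) (hme : Even m) (hmd : m < d) (r : ℕ) [Fact r.Prime]
    (hrp : r ≠ p) (hr2 : r ≠ 2) (i c : ℕ)
    (hi : i = orderOf ((Fintype.card F : ℕ) : ZMod r)) (hc : c = if Even i then i else 2 * i)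
    (s : ℤ) (hs : s = 1 ∨ s = -1) (hR : RR i c d m s)
    (hSCAL : ∀ (x : GL (Fin d ⊕ Fin d) F), x ∈ Cfsg.isometryGroup F (Cfsg.quadFormPlus d F) →
      ∀ z : F, ((x ^ r : GL (Fin d ⊕ Fin d) F) : Matrix (Fin d ⊕ Fin d) (Fin d ⊕ Fin d) F) =
          z • (1 : Matrix (Fin d ⊕ Fin d) (Fin d ⊕ Fin d) F) →
        (∀ z : F, (x : Matrix (Fin d ⊕ Fin d) (Fin d ⊕ Fin d) F) ≠
          z • (1 : Matrix (Fin d ⊕ Fin d) (Fin d ⊕ Fin d) F)) →
        (Odd r → ∃ x' : GL (Fin d ⊕ Fin d) F, x' ∈ Cfsg.isometryGroup F (Cfsg.quadFormPlus d F) ∧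
          x' ^ r = 1 ∧ x' ≠ 1 ∧
          ∀ W : Submodule F (Fin d ⊕ Fin d → F),
            W.map (Matrix.toLin' (x' : Matrix (Fin d ⊕ Fin d) (Fin d ⊕ Fin d) F)) ≤ W →
            W.map (Matrix.toLin' (x : Matrix (Fin d ⊕ Fin d) (Fin d ⊕ Fin d) F)) ≤ W))
    (hARITH : ∀ A : ℕ, 1 ≤ A → c * A ≤ 2 * d → (c * A = 2 * d → sg i A = 1) → Fits c i 1 d m s A)
    (hSUFF : ∀ (y : Module.End F (Fin d ⊕ Fin d → F)),
      QCtx r (Cfsg.Agent.Lib.Helper16.qfPlus d F) y → ∀ A : ℕ, finrank F (cycS r y) = c * A →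
        Fits c i 1 d m s A → QNDt (Cfsg.Agent.Lib.Helper16.qfPlus d F) y m s) :
    AllFix F d m s r := by
  intro x hxΩ ⟨z, hz⟩ hns
  have hx : x ∈ Cfsg.isometryGroup F (Cfsg.quadFormPlus d F) :=
    Cfsg.Agent.Lib.helper14.ODNSQ.odnsq_omegaGL_le _ x hxΩ
  have hrodd : Odd r := (Fact.out : r.Prime).odd_of_ne_two hr2
  obtain ⟨x', hx', hx'r, hx'1, hx'W⟩ := hSCAL x hx z hz hns hrodd
  have hctx := std_qctx d r x' hx' hx'r
  obtain ⟨hV, hτ, -⟩ := std_facts (F := F) d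
  obtain ⟨A, hAdim, hA, hAs, hA1⟩ := q_adm hrp hr2 hctx d hV 1 hτ i c hi hc
  have hy1 : Matrix.toLin' (x' : Matrix (Fin d ⊕ Fin d) (Fin d ⊕ Fin d) F) ≠ 1 := by
    intro h1
    apply hx'1
    apply Units.ext
    apply Matrix.toLin'.injective
    rw [h1, Units.val_one, Matrix.toLin'_one]
    rfl
  have hfit := hARITH A (hA1 hy1) hA hAs
  obtain ⟨W, hWinv, hWnd, hWm, hWty⟩ := hSUFF _ hctx A hAdim hfit
  refine ⟨W, hWm, hWnd, hWty, hx'W W ?_⟩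
  rintro _ ⟨w, hw, rfl⟩
  exact hWinv w hw

end Cfsg.Agent.Lib.Helper18.OPE
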