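import Mathlib
import Cfsg.Agent.Lib.Helper18.OPE.Defs2
import Cfsg.Agent.Lib.Helper16.SpinG
import Cfsg.Agent.Lib.Helper27.OTSNEGEVEN

/-!
# OPE row SCALRED, second copy (helper25): `opescalred_h25` has the statement of `scal_red`
(`= ` helper27's OTS `q_scal_red` at `Qs = qfPlus d F`, plus `z = ±1`).
-/

set_option autoImplicit false

namespace Cfsg.Agent.Lib.Helper18.OPE

open Polynomial Module Cfsg.Agent.Lib.Helper13.S5955 Cfsg.Agent.Lib.helper15.S5972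
open scoped Matrix

/-- the hyperbolic form is not zero (`d ≥ 1`). -/
theorem opescalred_h25_ne {F : Type*} [Field F] (d : ℕ) (hd : 1 ≤ d) :
    ∃ v : Fin d ⊕ Fin d → F, Cfsg.quadFormPlus d F v ≠ 0 := by
  classical
  refine ⟨fun j => if j = Sum.inl (⟨0, hd⟩ : Fin d) ∨ j = Sum.inr (⟨0, hd⟩ : Fin d) then 1 else 0, ?_⟩
  unfold Cfsg.quadFormPlus
  rw [Finset.sum_eq_single (⟨0, hd⟩ : Fin d)]
  · simp
  · intro b _ hb
    simp [hb]
  · intro h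
    exact absurd (Finset.mem_univ _) h

/-- `z = ±1` if `z • 1` is an isometry of the hyperbolic form. -/
theorem opescalred_h25_pm {F : Type*} [Field F] (d : ℕ) (hd : 1 ≤ d)
    (g : GL (Fin d ⊕ Fin d) F)
    (hg : g ∈ Cfsg.isometryGroup F (Cfsg.quadFormPlus d F)) (z : F)
    (hz : (g : Matrix (Fin d ⊕ Fin d) (Fin d ⊕ Fin d) F) =
      z • (1 : Matrix (Fin d ⊕ Fin d) (Fin d ⊕ Fin d) F)) : z = 1 ∨ z = -1 := by
  obtain ⟨v0, hv0⟩ := opescalred_h25_ne (F := F) d hd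
  have h1 := (Cfsg.Agent.Lib.Helper13.OTS.otsscalred_mem (Cfsg.quadFormPlus d F) g).mp hg v0
  rw [hz, Matrix.smul_mulVec, Matrix.one_mulVec, ← Cfsg.Agent.Lib.Helper16.qfPlus_coe,
    QuadraticMap.map_smul, smul_eq_mul] at h1
  have h2 : (z - 1) * (z + 1) * (Cfsg.Agent.Lib.Helper16.qfPlus d F) v0 = 0 := by
    linear_combination h1
  rw [Cfsg.Agent.Lib.Helper16.qfPlus_coe] at h2
  rcases mul_eq_zero.mp h2 with h3 | h3
  · rcases mul_eq_zero.mp h3 with h4 | h4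
    · left; linear_combination h4
    · right; linear_combination h4
  · exact absurd h3 hv0

/-- SCALRED (second copy, helper25): the statement of `scal_red`. -/
theorem opescalred_h25 {F : Type*} [Field F] (d : ℕ) (hd : 1 ≤ d) (r : ℕ) (x : GL (Fin d ⊕ Fin d) F)
    (hx : x ∈ Cfsg.isometryGroup F (Cfsg.quadFormPlus d F)) (z : F)
    (hxr : ((x ^ r : GL (Fin d ⊕ Fin d) F) : Matrix (Fin d ⊕ Fin d) (Fin d ⊕ Fin d) F) =
      z • (1 : Matrix (Fin d ⊕ Fin d) (Fin d ⊕ Fin d) F))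
    (hns : ∀ z : F, (x : Matrix (Fin d ⊕ Fin d) (Fin d ⊕ Fin d) F) ≠
      z • (1 : Matrix (Fin d ⊕ Fin d) (Fin d ⊕ Fin d) F)) :
    (z = 1 ∨ z = -1) ∧
      (Odd r → ∃ x' : GL (Fin d ⊕ Fin d) F, x' ∈ Cfsg.isometryGroup F (Cfsg.quadFormPlus d F) ∧
        x' ^ r = 1 ∧ x' ≠ 1 ∧
        ∀ W : Submodule F (Fin d ⊕ Fin d → F),
          W.map (Matrix.toLin' (x' : Matrix (Fin d ⊕ Fin d) (Fin d ⊕ Fin d) F)) ≤ W →
          W.map (Matrix.toLin' (x : Matrix (Fin d ⊕ Fin d) (Fin d ⊕ Fin d) F)) ≤ W) := by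
  refine ⟨opescalred_h25_pm d hd (x ^ r) (Subgroup.pow_mem _ hx r) z hxr, fun hr => ?_⟩
  have hne : ∃ v, (Cfsg.Agent.Lib.Helper16.qfPlus d F) v ≠ 0 := by
    obtain ⟨v0, hv0⟩ := opescalred_h25_ne (F := F) d hd
    exact ⟨v0, by rw [Cfsg.Agent.Lib.Helper16.qfPlus_coe]; exact hv0⟩
  have hx' : x ∈ Cfsg.isometryGroup F (⇑(Cfsg.Agent.Lib.Helper16.qfPlus d F)) := by
    rw [Cfsg.Agent.Lib.Helper16.qfPlus_coe]; exact hx
  obtain ⟨y, hy, hyr, hy1, hyW⟩ := Cfsg.Agent.Lib.Helper13.OTS.q_scal_red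
    (Cfsg.Agent.Lib.Helper16.qfPlus d F) hne r hr x hx' ⟨z, hxr⟩ hns
  rw [Cfsg.Agent.Lib.Helper16.qfPlus_coe] at hy
  exact ⟨y, hy, hyr, hy1, fun W hW => (hyW W).mp hW⟩

end Cfsg.Agent.Lib.Helper18.OPE
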