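import Mathlib
import Cfsg.Agent.Lib.Helper18.OPE.Defs2
import Cfsg.Agent.Lib.Helper25.OPEODDSUFFcore
import Cfsg.Agent.Lib.Helper29.OPEARITHSUFF
import Cfsg.Agent.Lib.Helper18.OPESUFFABS
import Cfsg.Agent.Lib.Helper25.OPESCALREDh25

/-!
# OPE row ODDSUFF (helper25): `odd_suff`, verbatim (`= opeoddsuff_core` + SCALRED (second copy `opescalred_h25`) + ARITHSUFF + SUFFABS).
-/

set_option autoImplicit false

namespace Cfsg.Agent.Lib.Helper18.OPE

open Polynomial Module Cfsg.Agent.Lib.Helper13.S5955 Cfsg.Agent.Lib.helper15.S5972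
open scoped Matrix

/-- ODDSUFF [M-L]: SCALRED gives `x'` of order `r`; STDCTX + STDFACTS; ADM gives `A` (`1 ≤ A` as `toLin' x' ≠ 1`); ARITHSUFF; SUFFABS; the `W` is `x`-invariant by SCALRED.
(`Cfsg.Geo.omegaGL Q ≤ isometryGroup`: `Cfsg.Agent.Lib.helper14.ODNSQ.odnsq_omegaGL_le`, helper14/ODNSQd.lean.) -/
theorem odd_suff {F : Type*} [Field F] [Fintype F] {p : ℕ} [Fact p.Prime] [CharP F p]
    (d m : ℕ) (hd : 4 ≤ d) (hm : 2 ≤ m) (hme : Even m) (hmd : m < d) (r : ℕ) [Fact r.Prime]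
    (hrp : r ≠ p) (hr2 : r ≠ 2) (i c : ℕ)
    (hi : i = orderOf ((Fintype.card F : ℕ) : ZMod r)) (hc : c = if Even i then i else 2 * i)
    (s : ℤ) (hs : s = 1 ∨ s = -1) (hR : RR i c d m s) : AllFix F d m s r := by
  have hi1 : 1 ≤ i := hi ▸ Cfsg.Agent.Lib.Helper24.el_ord_pos (F := F) r hrp
  obtain ⟨hV, hτ, -⟩ := std_facts (F := F) d
  exact opeoddsuff_core d m hd hm hme hmd r hrp hr2 i c hi hc s hs hR
    (fun x hx z hz hns => (opescalred_h25 d (by omega) r x hx z hz hns).2)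
    (fun A hA1 hA hAs => arith_suff i c d m s hi1 hc hs hme hm hmd hR A hA1 hA hAs)
    (fun y hy A hAdim hfit => q_suff_abs hrp hr2 hy d m hV 1 hτ hme i c hi hc A hAdim s hs hfit)

end Cfsg.Agent.Lib.Helper18.OPE
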