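import Mathlib
import Cfsg.Agent.Lib.Helper19.ORE.Defs
import Cfsg.Agent.Lib.Helper19.ORE.X3
import Cfsg.Agent.Lib.helper4.ORED3
import Cfsg.Agent.Lib.Helper21.ORED4
import Cfsg.Agent.Lib.Helper11.OREA4

/-! # ORE row G3 (`three_pair`): core on the statements of rows A1 A2 B2 C2 D2. (helper25)

The rows `conj_prodComm`, `solP_conj` (A1), `solP_prod`, `solP_zero` (A2), `block_lu` (B2),
`cyc_piece` (C2), `rep_one`, `rep_two`, `rep_smulE` (D2) enter as hypotheses (their Skel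
statements at `F = ZMod 3`, universe 0); the landed rows A4, D3, D4, X3 are cited. -/

set_option autoImplicit false

namespace Cfsg.Agent.Lib.Helper19.ORE

open Polynomial Module

section Three

theorem oreg3_neg_one_val : (((-1 : (ZMod 3)ˣ) : (ZMod 3)ˣ) : ZMod 3) = -1 := by
  simp

/-- a space with an automorphism of determinant `≠ 1` is nonzero -/
theorem oreg3_finrank_pos {V : Type} [AddCommGroup V] [Module (ZMod 3) V]
    [FiniteDimensional (ZMod 3) V] (s : V ≃ₗ[ZMod 3] V) (hd : LinearEquiv.det s = -1) :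
    0 < finrank (ZMod 3) V := by
  by_contra h0
  have h0' : finrank (ZMod 3) V = 0 := by omega
  have : Subsingleton V := Module.finrank_zero_iff.mp h0'
  have h1 : s = 1 := by
    ext x; exact Subsingleton.elim _ _
  rw [h1, map_one] at hd
  exact absurd hd (by decide)

/-- `3^d - 1` does not divide `4` for `d ≥ 2`. -/
theorem oreg3_ndvd (d : ℕ) (hd : 2 ≤ d) : ¬ (Fintype.card (ZMod 3) ^ d - 1 ∣ 4) := by
  rw [ZMod.card]
  intro h
  have h9 : 3 ^ 2 ≤ 3 ^ d := Nat.pow_le_pow_right (by norm_num) hd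
  have := Nat.le_of_dvd (by norm_num) h
  omega


section core

variable
  (h_conj_prodComm : ∀ {V W : Type} [AddCommGroup V] [Module (ZMod 3) V] [AddCommGroup W]
    [Module (ZMod 3) W] (g : V ≃ₗ[ZMod 3] V) (h : W ≃ₗ[ZMod 3] W),
    Conj (LinearEquiv.prodComm (ZMod 3) V W) (g.prodCongr h) (h.prodCongr g))
  (h_solP_conj : ∀ {V V' : Type} [AddCommGroup V] [Module (ZMod 3) V] [AddCommGroup V']
    [Module (ZMod 3) V'] {e : V ≃ₗ[ZMod 3] V'} {g : V ≃ₗ[ZMod 3] V} {g' : V' ≃ₗ[ZMod 3] V'}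
    (_ : Conj e g g') {D E : (ZMod 3)ˣ} {p : (ZMod 3)[X]} (_ : SolP g D E p), SolP g' D E p)
  (h_solP_prod : ∀ {V W : Type} [AddCommGroup V] [Module (ZMod 3) V] [AddCommGroup W]
    [Module (ZMod 3) W] [FiniteDimensional (ZMod 3) V] [FiniteDimensional (ZMod 3) W]
    {g : V ≃ₗ[ZMod 3] V} {h : W ≃ₗ[ZMod 3] W} {D E D' E' : (ZMod 3)ˣ} {p p' : (ZMod 3)[X]}
    (_ : SolP g D E p) (_ : SolP h D' E' p'),
    SolP (g.prodCongr h) (D * D') (E * E') (p * p'))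
  (h_solP_zero : ∀ {V : Type} [AddCommGroup V] [Module (ZMod 3) V] {g : V ≃ₗ[ZMod 3] V}
    {D E : (ZMod 3)ˣ} {p : (ZMod 3)[X]} (_ : SolP g D E p), SolP g D E 0)
  (h_block_lu : ∀ {V X₁ X₂ : Type} [AddCommGroup V] [Module (ZMod 3) V]
    [AddCommGroup X₁] [Module (ZMod 3) X₁] [AddCommGroup X₂] [Module (ZMod 3) X₂]
    [FiniteDimensional (ZMod 3) V] [FiniteDimensional (ZMod 3) X₁]
    [FiniteDimensional (ZMod 3) X₂]
    {g : V ≃ₗ[ZMod 3] V} {g₁ : X₁ ≃ₗ[ZMod 3] X₁} {g₂ : X₂ ≃ₗ[ZMod 3] X₂} (_ : Split g g₁ g₂)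
    {D₁ E₁ D₂ E₂ : (ZMod 3)ˣ} {p₁ p₂ : (ZMod 3)[X]} (_ : SolP g₁ D₁ E₁ p₁)
    (_ : SolP g₂ D₂ E₂ p₂) (_ : IsCoprime p₁ p₂), SolP g (D₁ * D₂) (E₁ * E₂) (p₁ * p₂))
  (h_cyc_piece : ∀ {V : Type} [AddCommGroup V] [Module (ZMod 3) V]
    [FiniteDimensional (ZMod 3) V] (g : V ≃ₗ[ZMod 3] V) (_ : IsCyc g) (d : ℕ) (_ : 1 ≤ d)
    (_ : finrank (ZMod 3) V = d + 1),
    ∃ (m : (Fin d → ZMod 3) ≃ₗ[ZMod 3] (Fin d → ZMod 3)) (p : (ZMod 3)[X]) (D₀ : (ZMod 3)ˣ),
      Split g m (smulE (LinearEquiv.det g)) ∧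
      (∀ k : ℕ, ¬ (Fintype.card (ZMod 3) ^ d - 1 ∣ k) → IsCoprime p (X ^ k - 1)) ∧
      ∀ E' : (ZMod 3)ˣ, SolP m D₀ E' p)
  (h_rep_one : ∀ {V : Type} [AddCommGroup V] [Module (ZMod 3) V] (g : V ≃ₗ[ZMod 3] V)
    (_ : finrank (ZMod 3) V = 1), Rep g (mat1 ((LinearEquiv.det g : (ZMod 3)ˣ) : ZMod 3)))
  (h_rep_two : ∀ {V : Type} [AddCommGroup V] [Module (ZMod 3) V]
    [FiniteDimensional (ZMod 3) V] (g : V ≃ₗ[ZMod 3] V) (_ : IsCyc g)
    (_ : finrank (ZMod 3) V = 2),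
    ∃ t : ZMod 3, Rep g (comp2 t ((LinearEquiv.det g : (ZMod 3)ˣ) : ZMod 3)))
  (h_rep_smulE : ∀ (κ : (ZMod 3)ˣ), Rep (smulE κ) (mat1 (κ : ZMod 3)))

-- both small: dimensions in {1, 2}
include h_solP_conj h_conj_prodComm h_solP_zero h_rep_one h_rep_two in
theorem oreg3c_small {V W : Type} [AddCommGroup V] [Module (ZMod 3) V]
    [FiniteDimensional (ZMod 3) V] [AddCommGroup W] [Module (ZMod 3) W]
    [FiniteDimensional (ZMod 3) W]
    (s : V ≃ₗ[ZMod 3] V) (s' : W ≃ₗ[ZMod 3] W) (hs : IsCyc s) (hs' : IsCyc s')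
    (hd : LinearEquiv.det s = -1) (hd' : LinearEquiv.det s' = -1)
    (ha : finrank (ZMod 3) V = 1 ∨ finrank (ZMod 3) V = 2)
    (hb : finrank (ZMod 3) W = 1 ∨ finrank (ZMod 3) W = 2) : Flex (s.prodCongr s') := by
  intro D E
  rcases ha with ha | ha <;> rcases hb with hb | hb
  · -- (1,1)
    have r1 := h_rep_one s ha
    have r2 := h_rep_one s' hb
    rw [hd, oreg3_neg_one_val] at r1
    rw [hd', oreg3_neg_one_val] at r2
    exact h_solP_zero (solP_of_msol (rep_prod r1 r2) (msol3_W1 D E))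
  · -- (1,2)
    have r1 := h_rep_one s ha
    obtain ⟨t, r2⟩ := h_rep_two s' hs' hb
    rw [hd, oreg3_neg_one_val] at r1
    rw [hd', oreg3_neg_one_val] at r2
    exact h_solP_zero (solP_of_msol (rep_prod r1 r2) (msol3_W2 t D E))
  · -- (2,1): swap
    obtain ⟨t, r1⟩ := h_rep_two s hs ha
    have r2 := h_rep_one s' hb
    rw [hd, oreg3_neg_one_val] at r1
    rw [hd', oreg3_neg_one_val] at r2
    have h := h_solP_zero (solP_of_msol (rep_prod r2 r1) (msol3_W2 t D E))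
    exact h_solP_conj (h_conj_prodComm s' s) h
  · -- (2,2)
    obtain ⟨t, r1⟩ := h_rep_two s hs ha
    obtain ⟨t', r2⟩ := h_rep_two s' hs' hb
    rw [hd, oreg3_neg_one_val] at r1
    rw [hd', oreg3_neg_one_val] at r2
    exact solP_of_msol (rep_prod r1 r2) (msol3_W3 t t' D E)

-- big x small
include h_solP_zero h_block_lu h_cyc_piece h_rep_one h_rep_two h_rep_smulE in
theorem oreg3c_big_small {V W : Type} [AddCommGroup V] [Module (ZMod 3) V]
    [FiniteDimensional (ZMod 3) V] [AddCommGroup W] [Module (ZMod 3) W]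
    [FiniteDimensional (ZMod 3) W]
    (s : V ≃ₗ[ZMod 3] V) (s' : W ≃ₗ[ZMod 3] W) (hs : IsCyc s) (hs' : IsCyc s')
    (hd : LinearEquiv.det s = -1) (hd' : LinearEquiv.det s' = -1)
    (ha : 3 ≤ finrank (ZMod 3) V)
    (hb : finrank (ZMod 3) W = 1 ∨ finrank (ZMod 3) W = 2) : Flex (s.prodCongr s') := by
  intro D E
  obtain ⟨d, hd2, hV⟩ : ∃ d, 2 ≤ d ∧ finrank (ZMod 3) V = d + 1 :=
    ⟨finrank (ZMod 3) V - 1, by omega, by omega⟩
  obtain ⟨m, p, D₀, hsplit, hcop, hsol⟩ := h_cyc_piece s hs d (by omega) hV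
  rw [hd] at hsplit
  have hsplit2 := split_prod_right s' hsplit
  have hcop4 : IsCoprime p (X ^ 4 - 1) := hcop 4 (oreg3_ndvd d hd2)
  have r0 := h_rep_smulE (-1 : (ZMod 3)ˣ)
  rw [oreg3_neg_one_val] at r0
  have hsol2 : SolP ((smulE (-1 : (ZMod 3)ˣ)).prodCongr s') (D₀⁻¹ * D) 1 (X ^ 4 - 1) := by
    rcases hb with hb | hb
    · have r2 := h_rep_one s' hb
      rw [hd', oreg3_neg_one_val] at r2
      exact solP_of_msol (rep_prod r0 r2) (msol3_W1 _ _)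
    · obtain ⟨t, r2⟩ := h_rep_two s' hs' hb
      rw [hd', oreg3_neg_one_val] at r2
      exact solP_of_msol (rep_prod r0 r2) (msol3_W2 t _ _)
  have h := h_solP_zero (h_block_lu hsplit2 (hsol E) hsol2 hcop4)
  rwa [mul_inv_cancel_left, mul_one] at h

-- big x big
include h_solP_prod h_solP_zero h_block_lu h_cyc_piece h_rep_smulE in
theorem oreg3c_big_big {V W : Type} [AddCommGroup V] [Module (ZMod 3) V]
    [FiniteDimensional (ZMod 3) V] [AddCommGroup W] [Module (ZMod 3) W]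
    [FiniteDimensional (ZMod 3) W]
    (s : V ≃ₗ[ZMod 3] V) (s' : W ≃ₗ[ZMod 3] W) (hs : IsCyc s) (hs' : IsCyc s')
    (hd : LinearEquiv.det s = -1) (hd' : LinearEquiv.det s' = -1)
    (ha : 3 ≤ finrank (ZMod 3) V) (hb : 3 ≤ finrank (ZMod 3) W) : Flex (s.prodCongr s') := by
  intro D E
  obtain ⟨d, hd2, hV⟩ : ∃ d, 2 ≤ d ∧ finrank (ZMod 3) V = d + 1 :=
    ⟨finrank (ZMod 3) V - 1, by omega, by omega⟩
  obtain ⟨d', hd2', hW⟩ : ∃ d, 2 ≤ d ∧ finrank (ZMod 3) W = d + 1 :=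
    ⟨finrank (ZMod 3) W - 1, by omega, by omega⟩
  obtain ⟨m, p, D₀, hsplit, hcop, hsol⟩ := h_cyc_piece s hs d (by omega) hV
  obtain ⟨m', p', D₀', hsplit', hcop', hsol'⟩ := h_cyc_piece s' hs' d' (by omega) hW
  rw [hd] at hsplit
  rw [hd'] at hsplit'
  have hsp := split_prod hsplit hsplit'
  have hm := h_solP_prod (hsol E) (hsol' 1)
  have r0 := h_rep_smulE (-1 : (ZMod 3)ˣ)
  rw [oreg3_neg_one_val] at r0
  have hl : SolP ((smulE (-1 : (ZMod 3)ˣ)).prodCongr (smulE (-1 : (ZMod 3)ˣ)))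
      ((D₀ * D₀')⁻¹ * D) 1 (X ^ 4 - 1) :=
    solP_of_msol (rep_prod r0 r0) (msol3_W1 _ _)
  have hc : IsCoprime (p * p') (X ^ 4 - 1) :=
    IsCoprime.mul_left (hcop 4 (oreg3_ndvd d hd2)) (hcop' 4 (oreg3_ndvd d' hd2'))
  have h := h_solP_zero (h_block_lu hsp hm hl hc)
  rwa [mul_inv_cancel_left, mul_one, mul_one] at h

include h_conj_prodComm h_solP_conj h_solP_prod h_solP_zero h_block_lu h_cyc_piece h_rep_one
  h_rep_two h_rep_smulE in
/-- **G3 core** (two cyclic pieces of determinant `-1` over `ZMod 3` are flexible together). -/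
theorem oreg3_core {V W : Type} [AddCommGroup V] [Module (ZMod 3) V]
    [FiniteDimensional (ZMod 3) V] [AddCommGroup W] [Module (ZMod 3) W]
    [FiniteDimensional (ZMod 3) W]
    (s : V ≃ₗ[ZMod 3] V) (s' : W ≃ₗ[ZMod 3] W) (hs : IsCyc s) (hs' : IsCyc s')
    (hd : LinearEquiv.det s = -1) (hd' : LinearEquiv.det s' = -1) : Flex (s.prodCongr s') := by
  have ha := oreg3_finrank_pos s hd
  have hb := oreg3_finrank_pos s' hd'
  by_cases ha3 : 3 ≤ finrank (ZMod 3) V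
  · by_cases hb3 : 3 ≤ finrank (ZMod 3) W
    · exact oreg3c_big_big h_solP_prod h_solP_zero h_block_lu h_cyc_piece h_rep_smulE s s' hs hs' hd hd' ha3 hb3
    · exact oreg3c_big_small h_solP_zero h_block_lu h_cyc_piece h_rep_one h_rep_two h_rep_smulE s s' hs hs' hd hd' ha3 (by omega)
  · by_cases hb3 : 3 ≤ finrank (ZMod 3) W
    · intro D E
      exact h_solP_conj (h_conj_prodComm s' s)
        (oreg3c_big_small h_solP_zero h_block_lu h_cyc_piece h_rep_one h_rep_two h_rep_smulE s' s hs' hs hd' hd hb3 (by omega) D E)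
    · exact oreg3c_small h_conj_prodComm h_solP_conj h_solP_zero h_rep_one h_rep_two s s' hs hs' hd hd' (by omega) (by omega)

end core

end Three

end Cfsg.Agent.Lib.Helper19.ORE
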