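import Mathlib
import Cfsg.Agent.Lib.Helper19.ORE.Defs
import Cfsg.Agent.Lib.Helper25.OREG3core
import Cfsg.Agent.Lib.Helper20.OREA1
import Cfsg.Agent.Lib.Helper20.OREA2
import Cfsg.Agent.Lib.Helper13.OREB2
import Cfsg.Agent.Lib.Helper19.OREC23h19
import Cfsg.Agent.Lib.Helper19.ORED2h19

/-! # ORE row G3 (`three_pair`): verbatim wrapper of `oreg3_core`. (helper25)

Cites the landed rows A1 A2 B2 and helper19's complete own-name copies of C2 (`orec2_h19_cyc_piece`)
and D2 (`ored2_h19_rep_one/_rep_two/_rep_smulE`), so it does not wait for the verbatim C2 / D2. -/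

set_option autoImplicit false

namespace Cfsg.Agent.Lib.Helper19.ORE

open Polynomial Module

/-- **G3** (two cyclic pieces of determinant `-1` over `ZMod 3` are flexible together). -/
theorem three_pair {V W : Type} [AddCommGroup V] [Module (ZMod 3) V]
    [FiniteDimensional (ZMod 3) V] [AddCommGroup W] [Module (ZMod 3) W]
    [FiniteDimensional (ZMod 3) W]
    (s : V ≃ₗ[ZMod 3] V) (s' : W ≃ₗ[ZMod 3] W) (hs : IsCyc s) (hs' : IsCyc s')
    (hd : LinearEquiv.det s = -1) (hd' : LinearEquiv.det s' = -1) : Flex (s.prodCongr s') :=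
  oreg3_core (@conj_prodComm (ZMod 3) _) (@solP_conj (ZMod 3) _) (@solP_prod (ZMod 3) _)
    (@solP_zero (ZMod 3) _) (@block_lu (ZMod 3) _) (@orec2_h19_cyc_piece (ZMod 3) _ _)
    (@ored2_h19_rep_one (ZMod 3) _) (@ored2_h19_rep_two (ZMod 3) _) (@ored2_h19_rep_smulE (ZMod 3) _)
    s s' hs hs' hd hd'

end Cfsg.Agent.Lib.Helper19.ORE
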