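import Mathlib
import Cfsg.Agent.Lib.helper23.P4S.DefsC

set_option autoImplicit false

/-!
# P4C row R2 (helper25): `rho2M_diag`.
-/

namespace Cfsg.Agent.Lib.helper23.P4S

open Matrix
open scoped Kronecker

/-- R2 [S-M]: `Matrix.diagonal_map`, `Matrix.diagonal_kronecker_diagonal`, `frq_apply`; `![b, b⁻¹] j ^ q` by `fin_cases`. -/
theorem rho2M_diag {K : Type} [Field K] (p : ℕ) [Fact p.Prime] [CharP K p] (n : ℕ) (b : K) :
    rho2M (frq K p n) (Matrix.diagonal ![b, b⁻¹]) = Matrix.diagonal (wt2 b (p ^ n)) := by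
  have hp0 : p ≠ 0 := (Fact.out : p.Prime).ne_zero
  ext ⟨i, j⟩ ⟨k, l⟩
  fin_cases i <;> fin_cases j <;> fin_cases k <;> fin_cases l <;>
    simp [rho2M, Matrix.kroneckerMap_apply, wt2, frq_apply, hp0]

end Cfsg.Agent.Lib.helper23.P4S
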