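import Mathlib
import Cfsg.Agent.Lib.helper23.P4S.DefsC

set_option autoImplicit false

/-!
# P4C row R4 (helper25): `rho2M_tau`.
-/

namespace Cfsg.Agent.Lib.helper23.P4S

open Matrix
open scoped Kronecker

/-- R4 [M]: entrywise (`ext ⟨i, j⟩ ⟨k, l⟩; fin_cases ...; simp [tauM, rho2M, Matrix.mul_apply, Fintype.sum_prod_type, hφ]; ring`):
`(τ (A ⊗ B) τ)_{(i,j),(k,l)} = (A ⊗ B)_{(j,i),(l,k)} = A_{jl} B_{ik} = (B ⊗ A)_{(i,j),(k,l)}`, and `(A.map φ).map φ = A`. -/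
theorem rho2M_tau {R : Type} [CommRing R] (φ : R →+* R) (hφ : ∀ x, φ (φ x) = x) (A : Matrix (Fin 2) (Fin 2) R) :
    tauM * rho2M φ A * tauM = rho2M φ (A.map φ) := by
  ext ⟨i, j⟩ ⟨k, l⟩
  fin_cases i <;> fin_cases j <;> fin_cases k <;> fin_cases l <;>
    simp [tauM, rho2M, Matrix.mul_apply, Fintype.sum_prod_type, hφ, Matrix.kroneckerMap_apply, mul_comm]

end Cfsg.Agent.Lib.helper23.P4S
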