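import Mathlib
import Cfsg.Agent.Lib.helper23.P4S.DefsC
import Cfsg.Agent.Lib.Helper25.P4CR4

set_option autoImplicit false

/-!
# P4C row R8 (helper25): `mem_H2T`.
-/

namespace Cfsg.Agent.Lib.helper23.P4S

open Matrix
open scoped Kronecker

theorem p4cr8_T2 {R : Type} [CommRing R] : (Tgl : GL (Fin 2 × Fin 2) R) * Tgl = 1 := by
  apply Units.ext
  rw [Units.val_mul, Tgl_coe]
  exact tauM_mul_self

theorem p4cr8_Tinv {R : Type} [CommRing R] : (Tgl : GL (Fin 2 × Fin 2) R)⁻¹ = Tgl :=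
  inv_eq_of_mul_eq_one_left p4cr8_T2

theorem p4cr8_conj {R : Type} [CommRing R] (φ : R →+* R) (hφ : ∀ x, φ (φ x) = x)
    (A : Matrix.SpecialLinearGroup (Fin 2) R) :
    Tgl * rho2 φ A = rho2 φ (Matrix.SpecialLinearGroup.map φ A) * Tgl := by
  have h : Tgl * rho2 φ A * Tgl = rho2 φ (Matrix.SpecialLinearGroup.map φ A) := by
    apply Units.ext
    rw [Units.val_mul, Units.val_mul, Tgl_coe, rho2_coe, rho2_coe]
    exact rho2M_tau φ hφ A.1
  calc Tgl * rho2 φ A = Tgl * rho2 φ A * (Tgl * Tgl) := by rw [p4cr8_T2, mul_one]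
    _ = (Tgl * rho2 φ A * Tgl) * Tgl := by simp only [mul_assoc]
    _ = rho2 φ (Matrix.SpecialLinearGroup.map φ A) * Tgl := by rw [h]

/-- the subgroup `{ρ A} ∪ {ρ A * T}` -/
def p4cr8_S {R : Type} [CommRing R] (φ : R →+* R) (hφ : ∀ x, φ (φ x) = x) : Subgroup (GL (Fin 2 × Fin 2) R) where
  carrier := {g | ∃ A : Matrix.SpecialLinearGroup (Fin 2) R, g = rho2 φ A ∨ g = rho2 φ A * Tgl}
  one_mem' := ⟨1, Or.inl (map_one _).symm⟩
  mul_mem' := by
    rintro a b ⟨A, hA | hA⟩ ⟨B, hB | hB⟩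
    · exact ⟨A * B, Or.inl (by rw [hA, hB, map_mul])⟩
    · exact ⟨A * B, Or.inr (by rw [hA, hB, map_mul, mul_assoc])⟩
    · refine ⟨A * Matrix.SpecialLinearGroup.map φ B, Or.inr ?_⟩
      rw [hA, hB, map_mul, mul_assoc, p4cr8_conj φ hφ B, mul_assoc]
    · refine ⟨A * Matrix.SpecialLinearGroup.map φ B, Or.inl ?_⟩
      rw [hA, hB, map_mul, mul_assoc, ← mul_assoc Tgl, p4cr8_conj φ hφ B, mul_assoc (rho2 φ _), p4cr8_T2, mul_one]
  inv_mem' := by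
    rintro a ⟨A, hA | hA⟩
    · exact ⟨A⁻¹, Or.inl (by rw [hA, map_inv])⟩
    · refine ⟨Matrix.SpecialLinearGroup.map φ A⁻¹, Or.inr ?_⟩
      rw [hA, _root_.mul_inv_rev, p4cr8_Tinv, ← map_inv, p4cr8_conj φ hφ A⁻¹]

/-- R8 [M]: `Tgl * Tgl = 1`, `Tgl * rho2 φ A * Tgl = rho2 φ (map φ A)` (R4 + `Units.ext`), so
`{ρ A} ∪ {ρ A * T}` is a subgroup containing `H2 φ` and `Tgl`, and it is contained in `H2T φ` (`Subgroup.mem_sup`, `Subgroup.closure_induction` or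
`le_antisymm` with an explicit `Subgroup` structure). -/
theorem mem_H2T {R : Type} [CommRing R] (φ : R →+* R) (hφ : ∀ x, φ (φ x) = x) (g : GL (Fin 2 × Fin 2) R) :
    g ∈ H2T φ ↔ ∃ A : Matrix.SpecialLinearGroup (Fin 2) R, g = rho2 φ A ∨ g = rho2 φ A * Tgl := by
  constructor
  · intro hg
    have hle : H2T φ ≤ p4cr8_S φ hφ := by
      unfold H2T
      apply sup_le
      · rintro x ⟨A, rfl⟩
        exact ⟨A, Or.inl rfl⟩
      · rw [Subgroup.zpowers_le]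
        exact ⟨1, Or.inr (by rw [map_one, one_mul])⟩
    exact hle hg
  · rintro ⟨A, hA | hA⟩
    · rw [hA]
      exact (le_sup_left : H2 φ ≤ H2T φ) ⟨A, rfl⟩
    · rw [hA]
      exact mul_mem ((le_sup_left : H2 φ ≤ H2T φ) ⟨A, rfl⟩)
        ((le_sup_right : Subgroup.zpowers Tgl ≤ H2T φ) (Subgroup.mem_zpowers _))

end Cfsg.Agent.Lib.helper23.P4S
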