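import Mathlib
import Cfsg.Agent.Lib.helper6.P4T.Defs

set_option autoImplicit false

/-!
# P4T row TR5 (helper25): `rho12M_uni`.
-/

namespace Cfsg.Agent.Lib.helper23.P4S

open Matrix
open scoped Kronecker

/-- `2 × 2` Cayley-Hamilton with `det = 1`: `A * A = tr A • A - 1` -/
theorem p4ttr5_ch {R : Type*} [CommRing R] (A : Matrix (Fin 2) (Fin 2) R) (hdet : A.det = 1) :
    A * A = A.trace • A - 1 := by
  rw [Matrix.det_fin_two] at hdet
  ext i j
  fin_cases i <;> fin_cases j <;>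
    simp [Matrix.mul_apply, Fin.sum_univ_two, Matrix.trace] <;>
    first | ring1 | linear_combination (-1 : R) * hdet

/-- `A ^ 3 = (-tr A) • 1` when `tr² = 4`, `3 = 0` -/
theorem p4ttr5_cube {R : Type*} [CommRing R] (h3 : (3 : R) = 0) (A : Matrix (Fin 2) (Fin 2) R) (hdet : A.det = 1)
    (htr : A.trace ^ 2 = 4) : A ^ 3 = (-A.trace) • (1 : Matrix (Fin 2) (Fin 2) R) := by
  have hch := p4ttr5_ch A hdet
  have h1 : A ^ 3 = (A * A) * A := by rw [pow_succ, pow_two]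
  rw [h1, hch, Matrix.sub_mul, Matrix.smul_mul, hch, Matrix.one_mul, smul_sub, smul_smul]
  have h2 : A.trace * A.trace = 1 := by
    have : A.trace * A.trace = 4 := by rw [← htr, pow_two]
    rw [this]
    linear_combination h3
  rw [h2, one_smul, neg_smul]
  abel

theorem p4ttr5_sym_neg {R : Type*} [CommRing R] : sym2M (-1 : Matrix (Fin 2) (Fin 2) R) = 1 := by
  ext i j
  fin_cases i <;> fin_cases j <;> simp [sym2M]

theorem p4ttr5_map_neg {R : Type*} [CommRing R] (φ : R →+* R) :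
    (-1 : Matrix (Fin 2) (Fin 2) R).map φ = -1 := by
  ext i j
  fin_cases i <;> fin_cases j <;> simp

theorem p4ttr5_kron_neg {R : Type*} [CommRing R] :
    ((-1 : Matrix (Fin 2) (Fin 2) R) ⊗ₖ (-1 : Matrix (Fin 2) (Fin 2) R)) = 1 := by
  ext ⟨i, j⟩ ⟨k, l⟩
  fin_cases i <;> fin_cases j <;> fin_cases k <;> fin_cases l <;>
    simp [Matrix.kroneckerMap_apply]

theorem p4ttr5_rho_neg {R : Type*} [CommRing R] (φ₁ φ₂ : R →+* R) :
    rho12M φ₁ φ₂ (-1 : Matrix (Fin 2) (Fin 2) R) = 1 := by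
  unfold rho12M
  rw [p4ttr5_sym_neg, p4ttr5_map_neg, p4ttr5_map_neg, p4ttr5_kron_neg, Matrix.one_kronecker_one]

/-- TR5 [M]. -/
theorem rho12M_uni {E : Type} [Field E] [CharP E 3] (φ₁ φ₂ : E →+* E) (A : Matrix (Fin 2) (Fin 2) E) (hdet : A.det = 1)
    (htr : A.trace ^ 2 = 4) : rho12M φ₁ φ₂ A ^ 3 = 1 := by
  have h3 : (3 : E) = 0 := by
    have := CharP.cast_eq_zero E 3
    exact_mod_cast this
  have hcube := p4ttr5_cube h3 A hdet htr
  have hpow : rho12M φ₁ φ₂ A ^ 3 = rho12M φ₁ φ₂ (A ^ 3) := ((rho12Hom φ₁ φ₂).map_pow A 3).symm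
  rw [hpow, hcube]
  have hε : (-A.trace) * (-A.trace) = 1 := by
    have : A.trace * A.trace = 4 := by rw [← htr, pow_two]
    linear_combination this + h3
  rcases mul_self_eq_one_iff.mp hε with h | h
  · rw [h, one_smul]
    exact rho12M_one φ₁ φ₂
  · rw [h, neg_smul, one_smul]
    exact p4ttr5_rho_neg φ₁ φ₂

end Cfsg.Agent.Lib.helper23.P4S
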