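import Mathlib
import Cfsg.Prelude.Def_Classical
import Cfsg.Agent.Lib.helper23.P4V.Defs

/-!
# Project P4V (S2460, designer helper23), row FR4, second copy by helper25 under own names:
`p4vfr4_h25_exists_frame_of_pair` is the EXACT Skel statement of `exists_frame_of_pair`.
Route: the kernel of `u ↦ (om u e, om u f)` on the 4-dimensional space is nonzero (rank-nullity), which
gives `e₂`; then `w` with `om e₂ w = 1` and `f₂ = w - om w f • e + om w e • f`.
-/

set_option autoImplicit false

namespace Cfsg.Agent.Lib.helper23.P4V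

open Matrix

universe u

section Field

variable {F : Type u} [Field F]

theorem p4vfr4_h25_add_left (u u' v : V F) : om (u + u') v = om u v + om u' v := by
  unfold om; simp only [Pi.add_apply]; ring

theorem p4vfr4_h25_smul_left (c : F) (u v : V F) : om (c • u) v = c * om u v := by
  unfold om; simp only [Pi.smul_apply, smul_eq_mul]; ring

theorem p4vfr4_h25_add_right (u v v' : V F) : om u (v + v') = om u v + om u v' := by
  unfold om; simp only [Pi.add_apply]; ring

theorem p4vfr4_h25_sub_right (u v v' : V F) : om u (v - v') = om u v - om u v' := by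
  unfold om; simp only [Pi.sub_apply]; ring

theorem p4vfr4_h25_smul_right (c : F) (u v : V F) : om u (c • v) = c * om u v := by
  unfold om; simp only [Pi.smul_apply, smul_eq_mul]; ring

theorem p4vfr4_h25_self (u : V F) : om u u = 0 := by
  unfold om; ring

theorem p4vfr4_h25_swap (u v : V F) : om v u = -om u v := by
  unfold om; ring

/-- own copy of OM3. -/
theorem p4vfr4_h25_nondeg (u : V F) (hu : u ≠ 0) : ∃ w : V F, om u w = 1 := by
  classical
  obtain ⟨k, hk⟩ := Function.ne_iff.mp hu
  rw [Pi.zero_apply] at hk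
  rcases k with k | k
  · fin_cases k
    · refine ⟨Pi.single (Sum.inr 0) (u (Sum.inl 0))⁻¹, ?_⟩
      unfold om
      simp
      exact mul_inv_cancel₀ hk
    · refine ⟨Pi.single (Sum.inr 1) (u (Sum.inl 1))⁻¹, ?_⟩
      unfold om
      simp
      exact mul_inv_cancel₀ hk
  · fin_cases k
    · refine ⟨Pi.single (Sum.inl 0) (-(u (Sum.inr 0))⁻¹), ?_⟩
      unfold om
      simp
      exact mul_inv_cancel₀ hk
    · refine ⟨Pi.single (Sum.inl 1) (-(u (Sum.inr 1))⁻¹), ?_⟩
      unfold om
      simp
      exact mul_inv_cancel₀ hk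

/-- the linear map `u ↦ (om u e, om u f)`. -/
noncomputable def p4vfr4_h25_L (e f : V F) : V F →ₗ[F] (Fin 2 → F) where
  toFun u := ![om u e, om u f]
  map_add' u u' := by
    ext i
    fin_cases i <;> simp [p4vfr4_h25_add_left]
  map_smul' c u := by
    ext i
    fin_cases i <;> simp [p4vfr4_h25_smul_left]

/-- a nonzero vector orthogonal to two given ones. -/
theorem p4vfr4_h25_exists_perp (e f : V F) : ∃ e₂ : V F, e₂ ≠ 0 ∧ om e₂ e = 0 ∧ om e₂ f = 0 := by
  have hlt : Module.finrank F (Fin 2 → F) < Module.finrank F (V F) := by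
    rw [Module.finrank_fin_fun, Module.finrank_fintype_fun_eq_card]
    simp
  have hker := LinearMap.ker_ne_bot_of_finrank_lt (f := p4vfr4_h25_L e f) hlt
  obtain ⟨x, hx, hx0⟩ := Submodule.exists_mem_ne_zero_of_ne_bot hker
  refine ⟨x, hx0, ?_, ?_⟩
  · have := congrFun (LinearMap.mem_ker.mp hx) 0
    simpa [p4vfr4_h25_L] using this
  · have := congrFun (LinearMap.mem_ker.mp hx) 1
    simpa [p4vfr4_h25_L] using this

/-- **FR4**, second copy (helper25): EXACT Skel statement of `exists_frame_of_pair`. -/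
theorem p4vfr4_h25_exists_frame_of_pair (e f : V F) (h : om e f = 1) :
    ∃ e₂ f₂ : V F, IsFrame e e₂ f f₂ := by
  obtain ⟨e₂, he₂, h2e, h2f⟩ := p4vfr4_h25_exists_perp e f
  obtain ⟨w, hw⟩ := p4vfr4_h25_nondeg e₂ he₂
  have hfe : om f e = -1 := by rw [p4vfr4_h25_swap e f, h]
  have hee₂ : om e e₂ = 0 := by rw [p4vfr4_h25_swap e₂ e, h2e, neg_zero]
  have hfe₂ : om f e₂ = 0 := by rw [p4vfr4_h25_swap e₂ f, h2f, neg_zero]
  refine ⟨e₂, w - om w f • e + om w e • f, hee₂, ?_, h, ?_, ?_, h2f⟩
  · -- om f f₂ = 0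
    rw [p4vfr4_h25_add_right, p4vfr4_h25_sub_right, p4vfr4_h25_smul_right, p4vfr4_h25_smul_right,
      hfe, p4vfr4_h25_self, p4vfr4_h25_swap w f]
    ring
  · -- om e₂ f₂ = 1
    rw [p4vfr4_h25_add_right, p4vfr4_h25_sub_right, p4vfr4_h25_smul_right, p4vfr4_h25_smul_right,
      h2e, h2f, hw]
    ring
  · -- om e f₂ = 0
    rw [p4vfr4_h25_add_right, p4vfr4_h25_sub_right, p4vfr4_h25_smul_right, p4vfr4_h25_smul_right,
      h, p4vfr4_h25_self, p4vfr4_h25_swap w e]
    ring

end Field

end Cfsg.Agent.Lib.helper23.P4V
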