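import Mathlib
import Cfsg.Prelude.Def_Classical
import Cfsg.Agent.Lib.helper23.P4V.Defs

/-!
# Project P4V (S2460, designer helper23), row I3B: `caseI_algB` (helper25).
-/

set_option autoImplicit false

namespace Cfsg.Agent.Lib.helper23.P4V

open Matrix

universe u

section Field

variable {F : Type u} [Field F]

omit [Field F] in
/-- a type with at least three elements has an element avoiding two given ones. -/
theorem p4vi3b_exists_ne [Fintype F] (h3 : 3 ≤ Fintype.card F) (a b : F) :
    ∃ z : F, z ≠ a ∧ z ≠ b := by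
  classical
  by_contra h
  push Not at h
  have hsub : (Finset.univ : Finset F) ⊆ {a, b} := by
    intro z _
    by_cases hz : z = a
    · simp [hz]
    · simp [h z hz]
  have h1 := Finset.card_le_card hsub
  have h2 : ({a, b} : Finset F).card ≤ 2 := Finset.card_le_two
  rw [Finset.card_univ] at h1
  omega

/-- a `2 × 2` matrix with nonzero lower-left entry, determinant `ν²` and trace `≠ 2ν` is in `InSig ν`. -/
theorem p4vi3b_insig (ν a b c d : F) (hc : c ≠ 0) (hdet : a * d - b * c = ν ^ 2)
    (htr : a + d ≠ 2 * ν) : InSig ν !![a, b; c, d] := by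
  refine Or.inr ⟨?_, ?_, ?_⟩
  · rw [Matrix.det_fin_two_of]; exact hdet
  · rw [Matrix.trace_fin_two_of]; exact htr
  · rintro ⟨k, hk⟩
    have := congrFun (congrFun hk 1) 0
    simp at this
    exact hc this

/-- **I3B** [H] (pure algebra, `κ = 0`, `α ≠ 0`). -/
theorem caseI_algB [Fintype F] (h3 : 3 ≤ Fintype.card F) (ν : F) (hν : ν ≠ 0) (φ η α : F)
    (hφ : φ ≠ 0) (hα : α ≠ 0) :
    ∃ s₁₁ s₁₂ s₂₂ : F,
      InSig ν !![-φ * s₁₁, s₁₁ * η + s₁₂ * 0; -φ * s₁₂, α + s₁₂ * η + s₂₂ * 0] := by
  by_cases hη : η = 0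
  · subst hη
    by_cases hαν : α = ν
    · subst hαν
      refine ⟨-α / φ, 0, 0, Or.inl ?_⟩
      have h1 : -φ * (-α / φ) = α := by field_simp
      rw [h1]
      ext i j
      fin_cases i <;> fin_cases j <;> simp
    · refine ⟨-ν ^ 2 / (α * φ), -1 / φ, 0, ?_⟩
      apply p4vi3b_insig
      · have h1 : -φ * (-1 / φ) = 1 := by field_simp
        rw [h1]; exact one_ne_zero
      · field_simp
        ring
      · intro h
        apply hαν
        have h2 : (ν - α) ^ 2 = 0 := by
          field_simp at h
          have h4 : φ * (ν - α) ^ 2 = 0 := by linear_combination h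
          exact (mul_eq_zero.mp h4).resolve_left hφ
        have h3 := pow_eq_zero_iff (two_ne_zero) |>.mp h2
        exact (sub_eq_zero.mp h3).symm
  · obtain ⟨z, hz0, hz1⟩ := p4vi3b_exists_ne h3 (0 : F) (φ * (ν ^ 2 / α + α - 2 * ν) / η)
    refine ⟨-ν ^ 2 / (α * φ), -z / φ, 0, ?_⟩
    apply p4vi3b_insig
    · have h1 : -φ * (-z / φ) = z := by field_simp
      rw [h1]; exact hz0
    · field_simp
      ring
    · intro h
      apply hz1
      field_simp
      field_simp at h
      linear_combination (-1 : F) * h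

end Field

end Cfsg.Agent.Lib.helper23.P4V
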