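import Mathlib
import Cfsg.Prelude.Def_Classical
import Cfsg.Agent.Lib.helper23.P4V.Defs
import Cfsg.Agent.Lib.Helper25.P4VI3B

/-!
# Project P4V (S2460, designer helper23), row I3A, second copy by helper25 under own names:
`p4vi3a_h25_caseI_algA` is the EXACT Skel statement of `caseI_algA`.
Uniform choice (no case split on the characteristic): `s₁₂ = 0`; `η = 0`: the scalar `ν`;
`η ≠ 0`: `y ∉ {0, ν}`, `x = ν² / y` (then `x + y = 2ν` would force `(ν - y)² = 0`).
-/

set_option autoImplicit false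

namespace Cfsg.Agent.Lib.helper23.P4V

open Matrix

universe u

section Field

variable {F : Type u} [Field F]

/-- a `2 × 2` matrix with nonzero upper-right entry, determinant `ν²` and trace `≠ 2ν` is in `InSig ν`. -/
theorem p4vi3a_h25_insig_b (ν a b c d : F) (hb : b ≠ 0) (hdet : a * d - b * c = ν ^ 2)
    (htr : a + d ≠ 2 * ν) : InSig ν !![a, b; c, d] := by
  refine Or.inr ⟨?_, ?_, ?_⟩
  · rw [Matrix.det_fin_two_of]; exact hdet
  · rw [Matrix.trace_fin_two_of]; exact htr
  · rintro ⟨k, hk⟩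
    have := congrFun (congrFun hk 0) 1
    simp at this
    exact hb this

/-- **I3A**, second copy (helper25): EXACT Skel statement of `caseI_algA`. -/
theorem p4vi3a_h25_caseI_algA [Fintype F] (h3 : 3 ≤ Fintype.card F) (ν : F) (hν : ν ≠ 0)
    (φ η κ α : F) (hφ : φ ≠ 0) (hκ : κ ≠ 0) :
    ∃ s₁₁ s₁₂ s₂₂ : F,
      InSig ν !![-φ * s₁₁, s₁₁ * η + s₁₂ * κ; -φ * s₁₂, α + s₁₂ * η + s₂₂ * κ] := by
  by_cases hη : η = 0
  · subst hη
    refine ⟨-ν / φ, 0, (ν - α) / κ, Or.inl ?_⟩
    have h1 : -φ * (-ν / φ) = ν := by field_simp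
    have h2 : α + 0 * 0 + (ν - α) / κ * κ = ν := by field_simp; ring
    rw [h1, h2]
    ext i j
    fin_cases i <;> fin_cases j <;> simp
  · obtain ⟨y, hy0, hy1⟩ := p4vi3b_exists_ne h3 (0 : F) ν
    refine ⟨-ν ^ 2 / (y * φ), 0, (y - α) / κ, ?_⟩
    apply p4vi3a_h25_insig_b
    · have h1 : -ν ^ 2 / (y * φ) * η + 0 * κ = -ν ^ 2 * η / (y * φ) := by ring
      rw [h1]
      exact div_ne_zero (mul_ne_zero (neg_ne_zero.mpr (pow_ne_zero 2 hν)) hη) (mul_ne_zero hy0 hφ)
    · field_simp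
      ring
    · intro h
      apply hy1
      have h4 : (ν - y) ^ 2 = 0 := by
        field_simp at h
        linear_combination h
      have h5 := (pow_eq_zero_iff (two_ne_zero)).mp h4
      exact (sub_eq_zero.mp h5).symm

end Field

end Cfsg.Agent.Lib.helper23.P4V
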