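import Mathlib
import Cfsg.Agent.Lib.Helper22.PG.Defs
import Cfsg.Agent.Lib.helper8.SylowBasic
import Cfsg.Agent.Lib.Helper1.PGL1
import Cfsg.Agent.Lib.Helper1.PGNS
import Cfsg.Agent.Lib.Helper29.PGBURN

set_option autoImplicit false

/-! Project PG (S2490), piece TZ: `|G| = 7920` and `n_11 = 144` force `G` simple. -/

namespace Cfsg.Agent.Lib.Helper22.PG

open Subgroup
open Cfsg.Agent.Lib.helper8

/-- arithmetic: for a prime `p` and `p^a ∣ 720`, no difference `p^a - p^b` (`b < a`) is divisible by 11 -/
theorem h25_pg_arith (p : ℕ) (hp : p.Prime) (a b : ℕ) (ha : p ^ a ∣ 720) (hb : b < a) :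
    ¬ 11 ∣ p ^ a - p ^ b := by
  have hp720 : p ∣ 720 := dvd_trans (dvd_pow_self p (by omega)) ha
  have h720 : (720 : ℕ) = 2 ^ 4 * 3 ^ 2 * 5 := by norm_num
  have hcases : p = 2 ∨ p = 3 ∨ p = 5 := by
    rw [h720] at hp720
    rcases (Nat.Prime.dvd_mul hp).1 hp720 with h | h
    · rcases (Nat.Prime.dvd_mul hp).1 h with h | h
      · left
        exact (Nat.prime_dvd_prime_iff_eq hp Nat.prime_two).1 (hp.dvd_of_dvd_pow h)
      · right; left
        exact (Nat.prime_dvd_prime_iff_eq hp Nat.prime_three).1 (hp.dvd_of_dvd_pow h)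
    · right; right
      exact (Nat.prime_dvd_prime_iff_eq hp Nat.prime_five).1 h
  rcases hcases with rfl | rfl | rfl
  · have ha4 : a ≤ 4 := by
      by_contra hcon
      push Not at hcon
      have : 2 ^ 5 ∣ 720 := dvd_trans (pow_dvd_pow 2 hcon) ha
      norm_num at this
    interval_cases a <;> interval_cases b <;> norm_num
  · have ha2 : a ≤ 2 := by
      by_contra hcon
      push Not at hcon
      have : 3 ^ 3 ∣ 720 := dvd_trans (pow_dvd_pow 3 hcon) ha
      norm_num at this
    interval_cases a <;> interval_cases b <;> norm_num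
  · have ha1 : a ≤ 1 := by
      by_contra hcon
      push Not at hcon
      have : 5 ^ 2 ∣ 720 := dvd_trans (pow_dvd_pow 5 hcon) ha
      norm_num at this
    interval_cases a <;> interval_cases b <;> norm_num

/-- an element of order 11 generates a Sylow 11-subgroup whose normaliser has order 55 -/
theorem h25_pg_sylow_of_order {G : Type*} [Group G] [Finite G] (hord : Nat.card G = 7920)
    (hn : Nat.card (Sylow 11 G) = 144) (x : G) (hx : orderOf x = 11) :
    ∃ P : Sylow 11 G, (P : Subgroup G) = zpowers x ∧
      Nat.card (normalizer ((P : Subgroup G) : Set G)) = 55 := by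
  have hcz : Nat.card (zpowers x) = 11 := by rw [Nat.card_zpowers, hx]
  have hpg : IsPGroup 11 (zpowers x) := IsPGroup.of_card (n := 1) (by rw [hcz, pow_one])
  obtain ⟨P, hP⟩ := hpg.exists_le_sylow
  have hPc : Nat.card (P : Subgroup G) = 11 := by
    have := h8_sylow_card 11 1 720 (by rw [hord]; norm_num) (by norm_num) P
    rw [this, pow_one]
  have heq : zpowers x = (P : Subgroup G) :=
    Subgroup.eq_of_le_of_card_ge hP (by rw [hPc, hcz])
  refine ⟨P, heq.symm, ?_⟩
  have h1 := h8_card_normalizer_sylow 11 P
  rw [hn, hord] at h1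
  omega

/-- an element commuting with an element of order 11 has order dividing 55 -/
theorem h25_pg_order_dvd {G : Type*} [Group G] [Finite G] (hord : Nat.card G = 7920)
    (hn : Nat.card (Sylow 11 G) = 144) (x k : G) (hx : orderOf x = 11) (hc : x * k = k * x) :
    orderOf k ∣ 55 := by
  obtain ⟨P, hP, hN⟩ := h25_pg_sylow_of_order hord hn x hx
  have hk : k ∈ centralizer ((P : Subgroup G) : Set G) := by
    rw [mem_centralizer_iff]
    intro h hh
    have hh' : h ∈ zpowers x := by rw [← hP]; exact hh
    obtain ⟨i, rfl⟩ := mem_zpowers_iff.1 hh'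
    exact ((Commute.zpow_left (show Commute x k from hc) i).eq)
  have hk' := centralizer_le_normalizer _ hk
  rw [← hN]
  exact Subgroup.orderOf_dvd_natCard _ hk'

/-- a group of order 1584 with 144 Sylow 11-subgroups has commuting elements of orders 11 and 2 -/
theorem h25_pg_b_core {N₀ : Type*} [Group N₀] [Finite N₀] (hcard : Nat.card N₀ = 1584)
    (hn : Nat.card (Sylow 11 N₀) = 144) :
    ∃ x k : N₀, orderOf x = 11 ∧ orderOf k = 2 ∧ x * k = k * x := by
  obtain ⟨P⟩ : Nonempty (Sylow 11 N₀) := inferInstance
  have hPc : Nat.card (P : Subgroup N₀) = 11 := by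
    have := h8_sylow_card 11 1 144 (by rw [hcard]; norm_num) (by norm_num) P
    rw [this, pow_one]
  have hNc : Nat.card (normalizer ((P : Subgroup N₀) : Set N₀)) = 11 := by
    have h1 := h8_card_normalizer_sylow 11 P
    rw [hn, hcard] at h1
    omega
  have hNP : (P : Subgroup N₀) = normalizer ((P : Subgroup N₀) : Set N₀) :=
    Subgroup.eq_of_le_of_card_ge le_normalizer (by rw [hPc, hNc])
  have hcyc : IsCyclic (P : Subgroup N₀) := by
    exact isCyclic_of_prime_card (p := 11) hPc
  have hNC : normalizer ((P : Subgroup N₀) : Set N₀) ≤ centralizer ((P : Subgroup N₀) : Set N₀) := by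
    rw [← hNP]
    intro g hg
    rw [mem_centralizer_iff]
    intro h hh
    have := @IsCyclic.isMulCommutative _ _ hcyc
    have h2 := this.is_comm.comm (⟨h, hh⟩ : (P : Subgroup N₀)) ⟨g, hg⟩
    exact congrArg Subtype.val h2
  obtain ⟨M, hMn, hMc⟩ := exists_normal_complement P hNC
  rw [hPc, hcard] at hMc
  have hM144 : Nat.card M = 144 := by omega
  have := hMn
  obtain ⟨x, k, hx, hk, _, hxk⟩ := exists_commuting_of_normal M 11 2 (by norm_num) Nat.prime_two
    (by rw [hcard]; norm_num) (by rw [hM144]; norm_num) (by rw [hM144]; norm_num)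
    (by
      intro a b ha hb
      rw [hM144] at ha
      exact h25_pg_arith 2 Nat.prime_two a b (dvd_trans ha (by norm_num)) hb)
  exact ⟨x, k, hx, hk, hxk⟩

/-- PG-TZ : `144` Sylow 11-subgroups force simplicity -/
theorem simple_of_n11_eq_144 {G : Type*} [Group G] [Finite G] (hord : Nat.card G = 7920)
    (hn : Nat.card (Sylow 11 G) = 144) : IsSimpleGroup G := by
  have : Nontrivial G := by
    rw [← Finite.one_lt_card_iff_nontrivial, hord]
    norm_num
  refine ⟨fun N hN => ?_⟩
  by_contra hcon
  push Not at hcon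
  obtain ⟨hbot, htop⟩ := hcon
  have := hN
  have hNdvd : Nat.card N ∣ 7920 := by rw [← hord]; exact Subgroup.card_subgroup_dvd_card N
  have hN1 : Nat.card N ≠ 1 := fun h => hbot (Subgroup.card_eq_one.1 h)  -- N ≠ ⊥
  by_cases h11 : 11 ∣ Nat.card N
  · -- case (b)
    have hidx : ¬ 11 ∣ N.index := by
      intro h
      have h2 : 11 * 11 ∣ Nat.card N * N.index := Nat.mul_dvd_mul h11 h
      rw [N.card_mul_index, hord] at h2
      norm_num at h2
    have hnN := card_sylow_of_normal N hidx
    rw [hn] at hnN
    obtain ⟨P'⟩ : Nonempty (Sylow 11 N) := inferInstance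
    have h1 := h8_card_normalizer_sylow 11 P'
    rw [hnN] at h1
    set j := Nat.card (normalizer ((P' : Subgroup N) : Set N)) with hj
    have hj55 : j ∣ 55 := by
      have : j * 144 ∣ 55 * 144 := by rw [h1]; exact hNdvd
      exact Nat.dvd_of_mul_dvd_mul_right (by norm_num) this
    have hj11 : 11 ∣ j := by
      have : 11 ∣ j * 144 := by rw [h1]; exact h11
      exact (Nat.Coprime.dvd_mul_right (by norm_num)).1 this
    have hjcases : j = 11 ∨ j = 55 := by
      have hjle : j ≤ 55 := Nat.le_of_dvd (by norm_num) hj55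
      have hjpos : 0 < j := Nat.pos_of_dvd_of_pos hj55 (by norm_num)
      interval_cases j <;> omega
    rcases hjcases with hj' | hj'
    · rw [hj'] at h1
      obtain ⟨x, k, hx, hk, hxk⟩ := h25_pg_b_core (N₀ := N) h1.symm hnN
      have hx' : orderOf (x : G) = 11 := by rw [Subgroup.orderOf_coe, hx]
      have hk' : orderOf (k : G) = 2 := by rw [Subgroup.orderOf_coe, hk]
      have hxk' : (x : G) * (k : G) = (k : G) * (x : G) := by
        have := congrArg Subtype.val hxk
        simpa using this
      have := h25_pg_order_dvd hord hn (x : G) (k : G) hx' hxk'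
      rw [hk'] at this
      norm_num at this
    · rw [hj'] at h1
      apply htop
      apply Subgroup.eq_top_of_card_eq
      rw [hord, ← h1]
  · -- case (a)
    have hcop : Nat.Coprime (Nat.card N) 11 :=
      (Nat.Coprime.symm ((Nat.Prime.coprime_iff_not_dvd (by norm_num)).2 h11))
    have hN720 : Nat.card N ∣ 720 := by
      have : Nat.card N ∣ 11 * 720 := by norm_num; exact hNdvd
      exact hcop.dvd_of_dvd_mul_left this
    set p := (Nat.card N).minFac with hp
    have hpp : p.Prime := Nat.minFac_prime hN1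
    have hpN : p ∣ Nat.card N := Nat.minFac_dvd _
    obtain ⟨x, k, hx, hk, hkN, hxk⟩ := exists_commuting_of_normal N 11 p (by norm_num) hpp
      (by rw [hord]; norm_num) h11 hpN
      (fun a b ha hb => h25_pg_arith p hpp a b (dvd_trans ha hN720) hb)
    have hp55 := h25_pg_order_dvd hord hn x k hx hxk
    rw [hk] at hp55
    have hp5 : p = 5 := by
      have h55 : (55 : ℕ) = 5 * 11 := by norm_num
      rw [h55] at hp55
      rcases (Nat.Prime.dvd_mul hpp).1 hp55 with h | h
      · exact (Nat.prime_dvd_prime_iff_eq hpp Nat.prime_five).1 h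
      · exfalso
        have := (Nat.prime_dvd_prime_iff_eq hpp (by norm_num : Nat.Prime 11)).1 h
        rw [this] at hpN
        exact h11 hpN
    obtain ⟨P, hP, hNP⟩ := h25_pg_sylow_of_order hord hn x hx
    have hxC : x ∈ centralizer ((P : Subgroup G) : Set G) := by
      rw [mem_centralizer_iff]
      intro h hh
      have hh' : h ∈ zpowers x := by rw [← hP]; exact hh
      obtain ⟨i, rfl⟩ := mem_zpowers_iff.1 hh'
      exact ((Commute.zpow_left (Commute.refl x) i).eq)
    have hkC : k ∈ centralizer ((P : Subgroup G) : Set G) := by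
      rw [mem_centralizer_iff]
      intro h hh
      have hh' : h ∈ zpowers x := by rw [← hP]; exact hh
      obtain ⟨i, rfl⟩ := mem_zpowers_iff.1 hh'
      exact ((Commute.zpow_left (show Commute x k from hxk) i).eq)
    have hCN := centralizer_le_normalizer ((P : Subgroup G) : Set G)
    have hCdvd : Nat.card (centralizer ((P : Subgroup G) : Set G)) ∣ 55 := by
      rw [← hNP]; exact Subgroup.card_dvd_of_le hCN
    have h11C : 11 ∣ Nat.card (centralizer ((P : Subgroup G) : Set G)) := by
      have h3 := Subgroup.orderOf_dvd_natCard _ hxC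
      rwa [hx] at h3
    have h5C : 5 ∣ Nat.card (centralizer ((P : Subgroup G) : Set G)) := by
      have h3 := Subgroup.orderOf_dvd_natCard _ hkC
      rwa [hk, hp5] at h3
    have h55C : 55 ∣ Nat.card (centralizer ((P : Subgroup G) : Set G)) := by
      have : (55 : ℕ) = 11 * 5 := by norm_num
      rw [this]
      exact Nat.Coprime.mul_dvd_of_dvd_of_dvd (by norm_num) h11C h5C
    have hCeq : Nat.card (centralizer ((P : Subgroup G) : Set G)) = 55 :=
      Nat.dvd_antisymm hCdvd h55C
    have hCN' : centralizer ((P : Subgroup G) : Set G) = normalizer ((P : Subgroup G) : Set G) :=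
      Subgroup.eq_of_le_of_card_ge hCN (by rw [hCeq, hNP])
    obtain ⟨M, hMn, hMc⟩ := exists_normal_complement P (le_of_eq hCN'.symm)
    have hPc : Nat.card (P : Subgroup G) = 11 := by
      rw [hP, Nat.card_zpowers, hx]
    rw [hPc, hord] at hMc
    have hM720 : Nat.card M = 720 := by omega
    have := hMn
    obtain ⟨x', k', hx', hk', _, hxk'⟩ := exists_commuting_of_normal M 11 2 (by norm_num)
      Nat.prime_two (by rw [hord]; norm_num) (by rw [hM720]; norm_num) (by rw [hM720]; norm_num)
      (by
        intro a b ha hb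
        rw [hM720] at ha
        exact h25_pg_arith 2 Nat.prime_two a b ha hb)
    have := h25_pg_order_dvd hord hn x' k' hx' hxk'
    rw [hk'] at this
    norm_num at this

end Cfsg.Agent.Lib.Helper22.PG
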