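import Cfsg.Agent.Lib.Helper1.PLK.Defs

/-!
# PLK row Z3 (`center_scalar`), verbatim: central elements of `SL_n(F)` are `ζ • 1`, `ζ ^ n = 1`.
-/

set_option autoImplicit false

namespace Cfsg.Agent.Lib.Helper1.PLK

open Polynomial
open Cfsg.Agent.Lib.Helper29.GLK
open Cfsg.Agent.Lib.Helper1.SLK

universe u

/-- Z3 [S-M] `Matrix.SpecialLinearGroup.mem_center_iff`, `Matrix.smul_one_eq_diagonal`. -/
theorem center_scalar {F : Type u} [Field F] (n : ℕ) (hn : 1 ≤ n)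
    (z : Matrix.SpecialLinearGroup (Fin n) F)
    (hz : z ∈ Subgroup.center (Matrix.SpecialLinearGroup (Fin n) F)) :
    ∃ ζ : Fˣ, ζ ^ n = 1 ∧
      (z : Matrix (Fin n) (Fin n) F) = (ζ : F) • (1 : Matrix (Fin n) (Fin n) F) := by
  rw [Matrix.SpecialLinearGroup.mem_center_iff] at hz
  obtain ⟨r, hr, hrz⟩ := hz
  rw [Fintype.card_fin] at hr
  have hn0 : n ≠ 0 := by omega
  refine ⟨Units.ofPowEqOne r n hr hn0, Units.pow_ofPowEqOne hr hn0, ?_⟩
  rw [← hrz, Units.val_ofPowEqOne, Matrix.smul_one_eq_diagonal]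
  rfl

end Cfsg.Agent.Lib.Helper1.PLK
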