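import Mathlib
import Cfsg.Prelude.Def_Blocks
import Cfsg.Prelude.Def_BrauerPairs
import Cfsg.Prelude.Def_Transfer
import Cfsg.Agent.Lib.Helper21.FrobeniusNPC
import Cfsg.Agent.Lib.Helper1.NPC
import Cfsg.Agent.Lib.Helper25.BrauerMapBasic

/-!
A finite group has a normal p-complement iff its principal block is nilpotent.
-/

set_option autoImplicit false
set_option linter.style.haveILetI false
set_option linter.unusedVariables false
set_option warn.classDefReducibility false

namespace Cfsg.Agent.Lib.Helper25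
open Cfsg.Agent.Lib.helper7
section

/-- `G` has a normal `p`-complement iff its principal block is nilpotent -/
theorem bm_pnilpotent_iff {G : Type*} [Group G] [Fintype G] (p : ℕ) [hp : Fact p.Prime]
    (M : Ideal Cfsg.AlgInt) (hM : Cfsg.IsPModular p M) :
    Cfsg.HasNormalPComplement p G ↔ Cfsg.IsNilpotentBlock p M (Cfsg.principalBlock M G) := by
  classical
  have hMp := hM.2.1.isPrime
  constructor
  · rintro ⟨P, N, hNn, hN⟩
    haveI := hNn
    refine ⟨⟨trivIrr G, pb_principal_eq M⟩, ?_⟩
    intro Q e hpair x hx _ hreg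
    have hQ : IsPGroup p Q := hpair.1.1
    have hcop : Nat.Coprime (orderOf x) p :=
      (Nat.Coprime.symm ((Nat.Prime.coprime_iff_not_dvd hp.out).mpr hreg))
    have hxN : x ∈ N := (Cfsg.Agent.Lib.Helper1.mem_normal_complement_iff P N hN x).mpr hcop
    rw [Subgroup.mem_centralizer_iff]
    intro u hu
    have h1 : x * u * x⁻¹ * u⁻¹ ∈ Q :=
      Q.mul_mem ((Subgroup.mem_normalizer_iff.mp hx u).mp hu) (Q.inv_mem hu)
    have h2 : x * u * x⁻¹ * u⁻¹ ∈ N := by
      have : x * u * x⁻¹ * u⁻¹ = x * (u * x⁻¹ * u⁻¹) := by group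
      rw [this]
      exact N.mul_mem hxN (hNn.conj_mem _ (N.inv_mem hxN) u)
    have h3 : Nat.Coprime (orderOf (x * u * x⁻¹ * u⁻¹)) p :=
      (Cfsg.Agent.Lib.Helper1.mem_normal_complement_iff P N hN _).mp h2
    obtain ⟨k, hk⟩ := hQ ⟨_, h1⟩
    have h4 : (x * u * x⁻¹ * u⁻¹) ^ p ^ k = 1 := by
      have := congrArg Subtype.val hk
      simpa using this
    have h5 : orderOf (x * u * x⁻¹ * u⁻¹) ∣ p ^ k := orderOf_dvd_of_pow_eq_one h4
    have h6 : orderOf (x * u * x⁻¹ * u⁻¹) = 1 := by
      have h61 := Nat.Coprime.pow_right k h3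
      exact Nat.Coprime.eq_one_of_dvd h61 h5
    have h7 : x * u * x⁻¹ * u⁻¹ = 1 := orderOf_eq_one_iff.mp h6
    have := congrArg (fun t => t * u * x) h7
    simpa [mul_assoc] using this.symm
  · intro h
    obtain ⟨P⟩ : Nonempty (Sylow p G) := inferInstance
    have hF : Cfsg.Agent.Lib.Helper21.FrobHyp p G := by
      intro D hD g hg hcop
      have hpair := bm_principal_pair p M hM D hD
      have hstab := bm_principal_stable p M hM (Subgroup.centralizer (D : Set G)) g
        (bm_normalizer_centralizer D g hg)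
      have hreg : Cfsg.IsPRegular p g := by
        unfold Cfsg.IsPRegular
        exact (Nat.Prime.coprime_iff_not_dvd hp.out).mp hcop.symm
      exact h.2 D _ hpair g hg hstab hreg
    obtain ⟨N, hNn, hN⟩ := hF.exists_normal_complement P
    exact ⟨P, N, hNn, hN⟩

end

end Cfsg.Agent.Lib.Helper25
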