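import Mathlib
import Cfsg.Agent.Lib.Helper25.SylowDerivedLength
import Cfsg.Agent.Lib.Helper25.KnorrBound
import Cfsg.Agent.Lib.Helper24.GaloisNorm
import Cfsg.Agent.S4742

/-!
Groups without elements of order pq that are p-solvable or q-solvable have a character of p-defect zero or of q-defect zero (S4743).
-/

set_option autoImplicit false
set_option linter.style.haveILetI false
set_option linter.unusedVariables false
set_option warn.classDefReducibility false
set_option maxHeartbeats 1600000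

namespace Cfsg.Agent.Lib.Helper25
open Cfsg.Agent.Lib.Helper24
open Cfsg.Agent.Lib.Helper11
open Cfsg.Agent.Lib.helper2
open Cfsg.Agent.Lib.helper7
open scoped ComplexConjugate commutatorElement
open Cfsg.Agent.Lib.Helper5
section

/-- the irreducible characters separate a non-identity element from the identity -/
theorem pqz_exists_irr_ne {V : Type*} [Group V] [Finite V] (a : V) (ha1 : a ≠ 1) :
    ∃ ξ : Cfsg.IrrCharacter V, (ξ : V → ℂ) a ≠ (ξ : V → ℂ) 1 := by
  classical
  haveI : Fintype V := Fintype.ofFinite V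
  haveI : Fintype (Cfsg.IrrCharacter V) := Fintype.ofFinite _
  by_contra hall
  push Not at hall
  have h1 := irr_column_orthogonality (G := V) a 1
  have h2 := irr_column_orthogonality (G := V) 1 1
  rw [if_neg (by rw [isConj_one_right]; exact ha1)] at h1
  rw [if_pos (IsConj.refl _)] at h2
  have h3 : ∑ χ : Cfsg.IrrCharacter V, (χ : V → ℂ) a * conj ((χ : V → ℂ) 1) =
      ∑ χ : Cfsg.IrrCharacter V, (χ : V → ℂ) 1 * conj ((χ : V → ℂ) 1) :=
    Finset.sum_congr rfl fun χ _ => by rw [hall χ]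
  rw [h1, h2] at h3
  have : (Nat.card (Subgroup.centralizer ({(1 : V)} : Set V)) : ℂ) ≠ 0 := by
    exact_mod_cast Nat.card_pos.ne'
  exact this h3.symm

/-- the partial norms of `v` under an automorphism -/
def pqz_nrm {V : Type*} [Group V] (σ : V ≃* V) (v : V) : ℕ → V
  | 0 => 1
  | k + 1 => pqz_nrm σ v k * (σ ^ k) v

theorem pqz_nrm_shift {V : Type*} [Group V] (σ : V ≃* V) (v : V) (k : ℕ) :
    v * σ (pqz_nrm σ v k) = pqz_nrm σ v (k + 1) := by
  induction k with
  | zero =>
    show v * σ 1 = 1 * (σ ^ 0) v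
    rw [map_one, mul_one, one_mul, pow_zero]
    rfl
  | succ k ih =>
    show v * σ (pqz_nrm σ v k * (σ ^ k) v) = pqz_nrm σ v (k + 1) * (σ ^ (k + 1)) v
    rw [map_mul, ← mul_assoc, ih, pow_succ', MulAut.mul_apply]

/-- the norm argument: an element of order dividing `q` fixing a nontrivial character of the
abelian normal subgroup `V` of order prime to `q` centralizes a non-identity element of `V` -/
theorem pqz_fixed_point {X : Type*} [Group X] [Finite X] (q : ℕ) (V : Subgroup X)
    [hV : V.Normal] (hab : ∀ a ∈ V, ∀ b ∈ V, a * b = b * a) (hcop : (Nat.card V).Coprime q)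
    (z : X) (hz : z ^ q = 1) (lam : Cfsg.IrrCharacter V)
    (hlam : ∃ v : V, (lam : V → ℂ) v ≠ (lam : V → ℂ) 1)
    (hfix : ∀ v : V, (lam : V → ℂ) ⟨z * v * z⁻¹, hV.conj_mem v v.2 z⟩ = (lam : V → ℂ) v) :
    ∃ w ∈ V, w ≠ 1 ∧ z * w = w * z := by
  classical
  haveI : IsMulCommutative V := ⟨⟨fun a b => Subtype.ext (hab a a.2 b b.2)⟩⟩
  have hlam1 : (lam : V → ℂ) 1 = 1 := gn_irr_one_of_isMulCommutative lam
  let σ : V ≃* V := MulAut.conjNormal z
  have hσ : ∀ x : V, ((σ x : V) : X) = z * x * z⁻¹ := fun x => rfl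
  have hσpow : ∀ (k : ℕ) (x : V), (((σ ^ k) x : V) : X) = z ^ k * x * (z ^ k)⁻¹ := by
    intro k
    induction k with
    | zero => intro x; simp
    | succ k ih =>
      intro x
      rw [pow_succ', MulAut.mul_apply, hσ, ih, pow_succ']
      group
  have hσq : ∀ x : V, (σ ^ q) x = x := by
    intro x
    apply Subtype.ext
    rw [hσpow, hz]
    simp
  have hfix1 : ∀ v : V, (lam : V → ℂ) (σ v) = (lam : V → ℂ) v := fun v => hfix v
  have hfixpow : ∀ (k : ℕ) (v : V), (lam : V → ℂ) ((σ ^ k) v) = (lam : V → ℂ) v := by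
    intro k
    induction k with
    | zero => intro v; rfl
    | succ k ih =>
      intro v
      rw [pow_succ', MulAut.mul_apply, hfix1, ih]
  have hL1 : ∀ (v : V) (k : ℕ), (lam : V → ℂ) (pqz_nrm σ v k) = ((lam : V → ℂ) v) ^ k := by
    intro v k
    induction k with
    | zero => rw [pow_zero]; exact hlam1
    | succ k ih =>
      show (lam : V → ℂ) (pqz_nrm σ v k * (σ ^ k) v) = _
      rw [irr_linear_mul lam hlam1, ih, hfixpow, pow_succ]
  have hfixw : ∀ v : V, σ (pqz_nrm σ v q) = pqz_nrm σ v q := by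
    intro v
    have h1 := pqz_nrm_shift σ v q
    have h2 : pqz_nrm σ v (q + 1) = pqz_nrm σ v q * v := by
      show pqz_nrm σ v q * (σ ^ q) v = _
      rw [hσq]
    rw [h2, mul_comm' (pqz_nrm σ v q) v] at h1
    exact mul_left_cancel h1
  by_cases hall : ∀ v : V, pqz_nrm σ v q = 1
  · exfalso
    obtain ⟨v₀, hv₀⟩ := hlam
    apply hv₀
    rw [hlam1]
    have h1 : ((lam : V → ℂ) v₀) ^ q = 1 := by
      rw [← hL1, hall, hlam1]
    have h2 : ((lam : V → ℂ) v₀) ^ (Nat.card V) = 1 := by
      rw [← gn_irr_linear_pow lam hlam1, pow_card_eq_one', hlam1]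
    have h3 : orderOf ((lam : V → ℂ) v₀) ∣ Nat.gcd (Nat.card V) q :=
      Nat.dvd_gcd (orderOf_dvd_of_pow_eq_one h2) (orderOf_dvd_of_pow_eq_one h1)
    rw [hcop.gcd_eq_one, Nat.dvd_one] at h3
    exact orderOf_eq_one_iff.mp h3
  · push Not at hall
    obtain ⟨v, hv⟩ := hall
    refine ⟨((pqz_nrm σ v q : V) : X), (pqz_nrm σ v q).2, fun h => hv (Subtype.ext h), ?_⟩
    have h1 := congrArg Subtype.val (hfixw v)
    rw [hσ] at h1
    calc z * ((pqz_nrm σ v q : V) : X) = (z * ((pqz_nrm σ v q : V) : X) * z⁻¹) * z := by group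
      _ = ((pqz_nrm σ v q : V) : X) * z := by rw [h1]

end

section

/-- the size of the orbit of a character of a normal subgroup is the index of its stabilizer -/
theorem pqz_orbit_card {X : Type*} [Group X] [Fintype X] (V : Subgroup X) [hV : V.Normal]
    (θ : Cfsg.IrrCharacter V) [DecidableEq (V → ℂ)] :
    (Finset.univ.image (fun g : X => cj V θ.1 g)).card =
      (@MulAction.stabilizer X _ _ (irrMulAction V) θ).index := by
  letI := irrMulAction V
  rw [MulAction.index_stabilizer]
  have h3 : ((Finset.univ.image (fun g : X => cj V θ.1 g) : Finset (V → ℂ)) : Set (V → ℂ)) =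
      Subtype.val '' (MulAction.orbit X θ) := by
    ext ψ
    simp only [Finset.coe_image, Finset.coe_univ, Set.image_univ, Set.mem_range, Set.mem_image]
    constructor
    · rintro ⟨g, rfl⟩
      refine ⟨g⁻¹ • θ, ⟨g⁻¹, rfl⟩, ?_⟩
      show cj V θ.1 g⁻¹⁻¹ = cj V θ.1 g
      rw [inv_inv]
    · rintro ⟨μ, ⟨g, rfl⟩, rfl⟩
      exact ⟨g⁻¹, rfl⟩
  rw [← Set.ncard_coe_finset, h3, Set.ncard_image_of_injective _ Subtype.val_injective]

/-- a group with a nontrivial abelian normal `p`-subgroup on which the elements of order `q` act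
fixed-point-freely has an irreducible character of `q`-defect zero -/
theorem pqz_defect_zero {X : Type*} [Group X] [Finite X] (p q : ℕ) [hp : Fact p.Prime]
    [hq : Fact q.Prime] (hpq : p ≠ q) (V : Subgroup X) [hV : V.Normal] (hVp : IsPGroup p V)
    (hV1 : V ≠ ⊥) (hab : ∀ a ∈ V, ∀ b ∈ V, a * b = b * a)
    (hfree : ∀ z : X, orderOf z = q → ∀ w ∈ V, z * w = w * z → w = 1) :
    ∃ χ : Cfsg.IrrCharacter X,
      (Cfsg.charDegree (χ : X → ℂ)).factorization q = (Nat.card X).factorization q := by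
  classical
  haveI := Fintype.ofFinite X
  haveI : Fintype V := Fintype.ofFinite V
  obtain ⟨a, ha1⟩ := (Subgroup.ne_bot_iff_exists_ne_one).mp hV1
  obtain ⟨lam, hlam⟩ := pqz_exists_irr_ne a ha1
  letI := irrMulAction V
  have hcop : (Nat.card V).Coprime q := by
    obtain ⟨n, hn⟩ := IsPGroup.iff_card.mp hVp
    rw [hn]
    exact Nat.Coprime.pow_left n ((Nat.coprime_primes hp.out hq.out).mpr hpq)
  have hI : ¬ q ∣ Nat.card (MulAction.stabilizer X lam) := by
    intro hdvd
    obtain ⟨z, hz⟩ := exists_prime_orderOf_dvd_card' q hdvd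
    have hz' : orderOf (z : X) = q := by rw [Subgroup.orderOf_coe]; exact hz
    have hzq : (z : X) ^ q = 1 := by rw [← hz']; exact pow_orderOf_eq_one _
    have hstab : conjIrr V (z : X) lam = lam := MulAction.mem_stabilizer_iff.mp z.2
    obtain ⟨w, hwV, hw1, hcomm⟩ := pqz_fixed_point q V hab hcop (z : X) hzq lam ⟨a, hlam⟩ (by
      intro v
      have := conjIrr_conj V (z : X) lam v
      rw [hstab] at this
      exact this)
    exact hw1 (hfree (z : X) hz' w hwV hcomm)
  obtain ⟨χ, hχ⟩ := itn_exists_over V lam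
  obtain ⟨e, he⟩ := itn_degree_dvd V χ lam hχ
  rw [pqz_orbit_card V lam] at he
  obtain ⟨hd1, hd2, -⟩ := h7_charDegree_props χ
  refine ⟨χ, le_antisymm ?_ ?_⟩
  · exact (Nat.factorization_le_iff_dvd hd2.ne' Nat.card_pos.ne').mpr hd1 q
  · have hidx : (MulAction.stabilizer X lam).index ∣ Cfsg.charDegree (χ : X → ℂ) := by
      rw [he]
      exact dvd_mul_of_dvd_right (dvd_mul_right _ _) _
    have h1 : (Nat.card X).factorization q =
        ((MulAction.stabilizer X lam).index).factorization q := by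
      rw [← Subgroup.index_mul_card (MulAction.stabilizer X lam),
        Nat.factorization_mul Subgroup.index_ne_zero_of_finite Nat.card_pos.ne']
      simp only [Finsupp.coe_add, Pi.add_apply]
      rw [Nat.factorization_eq_zero_of_not_dvd hI, add_zero]
    rw [h1]
    exact (Nat.factorization_le_iff_dvd Subgroup.index_ne_zero_of_finite hd2.ne').mpr hidx q

end

section

/-- commuting elements of orders `p^a > 1` and `q` of a quotient by a normal `p'`-subgroup lift to
a nontrivial `p`-element whose centralizer has order divisible by `q` -/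
theorem pqz_lift {G : Type*} [Group G] [Finite G] (p q : ℕ) [hp : Fact p.Prime]
    [hq : Fact q.Prime] (K : Subgroup G) [hK : K.Normal] (hKp : (Nat.card K).Coprime p)
    (v' z' : G ⧸ K) (hv1 : v' ≠ 1) (hv : ∃ a : ℕ, orderOf v' = p ^ a) (hz : orderOf z' = q)
    (hcomm : z' * v' = v' * z') :
    ∃ x : G, x ≠ 1 ∧ (∃ k : ℕ, orderOf x = p ^ k) ∧
      q ∣ Nat.card (Subgroup.centralizer ({x} : Set G)) := by
  obtain ⟨v, rfl⟩ := QuotientGroup.mk'_surjective K v'
  obtain ⟨z, rfl⟩ := QuotientGroup.mk'_surjective K z'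
  obtain ⟨a, ha⟩ := hv
  have hpos : 0 < orderOf v := orderOf_pos v
  obtain ⟨a', r, hr, hvr⟩ := Nat.exists_eq_pow_mul_and_not_dvd hpos.ne' p hp.out.ne_one
  have hrpos : 0 < r := by
    rcases Nat.eq_zero_or_pos r with h | h
    · rw [h, mul_zero] at hvr; omega
    · exact h
  have hxord : orderOf (v ^ r) = p ^ a' := by
    rw [orderOf_pow' v hrpos.ne', hvr, Nat.gcd_mul_left_left]
    exact Nat.mul_div_cancel _ hrpos
  have hx1 : v ^ r ≠ 1 := by
    intro h
    have h1 : (QuotientGroup.mk' K v) ^ r = 1 := by rw [← map_pow, h, map_one]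
    have h2 : orderOf (QuotientGroup.mk' K v) ∣ r := orderOf_dvd_of_pow_eq_one h1
    rw [ha] at h2
    rcases Nat.eq_zero_or_pos a with h0 | h0
    · rw [h0, pow_zero] at ha
      exact hv1 (orderOf_eq_one_iff.mp ha)
    · exact hr ((dvd_pow_self p h0.ne').trans h2)
  refine ⟨v ^ r, hx1, ⟨a', hxord⟩, ?_⟩
  have hP : IsPGroup p (Subgroup.zpowers (v ^ r)) := by
    apply IsPGroup.of_card (n := a')
    rw [Nat.card_zpowers, hxord]
  have hy : QuotientGroup.mk' K z ∈ Subgroup.centralizer
      (((Subgroup.zpowers (v ^ r)).map (QuotientGroup.mk' K) : Subgroup (G ⧸ K)) :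
        Set (G ⧸ K)) := by
    rw [Subgroup.mem_centralizer_iff]
    rintro _ ⟨y, hy, rfl⟩
    obtain ⟨i, rfl⟩ := Subgroup.mem_zpowers_iff.mp hy
    have h1 : Commute (QuotientGroup.mk' K z) (QuotientGroup.mk' K v) := hcomm
    have h2 : Commute (QuotientGroup.mk' K z) (((QuotientGroup.mk' K v) ^ r) ^ i) :=
      (h1.pow_right r).zpow_right i
    rw [map_zpow, map_pow]
    exact h2.eq.symm
  obtain ⟨d, hd, hzd⟩ := h5_exists_lift_centralizer K hKp _ hP z hy
  have hw : z * d ∈ Subgroup.centralizer ({v ^ r} : Set G) := by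
    rw [Subgroup.mem_centralizer_iff] at hzd ⊢
    intro y hy
    rw [Set.mem_singleton_iff] at hy
    subst hy
    exact hzd _ (Subgroup.mem_zpowers _)
  have hwq : QuotientGroup.mk' K (z * d) = QuotientGroup.mk' K z := by
    have hd1 : QuotientGroup.mk' K d = 1 := (QuotientGroup.eq_one_iff d).mpr hd
    rw [map_mul, hd1, mul_one]
  have h1 : q ∣ orderOf (z * d) := by
    rw [← hz, ← hwq]
    exact orderOf_map_dvd _ _
  have h2 : orderOf (z * d) ∣ Nat.card (Subgroup.centralizer ({v ^ r} : Set G)) := by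
    have := orderOf_dvd_natCard (⟨z * d, hw⟩ : Subgroup.centralizer ({v ^ r} : Set G))
    rwa [Subgroup.orderOf_mk] at this
  exact h1.trans h2

end

section

/-- the `p`-solvable case of S4743 -/
theorem pqz_main_psolv {G : Type*} [Group G] [Finite G] (p q : ℕ) [hp : Fact p.Prime]
    [hq : Fact q.Prime] (hpq : p ≠ q) (hpG : p ∣ Nat.card G) (hqG : q ∣ Nat.card G)
    (hC : ∀ g : G, g ≠ 1 → (∃ k : ℕ, orderOf g = p ^ k) →
      ¬ q ∣ Nat.card ↥(Subgroup.centralizer ({g} : Set G)))
    (hsolv : Cfsg.IsPSolvable p G) :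
    (∃ χ : Cfsg.IrrCharacter G,
      (Cfsg.charDegree (χ : G → ℂ)).factorization p = (Nat.card G).factorization p) ∨
    (∃ χ : Cfsg.IrrCharacter G,
      (Cfsg.charDegree (χ : G → ℂ)).factorization q = (Nat.card G).factorization q) := by
  classical
  rcases Cfsg.Agent.S4742.result p q hpq hpG hqG hC with h | hstar
  · exact Or.inl h
  right
  obtain ⟨K, S, hKn, hSn, hKS, hKp, m, hm, hidx⟩ := sdl_series_step p hsolv hpG
  haveI := hKn
  haveI := hSn
  have hKcop : (Nat.card K).Coprime p := by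
    rw [Nat.coprime_comm, Nat.Prime.coprime_iff_not_dvd hp.out]
    exact hKp
  -- `q` does not divide the order of `K`
  have hKq : ¬ q ∣ Nat.card K := by
    intro hdvd
    obtain ⟨z, hz⟩ := exists_prime_orderOf_dvd_card' q hdvd
    have hz' : orderOf (z : G) = q := by rw [Subgroup.orderOf_coe]; exact hz
    have hz1 : (z : G) ≠ 1 := by
      intro h
      rw [h, orderOf_one] at hz'
      exact hq.out.one_lt.ne hz'
    obtain ⟨g, h, hg, hh, hne, k, hk⟩ := hstar (z : G) hz1 ⟨1, by rw [hz', pow_one]⟩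
    have hgK : g ∈ K := by
      obtain ⟨c, hc⟩ := isConj_iff.mp hg
      rw [← hc]
      exact hKn.conj_mem _ z.2 c
    have hhK : h ∈ K := by
      obtain ⟨c, hc⟩ := isConj_iff.mp hh
      rw [← hc]
      exact hKn.conj_mem _ z.2 c
    have hmem : g * h⁻¹ ∈ K := K.mul_mem hgK (K.inv_mem hhK)
    have hord : orderOf (g * h⁻¹) ∣ Nat.card K := by
      have := orderOf_dvd_natCard (⟨g * h⁻¹, hmem⟩ : K)
      rwa [Subgroup.orderOf_mk] at this
    rw [hk] at hord
    have hk0 : k ≠ 0 := by
      rintro rfl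
      rw [pow_zero] at hk
      exact hne (orderOf_eq_one_iff.mp hk)
    exact hKp ((dvd_pow_self p hk0).trans hord)
  -- the quotient
  have hf : Function.Surjective (QuotientGroup.mk' K) := QuotientGroup.mk'_surjective K
  haveI hV₀n : (S.map (QuotientGroup.mk' K)).Normal := Subgroup.Normal.map hSn _ hf
  have hV₀card : Nat.card (S.map (QuotientGroup.mk' K)) = p ^ m := by
    rw [← hidx, ← Subgroup.relIndex_ker, QuotientGroup.ker_mk']
  have hV₀p : IsPGroup p (S.map (QuotientGroup.mk' K)) := IsPGroup.of_card hV₀card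
  haveI : Nontrivial (S.map (QuotientGroup.mk' K)) := by
    rw [← Finite.one_lt_card_iff_nontrivial, hV₀card]
    exact Nat.one_lt_pow (by omega) hp.out.one_lt
  haveI hZnt : Nontrivial (Subgroup.center ↥(S.map (QuotientGroup.mk' K))) :=
    hV₀p.center_nontrivial
  haveI hVn : ((Subgroup.center ↥(S.map (QuotientGroup.mk' K))).map
      (S.map (QuotientGroup.mk' K)).subtype).Normal :=
    h5_normal_map_of_characteristic _ _
  have hVp : IsPGroup p ((Subgroup.center ↥(S.map (QuotientGroup.mk' K))).map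
      (S.map (QuotientGroup.mk' K)).subtype) :=
    (hV₀p.to_subgroup _).map _
  have hV1 : (Subgroup.center ↥(S.map (QuotientGroup.mk' K))).map
      (S.map (QuotientGroup.mk' K)).subtype ≠ ⊥ := by
    intro h
    obtain ⟨c, hc⟩ := exists_ne (1 : Subgroup.center ↥(S.map (QuotientGroup.mk' K)))
    apply hc
    have h1 : ((c : ↥(S.map (QuotientGroup.mk' K))) : G ⧸ K) ∈
        (Subgroup.center ↥(S.map (QuotientGroup.mk' K))).map
          (S.map (QuotientGroup.mk' K)).subtype := ⟨c, c.2, rfl⟩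
    rw [h, Subgroup.mem_bot] at h1
    apply Subtype.ext
    apply Subtype.ext
    exact h1
  have hab : ∀ a ∈ (Subgroup.center ↥(S.map (QuotientGroup.mk' K))).map
      (S.map (QuotientGroup.mk' K)).subtype,
      ∀ b ∈ (Subgroup.center ↥(S.map (QuotientGroup.mk' K))).map
        (S.map (QuotientGroup.mk' K)).subtype, a * b = b * a := by
    rintro _ ⟨a, ha, rfl⟩ _ ⟨b, hb, rfl⟩
    have := Subgroup.mem_center_iff.mp ha b
    exact (congrArg Subtype.val this).symm
  have hfree : ∀ z : G ⧸ K, orderOf z = q →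
      ∀ w ∈ (Subgroup.center ↥(S.map (QuotientGroup.mk' K))).map
        (S.map (QuotientGroup.mk' K)).subtype, z * w = w * z → w = 1 := by
    intro z hz w hw hcomm
    by_contra hw1
    obtain ⟨k, hk⟩ := hVp ⟨w, hw⟩
    have hk' : w ^ p ^ k = 1 := by
      have := congrArg Subtype.val hk
      simpa using this
    obtain ⟨a, _, ha⟩ := (Nat.dvd_prime_pow hp.out).mp (orderOf_dvd_of_pow_eq_one hk')
    obtain ⟨x, hx1, hxp, hxq⟩ := pqz_lift p q K hKcop w z hw1 ⟨a, ha⟩ hz hcomm
    exact hC x hx1 hxp hxq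
  obtain ⟨χ', hχ'⟩ := pqz_defect_zero p q hpq _ hVp hV1 hab hfree
  refine ⟨xs_infl (QuotientGroup.mk' K) hf χ', ?_⟩
  have hdeg : Cfsg.charDegree ((xs_infl (QuotientGroup.mk' K) hf χ' :
      Cfsg.IrrCharacter G) : G → ℂ) = Cfsg.charDegree (χ' : G ⧸ K → ℂ) := by
    apply xs_charDegree_eq
    rw [xs_infl_apply]
    simp
  rw [hdeg, hχ', Subgroup.card_eq_card_quotient_mul_card_subgroup K,
    Nat.factorization_mul Nat.card_pos.ne' Nat.card_pos.ne']
  simp only [Finsupp.coe_add, Pi.add_apply]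
  rw [Nat.factorization_eq_zero_of_not_dvd hKq, add_zero]

/-- S4743 -/
theorem pqz_main {G : Type*} [Group G] [Finite G] (p q : ℕ) [hp : Fact p.Prime]
    [hq : Fact q.Prime] (hpq : p ≠ q) (hpG : p ∣ Nat.card G) (hqG : q ∣ Nat.card G)
    (hC : ∀ g : G, g ≠ 1 → (∃ k : ℕ, orderOf g = p ^ k) →
      ¬ q ∣ Nat.card ↥(Subgroup.centralizer ({g} : Set G)))
    (hsolv : Cfsg.IsPSolvable p G ∨ Cfsg.IsPSolvable q G) :
    (∃ χ : Cfsg.IrrCharacter G,
      (Cfsg.charDegree (χ : G → ℂ)).factorization p = (Nat.card G).factorization p) ∨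
    (∃ χ : Cfsg.IrrCharacter G,
      (Cfsg.charDegree (χ : G → ℂ)).factorization q = (Nat.card G).factorization q) := by
  rcases hsolv with h | h
  · exact pqz_main_psolv p q hpq hpG hqG hC h
  · have hC' : ∀ g : G, g ≠ 1 → (∃ k : ℕ, orderOf g = q ^ k) →
        ¬ p ∣ Nat.card ↥(Subgroup.centralizer ({g} : Set G)) := by
      rintro g hg1 ⟨k, hk⟩ hdvd
      obtain ⟨x, hx⟩ := exists_prime_orderOf_dvd_card' p hdvd
      have hx' : orderOf (x : G) = p := by rw [Subgroup.orderOf_coe]; exact hx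
      have hx1 : (x : G) ≠ 1 := by
        intro h1
        rw [h1, orderOf_one] at hx'
        exact hp.out.one_lt.ne hx'
      apply hC (x : G) hx1 ⟨1, by rw [hx', pow_one]⟩
      have hgx : g ∈ Subgroup.centralizer ({(x : G)} : Set G) := by
        rw [Subgroup.mem_centralizer_singleton_iff]
        exact (Subgroup.mem_centralizer_singleton_iff.mp x.2).symm
      have h1 : orderOf g ∣ Nat.card (Subgroup.centralizer ({(x : G)} : Set G)) := by
        have := orderOf_dvd_natCard (⟨g, hgx⟩ : Subgroup.centralizer ({(x : G)} : Set G))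
        rwa [Subgroup.orderOf_mk] at this
      have hk0 : k ≠ 0 := by
        rintro rfl
        rw [pow_zero] at hk
        exact hg1 (orderOf_eq_one_iff.mp hk)
      rw [hk] at h1
      exact (dvd_pow_self q hk0).trans h1
    exact (pqz_main_psolv q p hpq.symm hqG hpG hC' h).symm

end

end Cfsg.Agent.Lib.Helper25
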