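import Mathlib
import Cfsg.Agent.Lib.Helper28.CD3.Defs
import Cfsg.Agent.Lib.Helper19.CD3BASIC
import Cfsg.Agent.Lib.Helper16.CD3KER
import Cfsg.Agent.Lib.Helper25.CharLinear
import Cfsg.Agent.Lib.Helper25.CharAbelian
import Cfsg.Agent.Lib.Helper25.Gagola
import Cfsg.Agent.Lib.helper2.PModular2
import Cfsg.Agent.S3968
import Cfsg.Agent.S4441

/-!
# Project PRD (S4466, S4813): groups all of whose nonlinear irreducible characters have prime degree

The simple case: a nonabelian simple group has a nonlinear irreducible character whose degree is not a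
prime.  Let `p` be the largest degree.  If `p ≤ 3` there are at most three degrees and the group is
solvable (project CD3).  Otherwise a character of degree `p` is faithful, so `p² ∤ |G|` (S3968), the Sylow
`p`-subgroups have order `p` and Brauer's theorem on blocks of defect one (S4441) gives a second irreducible
character of degree `≡ ±1 (mod p)`; it is a prime `q ≤ p`, which is impossible.
-/

set_option autoImplicit false

namespace Cfsg.Agent.Lib.Helper25.PRD

open Cfsg.Agent.Lib.Helper28.CD3 Cfsg.Agent.Lib.Helper25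

universe u

/-- every nonlinear irreducible character has prime degree -/
def PD (G : Type u) [Group G] : Prop := ∀ d ∈ Cfsg.charDegrees G, d = 1 ∨ d.Prime

/-- a prime `q ≤ p` is not `≡ ±1 (mod p)` when `p ≥ 5` is a prime -/
theorem prd_arith {p q : ℕ} (hp : p.Prime) (hp5 : 5 ≤ p) (hq : q.Prime) (hqp : q ≤ p)
    (h : (q : ℤ) ≡ 1 [ZMOD p] ∨ (q : ℤ) ≡ -1 [ZMOD p]) : False := by
  have hq2 := hq.two_le
  rcases h with h | h
  · have h1 : (p : ℤ) ∣ (q : ℤ) - 1 := (Int.modEq_iff_dvd.mp h.symm)
    have h2 : ((q - 1 : ℕ) : ℤ) = (q : ℤ) - 1 := by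
      rw [Nat.cast_sub (by omega)]; simp
    rw [← h2, Int.natCast_dvd_natCast] at h1
    have := Nat.le_of_dvd (by omega) h1
    omega
  · have h1 : (p : ℤ) ∣ (q : ℤ) - (-1) := (Int.modEq_iff_dvd.mp h.symm)
    have h2 : ((q + 1 : ℕ) : ℤ) = (q : ℤ) - (-1) := by push_cast; ring
    rw [← h2, Int.natCast_dvd_natCast] at h1
    have h3 := Nat.le_of_dvd (by omega) h1
    have h4 : q + 1 = p ∨ q = p := by omega
    rcases h4 with h4 | h4
    · -- `q = p - 1` is even
      have hpodd : Odd p := hp.odd_of_ne_two (by omega)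
      have hqev : Even q := by
        obtain ⟨k, hk⟩ := hpodd
        exact ⟨k, by omega⟩
      have := (Nat.Prime.even_iff hq).mp hqev
      omega
    · rw [h4] at h1
      have h5 : p ∣ 1 := (Nat.dvd_add_right (dvd_refl p)).mp h1
      have := Nat.le_of_dvd one_pos h5
      omega

section
variable {G : Type u} [Group G] [Finite G]

/-- a group with trivial commutator subgroup is solvable -/
theorem prd_solvable_of_commutator_bot (h : commutator G = ⊥) : Group.IsSolvable G :=
  ⟨⟨1, by rw [derivedSeries_one]; exact h⟩⟩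

/-- in a perfect group the only linear character is the trivial one -/
theorem prd_linear_trivial (hperf : commutator G = ⊤) (ψ : Cfsg.IrrCharacter G)
    (h1 : Cfsg.charDegree (ψ : G → ℂ) = 1) : ψ = trivIrr G := by
  have h2 : (ψ : G → ℂ) 1 = 1 := by
    rw [← (charDegree_irr ψ).1, h1]; simp
  apply Subtype.ext
  funext g
  rw [trivIrr_apply]
  exact irr_linear_commutator ψ h2 (by rw [hperf]; exact Subgroup.mem_top g)

/-- a set of cardinality at least two contains an element different from a given one -/
theorem prd_exists_ne {α : Type*} (S : Set α) (hS : 2 ≤ Nat.card S) (a : α) :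
    ∃ b ∈ S, b ≠ a := by
  rw [Nat.card_coe_set_eq] at hS
  have hfin : S.Finite := Set.finite_of_ncard_ne_zero (by omega)
  obtain ⟨x, y, hx, hy, hxy⟩ := (Set.one_lt_ncard_iff hfin).mp (by omega)
  by_cases h : x = a
  · exact ⟨y, hy, fun hy' => hxy (h.trans hy'.symm)⟩
  · exact ⟨x, hx, h⟩

/-- the simple case -/
theorem prd_simple_false (hs : IsSimpleGroup G) (hns : ¬ Group.IsSolvable G) (hPD : PD G)
    (hCD3 : (Cfsg.charDegrees G).ncard ≤ 3 → derivedSeries G 3 = ⊥) : False := by
  classical
  -- `G` is perfect
  have hperf : commutator G = ⊤ := by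
    rcases hs.eq_bot_or_eq_top_of_normal (commutator G) inferInstance with h | h
    · exact absurd (prd_solvable_of_commutator_bot h) hns
    · exact h
  -- the centre is trivial
  have hZ : Subgroup.center G = ⊥ := by
    rcases hs.eq_bot_or_eq_top_of_normal (Subgroup.center G) inferInstance with h | h
    · exact h
    · exfalso
      apply hns
      apply prd_solvable_of_commutator_bot
      rw [commutator_eq_bot_iff_center_eq_top]
      exact h
  -- the largest degree
  have hfin := cd_finite G
  have hne : hfin.toFinset.Nonempty := ⟨1, by rw [Set.Finite.mem_toFinset]; exact one_mem_cd G⟩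
  obtain ⟨p, hpD, hmax⟩ := Finset.exists_max_image hfin.toFinset id hne
  rw [Set.Finite.mem_toFinset] at hpD
  have hmax' : ∀ d ∈ Cfsg.charDegrees G, d ≤ p := by
    intro d hd
    exact hmax d (by rw [Set.Finite.mem_toFinset]; exact hd)
  by_cases hp5 : p < 5
  · -- at most three degrees
    apply hns
    have hsub : Cfsg.charDegrees G ⊆ ({1, 2, 3} : Set ℕ) := by
      intro d hd
      have h1 := hmax' d hd
      have h2 := cd_pos (G := G) hd
      rcases hPD d hd with h3 | h3
      · rw [h3]; simp
      · have h4 : d ≠ 4 := by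
          rintro rfl
          norm_num at h3
        have h5 : d ≠ 0 := by omega
        have h6 : d = 1 ∨ d = 2 ∨ d = 3 := by omega
        rcases h6 with rfl | rfl | rfl <;> simp
    have hcard : (Cfsg.charDegrees G).ncard ≤ 3 := by
      calc (Cfsg.charDegrees G).ncard ≤ ({1, 2, 3} : Set ℕ).ncard :=
            Set.ncard_le_ncard hsub (Set.toFinite _)
        _ ≤ 3 := by
            rw [Set.ncard_eq_toFinset_card']
            simp
    exact ⟨⟨3, hCD3 hcard⟩⟩
  · push Not at hp5
    have hpp : p.Prime := by
      rcases hPD p hpD with h | h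
      · omega
      · exact h
    haveI := Fact.mk hpp
    obtain ⟨χ, hχ⟩ := hpD
    -- `χ` is faithful
    have hker : irrKer χ = ⊥ := by
      rcases hs.eq_bot_or_eq_top_of_normal (irrKer χ) inferInstance with h | h
      · exact h
      · exfalso
        have h1 := linear_of_commutator_le_ker χ (fun g _ => by
          rw [← mem_irrKer, h]; exact Subgroup.mem_top g)
        omega
    have hfaith : ∀ g : G, χ.1 g = χ.1 1 → g = 1 := by
      intro g hg
      have : g ∈ irrKer χ := (mem_irrKer χ g).mpr hg
      rw [hker] at this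
      exact Subgroup.mem_bot.mp this
    have hdeg : χ.1 1 = p := by
      rw [← hχ]
      exact (charDegree_irr χ).1.symm
    have hsq : ¬ p ^ 2 ∣ Nat.card G := fun hd =>
      Cfsg.Agent.S3968.result p hpp χ hdeg hfaith hd hZ
    have hdvd : p ∣ Nat.card G := cd_dvd_card (G := G) ⟨χ, hχ⟩
    -- a Sylow `p`-subgroup has order `p`
    obtain ⟨P⟩ : Nonempty (Sylow p G) := inferInstance
    have hP : Nat.card P = p := by
      rw [Sylow.card_eq_multiplicity]
      have hn0 : Nat.card G ≠ 0 := Nat.card_pos.ne'
      have h1 : 1 ≤ (Nat.card G).factorization p :=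
        (hpp.dvd_iff_one_le_factorization hn0).mp hdvd
      have h2 : ¬ 2 ≤ (Nat.card G).factorization p := fun h =>
        hsq ((hpp.pow_dvd_iff_le_factorization hn0).mpr h)
      have h3 : (Nat.card G).factorization p = 1 := by omega
      rw [h3, pow_one]
    -- Brauer
    haveI : Fintype G := Fintype.ofFinite G
    obtain ⟨M, hM⟩ := Cfsg.Agent.Lib.helper2.exists_isPModular p hpp
    obtain ⟨X, Y, -, -, hX, hY, εX, ε, hXp, hε, hYd, -, -⟩ :=
      Cfsg.Agent.S4441.result p M hM (by omega) P hP _ rfl
    set e := (Subgroup.centralizer ((P : Subgroup G) : Set G)).relIndex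
      (Subgroup.normalizer ((P : Subgroup G) : Set G)) with he
    have he0 : e ≠ 0 := by
      rw [he]
      unfold Subgroup.relIndex
      exact Subgroup.index_ne_zero_of_finite
    -- a nontrivial character of degree `≡ ±1`
    have hex : ∃ ψ : Cfsg.IrrCharacter G, ψ ≠ trivIrr G ∧
        ((Cfsg.charDegree (ψ : G → ℂ) : ℤ) ≡ 1 [ZMOD p] ∨
          (Cfsg.charDegree (ψ : G → ℂ) : ℤ) ≡ -1 [ZMOD p]) := by
      by_cases he1 : e = 1
      · have h2 : 2 ≤ Nat.card Y := by
          rw [hY, he1, Nat.div_one]; omega
        obtain ⟨ψ, hψY, hψ⟩ := prd_exists_ne Y h2 (trivIrr G)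
        refine ⟨ψ, hψ, ?_⟩
        have h3 := hYd ψ hψY
        rw [he1] at h3
        rcases hε with h4 | h4
        · left; rw [h4] at h3; simpa using h3
        · right; rw [h4] at h3; simpa using h3
      · have h2 : 2 ≤ Nat.card X := by rw [hX]; omega
        obtain ⟨ψ, hψX, hψ⟩ := prd_exists_ne X h2 (trivIrr G)
        refine ⟨ψ, hψ, ?_⟩
        obtain ⟨h3, h4, -⟩ := hXp ψ hψX
        rcases h3 with h3 | h3
        · left; rw [h3] at h4; exact h4
        · right; rw [h3] at h4; exact h4
    obtain ⟨ψ, hψ, hcong⟩ := hex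
    have hψD : Cfsg.charDegree (ψ : G → ℂ) ∈ Cfsg.charDegrees G := ⟨ψ, rfl⟩
    have hq : (Cfsg.charDegree (ψ : G → ℂ)).Prime := by
      rcases hPD _ hψD with h | h
      · exact absurd (prd_linear_trivial hperf ψ h) hψ
      · exact h
    exact prd_arith hpp hp5 hq (hmax' _ hψD) hcong

end

end Cfsg.Agent.Lib.Helper25.PRD
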