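import Mathlib
import Cfsg.Agent.Lib.Helper25.PRDSimple
import Cfsg.Agent.Lib.Helper25.CD3CDF
import Cfsg.Agent.Lib.helper14.DegGraph

/-!
# Project PRD (S4466, S4813): reduction to the simple case and the solvability theorem

A minimal counterexample to "all nonlinear degrees prime ⇒ solvable" is simple: for a normal subgroup
`1 < N < G` both `N` and `G ⧸ N` inherit the hypothesis.
-/

set_option autoImplicit false

namespace Cfsg.Agent.Lib.Helper25.PRD

open Cfsg.Agent.Lib.Helper28.CD3 Cfsg.Agent.Lib.Helper25

universe u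

/-- the solvability theorem for all groups of order `< n` -/
def BelowP (n : ℕ) : Prop :=
  ∀ (H : Type u) [Group H] [Finite H], Nat.card H < n → PD H → Group.IsSolvable H

section
variable {G : Type u} [Group G] [Finite G]

/-- quotients inherit the hypothesis -/
theorem prd_quot (N : Subgroup G) [N.Normal] (h : PD G) : PD (G ⧸ N) :=
  fun d hd => h d (Cfsg.Agent.Lib.helper14.charDegrees_quot_subset N hd)

/-- normal subgroups inherit the hypothesis -/
theorem prd_sub (N : Subgroup G) [N.Normal] (h : PD G) : PD N := by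
  rintro d ⟨θ, rfl⟩
  obtain ⟨χ, h1, -⟩ := cd3cdf_over N θ
  have h2 : Cfsg.charDegree (θ : N → ℂ) ∣ Cfsg.charDegree (χ : G → ℂ) :=
    (Dvd.intro_left _ rfl).trans h1
  rcases h _ ⟨χ, rfl⟩ with h3 | h3
  · left
    rw [h3] at h2
    exact Nat.dvd_one.mp h2
  · rcases (Nat.dvd_prime h3).mp h2 with h4 | h4
    · left; exact h4
    · right; rw [h4]; exact h3

/-- the inductive step -/
theorem prd_step (hIH : BelowP.{u} (Nat.card G)) (hPD : PD G)
    (hCD3 : (Cfsg.charDegrees G).ncard ≤ 3 → derivedSeries G 3 = ⊥) : Group.IsSolvable G := by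
  by_contra hns
  have hnt : Nontrivial G := by
    by_contra h
    rw [not_nontrivial_iff_subsingleton] at h
    exact hns inferInstance
  have hsimple : IsSimpleGroup G := by
    refine ⟨fun N hN => ?_⟩
    by_contra hcon
    push Not at hcon
    obtain ⟨h1, h2⟩ := hcon
    have hcN : Nat.card N < Nat.card G := by
      have h3 := Subgroup.card_le_card_group N
      have h4 : Nat.card N ≠ Nat.card G := fun h => h2 ((Subgroup.card_eq_iff_eq_top N).mp h)
      omega
    have hcQ : Nat.card (G ⧸ N) < Nat.card G := by
      have h3 := Subgroup.card_eq_card_quotient_mul_card_subgroup N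
      have h4 : 1 < Nat.card N := (Subgroup.one_lt_card_iff_ne_bot N).mpr h1
      have h5 : 0 < Nat.card (G ⧸ N) := Nat.card_pos
      nlinarith
    haveI hNs : Group.IsSolvable N := hIH N hcN (prd_sub N hPD)
    haveI hQs : Group.IsSolvable (G ⧸ N) := hIH (G ⧸ N) hcQ (prd_quot N hPD)
    apply hns
    apply solvable_of_ker_le_range N.subtype (QuotientGroup.mk' N)
    rw [QuotientGroup.ker_mk', Subgroup.range_subtype]
  exact prd_simple_false hsimple hns hPD hCD3

end

/-- the solvability theorem, given the theorem on three character degrees (project CD3) -/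
theorem prd_below
    (hCD3 : ∀ (H : Type u) [Group H] [Finite H], (Cfsg.charDegrees H).ncard ≤ 3 →
      derivedSeries H 3 = ⊥) : ∀ n : ℕ, BelowP.{u} n := by
  intro n
  induction n using Nat.strong_induction_on with
  | _ n ih =>
    intro H _ _ hlt hPD
    exact prd_step (ih (Nat.card H) hlt) hPD (hCD3 H)

/-- all nonlinear degrees prime ⇒ solvable -/
theorem prd_solvable
    (hCD3 : ∀ (H : Type u) [Group H] [Finite H], (Cfsg.charDegrees H).ncard ≤ 3 →
      derivedSeries H 3 = ⊥) (G : Type u) [Group G] [Finite G] (hPD : PD G) : Group.IsSolvable G :=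
  prd_below hCD3 (Nat.card G + 1) G (Nat.lt_succ_self _) hPD

end Cfsg.Agent.Lib.Helper25.PRD
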