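import Mathlib
import Cfsg.Agent.Lib.Helper25.PRDRed
import Cfsg.Agent.Lib.Helper28.CD3.Main

/-!
# Project PRD (S4466, S4813): all nonlinear degrees prime ⇒ solvable
-/

set_option autoImplicit false

namespace Cfsg.Agent.Lib.Helper25.PRD

open Cfsg.Agent.Lib.Helper28.CD3

universe u

/-- the theorem on three character degrees (project CD3), for all groups of a universe -/
theorem prd_cd3 (H : Type u) [Group H] [Finite H] (h : (Cfsg.charDegrees H).ncard ≤ 3) :
    derivedSeries H 3 = ⊥ :=
  main_below.{u} (Nat.card H + 1) H (Nat.lt_succ_self _) h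

/-- S4466 : all nonlinear degrees prime ⇒ solvable -/
theorem prd_S4466 (G : Type u) [Group G] [Finite G] (hPD : PD G) : Group.IsSolvable G :=
  prd_solvable prd_cd3 G hPD

end Cfsg.Agent.Lib.Helper25.PRD
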