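import Mathlib
import Cfsg.Agent.Lib.Helper25.PRDRed
import Cfsg.Agent.Lib.helper23.CD3MAXK
import Cfsg.Agent.Lib.helper23.CD3OVERQ
import Cfsg.Agent.Lib.Helper20.CD3FROB
import Cfsg.Agent.Lib.helper2.CD3PQ
import Cfsg.Agent.Lib.helper2.CD3QDICH

/-!
# Project PRD (S4466, S4813): a solvable group all of whose nonlinear irreducible characters have
prime degree has at most three character degrees.

`K` maximal normal with `G ⧸ K` nonabelian; by Isaacs' Lemma 12.3 (CD3 piece QDICH) `G ⧸ K` is a
`p`-group (then `cd(G) ⊆ {1, p}` by Gallagher, CD3 piece PQ) or a Frobenius group (then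
`cd(G) ⊆ {1, q, p}` by Isaacs' Theorem 12.4, CD3 piece FROB).
-/

set_option autoImplicit false
open scoped commutatorElement

namespace Cfsg.Agent.Lib.Helper25.PRD

open Cfsg.Agent.Lib.Helper28.CD3 Cfsg.Agent.Lib.Helper25 Cfsg.Agent.Lib.Helper25.RelDeg

universe u

/-- a subset of a set with at most three elements -/
theorem prd_card_le_three {S : Set ℕ} {a b c : ℕ} (h : S ⊆ {a, b, c}) : Nat.card ↥S ≤ 3 := by
  rw [Nat.card_coe_set_eq]
  calc S.ncard ≤ ({a, b, c} : Set ℕ).ncard := Set.ncard_le_ncard h (Set.toFinite _)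
    _ ≤ ({b, c} : Set ℕ).ncard + 1 := Set.ncard_insert_le _ _
    _ ≤ (({c} : Set ℕ).ncard + 1) + 1 := Nat.add_le_add_right (Set.ncard_insert_le _ _) 1
    _ = 3 := by rw [Set.ncard_singleton]

section
variable {G : Type u} [Group G] [Finite G]

/-- every irreducible character of `G` lies over an irreducible character of the normal subgroup `N`,
with the divisibility relations of Clifford theory -/
theorem prd_under (N : Subgroup G) [hN : N.Normal] (χ : Cfsg.IrrCharacter G) :
    ∃ ψ : Cfsg.IrrCharacter N, Cfsg.charDegree (ψ : N → ℂ) ∣ Cfsg.charDegree (χ : G → ℂ) ∧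
      Cfsg.charDegree (χ : G → ℂ) / Cfsg.charDegree (ψ : N → ℂ) ∣ N.index := by
  classical
  haveI : Fintype G := Fintype.ofFinite G
  haveI : Fintype N := Fintype.ofFinite N
  obtain ⟨ψ, hψ⟩ := exists_ov N χ
  refine ⟨ψ, ov_deg_dvd N χ ψ hψ, ?_⟩
  exact (Cfsg.Agent.S0887.result N (χ : G → ℂ) χ.2 (ψ : N → ℂ) ψ.2 hψ _ _
    (charDegree_irr χ).1.symm (charDegree_irr ψ).1.symm).2

/-- S4813 for solvable groups -/
theorem prd_three (hs : Group.IsSolvable G) (hPD : PD G) :
    Nat.card ↥(Cfsg.charDegrees G) ≤ 3 := by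
  classical
  by_cases hab : commutator G = ⊥
  · -- abelian
    have h1 : Cfsg.charDegrees G = {1} := by
      rw [cd_eq_one_iff]
      intro a b
      have h2 : ⁅a, b⁆ ∈ commutator G := Subgroup.commutator_mem_commutator
        (Subgroup.mem_top a) (Subgroup.mem_top b)
      rw [hab, Subgroup.mem_bot, commutatorElement_eq_one_iff_mul_comm] at h2
      exact h2
    apply prd_card_le_three (a := 1) (b := 1) (c := 1)
    rw [h1]
    simp
  · have hL : ¬ commutator G ≤ (⊥ : Subgroup G) := by rwa [le_bot_iff]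
    obtain ⟨K, hKn, -, hK, hmax⟩ := exists_maxK (⊥ : Subgroup G) hL
    haveI := hKn
    haveI := hs
    have hQs : Group.IsSolvable (G ⧸ K) := inferInstance
    rcases quot_dichotomy K hQs hK hmax with ⟨p, hp, hpK⟩ | ⟨N, p, hF⟩
    · -- `G ⧸ K` is a `p`-group: `cd(G) ⊆ {1, p}`
      apply prd_card_le_three (a := 1) (b := 1) (c := p)
      rintro d ⟨χ, rfl⟩
      by_cases hpd : p ∣ Cfsg.charDegree (χ : G → ℂ)
      · rcases hPD _ ⟨χ, rfl⟩ with h1 | h1
        · rw [h1] at hpd
          exact absurd (Nat.dvd_one.mp hpd) hp.one_lt.ne'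
        · have := (Nat.prime_dvd_prime_iff_eq hp h1).mp hpd
          rw [← this]; simp
      · obtain ⟨f, hf1, -, hfd⟩ := pquot_degree p hp K hpK hK χ hpd
        have hpos : 0 < Cfsg.charDegree (χ : G → ℂ) := cd_pos (G := G) ⟨χ, rfl⟩
        rcases hPD _ hfd with h1 | h1
        · exfalso
          have := Nat.eq_one_of_mul_eq_one_right h1
          omega
        · rcases Nat.prime_mul_iff.mp h1 with ⟨-, h2⟩ | ⟨-, h2⟩
          · rw [h2]; simp
          · omega
    · -- Frobenius case: `cd(G) ⊆ {1, q, p}`, `q = |G : N|`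
      haveI := hF.hNn
      have hq1 := hF.hN1
      have hqcd : N.index ∈ Cfsg.charDegrees G := cdOver_subset K hF.hNcd
      have hqp : (N.index).Prime := by
        rcases hPD _ hqcd with h1 | h1
        · omega
        · exact h1
      obtain ⟨a, ha, hidx⟩ := hF.hidx
      apply prd_card_le_three (a := 1) (b := N.index) (c := p)
      rintro d ⟨χ, rfl⟩
      obtain ⟨ψ, h1, h2⟩ := prd_under N χ
      have hχpos : 0 < Cfsg.charDegree (χ : G → ℂ) := cd_pos (G := G) ⟨χ, rfl⟩
      rcases frob_degree K N hF.hKN.le hF.hab hF.hfpf ψ with h3 | h3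
      · -- `ψ` is linear
        have hψ1 : Cfsg.charDegree (ψ : N → ℂ) = 1 := by
          rcases hPD _ h3 with h4 | h4
          · have := Nat.eq_one_of_mul_eq_one_right h4
            omega
          · rcases Nat.prime_mul_iff.mp h4 with ⟨-, h5⟩ | ⟨-, h5⟩
            · exact h5
            · omega
        rw [hψ1, Nat.div_one] at h2
        rcases (Nat.dvd_prime hqp).mp h2 with h4 | h4
        · rw [h4]; simp
        · rw [h4]; simp
      · -- `p ∣ ψ(1)`
        have hpψ : p ∣ Cfsg.charDegree (ψ : N → ℂ) := by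
          have h4 : p ∣ Cfsg.charDegree (ψ : N → ℂ) ^ 2 := by
            refine dvd_trans ?_ h3
            rw [hidx]
            exact dvd_pow_self p ha.ne'
          exact hF.hp.dvd_of_dvd_pow h4
        have hpχ : p ∣ Cfsg.charDegree (χ : G → ℂ) := hpψ.trans h1
        rcases hPD _ ⟨χ, rfl⟩ with h4 | h4
        · rw [h4] at hpχ
          exact absurd (Nat.dvd_one.mp hpχ) hF.hp.one_lt.ne'
        · have := (Nat.prime_dvd_prime_iff_eq hF.hp h4).mp hpχ
          rw [← this]; simp

end

end Cfsg.Agent.Lib.Helper25.PRD
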