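import Mathlib
import Cfsg.Agent.Lib.Helper25.PRDSolv
import Cfsg.Agent.Lib.Helper25.PRDThree

/-!
# Project PRD (S4466, S4813): all nonlinear degrees prime ⇒ at most three degrees
-/

set_option autoImplicit false

namespace Cfsg.Agent.Lib.Helper25.PRD

universe u

/-- S4813 : all nonlinear degrees prime ⇒ at most three degrees -/
theorem prd_S4813 (G : Type u) [Group G] [Finite G] (hPD : PD G) :
    Nat.card ↥(Cfsg.charDegrees G) ≤ 3 :=
  prd_three (prd_S4466 G hPD) hPD

end Cfsg.Agent.Lib.Helper25.PRD
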