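import Mathlib
import Cfsg.Agent.Lib.Helper18.KInfP6
import Cfsg.Agent.Lib.Helper5.PStableAct
import Cfsg.Agent.Lib.helper15.Qd

set_option autoImplicit false

/-! A group with abelian Sylow 2-subgroups does not involve `Qd(p)` for odd `p`, hence all its
sections are normalizer `p`-stable (helper25). -/

namespace Cfsg.Agent.Lib.Helper25.QdSyl2

open Cfsg Matrix

/-- In a finite group with abelian Sylow 2-subgroups, two elements of order dividing four, one of
which inverts the other, commute. -/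
theorem commute_of_syl2comm {Γ : Type*} [Group Γ] [Finite Γ]
    (h : ∀ T : Sylow 2 Γ, IsMulCommutative T) (a b : Γ) (ha : a ^ 4 = 1) (hb : b ^ 4 = 1)
    (hn : a * b * a = b) : a * b = b * a := by
  have hpa : IsPGroup 2 ↥(Subgroup.zpowers a) := by
    rintro ⟨g, hg⟩
    obtain ⟨k, rfl⟩ := Subgroup.mem_zpowers_iff.mp hg
    refine ⟨2, Subtype.ext ?_⟩
    show (a ^ k) ^ (2 ^ 2) = 1
    rw [← zpow_natCast, ← _root_.zpow_mul, mul_comm, _root_.zpow_mul, zpow_natCast]
    norm_num [ha]
  have hpb : IsPGroup 2 ↥(Subgroup.zpowers b) := by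
    rintro ⟨g, hg⟩
    obtain ⟨k, rfl⟩ := Subgroup.mem_zpowers_iff.mp hg
    refine ⟨2, Subtype.ext ?_⟩
    show (b ^ k) ^ (2 ^ 2) = 1
    rw [← zpow_natCast, ← _root_.zpow_mul, mul_comm, _root_.zpow_mul, zpow_natCast]
    norm_num [hb]
  have hinv : b * a * b⁻¹ = a⁻¹ := by
    have h1 : b * a = a⁻¹ * b := by
      rw [eq_inv_mul_iff_mul_eq, ← mul_assoc]
      exact hn
    rw [h1, mul_assoc, mul_inv_cancel, mul_one]
  have hnorm : Subgroup.zpowers b ≤ Subgroup.normalizer ((Subgroup.zpowers a : Subgroup Γ) : Set Γ) := by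
    rw [Subgroup.zpowers_le]
    apply Subgroup.mem_normalizer_fintype
    intro x hx
    obtain ⟨k, rfl⟩ := Subgroup.mem_zpowers_iff.mp hx
    have h2 : b * a ^ k * b⁻¹ = (a⁻¹) ^ k := by
      have := (MulAut.conj b).toMonoidHom.map_zpow a k
      simp only [MulEquiv.coe_toMonoidHom, MulAut.conj_apply] at this
      rw [this, hinv]
    rw [h2]
    exact Subgroup.zpow_mem _ (Subgroup.inv_mem _ (Subgroup.mem_zpowers a)) k
  have hP : IsPGroup 2 ↥(Subgroup.zpowers b ⊔ Subgroup.zpowers a) :=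
    IsPGroup.to_sup_of_normal_right' hpb hpa hnorm
  obtain ⟨T, hT⟩ := hP.exists_le_sylow
  have haT : a ∈ (T : Subgroup Γ) := hT (le_sup_right (a := Subgroup.zpowers b) (Subgroup.mem_zpowers a))
  have hbT : b ∈ (T : Subgroup Γ) := hT (le_sup_left (b := Subgroup.zpowers a) (Subgroup.mem_zpowers b))
  have hc := h T
  have := hc.is_comm.comm (⟨a, haT⟩ : ↥(T : Subgroup Γ)) ⟨b, hbT⟩
  exact congrArg Subtype.val this

variable {p : ℕ} [Fact p.Prime]

/-- `SL₂(p)`, `p` odd, contains a quaternion group: two non-commuting elements of order four, one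
inverting the other. -/
theorem exists_quaternion_sl2 (hp : p ≠ 2) :
    ∃ a b : SpecialLinearGroup (Fin 2) (ZMod p), a ^ 4 = 1 ∧ b ^ 4 = 1 ∧ a * b * a = b ∧
      a * b ≠ b * a := by
  obtain ⟨x, y, hxy⟩ := ZMod.sq_add_sq p (-1 : ZMod p)
  have h2 : (2 : ZMod p) ≠ 0 := by
    intro h
    have h3 : ((2 : ℕ) : ZMod p) = 0 := by exact_mod_cast h
    rw [ZMod.natCast_eq_zero_iff] at h3
    have := (Nat.prime_dvd_prime_iff_eq (Fact.out : p.Prime) Nat.prime_two).mp h3
    exact hp this
  have hxx : x * x + y * y = -1 := by rw [← hxy]; ring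
  refine ⟨⟨!![0, 1; -1, 0], by simp [Matrix.det_fin_two]⟩,
    ⟨!![x, y; y, -x], by rw [Matrix.det_fin_two_of]; linear_combination (-1 : ZMod p) * hxx⟩,
    ?_, ?_, ?_, ?_⟩
  · apply Subtype.ext
    show ((!![0, 1; -1, 0] : Matrix (Fin 2) (Fin 2) (ZMod p))) ^ 4 = 1
    rw [show (4 : ℕ) = 2 + 2 from rfl, pow_add, pow_two]
    ext i j
    fin_cases i <;> fin_cases j <;> simp [Matrix.mul_apply, Fin.sum_univ_two]
  · apply Subtype.ext
    show ((!![x, y; y, -x] : Matrix (Fin 2) (Fin 2) (ZMod p))) ^ 4 = 1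
    have hsq : (!![x, y; y, -x] : Matrix (Fin 2) (Fin 2) (ZMod p)) * !![x, y; y, -x] = -1 := by
      ext i j
      fin_cases i <;> fin_cases j <;> simp [Matrix.mul_apply, Fin.sum_univ_two]
      · exact hxx
      · ring
      · ring
      · linear_combination hxx
    rw [show (4 : ℕ) = 2 + 2 from rfl, pow_add, pow_two, hsq]
    simp
  · apply Subtype.ext
    show (!![0, 1; -1, 0] : Matrix (Fin 2) (Fin 2) (ZMod p)) * !![x, y; y, -x] * !![0, 1; -1, 0] =
      !![x, y; y, -x]
    ext i j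
    fin_cases i <;> fin_cases j <;> simp [Matrix.mul_apply, Fin.sum_univ_two]
  · intro hcomm
    have h3 : (!![0, 1; -1, 0] : Matrix (Fin 2) (Fin 2) (ZMod p)) * !![x, y; y, -x] =
        !![x, y; y, -x] * !![0, 1; -1, 0] := congrArg Subtype.val hcomm
    have h00 := congrFun (congrFun h3 0) 0
    have h01 := congrFun (congrFun h3 0) 1
    simp [Matrix.mul_apply, Fin.sum_univ_two] at h00 h01
    -- h00 : y = -y ; h01 : -x = x
    have hy : y = 0 := by
      have : (2 : ZMod p) * y = 0 := by linear_combination h00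
      rcases mul_eq_zero.mp this with h | h
      · exact absurd h h2
      · exact h
    have hx : x = 0 := by
      have : (2 : ZMod p) * x = 0 := by linear_combination -h01
      rcases mul_eq_zero.mp this with h | h
      · exact absurd h h2
      · exact h
    rw [hx, hy] at hxx
    simp at hxx

universe u

/-- A finite group with abelian Sylow 2-subgroups does not involve `Qd(p)`, `p` odd. -/
theorem not_involves_qd_of_syl2comm {M : Type u} [Group M] [Finite M] (hp : p ≠ 2)
    (hab : ∀ T : Sylow 2 M, IsMulCommutative T) : ¬ Cfsg.Involves ↥(Cfsg.qd p) M := by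
  rintro ⟨K, R, hR, ⟨e⟩⟩
  have h1 : ∀ T : Sylow 2 ↥K, IsMulCommutative T :=
    Cfsg.Agent.Lib.Helper5.syl2comm_subgroup K hab
  have h2 : ∀ T : Sylow 2 (↥K ⧸ R.subgroupOf K), IsMulCommutative T :=
    Cfsg.Agent.Lib.Helper5.syl2comm_of_surjective (QuotientGroup.mk' (R.subgroupOf K))
      (QuotientGroup.mk'_surjective _) h1
  obtain ⟨a, b, ha, hb, hn, hne⟩ := exists_quaternion_sl2 (p := p) hp
  let f : SpecialLinearGroup (Fin 2) (ZMod p) →* (↥K ⧸ R.subgroupOf K) :=
    e.symm.toMonoidHom.comp (Cfsg.Agent.Lib.helper15.Qd.emb (F := ZMod p))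
  have hf : Function.Injective f :=
    e.symm.injective.comp Cfsg.Agent.Lib.helper15.Qd.emb_injective
  have hc := commute_of_syl2comm h2 (f a) (f b) (by rw [← map_pow, ha, map_one])
    (by rw [← map_pow, hb, map_one]) (by rw [← map_mul, ← map_mul, hn])
  rw [← map_mul, ← map_mul] at hc
  exact hne (hf hc)

/-- All sections of a finite group with abelian Sylow 2-subgroups are normalizer `p`-stable,
`p` odd. -/
theorem secNPS_of_syl2comm {M : Type u} [Group M] [Finite M] (hp : p ≠ 2)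
    (hab : ∀ T : Sylow 2 M, IsMulCommutative T) : Cfsg.Agent.Lib.Helper18.KInfP.SecNPS p M :=
  Cfsg.Agent.Lib.Helper18.KInfP.secNPS_of_sections
    ((Cfsg.Agent.Lib.helper17.QdStab11.qdfree_iff hp).mp (not_involves_qd_of_syl2comm hp hab))

/-- Glauberman's K-infinity theorem for groups of characteristic `p` with abelian Sylow
2-subgroups. -/
theorem kinf_normal_of_syl2comm {M : Type u} [Group M] [Finite M] (hp : p ≠ 2)
    (hab : ∀ T : Sylow 2 M, IsMulCommutative T)
    (hc : Subgroup.centralizer ((Cfsg.pCore p M : Subgroup M) : Set M) ≤ Cfsg.pCore p M)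
    (S : Sylow p M) :
    (Cfsg.inducedFunctor (G := M) Cfsg.kInfLower (S : Subgroup M)).Normal ∧
      (Cfsg.inducedFunctor (G := M) Cfsg.kInfUpper (S : Subgroup M)).Normal :=
  Cfsg.Agent.Lib.Helper18.KInfP.kinf_normal_of_secNPS (secNPS_of_syl2comm hp hab) hc S

end Cfsg.Agent.Lib.Helper25.QdSyl2
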