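import Cfsg.Statements.S3753
import Cfsg.Agent.Lib.Helper25.KSandwich
import Cfsg.Agent.Lib.Helper25.QdSyl2

set_option autoImplicit false

/-! Primitive pairs of characteristic `p` (Kurzweil–Stellmacher 10.1): one of the two groups has
non-abelian Sylow 2-subgroups. Proof via Glauberman's K-infinity functor and its sandwich
property (helper25). -/

namespace Cfsg.Agent.Lib.Helper25.PrimPair

open Cfsg Cfsg.Agent.Lib.Helper13 Cfsg.Agent.Lib.Helper25.KSandwich Cfsg.Agent.Lib.Helper25.QdSyl2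

universe u

variable {G : Type u} [Group G] [Finite G] {p : ℕ} [Fact p.Prime]

theorem le_normalizer_map_subtype (M : Subgroup G) (N : Subgroup ↥M) [hN : N.Normal] :
    M ≤ Subgroup.normalizer ((N.map M.subtype : Subgroup G) : Set G) := by
  intro g hg
  apply Subgroup.mem_normalizer_fintype
  rintro _ ⟨n, hn, rfl⟩
  exact ⟨⟨g, hg⟩ * n * ⟨g, hg⟩⁻¹, hN.conj_mem n hn ⟨g, hg⟩, rfl⟩

theorem le_sylow_inf_of_normal (D : Subgroup G) (T₀ : Sylow p ↥D) (Q : Subgroup G)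
    (hQD : Q ≤ D) (hQp : IsPGroup p ↥Q) (hQn : D ≤ Subgroup.normalizer (Q : Set G)) :
    Q ≤ (T₀ : Subgroup ↥D).map D.subtype := by
  have : (Q.subgroupOf D).Normal := Subgroup.normal_subgroupOf_of_le_normalizer hQn
  have hp' : IsPGroup p ↥(Q.subgroupOf D) := hQp.comap_subtype
  have h := hp'.le_sylow_of_normal T₀
  intro x hx
  exact ⟨⟨x, hQD hx⟩, h (show (⟨x, hQD hx⟩ : ↥D) ∈ Q.subgroupOf D from hx), rfl⟩

theorem eq_bot_of_pCore_eq_bot (M : Subgroup G)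
    (hc : Subgroup.centralizer (Cfsg.pCore p ↥M : Set ↥M) ≤ Cfsg.pCore p ↥M)
    (h : Cfsg.pCore p ↥M = ⊥) : M = ⊥ := by
  rw [h] at hc
  rw [eq_bot_iff]
  intro x hx
  have h1 : (⟨x, hx⟩ : ↥M) ∈ Subgroup.centralizer ((⊥ : Subgroup ↥M) : Set ↥M) := by
    rw [Subgroup.mem_centralizer_iff]
    intro y hy
    have : y = 1 := hy
    rw [this, one_mul, mul_one]
  have h2 := hc h1
  rw [Subgroup.mem_bot] at h2 ⊢
  exact congrArg Subtype.val h2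

theorem prim_false (M₁ M₂ : Subgroup G) (hne : M₁ ≠ M₂)
    (hP : ∀ A : Subgroup G, A ≠ ⊥ → A ≤ M₁ ⊓ M₂ →
      (M₁ ≤ Subgroup.normalizer (A : Set G) → M₂ ⊓ Subgroup.normalizer (A : Set G) = M₁ ⊓ M₂) ∧
      (M₂ ≤ Subgroup.normalizer (A : Set G) → M₁ ⊓ Subgroup.normalizer (A : Set G) = M₁ ⊓ M₂))
    (A : Subgroup G) (hA : A ≠ ⊥) (hAD : A ≤ M₁ ⊓ M₂)
    (h1 : M₁ ≤ Subgroup.normalizer (A : Set G)) (h2 : M₂ ≤ Subgroup.normalizer (A : Set G)) :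
    False := by
  obtain ⟨hP1, hP2⟩ := hP A hA hAD
  have e1 := hP1 h1
  have e2 := hP2 h2
  rw [inf_eq_left.mpr h2] at e1
  rw [inf_eq_left.mpr h1] at e2
  exact hne (e2.trans e1.symm)

theorem zIn_ne_bot (T : Subgroup G) (hTp : IsPGroup p ↥T) (hT : T ≠ ⊥) :
    T ⊓ Subgroup.centralizer (T : Set G) ≠ ⊥ := by
  have : Nontrivial ↥T := (Subgroup.nontrivial_iff_ne_bot T).mpr hT
  have hc := hTp.center_nontrivial
  obtain ⟨z, hz⟩ := exists_ne (1 : ↥(Subgroup.center ↥T))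
  intro hbot
  have h1 : ((z : ↥T) : G) ∈ T ⊓ Subgroup.centralizer (T : Set G) := by
    refine Subgroup.mem_inf.mpr ⟨(z : ↥T).2, ?_⟩
    rw [Subgroup.mem_centralizer_iff]
    intro y hy
    have := Subgroup.mem_center_iff.mp z.2 ⟨y, hy⟩
    exact congrArg Subtype.val this
  rw [hbot, Subgroup.mem_bot] at h1
  apply hz
  apply Subtype.ext
  apply Subtype.ext
  exact h1

theorem inducedFunctor_le (W : ∀ (Q : Type u) [Group Q], Subgroup Q) (T : Subgroup G) :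
    Cfsg.inducedFunctor (G := G) W T ≤ T := Subgroup.map_subtype_le _

/-- The common setting: a Sylow `p`-subgroup `T` of `M₁ ∩ M₂` contains both `O_p(M_i)`, and lies
in Sylow `p`-subgroups `S_i` of `M_i`. -/
theorem exists_setup (M₁ M₂ : Subgroup G) (hne : M₁ ≠ M₂)
    (hc₁ : Subgroup.centralizer (Cfsg.pCore p ↥M₁ : Set ↥M₁) ≤ Cfsg.pCore p ↥M₁)
    (hc₂ : Subgroup.centralizer (Cfsg.pCore p ↥M₂ : Set ↥M₂) ≤ Cfsg.pCore p ↥M₂)
    (hO : (Cfsg.pCore p ↥M₁).map M₁.subtype ⊔ (Cfsg.pCore p ↥M₂).map M₂.subtype ≤ M₁ ⊓ M₂) :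
    ∃ (T : Subgroup G) (S₁ : Sylow p ↥M₁) (S₂ : Sylow p ↥M₂), T ≠ ⊥ ∧ IsPGroup p ↥T ∧
      T ≤ M₁ ⊓ M₂ ∧ (Cfsg.pCore p ↥M₁).map M₁.subtype ≤ T ∧
      (Cfsg.pCore p ↥M₂).map M₂.subtype ≤ T ∧
      T ≤ (S₁ : Subgroup ↥M₁).map M₁.subtype ∧ T ≤ (S₂ : Subgroup ↥M₂).map M₂.subtype := by
  obtain ⟨D, hD⟩ : ∃ D : Subgroup G, D = M₁ ⊓ M₂ := ⟨_, rfl⟩
  rw [← hD] at hO ⊢
  have hD1 : D ≤ M₁ := hD ▸ inf_le_left
  have hD2 : D ≤ M₂ := hD ▸ inf_le_right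
  obtain ⟨T₀⟩ : Nonempty (Sylow p ↥D) := inferInstance
  obtain ⟨T, hT⟩ : ∃ T : Subgroup G, T = (T₀ : Subgroup ↥D).map D.subtype := ⟨_, rfl⟩
  have hTD : T ≤ D := hT ▸ Subgroup.map_subtype_le _
  have hTp : IsPGroup p ↥T := hT ▸ T₀.isPGroup'.map _
  have hQ1 : (Cfsg.pCore p ↥M₁).map M₁.subtype ≤ T := by
    rw [hT]
    have := pCore_normal' (G := ↥M₁) p
    exact le_sylow_inf_of_normal D T₀ _ (le_sup_left.trans hO) (pCore_isPGroup.map _)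
      (hD1.trans (le_normalizer_map_subtype M₁ (Cfsg.pCore p ↥M₁)))
  have hQ2 : (Cfsg.pCore p ↥M₂).map M₂.subtype ≤ T := by
    rw [hT]
    have := pCore_normal' (G := ↥M₂) p
    exact le_sylow_inf_of_normal D T₀ _ (le_sup_right.trans hO) (pCore_isPGroup.map _)
      (hD2.trans (le_normalizer_map_subtype M₂ (Cfsg.pCore p ↥M₂)))
  obtain ⟨S₁, hS₁⟩ := (hTp.comap_subtype (K := M₁)).exists_le_sylow
  obtain ⟨S₂, hS₂⟩ := (hTp.comap_subtype (K := M₂)).exists_le_sylow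
  refine ⟨T, S₁, S₂, ?_, hTp, hTD, hQ1, hQ2, ?_, ?_⟩
  · intro hTbot
    rw [hTbot, le_bot_iff, Subgroup.map_eq_bot_iff_of_injective _ (Subgroup.subtype_injective _)]
      at hQ1 hQ2
    exact hne ((eq_bot_of_pCore_eq_bot M₁ hc₁ hQ1).trans (eq_bot_of_pCore_eq_bot M₂ hc₂ hQ2).symm)
  · intro x hx
    exact ⟨⟨x, hD1 (hTD hx)⟩, hS₁ (show (⟨x, hD1 (hTD hx)⟩ : ↥M₁) ∈ T.comap M₁.subtype from hx), rfl⟩
  · intro x hx
    exact ⟨⟨x, hD2 (hTD hx)⟩, hS₂ (show (⟨x, hD2 (hTD hx)⟩ : ↥M₂) ∈ T.comap M₂.subtype from hx), rfl⟩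

/-- In a group of characteristic 2 with abelian Sylow 2-subgroups the Sylow 2-subgroup is `O_2`. -/
theorem sylow_le_pCore_of_comm (M : Subgroup G)
    (hc : Subgroup.centralizer (Cfsg.pCore p ↥M : Set ↥M) ≤ Cfsg.pCore p ↥M)
    (S : Sylow p ↥M) (hS : IsMulCommutative ↥(S : Subgroup ↥M)) :
    (S : Subgroup ↥M) ≤ Cfsg.pCore p ↥M := by
  intro x hx
  apply hc
  rw [Subgroup.mem_centralizer_iff]
  intro y hy
  have hyS : y ∈ (S : Subgroup ↥M) := pCore_le_sylow S hy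
  have := hS.is_comm.comm (⟨y, hyS⟩ : ↥(S : Subgroup ↥M)) ⟨x, hx⟩
  exact congrArg Subtype.val this

/-- One side of the odd case: the upper K-infinity subgroup of `T` is normalized by `M`. -/
theorem kinf_side (hp : p ≠ 2) (M : Subgroup G)
    (hab : ∀ S : Sylow 2 ↥M, IsMulCommutative ↥(S : Subgroup ↥M))
    (hc : Subgroup.centralizer (Cfsg.pCore p ↥M : Set ↥M) ≤ Cfsg.pCore p ↥M)
    (T : Subgroup G) (S : Sylow p ↥M) (hQ : (Cfsg.pCore p ↥M).map M.subtype ≤ T)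
    (hTS : T ≤ (S : Subgroup ↥M).map M.subtype) :
    M ≤ Subgroup.normalizer ((Cfsg.inducedFunctor (G := G) Cfsg.kInfUpper T : Subgroup G) : Set G) := by
  obtain ⟨hLn, hUn⟩ := kinf_normal_of_syl2comm hp (fun S' => hab S') hc S
  have hSp : IsPGroup p ↥(S : Subgroup ↥M) := S.isPGroup'
  have hL : Cfsg.inducedFunctor (G := ↥M) Cfsg.kInfLower (S : Subgroup ↥M) ≤ Cfsg.pCore p ↥M :=
    Cfsg.Agent.Lib.Helper1.le_pCore hLn (hSp.to_le (inducedFunctor_le _ _))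
  have hU : Cfsg.inducedFunctor (G := ↥M) Cfsg.kInfUpper (S : Subgroup ↥M) ≤ Cfsg.pCore p ↥M :=
    Cfsg.Agent.Lib.Helper1.le_pCore hUn (hSp.to_le (inducedFunctor_le _ _))
  have hL' : Cfsg.inducedFunctor (G := G) Cfsg.kInfLower ((S : Subgroup ↥M).map M.subtype) ≤ T := by
    rw [← inducedFunctor_kInfLower_map]
    exact (Subgroup.map_mono hL).trans hQ
  have hU' : Cfsg.inducedFunctor (G := G) Cfsg.kInfUpper ((S : Subgroup ↥M).map M.subtype) ≤ T := by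
    rw [← inducedFunctor_kInfUpper_map]
    exact (Subgroup.map_mono hU).trans hQ
  obtain ⟨-, eU⟩ := ksandwich_induced hTS hL' hU'
  rw [eU, ← inducedFunctor_kInfUpper_map]
  have := hUn
  exact le_normalizer_map_subtype M _

/-- One side of the case `p = 2`. -/
theorem two_side (M : Subgroup G)
    (hab : ∀ S : Sylow p ↥M, IsMulCommutative ↥(S : Subgroup ↥M))
    (hc : Subgroup.centralizer (Cfsg.pCore p ↥M : Set ↥M) ≤ Cfsg.pCore p ↥M)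
    (T : Subgroup G) (S : Sylow p ↥M) (hQ : (Cfsg.pCore p ↥M).map M.subtype ≤ T)
    (hTS : T ≤ (S : Subgroup ↥M).map M.subtype) :
    M ≤ Subgroup.normalizer ((T : Subgroup G) : Set G) := by
  have h1 : T = (Cfsg.pCore p ↥M).map M.subtype :=
    le_antisymm (hTS.trans (Subgroup.map_mono (sylow_le_pCore_of_comm M hc S (hab S)))) hQ
  rw [h1]
  have := pCore_normal' (G := ↥M) p
  exact le_normalizer_map_subtype M _

theorem main (M₁ M₂ : Subgroup G) (hne : M₁ ≠ M₂)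
    (hP : ∀ A : Subgroup G, A ≠ ⊥ → A ≤ M₁ ⊓ M₂ →
      (M₁ ≤ Subgroup.normalizer (A : Set G) → M₂ ⊓ Subgroup.normalizer (A : Set G) = M₁ ⊓ M₂) ∧
      (M₂ ≤ Subgroup.normalizer (A : Set G) → M₁ ⊓ Subgroup.normalizer (A : Set G) = M₁ ⊓ M₂))
    (hc₁ : Subgroup.centralizer (Cfsg.pCore p ↥M₁ : Set ↥M₁) ≤ Cfsg.pCore p ↥M₁)
    (hc₂ : Subgroup.centralizer (Cfsg.pCore p ↥M₂ : Set ↥M₂) ≤ Cfsg.pCore p ↥M₂)
    (hO : (Cfsg.pCore p ↥M₁).map M₁.subtype ⊔ (Cfsg.pCore p ↥M₂).map M₂.subtype ≤ M₁ ⊓ M₂)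
    (h1 : ∀ S : Sylow 2 ↥M₁, IsMulCommutative ↥(S : Subgroup ↥M₁))
    (h2 : ∀ S : Sylow 2 ↥M₂, IsMulCommutative ↥(S : Subgroup ↥M₂)) : False := by
  obtain ⟨T, S₁, S₂, hTne, hTp, hTD, hQ1, hQ2, hTS₁, hTS₂⟩ := exists_setup M₁ M₂ hne hc₁ hc₂ hO
  rcases eq_or_ne p 2 with hp | hp
  · subst hp
    exact prim_false M₁ M₂ hne hP T hTne hTD (two_side M₁ h1 hc₁ T S₁ hQ1 hTS₁)
      (two_side M₂ h2 hc₂ T S₂ hQ2 hTS₂)
  · refine prim_false M₁ M₂ hne hP (Cfsg.inducedFunctor (G := G) Cfsg.kInfUpper T) ?_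
      ((inducedFunctor_le _ T).trans hTD) (kinf_side hp M₁ h1 hc₁ T S₁ hQ1 hTS₁)
      (kinf_side hp M₂ h2 hc₂ T S₂ hQ2 hTS₂)
    intro hbot
    apply zIn_ne_bot T hTp hTne
    rw [eq_bot_iff, ← hbot]
    exact zIn_le_inducedFunctor_kInfUpper T

end Cfsg.Agent.Lib.Helper25.PrimPair
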