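import Mathlib
import Cfsg.Agent.Lib.Helper26.CoverAll
import Cfsg.Agent.Lib.Helper25.BrauerMapBasic
import Cfsg.Agent.Lib.Helper25.CharOrth
import Cfsg.Agent.Lib.Helper24.FongPIndex

/-!
# Brauer's inequalities for the sum of squared degrees over principal blocks (S4708): lq_mult, lq_degree_restrict, lq_degree_induce, lq_main
-/

set_option autoImplicit false
set_option linter.style.haveILetI false
set_option linter.unusedVariables false
set_option warn.classDefReducibility false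
set_option maxHeartbeats 1600000

namespace Cfsg.Agent.Lib.Helper25
open Cfsg.Agent.Lib.Helper24
open Cfsg.Agent.Lib.Helper26
open Cfsg.Agent.Lib.Helper11
open Cfsg.Agent.Lib.helper2
open Cfsg.Agent.Lib.helper7
open scoped ComplexConjugate
section

/-- the multiplicity of `θ` in the restriction of `χ` -/
noncomputable def lq_mult {G : Type*} [Group G] [Fintype G] (H : Subgroup G) [Fintype H]
    (χ : Cfsg.IrrCharacter G) (θ : Cfsg.IrrCharacter H) : ℕ :=
  (classInner_character_nat (isCharacter_restrict (isCharacter_of_irr χ) H)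
    (isCharacter_of_irr θ)).choose

theorem lq_mult_spec {G : Type*} [Group G] [Fintype G] (H : Subgroup G) [Fintype H]
    (χ : Cfsg.IrrCharacter G) (θ : Cfsg.IrrCharacter H) :
    Cfsg.classInner (fun h : H => (χ : G → ℂ) h) (θ : H → ℂ) = (lq_mult H χ θ : ℂ) :=
  (classInner_character_nat (isCharacter_restrict (isCharacter_of_irr χ) H)
    (isCharacter_of_irr θ)).choose_spec

/-- `χ(1) = Σ_θ m(χ,θ) θ(1)` -/
theorem lq_degree_restrict {G : Type*} [Group G] [Fintype G] (H : Subgroup G) [Fintype H]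
    [Fintype (Cfsg.IrrCharacter H)] (χ : Cfsg.IrrCharacter G) :
    Cfsg.charDegree (χ : G → ℂ) =
      ∑ θ : Cfsg.IrrCharacter H, lq_mult H χ θ * Cfsg.charDegree (θ : H → ℂ) := by
  classical
  have hR := isCharacter_restrict (isCharacter_of_irr χ) H
  obtain ⟨m, hm, hexp⟩ := isCharacter_expansion hR
  have h1 := congrFun hexp 1
  simp only [Finset.sum_apply, Pi.smul_apply, smul_eq_mul] at h1
  have hmeq : ∀ θ : Cfsg.IrrCharacter H, m θ = lq_mult H χ θ := by
    intro θ
    have := (hm θ).symm.trans (lq_mult_spec H χ θ)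
    exact_mod_cast this
  have h2 : ((Cfsg.charDegree (χ : G → ℂ) : ℕ) : ℂ) =
      ((∑ θ : Cfsg.IrrCharacter H, lq_mult H χ θ * Cfsg.charDegree (θ : H → ℂ) : ℕ) : ℂ) := by
    rw [(h7_charDegree_props χ).2.2]
    have e1 : ((1 : H) : G) = 1 := rfl
    rw [e1] at h1
    rw [h1]
    push_cast
    refine Finset.sum_congr rfl fun θ _ => ?_
    rw [hmeq θ, (h7_charDegree_props θ).2.2]
  exact_mod_cast h2

/-- `Σ_χ χ(1) m(χ,θ) = [G:H] θ(1)` -/
theorem lq_degree_induce {G : Type*} [Group G] [Fintype G] (H : Subgroup G) [Fintype H]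
    [Fintype (Cfsg.IrrCharacter G)] (θ : Cfsg.IrrCharacter H) :
    ∑ χ : Cfsg.IrrCharacter G, Cfsg.charDegree (χ : G → ℂ) * lq_mult H χ θ =
      H.index * Cfsg.charDegree (θ : H → ℂ) := by
  classical
  have hH0 : (Nat.card H : ℂ) ≠ 0 := by exact_mod_cast Nat.card_pos.ne'
  have h1 : ∑ χ : Cfsg.IrrCharacter G, (χ : G → ℂ) 1 *
      Cfsg.classInner (fun h : H => (χ : G → ℂ) h) (θ : H → ℂ) =
      (Nat.card H : ℂ)⁻¹ * ((Nat.card G : ℂ) * conj ((θ : H → ℂ) 1)) := by
    unfold Cfsg.classInner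
    simp only [Finset.mul_sum]
    rw [Finset.sum_comm]
    have h2 : ∀ h : H, ∑ χ : Cfsg.IrrCharacter G,
        (χ : G → ℂ) 1 * ((Nat.card H : ℂ)⁻¹ * ((χ : G → ℂ) h * conj ((θ : H → ℂ) h))) =
        (Nat.card H : ℂ)⁻¹ * ((if h = 1 then (Nat.card G : ℂ) else 0) * conj ((θ : H → ℂ) h)) := by
      intro h
      have h3 := irr_column_orthogonality (G := G) (h : G) 1
      have h4 : ∑ χ : Cfsg.IrrCharacter G, (χ : G → ℂ) (h : G) * (χ : G → ℂ) 1 =
          if h = 1 then (Nat.card G : ℂ) else 0 := by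
        have h5 : ∀ χ : Cfsg.IrrCharacter G, conj ((χ : G → ℂ) 1) = (χ : G → ℂ) 1 := by
          intro χ
          rw [← (h7_charDegree_props χ).2.2, Complex.conj_natCast]
        have h3' : ∑ χ : Cfsg.IrrCharacter G, (χ : G → ℂ) (h : G) * (χ : G → ℂ) 1 =
            ∑ χ : Cfsg.IrrCharacter G, (χ : G → ℂ) (h : G) * conj ((χ : G → ℂ) 1) :=
          Finset.sum_congr rfl (fun χ _ => by rw [h5 χ])
        rw [h3', h3]
        have hc : Subgroup.centralizer ({(1 : G)} : Set G) = ⊤ := by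
          rw [Subgroup.centralizer_eq_top_iff_subset]
          intro x hx
          rw [Set.mem_singleton_iff.mp hx]
          exact Subgroup.one_mem _
        by_cases hh : h = 1
        · rw [if_pos hh, if_pos]
          · rw [hc]
            simp
          · rw [hh]
            exact IsConj.refl _
        · rw [if_neg hh, if_neg]
          intro hcj
          apply hh
          have : (h : G) = 1 := by
            have := isConj_one_right.mp hcj
            exact this
          exact Subtype.ext this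
      rw [← h4, Finset.sum_mul, Finset.mul_sum]
      refine Finset.sum_congr rfl fun χ _ => ?_
      ring
    rw [Finset.sum_congr rfl (fun h _ => h2 h), ← Finset.mul_sum]
    congr 1
    rw [Finset.sum_eq_single (1 : H)]
    · rw [if_pos rfl]
    · intro h _ hne
      rw [if_neg hne, zero_mul]
    · intro hcon
      exact absurd (Finset.mem_univ _) hcon
  have h6 : ((∑ χ : Cfsg.IrrCharacter G, Cfsg.charDegree (χ : G → ℂ) * lq_mult H χ θ : ℕ) : ℂ) =
      ((H.index * Cfsg.charDegree (θ : H → ℂ) : ℕ) : ℂ) := by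
    push_cast
    rw [Finset.sum_congr rfl (fun χ _ => by
      rw [(h7_charDegree_props χ).2.2, ← lq_mult_spec H χ θ])]
    rw [h1, ← (h7_charDegree_props θ).2.2, Complex.conj_natCast]
    have hidx : (H.index : ℂ) * (Nat.card H : ℂ) = (Nat.card G : ℂ) := by
      exact_mod_cast Subgroup.index_mul_card H
    rw [← hidx]
    field_simp
  exact_mod_cast h6

end

section

theorem lq_sum_sq_le {ι : Type*} (s : Finset ι) (a : ι → ℕ) :
    ∑ i ∈ s, a i ^ 2 ≤ (∑ i ∈ s, a i) ^ 2 := by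
  classical
  induction s using Finset.induction_on with
  | empty => simp
  | insert i s hi ih =>
    rw [Finset.sum_insert hi, Finset.sum_insert hi]
    nlinarith [ih, Nat.zero_le (a i), Nat.zero_le (∑ j ∈ s, a j)]

/-- **Brauer**: `λ(H) ≤ λ(G) ≤ [G:H] λ(H)` for the sums of squared degrees over principal blocks -/
theorem lq_main {G : Type*} [Group G] [Fintype G] (p : ℕ) [hp : Fact p.Prime]
    (M : Ideal Cfsg.AlgInt) (hM : Cfsg.IsPModular p M) (H : Subgroup G) [hHn : H.Normal]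
    [Fintype H] :
    (∑ᶠ θ ∈ Cfsg.principalBlock M H, Cfsg.charDegree (θ : H → ℂ) ^ 2) ≤
      (∑ᶠ χ ∈ Cfsg.principalBlock M G, Cfsg.charDegree (χ : G → ℂ) ^ 2) ∧
    (∑ᶠ χ ∈ Cfsg.principalBlock M G, Cfsg.charDegree (χ : G → ℂ) ^ 2) ≤
      H.index * ∑ᶠ θ ∈ Cfsg.principalBlock M H, Cfsg.charDegree (θ : H → ℂ) ^ 2 := by
  classical
  haveI : Fintype (Cfsg.IrrCharacter G) := Fintype.ofFinite _
  haveI : Fintype (Cfsg.IrrCharacter H) := Fintype.ofFinite _
  have hPr := hM.2.1.isPrime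
  set B₀ := Cfsg.principalBlock M G with hB₀
  set b₀ := Cfsg.principalBlock M H with hb₀
  have hinv : fc_inv H b₀ := by
    apply fp_inv_of_stab
    intro x
    apply bm_principal_stable p M hM H x
    rw [Subgroup.normalizer_eq_top_iff.mpr hHn]
    exact Subgroup.mem_top x
  have hcov : ∃ χ ∈ B₀, ∃ θ ∈ b₀,
      Cfsg.classInner (fun n : H => (χ : G → ℂ) n) (θ : H → ℂ) ≠ 0 := by
    refine ⟨trivIrr G, h7_sameBlock_refl hPr _, trivIrr H, h7_sameBlock_refl hPr _, ?_⟩
    have h1 : (fun n : H => (trivIrr G : G → ℂ) n) = (trivIrr H : H → ℂ) := rfl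
    rw [h1, h7_irr_norm (trivIrr H).2]
    exact one_ne_zero
  have hsub := fc_block_sub_over hM H b₀ ⟨trivIrr H, rfl⟩ hinv B₀ ⟨trivIrr G, rfl⟩ hcov
  have hI3 : ∀ χ ∈ B₀, ∀ θ : Cfsg.IrrCharacter H, lq_mult H χ θ ≠ 0 → θ ∈ b₀ := by
    intro χ hχ θ hne
    obtain ⟨θ₀, hθ₀, hne₀⟩ := hsub hχ
    have hcon : Cfsg.classInner (fun n : H => (χ : G → ℂ) n) (θ : H → ℂ) ≠ 0 := by
      rw [lq_mult_spec]
      exact_mod_cast hne
    obtain ⟨g, hg⟩ := h7_clifford_conj H (χ : G → ℂ) χ.2 (θ₀ : H → ℂ) (θ : H → ℂ) θ₀.2 θ.2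
      hne₀ hcon
    have h1 := hinv g θ₀ hθ₀
    have e : fr_cj H g θ₀ = θ := Subtype.ext hg.symm
    rwa [e] at h1
  have hI4 : ∀ θ ∈ b₀, ∃ χ ∈ B₀, lq_mult H χ θ ≠ 0 := by
    intro θ hθ
    obtain ⟨χ, hχ, hcon⟩ := cva_main H p M hM B₀ ⟨trivIrr G, rfl⟩ b₀ ⟨trivIrr H, rfl⟩ hcov θ hθ
    refine ⟨χ, hχ, ?_⟩
    intro h0
    apply hcon
    rw [lq_mult_spec, h0]
    simp
  rw [h7_finsum_mem_fintype, h7_finsum_mem_fintype]
  constructor
  · have key : ∀ χ : Cfsg.IrrCharacter G,
        ∑ θ : Cfsg.IrrCharacter H,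
          (if lq_mult H χ θ ≠ 0 then Cfsg.charDegree (θ : H → ℂ) ^ 2 else 0) ≤
        Cfsg.charDegree (χ : G → ℂ) ^ 2 := by
      intro χ
      rw [lq_degree_restrict H χ]
      refine le_trans ?_ (lq_sum_sq_le _ _)
      apply Finset.sum_le_sum
      intro θ _
      by_cases h : lq_mult H χ θ ≠ 0
      · rw [if_pos h]
        exact Nat.pow_le_pow_left (Nat.le_mul_of_pos_left _ (Nat.pos_of_ne_zero h)) 2
      · rw [if_neg h]
        exact Nat.zero_le _
    have step1 : ∀ θ : Cfsg.IrrCharacter H,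
        (if θ ∈ b₀ then Cfsg.charDegree (θ : H → ℂ) ^ 2 else 0) ≤
        ∑ χ : Cfsg.IrrCharacter G, (if χ ∈ B₀ then
          (if lq_mult H χ θ ≠ 0 then Cfsg.charDegree (θ : H → ℂ) ^ 2 else 0) else 0) := by
      intro θ
      by_cases hθ : θ ∈ b₀
      · rw [if_pos hθ]
        obtain ⟨χ, hχ, hne⟩ := hI4 θ hθ
        refine le_trans ?_ (Finset.single_le_sum (fun _ _ => Nat.zero_le _) (Finset.mem_univ χ))
        rw [if_pos hχ, if_pos hne]
      · rw [if_neg hθ]
        exact Nat.zero_le _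
    calc ∑ θ : Cfsg.IrrCharacter H, (if θ ∈ b₀ then Cfsg.charDegree (θ : H → ℂ) ^ 2 else 0)
        ≤ ∑ θ : Cfsg.IrrCharacter H, ∑ χ : Cfsg.IrrCharacter G, (if χ ∈ B₀ then
          (if lq_mult H χ θ ≠ 0 then Cfsg.charDegree (θ : H → ℂ) ^ 2 else 0) else 0) :=
          Finset.sum_le_sum (fun θ _ => step1 θ)
      _ = ∑ χ : Cfsg.IrrCharacter G, ∑ θ : Cfsg.IrrCharacter H, (if χ ∈ B₀ then
          (if lq_mult H χ θ ≠ 0 then Cfsg.charDegree (θ : H → ℂ) ^ 2 else 0) else 0) :=
          Finset.sum_comm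
      _ ≤ ∑ χ : Cfsg.IrrCharacter G,
          (if χ ∈ B₀ then Cfsg.charDegree (χ : G → ℂ) ^ 2 else 0) := by
          apply Finset.sum_le_sum
          intro χ _
          by_cases hχ : χ ∈ B₀
          · simp only [if_pos hχ]
            exact key χ
          · simp only [if_neg hχ, Finset.sum_const_zero, le_refl]
  · have step2 : ∀ χ : Cfsg.IrrCharacter G,
        (if χ ∈ B₀ then Cfsg.charDegree (χ : G → ℂ) ^ 2 else 0) ≤
        ∑ θ : Cfsg.IrrCharacter H, (if θ ∈ b₀ then
          Cfsg.charDegree (θ : H → ℂ) * (Cfsg.charDegree (χ : G → ℂ) * lq_mult H χ θ)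
            else 0) := by
      intro χ
      by_cases hχ : χ ∈ B₀
      · rw [if_pos hχ]
        have h1 : Cfsg.charDegree (χ : G → ℂ) ^ 2 =
            ∑ θ : Cfsg.IrrCharacter H,
              Cfsg.charDegree (θ : H → ℂ) * (Cfsg.charDegree (χ : G → ℂ) * lq_mult H χ θ) := by
          rw [pow_two]
          conv_lhs => rw [lq_degree_restrict H χ]
          rw [Finset.mul_sum]
          refine Finset.sum_congr rfl fun θ _ => ?_
          rw [lq_degree_restrict H χ]
          ring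
        rw [h1]
        apply Finset.sum_le_sum
        intro θ _
        by_cases hθ : θ ∈ b₀
        · rw [if_pos hθ]
        · rw [if_neg hθ]
          have : lq_mult H χ θ = 0 := by
            by_contra hne
            exact hθ (hI3 χ hχ θ hne)
          rw [this, mul_zero, mul_zero]
      · rw [if_neg hχ]
        exact Nat.zero_le _
    calc ∑ χ : Cfsg.IrrCharacter G, (if χ ∈ B₀ then Cfsg.charDegree (χ : G → ℂ) ^ 2 else 0)
        ≤ ∑ χ : Cfsg.IrrCharacter G, ∑ θ : Cfsg.IrrCharacter H, (if θ ∈ b₀ then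
          Cfsg.charDegree (θ : H → ℂ) * (Cfsg.charDegree (χ : G → ℂ) * lq_mult H χ θ)
            else 0) := Finset.sum_le_sum (fun χ _ => step2 χ)
      _ = ∑ θ : Cfsg.IrrCharacter H, ∑ χ : Cfsg.IrrCharacter G, (if θ ∈ b₀ then
          Cfsg.charDegree (θ : H → ℂ) * (Cfsg.charDegree (χ : G → ℂ) * lq_mult H χ θ)
            else 0) := Finset.sum_comm
      _ = H.index * ∑ θ : Cfsg.IrrCharacter H,
          (if θ ∈ b₀ then Cfsg.charDegree (θ : H → ℂ) ^ 2 else 0) := by
          rw [Finset.mul_sum]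
          refine Finset.sum_congr rfl fun θ _ => ?_
          by_cases hθ : θ ∈ b₀
          · simp only [if_pos hθ]
            rw [← Finset.mul_sum, lq_degree_induce H θ]
            ring
          · simp only [if_neg hθ, Finset.sum_const_zero, mul_zero]

end

end Cfsg.Agent.Lib.Helper25
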