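import Mathlib
import Cfsg.Prelude.Def_Blocks
import Cfsg.Agent.Lib.helper7.BlockEval
import Cfsg.Agent.Lib.helper7.BlockCover
import Cfsg.Agent.Lib.Helper25.PrincipalDefect
import Cfsg.Agent.Lib.Helper25.CharAbelian

/-!
Sum of squares of degrees in a block is divisible by `p` when `p ∣ |G|`; the principal block has a
nontrivial character of degree prime to `p` iff `p ∣ |G|` (S4916).
-/

set_option autoImplicit false

namespace Cfsg.Agent.Lib.Helper25
open Cfsg.Agent.Lib.helper7
open scoped ComplexConjugate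

/-- the coefficient at `1` of a block idempotent -/
theorem pb_blockCoeff_one {G : Type*} [Group G] [Fintype G] [Fintype (Cfsg.IrrCharacter G)]
    (B : Set (Cfsg.IrrCharacter G)) [DecidablePred (· ∈ B)] :
    Cfsg.blockCoeff B 1 = (Nat.card G : ℂ)⁻¹ *
      ((∑ χ : Cfsg.IrrCharacter G, if χ ∈ B then Cfsg.charDegree (χ : G → ℂ) ^ 2 else 0 : ℕ) : ℂ) := by
  unfold Cfsg.blockCoeff
  rw [h7_finsum_mem_fintype]
  congr 1
  push_cast
  refine Finset.sum_congr rfl fun χ _ => ?_
  split_ifs
  · rw [h7_irr_conj_one, (charDegree_irr χ).1]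
    ring
  · rfl

/-- if `p ∣ |G|`, the sum of the squares of the degrees in a block is divisible by `p` -/
theorem pb_dvd_sum_sq {G : Type*} [Group G] [Fintype G] [Fintype (Cfsg.IrrCharacter G)]
    (p : ℕ) [Fact p.Prime] (M : Ideal Cfsg.AlgInt) (hM : Cfsg.IsPModular p M)
    (hp : p ∣ Nat.card G) (χ₀ : Cfsg.IrrCharacter G)
    [DecidablePred (· ∈ Cfsg.blockOf M (χ₀ : G → ℂ))] :
    p ∣ ∑ χ : Cfsg.IrrCharacter G,
      if χ ∈ Cfsg.blockOf M (χ₀ : G → ℂ) then Cfsg.charDegree (χ : G → ℂ) ^ 2 else 0 := by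
  have hMp := h7_isPrime_of_isPModular hM
  by_contra hnd
  set S := ∑ χ : Cfsg.IrrCharacter G,
      if χ ∈ Cfsg.blockOf M (χ₀ : G → ℂ) then Cfsg.charDegree (χ : G → ℂ) ^ 2 else 0 with hS
  have hcop : S.Coprime p := by
    rw [Nat.coprime_comm]
    exact (Nat.Prime.coprime_iff_not_dvd Fact.out).mpr hnd
  obtain ⟨a, b, hb, hab⟩ := h7_osima hMp χ₀ (1 : G)
  rw [pb_blockCoeff_one] at hab
  have hb0 := h7_coe_ne_zero_of_not_mem hb
  have hG0 : (Nat.card G : ℂ) ≠ 0 := by exact_mod_cast Nat.card_pos.ne'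
  have h1 : (a : ℂ) * (Nat.card G : ℂ) = (S : ℂ) * (b : ℂ) := by
    field_simp at hab
    linear_combination hab
  have h2 : a * (Nat.card G : Cfsg.AlgInt) = (S : Cfsg.AlgInt) * b := by
    apply Subtype.ext
    push_cast
    exact h1
  have hGM : (Nat.card G : Cfsg.AlgInt) ∈ M := by
    obtain ⟨k, hk⟩ := hp
    rw [hk]
    push_cast
    exact M.mul_mem_right _ hM.2.2
  have h3 : (S : Cfsg.AlgInt) * b ∈ M := by
    rw [← h2]
    exact M.mul_mem_left _ hGM
  rcases hMp.mem_or_mem h3 with h | h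
  · exact h7_natCast_not_mem hM S hcop h
  · exact hb h

theorem pb_main2 {G : Type*} [Group G] [Finite G] (p : ℕ) [Fact p.Prime] (M : Ideal Cfsg.AlgInt)
    (hM : Cfsg.IsPModular p M) :
    (∀ χ : Cfsg.IrrCharacter G, χ ∈ Cfsg.principalBlock M G →
      ¬ p ∣ Cfsg.charDegree (χ : G → ℂ) → (χ : G → ℂ) = fun _ => (1 : ℂ)) ↔
      ¬ p ∣ Nat.card G := by
  classical
  haveI := Fintype.ofFinite G
  haveI : Fintype (Cfsg.IrrCharacter G) := Fintype.ofFinite _
  have hMp := h7_isPrime_of_isPModular hM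
  constructor
  · intro h hp
    have hdvd := pb_dvd_sum_sq p M hM hp (trivIrr G)
    rw [← pb_principal_eq] at hdvd
    have htriv : trivIrr G ∈ Cfsg.principalBlock M G := h7_sameBlock_refl hMp _
    rw [← Finset.add_sum_erase Finset.univ _ (Finset.mem_univ (trivIrr G)), if_pos htriv] at hdvd
    have hdeg : Cfsg.charDegree ((trivIrr G : Cfsg.IrrCharacter G) : G → ℂ) = 1 := by
      have h1 := (charDegree_irr (trivIrr G)).1
      rw [trivIrr_apply] at h1
      exact_mod_cast h1
    rw [hdeg] at hdvd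
    have hrest : p ∣ ∑ χ ∈ Finset.univ.erase (trivIrr G),
        if χ ∈ Cfsg.principalBlock M G then Cfsg.charDegree (χ : G → ℂ) ^ 2 else 0 := by
      apply Finset.dvd_sum
      intro χ hχ
      have hne : χ ≠ trivIrr G := (Finset.mem_erase.mp hχ).1
      split_ifs with hmem
      · by_contra hnd
        apply hne
        apply Subtype.ext
        apply h χ hmem
        intro hd
        exact hnd (dvd_pow hd (by norm_num))
      · exact dvd_zero p
    have : p ∣ 1 := by
      have h2 := (Nat.dvd_add_left hrest).mp hdvd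
      simpa using h2
    exact (Fact.out : p.Prime).one_lt.ne' (Nat.dvd_one.mp this)
  · intro hp χ hχ _
    have hcop : (Nat.card G).Coprime p := by
      rw [Nat.coprime_comm]
      exact (Nat.Prime.coprime_iff_not_dvd Fact.out).mpr hp
    have hsub := h7_union_of_blocks hMp ({trivIrr G} : Set (Cfsg.IrrCharacter G))
      (fun g => h7_memLocalRing_blockCoeff_of_coprime hM hcop _ g) (trivIrr G) rfl
    rw [← pb_principal_eq] at hsub
    have := hsub hχ
    rw [Set.mem_singleton_iff] at this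
    rw [this]
    rfl

end Cfsg.Agent.Lib.Helper25
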