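import Mathlib
import Cfsg.Prelude.Def_Blocks
import Cfsg.Prelude.Def_BlockRank
import Cfsg.Prelude.Def_BrauerPairs
import Cfsg.Prelude.Def_Transfer
import Cfsg.Agent.Lib.Helper1.NPC
import Cfsg.Agent.Lib.Helper25.BlockRankTrace
import Cfsg.Agent.Lib.Helper25.CartanRankOne
import Cfsg.Agent.Lib.Helper25.PNilpotentBlock
import Cfsg.Agent.Lib.Helper25.PrincipalDefect
import Cfsg.Agent.Lib.Helper25.CharLinear
import Cfsg.Agent.S0938

/-!
The principal block is nilpotent iff it has p-regular rank one iff the group has a normal p-complement.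
-/

set_option autoImplicit false
set_option linter.style.haveILetI false
set_option linter.unusedVariables false
set_option warn.classDefReducibility false

namespace Cfsg.Agent.Lib.Helper25
open Cfsg.Agent.Lib.helper7
open Cfsg.Agent.Lib.helper2
open scoped ComplexConjugate
section

/-- with a normal `p`-complement the principal block has `p`-regular rank one -/
theorem nr_rank_of_complement {G : Type*} [Group G] [Fintype G] (p : ℕ) [hp : Fact p.Prime]
    (M : Ideal Cfsg.AlgInt) (hM : Cfsg.IsPModular p M) (h : Cfsg.HasNormalPComplement p G) :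
    Cfsg.blockRank p (Cfsg.principalBlock M G) = 1 := by
  classical
  haveI : Fintype (Cfsg.IrrCharacter G) := Fintype.ofFinite _
  have hMp := hM.2.1.isPrime
  obtain ⟨P, N, hNn, hN⟩ := h
  haveI := hNn
  have htriv : trivIrr G ∈ Cfsg.principalBlock M G := by
    rw [pb_principal_eq]
    exact h7_sameBlock_refl hMp _
  obtain ⟨K, hKn, hK, hKp, -, hKmax⟩ := Cfsg.Agent.S0938.result p M hM (Cfsg.principalBlock M G)
    ⟨trivIrr G, pb_principal_eq M⟩ (trivIrr G) htriv
  have hNp : ¬ p ∣ Nat.card N := by
    have := Cfsg.Agent.Lib.Helper1.card_coprime_of_isComplement'_sylow P hN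
    exact (Nat.Prime.coprime_iff_not_dvd hp.out).mp this.symm
  have hNK : N ≤ K := hKmax N hNn hNp (fun g _ => rfl)
  have hval : ∀ χ ∈ Cfsg.principalBlock M G, ∀ x : G, ¬ p ∣ orderOf x →
      (χ : G → ℂ) x = (χ : G → ℂ) 1 := by
    intro χ hχ x hx
    have hcop : Nat.Coprime (orderOf x) p :=
      (Nat.Coprime.symm ((Nat.Prime.coprime_iff_not_dvd hp.out).mpr hx))
    have hxN : x ∈ N := (Cfsg.Agent.Lib.Helper1.mem_normal_complement_iff P N hN x).mpr hcop
    have hxK : x ∈ (K : Set G) := hNK hxN
    rw [hK] at hxK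
    exact hxK χ hχ
  unfold Cfsg.blockRank
  have hspan : Submodule.span ℂ ((fun χ : Cfsg.IrrCharacter G => Cfsg.pRegularPart p (χ : G → ℂ)) ''
      Cfsg.principalBlock M G) =
      Submodule.span ℂ {Cfsg.pRegularPart p ((trivIrr G : Cfsg.IrrCharacter G) : G → ℂ)} := by
    apply le_antisymm
    · rw [Submodule.span_le]
      rintro _ ⟨χ, hχ, rfl⟩
      have hc : Cfsg.pRegularPart p (χ : G → ℂ) =
          ((χ : G → ℂ) 1) • Cfsg.pRegularPart p ((trivIrr G : Cfsg.IrrCharacter G) : G → ℂ) := by
        funext x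
        by_cases hx : p ∣ orderOf x
        · rw [br_pRegularPart_sing p _ x hx, Pi.smul_apply, br_pRegularPart_sing p _ x hx,
            smul_zero]
        · rw [br_pRegularPart_reg p _ x hx, Pi.smul_apply, br_pRegularPart_reg p _ x hx,
            trivIrr_apply, smul_eq_mul, mul_one, hval χ hχ x hx]
      show Cfsg.pRegularPart p (χ : G → ℂ) ∈ _
      rw [hc]
      exact Submodule.smul_mem _ _ (Submodule.mem_span_singleton_self _)
    · rw [Submodule.span_le]
      intro f hf
      rw [Set.mem_singleton_iff] at hf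
      rw [hf]
      exact Submodule.subset_span ⟨trivIrr G, htriv, rfl⟩
  rw [hspan]
  apply finrank_span_singleton
  intro h
  have h1 := congrFun h 1
  rw [br_pRegularPart_reg p _ 1 (ci_one_regular p), trivIrr_apply] at h1
  exact one_ne_zero h1

/-- if the principal block has `p`-regular rank one then there is a normal `p`-complement -/
theorem nr_complement_of_rank {G : Type*} [Group G] [Fintype G] (p : ℕ) [hp : Fact p.Prime]
    (M : Ideal Cfsg.AlgInt) (hM : Cfsg.IsPModular p M)
    (hl : Cfsg.blockRank p (Cfsg.principalBlock M G) = 1) : Cfsg.HasNormalPComplement p G := by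
  classical
  haveI : Fintype (Cfsg.IrrCharacter G) := Fintype.ofFinite _
  have hMp := hM.2.1.isPrime
  have htriv : trivIrr G ∈ Cfsg.principalBlock M G := by
    rw [pb_principal_eq]
    exact h7_sameBlock_refl hMp _
  obtain ⟨K, hKn, hK, hKp, -, -⟩ := Cfsg.Agent.S0938.result p M hM (Cfsg.principalBlock M G)
    ⟨trivIrr G, pb_principal_eq M⟩ (trivIrr G) htriv
  haveI := hKn
  -- p-regular elements lie in K
  have hreg : ∀ x : G, ¬ p ∣ orderOf x → x ∈ K := by
    intro x hx
    have hxK : x ∈ (K : Set G) := by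
      rw [hK]
      intro χ hχ
      have h1 := congrFun (ci_prop p _ hl (trivIrr G) htriv χ hχ) x
      rw [Pi.smul_apply, br_pRegularPart_reg p _ x hx, br_pRegularPart_reg p _ x hx,
        trivIrr_apply, trivIrr_apply, smul_eq_mul, mul_one, div_one] at h1
      exact h1
    exact hxK
  -- G / K is a p-group
  have hpg : IsPGroup p (G ⧸ K) := by
    intro y
    obtain ⟨g, rfl⟩ := QuotientGroup.mk_surjective y
    have hpos : 0 < orderOf g := orderOf_pos g
    obtain ⟨k, m, hm, hkm⟩ := Nat.exists_eq_pow_mul_and_not_dvd hpos.ne' p hp.out.ne_one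
    refine ⟨k, ?_⟩
    rw [← QuotientGroup.mk_pow, QuotientGroup.eq_one_iff]
    apply hreg
    have hk0 : p ^ k ≠ 0 := pow_ne_zero _ hp.out.ne_zero
    rw [orderOf_pow' g hk0, hkm, Nat.gcd_eq_right (Dvd.intro _ rfl),
      Nat.mul_div_cancel_left _ (Nat.pos_of_ne_zero hk0)]
    exact hm
  obtain ⟨k, hk⟩ := IsPGroup.iff_card.mp hpg
  obtain ⟨P⟩ : Nonempty (Sylow p G) := inferInstance
  refine ⟨P, K, hKn, ?_⟩
  have hcardG : Nat.card G = Nat.card K * p ^ k := by
    rw [← hk, ← Subgroup.index_eq_card, Subgroup.card_mul_index]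
  have hK0 : Nat.card K ≠ 0 := Nat.card_pos.ne'
  have hfac : (Nat.card G).factorization p = k := by
    rw [hcardG, Nat.factorization_mul hK0 (pow_ne_zero _ hp.out.ne_zero), Finsupp.add_apply,
      Nat.factorization_eq_zero_of_not_dvd hKp, hp.out.factorization_pow,
      Finsupp.single_eq_same, zero_add]
  have hPcard : Nat.card P = p ^ k := by
    rw [← hfac]
    exact Sylow.card_eq_multiplicity P
  apply Subgroup.isComplement'_of_coprime
  · rw [hPcard, ← hcardG]
  · rw [hPcard]
    exact Nat.Coprime.pow_right _ ((Nat.Prime.coprime_iff_not_dvd hp.out).mpr hKp).symm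

theorem nr_main {G : Type*} [Group G] [Finite G] (p : ℕ) [hp : Fact p.Prime]
    (M : Ideal Cfsg.AlgInt) (hM : Cfsg.IsPModular p M) :
    Cfsg.IsNilpotentBlock p M (Cfsg.principalBlock M G) ↔
      Cfsg.blockRank p (Cfsg.principalBlock M G) = 1 := by
  haveI : Fintype G := Fintype.ofFinite _
  rw [← bm_pnilpotent_iff p M hM]
  exact ⟨nr_rank_of_complement p M hM, nr_complement_of_rank p M hM⟩

end

end Cfsg.Agent.Lib.Helper25
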