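import Mathlib
import Cfsg.Agent.Lib.helper7.R1.Defs
import Cfsg.Prelude.Def_BrauerPairs
import Cfsg.Prelude.Def_BlockRank
import Cfsg.Agent.Lib.Helper25.CartanRankOne

/-! Project R1 (S4648, leader helper7), piece R1-CH: degrees in a block of rank one. -/

set_option autoImplicit false

namespace Cfsg.Agent.Lib.Helper25.R1

open Cfsg.Agent.Lib.helper7 Cfsg.Agent.Lib.helper7.Br Cfsg.Agent.Lib.helper7.R1
open scoped ComplexConjugate

section chars

variable {G : Type*} [Group G] [Finite G]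

/-- CH : degrees in a block of rank one (from helper25's `ci_main`). -/
theorem rank_one_degrees (p : ℕ) [Fact p.Prime] (M : Ideal Cfsg.AlgInt) (hM : Cfsg.IsPModular p M)
    (B : Set (Cfsg.IrrCharacter G)) (hB : Cfsg.IsPBlock M B)
    (D : Subgroup G) (hD : Cfsg.IsDefectGroup p M B D)
    (hl : Cfsg.blockRank p B = 1) :
    ∃ (g₀ : ℕ) (d : Cfsg.IrrCharacter G → ℕ), 0 < g₀ ∧ (∀ χ ∈ B, 0 < d χ) ∧
      (∀ χ ∈ B, Cfsg.charDegree (χ : G → ℂ) = g₀ * d χ) ∧
      ∑ᶠ χ ∈ B, d χ ^ 2 = p ^ Cfsg.blockDefect p B ∧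
      g₀.factorization p + Cfsg.blockDefect p B ≤ (Nat.card G).factorization p ∧
      (Nat.card G : ℂ) * Cfsg.blockCoeff B 1 = ((g₀ ^ 2 * p ^ Cfsg.blockDefect p B : ℕ) : ℂ) := by
  classical
  have : Fintype G := Fintype.ofFinite G
  have : Fintype (Cfsg.IrrCharacter G) := Fintype.ofFinite _
  have hp : p.Prime := Fact.out
  obtain ⟨φ, d, ⟨n, hn⟩, hχφ, hsum⟩ := Cfsg.Agent.Lib.Helper25.ci_main p M hM B hB D hD hl
  have hcardD := Cfsg.Agent.S0908.result p M hM B hB D hD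
  have hMp := hM.2.1.isPrime
  -- `B` is non-empty
  obtain ⟨χ₀, hχ₀⟩ : ∃ χ₀ : Cfsg.IrrCharacter G, χ₀ ∈ B := by
    obtain ⟨χ₀, rfl⟩ := hB
    exact ⟨χ₀, h7_sameBlock_refl hMp _⟩
  have h1reg : Cfsg.IsPRegular p (1 : G) := by
    unfold Cfsg.IsPRegular
    rw [orderOf_one]
    exact hp.one_lt.ne' ∘ Nat.dvd_one.mp
  set deg : Cfsg.IrrCharacter G → ℕ := fun χ => Cfsg.charDegree (χ : G → ℂ) with hdeg
  have hdegC : ∀ χ : Cfsg.IrrCharacter G, ((deg χ : ℕ) : ℂ) = (χ : G → ℂ) 1 :=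
    fun χ => (h7_charDegree_props χ).2.2
  have hdegpos : ∀ χ : Cfsg.IrrCharacter G, 0 < deg χ := fun χ => (h7_charDegree_props χ).2.1
  -- `φ 1` is an integer
  set s : Finset (Cfsg.IrrCharacter G) := Finset.univ.filter (· ∈ B) with hs
  obtain ⟨z, hz⟩ : ∃ z : ℤ, φ 1 = (z : ℂ) := by
    refine ⟨∑ ψ ∈ s, n ψ * (deg ψ : ℤ), ?_⟩
    rw [hn 1 h1reg, finsum_mem_def, finsum_eq_sum_of_fintype, hs, Finset.sum_filter]
    push_cast
    apply Finset.sum_congr rfl
    intro ψ _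
    by_cases hψ : ψ ∈ B
    · rw [Set.indicator_of_mem hψ, if_pos hψ, ← hdegC ψ]
    · rw [Set.indicator_of_notMem hψ, if_neg hψ]
  -- degrees
  have hdegz : ∀ χ ∈ B, (deg χ : ℤ) = (d χ : ℤ) * z := by
    intro χ hχ
    have h := hχφ χ hχ 1 h1reg
    rw [← hdegC χ, hz] at h
    have h' : ((deg χ : ℤ) : ℂ) = (((d χ : ℤ) * z : ℤ) : ℂ) := by
      push_cast
      exact h
    exact_mod_cast h'
  have hzpos : 0 < z := by
    have h := hdegz χ₀ hχ₀
    have hpos : (0 : ℤ) < (deg χ₀ : ℤ) := by exact_mod_cast hdegpos χ₀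
    rw [h] at hpos
    have hd0 : (0 : ℤ) ≤ (d χ₀ : ℤ) := Int.natCast_nonneg _
    by_contra hcon
    push Not at hcon
    have : (d χ₀ : ℤ) * z ≤ 0 := mul_nonpos_of_nonneg_of_nonpos hd0 hcon
    omega
  obtain ⟨g₀, hg₀⟩ : ∃ g₀ : ℕ, z = (g₀ : ℤ) := ⟨z.toNat, (Int.toNat_of_nonneg hzpos.le).symm⟩
  have hg₀pos : 0 < g₀ := by
    rw [hg₀] at hzpos
    exact_mod_cast hzpos
  have hdegN : ∀ χ ∈ B, deg χ = g₀ * d χ := by
    intro χ hχ
    have h := hdegz χ hχ
    rw [hg₀] at h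
    have : ((deg χ : ℕ) : ℤ) = ((g₀ * d χ : ℕ) : ℤ) := by
      push_cast
      rw [h]
      ring
    exact_mod_cast this
  have hdpos : ∀ χ ∈ B, 0 < d χ := by
    intro χ hχ
    have h := hdegN χ hχ
    have hpos := hdegpos χ
    rw [h] at hpos
    exact Nat.pos_of_mul_pos_left hpos
  have hsum' : ∑ᶠ χ ∈ B, d χ ^ 2 = p ^ Cfsg.blockDefect p B := by rw [hsum, hcardD]
  refine ⟨g₀, d, hg₀pos, hdpos, hdegN, hsum', ?_, ?_⟩
  · -- valuations
    unfold Cfsg.blockDefect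
    set S : Set ℕ := (fun χ : Cfsg.IrrCharacter G =>
      (Cfsg.charDegree (χ : G → ℂ)).factorization p) '' B with hS
    have hSne : S.Nonempty := ⟨_, χ₀, hχ₀, rfl⟩
    have hle : g₀.factorization p ≤ sInf S := by
      apply le_csInf hSne
      rintro _ ⟨χ, hχ, rfl⟩
      have h := hdegN χ hχ
      show g₀.factorization p ≤ (deg χ).factorization p
      rw [h, Nat.factorization_mul hg₀pos.ne' (hdpos χ hχ).ne']
      simp
    have hInfle : sInf S ≤ (Nat.card G).factorization p := by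
      have h1 : sInf S ≤ (deg χ₀).factorization p := Nat.sInf_le ⟨χ₀, hχ₀, rfl⟩
      have h2 : (deg χ₀).factorization p ≤ (Nat.card G).factorization p := by
        have hdvd := (h7_charDegree_props χ₀).1
        exact (Nat.factorization_le_iff_dvd (hdegpos χ₀).ne' Nat.card_pos.ne').mpr hdvd p
      exact le_trans h1 h2
    omega
  · -- the dimension of the block
    unfold Cfsg.blockCoeff
    have hG0 : (Nat.card G : ℂ) ≠ 0 := by
      exact_mod_cast Nat.card_pos.ne'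
    rw [← mul_assoc, mul_inv_cancel₀ hG0, one_mul]
    have hterm : ∀ χ ∈ B, (χ : G → ℂ) 1 * conj ((χ : G → ℂ) 1) = (((g₀ ^ 2 * d χ ^ 2 : ℕ)) : ℂ) := by
      intro χ hχ
      rw [← hdegC χ, Complex.conj_natCast, hdegN χ hχ]
      push_cast
      ring
    rw [finsum_mem_congr rfl hterm]
    have hsumN : ∑ᶠ χ ∈ B, (g₀ ^ 2 * d χ ^ 2) = g₀ ^ 2 * p ^ Cfsg.blockDefect p B := by
      rw [← hsum', finsum_mem_def, finsum_mem_def, finsum_eq_sum_of_fintype,
        finsum_eq_sum_of_fintype, Finset.mul_sum]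
      apply Finset.sum_congr rfl
      intro χ _
      by_cases hχ : χ ∈ B
      · rw [Set.indicator_of_mem hχ, Set.indicator_of_mem hχ]
      · rw [Set.indicator_of_notMem hχ, Set.indicator_of_notMem hχ, mul_zero]
    rw [← hsumN, finsum_mem_def, finsum_mem_def, finsum_eq_sum_of_fintype, finsum_eq_sum_of_fintype]
    push_cast
    apply Finset.sum_congr rfl
    intro χ _
    by_cases hχ : χ ∈ B
    · rw [Set.indicator_of_mem hχ, Set.indicator_of_mem hχ]
      push_cast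
      rfl
    · rw [Set.indicator_of_notMem hχ, Set.indicator_of_notMem hχ]
      simp

end chars

end Cfsg.Agent.Lib.Helper25.R1
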