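import Mathlib
import Cfsg.Agent.Lib.helper7.R1.Defs

/-!
# Project R1 (S4648), piece K4C : `comm_of_gen_two`

A finite-dimensional local symmetric algebra `Λ` over a field, with nilpotent radical `J` such that
`J = F a + F b + J²`, in which every element of `J²` killed by the symmetrising form is a sum of
commutators, is commutative.

Proof.  If `J³ = 0`, a commutator `t` lies in `J²`, is killed by the form, and `t Λ ⊆ F t + J³ = F t`,
so `t = 0` by non-degeneracy.  If `J³ ≠ 0` the form does not vanish on `J³`, so the hypothesis on `J²`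
gives `J² ⊆ F c + J³` with `c = ab - ba`; writing `aa, ab, ba, bb ≡ α c, γ c, γ' c, β c` modulo `J³`
one gets `γ - γ' = 1`, and the eight associativity relations `(xy)z = x(yz)` on the generators force
`ac, bc ∈ J⁴`, whence `J³ ⊆ J⁴` and `J³ = 0`: a contradiction.
-/

set_option autoImplicit false
set_option linter.unusedVariables false
set_option linter.unusedSectionVars false

namespace Cfsg.Agent.Lib.Helper25.R1

open Cfsg.Agent.Lib.helper7 Cfsg.Agent.Lib.helper7.Br Cfsg.Agent.Lib.helper7.R1

section k4c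

variable {F : Type*} [Field F] {Λ : Type*} [Ring Λ] [Algebra F Λ]

/-- the square of a (left) ideal, as a submodule over the field, lies in it -/
theorem k4c_sq_le (N : Ideal Λ) :
    N.restrictScalars F * N.restrictScalars F ≤ N.restrictScalars F := by
  rw [Submodule.mul_le]
  intro m _ n hn
  exact N.mul_mem_left m hn

/-- the powers of `J` decrease from the first one on -/
theorem k4c_pow_succ_le (J : Submodule F Λ) (hJ : J * J ≤ J) (k : ℕ) :
    J ^ (k + 2) ≤ J ^ (k + 1) := by
  induction k with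
  | zero =>
    rw [zero_add, pow_one, pow_two]
    exact hJ
  | succ k ih =>
    calc J ^ (k + 1 + 2) = J * J ^ (k + 2) := pow_succ' J (k + 2)
      _ ≤ J * J ^ (k + 1) := mul_le_mul' le_rfl ih
      _ = J ^ (k + 1 + 1) := (pow_succ' J (k + 1)).symm

theorem k4c_pow_anti (J : Submodule F Λ) (hJ : J * J ≤ J) (i k : ℕ) :
    J ^ (i + 1 + k) ≤ J ^ (i + 1) := by
  induction k with
  | zero => exact le_rfl
  | succ k ih =>
    refine le_trans ?_ ih
    have := k4c_pow_succ_le J hJ (i + k)
    have e1 : i + 1 + (k + 1) = i + k + 2 := by omega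
    have e2 : i + 1 + k = i + k + 1 := by omega
    rw [e1, e2]
    exact this

/-- a power which is contained in the next one vanishes, when some power vanishes -/
theorem k4c_stable_bot (J : Submodule F Λ) (m : ℕ) (hm : J ^ m = ⊥) (i : ℕ)
    (h : J ^ i ≤ J ^ (i + 1)) : J ^ i = ⊥ := by
  have key : ∀ k : ℕ, J ^ i ≤ J ^ (i + k) := by
    intro k
    induction k with
    | zero => exact le_rfl
    | succ k ih =>
      refine le_trans ih ?_
      have e : i + (k + 1) = i + 1 + k := by omega
      rw [e, pow_add J i k, pow_add J (i + 1) k]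
      exact mul_le_mul' h le_rfl
  have := key m
  rw [pow_add, hm, Submodule.mul_bot] at this
  exact le_bot_iff.mp this

/-- a nil set which is a left ideal has a vanishing power -/
theorem k4c_nil (N : Ideal Λ) (hNnil : NilSet (N : Set Λ)) :
    ∃ m : ℕ, (N.restrictScalars F) ^ m = ⊥ := by
  obtain ⟨m, hm⟩ := hNnil
  refine ⟨m, ?_⟩
  have key : ∀ k : ℕ, ∀ x ∈ (N.restrictScalars F) ^ k, ∀ l : List Λ, l.length + k = m →
      (∀ y ∈ l, y ∈ (N : Set Λ)) → l.prod * x = 0 := by
    intro k
    induction k with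
    | zero =>
      intro x hx l hl hlN
      rw [pow_zero, Submodule.mem_one] at hx
      obtain ⟨r, rfl⟩ := hx
      rw [← Algebra.commutes, Algebra.algebraMap_eq_smul_one, smul_mul_assoc, one_mul,
        hm l (by omega) hlN, smul_zero]
    | succ k ih =>
      intro x hx l hl hlN
      rw [pow_succ'] at hx
      refine Submodule.mul_induction_on hx ?_ ?_
      · intro u hu v hv
        rw [← mul_assoc]
        have := ih v hv (l ++ [u]) (by rw [List.length_append, List.length_singleton]; omega)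
          (by
            intro y hy
            rw [List.mem_append, List.mem_singleton] at hy
            rcases hy with hy | rfl
            · exact hlN y hy
            · exact hu)
        rw [List.prod_append, List.prod_singleton] at this
        exact this
      · intro u v hu hv
        rw [mul_add, hu, hv, add_zero]
  rw [eq_bot_iff]
  intro x hx
  have := key m x hx [] (by simp) (by simp)
  rw [List.prod_nil, one_mul] at this
  rw [Submodule.mem_bot]
  exact this

/-- an element killed by the form together with all its multiples by the radical is zero -/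
theorem k4c_zero_of (lam : Λ →ₗ[F] F) (hlam : IsSymForm lam) (N : Ideal Λ)
    (hloc : ∀ x : Λ, ∃ α : F, x - algebraMap F Λ α ∈ N) (t : Λ) (h0 : lam t = 0)
    (h1 : ∀ j ∈ N, lam (t * j) = 0) : t = 0 := by
  apply hlam.2
  intro b'
  obtain ⟨β, hβ⟩ := hloc b'
  have e : t * b' = β • t + t * (b' - algebraMap F Λ β) := by
    rw [mul_sub, ← Algebra.commutes, Algebra.algebraMap_eq_smul_one, smul_mul_assoc, one_mul]
    abel
  rw [e, map_add, map_smul, h0, h1 _ hβ, smul_zero, add_zero]

/-- commutators do not see scalars -/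
theorem k4c_comm_shift (ξ η : F) (x y : Λ) :
    (x - algebraMap F Λ ξ) * (y - algebraMap F Λ η) -
      (y - algebraMap F Λ η) * (x - algebraMap F Λ ξ) = x * y - y * x := by
  have hp : ∀ z : Λ, algebraMap F Λ ξ * z = z * algebraMap F Λ ξ := fun z => Algebra.commutes ξ z
  have hq : ∀ z : Λ, algebraMap F Λ η * z = z * algebraMap F Λ η := fun z => Algebra.commutes η z
  generalize algebraMap F Λ ξ = p at hp
  generalize algebraMap F Λ η = q at hq
  have h1 : (x - p) * (y - q) = x * y - x * q - p * y + p * q := by noncomm_ring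
  have h2 : (y - q) * (x - p) = y * x - y * p - q * x + q * p := by noncomm_ring
  rw [h1, h2, hp y, hq x, hq p]
  abel

/-- the commutator of two elements written with two generators -/
theorem k4c_comm_uv (a b j k : Λ) (x₁ x₂ y₁ y₂ : F) :
    (x₁ • a + x₂ • b + j) * (y₁ • a + y₂ • b + k) - (y₁ • a + y₂ • b + k) * (x₁ • a + x₂ • b + j) =
      (x₁ * y₂ - x₂ * y₁) • (a * b - b * a) +
        (((x₁ • a + x₂ • b) * k - k * (x₁ • a + x₂ • b)) +
          (j * (y₁ • a + y₂ • b) - (y₁ • a + y₂ • b) * j) + (j * k - k * j)) := by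
  simp only [add_mul, mul_add, smul_mul_assoc, mul_smul_comm, smul_add, smul_smul, sub_smul,
    smul_sub]
  module

/-- the linear algebra at the end of the argument -/
theorem k4c_linalg {Q : Type*} [AddCommGroup Q] [Module F Q] (α β γ γ' : F) (hgg : γ - γ' = 1)
    (A B C D : Q)
    (R1 : α • C = α • A) (R2 : α • D = γ • A) (R3 : γ • C = γ' • A) (R4 : γ • D = β • A)
    (R5 : γ' • C = α • B) (R6 : γ' • D = γ • B) (R7 : β • C = γ' • B) (R8 : β • D = β • B) :
    A = 0 ∧ B = 0 := by
  have hdiff : ∀ X : Q, γ • X = γ' • X → X = 0 := by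
    intro X h
    have : (γ - γ') • X = 0 := by rw [sub_smul, h, sub_self]
    rwa [hgg, one_smul] at this
  by_cases hα : α = 0
  · by_cases hβ : β = 0
    · subst hα hβ
      simp only [zero_smul] at R2 R4 R5 R7
      by_cases hg : γ = 0
      · have hg' : γ' ≠ 0 := by
          intro h
          rw [hg, h, sub_self] at hgg
          exact zero_ne_one hgg
        have hB : B = 0 := (smul_eq_zero.1 R7.symm).resolve_left hg'
        have hC : C = 0 := (smul_eq_zero.1 R5).resolve_left hg'
        rw [hC, smul_zero] at R3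
        exact ⟨(smul_eq_zero.1 R3.symm).resolve_left hg', hB⟩
      · have hA : A = 0 := (smul_eq_zero.1 R2.symm).resolve_left hg
        have hD : D = 0 := (smul_eq_zero.1 R4).resolve_left hg
        rw [hD, smul_zero] at R6
        exact ⟨hA, (smul_eq_zero.1 R6.symm).resolve_left hg⟩
    · have hDB : D = B := smul_right_injective Q hβ R8
      rw [hDB] at R6 R4
      have hB : B = 0 := hdiff B R6.symm
      rw [hB, smul_zero] at R4
      exact ⟨(smul_eq_zero.1 R4.symm).resolve_left hβ, hB⟩
  · have hCA : C = A := smul_right_injective Q hα R1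
    rw [hCA] at R3 R5
    have hA : A = 0 := hdiff A R3
    rw [hA, smul_zero] at R5
    exact ⟨hA, (smul_eq_zero.1 R5.symm).resolve_left hα⟩

end k4c

section algstmts

variable {F A : Type*} [Field F] [Ring A] [Algebra F A]

/-- K4C : a local symmetric algebra whose radical is generated by two elements modulo its square and in
which every element of `J²` killed by the form is a sum of commutators is commutative. -/
theorem comm_of_gen_two {Λ : Type*} [Ring Λ] [Algebra F Λ] [FiniteDimensional F Λ]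
    (lam : Λ →ₗ[F] F) (hlam : IsSymForm lam)
    (N : Ideal Λ) (hNr : ∀ x ∈ N, ∀ y : Λ, x * y ∈ N) (hNnil : NilSet (N : Set Λ))
    (hloc : ∀ x : Λ, ∃ α : F, x - algebraMap F Λ α ∈ N)
    (a b : Λ) (ha : a ∈ N) (hb : b ∈ N)
    (hgen : ∀ y ∈ N, ∃ c d : F, y - c • a - d • b ∈ N.restrictScalars F * N.restrictScalars F)
    (hK : ∀ y ∈ N.restrictScalars F * N.restrictScalars F, lam y = 0 →
      y ∈ Submodule.span F {c : Λ | ∃ a b : Λ, c = a * b - b * a}) :
    ∀ x y : Λ, x * y = y * x := by
  obtain ⟨J, hJdef⟩ : ∃ J : Submodule F Λ, J = N.restrictScalars F := ⟨_, rfl⟩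
  rw [← hJdef] at hgen hK
  have hJmem : ∀ x, x ∈ J ↔ x ∈ N := fun x => by
    rw [hJdef]
    exact Submodule.restrictScalars_mem F N x
  have hJJ : J * J ≤ J := by
    rw [hJdef]
    exact k4c_sq_le N
  have hJ2 : J ^ 2 = J * J := pow_two J
  obtain ⟨m, hm⟩ := k4c_nil (F := F) N hNnil
  rw [← hJdef] at hm
  have h32 : J ^ 3 ≤ J ^ 2 := k4c_pow_succ_le J hJJ 1
  have h43 : J ^ 4 ≤ J ^ 3 := k4c_pow_succ_le J hJJ 2
  have hsymm : ∀ x y, lam (x * y - y * x) = 0 := by
    intro x y
    rw [map_sub, hlam.1 x y, sub_self]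
  -- commutators lie in `J²`
  have hcomm2 : ∀ x y : Λ, x * y - y * x ∈ J ^ 2 := by
    intro x y
    obtain ⟨ξ, hξ⟩ := hloc x
    obtain ⟨η, hη⟩ := hloc y
    rw [← k4c_comm_shift ξ η x y, hJ2]
    exact Submodule.sub_mem _ (Submodule.mul_mem_mul ((hJmem _).2 hξ) ((hJmem _).2 hη))
      (Submodule.mul_mem_mul ((hJmem _).2 hη) ((hJmem _).2 hξ))
  by_cases h3 : J ^ 3 = ⊥
  · intro x y
    rw [← sub_eq_zero]
    apply k4c_zero_of lam hlam N hloc _ (hsymm x y)
    intro j hj
    have : (x * y - y * x) * j ∈ J ^ 3 := by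
      rw [pow_succ J 2]
      exact Submodule.mul_mem_mul (hcomm2 x y) ((hJmem j).2 hj)
    rw [h3, Submodule.mem_bot] at this
    rw [this, map_zero]
  · exfalso
    -- (i) the form does not vanish on `J³`
    have hs : ∃ s ∈ J ^ 3, lam s ≠ 0 := by
      by_contra hcon
      push Not at hcon
      obtain ⟨t, ht, ht0⟩ := Submodule.exists_mem_ne_zero_of_ne_bot h3
      apply ht0
      apply k4c_zero_of lam hlam N hloc t (hcon t ht)
      intro j hj
      apply hcon
      apply h43
      rw [pow_succ J 3]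
      exact Submodule.mul_mem_mul ht ((hJmem j).2 hj)
    obtain ⟨s, hs3, hs0⟩ := hs
    obtain ⟨c, hc⟩ : ∃ c : Λ, c = a * b - b * a := ⟨_, rfl⟩
    have haJ : a ∈ J := (hJmem a).2 ha
    have hbJ : b ∈ J := (hJmem b).2 hb
    have hcJ2 : c ∈ J ^ 2 := by
      rw [hc]
      exact hcomm2 a b
    obtain ⟨W, hW⟩ : ∃ W : Submodule F Λ, W = Submodule.span F {c} ⊔ J ^ 3 := ⟨_, rfl⟩
    have hcW : c ∈ W := by
      rw [hW]
      exact Submodule.mem_sup_left (Submodule.mem_span_singleton_self c)
    have h3W : J ^ 3 ≤ W := by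
      rw [hW]
      exact le_sup_right
    -- decomposition
    have hdec : ∀ x ∈ N, ∃ x₁ x₂ : F, ∃ j ∈ J ^ 2, x = x₁ • a + x₂ • b + j := by
      intro x hx
      obtain ⟨x₁, x₂, h⟩ := hgen x hx
      refine ⟨x₁, x₂, x - x₁ • a - x₂ • b, ?_, by abel⟩
      rw [hJ2]
      exact h
    -- (ii) all commutators lie in `W`
    have hcommW : ∀ x y : Λ, x * y - y * x ∈ W := by
      intro x y
      obtain ⟨ξ, hξ⟩ := hloc x
      obtain ⟨η, hη⟩ := hloc y
      rw [← k4c_comm_shift ξ η x y]
      obtain ⟨x₁, x₂, j, hj, ex⟩ := hdec _ hξ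
      obtain ⟨y₁, y₂, k, hk, ey⟩ := hdec _ hη
      rw [ex, ey, k4c_comm_uv, ← hc]
      have hu : x₁ • a + x₂ • b ∈ J := J.add_mem (J.smul_mem _ haJ) (J.smul_mem _ hbJ)
      have hv : y₁ • a + y₂ • b ∈ J := J.add_mem (J.smul_mem _ haJ) (J.smul_mem _ hbJ)
      refine W.add_mem (W.smul_mem _ hcW) (h3W ?_)
      refine Submodule.add_mem _ (Submodule.add_mem _ (Submodule.sub_mem _ ?_ ?_)
        (Submodule.sub_mem _ ?_ ?_)) (Submodule.sub_mem _ ?_ ?_)
      · rw [pow_succ' J 2]
        exact Submodule.mul_mem_mul hu hk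
      · rw [pow_succ J 2]
        exact Submodule.mul_mem_mul hk hu
      · rw [pow_succ J 2]
        exact Submodule.mul_mem_mul hj hv
      · rw [pow_succ' J 2]
        exact Submodule.mul_mem_mul hv hj
      · apply h43
        rw [pow_add J 2 2]
        exact Submodule.mul_mem_mul hj hk
      · apply h43
        rw [pow_add J 2 2]
        exact Submodule.mul_mem_mul hk hj
    have hKW : Submodule.span F {c : Λ | ∃ a b : Λ, c = a * b - b * a} ≤ W := by
      rw [Submodule.span_le]
      rintro _ ⟨x, y, rfl⟩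
      exact hcommW x y
    -- (iii) `J² ≤ W`
    have h2W : J ^ 2 ≤ W := by
      intro y hy
      have hy' : y - (lam y / lam s) • s ∈ J ^ 2 :=
        Submodule.sub_mem _ hy (Submodule.smul_mem _ _ (h32 hs3))
      have hl : lam (y - (lam y / lam s) • s) = 0 := by
        rw [map_sub, map_smul, smul_eq_mul, div_mul_cancel₀ _ hs0, sub_self]
      have := hKW (hK _ (by rw [← hJ2]; exact hy') hl)
      have h2 : y = (y - (lam y / lam s) • s) + (lam y / lam s) • s := by abel
      rw [h2]
      exact W.add_mem this (W.smul_mem _ (h3W hs3))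
    -- (iv) the structure constants
    have hsc : ∀ z ∈ J ^ 2, ∃ ζ : F, z - ζ • c ∈ J ^ 3 := by
      intro z hz
      have hzW := h2W hz
      rw [hW] at hzW
      obtain ⟨y, hy, w, hw, e⟩ := Submodule.mem_sup.1 hzW
      obtain ⟨ζ, rfl⟩ := Submodule.mem_span_singleton.1 hy
      refine ⟨ζ, ?_⟩
      rw [← e, add_sub_cancel_left]
      exact hw
    have hmul2 : ∀ u ∈ J, ∀ v ∈ J, u * v ∈ J ^ 2 := fun u hu v hv => by
      rw [hJ2]
      exact Submodule.mul_mem_mul hu hv
    obtain ⟨α, hα⟩ := hsc (a * a) (hmul2 a haJ a haJ)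
    obtain ⟨γ, hγ⟩ := hsc (a * b) (hmul2 a haJ b hbJ)
    obtain ⟨γ', hγ'⟩ := hsc (b * a) (hmul2 b hbJ a haJ)
    obtain ⟨β, hβ⟩ := hsc (b * b) (hmul2 b hbJ b hbJ)
    have hgg : γ - γ' = 1 := by
      by_contra hne
      have h1 : (1 - (γ - γ')) • c ∈ J ^ 3 := by
        have : (1 - (γ - γ')) • c = (a * b - γ • c) - (b * a - γ' • c) := by
          rw [hc]
          module
        rw [this]
        exact Submodule.sub_mem _ hγ hγ'
      have hne' : (1 - (γ - γ')) ≠ 0 := by
        intro h
        apply hne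
        linear_combination -h
      have hc3 : c ∈ J ^ 3 := by
        have := Submodule.smul_mem (J ^ 3) (1 - (γ - γ'))⁻¹ h1
        rwa [smul_smul, inv_mul_cancel₀ hne', one_smul] at this
      have hW3 : W ≤ J ^ 3 := by
        rw [hW]
        exact sup_le (by rw [Submodule.span_singleton_le_iff_mem]; exact hc3) le_rfl
      have h23 : J ^ 2 ≤ J ^ 3 := le_trans h2W hW3
      have h2bot : J ^ 2 = ⊥ := k4c_stable_bot J m hm 2 h23
      apply h3
      rw [eq_bot_iff, ← h2bot]
      exact h32
    -- (v) associativity relations modulo `J⁴`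
    have hrel : ∀ x ∈ J, ∀ y z : Λ, z ∈ J → ∀ p q : F, x * y - p • c ∈ J ^ 3 →
        y * z - q • c ∈ J ^ 3 → p • (c * z) - q • (x * c) ∈ J ^ 4 := by
      intro x hx y z hz p q h1 h2
      have e : p • (c * z) - q • (x * c) = x * (y * z - q • c) - (x * y - p • c) * z := by
        rw [mul_sub, sub_mul, mul_smul_comm, smul_mul_assoc, mul_assoc]
        abel
      rw [e]
      refine Submodule.sub_mem _ ?_ ?_
      · rw [pow_succ' J 3]
        exact Submodule.mul_mem_mul hx h2
      · rw [pow_succ J 3]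
        exact Submodule.mul_mem_mul h1 hz
    have hπ : ∀ v : Λ, (J ^ 4).mkQ v = 0 ↔ v ∈ J ^ 4 := fun v => by
      rw [Submodule.mkQ_apply, Submodule.Quotient.mk_eq_zero]
    have hq : ∀ x ∈ J, ∀ y z : Λ, z ∈ J → ∀ p q : F, x * y - p • c ∈ J ^ 3 →
        y * z - q • c ∈ J ^ 3 → p • (J ^ 4).mkQ (c * z) = q • (J ^ 4).mkQ (x * c) := by
      intro x hx y z hz p q h1 h2
      have := (hπ _).2 (hrel x hx y z hz p q h1 h2)
      rw [map_sub, map_smul, map_smul, sub_eq_zero] at this
      exact this
    have R1 := hq a haJ a a haJ α α hα hα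
    have R2 := hq a haJ a b hbJ α γ hα hγ
    have R3 := hq a haJ b a haJ γ γ' hγ hγ'
    have R4 := hq a haJ b b hbJ γ β hγ hβ
    have R5 := hq b hbJ a a haJ γ' α hγ' hα
    have R6 := hq b hbJ a b hbJ γ' γ hγ' hγ
    have R7 := hq b hbJ b a haJ β γ' hβ hγ'
    have R8 := hq b hbJ b b hbJ β β hβ hβ
    obtain ⟨hA, hB⟩ := k4c_linalg α β γ γ' hgg ((J ^ 4).mkQ (a * c)) ((J ^ 4).mkQ (b * c))
      ((J ^ 4).mkQ (c * a)) ((J ^ 4).mkQ (c * b)) R1 R2 R3 R4 R5 R6 R7 R8
    have hac : a * c ∈ J ^ 4 := (hπ _).1 hA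
    have hbc : b * c ∈ J ^ 4 := (hπ _).1 hB
    -- (vi) `J³ ≤ J⁴`
    have h34 : J ^ 3 ≤ J ^ 4 := by
      rw [pow_succ' J 2, Submodule.mul_le]
      intro u hu v hv
      obtain ⟨ν, hν⟩ := hsc v hv
      obtain ⟨u₁, u₂, j, hj, eu⟩ := hdec u ((hJmem u).1 hu)
      have e1 : u * v = u * (v - ν • c) + ν • (u * c) := by
        rw [mul_sub, mul_smul_comm]
        abel
      have e2 : u * c = u₁ • (a * c) + u₂ • (b * c) + j * c := by
        rw [eu, add_mul, add_mul, smul_mul_assoc, smul_mul_assoc]
      rw [e1, e2]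
      refine Submodule.add_mem _ ?_ (Submodule.smul_mem _ _ (Submodule.add_mem _
        (Submodule.add_mem _ (Submodule.smul_mem _ _ hac) (Submodule.smul_mem _ _ hbc)) ?_))
      · rw [pow_succ' J 3]
        exact Submodule.mul_mem_mul hu hν
      · rw [pow_add J 2 2]
        exact Submodule.mul_mem_mul hj hcJ2
    exact h3 (k4c_stable_bot J m hm 3 h34)

end algstmts

end Cfsg.Agent.Lib.Helper25.R1
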