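import Mathlib
import Cfsg.Agent.Lib.Helper18.REELA.Defs
import Cfsg.Agent.Lib.helper4.REELA05
import Cfsg.Agent.Lib.Helper25.REELA07
import Cfsg.Agent.Lib.Helper25.REELA08core

/-!
# REE block LA row LA08 (helper25): `la_theta` (verbatim wrapper of `reela08_core` on LA05 + LA07).
-/

set_option autoImplicit false

namespace Cfsg.Agent.Lib.helper7.REE

open Matrix Polynomial

section general

variable {F : Type*} [Field F]

variable {V : Type*} [AddCommGroup V] [Module F V]

/-- LA08 [S-M]. The commutant of `f` maps to the field `F[X]/(p)`: `θ g = mk r` iff `g = r(f)`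
on `W`. -/
theorem la_theta (f : Module.End F V) (p : F[X]) (hp : Irreducible p)
    (hW : Module.finrank F (LinearMap.ker (aeval f p)) = p.natDegree) :
    ∃ θ : Module.End F V → AdjoinRoot p, θ 1 = 1 ∧
      (∀ g h, Commute g f → Commute h f → θ (g * h) = θ g * θ h) ∧
      (∀ g, Commute g f → ∀ r : F[X],
        (θ g = AdjoinRoot.mk p r ↔ ∀ x ∈ LinearMap.ker (aeval f p), g x = aeval f r x)) :=
  reela08_core f p (la_ker_dvd f p hp hW) (la_commutant_ker f p hp hW)

end general

end Cfsg.Agent.Lib.helper7.REE
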