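import Mathlib
import Cfsg.Agent.Lib.helper7.REE.Defs
import Cfsg.Agent.Lib.helper8.ChevReeD4

/-!
# REE row PA (helper25): `so2_eq_cent`.
-/

set_option autoImplicit false

namespace Cfsg.Agent.Lib.helper7.REE

open Matrix Polynomial Cfsg.Agent.Lib.helper8

universe u v

section P

variable {K : Type v} [Field K] [Fintype K] {m : ℕ}

omit [Fintype K] in
/-- membership in `so2` -/
theorem reepa_mem (g : SpecialLinearGroup (Fin 2) K) :
    g ∈ so2 K ↔ g 0 0 = g 1 1 ∧ g 0 1 = -(g 1 0) := Iff.rfl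

/-- `SO₂ = C(W)` over any field -/
theorem reepa_core {F : Type*} [Field F] (g : SpecialLinearGroup (Fin 2) F) :
    (g 0 0 = g 1 1 ∧ g 0 1 = -(g 1 0)) ↔ g * h8slW = h8slW * g := by
  have w00 : (h8slW : SpecialLinearGroup (Fin 2) F) 0 0 = 0 := rfl
  have w01 : (h8slW : SpecialLinearGroup (Fin 2) F) 0 1 = 1 := rfl
  have w10 : (h8slW : SpecialLinearGroup (Fin 2) F) 1 0 = -1 := rfl
  have w11 : (h8slW : SpecialLinearGroup (Fin 2) F) 1 1 = 0 := rfl
  obtain ⟨a00, a01, a10, a11⟩ := h8sl_entries_mul g h8slW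
  obtain ⟨b00, b01, b10, b11⟩ := h8sl_entries_mul h8slW g
  simp only [w00, w01, w10, w11] at a00 a01 a10 a11 b00 b01 b10 b11
  constructor
  · rintro ⟨h1, h2⟩
    apply h8sl_ext
    · rw [a00, b00, h2]; ring
    · rw [a01, b01, h1]; ring
    · rw [a10, b10, h1]; ring
    · rw [a11, b11, h2]; ring
  · intro h
    rw [h] at a01 a11
    have e01 := a01.symm.trans b01
    have e11 := a11.symm.trans b11
    constructor
    · linear_combination e01
    · linear_combination e11

/-- PA. `SO₂(K) = C(W)`. -/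
theorem so2_eq_cent (hK : Fintype.card K = qq m) (g : SpecialLinearGroup (Fin 2) K) :
    g ∈ so2 K ↔ g * h8slW = h8slW * g := by
  rw [reepa_mem]
  exact reepa_core g

end P

end Cfsg.Agent.Lib.helper7.REE
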