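import Mathlib
import Cfsg.Agent.Lib.helper8.RSM.Defs
import Cfsg.Agent.Lib.helper2.RSMC7

/-!
# RSM row C8 (helper25): `torus_act`.
-/

set_option autoImplicit false

namespace Cfsg.Agent.Lib.helper8.RSM

universe u v w

variable {G : Type u} [Group G] {K : Type v} [Field K] [Fintype K] {m : ℕ}

/-- C8 [S]. Every `a ≠ 0` is a power of `a0` (`RU.a0_gen`), C7. -/
theorem torus_act (RU : ReeU G K m) (a : K) (ha : a ≠ 0) :
    ∃ i : ℕ, a = RU.a0 ^ i ∧ ∀ t u v : K, RU.h0 ^ i * RU.x t u v * (RU.h0 ^ i)⁻¹ =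
      RU.x (a * t) (nrm m a * u) (a * nrm m a * v) := by
  obtain ⟨i, hi⟩ := RU.a0_gen a ha
  refine ⟨i, hi, ?_⟩
  intro t u v
  rw [h0_pow_conj RU i t u v, ← hi]

end Cfsg.Agent.Lib.helper8.RSM
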