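import Mathlib
import Cfsg.Agent.S0925
import Cfsg.Agent.Lib.helper7.Clifford
import Cfsg.Agent.Lib.helper7.BlockHeightZero
import Cfsg.Agent.Lib.helper7.BlockInd2
import Cfsg.Agent.Lib.helper7.Q8Cent
import Cfsg.Agent.Lib.helper7.SecondMain

/-!
Relative block orthogonality over a normal subgroup: for a p-element x outside N, the sum over a block of [chi_N, theta] chi(x) vanishes; consequence for the number of p'-degree characters of a block over theta (S4825).
-/

set_option autoImplicit false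
set_option linter.style.haveILetI false
set_option linter.unusedVariables false
set_option warn.classDefReducibility false
set_option maxHeartbeats 1600000

namespace Cfsg.Agent.Lib.Helper25
open Cfsg.Agent.Lib.Helper11
open Cfsg.Agent.Lib.helper2
open Cfsg.Agent.Lib.helper7
open scoped ComplexConjugate
section

variable {G : Type*} [Group G] [Fintype G]

/-- `Σ_{χ∈B} χ(n) χ(x) = 0` for `n ∈ N` and a `p`-element `x ∉ N`. -/
theorem rbo_orth (p : ℕ) [hp : Fact p.Prime] (M : Ideal Cfsg.AlgInt) (hM : Cfsg.IsPModular p M)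
    (B : Set (Cfsg.IrrCharacter G)) (hB : Cfsg.IsPBlock M B) (N : Subgroup G) [hN : N.Normal]
    (x : G) (hx : ∃ k : ℕ, orderOf x = p ^ k) (hxN : x ∉ N) (n : G) (hn : n ∈ N) :
    ∑ᶠ χ ∈ B, (χ : G → ℂ) n * (χ : G → ℂ) x = 0 := by
  obtain ⟨z, hz⟩ := h7_exists_isPPart p n
  have hzmem : z ∈ Subgroup.zpowers (n ^ 1) :=
    h7_ppart_mem_zpowers_pow p n z hz 1 (by
      intro h
      exact hp.out.one_lt.ne' (Nat.dvd_one.mp h))
  rw [pow_one] at hzmem
  have hzN : z ∈ N := (Subgroup.zpowers_le.mpr hn) hzmem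
  have hxi : Cfsg.IsPPart p x⁻¹ x⁻¹ := by
    refine ⟨1, mul_one _, Commute.one_right _, ?_, ?_⟩
    · rw [orderOf_inv]; exact hx
    · rw [orderOf_one]
      intro h
      exact hp.out.one_lt.ne' (Nat.dvd_one.mp h)
  have hnc : ¬ IsConj z x⁻¹ := by
    intro hc
    obtain ⟨c, hc⟩ := isConj_iff.mp hc
    apply hxN
    have : x⁻¹ ∈ N := by
      rw [← hc]
      exact hN.conj_mem z hzN c
    simpa using N.inv_mem this
  have := (Cfsg.Agent.S0925.result (G := G) p M hM).2 n x⁻¹ z x⁻¹ hz hxi hnc B hB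
  simpa using this

/-- `Σ_{χ∈B} [χ_N, θ] χ(x) = 0` for a `p`-element `x ∉ N`. -/
theorem rbo_sum_zero (p : ℕ) [hp : Fact p.Prime] (M : Ideal Cfsg.AlgInt) (hM : Cfsg.IsPModular p M)
    (B : Set (Cfsg.IrrCharacter G)) (hB : Cfsg.IsPBlock M B) (N : Subgroup G) [hN : N.Normal]
    [Fintype N] (θ : N → ℂ)
    (x : G) (hx : ∃ k : ℕ, orderOf x = p ^ k) (hxN : x ∉ N) (hBfin : B.Finite) :
    ∑ χ ∈ hBfin.toFinset, Cfsg.classInner (fun n : N => (χ : G → ℂ) n) θ * (χ : G → ℂ) x = 0 := by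
  unfold Cfsg.classInner
  have h1 : ∀ χ ∈ hBfin.toFinset, ((Nat.card N : ℂ)⁻¹ * ∑ n : N, (χ : G → ℂ) n * conj (θ n)) *
      (χ : G → ℂ) x = (Nat.card N : ℂ)⁻¹ * ∑ n : N, conj (θ n) * ((χ : G → ℂ) n * (χ : G → ℂ) x) := by
    intro χ _
    rw [mul_assoc, Finset.sum_mul]
    congr 1
    refine Finset.sum_congr rfl fun n _ => ?_
    ring
  rw [Finset.sum_congr rfl h1, ← Finset.mul_sum, Finset.sum_comm]
  have h2 : ∀ n ∈ (Finset.univ : Finset N), ∑ χ ∈ hBfin.toFinset,
      conj (θ n) * ((χ : G → ℂ) n * (χ : G → ℂ) x) = 0 := by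
    intro n _
    rw [← Finset.mul_sum]
    have := rbo_orth p M hM B hB N x hx hxN (n : G) n.2
    rw [finsum_mem_eq_finite_toFinset_sum _ hBfin] at this
    rw [this, mul_zero]
  rw [Finset.sum_eq_zero h2, mul_zero]

end

section

variable {G : Type*} [Group G] [Fintype G]

/-- Clifford degree relation: the degree of `χ` over `θ` is `[χ_N, θ]` times a constant depending
only on `θ`. -/
theorem rbo_clifford_degree (N : Subgroup G) [hN : N.Normal] [Fintype N] (θ : Cfsg.IrrCharacter N) :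
    ∃ m : ℕ, ∀ (χ : Cfsg.IrrCharacter G) (e : ℕ),
      Cfsg.classInner (fun n : N => (χ : G → ℂ) n) (θ : N → ℂ) = (e : ℂ) → e ≠ 0 →
      Cfsg.charDegree (χ : G → ℂ) = e * m := by
  classical
  refine ⟨(Finset.univ.image (fun g : G => cj N (θ : N → ℂ) g)).card *
    Cfsg.charDegree (θ : N → ℂ), ?_⟩
  intro χ e he he0
  have hcon : Cfsg.classInner (fun n : N => (χ : G → ℂ) n) (θ : N → ℂ) ≠ 0 := by
    rw [he]
    exact_mod_cast he0
  obtain ⟨e', he'pos, he', hres⟩ := h7_clifford N (χ : G → ℂ) χ.2 (θ : N → ℂ) θ.2 hcon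
  have hee : e' = e := by
    have : (e' : ℂ) = (e : ℂ) := by rw [← he', he]
    exact_mod_cast this
  subst hee
  have h1 := congrFun hres (1 : N)
  simp only [Pi.smul_apply, Finset.sum_apply, smul_eq_mul] at h1
  have h2 : ∀ ψ ∈ Finset.univ.image (fun g : G => cj N (θ : N → ℂ) g),
      ψ (1 : N) = (Cfsg.charDegree (θ : N → ℂ) : ℂ) := by
    intro ψ hψ
    obtain ⟨g, -, rfl⟩ := Finset.mem_image.mp hψ
    rw [cj_apply, (h7_charDegree_props θ).2.2]
    exact congrArg (θ : N → ℂ) (Subtype.ext (by simp))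
  rw [Finset.sum_congr rfl h2, Finset.sum_const, nsmul_eq_mul] at h1
  have h3 := (h7_charDegree_props χ).2.2
  have h4 : ((Cfsg.charDegree (χ : G → ℂ) : ℕ) : ℂ) =
      ((e' * ((Finset.univ.image (fun g : G => cj N (θ : N → ℂ) g)).card *
        Cfsg.charDegree (θ : N → ℂ)) : ℕ) : ℂ) := by
    rw [h3]
    push_cast
    have : ((1 : N) : G) = 1 := rfl
    rw [← this]
    exact h1
  exact_mod_cast h4

/-- `p ∣ Σ_{χ∈B} [χ_N, θ] χ(1)` when `N` does not contain a Sylow `p`-subgroup. -/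
theorem rbo_dvd_sum (p : ℕ) [hp : Fact p.Prime] (P : Sylow p G)
    (M : Ideal Cfsg.AlgInt) (hM : Cfsg.IsPModular p M)
    (B : Set (Cfsg.IrrCharacter G)) (hB : Cfsg.IsPBlock M B) (N : Subgroup G) [hN : N.Normal]
    [Fintype N] (hPN : ¬ (P : Subgroup G) ≤ N) (θ : Cfsg.IrrCharacter N)
    (e : Cfsg.IrrCharacter G → ℕ)
    (he : ∀ χ : Cfsg.IrrCharacter G,
      Cfsg.classInner (fun n : N => (χ : G → ℂ) n) (θ : N → ℂ) = (e χ : ℂ))
    (hBfin : B.Finite) :
    p ∣ ∑ χ ∈ hBfin.toFinset, e χ * Cfsg.charDegree (χ : G → ℂ) := by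
  have hPr := hM.2.1.isPrime
  obtain ⟨x, hxP, hxN⟩ := SetLike.not_le_iff_exists.mp hPN
  have hx : ∃ k : ℕ, orderOf x = p ^ k := by
    obtain ⟨k, hk⟩ := P.2 ⟨x, hxP⟩
    have h1 : x ^ (p ^ k) = 1 := by
      have := congrArg Subtype.val hk
      simpa using this
    obtain ⟨j, -, hj⟩ := (Nat.dvd_prime_pow hp.out).mp (orderOf_dvd_of_pow_eq_one h1)
    exact ⟨j, hj⟩
  have h0 := rbo_sum_zero p M hM B hB N (θ : N → ℂ) x hx hxN hBfin
  have h1 : Cfsg.MemLocalIdeal M (∑ χ ∈ hBfin.toFinset,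
      (e χ : ℂ) * ((χ : G → ℂ) (x * 1) - (χ : G → ℂ) 1)) := by
    apply h7_memLocalIdeal_sum hPr
    intro χ _
    have := h7_memLocalIdeal_nsmul hPr (e χ)
      (h7_char_pmul_congr hM (isCharacter_of_irr χ) x 1 (Commute.one_right x) hx (by
        rw [orderOf_one]
        intro h
        exact hp.out.one_lt.ne' (Nat.dvd_one.mp h)))
    rwa [nsmul_eq_mul] at this
  have h2 : ∑ χ ∈ hBfin.toFinset, (e χ : ℂ) * ((χ : G → ℂ) (x * 1) - (χ : G → ℂ) 1) =
      - ((∑ χ ∈ hBfin.toFinset, e χ * Cfsg.charDegree (χ : G → ℂ) : ℕ) : ℂ) := by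
    have h3 : ∀ χ ∈ hBfin.toFinset, (e χ : ℂ) * ((χ : G → ℂ) (x * 1) - (χ : G → ℂ) 1) =
        Cfsg.classInner (fun n : N => (χ : G → ℂ) n) (θ : N → ℂ) * (χ : G → ℂ) x -
          ((e χ * Cfsg.charDegree (χ : G → ℂ) : ℕ) : ℂ) := by
      intro χ _
      rw [he χ, mul_one]
      push_cast
      rw [(h7_charDegree_props χ).2.2]
      ring
    rw [Finset.sum_congr rfl h3, Finset.sum_sub_distrib, h0, zero_sub]
    push_cast
    rfl
  rw [h2] at h1
  have h4 := h7_memLocalIdeal_neg h1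
  rw [neg_neg] at h4
  exact (h7_memLocalIdeal_natCast_iff hM _).mp h4

end

section

/-- purely arithmetic end of the argument -/
theorem rbo_arith {ι : Type*} [DecidableEq ι] (p : ℕ) (hp : p.Prime) (F : Finset ι) (e : ι → ℕ)
    (hF : ∀ i ∈ F, ¬ p ∣ e i) (hsum : p ∣ ∑ i ∈ F, e i ^ 2) :
    (F.card = 0 ∨ 2 ≤ F.card) ∧ (p ≤ 3 → p ∣ F.card) := by
  constructor
  · by_contra hcon
    have h1 : F.card = 1 := by omega
    obtain ⟨a, rfl⟩ := Finset.card_eq_one.mp h1
    rw [Finset.sum_singleton] at hsum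
    exact hF a (Finset.mem_singleton_self a) (hp.dvd_of_dvd_pow hsum)
  · intro hp3
    have hp2 := hp.two_le
    have hmod : ∀ i ∈ F, e i ^ 2 % p = 1 % p := by
      intro i hi
      have hne := hF i hi
      have hp23 : p = 2 ∨ p = 3 := by omega
      rcases hp23 with rfl | rfl
      · have : e i % 2 = 1 := by omega
        rw [Nat.pow_mod, this]
      · have : e i % 3 = 1 ∨ e i % 3 = 2 := by omega
        rcases this with h | h <;> rw [Nat.pow_mod, h]
    have h2 : (∑ i ∈ F, e i ^ 2) % p = F.card % p := by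
      rw [Finset.sum_nat_mod, Finset.sum_congr rfl hmod, ← Finset.sum_nat_mod]
      simp
    rw [Nat.dvd_iff_mod_eq_zero] at hsum ⊢
    omega

variable {G : Type*} [Group G] [Fintype G]

theorem rbo_main (p : ℕ) [hp : Fact p.Prime] (P : Sylow p G)
    (M : Ideal Cfsg.AlgInt) (hM : Cfsg.IsPModular p M)
    (B : Set (Cfsg.IrrCharacter G)) (hB : Cfsg.IsPBlock M B) (N : Subgroup G) [hN : N.Normal]
    [Fintype N] (hPN : ¬ (P : Subgroup G) ≤ N) (θ : Cfsg.IrrCharacter N) :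
    (Nat.card {χ : Cfsg.IrrCharacter G // χ ∈ B ∧ ¬ p ∣ Cfsg.charDegree (χ : G → ℂ) ∧
        Cfsg.classInner (fun n : N => (χ : G → ℂ) n) (θ : N → ℂ) ≠ 0} = 0 ∨
      2 ≤ Nat.card {χ : Cfsg.IrrCharacter G // χ ∈ B ∧ ¬ p ∣ Cfsg.charDegree (χ : G → ℂ) ∧
        Cfsg.classInner (fun n : N => (χ : G → ℂ) n) (θ : N → ℂ) ≠ 0}) ∧
    (p ≤ 3 → p ∣ Nat.card {χ : Cfsg.IrrCharacter G // χ ∈ B ∧
        ¬ p ∣ Cfsg.charDegree (χ : G → ℂ) ∧
        Cfsg.classInner (fun n : N => (χ : G → ℂ) n) (θ : N → ℂ) ≠ 0}) := by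
  classical
  haveI : Fintype (Cfsg.IrrCharacter G) := Fintype.ofFinite _
  have hBfin : B.Finite := Set.toFinite B
  have hex : ∀ χ : Cfsg.IrrCharacter G, ∃ m : ℕ,
      Cfsg.classInner (fun n : N => (χ : G → ℂ) n) (θ : N → ℂ) = (m : ℂ) := fun χ =>
    classInner_character_nat (isCharacter_restrict (isCharacter_of_irr χ) N) (isCharacter_of_irr θ)
  choose e he using hex
  have hdvd := rbo_dvd_sum p P M hM B hB N hPN θ e he hBfin
  obtain ⟨m, hm⟩ := rbo_clifford_degree N θ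
  have hterm : ∀ χ ∈ hBfin.toFinset, e χ * Cfsg.charDegree (χ : G → ℂ) = m * e χ ^ 2 := by
    intro χ _
    by_cases h0 : e χ = 0
    · rw [h0]; simp
    · rw [hm χ (e χ) (he χ) h0]; ring
  rw [Finset.sum_congr rfl hterm, ← Finset.mul_sum] at hdvd
  by_cases hpm : p ∣ m
  · -- the set is empty
    have hempty : IsEmpty {χ : Cfsg.IrrCharacter G // χ ∈ B ∧
        ¬ p ∣ Cfsg.charDegree (χ : G → ℂ) ∧
        Cfsg.classInner (fun n : N => (χ : G → ℂ) n) (θ : N → ℂ) ≠ 0} := by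
      constructor
      rintro ⟨χ, hχB, hχp, hχθ⟩
      have h0 : e χ ≠ 0 := by
        intro h
        apply hχθ
        rw [he χ, h]
        simp
      apply hχp
      rw [hm χ (e χ) (he χ) h0]
      exact Dvd.dvd.mul_left hpm _
    have hc : Nat.card {χ : Cfsg.IrrCharacter G // χ ∈ B ∧
        ¬ p ∣ Cfsg.charDegree (χ : G → ℂ) ∧
        Cfsg.classInner (fun n : N => (χ : G → ℂ) n) (θ : N → ℂ) ≠ 0} = 0 :=
      Nat.card_eq_zero.mpr (Or.inl hempty)
    rw [hc]
    exact ⟨Or.inl rfl, fun _ => dvd_zero p⟩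
  · have hdvd2 : p ∣ ∑ χ ∈ hBfin.toFinset, e χ ^ 2 :=
      ((Nat.Prime.dvd_mul hp.out).mp hdvd).resolve_left hpm
    set F : Finset (Cfsg.IrrCharacter G) := hBfin.toFinset.filter (fun χ => ¬ p ∣ e χ) with hF
    have hcard : Nat.card {χ : Cfsg.IrrCharacter G // χ ∈ B ∧
        ¬ p ∣ Cfsg.charDegree (χ : G → ℂ) ∧
        Cfsg.classInner (fun n : N => (χ : G → ℂ) n) (θ : N → ℂ) ≠ 0} = F.card := by
      apply Nat.subtype_card
      intro χ
      rw [hF, Finset.mem_filter, Set.Finite.mem_toFinset]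
      constructor
      · rintro ⟨hχB, hpe⟩
        have h0 : e χ ≠ 0 := by
          rintro h
          apply hpe
          rw [h]
          exact dvd_zero p
        refine ⟨hχB, ?_, ?_⟩
        · rw [hm χ (e χ) (he χ) h0]
          intro h
          rcases (Nat.Prime.dvd_mul hp.out).mp h with h | h
          · exact hpe h
          · exact hpm h
        · rw [he χ]
          exact_mod_cast h0
      · rintro ⟨hχB, hχp, hχθ⟩
        refine ⟨hχB, ?_⟩
        have h0 : e χ ≠ 0 := by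
          intro h
          apply hχθ
          rw [he χ, h]
          simp
        intro h
        apply hχp
        rw [hm χ (e χ) (he χ) h0]
        exact Dvd.dvd.mul_right h _
    rw [hcard]
    apply rbo_arith p hp.out F e
    · intro χ hχ
      exact (Finset.mem_filter.mp hχ).2
    · have hsplit := Finset.sum_filter_add_sum_filter_not hBfin.toFinset (fun χ => ¬ p ∣ e χ)
        (fun χ => e χ ^ 2)
      have hrest : p ∣ ∑ χ ∈ hBfin.toFinset.filter (fun χ => ¬ ¬ p ∣ e χ), e χ ^ 2 := by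
        apply Finset.dvd_sum
        intro χ hχ
        have := (Finset.mem_filter.mp hχ).2
        rw [not_not] at this
        exact Dvd.dvd.trans this (dvd_pow_self _ (by norm_num))
      rw [← hsplit] at hdvd2
      exact (Nat.dvd_add_left hrest).mp hdvd2

end

end Cfsg.Agent.Lib.Helper25
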