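import Mathlib
import Cfsg.Agent.Lib.Helper5.S1906.Defs

set_option autoImplicit false

/-! # Project S1906, row L5: the centraliser of a non-scalar 2×2 matrix is commutative -/

namespace Cfsg.Agent.Lib.Helper5.S1906

/-- the three relations expressing that `A` commutes with `M` (2×2) -/
theorem s1906l5_rel {F : Type*} [Field F] (M A : Matrix (Fin 2) (Fin 2) F) (hA : A * M = M * A) :
    A 0 1 * M 1 0 = M 0 1 * A 1 0 ∧
    (A 0 0 - A 1 1) * M 0 1 = A 0 1 * (M 0 0 - M 1 1) ∧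
    (A 0 0 - A 1 1) * M 1 0 = A 1 0 * (M 0 0 - M 1 1) := by
  have h00 := congrFun (congrFun hA 0) 0
  have h01 := congrFun (congrFun hA 0) 1
  have h10 := congrFun (congrFun hA 1) 0
  simp only [Matrix.mul_apply, Fin.sum_univ_two] at h00 h01 h10
  refine ⟨?_, ?_, ?_⟩
  · linear_combination h00
  · linear_combination h01
  · linear_combination (-1 : F) * h10

/-- two vectors "parallel" to a non-zero vector are parallel (scalar form) -/
theorem s1906l5_field {F : Type*} [Field F] (p q r s p' q' r' s' a b c d : F)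
    (a1 : q * c = b * r) (a2 : (p - s) * b = q * (a - d)) (a3 : (p - s) * c = r * (a - d))
    (b1 : q' * c = b * r') (b2 : (p' - s') * b = q' * (a - d)) (b3 : (p' - s') * c = r' * (a - d))
    (h : b ≠ 0 ∨ c ≠ 0 ∨ a - d ≠ 0) :
    q * r' - q' * r = 0 ∧ (p - s) * q' - (p' - s') * q = 0 ∧ (p' - s') * r - (p - s) * r' = 0 := by
  rcases h with h | h | h
  · refine ⟨?_, ?_, ?_⟩ <;> grind
  · refine ⟨?_, ?_, ?_⟩ <;> grind
  · refine ⟨?_, ?_, ?_⟩ <;> grind

/-- L5 -/
theorem comm_of_comm_nonscalar {F : Type*} [Field F] (M A B : Matrix (Fin 2) (Fin 2) F)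
    (hM : ∀ a : F, M ≠ a • (1 : Matrix (Fin 2) (Fin 2) F)) (hA : A * M = M * A)
    (hB : B * M = M * B) : A * B = B * A := by
  obtain ⟨a1, a2, a3⟩ := s1906l5_rel M A hA
  obtain ⟨b1, b2, b3⟩ := s1906l5_rel M B hB
  have hns : M 0 1 ≠ 0 ∨ M 1 0 ≠ 0 ∨ M 0 0 - M 1 1 ≠ 0 := by
    by_contra hcon
    push Not at hcon
    obtain ⟨h1, h2, h3⟩ := hcon
    apply hM (M 0 0)
    ext i j
    fin_cases i <;> fin_cases j
    · simp
    · simpa using h1
    · simpa using h2
    · simp only [Fin.mk_one, Fin.isValue, Matrix.smul_apply, Matrix.one_apply_eq, smul_eq_mul,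
        mul_one]
      exact (sub_eq_zero.mp h3).symm
  obtain ⟨e1, e2, e3⟩ := s1906l5_field (A 0 0) (A 0 1) (A 1 0) (A 1 1) (B 0 0) (B 0 1) (B 1 0)
    (B 1 1) (M 0 0) (M 0 1) (M 1 0) (M 1 1) a1 a2 a3 b1 b2 b3 hns
  ext i j
  fin_cases i <;> fin_cases j <;>
    simp only [Matrix.mul_apply, Fin.sum_univ_two, Fin.zero_eta, Fin.mk_one, Fin.isValue]
  · linear_combination e1
  · linear_combination e2
  · linear_combination e3
  · linear_combination (-1 : F) * e1

end Cfsg.Agent.Lib.Helper5.S1906
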