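import Mathlib
import Cfsg.Agent.Lib.Helper5.S1906.Defs

set_option autoImplicit false

/-! # Project S1906, row L6: an involution of determinant `1` in `GL_2`, `2 ≠ 0`, is `± 1` -/

namespace Cfsg.Agent.Lib.Helper5.S1906

/-- L6 -/
theorem invol_det_one {F : Type*} [Field F] (h2 : (2 : F) ≠ 0) (M : Matrix (Fin 2) (Fin 2) F)
    (hM : M * M = 1) (hdet : M.det = 1) : M = 1 ∨ M = -1 := by
  have h00 := congrFun (congrFun hM 0) 0
  have h01 := congrFun (congrFun hM 0) 1
  have h10 := congrFun (congrFun hM 1) 0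
  have h11 := congrFun (congrFun hM 1) 1
  simp only [Matrix.mul_apply, Fin.sum_univ_two, Matrix.one_apply_eq, Matrix.one_apply_ne,
    ne_eq, zero_ne_one, one_ne_zero, not_false_eq_true, Fin.isValue] at h00 h01 h10 h11
  rw [Matrix.det_fin_two] at hdet
  -- `t = tr M` satisfies `t * a = 2`, `t * d = 2`, `t * b = 0`, `t * c = 0`
  have ht0 : (M 0 0 + M 1 1) * M 0 0 = 2 := by linear_combination h00 + hdet
  have ht1 : (M 0 0 + M 1 1) * M 1 1 = 2 := by linear_combination h11 + hdet
  have htb : (M 0 0 + M 1 1) * M 0 1 = 0 := by linear_combination h01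
  have htc : (M 0 0 + M 1 1) * M 1 0 = 0 := by linear_combination h10
  have ht : M 0 0 + M 1 1 ≠ 0 := by
    intro h0
    rw [h0, zero_mul] at ht0
    exact h2 ht0.symm
  have hb : M 0 1 = 0 := (mul_eq_zero.mp htb).resolve_left ht
  have hc : M 1 0 = 0 := (mul_eq_zero.mp htc).resolve_left ht
  have had : M 0 0 = M 1 1 := mul_left_cancel₀ ht (ht0.trans ht1.symm)
  have ha2 : M 0 0 * M 0 0 = 1 := by
    rw [hb, zero_mul, add_zero] at h00
    exact h00
  have ha : M 0 0 = 1 ∨ M 0 0 = -1 := mul_self_eq_one_iff.mp ha2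
  rcases ha with ha | ha
  · left
    ext i j
    fin_cases i <;> fin_cases j
    · simpa using ha
    · simpa using hb
    · simpa using hc
    · simp only [Fin.mk_one, Fin.isValue, Matrix.one_apply_eq]
      rw [← had, ha]
  · right
    ext i j
    fin_cases i <;> fin_cases j
    · simpa using ha
    · simpa using hb
    · simpa using hc
    · simp only [Fin.mk_one, Fin.isValue, Matrix.neg_apply, Matrix.one_apply_eq]
      rw [← had, ha]

end Cfsg.Agent.Lib.Helper5.S1906
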