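import Mathlib
import Cfsg.Agent.Lib.Helper5.S1906.Defs
import Cfsg.Agent.Lib.Helper25.S1906L6

set_option autoImplicit false

/-! # Project S1906, row L7: an exponent-2 subgroup of `GL_2(F)`, `2 ≠ 0`, has at most 4 elements -/

namespace Cfsg.Agent.Lib.Helper5.S1906

/-- an involution in `GL_2` has determinant `± 1` -/
theorem s1906l7_det {F : Type*} [Field F] (a : GL (Fin 2) F) (ha : a * a = 1) :
    (a : Matrix (Fin 2) (Fin 2) F).det = 1 ∨ (a : Matrix (Fin 2) (Fin 2) F).det = -1 := by
  have h : (a : Matrix (Fin 2) (Fin 2) F) * (a : Matrix (Fin 2) (Fin 2) F) = 1 := by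
    rw [← Units.val_mul, ha, Units.val_one]
  have h2 := congrArg Matrix.det h
  rw [Matrix.det_mul, Matrix.det_one] at h2
  exact mul_self_eq_one_iff.mp h2

/-- an involution of determinant `1` in `GL_2` is `± 1` -/
theorem s1906l7_pm {F : Type*} [Field F] (h2 : (2 : F) ≠ 0) (a : GL (Fin 2) F) (ha : a * a = 1)
    (hd : (a : Matrix (Fin 2) (Fin 2) F).det = 1) : a = 1 ∨ a = -1 := by
  have h : (a : Matrix (Fin 2) (Fin 2) F) * (a : Matrix (Fin 2) (Fin 2) F) = 1 := by
    rw [← Units.val_mul, ha, Units.val_one]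
  rcases invol_det_one h2 _ h hd with h1 | h1
  · left
    exact Units.ext h1
  · right
    apply Units.ext
    rw [h1, Units.val_neg, Units.val_one]

/-- L7 -/
theorem elem_ab_two {F : Type*} [Field F] (h2 : (2 : F) ≠ 0) (S : Subgroup (GL (Fin 2) F))
    (hS : ∀ a ∈ S, a * a = 1) : Nat.card S ≤ 4 := by
  classical
  have hbound : ∀ T : Finset (GL (Fin 2) F), T.card ≤ 4 →
      (S : Set (GL (Fin 2) F)) ⊆ ↑T → Nat.card S ≤ 4 := by
    intro T hT hsub
    calc Nat.card S = (S : Set (GL (Fin 2) F)).ncard := Nat.card_coe_set_eq _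
      _ ≤ (↑T : Set (GL (Fin 2) F)).ncard := Set.ncard_le_ncard hsub (Finset.finite_toSet T)
      _ = T.card := Set.ncard_coe_finset T
      _ ≤ 4 := hT
  by_cases hall : ∀ a ∈ S, a = 1 ∨ a = -1
  · apply hbound {1, -1} ((Finset.card_le_two).trans (by norm_num))
    intro a ha
    rcases hall a ha with h | h
    · rw [h]; simp
    · rw [h]; simp
  · push Not at hall
    obtain ⟨e, heS, he1, he2⟩ := hall
    have hee : e * e = 1 := hS e heS
    have hdete : (e : Matrix (Fin 2) (Fin 2) F).det = -1 := by
      rcases s1906l7_det e hee with h | h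
      · rcases s1906l7_pm h2 e hee h with h' | h'
        · exact absurd h' he1
        · exact absurd h' he2
      · exact h
    apply hbound {1, -1, e, -e} Finset.card_le_four
    intro a ha
    have haa : a * a = 1 := hS a ha
    rcases s1906l7_det a haa with h | h
    · rcases s1906l7_pm h2 a haa h with h' | h'
      · rw [h']; simp
      · rw [h']; simp
    · have hae : a * e ∈ S := S.mul_mem ha heS
      have haeae : (a * e) * (a * e) = 1 := hS _ hae
      have hdae : ((a * e : GL (Fin 2) F) : Matrix (Fin 2) (Fin 2) F).det = 1 := by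
        rw [Units.val_mul, Matrix.det_mul, h, hdete]
        ring
      have hrec : a = (a * e) * e := by rw [mul_assoc, hee, mul_one]
      rcases s1906l7_pm h2 (a * e) haeae hdae with h' | h'
      · rw [h', one_mul] at hrec
        rw [hrec]; simp
      · rw [h', neg_mul, one_mul] at hrec
        rw [hrec]; simp

end Cfsg.Agent.Lib.Helper5.S1906
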