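import Mathlib
import Cfsg.Agent.Lib.Helper5.S1906.Defs
import Cfsg.Agent.Lib.Helper25.S1906L7

set_option autoImplicit false
set_option linter.unusedSectionVars false

/-! # Project S1906, rows L8 + L9: elementary abelian 2-subgroups of `H ≤ GL_2(F) × Fˣ` -/

namespace Cfsg.Agent.Lib.Helper5.S1906

/-- a unit of square `1` is `± 1` -/
theorem s1906l9_unit_pm {F : Type*} [Field F] (u : Fˣ) (hu : u * u = 1) : u = 1 ∨ u = -1 := by
  have h : (u : F) * (u : F) = 1 := by
    rw [← Units.val_mul, hu, Units.val_one]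
  rcases mul_self_eq_one_iff.mp h with h1 | h1
  · left
    exact Units.ext h1
  · right
    apply Units.ext
    rw [h1, Units.val_neg, Units.val_one]

/-- bounding the cardinality by an injection into a finset -/
theorem s1906l9_card_le {α β : Type*} (g : α → β) (hg : Function.Injective g) (T : Finset β)
    (hT : ∀ a, g a ∈ T) : Nat.card α ≤ T.card := by
  classical
  have h1 : Nat.card α ≤ Nat.card ↥T :=
    Nat.card_le_card_of_injective (fun a => (⟨g a, hT a⟩ : ↥T)) (by
      intro a b hab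
      exact hg (congrArg Subtype.val hab))
  have h2 : Nat.card ↥T = T.card := by
    rw [Nat.card_eq_fintype_card, Fintype.card_coe]
  rw [h2] at h1
  exact h1

variable {H : Type*} [Group H] [Finite H] {F : Type*} [Field F] {φ : H →* GL (Fin 2) F × Fˣ} {c : H}

/-- the first component of `φ` restricted to `E` -/
noncomputable def s1906l9_f (φ : H →* GL (Fin 2) F × Fˣ) (E : Subgroup H) : ↥E →* GL (Fin 2) F :=
  ((MonoidHom.fst (GL (Fin 2) F) Fˣ).comp φ).comp E.subtype

theorem s1906l9_f_apply (φ : H →* GL (Fin 2) F × Fˣ) (E : Subgroup H) (a : ↥E) :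
    s1906l9_f φ E a = (φ (a : H)).1 := rfl

/-- the image has at most 4 elements -/
theorem s1906l9_range (h : LCtx φ c) (E : Subgroup H) (hE : ∀ a ∈ E, a * a = 1) :
    Nat.card (s1906l9_f φ E).range ≤ 4 := by
  apply elem_ab_two h.two
  rintro _ ⟨a, rfl⟩
  rw [← map_mul]
  have : a * a = 1 := Subtype.ext (hE a a.2)
  rw [this, map_one]

/-- the kernel has at most 2 elements -/
theorem s1906l9_ker (h : LCtx φ c) (E : Subgroup H) (hE : ∀ a ∈ E, a * a = 1) :
    Nat.card (s1906l9_f φ E).ker ≤ 2 := by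
  classical
  have hk1 : ∀ k : ↥(s1906l9_f φ E).ker, (φ ((k : ↥E) : H)).1 = 1 := by
    intro k
    have := k.2
    rw [MonoidHom.mem_ker, s1906l9_f_apply] at this
    exact this
  have hk2 : ∀ k : ↥(s1906l9_f φ E).ker, (φ ((k : ↥E) : H)).2 = 1 ∨ (φ ((k : ↥E) : H)).2 = -1 := by
    intro k
    apply s1906l9_unit_pm
    have h1 : ((k : ↥E) : H) * ((k : ↥E) : H) = 1 := hE _ (k : ↥E).2
    have h2 := congrArg (fun x => (φ x).2) h1
    simp only [map_mul, map_one, Prod.snd_mul, Prod.snd_one] at h2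
    exact h2
  refine (s1906l9_card_le (fun k : ↥(s1906l9_f φ E).ker => (φ ((k : ↥E) : H)).2) ?_ {1, -1} ?_).trans
    Finset.card_le_two
  · intro k k' hkk
    have h3 : φ ((k : ↥E) : H) = φ ((k' : ↥E) : H) := Prod.ext ((hk1 k).trans (hk1 k').symm) hkk
    exact Subtype.ext (Subtype.ext (h.inj h3))
  · intro k
    rcases hk2 k with h1 | h1
    · simp only [h1]; simp
    · simp only [h1]; simp

/-- L9 -/
theorem rank_le (h : LCtx φ c) (E : Subgroup H) (hE : ∀ a ∈ E, a * a = 1) : Nat.card E ≤ 8 := by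
  have h1 := Subgroup.card_mul_index (s1906l9_f φ E).ker
  rw [Subgroup.index_ker] at h1
  have h2 := s1906l9_range h E hE
  have h3 := s1906l9_ker h E hE
  calc Nat.card E = Nat.card (s1906l9_f φ E).ker * Nat.card (s1906l9_f φ E).range := h1.symm
    _ ≤ 2 * 4 := Nat.mul_le_mul h3 h2
    _ = 8 := by norm_num

/-- L8 -/
theorem exists_z (h : LCtx φ c) (E : Subgroup H) (hE : ∀ a ∈ E, a * a = 1)
    (hE8 : Nat.card E = 8) : ∃ z : H, φ z = (1, -1) := by
  have h1 := Subgroup.card_mul_index (s1906l9_f φ E).ker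
  rw [Subgroup.index_ker, hE8] at h1
  have h2 := s1906l9_range h E hE
  have hker : 1 < Nat.card (s1906l9_f φ E).ker := by
    by_contra hcon
    push Not at hcon
    have : Nat.card (s1906l9_f φ E).ker * Nat.card (s1906l9_f φ E).range ≤ 1 * 4 :=
      Nat.mul_le_mul hcon h2
    omega
  rw [Subgroup.one_lt_card_iff_ne_bot, Subgroup.ne_bot_iff_exists_ne_one] at hker
  obtain ⟨k, hk⟩ := hker
  have hk1 : (φ ((k : ↥E) : H)).1 = 1 := by
    have := k.2
    rw [MonoidHom.mem_ker, s1906l9_f_apply] at this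
    exact this
  have hk2 : (φ ((k : ↥E) : H)).2 = 1 ∨ (φ ((k : ↥E) : H)).2 = -1 := by
    apply s1906l9_unit_pm
    have h1 : ((k : ↥E) : H) * ((k : ↥E) : H) = 1 := hE _ (k : ↥E).2
    have h2 := congrArg (fun x => (φ x).2) h1
    simp only [map_mul, map_one, Prod.snd_mul, Prod.snd_one] at h2
    exact h2
  refine ⟨((k : ↥E) : H), ?_⟩
  rcases hk2 with h3 | h3
  · exfalso
    apply hk
    have h4 : φ ((k : ↥E) : H) = φ 1 := by
      rw [map_one]
      exact Prod.ext hk1 h3
    have h5 : ((k : ↥E) : H) = 1 := h.inj h4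
    exact Subtype.ext (Subtype.ext h5)
  · exact Prod.ext hk1 h3

end Cfsg.Agent.Lib.Helper5.S1906
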