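import Mathlib
import Cfsg.Agent.Lib.Helper5.S1906.Defs
import Cfsg.Agent.Lib.Helper25.S1906L5
import Cfsg.Agent.Lib.Helper25.S1906L9

set_option autoImplicit false
set_option linter.unusedSectionVars false

/-! # Project S1906, rows L10 + L11: central involutions and involutions of the commutator subgroup -/

namespace Cfsg.Agent.Lib.Helper5.S1906

variable {H : Type*} [Group H] [Finite H] {F : Type*} [Field F] {φ : H →* GL (Fin 2) F × Fˣ} {c : H}

/-- L10 -/
theorem inv_central (h : LCtx φ c) (ζ : H) (hζ : ∀ x : H, x * ζ = ζ * x) (hζ2 : ζ * ζ = 1) :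
    ((φ ζ).1 = 1 ∨ (φ ζ).1 = -1) ∧ ((φ ζ).2 = 1 ∨ (φ ζ).2 = -1) := by
  have hφ2 : φ ζ * φ ζ = 1 := by rw [← map_mul, hζ2, map_one]
  constructor
  · -- the first component is scalar
    set Z : Matrix (Fin 2) (Fin 2) F := ((φ ζ).1 : Matrix (Fin 2) (Fin 2) F) with hZ
    have hZZ : Z * Z = 1 := by
      have := congrArg (fun x : GL (Fin 2) F × Fˣ => ((x.1 : GL (Fin 2) F) : Matrix (Fin 2) (Fin 2) F)) hφ2
      simpa using this
    have hcomm : ∀ x : H, ((φ x).1 : Matrix (Fin 2) (Fin 2) F) * Z = Z * ((φ x).1 : Matrix (Fin 2) (Fin 2) F) := by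
      intro x
      have h1 : φ x * φ ζ = φ ζ * φ x := by rw [← map_mul, ← map_mul, hζ x]
      have := congrArg (fun y : GL (Fin 2) F × Fˣ => ((y.1 : GL (Fin 2) F) : Matrix (Fin 2) (Fin 2) F)) h1
      simpa using this
    have hsc : ∃ a : F, Z = a • (1 : Matrix (Fin 2) (Fin 2) F) := by
      by_contra hns
      push Not at hns
      obtain ⟨a, b, hab⟩ := h.na
      apply hab
      apply h.inj
      rw [map_mul, map_mul]
      apply Prod.ext
      · apply Units.ext
        simp only [Prod.fst_mul, Units.val_mul]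
        exact comm_of_comm_nonscalar Z _ _ hns (hcomm a) (hcomm b)
      · simp only [Prod.snd_mul]
        exact mul_comm _ _
    obtain ⟨a, ha⟩ := hsc
    have ha2 : a * a = 1 := by
      have := congrFun (congrFun hZZ 0) 0
      rw [ha] at this
      simpa [Matrix.mul_apply, Fin.sum_univ_two] using this
    rcases mul_self_eq_one_iff.mp ha2 with h1 | h1
    · left
      apply Units.ext
      rw [← hZ, ha, h1, one_smul]
      rfl
    · right
      apply Units.ext
      rw [← hZ, ha, h1, Units.val_neg, Units.val_one, neg_smul, one_smul]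
  · apply s1906l9_unit_pm
    have := congrArg (fun x : GL (Fin 2) F × Fˣ => x.2) hφ2
    simpa using this

/-- L11 -/
theorem inv_comm (h : LCtx φ c) (w : H) (hw : w ∈ commutator H) (hw2 : w * w = 1) :
    w = 1 ∨ w = c := by
  have h2 : (φ w).2 = 1 := by
    have := Abelianization.commutator_subset_ker ((MonoidHom.snd (GL (Fin 2) F) Fˣ).comp φ) hw
    rw [MonoidHom.mem_ker] at this
    exact this
  have hdet : ((φ w).1 : Matrix (Fin 2) (Fin 2) F).det = 1 := by
    have := Abelianization.commutator_subset_ker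
      ((Matrix.GeneralLinearGroup.det (n := Fin 2) (R := F)).comp
        ((MonoidHom.fst (GL (Fin 2) F) Fˣ).comp φ)) hw
    rw [MonoidHom.mem_ker] at this
    have h3 := congrArg (fun u : Fˣ => (u : F)) this
    simpa using h3
  have hsq : (φ w).1 * (φ w).1 = 1 := by
    have h3 : φ w * φ w = 1 := by rw [← map_mul, hw2, map_one]
    have := congrArg (fun x : GL (Fin 2) F × Fˣ => x.1) h3
    simpa using this
  rcases s1906l7_pm h.two (φ w).1 hsq hdet with h1 | h1
  · left
    apply h.inj
    rw [map_one]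
    exact Prod.ext h1 h2
  · right
    apply h.inj
    rw [h.hc]
    exact Prod.ext h1 h2

end Cfsg.Agent.Lib.Helper5.S1906
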