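import Mathlib
import Cfsg.Agent.Lib.Helper25.S1906L10

/-! # Project S1906, row L11 (`inv_comm`): proved in `Cfsg.Agent.Lib.Helper25.S1906L10` next to L10. -/
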