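import Mathlib
import Cfsg.Prelude.Def_Transfer
import Cfsg.Agent.Lib.Helper5.S1906.Defs
import Cfsg.Agent.Lib.Helper26.S1906P1
import Cfsg.Agent.Lib.Helper26.S1906P2
import Cfsg.Agent.Lib.Helper10.S1906P4
import Cfsg.Agent.Lib.Helper24.S1906P3core
import Cfsg.Agent.Lib.Helper10.S1906U10

set_option autoImplicit false

/-! # Project S1906, row P8 (`case_XC_rank3`): translation of case IIa to the abstract `iia_abs` -/

namespace Cfsg.Agent.Lib.Helper5.S1906

open scoped IsMulCommutative

variable {G : Type*} [Group G] {X X0 : Subgroup G} {c z : G}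

/-- an element of `X0` fixed by conjugation with `t ∈ X ∖ X0` is central in `X` -/
theorem s1906p8_cen (h : Ctx X X0 c z) (t : G) (htX : t ∈ X) (ht0 : t ∉ X0) (a : G) (ha : a ∈ X0)
    (hta : t * a * t⁻¹ = a) : Cen X a := by
  intro x hx
  have hidx : (X0.subgroupOf X).index = 2 := h.idx
  by_cases hx0 : x ∈ X0
  · exact h.ab x hx0 a ha
  · have h1 : (⟨x, hx⟩ : X) * (⟨t, htX⟩ : X)⁻¹ ∈ X0.subgroupOf X := by
      rw [Subgroup.mul_mem_iff_of_index_two hidx]
      constructor
      · intro h'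
        exact absurd (Subgroup.mem_subgroupOf.mp h') hx0
      · intro h'
        rw [inv_mem_iff] at h'
        exact absurd (Subgroup.mem_subgroupOf.mp h') ht0
    have h2 : x * t⁻¹ ∈ X0 := Subgroup.mem_subgroupOf.mp h1
    have h3 : (x * t⁻¹) * a = a * (x * t⁻¹) := h.ab _ h2 a ha
    have h4 : t * a = a * t := by
      calc t * a = t * a * t⁻¹ * t := by group
        _ = a * t := by rw [hta]
    calc x * a = (x * t⁻¹) * (t * a) := by group
      _ = (x * t⁻¹) * (a * t) := by rw [h4]
      _ = ((x * t⁻¹) * a) * t := by group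
      _ = (a * (x * t⁻¹)) * t := by rw [h3]
      _ = a * x := by group

/-- P8 -/
theorem case_XC_rank3 [Finite X] (hX : IsPGroup 2 X) (h : Ctx X X0 c z)
    (h2 : Nat.card (⁅X, X⁆ : Subgroup G) ≠ 2) (hZ : ∀ ζ ∈ X0, Cen X ζ → ζ * ζ = 1) (e : G) (he0 : e ∈ X0)
    (he2 : e * e = 1) (hec : ¬ Cen X e) : False := by
  have hne : ∃ t ∈ X, t ∉ X0 := by
    by_contra hcon
    push Not at hcon
    have htop : X0.subgroupOf X = ⊤ := by
      rw [Subgroup.subgroupOf_eq_top]
      exact fun x hx => hcon x hx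
    have hidx := h.idx
    unfold Subgroup.relIndex at hidx
    rw [htop, Subgroup.index_top] at hidx
    omega
  obtain ⟨t, htX, ht0⟩ := hne
  haveI : IsMulCommutative X0 := ⟨⟨fun a b => Subtype.ext (h.ab a a.2 b b.2)⟩⟩
  haveI : Finite X0 := Finite.of_injective (Subgroup.inclusion h.le) (Subgroup.inclusion_injective _)
  obtain ⟨hc, hz⟩ := cz_mem h
  have ht : t ∈ Subgroup.normalizer (X0 : Set G) := le_normalizer h htX
  have hcomm := comm_eq_range h t htX ht0 ht
  have hA := s1906p3_core h t htX ht0 hc hz ht hcomm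
  have hcard : Nat.card (dl (X0.normalizerMonoidHom ⟨t, ht⟩)).range ≠ 2 := by
    intro h'
    apply h2
    rw [hcomm, Subgroup.card_map_of_injective X0.subtype_injective]
    exact h'
  refine iia_abs (hX.to_le h.le) hA ?_ ⟨e, he0⟩ (Subtype.ext he2) ?_ hcard
  · intro a ha
    have hta : t * (a : G) * t⁻¹ = a := congrArg Subtype.val ha
    exact Subtype.ext (hZ a a.2 (s1906p8_cen h t htX ht0 a a.2 hta))
  · intro he
    have hte : t * e * t⁻¹ = e := congrArg Subtype.val he
    exact hec (s1906p8_cen h t htX ht0 e he0 hte)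

end Cfsg.Agent.Lib.Helper5.S1906
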