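import Mathlib
import Cfsg.Prelude.Def_LieExceptional
import Cfsg.Agent.S1019
import Cfsg.Agent.Lib.helper8.Parity
import Cfsg.Agent.Lib.helper8.SimpleEmbed
import Cfsg.Agent.Lib.helper23.OrdGen2
import Cfsg.Agent.Lib.Helper22.Basic

/-!
# Project S496 (S0496), piece 720-C2 : `s720_count`

`|G| = 720` simple, `z` an involution with `|C(z)| = 16`, `D` of order 3 with `M = N(D)` of order 72.
On the 10 cosets of `M` the involution `z` has 2 or 6 fixed points (parity, faithfulness), so a conjugate
`z'` of `z` lies in `M` and `|cl(z) ∩ M| = 45·fix/10 ∈ {9, 27}` is odd.  A subgroup `T ≤ M` of order 8 acting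
by conjugation on `cl(z) ∩ M` fixes some `z''`; `M ∩ C(z'')` has order dividing `gcd(72,16) = 8`, so it
is `T`, and `z'' ∈ Z(T)`.  `z''` does not centralize `D` (`3 ∤ 16`), so it inverts `D`, and every element
of `T` lies in `T₀ = T ∩ C(D)` or in `z'' T₀`; `T₀ ≠ T` has order dividing 4, so it is abelian, and so is
`T = T₀ ∪ z'' T₀`.
-/

set_option autoImplicit false

namespace Cfsg.Agent.Lib.helper3.S496

open Cfsg.Agent.Lib.helper8 Cfsg.Agent.Lib.helper23 Cfsg.Agent.Lib.Helper22

/-- the elements of a subgroup of order 3 -/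
theorem h25c2_elems {G : Type*} [Group G] (D : Subgroup G) (hD : Nat.card D = 3)
    (d : G) (hd : d ∈ D) (hd1 : d ≠ 1) :
    d ^ 3 = 1 ∧ ∀ x ∈ D, x = 1 ∨ x = d ∨ x = d⁻¹ := by
  have : Fact (Nat.Prime 3) := ⟨Nat.prime_three⟩
  have : Finite D := Nat.finite_of_card_ne_zero (by rw [hD]; norm_num)
  have hne : (⟨d, hd⟩ : D) ≠ 1 := fun h => hd1 (congrArg Subtype.val h)
  have h3 : d ^ 3 = 1 := by
    have h := pow_card_eq_one' (G := D) (x := ⟨d, hd⟩)
    rw [hD] at h
    have := congrArg Subtype.val h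
    simpa using this
  refine ⟨h3, ?_⟩
  intro x hx
  have hmem : (⟨x, hx⟩ : D) ∈ Subgroup.zpowers (⟨d, hd⟩ : D) :=
    mem_zpowers_of_prime_card (p := 3) hD hne
  obtain ⟨k, hk⟩ := Subgroup.mem_zpowers_iff.mp hmem
  have hk' : d ^ k = x := by
    have := congrArg Subtype.val hk
    simpa using this
  have hmod : d ^ k = d ^ (k % 3) := by
    have e : k = k % 3 + 3 * (k / 3) := (Int.emod_add_mul_ediv k 3).symm
    have e3 : d ^ (3 : ℤ) = 1 := by
      rw [← h3]
      exact zpow_natCast d 3
    conv_lhs => rw [e, zpow_add, zpow_mul, e3, one_zpow, mul_one]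
  have hlt : k % 3 = 0 ∨ k % 3 = 1 ∨ k % 3 = 2 := by omega
  rcases hlt with h | h | h
  · left
    rw [← hk', hmod, h, zpow_zero]
  · right
    left
    rw [← hk', hmod, h, zpow_one]
  · right
    right
    rw [← hk', hmod, h]
    have : d ^ (2 : ℤ) * d = 1 := by
      rw [← h3]
      have : d ^ (2 : ℤ) = d ^ 2 := zpow_natCast d 2
      rw [this]
      exact (pow_succ d 2).symm
    exact eq_inv_of_mul_eq_one_left this

/-- a group whose order is a proper divisor of 8 is commutative -/
theorem h25c2_comm_of_card {H : Type*} [Group H] [Finite H] (h : Nat.card H ∣ 8)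
    (h8 : Nat.card H ≠ 8) : ∀ a b : H, a * b = b * a := by
  have hle : Nat.card H ≤ 8 := Nat.le_of_dvd (by norm_num) h
  have hpos : 0 < Nat.card H := Nat.card_pos
  have hcases : Nat.card H = 1 ∨ Nat.card H = 2 ∨ Nat.card H = 4 := by
    generalize Nat.card H = n at *
    interval_cases n <;> simp_all
  rcases hcases with h1 | h2 | h4
  · intro a b
    have := (Nat.card_eq_one_iff_unique.1 h1).1
    exact Subsingleton.elim _ _
  · have : Fact (Nat.Prime 2) := ⟨Nat.prime_two⟩
    have hc : IsCyclic H := isCyclic_of_prime_card h2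
    intro a b
    exact IsMulCommutative.is_comm.comm a b
  · have : Fact (Nat.Prime 2) := ⟨Nat.prime_two⟩
    have hc := IsPGroup.isMulCommutative_of_card_eq_prime_sq (p := 2) (G := H) (by rw [h4]; norm_num)
    intro a b
    exact hc.is_comm.comm a b

/-- 720-C2 -/
theorem s720_count {G : Type*} [Group G] [Finite G] [IsSimpleGroup G] (hG : Nat.card G = 720)
    (z : G) (hz : orderOf z = 2) (hCz : Nat.card (Subgroup.centralizer ({z} : Set G)) = 16)
    (D : Subgroup G) (hD : Nat.card D = 3) (hM : Nat.card (Subgroup.normalizer (D : Set G)) = 72)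
    (hT : ∀ T : Subgroup G, T ≤ Subgroup.normalizer (D : Set G) → Nat.card T = 8 →
        ∃ a ∈ T, ∃ b ∈ T, a * b ≠ b * a) : False := by
  classical
  have hnc : ¬ IsMulCommutative G := h8_not_comm_of_card (by rw [hG]; norm_num)
  obtain ⟨M, hMdef⟩ : ∃ M : Subgroup G, M = Subgroup.normalizer (D : Set G) := ⟨_, rfl⟩
  rw [← hMdef] at hM hT
  have hidx : M.index = 10 := by
    have := M.card_mul_index
    rw [hM, hG] at this
    omega
  have hX : Nat.card (G ⧸ M) = 10 := hidx
  have hMtop : M ≠ ⊤ := by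
    intro h
    rw [h, Subgroup.index_top] at hidx
    omega
  -- Step A : an involution has 2 or 6 fixed points
  have hfixA : ∀ w : G, orderOf w = 2 →
      Nat.card (MulAction.fixedBy (G ⧸ M) w) = 2 ∨ Nat.card (MulAction.fixedBy (G ⧸ M) w) = 6 := by
    intro w hw
    have hw2 : w ^ 2 = 1 := by
      rw [← hw]
      exact pow_orderOf_eq_one w
    have hw1 : w ≠ 1 := by
      intro h
      rw [h, orderOf_one] at hw
      omega
    have h4 := h8_simple_involution_fixed (X := G ⧸ M) hnc w hw2
    rw [hX] at h4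
    have hle : Nat.card (MulAction.fixedBy (G ⧸ M) w) ≤ 10 := by
      rw [← hX]
      exact Nat.card_le_card_of_injective _ Subtype.val_injective
    have hne : Nat.card (MulAction.fixedBy (G ⧸ M) w) ≠ 10 := by
      intro h
      exact hw1 (og2_eq_one_of_card_fixedBy M hMtop w (h.trans hX.symm))
    omega
  -- the class of `z`
  have hidxz : ∀ w : G, IsConj z w → (Subgroup.centralizer ({w} : Set G)).index = 45 := by
    intro w hw
    obtain ⟨c, rfl⟩ := isConj_iff.1 hw
    rw [index_centralizer_conj]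
    have := (Subgroup.centralizer ({z} : Set G)).card_mul_index
    rw [hCz, hG] at this
    omega
  have hcardC : ∀ w : G, IsConj z w → Nat.card (Subgroup.centralizer ({w} : Set G)) = 16 := by
    intro w hw
    have := (Subgroup.centralizer ({w} : Set G)).card_mul_index
    rw [hidxz w hw, hG] at this
    omega
  have hcl : ∀ w : G, IsConj z w → Nat.card {g : G // IsConj w g} = 45 := by
    intro w hw
    rw [← hidxz w hw, index_centralizer_eq_ncard_conj, ← Nat.card_coe_set_eq]
    rfl
  have hord : ∀ w : G, IsConj z w → orderOf w = 2 := by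
    intro w hw
    rw [og_orderOf_of_isConj hw, hz]
  -- a conjugate of `z` in `M`
  obtain ⟨z', hz'conj, hz'M⟩ : ∃ z' : G, IsConj z z' ∧ z' ∈ M := by
    have hpos : 0 < Nat.card (MulAction.fixedBy (G ⧸ M) z) := by
      rcases hfixA z hz with h | h <;> omega
    obtain ⟨⟨q, hq⟩⟩ := (Nat.card_pos_iff.1 hpos).1
    obtain ⟨g, rfl⟩ := QuotientGroup.mk_surjective q
    rw [MulAction.mem_fixedBy, MulAction.Quotient.smul_mk, QuotientGroup.eq, smul_eq_mul] at hq
    refine ⟨g⁻¹ * z * g, isConj_iff.2 ⟨g⁻¹, by group⟩, ?_⟩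
    have := M.inv_mem hq
    have e : ((z * g)⁻¹ * g)⁻¹ = g⁻¹ * z * g := by group
    rw [e] at this
    exact this
  have hk : Nat.card {g : G // IsConj z' g ∧ g ∈ M} = 9 ∨
      Nat.card {g : G // IsConj z' g ∧ g ∈ M} = 27 := by
    have h := Cfsg.Agent.S1019.result M z' hz'M
    rw [hcl z' hz'conj, hidx] at h
    rcases hfixA z' (hord z' hz'conj) with h2 | h2 <;> rw [h2] at h <;> omega
  -- a subgroup of order 8 of `M`
  obtain ⟨K, hK⟩ : ∃ K : Subgroup M, Nat.card K = 2 ^ 3 :=
    Sylow.exists_subgroup_card_pow_prime 2 (by rw [hM]; norm_num)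
  obtain ⟨T, hTdef⟩ : ∃ T : Subgroup G, T = K.map M.subtype := ⟨_, rfl⟩
  have hTcard : Nat.card T = 8 := by
    rw [hTdef, Subgroup.card_map_of_injective M.subtype_injective, hK]
    norm_num
  have hTM : T ≤ M := by
    rw [hTdef]
    exact Subgroup.map_subtype_le K
  have hTp : IsPGroup 2 T := IsPGroup.of_card (n := 3) (by rw [hTcard]; norm_num)
  -- the action of `T` on the conjugates of `z'` in `M`
  let _ : MulAction T {g : G // IsConj z' g ∧ g ∈ M} :=
    { smul := fun t s => ⟨(t : G) * s.1 * (t : G)⁻¹,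
        ⟨s.2.1.trans (isConj_iff.2 ⟨(t : G), rfl⟩),
          M.mul_mem (M.mul_mem (hTM t.2) s.2.2) (M.inv_mem (hTM t.2))⟩⟩
      one_smul := fun s => by
        apply Subtype.ext
        show ((1 : T) : G) * s.1 * ((1 : T) : G)⁻¹ = s.1
        simp
      mul_smul := fun a b s => by
        apply Subtype.ext
        show ((a * b : T) : G) * s.1 * ((a * b : T) : G)⁻¹ =
          (a : G) * ((b : G) * s.1 * (b : G)⁻¹) * (a : G)⁻¹
        rw [Subgroup.coe_mul]
        group }
  have hsmul : ∀ (t : T) (s : {g : G // IsConj z' g ∧ g ∈ M}),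
      ((t • s : {g : G // IsConj z' g ∧ g ∈ M}) : G) = (t : G) * s.1 * (t : G)⁻¹ := fun _ _ => rfl
  have hodd : ¬ 2 ∣ Nat.card {g : G // IsConj z' g ∧ g ∈ M} := by
    rcases hk with h | h <;> rw [h] <;> norm_num
  obtain ⟨⟨z'', hz''conj, hz''M⟩, hfix⟩ :=
    hTp.nonempty_fixed_point_of_prime_not_dvd_card {g : G // IsConj z' g ∧ g ∈ M} hodd
  have hTc : ∀ t ∈ T, t * z'' = z'' * t := by
    intro t ht
    have := congrArg Subtype.val (hfix ⟨t, ht⟩)
    rw [hsmul] at this
    have h' : t * z'' * t⁻¹ = z'' := this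
    calc t * z'' = t * z'' * t⁻¹ * t := by group
      _ = z'' * t := by rw [h']
  have hz''z : IsConj z z'' := hz'conj.trans hz''conj
  have hC16 := hcardC z'' hz''z
  have hTle : T ≤ M ⊓ Subgroup.centralizer ({z''} : Set G) := by
    intro t ht
    exact ⟨hTM ht, Subgroup.mem_centralizer_singleton_iff.2 (hTc t ht)⟩
  have hcard8 : Nat.card ↥(M ⊓ Subgroup.centralizer ({z''} : Set G)) = 8 := by
    have d1 : Nat.card ↥(M ⊓ Subgroup.centralizer ({z''} : Set G)) ∣ 72 :=
      hM ▸ Subgroup.card_dvd_of_le inf_le_left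
    have d2 : Nat.card ↥(M ⊓ Subgroup.centralizer ({z''} : Set G)) ∣ 16 :=
      hC16 ▸ Subgroup.card_dvd_of_le inf_le_right
    have d3 : 8 ∣ Nat.card ↥(M ⊓ Subgroup.centralizer ({z''} : Set G)) :=
      hTcard ▸ Subgroup.card_dvd_of_le hTle
    have d4 : Nat.card ↥(M ⊓ Subgroup.centralizer ({z''} : Set G)) ∣ 8 := by
      have := Nat.dvd_gcd d1 d2
      norm_num at this
      exact this
    exact Nat.dvd_antisymm d4 d3
  have hTeq : T = M ⊓ Subgroup.centralizer ({z''} : Set G) :=
    Subgroup.eq_of_le_of_card_ge hTle (by rw [hcard8, hTcard])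
  have hz''T : z'' ∈ T := by
    rw [hTeq]
    exact ⟨hz''M, Subgroup.mem_centralizer_singleton_iff.2 rfl⟩
  -- a generator of `D`
  obtain ⟨d, hdD, hd1⟩ : ∃ d ∈ D, d ≠ 1 := by
    by_contra hcon
    push Not at hcon
    have : D = ⊥ := (Subgroup.eq_bot_iff_forall D).2 hcon
    rw [this, Subgroup.card_bot] at hD
    omega
  obtain ⟨hd3, hDel⟩ := h25c2_elems D hD d hdD hd1
  have hconjd : ∀ a ∈ M, a * d * a⁻¹ = d ∨ a * d * a⁻¹ = d⁻¹ := by
    intro a ha
    have hmem : a * d * a⁻¹ ∈ D := by
      rw [hMdef, Subgroup.mem_normalizer_iff] at ha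
      exact (ha d).1 hdD
    rcases hDel _ hmem with h | h | h
    · exfalso
      apply hd1
      have : d = a⁻¹ * (a * d * a⁻¹) * a := by group
      rw [this, h]
      group
    · exact Or.inl h
    · exact Or.inr h
  have hcentD : ∀ a : G, a * d * a⁻¹ = d → ∀ x ∈ D, x * a = a * x := by
    intro a h x hx
    have had : a * d = d * a := by
      calc a * d = a * d * a⁻¹ * a := by group
        _ = d * a := by rw [h]
    rcases hDel x hx with rfl | rfl | rfl
    · simp
    · exact had.symm
    · calc d⁻¹ * a = d⁻¹ * (a * d) * d⁻¹ := by group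
        _ = d⁻¹ * (d * a) * d⁻¹ := by rw [had]
        _ = a * d⁻¹ := by group
  have hz''d : z'' * d * z''⁻¹ = d⁻¹ := by
    rcases hconjd z'' hz''M with h | h
    · exfalso
      have hDC : D ≤ Subgroup.centralizer ({z''} : Set G) := by
        intro x hx
        rw [Subgroup.mem_centralizer_singleton_iff]
        exact hcentD z'' h x hx
      have := Subgroup.card_dvd_of_le hDC
      rw [hD, hC16] at this
      omega
    · exact h
  obtain ⟨T₀, hT₀⟩ : ∃ T₀ : Subgroup G, T₀ = T ⊓ Subgroup.centralizer (D : Set G) := ⟨_, rfl⟩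
  have hT₀le : T₀ ≤ T := by
    rw [hT₀]
    exact inf_le_left
  have hz''T₀ : z'' ∉ T₀ := by
    intro h
    rw [hT₀] at h
    have h2 : d * z'' = z'' * d := Subgroup.mem_centralizer_iff.1 h.2 d hdD
    have h3 : z'' * d * z''⁻¹ = d := by
      rw [← h2]
      group
    rw [hz''d] at h3
    apply hd1
    have h4 : d * d = 1 := by
      nth_rewrite 1 [← h3]
      exact inv_mul_cancel d
    calc d = d ^ 3 * (d * d)⁻¹ := by group
      _ = 1 := by rw [hd3, h4, inv_one, mul_one]
  have hT₀comm : ∀ a ∈ T₀, ∀ b ∈ T₀, a * b = b * a := by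
    have hdvd : Nat.card T₀ ∣ 8 := hTcard ▸ Subgroup.card_dvd_of_le hT₀le
    have hne : Nat.card T₀ ≠ 8 := by
      intro h
      apply hz''T₀
      have : T₀ = T := Subgroup.eq_of_le_of_card_ge hT₀le (by rw [h, hTcard])
      rw [this]
      exact hz''T
    intro a ha b hb
    have := h25c2_comm_of_card (H := T₀) hdvd hne ⟨a, ha⟩ ⟨b, hb⟩
    exact congrArg Subtype.val this
  have hsplit : ∀ a ∈ T, a ∈ T₀ ∨ z'' * a ∈ T₀ := by
    intro a ha
    rcases hconjd a (hTM ha) with h | h
    · left
      rw [hT₀]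
      exact ⟨ha, Subgroup.mem_centralizer_iff.2 (fun x hx => hcentD a h x hx)⟩
    · right
      rw [hT₀]
      refine ⟨T.mul_mem hz''T ha, ?_⟩
      have : (z'' * a) * d * (z'' * a)⁻¹ = d := by
        calc (z'' * a) * d * (z'' * a)⁻¹ = z'' * (a * d * a⁻¹) * z''⁻¹ := by group
          _ = z'' * d⁻¹ * z''⁻¹ := by rw [h]
          _ = (z'' * d * z''⁻¹)⁻¹ := by group
          _ = d := by rw [hz''d, inv_inv]
      exact Subgroup.mem_centralizer_iff.2 (fun x hx => hcentD _ this x hx)
  -- `T` is abelian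
  obtain ⟨a, ha, b, hb, hab⟩ := hT T hTM hTcard
  apply hab
  have hza : z'' * a = a * z'' := (hTc a ha).symm
  have hzb : z'' * b = b * z'' := (hTc b hb).symm
  rcases hsplit a ha with h1 | h1 <;> rcases hsplit b hb with h2 | h2
  · exact hT₀comm a h1 b h2
  · have h3 := hT₀comm a h1 _ h2
    have h4 : z'' * (a * b) = z'' * (b * a) := by
      calc z'' * (a * b) = (z'' * a) * b := by group
        _ = (a * z'') * b := by rw [hza]
        _ = a * (z'' * b) := by group
        _ = z'' * b * a := h3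
        _ = z'' * (b * a) := by group
    exact mul_left_cancel h4
  · have h3 := hT₀comm _ h1 b h2
    have h4 : z'' * (a * b) = z'' * (b * a) := by
      calc z'' * (a * b) = z'' * a * b := by group
        _ = b * (z'' * a) := h3
        _ = (b * z'') * a := by group
        _ = (z'' * b) * a := by rw [hzb]
        _ = z'' * (b * a) := by group
    exact mul_left_cancel h4
  · have h3 := hT₀comm _ h1 _ h2
    have h4 : z'' * z'' * (a * b) = z'' * z'' * (b * a) := by
      calc z'' * z'' * (a * b) = z'' * (z'' * a) * b := by group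
        _ = z'' * (a * z'') * b := by rw [hza]
        _ = (z'' * a) * (z'' * b) := by group
        _ = z'' * b * (z'' * a) := h3
        _ = z'' * (b * z'') * a := by group
        _ = z'' * (z'' * b) * a := by rw [hzb]
        _ = z'' * z'' * (b * a) := by group
    exact mul_left_cancel h4

end Cfsg.Agent.Lib.helper3.S496
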