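import Mathlib
import Cfsg.Prelude.Def_LieExceptional
import Cfsg.Agent.Lib.helper8.SimpleEmbed
import Cfsg.Agent.Lib.helper8.SylowBasic
import Cfsg.Agent.Lib.helper8.Burnside
import Cfsg.Agent.Lib.Helper24.S496D2

/-!
# Project S496 (S0496), piece 720-D1 : ten Sylow 3-subgroups of a simple group of order 720 meet trivially

(Copy by helper25 under the name `h25_ten_TI`, used by `Helper25/S496D5.lean`.)
If `P ∩ R ≠ 1` for one pair, the orbits of `P` on the nine other Sylow subgroups all have length 3, so every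
pair meets in a subgroup `D` of order 3.  `N(D)` contains the (abelian) Sylow subgroups through `D`, has order
prime to 5 (`C(P₅) = P₅`) and index at least 6, so it has exactly four Sylow 3-subgroups: exactly four Sylow
3-subgroups of `G` contain `D`.  Counting ordered pairs of distinct Sylow subgroups by their intersection gives
`90 = 12 · #{D}`, which is absurd.
-/

set_option autoImplicit false
set_option linter.unusedVariables false

namespace Cfsg.Agent.Lib.helper3.S496

open Cfsg.Agent.Lib.helper8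

/-- a Sylow 3-subgroup of a group of order 720 is abelian -/
theorem h25d1_comm {G : Type*} [Group G] [Finite G] (hG : Nat.card G = 720) (P : Sylow 3 G)
    (x y : G) (hx : x ∈ (P : Subgroup G)) (hy : y ∈ (P : Subgroup G)) : x * y = y * x := by
  have : Fact (Nat.Prime 3) := ⟨Nat.prime_three⟩
  have hc := IsPGroup.isMulCommutative_of_card_eq_prime_sq (p := 3) (G := (P : Subgroup G))
    (by rw [h24_d2_card_sylow hG P]; norm_num)
  have := hc.is_comm.comm (⟨x, hx⟩ : (P : Subgroup G)) ⟨y, hy⟩
  exact congrArg Subtype.val this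

/-- two different Sylow 3-subgroups meet in a subgroup of order 1 or 3 -/
theorem h25d1_inf_card {G : Type*} [Group G] [Finite G] (hG : Nat.card G = 720)
    (P R : Sylow 3 G) (hPR : P ≠ R) :
    Nat.card ((P : Subgroup G) ⊓ (R : Subgroup G) : Subgroup G) = 1 ∨
      Nat.card ((P : Subgroup G) ⊓ (R : Subgroup G) : Subgroup G) = 3 := by
  have : Fact (Nat.Prime 3) := ⟨Nat.prime_three⟩
  have hP := h24_d2_card_sylow hG P
  have hR := h24_d2_card_sylow hG R
  have hdvd : Nat.card ((P : Subgroup G) ⊓ (R : Subgroup G) : Subgroup G) ∣ 9 :=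
    hP ▸ Subgroup.card_dvd_of_le inf_le_left
  have hne : Nat.card ((P : Subgroup G) ⊓ (R : Subgroup G) : Subgroup G) ≠ 9 := by
    intro h
    apply hPR
    have h1 : (P : Subgroup G) ⊓ (R : Subgroup G) = (P : Subgroup G) :=
      Subgroup.eq_of_le_of_card_ge inf_le_left (by rw [h, hP])
    have h2 : (P : Subgroup G) ≤ (R : Subgroup G) := by
      rw [← h1]
      exact inf_le_right
    have h3 : (P : Subgroup G) = (R : Subgroup G) :=
      Subgroup.eq_of_le_of_card_ge h2 (by rw [hP, hR])
    exact Sylow.ext h3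
  have hle : Nat.card ((P : Subgroup G) ⊓ (R : Subgroup G) : Subgroup G) ≤ 9 :=
    Nat.le_of_dvd (by norm_num) hdvd
  generalize Nat.card ((P : Subgroup G) ⊓ (R : Subgroup G) : Subgroup G) = n at *
  interval_cases n <;> simp_all

/-- the orbit of `R` under `P` has `9 / |P ∩ R|` elements -/
theorem h25d1_orbit_card {G : Type*} [Group G] [Finite G] (hG : Nat.card G = 720)
    (P R : Sylow 3 G) :
    Nat.card ((P : Subgroup G) ⊓ (R : Subgroup G) : Subgroup G) *
      (MulAction.orbit (P : Subgroup G) R).ncard = 9 := by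
  have : Fact (Nat.Prime 3) := ⟨Nat.prime_three⟩
  have hstab : MulAction.stabilizer (P : Subgroup G) R = (R : Subgroup G).subgroupOf P := by
    ext g
    rw [MulAction.mem_stabilizer_iff, Subgroup.mem_subgroupOf]
    constructor
    · intro h
      have h1 : (g : G) • R = R := h
      have h2 := Sylow.smul_eq_iff_mem_normalizer.mp h1
      have h4 := P.2.inf_normalizer_sylow R
      have h3 : (g : G) ∈ (P : Subgroup G) ⊓ (R : Subgroup G) := by
        rw [← h4]
        exact ⟨g.2, h2⟩
      exact h3.2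
    · intro h
      exact Sylow.smul_eq_iff_mem_normalizer.mpr (Subgroup.le_normalizer h)
  rw [← MulAction.index_stabilizer, hstab]
  have h1 : ((R : Subgroup G).subgroupOf P).index = (R : Subgroup G).relIndex P := rfl
  have key := Subgroup.relIndex_mul_relIndex (H := (⊥ : Subgroup G))
    (K := (P : Subgroup G) ⊓ (R : Subgroup G)) (L := (P : Subgroup G)) bot_le inf_le_left
  rw [Subgroup.relIndex_bot_left, Subgroup.relIndex_bot_left, h24_d2_card_sylow hG P] at key
  have h2 : ((P : Subgroup G) ⊓ (R : Subgroup G)).relIndex (P : Subgroup G) =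
      (R : Subgroup G).relIndex (P : Subgroup G) := by
    rw [inf_comm]
    exact Subgroup.inf_relIndex_right (H := (R : Subgroup G)) (K := (P : Subgroup G))
  rw [h1, ← h2]
  exact key

/-- the orbit of `R ≠ P` under `P` avoids `P` -/
theorem h25d1_orbit_subset {G : Type*} [Group G] [Finite G] (P R : Sylow 3 G) (hR : R ≠ P) :
    MulAction.orbit (P : Subgroup G) R ⊆ ({P}ᶜ : Set (Sylow 3 G)) := by
  have : Fact (Nat.Prime 3) := ⟨Nat.prime_three⟩
  rintro _ ⟨g, rfl⟩ h
  apply hR
  have h1 : (g : G) • R = P := h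
  have h2 : (g : G) • P = P :=
    Sylow.smul_eq_iff_mem_normalizer.mpr (Subgroup.le_normalizer g.2)
  have h3 : (g : G) • R = (g : G) • P := h1.trans h2.symm
  exact smul_left_cancel _ h3

/-- if `P` meets one other Sylow 3-subgroup nontrivially, it meets all of them nontrivially -/
theorem h25d1_all_of_one {G : Type*} [Group G] [Finite G] (hG : Nat.card G = 720)
    (h10 : Nat.card (Sylow 3 G) = 10) (P R : Sylow 3 G) (hR : R ≠ P)
    (hPR : Nat.card ((P : Subgroup G) ⊓ (R : Subgroup G) : Subgroup G) = 3)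
    (R' : Sylow 3 G) (hR' : R' ≠ P) :
    Nat.card ((P : Subgroup G) ⊓ (R' : Subgroup G) : Subgroup G) = 3 := by
  have : Fact (Nat.Prime 3) := ⟨Nat.prime_three⟩
  rcases h25d1_inf_card hG P R' (Ne.symm hR') with h1 | h3
  · exfalso
    have ho' := h25d1_orbit_card hG P R'
    rw [h1, one_mul] at ho'
    have ho := h25d1_orbit_card hG P R
    rw [hPR] at ho
    have ho3 : (MulAction.orbit (P : Subgroup G) R).ncard = 3 := by omega
    have hcompl : ({P}ᶜ : Set (Sylow 3 G)).ncard = 9 := by
      rw [Set.ncard_compl, Set.ncard_singleton, h10]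
    have heq : MulAction.orbit (P : Subgroup G) R' = ({P}ᶜ : Set (Sylow 3 G)) := by
      apply Set.eq_of_subset_of_ncard_le (h25d1_orbit_subset P R' hR')
      rw [hcompl, ho']
    have hmem : R ∈ MulAction.orbit (P : Subgroup G) R' := by
      rw [heq]
      exact hR
    have := MulAction.orbit_eq_iff.2 hmem
    rw [this, ho'] at ho3
    omega
  · exact h3

/-- if some two Sylow 3-subgroups meet nontrivially, all pairs meet in a subgroup of order 3 -/
theorem h25d1_all_pairs {G : Type*} [Group G] [Finite G] (hG : Nat.card G = 720)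
    (h10 : Nat.card (Sylow 3 G) = 10) (P₀ R₀ : Sylow 3 G) (h0 : P₀ ≠ R₀)
    (hne : (P₀ : Subgroup G) ⊓ (R₀ : Subgroup G) ≠ ⊥) (A B : Sylow 3 G) (hAB : A ≠ B) :
    Nat.card ((A : Subgroup G) ⊓ (B : Subgroup G) : Subgroup G) = 3 := by
  have h3 : Nat.card ((P₀ : Subgroup G) ⊓ (R₀ : Subgroup G) : Subgroup G) = 3 := by
    rcases h25d1_inf_card hG P₀ R₀ h0 with h | h
    · exact absurd (Subgroup.card_eq_one.1 h) hne
    · exact h
  by_cases hA : A = P₀
  · rw [hA]
    exact h25d1_all_of_one hG h10 P₀ R₀ (Ne.symm h0) h3 B (by rw [← hA]; exact Ne.symm hAB)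
  · have h4 : Nat.card ((P₀ : Subgroup G) ⊓ (A : Subgroup G) : Subgroup G) = 3 :=
      h25d1_all_of_one hG h10 P₀ R₀ (Ne.symm h0) h3 A hA
    rw [inf_comm] at h4
    exact h25d1_all_of_one hG h10 A P₀ (Ne.symm hA) h4 B (Ne.symm hAB)

/-- the normalizer of a subgroup of order 3 has order prime to 5 -/
theorem h25d1_five_not_dvd {G : Type*} [Group G] [Finite G] (hG : Nat.card G = 720)
    (hC5 : ∀ P : Sylow 5 G, Nat.card (Subgroup.centralizer ((P : Subgroup G) : Set G)) = 5)
    (D : Subgroup G) (hD : Nat.card D = 3) :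
    ¬ 5 ∣ Nat.card (Subgroup.normalizer (D : Set G)) := by
  intro h5
  have : Fact (Nat.Prime 5) := ⟨by norm_num⟩
  have hr := h8_relIndex_centralizer_normalizer_dvd_prime 3 Nat.prime_three D hD
  have hmul := h8_card_centralizer_mul_relIndex D
  have h5C : 5 ∣ Nat.card (Subgroup.centralizer (D : Set G)) := by
    rw [← hmul] at h5
    have hcop : Nat.Coprime 5
        ((Subgroup.centralizer (D : Set G)).relIndex (Subgroup.normalizer (D : Set G))) := by
      have hle : (Subgroup.centralizer (D : Set G)).relIndex (Subgroup.normalizer (D : Set G)) ≤ 2 :=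
        Nat.le_of_dvd (by norm_num) hr
      have hpos : 0 < (Subgroup.centralizer (D : Set G)).relIndex
          (Subgroup.normalizer (D : Set G)) := Nat.pos_of_dvd_of_pos hr (by norm_num)
      generalize (Subgroup.centralizer (D : Set G)).relIndex
        (Subgroup.normalizer (D : Set G)) = r at *
      interval_cases r <;> decide
    exact hcop.dvd_of_dvd_mul_right h5
  obtain ⟨y, hy⟩ := exists_prime_orderOf_dvd_card' 5 h5C
  have hyo : orderOf (y : G) = 5 := by
    rw [Subgroup.orderOf_coe]
    exact hy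
  have hp : IsPGroup 5 (Subgroup.zpowers (y : G)) :=
    IsPGroup.of_card (n := 1) (by rw [Nat.card_zpowers, hyo, pow_one])
  obtain ⟨Q, hQ⟩ := hp.exists_le_sylow
  have hQcard : Nat.card (Q : Subgroup G) = 5 := by
    have := h8_sylow_card 5 1 144 (by rw [hG]; norm_num) (by norm_num) Q
    simpa using this
  have hQeq : Subgroup.zpowers (y : G) = (Q : Subgroup G) :=
    Subgroup.eq_of_le_of_card_ge hQ (by rw [hQcard, Nat.card_zpowers, hyo])
  have hDC : D ≤ Subgroup.centralizer ((Q : Subgroup G) : Set G) := by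
    intro d hd
    rw [Subgroup.mem_centralizer_iff]
    intro q hq
    have hq' : q ∈ Subgroup.zpowers (y : G) := by
      rw [hQeq]
      exact hq
    obtain ⟨k, rfl⟩ := Subgroup.mem_zpowers_iff.1 hq'
    have hyd : Commute d (y : G) := Subgroup.mem_centralizer_iff.1 y.2 d hd
    exact (hyd.zpow_right k).eq.symm
  have := Subgroup.card_dvd_of_le hDC
  rw [hD, hC5 Q] at this
  omega

/-- a Sylow 3-subgroup containing `D` normalizes it -/
theorem h25d1_le_normalizer {G : Type*} [Group G] [Finite G] (hG : Nat.card G = 720)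
    (D : Subgroup G) (C : Sylow 3 G) (hDC : D ≤ (C : Subgroup G)) :
    (C : Subgroup G) ≤ Subgroup.normalizer (D : Set G) := by
  intro c hc
  apply Subgroup.centralizer_le_normalizer
  rw [Subgroup.mem_centralizer_iff]
  intro d hd
  exact h25d1_comm hG C d c (hDC hd) hc

/-- arithmetic for the number of Sylow 3-subgroups of `N(D)` -/
theorem h25d1_arith (m n i : ℕ) (hm : m ∣ 720) (h9 : 9 ∣ m) (h5 : ¬ 5 ∣ m) (hi : i * m = 720)
    (hfac : 1440 ∣ i.factorial) (hn : n ∣ m) (hmod : n % 3 = 1) (hn1 : n ≠ 1) : n = 4 := by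
  obtain ⟨k, rfl⟩ := h9
  have hk80 : k ∣ 80 := by
    have : 9 * k ∣ 9 * 80 := by
      norm_num
      exact hm
    exact Nat.dvd_of_mul_dvd_mul_left (by norm_num) this
  have hk5 : Nat.Coprime k 5 := by
    rw [Nat.coprime_comm, Nat.Prime.coprime_iff_not_dvd (by norm_num)]
    intro h
    exact h5 (Dvd.dvd.mul_left h 9)
  have hk16 : k ∣ 16 := by
    have : k ∣ 16 * 5 := by
      norm_num
      exact hk80
    exact hk5.dvd_of_dvd_mul_right this
  have hn9 : Nat.Coprime n 9 := by
    have h3 : Nat.Coprime n 3 := by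
      rw [Nat.coprime_comm, Nat.Prime.coprime_iff_not_dvd Nat.prime_three]
      intro h
      omega
    have : (9 : ℕ) = 3 ^ 2 := by norm_num
    rw [this]
    exact Nat.Coprime.pow_right 2 h3
  have hnk : n ∣ k := hn9.dvd_of_dvd_mul_left hn
  have hn16 : n ∣ 16 := hnk.trans hk16
  have hle : n ≤ 16 := Nat.le_of_dvd (by norm_num) hn16
  have hcases : n = 4 ∨ n = 16 := by
    interval_cases n <;> simp_all
  rcases hcases with h | h
  · exact h
  · exfalso
    rw [h] at hnk
    have hk : k = 16 := Nat.dvd_antisymm hk16 hnk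
    rw [hk] at hi
    have hi5 : i = 5 := by omega
    rw [hi5] at hfac
    revert hfac
    decide

/-- the normalizer of the intersection of two Sylow 3-subgroups has four Sylow 3-subgroups -/
theorem h25d1_nsyl {G : Type*} [Group G] [Finite G] [IsSimpleGroup G] (hG : Nat.card G = 720)
    (hC5 : ∀ P : Sylow 5 G, Nat.card (Subgroup.centralizer ((P : Subgroup G) : Set G)) = 5)
    (A B : Sylow 3 G) (hAB : A ≠ B) (D : Subgroup G) (hDA : D ≤ (A : Subgroup G))
    (hDB : D ≤ (B : Subgroup G)) (hD : Nat.card D = 3) :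
    Nat.card (Sylow 3 (Subgroup.normalizer (D : Set G))) = 4 := by
  have : Fact (Nat.Prime 3) := ⟨Nat.prime_three⟩
  have hnc : ¬ IsMulCommutative G := h8_not_comm_of_card (by rw [hG]; norm_num)
  have hA := h25d1_le_normalizer hG D A hDA
  have hB := h25d1_le_normalizer hG D B hDB
  have hne : A.subtype hA ≠ B.subtype hB := fun h => hAB (Sylow.subtype_injective h)
  have hmod : Nat.card (Sylow 3 (Subgroup.normalizer (D : Set G))) ≡ 1 [MOD 3] :=
    card_sylow_modEq_one 3 _
  have hn1 : Nat.card (Sylow 3 (Subgroup.normalizer (D : Set G))) ≠ 1 := by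
    intro h
    have := (Nat.card_eq_one_iff_unique.1 h).1
    exact hne (Subsingleton.elim _ _)
  have hndvd : Nat.card (Sylow 3 (Subgroup.normalizer (D : Set G))) ∣
      Nat.card (Subgroup.normalizer (D : Set G)) :=
    ((A.subtype hA).card_dvd_index).trans (Subgroup.index_dvd_card _)
  have hM720 : Nat.card (Subgroup.normalizer (D : Set G)) ∣ 720 :=
    hG ▸ Subgroup.card_subgroup_dvd_card _
  have h9 : 9 ∣ Nat.card (Subgroup.normalizer (D : Set G)) :=
    (h24_d2_card_sylow hG A) ▸ Subgroup.card_dvd_of_le hA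
  have h5 := h25d1_five_not_dvd hG hC5 D hD
  have hMtop : Subgroup.normalizer (D : Set G) ≠ ⊤ := by
    intro h
    have hnorm : D.Normal := Subgroup.normalizer_eq_top_iff.1 h
    rcases hnorm.eq_bot_or_eq_top with h1 | h1
    · rw [h1, Subgroup.card_bot] at hD
      omega
    · rw [h1, Subgroup.card_top, hG] at hD
      omega
  have hfac := h8_simple_two_mul_card_dvd_factorial hnc _ hMtop
  rw [hG] at hfac
  have hi : (Subgroup.normalizer (D : Set G)).index * Nat.card (Subgroup.normalizer (D : Set G)) =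
      720 := by
    rw [Subgroup.index_mul_card, hG]
  exact h25d1_arith _ _ _ hM720 h9 h5 hi hfac hndvd hmod hn1

/-- membership in a conjugate Sylow subgroup -/
theorem h25d1_mem_smul {G : Type*} [Group G] (B : Sylow 3 G) (a x : G) :
    x ∈ ((a • B : Sylow 3 G) : Subgroup G) ↔ a⁻¹ * x * a ∈ (B : Subgroup G) := by
  rw [Sylow.smul_def, Sylow.pointwise_smul_def, Subgroup.mem_pointwise_smul_iff_inv_smul_mem,
    MulAut.smul_def, MulAut.conj_inv_apply]

/-- exactly four Sylow 3-subgroups contain the intersection of two of them -/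
theorem h25d1_block {G : Type*} [Group G] [Finite G] [IsSimpleGroup G] (hG : Nat.card G = 720)
    (hC5 : ∀ P : Sylow 5 G, Nat.card (Subgroup.centralizer ((P : Subgroup G) : Set G)) = 5)
    (A B : Sylow 3 G) (hAB : A ≠ B)
    (hD : Nat.card ((A : Subgroup G) ⊓ (B : Subgroup G) : Subgroup G) = 3) :
    {C : Sylow 3 G | (A : Subgroup G) ⊓ (B : Subgroup G) ≤ (C : Subgroup G)}.ncard = 4 := by
  have : Fact (Nat.Prime 3) := ⟨Nat.prime_three⟩
  obtain ⟨D, hDdef⟩ : ∃ D : Subgroup G, D = (A : Subgroup G) ⊓ (B : Subgroup G) := ⟨_, rfl⟩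
  rw [← hDdef] at hD ⊢
  have hDA : D ≤ (A : Subgroup G) := hDdef ▸ inf_le_left
  have hDB : D ≤ (B : Subgroup G) := hDdef ▸ inf_le_right
  have hn := h25d1_nsyl hG hC5 A B hAB D hDA hDB hD
  apply le_antisymm
  · rw [← Nat.card_coe_set_eq, ← hn]
    apply Nat.card_le_card_of_injective
      (fun C : {C : Sylow 3 G | D ≤ (C : Subgroup G)} =>
        C.1.subtype (h25d1_le_normalizer hG D C.1 C.2))
    intro C C' h
    exact Subtype.ext (Sylow.subtype_injective h)
  · have ho := h25d1_orbit_card hG A B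
    rw [← hDdef, hD] at ho
    have ho3 : (MulAction.orbit (A : Subgroup G) B).ncard = 3 := by omega
    have hsub : insert A (MulAction.orbit (A : Subgroup G) B) ⊆
        {C : Sylow 3 G | D ≤ (C : Subgroup G)} := by
      intro C hC
      rcases Set.mem_insert_iff.1 hC with rfl | ⟨a, rfl⟩
      · exact hDA
      · intro d hd
        show d ∈ (((a : G) • B : Sylow 3 G) : Subgroup G)
        rw [h25d1_mem_smul]
        have h1 : (a : G)⁻¹ * d * (a : G) = d := by
          rw [mul_assoc, h25d1_comm hG A d a (hDA hd) a.2, ← mul_assoc, inv_mul_cancel, one_mul]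
        rw [h1]
        exact hDB hd
    have hnot : A ∉ MulAction.orbit (A : Subgroup G) B :=
      fun h => (h25d1_orbit_subset A B (Ne.symm hAB) h) rfl
    calc 4 = (MulAction.orbit (A : Subgroup G) B).ncard + 1 := by rw [ho3]
      _ = (insert A (MulAction.orbit (A : Subgroup G) B)).ncard :=
        (Set.ncard_insert_of_notMem hnot (Set.toFinite _)).symm
      _ ≤ _ := Set.ncard_le_ncard hsub (Set.toFinite _)

/-- 720-D1 (backup copy by helper25) -/
theorem h25_ten_TI {G : Type*} [Group G] [Finite G] [IsSimpleGroup G] (hG : Nat.card G = 720)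
    (hC5 : ∀ P : Sylow 5 G, Nat.card (Subgroup.centralizer ((P : Subgroup G) : Set G)) = 5)
    (z : G) (hz : orderOf z = 2) (hCz : Nat.card (Subgroup.centralizer ({z} : Set G)) = 16)
    (h10 : Nat.card (Sylow 3 G) = 10) (P R : Sylow 3 G) (hPR : P ≠ R) :
    (P : Subgroup G) ⊓ (R : Subgroup G) = ⊥ := by
  classical
  by_contra hne
  have hall := h25d1_all_pairs hG h10 P R hPR hne
  have : Fintype (Sylow 3 G) := Fintype.ofFinite _
  have hcard : Fintype.card (Sylow 3 G) = 10 := by
    rw [← Nat.card_eq_fintype_card, h10]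
  have hT : ((Finset.univ : Finset (Sylow 3 G)).offDiag).card = 90 := by
    rw [Finset.offDiag_card, Finset.card_univ, hcard]
  have hsum := Finset.card_eq_sum_card_image
    (fun p : Sylow 3 G × Sylow 3 G => (p.1 : Subgroup G) ⊓ (p.2 : Subgroup G))
    ((Finset.univ : Finset (Sylow 3 G)).offDiag)
  have hfib : ∀ b ∈ ((Finset.univ : Finset (Sylow 3 G)).offDiag).image
      (fun p : Sylow 3 G × Sylow 3 G => (p.1 : Subgroup G) ⊓ (p.2 : Subgroup G)),
      (((Finset.univ : Finset (Sylow 3 G)).offDiag).filter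
        (fun p => (p.1 : Subgroup G) ⊓ (p.2 : Subgroup G) = b)).card = 12 := by
    intro b hb
    obtain ⟨⟨A, B⟩, hAB, rfl⟩ := Finset.mem_image.1 hb
    have hAB' : A ≠ B := (Finset.mem_offDiag.1 hAB).2.2
    have hblock := h25d1_block hG hC5 A B hAB' (hall A B hAB')
    have hS : ((Finset.univ : Finset (Sylow 3 G)).filter
        (fun C : Sylow 3 G => (A : Subgroup G) ⊓ (B : Subgroup G) ≤ (C : Subgroup G))).card = 4 := by
      rw [← Set.ncard_coe_finset, ← hblock]
      congr 1
      ext C
      simp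
    have heq : ((Finset.univ : Finset (Sylow 3 G)).offDiag).filter
        (fun p => (p.1 : Subgroup G) ⊓ (p.2 : Subgroup G) =
          (A : Subgroup G) ⊓ (B : Subgroup G)) =
        ((Finset.univ : Finset (Sylow 3 G)).filter
          (fun C : Sylow 3 G => (A : Subgroup G) ⊓ (B : Subgroup G) ≤ (C : Subgroup G))).offDiag := by
      ext ⟨X, Y⟩
      simp only [Finset.mem_filter, Finset.mem_offDiag, Finset.mem_univ, true_and]
      constructor
      · rintro ⟨hXY, h⟩
        exact ⟨h ▸ inf_le_left, h ▸ inf_le_right, hXY⟩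
      · rintro ⟨hX, hY, hXY⟩
        refine ⟨hXY, ?_⟩
        exact (Subgroup.eq_of_le_of_card_ge (le_inf hX hY)
          (by rw [hall X Y hXY, hall A B hAB'])).symm
    rw [heq, Finset.offDiag_card, hS]
  rw [Finset.sum_congr rfl hfib, Finset.sum_const, hT, smul_eq_mul] at hsum
  omega

end Cfsg.Agent.Lib.helper3.S496
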