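import Mathlib
import Cfsg.Prelude.Def_LieExceptional
import Cfsg.Agent.Lib.helper8.Parity
import Cfsg.Agent.Lib.helper8.SimpleEmbed
import Cfsg.Agent.Lib.helper8.SylowBasic
import Cfsg.Agent.Lib.Helper24.S496D2
import Cfsg.Agent.Lib.Helper24.S496D3
import Cfsg.Agent.Lib.helper3.S496D4
import Cfsg.Agent.Lib.Helper25.S496D1

/-!
# Project S496 (S0496), piece 720-D5 : `s720_ten`

Assembly: with ten Sylow 3-subgroups, `G` of order 720 would be a Zassenhaus group on them.
-/

set_option autoImplicit false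

namespace Cfsg.Agent.Lib.helper3.S496

open Cfsg.Agent.Lib.helper8

/-- a simple group with more than one Sylow `p`-subgroup acts faithfully on them -/
theorem h25d5_faithful {G : Type*} [Group G] [Finite G] [IsSimpleGroup G] (p : ℕ) [Fact p.Prime]
    (hn : Nat.card (Sylow p G) ≠ 1) : FaithfulSMul G (Sylow p G) := by
  have hK : ((MulAction.toPermHom G (Sylow p G)).ker).Normal := inferInstance
  have hbot : (MulAction.toPermHom G (Sylow p G)).ker = ⊥ := by
    rcases hK.eq_bot_or_eq_top with h | h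
    · exact h
    · exfalso
      apply hn
      rw [Nat.card_eq_one_iff_unique]
      obtain ⟨P⟩ : Nonempty (Sylow p G) := Sylow.nonempty
      refine ⟨⟨fun A B => ?_⟩, ⟨P⟩⟩
      obtain ⟨g, hg⟩ := MulAction.exists_smul_eq G A B
      have hgK : g ∈ (MulAction.toPermHom G (Sylow p G)).ker := h ▸ Subgroup.mem_top g
      rw [MonoidHom.mem_ker] at hgK
      have h1 := congrArg (fun σ : Equiv.Perm (Sylow p G) => σ A) hgK
      simp only [MulAction.toPermHom_apply, MulAction.toPerm_apply, Equiv.Perm.coe_one, id_eq]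
        at h1
      rw [← hg, h1]
  constructor
  intro g₁ g₂ h
  have hmem : g₁⁻¹ * g₂ ∈ (MulAction.toPermHom G (Sylow p G)).ker := by
    rw [MonoidHom.mem_ker]
    ext A
    simp only [MulAction.toPermHom_apply, MulAction.toPerm_apply, Equiv.Perm.coe_one, id_eq]
    rw [mul_smul, ← h A, inv_smul_smul]
  rw [hbot, Subgroup.mem_bot, inv_mul_eq_one] at hmem
  exact hmem

/-- a power of an element fixing a point fixes it -/
theorem h25d5_pow_fix {G X : Type*} [Group G] [MulAction G X] (g : G) (a : X) (h : g • a = a)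
    (k : ℕ) : g ^ k • a = a := by
  induction k with
  | zero => rw [pow_zero, one_smul]
  | succ k ih => rw [pow_succ, mul_smul, h, ih]

/-- with ten Sylow 3-subgroups meeting trivially, only the identity fixes three of them -/
theorem h25d5_no_three {G : Type*} [Group G] [Finite G] [IsSimpleGroup G] (hG : Nat.card G = 720)
    (h10 : Nat.card (Sylow 3 G) = 10)
    (hTI : ∀ P R : Sylow 3 G, P ≠ R → (P : Subgroup G) ⊓ (R : Subgroup G) = ⊥)
    (g : G) (A B C : Sylow 3 G) (hAB : A ≠ B) (hBC : B ≠ C) (hAC : A ≠ C)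
    (hA : g • A = A) (hB : g • B = B) (hC : g • C = C) : g = 1 := by
  have : Fact (Nat.Prime 3) := ⟨Nat.prime_three⟩
  by_contra hg1
  have hn1 : orderOf g ≠ 1 := fun h => hg1 (orderOf_eq_one_iff.1 h)
  have hn0 : orderOf g ≠ 0 := (orderOf_pos g).ne'
  obtain ⟨r, hr, hrn⟩ := Nat.exists_prime_and_dvd hn1
  obtain ⟨g', hg'⟩ : ∃ g' : G, g' = g ^ (orderOf g / r) := ⟨_, rfl⟩
  have hord : orderOf g' = r := by
    rw [hg']
    exact orderOf_pow_orderOf_div hn0 hrn
  have hA' : g' • A = A := by
    rw [hg']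
    exact h25d5_pow_fix g A hA _
  have hB' : g' • B = B := by
    rw [hg']
    exact h25d5_pow_fix g B hB _
  have hC' : g' • C = C := by
    rw [hg']
    exact h25d5_pow_fix g C hC _
  have hr720 : r ∣ 720 := by
    rw [← hG]
    exact dvd_trans hrn (orderOf_dvd_natCard g)
  have hrcases : r = 2 ∨ r = 3 ∨ r = 5 := by
    have h1 : (720 : ℕ) = 2 ^ 4 * 3 ^ 2 * 5 := by norm_num
    rw [h1] at hr720
    rcases (Nat.Prime.dvd_mul hr).1 hr720 with h | h
    · rcases (Nat.Prime.dvd_mul hr).1 h with h | h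
      · left
        exact (Nat.prime_dvd_prime_iff_eq hr Nat.prime_two).1 (hr.dvd_of_dvd_pow h)
      · right
        left
        exact (Nat.prime_dvd_prime_iff_eq hr Nat.prime_three).1 (hr.dvd_of_dvd_pow h)
    · right
      right
      exact (Nat.prime_dvd_prime_iff_eq hr Nat.prime_five).1 h
  have hNA : g' ∈ Subgroup.normalizer ((A : Subgroup G) : Set G) :=
    Sylow.smul_eq_iff_mem_normalizer.mp hA'
  have hNB : g' ∈ Subgroup.normalizer ((B : Subgroup G) : Set G) :=
    Sylow.smul_eq_iff_mem_normalizer.mp hB'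
  rcases hrcases with h | h | h
  · exact s720_invol_fix hG h10 hTI g' (by rw [hord, h]) A B C hAB hBC hAC hA' hB' hC'
  · have hp : IsPGroup 3 (Subgroup.zpowers g') := by
      apply IsPGroup.of_card (n := 1)
      rw [Nat.card_zpowers, hord, h, pow_one]
    have hmemA : g' ∈ (A : Subgroup G) := by
      have h1 := hp.inf_normalizer_sylow A
      have h2 : g' ∈ Subgroup.zpowers g' ⊓ Subgroup.normalizer ((A : Subgroup G) : Set G) :=
        ⟨Subgroup.mem_zpowers g', hNA⟩
      have h3 : g' ∈ Subgroup.zpowers g' ⊓ (A : Subgroup G) := h1 ▸ h2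
      exact h3.2
    have hmemB : g' ∈ (B : Subgroup G) := by
      have h1 := hp.inf_normalizer_sylow B
      have h2 : g' ∈ Subgroup.zpowers g' ⊓ Subgroup.normalizer ((B : Subgroup G) : Set G) :=
        ⟨Subgroup.mem_zpowers g', hNB⟩
      have h3 : g' ∈ Subgroup.zpowers g' ⊓ (B : Subgroup G) := h1 ▸ h2
      exact h3.2
    have hbot : g' ∈ (A : Subgroup G) ⊓ (B : Subgroup G) := ⟨hmemA, hmemB⟩
    rw [hTI A B hAB, Subgroup.mem_bot] at hbot
    rw [hbot, orderOf_one] at hord
    omega
  · have hcard : Nat.card (Subgroup.normalizer ((A : Subgroup G) : Set G)) = 72 := by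
      have := h8_card_normalizer_sylow 3 A
      rw [h10, hG] at this
      omega
    have hdvd := Subgroup.orderOf_dvd_natCard _ hNA
    rw [hord, h, hcard] at hdvd
    omega

/-- 720-D5 -/
theorem s720_ten {G : Type*} [Group G] [Finite G] [IsSimpleGroup G] (hG : Nat.card G = 720)
    (hC5 : ∀ P : Sylow 5 G, Nat.card (Subgroup.centralizer ((P : Subgroup G) : Set G)) = 5)
    (z : G) (hz : orderOf z = 2) (hCz : Nat.card (Subgroup.centralizer ({z} : Set G)) = 16)
    (h10 : Nat.card (Sylow 3 G) = 10) : False := by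
  classical
  have : Fact (Nat.Prime 3) := ⟨Nat.prime_three⟩
  have hnc : ¬ IsMulCommutative G := h8_not_comm_of_card (by rw [hG]; norm_num)
  have hTI : ∀ P R : Sylow 3 G, P ≠ R → (P : Subgroup G) ⊓ (R : Subgroup G) = ⊥ :=
    fun P R hPR => h25_ten_TI hG hC5 z hz hCz h10 P R hPR
  apply s720_zass hG (Ω := Sylow 3 G)
  refine ⟨h25d5_faithful 3 (by rw [h10]; norm_num), s720_two_trans hG h10 hTI, ?_, ?_, ?_⟩
  · intro g a b c hab hbc hac ha hb hc
    exact h25d5_no_three hG h10 hTI g a b c hab hbc hac ha hb hc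
  · -- the involution `z` fixes at least two points
    have hz2 : z ^ 2 = 1 := by
      rw [← hz]
      exact pow_orderOf_eq_one z
    have hz1 : z ≠ 1 := by
      intro h
      rw [h, orderOf_one] at hz
      omega
    have h4 := h8_simple_involution_fixed (X := Sylow 3 G) hnc z hz2
    rw [h10] at h4
    have hle : Nat.card (MulAction.fixedBy (Sylow 3 G) z) ≤ 10 := by
      rw [← h10]
      exact Nat.card_le_card_of_injective _ Subtype.val_injective
    have h2 : 1 < Nat.card (MulAction.fixedBy (Sylow 3 G) z) := by omega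
    have hnt : Nontrivial (MulAction.fixedBy (Sylow 3 G) z) :=
      Finite.one_lt_card_iff_nontrivial.1 h2
    obtain ⟨⟨a, ha⟩, ⟨b, hb⟩, hab⟩ := hnt
    refine ⟨z, hz1, a, b, ?_, ha, hb⟩
    intro h
    apply hab
    exact Subtype.ext h
  · intro N hN hNt
    obtain ⟨A⟩ : Nonempty (Sylow 3 G) := Sylow.nonempty
    rcases hN.eq_bot_or_eq_top with h | h
    · exfalso
      have hnt : Nontrivial (Sylow 3 G) := by
        rw [← Finite.one_lt_card_iff_nontrivial, h10]
        norm_num
      obtain ⟨B, hB⟩ := exists_ne A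
      obtain ⟨n, hn⟩ := MulAction.exists_smul_eq N A B
      have hn1 : (n : G) = 1 := (Subgroup.eq_bot_iff_forall N).1 h n n.2
      apply hB
      rw [← hn, Subgroup.smul_def, hn1, one_smul]
    · refine ⟨A, ?_⟩
      have hAcard := h24_d2_card_sylow hG A
      have hAnt : (A : Subgroup G) ≠ ⊥ := by
        intro hb
        rw [hb, Subgroup.card_bot] at hAcard
        omega
      obtain ⟨x, hxA, hx1⟩ : ∃ x : G, x ∈ (A : Subgroup G) ∧ x ≠ 1 := by
        by_contra hcon
        push Not at hcon
        exact hAnt ((Subgroup.eq_bot_iff_forall _).2 hcon)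
      intro hstab
      have hxN : x ∈ N := h ▸ Subgroup.mem_top x
      have hmem : (⟨x, hxN⟩ : N) ∈ MulAction.stabilizer N A := by
        rw [MulAction.mem_stabilizer_iff, Subgroup.smul_def]
        exact Sylow.smul_eq_iff_mem_normalizer.mpr (Subgroup.le_normalizer hxA)
      rw [hstab, Subgroup.mem_bot] at hmem
      exact hx1 (congrArg Subtype.val hmem)

end Cfsg.Agent.Lib.helper3.S496
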