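import Mathlib
import Cfsg.Agent.Lib.helper3.S5953.Defs

/-!
# S5953 row A6 (helper25): `i_two_iff`, `ord_r(q) = 2` iff `r ∣ q + 1` (`r` an odd prime).
-/

set_option autoImplicit false

namespace Cfsg.Agent.Lib.helper3.S5953

/-- `r ∣ q + 1` iff `q = -1` in `ZMod r` -/
theorem s5953a6_dvd (q r : ℕ) : r ∣ q + 1 ↔ (q : ZMod r) = -1 := by
  rw [← ZMod.natCast_eq_zero_iff, Nat.cast_add, Nat.cast_one, eq_neg_iff_add_eq_zero]

/-- A6 [S-M] ITWO: `ord_r(q) = 2` iff `r ∣ q + 1` (`r` an odd prime). -/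
theorem i_two_iff (q r : ℕ) [Fact r.Prime] (hr2 : r ≠ 2) :
    orderOf (q : ZMod r) = 2 ↔ r ∣ q + 1 := by
  rw [s5953a6_dvd]
  constructor
  · intro h
    have h1 : (q : ZMod r) ^ 2 = 1 := by rw [← h]; exact pow_orderOf_eq_one _
    have h2 : (q : ZMod r) ≠ 1 := by
      intro h3
      rw [h3, orderOf_one] at h
      omega
    have h3 : ((q : ZMod r) - 1) * ((q : ZMod r) + 1) = 0 := by linear_combination h1
    rcases mul_eq_zero.mp h3 with h4 | h4
    · exact absurd (sub_eq_zero.mp h4) h2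
    · exact eq_neg_of_add_eq_zero_left h4
  · intro h
    rw [h, orderOf_neg_one, ZMod.ringChar_zmod_n, if_neg hr2]

end Cfsg.Agent.Lib.helper3.S5953
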