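import Mathlib
import Cfsg.Agent.Lib.helper3.S5953.Defs
import Cfsg.Agent.Lib.Helper25.S5953A1
import Cfsg.Agent.Lib.Helper20.S5953T1
import Cfsg.Agent.Lib.Helper20.S5953A3
import Cfsg.Agent.Lib.Helper27.S5953T5
import Cfsg.Agent.Lib.Helper9.S5953T8
import Cfsg.Agent.Lib.Helper11.S5953T9core
import Cfsg.Agent.Lib.helper8.S5953T3
import Cfsg.Agent.Lib.Helper18.S5955T13core

/-!
# S5953 row S5 (helper25): core of `suff_abs`, with the instances of S2 (`lag_full`) and S4 (`lag_dist`) at `N = cycS r y`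
as hypotheses.  Uses the landed rows T1, T3, T5, T8, T9 core, A1, A3, A4.
-/

set_option autoImplicit false
set_option linter.unusedVariables false

namespace Cfsg.Agent.Lib.helper3.S5953

open Polynomial Module

/-- the sum of two t.i. subspaces which are orthogonal to each other is t.i. -/
theorem s5953s5_hti_sup {F : Type*} [Field F] [Fintype F] {q : ℕ} (hF : Fintype.card F = q ^ 2)
    {ι : Type*} [Fintype ι] (U W : Submodule F (ι → F)) (hU : HTI q U) (hW : HTI q W)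
    (hUW : ∀ u ∈ U, ∀ w ∈ W, hermI ι F q u w = 0) : HTI q (U ⊔ W) := by
  have hq0 : q ≠ 0 := by
    rintro rfl
    have := Fintype.card_pos (α := F)
    omega
  have hWU : ∀ w ∈ W, ∀ u ∈ U, hermI ι F q w u = 0 := by
    intro w hw u hu
    rw [hermI_conj hF u w, hUW u hu w hw, zero_pow hq0]
  intro a ha b hb
  obtain ⟨a1, ha1, a2, ha2, rfl⟩ := Submodule.mem_sup.mp ha
  obtain ⟨b1, hb1, b2, hb2, rfl⟩ := Submodule.mem_sup.mp hb
  rw [hermI_add_left, s5953t8_add_right hF, s5953t8_add_right hF, hU a1 ha1 b1 hb1,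
    hUW a1 ha1 b2 hb2, hWU a2 ha2 b1 hb1, hW a2 ha2 b2 hb2]
  simp

/-- `ord_r(|F|) = bb (ord_r q)` when `|F| = q ^ 2` -/
theorem s5953s5_ord {F : Type*} [Fintype F] {q : ℕ} (hF : Fintype.card F = q ^ 2) (r : ℕ) :
    orderOf ((Fintype.card F : ℕ) : ZMod r) = bb (orderOf (q : ZMod r)) := by
  rw [hF]
  exact ord_sq q r

/-- S5 core -/
theorem s5953s5_core {F : Type*} [Field F] [Fintype F] {p : ℕ} [Fact p.Prime] [CharP F p] {q n : ℕ}
    (hF : Fintype.card F = q ^ 2) {r : ℕ} [Fact r.Prime] (hrp : r ≠ p) (hr2 : r ≠ 2)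
    {y : Module.End F (Fin n → F)} (h : HCtx q r 1 y) (m : ℕ) (hmn : 2 * m ≤ n)
    (i b c : ℕ) (hi : i = orderOf (q : ZMod r)) (hb : b = bb i) (hc : c = cc i)
    (h1 : 2 * (m % b) ≤ n % c)
    (h2 : i % 4 ≠ 2 ∨ (r - 1) / b + 2 * (m / b) ≤ n / b)
    (hS2 : orderOf (q : ZMod r) % 4 ≠ 2 →
      ∃ T : Submodule F (Fin n → F), T ≤ cycS r y ∧ HInv y T ∧ HTI q T ∧
        2 * finrank F T = finrank F (cycS r y))
    (hS4 : Odd (orderOf ((Fintype.card F : ℕ) : ZMod r)) →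
      ∃ T : Submodule F (Fin n → F), T ≤ cycS r y ∧ HInv y T ∧ HTI q T ∧
        finrank F (cycS r y) ≤ 2 * finrank F T + (r - 1)) :
    HTId q y m := by
  obtain ⟨horth, hcompl, hfnd, hcnd⟩ := split hF hrp h
  have hbF : orderOf ((Fintype.card F : ℕ) : ZMod r) = b := by
    rw [s5953s5_ord hF r, hb, hi]
  have hbpos : 0 < b := hbF ▸ Cfsg.Agent.Lib.Helper24.el_ord_pos (F := F) r hrp
  have hipos : 1 ≤ i := by
    rcases Nat.eq_zero_or_pos i with h0 | h0
    · exfalso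
      rw [hb, h0] at hbpos
      simp [bb] at hbpos
    · exact h0
  -- the t.i. invariant subspace of the cyclotomic part
  obtain ⟨T, hTc, hT, hTti, hTdim⟩ : ∃ T : Submodule F (Fin n → F), T ≤ cycS r y ∧ HInv y T ∧
      HTI q T ∧ ((i % 4 ≠ 2 ∧ 2 * finrank F T = finrank F (cycS r y)) ∨
        (i % 4 = 2 ∧ finrank F (cycS r y) ≤ 2 * finrank F T + (r - 1))) := by
    by_cases hi4 : i % 4 = 2
    · have hodd : Odd (orderOf ((Fintype.card F : ℕ) : ZMod r)) := by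
        rw [hbF, hb]
        unfold bb
        have he : Even i := Nat.even_iff.mpr (by omega)
        rw [if_pos he]
        exact Nat.odd_iff.mpr (by omega)
      obtain ⟨T, hTc, hT, hTti, hTd⟩ := hS4 hodd
      exact ⟨T, hTc, hT, hTti, Or.inr ⟨hi4, hTd⟩⟩
    · obtain ⟨T, hTc, hT, hTti, hTd⟩ := hS2 (hi ▸ hi4)
      exact ⟨T, hTc, hT, hTti, Or.inl ⟨hi4, hTd⟩⟩
  have hcyc0 : cyclotomic r F ≠ 0 := cyclotomic_ne_zero r F
  have hdeg : ∀ P : F[X], Irreducible P → P ∣ cyclotomic r F → P.natDegree = b := by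
    intro P hP hPd
    rw [← hbF]
    exact Cfsg.Agent.Lib.Helper24.el_cyc_deg r hrp P hP hPd
  have hkill : ∀ u ∈ cycS r y, aeval y (cyclotomic r F) u = 0 := fun u hu => hu
  have hcinv : HInv y (cycS r y) := Cfsg.Agent.Lib.Helper24.el_inv_ker y _
  have hbc : b ∣ finrank F (cycS r y) :=
    Cfsg.Agent.Lib.Helper24.el_dvd_dim y (cycS r y) hcinv (cyclotomic r F) hcyc0 hkill b hbpos hdeg
  have hbt : b ∣ finrank F T :=
    Cfsg.Agent.Lib.Helper24.el_dvd_dim y T hT (cyclotomic r F) hcyc0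
      (fun u hu => hkill u (hTc hu)) b hbpos hdeg
  have hbr : b ∣ r - 1 := hbF ▸ Cfsg.Agent.Lib.Helper13.S5955.s5955h18_ord_dvd (F := F) r hrp
  have hsum : finrank F (fixS y) + finrank F (cycS r y) = n := by
    rw [Submodule.finrank_add_eq_of_isCompl hcompl, Module.finrank_fintype_fun_eq_card,
      Fintype.card_fin]
  have hhalf : 2 * finrank F T ≤ finrank F (cycS r y) :=
    s5953t9_core (cycS r y) T hTc hTti (perp_dim hF (cycS r y) T hcnd hTc)
  obtain ⟨w1, s, hw1, hs, hm⟩ := arith_suff i b c n m _ _ _ r hipos hb hc hmn hsum hbc hbt hbr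
    hhalf hTdim h1 h2
  obtain ⟨Y, hYT, hY, hYdim⟩ := Cfsg.Agent.Lib.Helper24.el_exists_dim y T hT (cyclotomic r F) hcyc0
    (fun u hu => hkill u (hTc hu)) b hdeg s hs
  obtain ⟨T1, hT1f, hT1ti, hT1dim⟩ := ti_sub hF (fixS y) hfnd w1 hw1
  have hT1 : HInv y T1 := Cfsg.Agent.Lib.Helper24.el_inv_of_le_fix y T1 hT1f
  refine ⟨T1 ⊔ Y, Cfsg.Agent.Lib.Helper24.el_inv_sup hT1 hY, ?_, ?_⟩
  · apply s5953s5_hti_sup hF T1 Y hT1ti (fun u hu v hv => hTti u (hYT hu) v (hYT hv))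
    intro u hu t ht
    exact horth u (hT1f hu) t (hTc (hYT ht))
  · have hdisj : Disjoint T1 Y := hcompl.disjoint.mono hT1f (hYT.trans hTc)
    have h3 := Submodule.finrank_sup_add_finrank_inf_eq T1 Y
    rw [disjoint_iff.mp hdisj, finrank_bot, add_zero] at h3
    rw [h3, hT1dim, hYdim, hm]

end Cfsg.Agent.Lib.helper3.S5953
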