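import Mathlib
import Cfsg.Agent.Lib.helper3.S5953.Defs
import Cfsg.Agent.Lib.Helper25.S5953S5core
import Cfsg.Agent.Lib.Lead.S5953S2
import Cfsg.Agent.Lib.Helper20.S5953S3

/-!
# S5953 row S5 (helper25): `suff_abs`, verbatim (`= s5953s5_core` + S2 `lag_full` + S4 `lag_dist`).
-/

set_option autoImplicit false

namespace Cfsg.Agent.Lib.helper3.S5953

open Polynomial Module

/-- S5 [L] SUFFABS: the sufficiency theorem for an isometry `y` with `y ^ r = 1`, `r ≠ p` odd. -/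
theorem suff_abs {F : Type*} [Field F] [Fintype F] {p : ℕ} [Fact p.Prime] [CharP F p] {q n : ℕ}
    (hF : Fintype.card F = q ^ 2) {r : ℕ} [Fact r.Prime] (hrp : r ≠ p) (hr2 : r ≠ 2)
    {y : Module.End F (Fin n → F)} (h : HCtx q r 1 y) (m : ℕ) (hmn : 2 * m ≤ n)
    (i b c : ℕ) (hi : i = orderOf (q : ZMod r)) (hb : b = bb i) (hc : c = cc i)
    (h1 : 2 * (m % b) ≤ n % c)
    (h2 : i % 4 ≠ 2 ∨ (r - 1) / b + 2 * (m / b) ≤ n / b) : HTId q y m :=
  s5953s5_core hF hrp hr2 h m hmn i b c hi hb hc h1 h2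
    (fun hi4 => lag_full hF hrp hr2 h hi4 (cycS r y) (Cfsg.Agent.Lib.Helper24.el_inv_ker y _) le_rfl
      (split hF hrp h).2.2.2)
    (fun hodd => lag_dist hF hrp h hodd (cycS r y) (Cfsg.Agent.Lib.Helper24.el_inv_ker y _) le_rfl
      (split hF hrp h).2.2.2)

end Cfsg.Agent.Lib.helper3.S5953
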