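import Mathlib
import Cfsg.Agent.Lib.Helper19.S5954.Defs
import Cfsg.Agent.Lib.helper3.S5953.Defs
import Cfsg.Agent.Lib.Lead.Unitary

/-!
# S5954 row TPN (helper25): core of `top_p_nec` (r = p, necessity), with the statements of UEXTYPE and USUB as hypotheses
and `AllFix` unfolded.  Own matrix bridge (extras `s5954tpn_*`).
-/

set_option autoImplicit false
set_option linter.unusedVariables false

namespace Cfsg.Agent.Lib.Helper19.S5954

open Polynomial Module Cfsg.Agent.Lib.Helper13.S5955 Cfsg.Agent.Lib.helper14.JTa Cfsg.Agent.Lib.Helper11.S5956U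

/-- `tyf μ j ≤ μ.sum` -/
theorem s5954tpn_tyf_le (μ : Multiset ℕ) (j : ℕ) : tyf μ j ≤ μ.sum := by
  unfold tyf
  induction μ using Multiset.induction_on with
  | empty => simp
  | cons b μ ih =>
    rw [Multiset.map_cons, Multiset.sum_cons, Multiset.sum_cons]
    have : min b j ≤ b := min_le_left _ _
    omega

/-- a type with positive parts, one of them `≠ 1`, has fewer parts than its sum -/
theorem s5954tpn_tyf_one_lt (μ : Multiset ℕ) (hpos : ∀ a ∈ μ, 0 < a) (a0 : ℕ) (ha0 : a0 ∈ μ)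
    (ha01 : a0 ≠ 1) : tyf μ 1 < μ.sum := by
  obtain ⟨μ₀, rfl⟩ := Multiset.exists_cons_of_mem ha0
  have h0 : 0 < a0 := hpos a0 ha0
  have h1 := s5954tpn_tyf_le μ₀ 1
  have h2 : tyf (a0 ::ₘ μ₀) 1 = min a0 1 + tyf μ₀ 1 := by
    unfold tyf
    rw [Multiset.map_cons, Multiset.sum_cons]
  rw [h2, Multiset.sum_cons]
  have : min a0 1 = 1 := min_eq_right h0
  omega

variable {F : Type*} [Field F]

/-- the standard sesquilinear form is the frozen hermitian form with the arguments swapped -/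
theorem s5954tpn_stdH {n q : ℕ} (σ : F →+* F) (hσ : ∀ x, σ x = x ^ q) (u v : Fin n → F) :
    stdH n σ u v = Cfsg.hermForm n F q v u :=
  Cfsg.Agent.Lib.helper6.HF.hB_apply σ hσ u v

/-- in characteristic `p` an element with `a ^ p = 1` is `1` -/
theorem s5954tpn_pow_p_eq_one {p : ℕ} [Fact p.Prime] [CharP F p] (a : F) (ha : a ^ p = 1) : a = 1 := by
  have h1 : (a - 1) ^ p = 0 := by rw [sub_pow_char, ha, one_pow, sub_self]
  exact sub_eq_zero.mp (pow_eq_zero_iff (Fact.out : p.Prime).ne_zero |>.mp h1)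

/-- realisation of a unipotent isometry of the standard space as an element of `SU` of order dividing `p` (own XREAL) -/
theorem s5954tpn_real {p : ℕ} [Fact p.Prime] [CharP F p] {n q : ℕ} (hn : 1 ≤ n)
    (σ : F →+* F) (hσ : ∀ x, σ x = x ^ q) (y : Module.End F (Fin n → F))
    (hy : HCtx p σ (stdH n σ) y) (hy1 : y ≠ 1) :
    (y - 1) ^ p = 0 ∧ ∃ x : Matrix.SpecialLinearGroup (Fin n) F, x ∈ Cfsg.SU n F q ∧
      Matrix.toLin' (x : Matrix (Fin n) (Fin n) F) = y ∧
      ((x ^ p : Matrix.SpecialLinearGroup (Fin n) F) : Matrix (Fin n) (Fin n) F) =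
        (1 : F) • (1 : Matrix (Fin n) (Fin n) F) ∧
      ∀ z : F, (x : Matrix (Fin n) (Fin n) F) ≠ z • (1 : Matrix (Fin n) (Fin n) F) := by
  have hpp : p.Prime := Fact.out
  haveI : NeZero n := ⟨by omega⟩
  haveI : CharP (Module.End F (Fin n → F)) p :=
    charP_of_injective_algebraMap
      (FaithfulSMul.algebraMap_injective F (Module.End F (Fin n → F))) p
  have hMp : (y - 1) ^ p = 0 := by
    rw [sub_pow_char_of_commute p (Commute.one_right _), hy.pow, one_pow, sub_self]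
  refine ⟨hMp, ?_⟩
  set X : Matrix (Fin n) (Fin n) F := LinearMap.toMatrix' y with hX
  have hXy : Matrix.toLin' X = y := Matrix.toLin'_toMatrix' y
  have hXp : X ^ p = 1 := by
    apply Matrix.toLin'.injective
    rw [Matrix.toLin'_pow, hXy, hy.pow, Matrix.toLin'_one]
    rfl
  have hdet : X.det = 1 := by
    apply s5954tpn_pow_p_eq_one (p := p)
    rw [← Matrix.det_pow, hXp, Matrix.det_one]
  obtain ⟨x, hx⟩ : ∃ x : Matrix.SpecialLinearGroup (Fin n) F, (x : Matrix (Fin n) (Fin n) F) = X :=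
    ⟨⟨X, hdet⟩, rfl⟩
  refine ⟨x, ?_, by rw [hx]; exact hXy, ?_, ?_⟩
  · apply Cfsg.Agent.Lib.helper3.S5953.mem_su_of_pres
    intro u v
    rw [hx]
    change Cfsg.hermForm n F q (Matrix.toLin' X u) (Matrix.toLin' X v) = Cfsg.hermForm n F q u v
    rw [hXy, ← s5954tpn_stdH σ hσ, ← s5954tpn_stdH σ hσ, hy.pres]
  · rw [Matrix.SpecialLinearGroup.coe_pow, one_smul, hx]
    exact hXp
  · intro z hz
    have hz' : X = z • (1 : Matrix (Fin n) (Fin n) F) := by rw [← hx]; exact hz
    have hyz : y = z • (1 : Module.End F (Fin n → F)) := by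
      rw [← hXy, hz', map_smul, Matrix.toLin'_one]
      rfl
    have h1 : (z ^ p) • (1 : Module.End F (Fin n → F)) = 1 := by
      have := hy.pow
      rw [hyz, _root_.smul_pow, one_pow] at this
      exact this
    have h2 : z ^ p = 1 := by
      have h3 := LinearMap.congr_fun h1 (Pi.single (0 : Fin n) (1 : F))
      have h4 := congrFun h3 (0 : Fin n)
      simpa using h4
    have h5 : z = 1 := s5954tpn_pow_p_eq_one (p := p) z h2
    apply hy1
    rw [hyz, h5, one_smul]

/-- TPN core: `top_p_nec` with `AllFix` unfolded and the statements of UEXTYPE / USUB (at `V = Fin n → F`, `B = stdH n σ`) as hypotheses -/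
theorem s5954tpn_core [Fintype F] {p : ℕ} [Fact p.Prime] [CharP F p] {q : ℕ}
    (n m : ℕ) (hn : 3 ≤ n) (hm : 1 ≤ m) (hmn : 2 * m < n)
    (σ : F →+* F) (hσ : ∀ x, σ x = x ^ q)
    (hEX : ∀ μ : Multiset ℕ, (∀ a ∈ μ, 0 < a ∧ a ≤ p) → μ.sum = n →
      ∃ y : Module.End F (Fin n → F), HCtx p σ (stdH n σ) y ∧ ∀ j, dk (y - 1) j = tyf μ j)
    (hSUB : ∀ y : Module.End F (Fin n → F), HCtx p σ (stdH n σ) y → (y - 1) ^ p = 0 →
      ∀ μ : Multiset ℕ, (∀ a ∈ μ, 0 < a) → (∀ j, dk (y - 1) j = tyf μ j) →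
      ∀ W : Submodule F (Fin n → F), SInv y W → HND (stdH n σ) W →
        ∃ ν : Multiset ℕ, ν ≤ μ ∧ ν.sum = finrank F W)
    (h : ∀ x : Matrix.SpecialLinearGroup (Fin n) F, x ∈ Cfsg.SU n F q →
      (∃ z : F, ((x ^ p : Matrix.SpecialLinearGroup (Fin n) F) : Matrix (Fin n) (Fin n) F) =
        z • (1 : Matrix (Fin n) (Fin n) F)) →
      (∀ z : F, (x : Matrix (Fin n) (Fin n) F) ≠ z • (1 : Matrix (Fin n) (Fin n) F)) →
      Fixes n m q (x : Matrix (Fin n) (Fin n) F)) :
    PCh p n m := by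
  intro μ hμp hμs
  by_cases hall1 : ∀ a ∈ μ, a = 1
  · have hμ : μ = Multiset.replicate (Multiset.card μ) 1 := Multiset.eq_replicate_card.mpr hall1
    have hcard : Multiset.card μ = n := by
      rw [hμ] at hμs
      simpa using hμs
    refine ⟨Multiset.replicate m 1, ?_, by simp⟩
    rw [hμ, hcard]
    exact (Multiset.replicate_le_replicate 1).mpr (by omega)
  · push Not at hall1
    obtain ⟨a0, ha0, ha01⟩ := hall1
    obtain ⟨y, hy, hdk⟩ := hEX μ hμp hμs
    have hy1 : y ≠ 1 := by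
      intro h1
      have h2 := hdk 1
      rw [h1, sub_self] at h2
      have h3 : dk (0 : Module.End F (Fin n → F)) 1 = n := by
        unfold dk
        rw [pow_one, LinearMap.ker_zero, finrank_top, Module.finrank_fintype_fun_eq_card,
          Fintype.card_fin]
      have h4 := s5954tpn_tyf_one_lt μ (fun a ha => (hμp a ha).1) a0 ha0 ha01
      omega
    obtain ⟨hMp, x, hxSU, hxy, hxp, hxns⟩ := s5954tpn_real (by omega) σ hσ y hy hy1
    obtain ⟨W, hWm, hWnd, hWx⟩ := h x hxSU ⟨1, hxp⟩ hxns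
    rw [hxy] at hWx
    have hWinv : SInv y W := fun w hw => hWx (Submodule.mem_map_of_mem hw)
    have hWnd' : HND (stdH n σ) W := by
      intro u hu hu0
      by_contra hne
      obtain ⟨v, hv, hv0⟩ := hWnd u hu hne
      apply hv0
      rw [← s5954tpn_stdH σ hσ, ← hy.symm, hu0 v hv, map_zero]
    obtain ⟨ν, hν, hνs⟩ := hSUB y hy hMp μ (fun a ha => (hμp a ha).1) hdk W hWinv hWnd'
    exact ⟨ν, hν, by rw [hνs, hWm]⟩

end Cfsg.Agent.Lib.Helper19.S5954
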