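import Mathlib
import Cfsg.Agent.Lib.Helper19.S5954.DefsTop
import Cfsg.Agent.Lib.Helper25.S5954TPNcore
import Cfsg.Agent.Lib.helper4.S5954UEXTYPEcore
import Cfsg.Agent.Lib.helper14.S5954UBLK
import Cfsg.Agent.Lib.Helper20.S5954USUBcore
import Cfsg.Agent.Lib.Helper10.S5954UPEEL
import Cfsg.Agent.Lib.Helper29.S5954USTRUCT

/-!
# S5954 row TPN (helper25): `top_p_nec` (r = p, necessity), verbatim from `S5954/SkelTop.lean.txt`.
`= s5954tpn_core` + UEXTYPE (helper4's core + helper14's `h_blk`) + USUB (helper20's core + helper10's `h_peel` + helper29's `h_struct`).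
-/

set_option autoImplicit false
set_option linter.unusedVariables false
set_option linter.unusedSectionVars false

namespace Cfsg.Agent.Lib.Helper19.S5954

open Cfsg.Agent.Lib.helper3.S5953 (cc)
open Polynomial Module Cfsg.Agent.Lib.Helper13.S5955 Cfsg.Agent.Lib.helper14.JTa Cfsg.Agent.Lib.Helper11.S5956U

variable {F : Type*} [Field F] [Fintype F] {p : ℕ} [Fact p.Prime] [CharP F p] {q : ℕ}

/-- TPN [M] (r = p, necessity; `μ` all ones: `ν = replicate m 1`; else UEXTYPE gives `y` of type `μ`, `y ≠ 1`, XREAL gives `x ∈ SU` (`det = 1`: unipotent),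
not scalar (a scalar unipotent is 1), `x ^ p = 1`; `AllFix` gives `W`, XCTX + USUB give `ν`). -/
theorem top_p_nec (hq : Fintype.card F = q ^ 2) (n m : ℕ) (hn : 3 ≤ n) (hm : 1 ≤ m) (hmn : 2 * m < n)
    (h : AllFix F n m q p) : PCh p n m := by
  obtain ⟨σ, hσ⟩ := Cfsg.Agent.Lib.Lead.exists_frob hq
  have hσσ : ∀ a, σ (σ a) = a := Cfsg.Agent.Lib.Lead.frob_frob hq σ hσ
  have hne : ∃ a, σ a ≠ a := by
    obtain ⟨δ, hδ⟩ := Cfsg.Agent.Lib.Lead.HI.exists_not_fixed hq
    exact ⟨δ, by rw [hσ]; exact hδ⟩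
  have hp0 : 0 < p := (Fact.out : p.Prime).pos
  refine s5954tpn_core n m hn hm hmn σ hσ ?_ ?_ h
  · intro μ hμ hs
    exact s5954uextype_core σ hσσ hne (fun s hs hsp => h_blk σ hσσ hne s hs hsp) μ hμ n hs
  · intro y hy hM μ hμ0 hμ W hW hWnd
    have htopinv : SInv y (⊤ : Submodule F (Fin n → F)) := fun _ _ => trivial
    have htopnd : HND (stdH n σ) (⊤ : Submodule F (Fin n → F)) :=
      fun u _ hu => hy.nd u (fun v => hu v trivial)
    exact s5954usub_core hp0 hy p hM μ hμ0 hμ W hW hWnd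
      (h_peel hp0 hy ⊤ W htopinv htopnd le_top hW hWnd)
      (h_struct hp0 hy p hM W hW hWnd)

end Cfsg.Agent.Lib.Helper19.S5954
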