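import Mathlib
import Cfsg.Agent.Lib.Helper25.S5955R4core
import Cfsg.Agent.Lib.Helper20.S5955R1
import Cfsg.Agent.Lib.Helper16.S5955R2
import Cfsg.Agent.Lib.Helper16.S5955R3h16

set_option autoImplicit false

/-! S5955 row R4 (TWOSUFF), verbatim: sufficiency for `r = 2` in matrix form. -/

namespace Cfsg.Agent.Lib.Helper13.S5955

open Polynomial Module

/-- R4 [M] TWOSUFF: sufficiency for `r = 2` in matrix form. -/
theorem two_suff {F : Type*} [Field F] [Fintype F] (h2 : (2 : F) ≠ 0) (d m : ℕ) (hd : 1 ≤ d)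
    (hm : m ≤ d) (hcond : Even m ∨ Fintype.card F % 4 = 1)
    (x : ↥(Matrix.symplecticGroup (Fin d) F)) (z : F)
    (hx : ((x ^ 2 : ↥(Matrix.symplecticGroup (Fin d) F)) :
      Matrix (Fin d ⊕ Fin d) (Fin d ⊕ Fin d) F) = z • (1 : Matrix (Fin d ⊕ Fin d) (Fin d ⊕ Fin d) F)) :
    ∃ W : Submodule F (Fin d ⊕ Fin d → F), Module.finrank F ↥W = m ∧
      (∀ u ∈ W, ∀ v ∈ W, Cfsg.sympForm d F u v = 0) ∧
      W.map (Matrix.toLin' (x : Matrix (Fin d ⊕ Fin d) (Fin d ⊕ Fin d) F)) ≤ W := by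
  have hV : finrank F (Fin d ⊕ Fin d → F) = 2 * d := by
    rw [Module.finrank_fintype_fun_eq_card, Fintype.card_sum, Fintype.card_fin]
    ring
  exact s5955r4_core d m hd hcond
    (fun y hy => invol_suff h2 hy d m hV hm)
    (fun y hy hyy ι hι => sqneg_suff_sq h2 hy hyy ι hι d m hV hm)
    (fun y hy hyy hme => s5955r3_h16_sqneg_suff_even h2 hy hyy d m hV hm hme)
    x z hx

end Cfsg.Agent.Lib.Helper13.S5955
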