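import Mathlib
import Cfsg.Agent.Lib.helper3.S5956.Defs
import Cfsg.Agent.Lib.Helper20.S5956O7
import Cfsg.Agent.Lib.Helper21.S5955N10w
import Cfsg.Agent.Lib.Helper24.ElD
import Cfsg.Agent.Lib.Helper24.ElH

/-!
# Project S5956, row O8 (NECODD): necessity for odd `r ≠ p`
-/

set_option autoImplicit false
set_option linter.unusedVariables false

namespace Cfsg.Agent.Lib.helper3.S5956

open Polynomial Module
open Cfsg.Agent.Lib.Helper13.S5955 Cfsg.Agent.Lib.Helper24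

/-- the arithmetic of O8 -/
theorem s5956o8_arith (c d m j w0 b : ℕ) (hc0 : 0 < c) (hjm : 2 * j < m) (hmd : m ≤ 2 * d)
    (hcj : c ∣ 2 * (d - j)) (hm : m = w0 + c * b) (hw0 : w0 ≤ (2 * d) % c) :
    c ≤ m ∧ m % c ≤ (2 * d) % c := by
  have hlt : (2 * d) % c < c := Nat.mod_lt _ hc0
  have hw0c : w0 < c := lt_of_le_of_lt hw0 hlt
  have hmod : m % c = w0 := by
    rw [hm, Nat.add_mul_mod_self_left, Nat.mod_eq_of_lt hw0c]
  refine ⟨?_, by rw [hmod]; exact hw0⟩
  by_contra hlt'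
  push Not at hlt'
  have hb : b = 0 := by
    by_contra hb
    have : c * 1 ≤ c * b := Nat.mul_le_mul_left c (Nat.one_le_iff_ne_zero.mpr hb)
    omega
  have hmw : m = w0 := by rw [hm, hb, mul_zero, add_zero]
  have h2d : 2 * d = 2 * (d - j) + 2 * j := by omega
  have hmod2 : (2 * d) % c = (2 * j) % c := by
    obtain ⟨k, hk⟩ := hcj
    rw [h2d, hk, Nat.add_comm, Nat.add_mul_mod_self_left]
  have : (2 * j) % c ≤ 2 * j := Nat.mod_le _ _
  omega

/-- O8 [M] NECODD: necessity for odd `r ≠ p` (bad element = S5955 N10 `maxel`). -/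
theorem nec_odd {F : Type*} [Field F] [Fintype F] {p : ℕ} [Fact p.Prime] [CharP F p]
    (r : ℕ) [Fact r.Prime] (hrp : r ≠ p) (hr2 : r ≠ 2) (d m i c : ℕ)
    (hi : i = orderOf ((Fintype.card F : ℕ) : ZMod r)) (hc : c = if Even i then i else 2 * i)
    (hm : 2 ≤ m) (hmd : m ≤ 2 * d)
    (hj : ∃ j : ℕ, 2 * j < m ∧ r ∣ Fintype.card F ^ (2 * (d - j)) - 1)
    (hall : ∀ y : Module.End F (Fin d ⊕ Fin d → F), SCtx r (stdB d F) y → y ≠ 1 →
      NDd (stdB d F) y m) :
    c ≤ m ∧ m % c ≤ (2 * d) % c := by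
  have hq1 : 1 ≤ Fintype.card F := Fintype.card_pos
  have hipos : 0 < i := by
    rw [hi]
    exact Cfsg.Agent.Lib.Helper24.el_ord_pos (F := F) (p := p) r hrp
  obtain ⟨j, hjm, hjr⟩ := hj
  have hjd : i ∣ 2 * (d - j) := by
    rw [hi]
    exact (Cfsg.Agent.Lib.Helper24.el_ord_dvd_iff (Fintype.card F) r (2 * (d - j)) hq1).mp hjr
  have hdj : 1 ≤ d - j := by omega
  have hcj : c ∣ 2 * (d - j) := by
    by_cases hie : Even i
    · rw [hc, if_pos hie]
      exact hjd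
    · rw [hc, if_neg hie]
      have hio : Odd i := Nat.not_even_iff_odd.mp hie
      have hcop : Nat.Coprime i 2 := by
        rw [Nat.coprime_comm, Nat.coprime_two_left]
        exact hio
      have hdvd : i ∣ d - j := hcop.dvd_of_dvd_mul_left hjd
      exact Nat.mul_dvd_mul_left 2 hdvd
  have hc0 : 0 < c := Nat.pos_of_dvd_of_pos hcj (by omega)
  have hcd : c ≤ 2 * d := by
    have := Nat.le_of_dvd (by omega) hcj
    omega
  obtain ⟨y, hy, hy1, hfix⟩ := maxel r hrp hr2 d i c hi hc hcd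
  obtain ⟨W, hWinv, hWnd, hWdim⟩ := hall y hy hy1
  obtain ⟨w0, b, hWeq, hw0⟩ := nec_dim_nd hrp hy i c hi hc W hWinv hWnd
  rw [hWdim] at hWeq
  rw [hfix] at hw0
  exact s5956o8_arith c d m j w0 b hc0 hjm hmd hcj hWeq hw0

end Cfsg.Agent.Lib.helper3.S5956
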