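import Mathlib
import Cfsg.Agent.Lib.Helper29.S5981.DefsD
import Cfsg.Agent.Lib.Helper16.OClass1

set_option autoImplicit false
set_option linter.unusedVariables false
set_option linter.unusedSectionVars false

/-! # Project S5981, row D1 (`classify_even`) -/

namespace Cfsg.Agent.Lib.Helper29.S5981

open scoped MatrixGroups Matrix
open Module Cfsg.Agent.Lib.Helper16

variable {F : Type*} [Field F] [Fintype F]

theorem classify_even {q : ℕ} (hq : Fintype.card F = q) (hodd : Odd q) (n m : ℕ) (hm : 1 ≤ m) (hnm : n = 2 * m)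
    (Q : (Fin n → F) → F) (hQ : Cfsg.Geo.IsNondegenerateQuadraticForm Q) :
    IsPlusType n m Q ∨ IsMinusType n m Q := by
  classical
  let Q' : QuadraticForm F (Fin n → F) :=
    QuadraticMap.ofPolar Q (fun a x => by rw [hQ.smul, pow_two, smul_eq_mul])
      (fun x x' y => hQ.polar_bilinear.add_left x x' y)
      (fun a x y => by rw [hQ.polar_bilinear.smul_left, smul_eq_mul])
  have hQ'nd : (QuadraticMap.polarBilin Q').Nondegenerate := by
    constructor
    · intro u hu
      by_contra hne
      obtain ⟨-, w, hw⟩ := hQ.nondegenerate u hne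
      exact hw (hu w)
    · intro u hu
      by_contra hne
      obtain ⟨⟨w, hw⟩, -⟩ := hQ.nondegenerate u hne
      exact hw (hu w)
  have hcard : Fintype.card (Fin n) = 2 * m := by rw [Fintype.card_fin, hnm]
  rcases OSemi.classify hm hcard Q' hQ'nd with ⟨Φ, hΦ⟩ | ⟨ζ, hζ, Φ, hΦ⟩
  · left
    exact ⟨Φ, hΦ⟩
  · right
    exact ⟨ζ, hζ, Φ, hΦ⟩

end Cfsg.Agent.Lib.Helper29.S5981
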