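import Mathlib
import Cfsg.Agent.Lib.Helper29.S5981.Defs
import Cfsg.Agent.Lib.Helper25.EXCZcore

set_option autoImplicit false
set_option linter.unusedVariables false
set_option linter.unusedSectionVars false

/-! # Project S5981, row F1 (`f_scalar_one`) -/

namespace Cfsg.Agent.Lib.Helper29.S5981

open scoped MatrixGroups Matrix
open Polynomial

variable {F : Type*} [Field F] [Fintype F]

theorem f_scalar_one {q : ℕ} (hq : Fintype.card F = q) (r : ℕ) [Fact r.Prime] (hr2 : r ≠ 2)
    (hv : padicValNat r (q - 1) = 1) (x : GL (Fin r) F) (hx : x ∈ Cfsg.Geo.specialLinear (Fin r) F) (z : F)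
    (hz : ((x ^ r : GL (Fin r) F) : Matrix (Fin r) (Fin r) F) = z • (1 : Matrix (Fin r) (Fin r) F)) : z = 1 := by
  subst hq
  exact Cfsg.Agent.Lib.Helper25.EXCZ.excz_gl r (Fact.out) hr2 hv x (MonoidHom.mem_ker.mp hx) z hz

end Cfsg.Agent.Lib.Helper29.S5981
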