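import Mathlib
import Cfsg.Agent.Lib.Helper29.S5981.Defs
import Cfsg.Agent.Lib.Helper16.PGLr5

set_option autoImplicit false
set_option linter.unusedVariables false
set_option linter.unusedSectionVars false

/-! # Project S5981, row F2 (`f_charpoly`) -/

namespace Cfsg.Agent.Lib.Helper29.S5981

open scoped MatrixGroups Matrix
open Polynomial

/-- a primitive `r`-th root of unity in a finite field with `r ∣ q - 1` -/
theorem s5981f2_prim {F : Type*} [Field F] [Fintype F] (r : ℕ) [Fact r.Prime]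
    (h1 : r ∣ Fintype.card F - 1) : ∃ ω : F, IsPrimitiveRoot ω r := by
  classical
  have h2 : r ∣ Fintype.card Fˣ := by rw [Fintype.card_units]; exact h1
  obtain ⟨u, hu⟩ := exists_prime_orderOf_dvd_card r h2
  refine ⟨(u : F), ?_⟩
  have hu' : IsPrimitiveRoot u r := IsPrimitiveRoot.iff_orderOf.mpr hu
  exact hu'.map_of_injective (f := Units.coeHom F) Units.val_injective

/-- matrix form of F2 -/
theorem s5981f2_core {F : Type*} [Field F] [Fintype F] (r : ℕ) [Fact r.Prime] (ω : F)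
    (hω : IsPrimitiveRoot ω r) (x : Matrix (Fin r) (Fin r) F) (hdet : x.det = 1)
    (hxr : x ^ r = 1) :
    ∃ a : Fin r → ZMod r,
      x.charpoly = ∏ j, (X - C (ω ^ (a j).val)) ∧ ∑ j, a j = 0 := by
  classical
  have hrpos : 0 < r := (Fact.out : r.Prime).pos
  haveI : NeZero r := ⟨hrpos.ne'⟩
  obtain ⟨P, χ, hP, hχ, hxP⟩ := Cfsg.Agent.Lib.Helper16.PGLR.exists_diag x r hrpos ω hω hxr
  have hch : ∀ i, ∃ j : ZMod r, Cfsg.Agent.Lib.Helper16.PGLR.ev ω j = χ i := fun i =>
    Cfsg.Agent.Lib.Helper16.PGLR.ev_surj ω hω (χ i) (hχ i)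
  choose a ha using hch
  have ha' : ∀ i, ω ^ (a i).val = χ i := ha
  -- `x = P * diagonal χ * P⁻¹`
  let Pu : (Matrix (Fin r) (Fin r) F)ˣ := ((Matrix.isUnit_iff_isUnit_det P).mpr hP).unit
  have hPu : (Pu : Matrix (Fin r) (Fin r) F) = P := rfl
  have hx : x = (Pu : Matrix (Fin r) (Fin r) F) * Matrix.diagonal χ *
      ((Pu : Matrix (Fin r) (Fin r) F))⁻¹ := by
    rw [hPu, ← hxP, Matrix.mul_assoc, Matrix.mul_nonsing_inv P hP, Matrix.mul_one]
  refine ⟨a, ?_, ?_⟩
  · rw [hx, Matrix.charpoly_units_conj, Matrix.charpoly_diagonal]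
    apply Finset.prod_congr rfl
    intro j _
    rw [ha']
  · have hd : (Matrix.diagonal χ).det = 1 := by
      have h2 : x.det = (Matrix.diagonal χ).det := by
        have hx2 : x = (Pu : Matrix (Fin r) (Fin r) F) * Matrix.diagonal χ *
            ((Pu⁻¹ : (Matrix (Fin r) (Fin r) F)ˣ) : Matrix (Fin r) (Fin r) F) := by
          rw [hx]
          congr 1
          exact (Matrix.coe_units_inv Pu).symm
        rw [hx2, Matrix.det_units_conj]
      rw [← h2, hdet]
    rw [Matrix.det_diagonal] at hd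
    have h3 : ω ^ (∑ j, (a j).val) = 1 := by
      rw [← Finset.prod_pow_eq_pow_sum]
      rw [← hd]
      apply Finset.prod_congr rfl
      intro j _
      exact ha' j
    have h4 : r ∣ ∑ j, (a j).val := (hω.pow_eq_one_iff_dvd _).mp h3
    have h5 : ((∑ j, (a j).val : ℕ) : ZMod r) = 0 := (ZMod.natCast_eq_zero_iff _ _).mpr h4
    rw [Nat.cast_sum] at h5
    rw [← h5]
    apply Finset.sum_congr rfl
    intro j _
    exact (ZMod.natCast_zmod_val (a j)).symm

variable {F : Type*} [Field F] [Fintype F]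

theorem f_charpoly {q : ℕ} (hq : Fintype.card F = q) (r : ℕ) [Fact r.Prime] (h1 : r ∣ q - 1)
    (x : GL (Fin r) F) (hx : x ∈ Cfsg.Geo.specialLinear (Fin r) F) (hxr : x ^ r = 1) :
    ∃ ω : F, ω ^ r = 1 ∧ ∃ a : Fin r → ZMod r,
      (x : Matrix (Fin r) (Fin r) F).charpoly = ∏ j, (X - C (ω ^ (a j).val)) ∧ ∑ j, a j = 0 := by
  subst hq
  obtain ⟨ω, hω⟩ := s5981f2_prim (F := F) r h1
  refine ⟨ω, hω.pow_eq_one, ?_⟩
  apply s5981f2_core r ω hω (x : Matrix (Fin r) (Fin r) F)
  · have h := congrArg (fun u : Fˣ => (u : F)) (MonoidHom.mem_ker.mp hx)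
    simpa using h
  · rw [← Units.val_pow_eq_pow_val, hxr]
    rfl

end Cfsg.Agent.Lib.Helper29.S5981
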