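import Mathlib
import Cfsg.Agent.Lib.Helper29.S5981.Defs
import Cfsg.Agent.S2618

set_option autoImplicit false
set_option linter.unusedVariables false
set_option linter.unusedSectionVars false

/-! # Project S5981, row F4 (`f_sim_of_sym`): a diagonalisable similarity with a symmetric spectrum -/

namespace Cfsg.Agent.Lib.Helper29.S5981

open scoped MatrixGroups Matrix
open Polynomial

/-- the combinatorial part: an involution of `Fin r` with exactly one fixed point `j0` gives a labelling of `Fin r`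
by `Unit ⊕ (Fin m ⊕ Fin m)` (fixed point, representatives of the 2-cycles, their images) -/
theorem s5981f4_equiv (r : ℕ) (j0 : Fin r) (σ : Equiv.Perm (Fin r)) (hσ : ∀ j, σ (σ j) = j)
    (hfix : ∀ j, σ j = j ↔ j = j0) :
    ∃ (m : ℕ) (ε : Unit ⊕ (Fin m ⊕ Fin m) ≃ Fin r), r = 2 * m + 1 ∧ ε (Sum.inl ()) = j0 ∧
      ∀ i, ε (Sum.inr (Sum.inr i)) = σ (ε (Sum.inr (Sum.inl i))) := by
  classical
  let T := {j : Fin r // j < σ j}
  let ε' : Unit ⊕ (T ⊕ T) → Fin r :=
    Sum.elim (fun _ => j0) (Sum.elim (fun t => t.1) (fun t => σ t.1))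
  have hj0 : σ j0 = j0 := (hfix j0).mpr rfl
  have hT0 : ∀ t : T, t.1 ≠ j0 := by
    intro t h
    have := t.2
    rw [h, hj0] at this
    exact lt_irrefl _ this
  have hT1 : ∀ t : T, σ t.1 ≠ j0 := by
    intro t h
    have h1 : σ (σ t.1) = σ j0 := by rw [h]
    rw [hσ, hj0] at h1
    exact hT0 t h1
  have hT2 : ∀ t s : T, t.1 ≠ σ s.1 := by
    intro t s h
    have h1 := t.2
    have h2 := s.2
    rw [h, hσ] at h1
    exact lt_asymm h1 h2
  have hinj : Function.Injective ε' := by
    rintro (u | t | t) (u' | s | s) h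
    · rfl
    · exact absurd h.symm (hT0 s)
    · exact absurd h.symm (hT1 s)
    · exact absurd h (hT0 t)
    · have : t = s := Subtype.ext h
      rw [this]
    · exact absurd h (hT2 t s)
    · exact absurd h (hT1 t)
    · exact absurd h.symm (hT2 s t)
    · have h1 : t.1 = s.1 := σ.injective h
      have : t = s := Subtype.ext h1
      rw [this]
  have hsurj : Function.Surjective ε' := by
    intro j
    by_cases hj : j = j0
    · exact ⟨Sum.inl (), hj.symm⟩
    · have hne : σ j ≠ j := fun h => hj ((hfix j).mp h)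
      rcases lt_or_gt_of_ne hne with h | h
      · refine ⟨Sum.inr (Sum.inr ⟨σ j, ?_⟩), ?_⟩
        · rw [hσ]
          exact h
        · exact hσ j
      · exact ⟨Sum.inr (Sum.inl ⟨j, h⟩), rfl⟩
  have hcard : Fintype.card (Unit ⊕ (T ⊕ T)) = Fintype.card (Fin r) :=
    Fintype.card_of_bijective ⟨hinj, hsurj⟩
  rw [Fintype.card_sum, Fintype.card_sum, Fintype.card_unit, Fintype.card_fin] at hcard
  let φ : Fin (Fintype.card T) ≃ T := (Fintype.equivFin T).symm
  refine ⟨Fintype.card T, (Equiv.sumCongr (Equiv.refl Unit) (Equiv.sumCongr φ φ)).trans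
    (Equiv.ofBijective ε' ⟨hinj, hsurj⟩), by omega, rfl, ?_⟩
  intro i
  rfl

/-- the linear algebra part: in a Witt basis the diagonal map with eigenvalues `e`, `e₀² = e_i e_i' = μ`, multiplies the
form by `μ` -/
theorem s5981f4_lin {F : Type*} [Field F] (h2 : (2 : F) ≠ 0) {V : Type*} [AddCommGroup V] [Module F V]
    {m : ℕ} (Q : QuadraticForm F V) (b : Module.Basis (Unit ⊕ (Fin m ⊕ Fin m)) F V)
    (hb1 : ∀ i, QuadraticMap.polar ⇑Q (b (Sum.inl ())) (b (Sum.inr (Sum.inl i))) = 0 ∧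
      QuadraticMap.polar ⇑Q (b (Sum.inl ())) (b (Sum.inr (Sum.inr i))) = 0)
    (hb3 : ∀ i j, QuadraticMap.polar ⇑Q (b (Sum.inr (Sum.inl i))) (b (Sum.inr (Sum.inr j))) =
      if i = j then 1 else 0)
    (hb4 : ∀ i j, QuadraticMap.polar ⇑Q (b (Sum.inr (Sum.inl i))) (b (Sum.inr (Sum.inl j))) = 0 ∧
      QuadraticMap.polar ⇑Q (b (Sum.inr (Sum.inr i))) (b (Sum.inr (Sum.inr j))) = 0)
    (e : Unit ⊕ (Fin m ⊕ Fin m) → F) (μ : F) (he0 : e (Sum.inl ()) * e (Sum.inl ()) = μ)
    (hepair : ∀ i, e (Sum.inr (Sum.inl i)) * e (Sum.inr (Sum.inr i)) = μ) (v : V) :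
    Q (Matrix.toLin b b (Matrix.diagonal e) v) = μ * Q v := by
  classical
  set y : V →ₗ[F] V := Matrix.toLin b b (Matrix.diagonal e) with hy
  have hyb : ∀ k, y (b k) = e k • b k := by
    intro k
    rw [hy, Matrix.toLin_self, Finset.sum_eq_single k]
    · rw [Matrix.diagonal_apply_eq]
    · intro j _ hjk
      rw [Matrix.diagonal_apply_ne _ hjk, zero_smul]
    · intro h
      exact absurd (Finset.mem_univ k) h
  let B : LinearMap.BilinForm F V := QuadraticMap.polarBilin Q
  have hBa : ∀ u w, B u w = QuadraticMap.polar ⇑Q u w := fun u w => rfl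
  have hsymm : ∀ u w, B u w = B w u := fun u w => QuadraticMap.polar_comm _ _ _
  have hbil : B.compl₁₂ y y = μ • B := by
    apply LinearMap.BilinForm.ext_basis b
    intro k l
    rw [LinearMap.compl₁₂_apply, hyb, hyb, map_smul, map_smul, LinearMap.smul_apply,
      LinearMap.smul_apply, LinearMap.smul_apply, smul_eq_mul, smul_eq_mul, smul_eq_mul]
    rcases k with u | i | i <;> rcases l with u' | j | j
    · rw [← he0]; ring
    · rw [hBa, (hb1 j).1]; ring
    · rw [hBa, (hb1 j).2]; ring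
    · rw [hsymm, hBa, (hb1 i).1]; ring
    · rw [hBa, (hb4 i j).1]; ring
    · rw [hBa, hb3]
      by_cases hij : i = j
      · rw [if_pos hij, ← hepair i, hij]; ring
      · rw [if_neg hij]; ring
    · rw [hsymm, hBa, (hb1 i).2]; ring
    · rw [hsymm, hBa, hb3]
      by_cases hij : j = i
      · rw [if_pos hij, ← hepair i, hij]; ring
      · rw [if_neg hij]; ring
    · rw [hBa, (hb4 i j).2]; ring
  have h1 : B (y v) (y v) = μ * B v v := by
    have := LinearMap.congr_fun (LinearMap.congr_fun hbil v) v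
    rw [LinearMap.compl₁₂_apply, LinearMap.smul_apply, LinearMap.smul_apply, smul_eq_mul] at this
    exact this
  rw [hBa, hBa, QuadraticMap.polar_self, QuadraticMap.polar_self, two_smul, two_smul] at h1
  have h3 : (2 : F) * Q (y v) = 2 * (μ * Q v) := by
    rw [two_mul, h1]; ring
  exact mul_left_cancel₀ h2 h3

variable {F : Type*} [Field F] [Fintype F]

theorem s5981f4_two_ne (hodd : Odd (Fintype.card F)) : (2 : F) ≠ 0 := by
  apply Ring.two_ne_zero
  intro h
  have h1 := FiniteField.even_card_iff_char_two.mp h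
  obtain ⟨t, ht⟩ := hodd
  omega

theorem f_sim_of_sym {q : ℕ} (hq : Fintype.card F = q) (hodd : Odd q) (r : ℕ) (hr : Odd r) (hr3 : 3 ≤ r)
    (Q : (Fin r → F) → F) (hQ : Cfsg.Geo.IsNondegenerateQuadraticForm Q) (d : Fin r → F) (hd : ∀ j, d j ^ r = 1)
    (j0 : Fin r) (σ : Equiv.Perm (Fin r)) (hσ : ∀ j, σ (σ j) = j) (hfix : ∀ j, σ j = j ↔ j = j0)
    (hsym : ∀ j, d j * d (σ j) = d j0 ^ 2) :
    ∃ y : GL (Fin r) F, y ∈ Cfsg.Geo.quadSimilarityGroup Q ∧ y ^ r = 1 ∧
      (y : Matrix (Fin r) (Fin r) F).charpoly = ∏ j, (X - C (d j)) := by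
  classical
  subst hq
  have h2 : (2 : F) ≠ 0 := s5981f4_two_ne hodd
  have hr0 : r ≠ 0 := by omega
  -- the quadratic form as a `QuadraticForm`
  let Q' : QuadraticForm F (Fin r → F) :=
    QuadraticMap.ofPolar Q (fun a x => by rw [hQ.smul, pow_two, smul_eq_mul])
      (fun x x' y => hQ.polar_bilinear.add_left x x' y)
      (fun a x y => by rw [hQ.polar_bilinear.smul_left, smul_eq_mul])
  have hQ'coe : ⇑Q' = Q := rfl
  have hQ'nd : (QuadraticMap.polarBilin Q').Nondegenerate := by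
    constructor
    · intro u hu
      by_contra hne
      obtain ⟨-, w, hw⟩ := hQ.nondegenerate u hne
      exact hw (hu w)
    · intro u hu
      by_contra hne
      obtain ⟨⟨w, hw⟩, -⟩ := hQ.nondegenerate u hne
      exact hw (hu w)
  obtain ⟨m, ε, hrm, hε0, hεσ⟩ := s5981f4_equiv r j0 σ hσ hfix
  have hV : Module.finrank F (Fin r → F) = 2 * m + 1 := by
    rw [Module.finrank_fin_fun, hrm]
  obtain ⟨b, -, hb1, -, hb3, hb4⟩ := Cfsg.Agent.S2618.result hV Q' hQ'nd
  let e : Unit ⊕ (Fin m ⊕ Fin m) → F := fun k => d (ε k)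
  let μ : F := d j0 ^ 2
  have he0 : e (Sum.inl ()) * e (Sum.inl ()) = μ := by
    change d (ε (Sum.inl ())) * d (ε (Sum.inl ())) = d j0 ^ 2
    rw [hε0, pow_two]
  have hepair : ∀ i, e (Sum.inr (Sum.inl i)) * e (Sum.inr (Sum.inr i)) = μ := by
    intro i
    change d (ε (Sum.inr (Sum.inl i))) * d (ε (Sum.inr (Sum.inr i))) = d j0 ^ 2
    rw [hεσ, hsym]
  set yl : (Fin r → F) →ₗ[F] (Fin r → F) := Matrix.toLin b b (Matrix.diagonal e) with hyl
  have hsim : ∀ v, Q (yl v) = μ * Q v := fun v =>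
    s5981f4_lin h2 Q' b hb1 hb3 hb4 e μ he0 hepair v
  have hylr : yl ^ r = 1 := by
    rw [hyl, ← Matrix.toLin_pow, Matrix.diagonal_pow]
    have : (e ^ r) = fun _ => (1 : F) := by
      funext k
      exact hd (ε k)
    rw [this, Matrix.diagonal_one, Matrix.toLin_one]
    rfl
  let ym : Matrix (Fin r) (Fin r) F := LinearMap.toMatrix' yl
  have hymlin : Matrix.toLin' ym = yl := Matrix.toLin'_toMatrix' yl
  have hymr : ym ^ r = 1 := by
    apply Matrix.toLin'.injective
    rw [Matrix.toLin'_pow, hymlin, hylr, Matrix.toLin'_one]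
    rfl
  have hym1 : ym * ym ^ (r - 1) = 1 := by
    rw [← pow_succ', Nat.sub_add_cancel (by omega), hymr]
  have hym2 : ym ^ (r - 1) * ym = 1 := by
    rw [← pow_succ, Nat.sub_add_cancel (by omega), hymr]
  let y : GL (Fin r) F := ⟨ym, ym ^ (r - 1), hym1, hym2⟩
  have hyval : (y : Matrix (Fin r) (Fin r) F) = ym := rfl
  have hd0 : d j0 ≠ 0 := by
    intro h0
    have := hd j0
    rw [h0, zero_pow hr0] at this
    exact zero_ne_one this
  refine ⟨y, ?_, ?_, ?_⟩
  · refine ⟨Units.mk0 μ (pow_ne_zero 2 hd0), ?_⟩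
    intro v
    rw [hyval, Units.val_mk0]
    have : ym *ᵥ v = yl v := LinearMap.toMatrix'_mulVec yl v
    rw [this]
    exact hsim v
  · apply Units.ext
    rw [Units.val_pow_eq_pow_val, hyval, hymr]
    rfl
  · rw [hyval]
    have h1 : ym.charpoly = yl.charpoly := by
      have := LinearMap.charpoly_toMatrix yl (Pi.basisFun F (Fin r))
      rw [LinearMap.toMatrix_eq_toMatrix'] at this
      exact this
    have h3 : (Matrix.diagonal e).charpoly = yl.charpoly := by
      have := LinearMap.charpoly_toMatrix yl b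
      rw [hyl, LinearMap.toMatrix_toLin] at this
      exact this
    rw [h1, ← h3, Matrix.charpoly_diagonal]
    exact Equiv.prod_comp ε (fun j => X - C (d j))

end Cfsg.Agent.Lib.Helper29.S5981
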