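import Mathlib
import Cfsg.Prelude.Def_Classical
import Cfsg.Agent.Lib.helper15.SpRegSemi2
import Cfsg.Agent.S0246

set_option autoImplicit false

/-! Project S63 (S3664, coordinator helper21), piece S63-PD: `PSp(6,3)` has no element of order 26.

Eigenvalue argument (helper15's `SpRegSemi` machinery): for `y ∈ Sp(6,3)` with `y ^ 52 = 1` the
eigenvalues (in the algebraic closure) are closed under `ν ↦ ν ^ 3` and `ν ↦ ν⁻¹` with multiplicities.
An eigenvalue `u` with `u ^ 4 ≠ 1` has an orbit of size `≥ 8` (if `u ^ 26 ≠ 1`: impossible) or of size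
exactly `6` (if `u ^ 26 = 1`), and then all eigenvalues lie in that orbit and have the same 13-th power
`±1`, so `y ^ 13 = ±1`.  Otherwise all eigenvalues have `ν ^ 4 = 1` and `y ^ 4 = 1`. -/

namespace Cfsg.Agent.Lib.Helper25.S63

open Polynomial
open Cfsg.Agent.Lib.helper15.URegSemi
open Cfsg.Agent.Lib.helper15.SpRegSemi
open Cfsg.Agent.Lib.helper15.SpRegSemi2

section general

variable {K : Type*} [Field K]

theorem pd_pow_eq_smul_of_roots [IsAlgClosed K] {n : Type*} [Fintype n] [DecidableEq n]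
    (A : Matrix n n K) (M : ℕ) (hM : (M : K) ≠ 0) (hAM : A ^ M = 1) (s : ℕ) (c : K)
    (hall : ∀ μ : K, A.charpoly.IsRoot μ → μ ^ s = c) : A ^ s = c • (1 : Matrix n n K) := by
  have hss := isSemisimple_of_pow A M hM hAM
  have htop := hss.iSup_eigenspace_eq_top
  have hpow : ∀ (μ : K) (x : n → K), Matrix.toLin' A x = μ • x →
      ∀ t : ℕ, ((Matrix.toLin' A) ^ t) x = μ ^ t • x := by
    intro μ x hx t
    induction t with
    | zero => rw [pow_zero, pow_zero, one_smul, Module.End.one_apply]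
    | succ t ih =>
      rw [pow_succ, Module.End.mul_apply, hx, map_smul, ih, smul_smul, pow_succ, mul_comm]
  have hle : ∀ μ : K, Module.End.eigenspace (Matrix.toLin' A : Module.End K (n → K)) μ ≤
      LinearMap.ker ((Matrix.toLin' A : Module.End K (n → K)) ^ s - c • 1) := by
    intro μ x hx
    rw [LinearMap.mem_ker, LinearMap.sub_apply, LinearMap.smul_apply, Module.End.one_apply,
      sub_eq_zero]
    by_cases hbot : Module.End.eigenspace (Matrix.toLin' A : Module.End K (n → K)) μ = ⊥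
    · rw [hbot, Submodule.mem_bot] at hx
      rw [hx, map_zero, smul_zero]
    · have hev : Module.End.HasEigenvalue (Matrix.toLin' A : Module.End K (n → K)) μ := hbot
      rw [Module.End.hasEigenvalue_iff_isRoot_charpoly, Matrix.charpoly_toLin'] at hev
      rw [Module.End.mem_eigenspace_iff] at hx
      rw [hpow μ x hx s, hall μ hev]
  have hker : LinearMap.ker ((Matrix.toLin' A : Module.End K (n → K)) ^ s - c • 1) = ⊤ := by
    rw [eq_top_iff, ← htop]
    exact iSup_le hle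
  have h2 : (Matrix.toLin' A : Module.End K (n → K)) ^ s - c • 1 = 0 := LinearMap.ker_eq_top.1 hker
  have h3 : Matrix.toLin' (A ^ s) = Matrix.toLin' (c • (1 : Matrix n n K)) := by
    rw [toLin'_pow, map_smul, Matrix.toLin'_one]
    exact sub_eq_zero.1 h2
  exact Matrix.toLin'.injective h3

/-- if the orbit `{u^(q^i), u^(-q^i) : i < M}` has `2 M = dim` distinct elements, every root lies in it. -/
theorem pd_orbit_all {n : Type*} [Fintype n] [DecidableEq n] (A : Matrix n n K)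
    (Φ : K →+* K) (q : ℕ) (hΦ : ∀ x, Φ x = x ^ q)
    (hfrob : ∀ ν : K, A.charpoly.rootMultiplicity (Φ ν) = A.charpoly.rootMultiplicity ν)
    (hinv : ∀ ν : K, ν ≠ 0 → A.charpoly.rootMultiplicity ν⁻¹ = A.charpoly.rootMultiplicity ν)
    (u : Kˣ) (hu : 0 < A.charpoly.rootMultiplicity (u : K)) (M : ℕ)
    (hinj : ∀ i j : ℕ, i < j → j < M → u ^ (q ^ i) ≠ u ^ (q ^ j))
    (hdisj : ∀ i j : ℕ, i < M → j < M → u ^ (q ^ i) ≠ (u ^ (q ^ j))⁻¹)
    (hM : Fintype.card n ≤ 2 * M) (x : K) (hx : A.charpoly.IsRoot x) :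
    ∃ i, i < M ∧ (x = ((u ^ (q ^ i) : Kˣ) : K) ∨ x = (((u ^ (q ^ i))⁻¹ : Kˣ) : K)) := by
  classical
  have hχ0 : A.charpoly ≠ 0 := (Matrix.charpoly_monic A).ne_zero
  have hcard : A.charpoly.roots.card ≤ Fintype.card n := by
    have h1 := Polynomial.card_roots' A.charpoly
    rw [Matrix.charpoly_natDegree_eq_dim] at h1
    exact h1
  obtain ⟨S1, hS1⟩ : ∃ S1 : Finset K,
      S1 = (Finset.range M).image (fun i : ℕ => ((u ^ (q ^ i) : Kˣ) : K)) := ⟨_, rfl⟩
  obtain ⟨S2, hS2⟩ : ∃ S2 : Finset K,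
      S2 = (Finset.range M).image (fun i : ℕ => (((u ^ (q ^ i))⁻¹ : Kˣ) : K)) := ⟨_, rfl⟩
  have hinj' : ∀ i j : ℕ, i < M → j < M → u ^ (q ^ i) = u ^ (q ^ j) → i = j := by
    intro i j hi hj h
    by_contra hne
    rcases lt_or_gt_of_ne hne with h1 | h1
    · exact hinj i j h1 hj h
    · exact hinj j i h1 hi h.symm
  have hc1 : S1.card = M := by
    rw [hS1, Finset.card_image_of_injOn, Finset.card_range]
    intro i hi j hj h
    simp only [Finset.coe_range, Set.mem_Iio] at hi hj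
    exact hinj' i j hi hj (Units.ext h)
  have hc2 : S2.card = M := by
    rw [hS2, Finset.card_image_of_injOn, Finset.card_range]
    intro i hi j hj h
    simp only [Finset.coe_range, Set.mem_Iio] at hi hj
    exact hinj' i j hi hj (inv_injective (Units.ext h))
  have hdis : Disjoint S1 S2 := by
    rw [Finset.disjoint_left]
    intro x hx1 hx2
    rw [hS1, Finset.mem_image] at hx1
    rw [hS2, Finset.mem_image] at hx2
    obtain ⟨i, hi, rfl⟩ := hx1
    obtain ⟨j, hj, hij⟩ := hx2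
    rw [Finset.mem_range] at hi hj
    exact hdisj i j hi hj (Units.ext hij.symm)
  have hm1 : ∀ x ∈ S1, x ∈ A.charpoly.roots := by
    intro x hx
    rw [hS1, Finset.mem_image] at hx
    obtain ⟨i, -, rfl⟩ := hx
    rw [← Multiset.count_pos, Polynomial.count_roots, Units.val_pow_eq_pow_val,
      mult_pow_q A Φ q hΦ hfrob]
    exact hu
  have hm2 : ∀ x ∈ S2, x ∈ A.charpoly.roots := by
    intro x hx
    rw [hS2, Finset.mem_image] at hx
    obtain ⟨i, -, rfl⟩ := hx
    rw [← Multiset.count_pos, Polynomial.count_roots, Units.val_inv_eq_inv_val,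
      hinv _ (Units.ne_zero _), Units.val_pow_eq_pow_val, mult_pow_q A Φ q hΦ hfrob]
    exact hu
  have hle : (S1 ∪ S2).val ≤ A.charpoly.roots := by
    rw [Finset.val_le_iff_val_subset]
    intro x hx
    have hx' : x ∈ S1 ∪ S2 := hx
    rw [Finset.mem_union] at hx'
    rcases hx' with hx' | hx'
    · exact hm1 x hx'
    · exact hm2 x hx'
  have hcardT : (S1 ∪ S2).card = 2 * M := by
    rw [Finset.card_union_of_disjoint hdis, hc1, hc2]
    ring
  have heq : (S1 ∪ S2).val = A.charpoly.roots := by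
    apply Multiset.eq_of_le_of_card_le hle
    show A.charpoly.roots.card ≤ (S1 ∪ S2).card
    rw [hcardT]
    omega
  have hxmem : x ∈ S1 ∪ S2 := by
    have : x ∈ A.charpoly.roots := (Polynomial.mem_roots hχ0).2 hx
    rw [← heq] at this
    exact this
  rw [Finset.mem_union] at hxmem
  rcases hxmem with hx' | hx'
  · rw [hS1, Finset.mem_image] at hx'
    obtain ⟨i, hi, rfl⟩ := hx'
    exact ⟨i, Finset.mem_range.1 hi, Or.inl rfl⟩
  · rw [hS2, Finset.mem_image] at hx'
    obtain ⟨i, hi, rfl⟩ := hx'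
    exact ⟨i, Finset.mem_range.1 hi, Or.inr rfl⟩

theorem pd_aux {G : Type*} [Group G] (u : G) (N d m : ℕ) (hN : u ^ N = 1) (hd : u ^ d = 1)
    (hg : Nat.gcd N d ∣ m) : u ^ m = 1 := by
  have h1 : orderOf u ∣ N := orderOf_dvd_of_pow_eq_one hN
  have h2 : orderOf u ∣ d := orderOf_dvd_of_pow_eq_one hd
  exact orderOf_dvd_iff_pow_eq_one.1 (dvd_trans (Nat.dvd_gcd h1 h2) hg)

theorem pd_sub {G : Type*} [Group G] (u : G) (a b : ℕ) (hab : a ≤ b) (h : u ^ a = u ^ b) :
    u ^ (b - a) = 1 := by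
  rw [pow_sub u hab, h, mul_inv_cancel]

theorem pd_add {G : Type*} [Group G] (u : G) (a b : ℕ) (h : u ^ a = (u ^ b)⁻¹) :
    u ^ (a + b) = 1 := by
  rw [pow_add, h, inv_mul_cancel]

/-- distinctness of `u, u^3, u^9, u^27` for a 52-nd root of unity with `u^4 ≠ 1`, `u^26 ≠ 1`;
and of `u, u^3, u^9` when only `u^4 ≠ 1`. -/
theorem pd_inj {G : Type*} [Group G] (u : G) (h52 : u ^ 52 = 1) (h4 : u ^ 4 ≠ 1) :
    (∀ i j : ℕ, i < j → j < 3 → u ^ (3 ^ i) ≠ u ^ (3 ^ j)) ∧
    (∀ i j : ℕ, i < 3 → j < 3 → u ^ (3 ^ i) ≠ (u ^ (3 ^ j))⁻¹) ∧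
    (u ^ 26 ≠ 1 → (∀ i j : ℕ, i < j → j < 4 → u ^ (3 ^ i) ≠ u ^ (3 ^ j)) ∧
      (∀ i j : ℕ, i < 4 → j < 4 → u ^ (3 ^ i) ≠ (u ^ (3 ^ j))⁻¹)) := by
  have key1 : ∀ i j : ℕ, i < j → j < 4 → u ^ (3 ^ i) = u ^ (3 ^ j) →
      u ^ 4 = 1 ∨ (u ^ 26 = 1 ∧ j = 3) := by
    intro i j hij hj h
    have hle : 3 ^ i ≤ 3 ^ j := Nat.pow_le_pow_right (by norm_num) hij.le
    have hd := pd_sub u _ _ hle h
    interval_cases j <;> interval_cases i
    · left; exact pd_aux u 52 _ 4 h52 hd (by decide)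
    · left; exact pd_aux u 52 _ 4 h52 hd (by decide)
    · left; exact pd_aux u 52 _ 4 h52 hd (by decide)
    · right; exact ⟨pd_aux u 52 _ 26 h52 hd (by decide), rfl⟩
    · left; exact pd_aux u 52 _ 4 h52 hd (by decide)
    · left; exact pd_aux u 52 _ 4 h52 hd (by decide)
  have key2 : ∀ i j : ℕ, i < 4 → j < 4 → u ^ (3 ^ i) = (u ^ (3 ^ j))⁻¹ → u ^ 4 = 1 := by
    intro i j hi hj h
    have hd := pd_add u _ _ h
    interval_cases i <;> interval_cases j <;> exact pd_aux u 52 _ 4 h52 hd (by decide)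
  refine ⟨?_, ?_, ?_⟩
  · intro i j hij hj h
    rcases key1 i j hij (by omega) h with h1 | ⟨-, h1⟩
    · exact h4 h1
    · omega
  · intro i j hi hj h
    exact h4 (key2 i j (by omega) (by omega) h)
  · intro h26
    refine ⟨?_, ?_⟩
    · intro i j hij hj h
      rcases key1 i j hij hj h with h1 | ⟨h1, -⟩
      · exact h4 h1
      · exact h26 h1
    · intro i j hi hj h
      exact h4 (key2 i j hi hj h)

end general

/-- the eigenvalue core: `y ∈ Sp(6,3)` with `y ^ 52 = 1` has `y ^ 13 = ± 1` or `y ^ 4 = 1`. -/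
theorem pd_sp_core {F : Type*} [Field F] [Fintype F] (hF : Fintype.card F = 3)
    (y : Matrix.symplecticGroup (Fin 3) F) (hy : y ^ 52 = 1) :
    (y.1 ^ 13 = 1 ∨ y.1 ^ 13 = -1) ∨ y.1 ^ 4 = 1 := by
  classical
  -- characteristic 3
  obtain ⟨p, hpc⟩ := CharP.exists F
  have hp3 : p = 3 := by
    obtain ⟨n, hp, hn⟩ := FiniteField.card F p
    rw [hF] at hn
    have hd : p ∣ 3 := by
      rw [hn]
      exact dvd_pow_self p n.ne_zero
    exact (Nat.prime_dvd_prime_iff_eq hp Nat.prime_three).1 hd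
  subst hp3
  have hfact : Fact (Nat.Prime 3) := ⟨Nat.prime_three⟩
  obtain ⟨ι, hι⟩ : ∃ ι : F →+* AlgebraicClosure F, ι = algebraMap F (AlgebraicClosure F) := ⟨_, rfl⟩
  have hιinj : Function.Injective ι := ι.injective
  have hcharK : CharP (AlgebraicClosure F) 3 := by
    rw [hι] at hιinj
    exact charP_of_injective_algebraMap hιinj 3
  obtain ⟨Φ, hΦ⟩ : ∃ Φ : AlgebraicClosure F →+* AlgebraicClosure F, ∀ x, Φ x = x ^ 3 :=
    ⟨frobenius (AlgebraicClosure F) 3, fun x => frobenius_def 3 x⟩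
  have hfix : ∀ a : F, Φ (algebraMap F (AlgebraicClosure F) a) = algebraMap F (AlgebraicClosure F) a := by
    intro a
    rw [hΦ, ← map_pow]
    congr 1
    have := FiniteField.pow_card a
    rw [hF] at this
    exact this
  obtain ⟨S, hS⟩ : ∃ S : Matrix (Fin 3 ⊕ Fin 3) (Fin 3 ⊕ Fin 3) F, S = y.1 := ⟨_, rfl⟩
  have hSmem : S.map (algebraMap F (AlgebraicClosure F)) ∈
      Matrix.symplecticGroup (Fin 3) (AlgebraicClosure F) := by
    rw [hS]
    exact SymplecticGroup.map_mem y.2 (algebraMap F (AlgebraicClosure F))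
  have hcoepow : ∀ t : ℕ, ((y ^ t : Matrix.symplecticGroup (Fin 3) F) :
      Matrix (Fin 3 ⊕ Fin 3) (Fin 3 ⊕ Fin 3) F) = S ^ t := by
    intro t
    rw [hS]
    rfl
  have hSpow : S ^ 52 = 1 := by
    rw [← hcoepow, hy]
    rfl
  have hmappow : ∀ (M : Matrix (Fin 3 ⊕ Fin 3) (Fin 3 ⊕ Fin 3) F) (k : ℕ),
      (M ^ k).map ι = (M.map ι) ^ k := by
    intro M k
    exact map_pow ι.mapMatrix M k
  have hmapinj : ∀ M N : Matrix (Fin 3 ⊕ Fin 3) (Fin 3 ⊕ Fin 3) F, M.map ι = N.map ι → M = N :=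
    fun M N h => Matrix.map_injective hιinj h
  have hmapone : (1 : Matrix (Fin 3 ⊕ Fin 3) (Fin 3 ⊕ Fin 3) F).map ι = 1 :=
    Matrix.map_one _ (map_zero ι) (map_one ι)
  have hmapneg : (-1 : Matrix (Fin 3 ⊕ Fin 3) (Fin 3 ⊕ Fin 3) F).map ι = -1 := by
    have := map_neg ι.mapMatrix (1 : Matrix (Fin 3 ⊕ Fin 3) (Fin 3 ⊕ Fin 3) F)
    rw [map_one] at this
    exact this
  have hApow : (S.map ι) ^ 52 = 1 := by
    rw [← hmappow, hSpow, hmapone]
  have h52K : ((52 : ℕ) : AlgebraicClosure F) ≠ 0 := by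
    rw [Ne, CharP.cast_eq_zero_iff (AlgebraicClosure F) 3]
    norm_num
  have hχ0 : (S.map ι).charpoly ≠ 0 := (Matrix.charpoly_monic _).ne_zero
  have hroot52 : ∀ ν : AlgebraicClosure F, (S.map ι).charpoly.IsRoot ν → ν ^ 52 = 1 :=
    fun ν hν => root_pow_eq_one (S.map ι) 52 hApow ν hν
  have hroot0 : ∀ ν : AlgebraicClosure F, (S.map ι).charpoly.IsRoot ν → ν ≠ 0 := by
    intro ν hν h0
    have h1 := hroot52 ν hν
    rw [h0, zero_pow (by norm_num)] at h1
    exact zero_ne_one h1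
  have hcardn : Fintype.card (Fin 3 ⊕ Fin 3) = 6 := by
    rw [Fintype.card_sum, Fintype.card_fin]
  have hfrob : ∀ ν : AlgebraicClosure F,
      (S.map ι).charpoly.rootMultiplicity (Φ ν) = (S.map ι).charpoly.rootMultiplicity ν := by
    intro ν
    rw [hι]
    exact mult_frob S Φ hfix ν
  have hinv : ∀ ν : AlgebraicClosure F, ν ≠ 0 →
      (S.map ι).charpoly.rootMultiplicity ν⁻¹ = (S.map ι).charpoly.rootMultiplicity ν := by
    intro ν hν
    exact mult_inv_symp ⟨S.map ι, by rw [hι]; exact hSmem⟩ ν hν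
  by_cases hex : ∃ ν : AlgebraicClosure F, (S.map ι).charpoly.IsRoot ν ∧ ν ^ 4 ≠ 1
  · left
    obtain ⟨ν, hνroot, hν4⟩ := hex
    have hνpos : 0 < (S.map ι).charpoly.rootMultiplicity ν :=
      (Polynomial.rootMultiplicity_pos hχ0).2 hνroot
    have hν0 : ν ≠ 0 := hroot0 ν hνroot
    obtain ⟨u, hu⟩ : ∃ u : (AlgebraicClosure F)ˣ, (u : AlgebraicClosure F) = ν :=
      ⟨Units.mk0 ν hν0, rfl⟩
    have hu52 : u ^ 52 = 1 := by
      apply Units.ext
      rw [Units.val_pow_eq_pow_val, hu, hroot52 ν hνroot]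
      rfl
    have hu4 : u ^ 4 ≠ 1 := by
      intro h
      apply hν4
      have := congrArg Units.val h
      rw [Units.val_pow_eq_pow_val, hu] at this
      exact this
    have hupos : 0 < (S.map ι).charpoly.rootMultiplicity (u : AlgebraicClosure F) := by
      rw [hu]
      exact hνpos
    obtain ⟨hinj3, hdisj3, h4case⟩ := pd_inj u hu52 hu4
    have hu26 : u ^ 26 = 1 := by
      by_contra h26
      obtain ⟨hinj4, hdisj4⟩ := h4case h26
      have := orbit_bound (S.map ι) Φ 3 hΦ hfrob hinv u hupos 4 hinj4 hdisj4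
      rw [hcardn] at this
      omega
    -- c = u^13 = ± 1
    obtain ⟨c, hc⟩ : ∃ c : AlgebraicClosure F, c = (u : AlgebraicClosure F) ^ 13 := ⟨_, rfl⟩
    have hcc : c * c = 1 := by
      rw [hc, ← pow_add]
      have := congrArg Units.val hu26
      rw [Units.val_pow_eq_pow_val] at this
      exact this
    have hc1 : c = 1 ∨ c = -1 := by
      have : (c - 1) * (c + 1) = 0 := by linear_combination hcc
      rcases mul_eq_zero.1 this with h | h
      · exact Or.inl (sub_eq_zero.1 h)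
      · exact Or.inr (eq_neg_of_add_eq_zero_left h)
    have hcinv : c⁻¹ = c := by
      rw [inv_eq_iff_eq_inv, eq_comm]
      exact inv_eq_of_mul_eq_one_left hcc
    have hcpow : ∀ m : ℕ, c ^ (3 ^ m) = c := by
      intro m
      rcases hc1 with h | h
      · rw [h, one_pow]
      · rw [h]
        exact Odd.neg_one_pow (Odd.pow (by decide))
    have hall : ∀ μ : AlgebraicClosure F, (S.map ι).charpoly.IsRoot μ → μ ^ 13 = c := by
      intro μ hμ
      obtain ⟨i, -, hi⟩ := pd_orbit_all (S.map ι) Φ 3 hΦ hfrob hinv u hupos 3 hinj3 hdisj3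
        (by rw [hcardn]) μ hμ
      rcases hi with hi | hi
      · rw [hi, Units.val_pow_eq_pow_val, ← pow_mul, mul_comm, pow_mul, ← hc, hcpow]
      · rw [hi, Units.val_inv_eq_inv_val, Units.val_pow_eq_pow_val, inv_pow, ← pow_mul, mul_comm,
          pow_mul, ← hc, hcpow, hcinv]
    have hA13 := pd_pow_eq_smul_of_roots (S.map ι) 52 h52K hApow 13 c hall
    rcases hc1 with h | h
    · left
      rw [← hS]
      apply hmapinj
      rw [hmappow, hA13, h, one_smul, hmapone]
    · right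
      rw [← hS]
      apply hmapinj
      rw [hmappow, hA13, h, neg_smul, one_smul, hmapneg]
  · right
    have hall : ∀ μ : AlgebraicClosure F, (S.map ι).charpoly.IsRoot μ → μ ^ 4 = 1 := by
      intro μ hμ
      by_contra h1
      exact hex ⟨μ, hμ, h1⟩
    have hA4 := pow_eq_one_of_roots (S.map ι) 52 h52K hApow 4 hall
    rw [← hS]
    apply hmapinj
    rw [hmappow, hA4, hmapone]

open Cfsg.Agent.S0246 in
/-- S63-PD -/
theorem psp_no_26 {F : Type*} [Field F] [Fintype F] (hF : Fintype.card F = 3) :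
    ∀ g : Cfsg.PSp 3 F, orderOf g ≠ 26 := by
  intro gbar hg
  obtain ⟨g, rfl⟩ := QuotientGroup.mk_surjective gbar
  -- `g ^ 26` is central
  have h26 : g ^ 26 ∈ Subgroup.center (Matrix.symplecticGroup (Fin 3) F) := by
    rw [← QuotientGroup.eq_one_iff, QuotientGroup.mk_pow, ← hg, pow_orderOf_eq_one]
  have hcen : ∀ k : ℕ, g ^ k ∈ Subgroup.center (Matrix.symplecticGroup (Fin 3) F) →
      orderOf (g : Cfsg.PSp 3 F) ∣ k := by
    intro k hk
    apply orderOf_dvd_of_pow_eq_one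
    rw [← QuotientGroup.mk_pow, QuotientGroup.eq_one_iff]
    exact hk
  have hneg2 : negOne F 3 * negOne F 3 = 1 := by
    apply Subtype.ext
    rw [Submonoid.coe_mul, negOne_coe, neg_mul_neg, one_mul]
    rfl
  have h52 : g ^ 52 = 1 := by
    have : g ^ 52 = g ^ 26 * g ^ 26 := by rw [← pow_add]
    rw [this]
    rcases center_cases (by norm_num) _ h26 with h | h
    · rw [h, one_mul]
    · rw [h, hneg2]
  have hcoepow : ∀ t : ℕ, ((g ^ t : Matrix.symplecticGroup (Fin 3) F) :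
      Matrix (Fin 3 ⊕ Fin 3) (Fin 3 ⊕ Fin 3) F) = g.1 ^ t := fun t => rfl
  rcases pd_sp_core hF g h52 with (h13 | h13) | h4
  · -- g^13 = 1
    have : g ^ 13 = 1 := by
      apply Subtype.ext
      rw [hcoepow, h13]
      rfl
    have hd := hcen 13 (by rw [this]; exact Subgroup.one_mem _)
    rw [hg] at hd
    omega
  · have : g ^ 13 = negOne F 3 := by
      apply Subtype.ext
      rw [hcoepow, h13, negOne_coe]
    have hd := hcen 13 (by rw [this]; exact negOne_mem_center)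
    rw [hg] at hd
    omega
  · have h4' : g ^ 4 = 1 := by
      apply Subtype.ext
      rw [hcoepow, h4]
      rfl
    have : g ^ 26 = g ^ 2 := by
      have e : g ^ 26 = (g ^ 4) ^ 6 * g ^ 2 := by rw [← pow_mul, ← pow_add]
      rw [e, h4', one_pow, one_mul]
    have hd := hcen 2 (by rw [← this]; exact h26)
    rw [hg] at hd
    omega

end Cfsg.Agent.Lib.Helper25.S63
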