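import Mathlib
import Cfsg.Agent.Lib.Helper22.U34G

set_option autoImplicit false

/-! Project S63 (S3664, coordinator helper21), piece S63-SD: the prime graph of a split extension
`V^(N+1) ⋊ L` of an elementary abelian `r`-group. -/

namespace Cfsg.Agent.Lib.Helper25.S63

open Subgroup Cfsg.Agent.Lib.Helper22.U34

/-- S63-SD: the prime graph of a split extension `V^(N+1) ⋊ L` of an elementary abelian `r`-group. -/
theorem semidirect_graph {L : Type} [Group L] [Finite L] (r : ℕ) [Fact r.Prime]
    (V : Type) [AddCommGroup V] [Finite V] [Nontrivial V] [DistribMulAction L V]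
    (hV : ∀ v : V, r • v = 0) (N : ℕ) :
    ∃ (H : Type) (_ : Group H) (_ : Finite H), N < Nat.card H ∧
      (∀ p : ℕ, p.Prime → (p ∣ Nat.card H ↔ (p = r ∨ p ∣ Nat.card L))) ∧
      (∀ p q : ℕ, p.Prime → q.Prime → p ≠ q → p ≠ r → q ≠ r →
        ((∃ g : H, orderOf g = p * q) ↔ (∃ g : L, orderOf g = p * q))) ∧
      (∀ q : ℕ, q.Prime → q ≠ r →
        ((∃ g : H, orderOf g = r * q) ↔ ((∃ g : L, orderOf g = r * q) ∨
          ∃ y : L, orderOf y = q ∧ ∃ v : V, v ≠ 0 ∧ y • v = v))) := by
  classical
  have hrp : r.Prime := Fact.out
  let A := Fin (N + 1) → V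
  let M := Multiplicative A
  let φ : L →* MulAut M := actHom L A
  have hcard : Nat.card (M ⋊[φ] L) = Nat.card V ^ (N + 1) * Nat.card L := by
    rw [SemidirectProduct.card]
    congr 1
    show Nat.card (Fin (N + 1) → V) = _
    rw [Nat.card_fun, Nat.card_fin]
  have hfin : Finite (M ⋊[φ] L) := Finite.of_equiv _ SemidirectProduct.equivProd.symm
  have hV2 : 2 ≤ Nat.card V := Finite.one_lt_card
  have hLpos : 0 < Nat.card L := Nat.card_pos
  -- `|V|` is a power of `r`
  have hVr : ∃ e, Nat.card V = r ^ e := by
    have hp : IsPGroup r (Multiplicative V) := by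
      intro g
      refine ⟨1, ?_⟩
      rw [pow_one]
      exact congrArg Multiplicative.ofAdd (hV g.toAdd)
    obtain ⟨e, he⟩ := IsPGroup.iff_card.1 hp
    exact ⟨e, by rw [← he]; rfl⟩
  -- the kernel of the projection has exponent `r`
  have hker : ∀ a : M ⋊[φ] L, (SemidirectProduct.rightHom : M ⋊[φ] L →* L) a = 1 → a ^ r = 1 := by
    intro a ha
    have ha' : a.right = 1 := ha
    refine SemidirectProduct.ext ?_ ?_
    · rw [← SemidirectProduct.inl_left_mul_inr_right a, ha', map_one, mul_one, ← map_pow,
        SemidirectProduct.left_inl, SemidirectProduct.one_left]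
      show a.left ^ r = 1
      apply Multiplicative.toAdd.injective
      show r • (a.left.toAdd) = 0
      funext i
      exact hV _
    · show (SemidirectProduct.rightHom (a ^ r) : L) = 1
      rw [map_pow, ha, one_pow]
  refine ⟨M ⋊[φ] L, inferInstance, hfin, ?_, ?_, ?_, ?_⟩
  · rw [hcard]
    calc N < 2 ^ N := Nat.lt_two_pow_self
      _ ≤ 2 ^ (N + 1) := Nat.pow_le_pow_right (by norm_num) (Nat.le_succ N)
      _ ≤ Nat.card V ^ (N + 1) := Nat.pow_le_pow_left hV2 (N + 1)
      _ ≤ Nat.card V ^ (N + 1) * Nat.card L := Nat.le_mul_of_pos_right _ hLpos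
  · intro p hp
    rw [hcard]
    obtain ⟨e, he⟩ := hVr
    have he1 : e ≠ 0 := by
      intro h0
      rw [h0, pow_zero] at he
      omega
    constructor
    · intro h
      rcases (Nat.Prime.dvd_mul hp).1 h with h1 | h1
      · left
        have h2 : p ∣ Nat.card V := hp.dvd_of_dvd_pow h1
        rw [he] at h2
        have h3 : p ∣ r := hp.dvd_of_dvd_pow h2
        exact (Nat.prime_dvd_prime_iff_eq hp hrp).1 h3
      · exact Or.inr h1
    · rintro (h | h)
      · subst h
        apply Dvd.dvd.mul_right
        rw [he, ← pow_mul]
        exact dvd_pow_self _ (Nat.mul_ne_zero he1 (Nat.succ_ne_zero N))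
      · exact Dvd.dvd.mul_left h _
  · intro p q hp hq hpq hpr hqr
    constructor
    · rintro ⟨h, hh⟩
      refine ⟨(SemidirectProduct.rightHom : M ⋊[φ] L →* L) h, ?_⟩
      set π : M ⋊[φ] L →* L := SemidirectProduct.rightHom with hπ
      have hd : orderOf (π h) ∣ p * q := hh ▸ orderOf_map_dvd π h
      refine Nat.dvd_antisymm hd ?_
      set m := orderOf (π h) with hm
      have h1 : π (h ^ m) = 1 := by rw [map_pow, hm, pow_orderOf_eq_one]
      have h2 : (h ^ m) ^ r = 1 := hker _ h1
      rw [← pow_mul] at h2
      have h3 : p * q ∣ m * r := hh ▸ orderOf_dvd_of_pow_eq_one h2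
      have hcop : Nat.Coprime (p * q) r := by
        apply Nat.Coprime.mul_left
        · exact (Nat.coprime_primes hp hrp).2 hpr
        · exact (Nat.coprime_primes hq hrp).2 hqr
      exact hcop.dvd_of_dvd_mul_right h3
    · rintro ⟨g, hg⟩
      refine ⟨SemidirectProduct.inr g, ?_⟩
      rw [orderOf_injective (SemidirectProduct.inr : L →* M ⋊[φ] L)
        SemidirectProduct.inr_injective, hg]
  · intro q hq hqr
    have hcop : Nat.Coprime r q := (Nat.coprime_primes hrp hq).2 (Ne.symm hqr)
    constructor
    · rintro ⟨h, hh⟩
      set π : M ⋊[φ] L →* L := SemidirectProduct.rightHom with hπ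
      set a : M ⋊[φ] L := h ^ q with ha
      set b : M ⋊[φ] L := h ^ r with hb
      have hoa : orderOf a = r := by
        rw [ha, orderOf_pow' h hq.ne_zero, hh, Nat.gcd_eq_right (Dvd.intro_left r rfl)]
        exact Nat.mul_div_cancel _ hq.pos
      have hob : orderOf b = q := by
        rw [hb, orderOf_pow' h hrp.ne_zero, hh, Nat.gcd_eq_right (Dvd.intro q rfl)]
        exact Nat.mul_div_cancel_left _ hrp.pos
      have hab : Commute a b := (Commute.refl h).pow_pow q r
      have hπb : orderOf (π b) = q := by
        have hd : orderOf (π b) ∣ q := hob ▸ orderOf_map_dvd π b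
        rcases (Nat.dvd_prime hq).1 hd with h1 | h1
        · exfalso
          have hb1 : π b = 1 := orderOf_eq_one_iff.1 h1
          have := hker b hb1
          have hd2 : q ∣ r := hob ▸ orderOf_dvd_of_pow_eq_one this
          exact hqr ((Nat.prime_dvd_prime_iff_eq hq hrp).1 hd2)
        · exact h1
      by_cases hπa : π a = 1
      · right
        have ha1 : a ≠ 1 := by
          intro h1
          rw [h1, orderOf_one] at hoa
          exact hrp.one_lt.ne hoa
        have ha' : a.right = 1 := hπa
        have hl := congrArg SemidirectProduct.left hab.eq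
        rw [SemidirectProduct.mul_left, SemidirectProduct.mul_left, ha', map_one] at hl
        have hl2 : φ b.right a.left = a.left := by
          have : a.left * b.left = b.left * φ b.right a.left := hl
          rw [mul_comm] at this
          exact (mul_left_cancel this).symm
        have hne : a.left ≠ 1 := by
          intro h1
          apply ha1
          refine SemidirectProduct.ext ?_ ?_
          · exact h1
          · exact ha'
        have hne' : (a.left.toAdd : Fin (N + 1) → V) ≠ 0 :=
          fun h0 => hne (Multiplicative.toAdd.injective h0)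
        obtain ⟨i, hi⟩ := Function.ne_iff.1 hne'
        refine ⟨b.right, hπb, a.left.toAdd i, hi, ?_⟩
        have := congrArg (fun m : M => m.toAdd i) hl2
        exact this
      · left
        have hoπa : orderOf (π a) = r := by
          have hd : orderOf (π a) ∣ r := hoa ▸ orderOf_map_dvd π a
          rcases (Nat.dvd_prime hrp).1 hd with h1 | h1
          · exact absurd (orderOf_eq_one_iff.1 h1) hπa
          · exact h1
        refine ⟨π a * π b, ?_⟩
        have hc : Commute (π a) (π b) := hab.map π
        rw [hc.orderOf_mul_eq_mul_orderOf_of_coprime (by rw [hoπa, hπb]; exact hcop), hoπa, hπb]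
    · rintro (⟨g, hg⟩ | ⟨y, hy, v, hv, hyv⟩)
      · refine ⟨SemidirectProduct.inr g, ?_⟩
        rw [orderOf_injective (SemidirectProduct.inr : L →* M ⋊[φ] L)
          SemidirectProduct.inr_injective, hg]
      · -- the constant vector `v` and `y`
        let m : M := Multiplicative.ofAdd (fun _ => v)
        let a : M ⋊[φ] L := SemidirectProduct.inl m
        let b : M ⋊[φ] L := SemidirectProduct.inr y
        have hob : orderOf b = q := by
          rw [orderOf_injective (SemidirectProduct.inr : L →* M ⋊[φ] L)
            SemidirectProduct.inr_injective, hy]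
        have hm1 : m ≠ 1 := by
          intro h1
          have := congrArg (fun m : M => m.toAdd 0) h1
          exact hv this
        have hmr : m ^ r = 1 := by
          apply Multiplicative.toAdd.injective
          show r • (fun _ : Fin (N + 1) => v) = 0
          funext i
          exact hV v
        have hom : orderOf m = r := by
          have hd : orderOf m ∣ r := orderOf_dvd_of_pow_eq_one hmr
          rcases (Nat.dvd_prime hrp).1 hd with h1 | h1
          · exact absurd (orderOf_eq_one_iff.1 h1) hm1
          · exact h1
        have hoa : orderOf a = r := by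
          rw [orderOf_injective (SemidirectProduct.inl : M →* M ⋊[φ] L)
            SemidirectProduct.inl_injective, hom]
        have hfix : φ y m = m := by
          rw [actHom_apply]
          apply Multiplicative.toAdd.injective
          show y • (fun _ : Fin (N + 1) => v) = fun _ => v
          funext i
          exact hyv
        have hab : Commute a b := by
          show a * b = b * a
          have h1 : b * a = SemidirectProduct.inl (φ y m) * b := by
            show SemidirectProduct.inr y * SemidirectProduct.inl m =
              SemidirectProduct.inl (φ y m) * SemidirectProduct.inr y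
            rw [SemidirectProduct.inl_aut, map_inv, inv_mul_cancel_right]
          rw [h1, hfix]
        refine ⟨a * b, ?_⟩
        rw [hab.orderOf_mul_eq_mul_orderOf_of_coprime (by rw [hoa, hob]; exact hcop), hoa, hob]

end Cfsg.Agent.Lib.Helper25.S63
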