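import Mathlib
import Cfsg.Agent.Lib.helper15.S983Tools
import Cfsg.Agent.Lib.helper8.OrbitCount

/-!
# Project S983 (S0983), order row 5940 = 2^2 * 3^3 * 5 * 11 (helper25)

`n_11 ∈ {12, 45, 540}`.
* `540`: `|N(P)| = 11`, impossible (`|N : C| ≠ 1` divides `10`).
* `12`: `|N(P)| = 495`, `|C(P)| = 99`; `z ∈ C(P)` of order 3 fixes `1 mod 11` and `12 mod 3` of the
  12 points of `G ⧸ N(P)`: all of them, so `z = 1`.
* `45`: `|N(P)| = 132`, `|C(P)| = 66`; `z ∈ C(P)` of order 3.  The cyclic subgroup `D = ⟨x z⟩` of order
  33 has index 2 in `C(P)`, so it contains every element of order 3 of `C(P)`, and `⟨z⟩` is the only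
  subgroup of order 3 of `C(P)`: `N(P) ≤ M := N_G(⟨z⟩)`.  `|M| = 132 k`, `k ≡ 1 (mod 11)`, `k ∣ 45`:
  `k = 45` makes `⟨z⟩` normal in `G`; `k = 1` gives `|M| = 132`, but `⟨z⟩` is properly contained in
  `M ∩ S` for a Sylow 3-subgroup `S ∋ z` (normalizers grow), so `9 ∣ 132`.
-/

set_option autoImplicit false
set_option linter.style.haveILetI false

namespace Cfsg.Agent.Lib.Helper25.S983

open Subgroup Cfsg.Agent.Lib.helper8 Cfsg.Agent.Lib.helper23 Cfsg.Agent.Lib.helper15.S983

/-- a subgroup of index 2 contains every element of order 3 (elementwise form, relative index). -/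
theorem s5940_mem_of_relIndex_two {G : Type*} [Group G] (D C : Subgroup G)
    (hrel : D.relIndex C = 2) (c : G) (hc : c ∈ C) (hc3 : c ^ 3 = 1) : c ∈ D := by
  have hidx : (D.subgroupOf C).index = 2 := hrel
  have h2 := Subgroup.mul_self_mem_of_index_two hidx (⟨c, hc⟩ : C)
  rw [Subgroup.mem_subgroupOf] at h2
  have h2' : c * c ∈ D := by simpa using h2
  have h4 : c = (c * c) * (c * c) := by
    calc c = c ^ 3 * c := by rw [hc3, one_mul]
      _ = (c * c) * (c * c) := by simp only [pow_succ, pow_zero, one_mul, mul_assoc]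
  rw [h4]
  exact D.mul_mem h2' h2'

theorem no_simple_5940 {G : Type*} [Group G] [Finite G] [IsSimpleGroup G]
    (hG : Nat.card G = 5940) : False := by
  have hnc : ¬ IsMulCommutative G := h8_not_comm_of_card (by rw [hG]; norm_num)
  haveI : Fact (Nat.Prime 11) := ⟨by norm_num⟩
  haveI : Fact (Nat.Prime 3) := ⟨by norm_num⟩
  obtain ⟨P⟩ : Nonempty (Sylow 11 G) := inferInstance
  have hG11 : Nat.card G = 11 ^ 1 * 540 := by rw [hG]; norm_num
  obtain ⟨hP, hN, hX, r, hr, hr1, hC⟩ :=
    og3_sylow_data 11 540 hG11 (by norm_num) (by norm_num) P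
  have hmem := h8_nsylow_mem 11 1 540 hG11 (by norm_num)
  have hn1 := h8_simple_nsylow_ne_one 11 1 540 hG11 (by norm_num) (by norm_num) (by norm_num)
  have hset : (Nat.divisors 540).filter (fun d => d % 11 = 1) = {1, 12, 45, 540} := by decide
  rw [hset] at hmem
  simp only [Finset.mem_insert, Finset.mem_singleton] at hmem
  have hr10 : r = 2 ∨ r = 5 ∨ r = 10 := by
    have : r ∈ Nat.divisors 10 := Nat.mem_divisors.mpr ⟨hr, by norm_num⟩
    have hd : Nat.divisors 10 = {1, 2, 5, 10} := by decide
    rw [hd] at this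
    simp only [Finset.mem_insert, Finset.mem_singleton] at this
    rcases this with h | h | h | h
    · exact absurd h hr1
    · exact Or.inl h
    · exact Or.inr (Or.inl h)
    · exact Or.inr (Or.inr h)
  have hidx := h8_nsylow_eq_index_normalizer 11 P
  have hNtop : normalizer ((P : Subgroup G) : Set G) ≠ ⊤ := by
    intro htop
    rw [htop, Subgroup.index_top] at hidx
    exact hn1 hidx
  rw [hG] at hN
  rcases hmem with h | h | h | h
  · exact absurd h hn1
  · -- `n_11 = 12`
    have hNc : Nat.card (normalizer ((P : Subgroup G) : Set G)) = 495 := by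
      rw [h] at hN; omega
    have hCc : Nat.card (centralizer ((P : Subgroup G) : Set G)) = 99 := by
      rw [hNc] at hC
      rcases hr10 with rfl | rfl | rfl <;> omega
    obtain ⟨z', hz'⟩ := exists_prime_orderOf_dvd_card'
      (G := centralizer ((P : Subgroup G) : Set G)) 3 (by rw [hCc]; norm_num)
    have hzC : (z' : G) ∈ centralizer ((P : Subgroup G) : Set G) := z'.2
    have hz3 : orderOf (z' : G) = 3 := by rw [Subgroup.orderOf_coe]; exact hz'
    have hX12 : Nat.card (G ⧸ normalizer ((P : Subgroup G) : Set G)) = 12 := by rw [hX, h]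
    have hfix11 := og2_card_fixedBy_modEq_one 11 P hP (z' : G) hzC
    have hzp : IsPGroup 3 (zpowers (z' : G)) :=
      IsPGroup.of_card (n := 1) (by rw [Nat.card_zpowers, hz3, pow_one])
    have hfix3 := og2_card_fixedBy_modEq_of_commute
      (X := G ⧸ normalizer ((P : Subgroup G) : Set G)) (p := 3) (1 : G) (z' : G)
      (Commute.one_left _) hzp
    have e1 : Nat.card (MulAction.fixedBy (G ⧸ normalizer ((P : Subgroup G) : Set G)) (1 : G))
        = 12 := by
      rw [← hX12]
      apply Nat.card_congr
      exact (Equiv.subtypeUnivEquiv (fun pt => by simp))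
    have e2 : Nat.card {pt : G ⧸ normalizer ((P : Subgroup G) : Set G) //
        (1 : G) • pt = pt ∧ (z' : G) • pt = pt} =
        Nat.card (MulAction.fixedBy (G ⧸ normalizer ((P : Subgroup G) : Set G)) (z' : G)) := by
      apply Nat.card_congr
      exact Equiv.subtypeEquivRight (fun pt => by simp [MulAction.mem_fixedBy])
    rw [e1, e2] at hfix3
    have hle : Nat.card (MulAction.fixedBy (G ⧸ normalizer ((P : Subgroup G) : Set G)) (z' : G))
        ≤ 12 := by
      rw [← hX12]
      exact Finite.card_subtype_le _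
    have hfix : Nat.card (MulAction.fixedBy (G ⧸ normalizer ((P : Subgroup G) : Set G)) (z' : G))
        = 12 := by
      unfold Nat.ModEq at hfix11 hfix3
      omega
    have hz1 : (z' : G) = 1 := by
      apply og2_eq_one_of_card_fixedBy _ hNtop
      rw [hfix, hX12]
    rw [hz1, orderOf_one] at hz3
    norm_num at hz3
  · -- `n_11 = 45`
    have hNc : Nat.card (normalizer ((P : Subgroup G) : Set G)) = 132 := by
      rw [h] at hN; omega
    have hCc : Nat.card (centralizer ((P : Subgroup G) : Set G)) = 66 := by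
      rw [hNc] at hC
      rcases hr10 with rfl | rfl | rfl <;> omega
    -- `z` of order 3 in `C(P)`, `x` a generator of `P`
    obtain ⟨z', hz'⟩ := exists_prime_orderOf_dvd_card'
      (G := centralizer ((P : Subgroup G) : Set G)) 3 (by rw [hCc]; norm_num)
    have hzC : (z' : G) ∈ centralizer ((P : Subgroup G) : Set G) := z'.2
    have hz3 : orderOf (z' : G) = 3 := by rw [Subgroup.orderOf_coe]; exact hz'
    set z : G := (z' : G) with hzdef
    obtain ⟨x', hx'⟩ := exists_prime_orderOf_dvd_card' (G := (P : Subgroup G)) 11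
      (by rw [hP])
    have hx11 : orderOf (x' : G) = 11 := by rw [Subgroup.orderOf_coe]; exact hx'
    set x : G := (x' : G) with hxdef
    have hxP : x ∈ (P : Subgroup G) := x'.2
    have hx1 : x ≠ 1 := by
      intro h1
      rw [h1, orderOf_one] at hx11
      norm_num at hx11
    have hPx : zpowers x = (P : Subgroup G) :=
      h8_zpowers_eq_of_prime_card 11 (by norm_num) (P : Subgroup G) hP x hxP hx1
    have hxC : x ∈ centralizer ((P : Subgroup G) : Set G) := by
      rw [mem_centralizer_iff]
      intro y hy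
      have hy' : y ∈ zpowers x := by rw [hPx]; exact hy
      obtain ⟨k, rfl⟩ := mem_zpowers_iff.mp hy'
      exact ((Commute.refl x).zpow_left k).eq
    have hxz : Commute x z := (mem_centralizer_iff.mp hzC x hxP)
    -- the cyclic subgroup `D = ⟨x z⟩` of order 33
    have hoxz : orderOf (x * z) = 33 := by
      have := hxz.orderOf_mul_eq_mul_orderOf_of_coprime (by rw [hx11, hz3]; norm_num)
      rw [this, hx11, hz3]
    set D : Subgroup G := zpowers (x * z) with hDdef
    have hDc : Nat.card D = 33 := by rw [hDdef, Nat.card_zpowers, hoxz]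
    have hDC : D ≤ centralizer ((P : Subgroup G) : Set G) := by
      rw [hDdef, zpowers_le]
      exact mul_mem hxC hzC
    have hrel : D.relIndex (centralizer ((P : Subgroup G) : Set G)) = 2 := by
      have := h8_card_mul_relIndex hDC
      rw [hDc, hCc] at this
      omega
    have hzD : z ∈ D :=
      s5940_mem_of_relIndex_two D _ hrel z hzC (by rw [← hz3]; exact pow_orderOf_eq_one z)
    have hDc' : Nat.card D = 3 ^ 1 * 11 := by rw [hDc]; norm_num
    have huniq : ∀ c ∈ centralizer ((P : Subgroup G) : Set G), orderOf c = 3 → c ∈ zpowers z := by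
      intro c hc hc3
      have hcD : c ∈ D :=
        s5940_mem_of_relIndex_two D _ hrel c hc (by rw [← hc3]; exact pow_orderOf_eq_one c)
      refine s983_mem_zpowers_of_unique 3 11 D hDc' (by norm_num) ?_ z c hzD hcD hz3 hc3
      intro d hd hd3
      have hd11 : d ∈ Nat.divisors 11 := Nat.mem_divisors.mpr ⟨hd, by norm_num⟩
      have hdd : Nat.divisors 11 = {1, 11} := by decide
      rw [hdd] at hd11
      simp only [Finset.mem_insert, Finset.mem_singleton] at hd11
      rcases hd11 with h | h
      · exact h
      · subst h; omega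
    -- `N(P) ≤ M := N(⟨z⟩)`
    have hconj3 : ∀ n : G, orderOf (n * z * n⁻¹) = 3 := by
      intro n
      have := h8_orderOf_conj n⁻¹ z
      rw [inv_inv] at this
      rw [this, hz3]
    have hNM : normalizer ((P : Subgroup G) : Set G) ≤
        normalizer ((zpowers z : Subgroup G) : Set G) := by
      intro n hn
      apply s983_mem_normalizer_zpowers
      · exact huniq _ (s983_conj_mem_centralizer _ n z hn hzC) (hconj3 n)
      · have hn' : n⁻¹ ∈ normalizer ((P : Subgroup G) : Set G) := inv_mem hn
        have h1 := huniq _ (s983_conj_mem_centralizer _ n⁻¹ z hn' hzC) (hconj3 n⁻¹)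
        rwa [inv_inv] at h1
    set M := normalizer ((zpowers z : Subgroup G) : Set G) with hMdef
    have hMG : Nat.card M ∣ 5940 := by
      rw [← hG]; exact Subgroup.card_subgroup_dvd_card M
    have hsyl := s983_nsylow_of_normalizer_le 11 P M hNM
    rw [hNc] at hsyl
    have hmod := h8_nsylow_mod (G := M) 11
    have hk45 : Nat.card (Sylow 11 M) ∣ 45 := by
      rw [← hsyl] at hMG
      have : 132 * Nat.card (Sylow 11 M) ∣ 132 * 45 := by simpa using hMG
      exact Nat.dvd_of_mul_dvd_mul_left (by norm_num) this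
    have hk45' : Nat.card (Sylow 11 M) ∈ Nat.divisors 45 :=
      Nat.mem_divisors.mpr ⟨hk45, by norm_num⟩
    have hd45 : Nat.divisors 45 = {1, 3, 5, 9, 15, 45} := by decide
    rw [hd45] at hk45'
    simp only [Finset.mem_insert, Finset.mem_singleton] at hk45'
    have hz3' : Nat.card (zpowers z : Subgroup G) = 3 := by rw [Nat.card_zpowers, hz3]
    have hMcases : Nat.card M = 132 ∨ Nat.card M = 5940 := by
      rcases hk45' with h | h | h | h | h | h <;> rw [h] at hsyl hmod <;> omega
    rcases hMcases with hM | hM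
    · -- `|M| = 132`: normalizers grow in a Sylow 3-subgroup containing `z`
      have hpz : IsPGroup 3 (zpowers z) :=
        IsPGroup.of_card (n := 1) (by rw [Nat.card_zpowers, hz3, pow_one])
      obtain ⟨S, hS⟩ := hpz.exists_le_sylow
      have hG3 : Nat.card G = 3 ^ 3 * 220 := by rw [hG]; norm_num
      have hSc : Nat.card (S : Subgroup G) = 3 ^ 3 := h8_sylow_card 3 3 220 hG3 (by norm_num) S
      have hne : zpowers z ≠ (S : Subgroup G) := by
        intro he
        rw [← he, hz3'] at hSc
        norm_num at hSc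
      obtain ⟨s, hsS, hsM, hsz⟩ :=
        h8_exists_normalizer_not_mem 3 (S : Subgroup G) (zpowers z) S.isPGroup' hS hne
      have hle : zpowers z ≤ M ⊓ (S : Subgroup G) := le_inf le_normalizer hS
      have hlt := h8_card_lt_of_lt (zpowers z) (M ⊓ (S : Subgroup G)) hle s ⟨hsM, hsS⟩ hsz
      rw [hz3'] at hlt
      have hd1 : Nat.card (M ⊓ (S : Subgroup G) : Subgroup G) ∣ 132 := by
        rw [← hM]; exact Subgroup.card_dvd_of_le inf_le_left
      have hd2 : Nat.card (M ⊓ (S : Subgroup G) : Subgroup G) ∣ 27 := by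
        have := Subgroup.card_dvd_of_le (inf_le_right : M ⊓ (S : Subgroup G) ≤ (S : Subgroup G))
        rw [hSc] at this
        simpa using this
      have hd3 : Nat.card (M ⊓ (S : Subgroup G) : Subgroup G) ∣ 3 := by
        have := Nat.dvd_gcd hd1 hd2
        simpa using this
      have := Nat.le_of_dvd (by norm_num) hd3
      omega
    · -- `M = ⊤`, so `⟨z⟩` is normal
      have hMeq : M = ⊤ := by
        apply Subgroup.eq_top_of_le_card
        rw [hM, hG]
      haveI : (zpowers z : Subgroup G).Normal := h8_normal_of_normalizer_eq_top _ hMeq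
      rcases h8_simple_card_normal (zpowers z : Subgroup G) with h | h
      · omega
      · rw [hG] at h; omega
  · -- `n_11 = 540`
    have hNc : Nat.card (normalizer ((P : Subgroup G) : Set G)) = 11 := by
      rw [h] at hN; omega
    rw [hNc] at hC
    rcases hr10 with rfl | rfl | rfl <;> omega

end Cfsg.Agent.Lib.Helper25.S983
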