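import Mathlib
import Cfsg.Agent.Lib.helper15.S983N4680

set_option autoImplicit false

namespace Cfsg.Agent.Lib.helper3.S983

theorem no_simple_4680 {G : Type*} [Group G] [Finite G] [IsSimpleGroup G] (hG : Nat.card G = 4680) : False :=
  Cfsg.Agent.Lib.helper15.S983.no_simple_4680 hG

end Cfsg.Agent.Lib.helper3.S983
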