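import Cfsg.Agent.Lib.helper7.SAP.Defs

/-!
# SAP GL2 (core): `ψ` is injective on the old subgroup — counting argument.
Hypotheses: the exact statements of GL1 (`glue_psi_zo`), BASE5 (`base_card`) and
PERM3B (`card_closure_zh_old`).
-/

namespace Cfsg.Agent.Lib.helper7.SAP

open Equiv

universe u

theorem sapgl2_core {p k l : ℕ} {G : Type u} [Group G] [Fact p.Prime] (H : GlueHyp p k l G)
    (hGL1 : ∀ x : ZMod p, H.ψ (zo H.a H.z x) = zh (Sum.inl x))
    (hB : Finite (Subgroup.closure (Set.range (zo H.a H.z : ZMod p → G))) ∧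
      2 * Nat.card (Subgroup.closure (Set.range (zo H.a H.z : ZMod p → G))) ≤ (p + 2).factorial)
    (hP : 2 * Nat.card (Subgroup.closure
        (Set.range fun x : ZMod p => zh (Sum.inl x : Ix p k))) = (p + 2).factorial) :
    Set.InjOn H.ψ (Subgroup.closure (Set.range (zo H.a H.z : ZMod p → G)) : Set G) := by
  obtain ⟨hfin, hcard⟩ := hB
  have hmap : (Subgroup.closure (Set.range (zo H.a H.z : ZMod p → G))).map H.ψ =
      Subgroup.closure (Set.range fun x : ZMod p => zh (Sum.inl x : Ix p k)) := by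
    rw [MonoidHom.map_closure]
    congr 1
    ext σ
    constructor
    · rintro ⟨g, ⟨x, rfl⟩, rfl⟩
      exact ⟨x, (hGL1 x).symm⟩
    · rintro ⟨x, rfl⟩
      exact ⟨zo H.a H.z x, ⟨x, rfl⟩, hGL1 x⟩
  have hle : Nat.card ((Subgroup.closure (Set.range (zo H.a H.z : ZMod p → G))).map H.ψ) =
      Nat.card (Subgroup.closure (Set.range fun x : ZMod p => zh (Sum.inl x : Ix p k))) := by
    rw [hmap]
  have hsurj := H.ψ.subgroupMap_surjective (Subgroup.closure (Set.range (zo H.a H.z : ZMod p → G)))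
  have hbij := hsurj.bijective_of_nat_card_le (by rw [hle]; omega)
  intro x hx y hy hxy
  have := hbij.1 (a₁ := ⟨x, hx⟩) (a₂ := ⟨y, hy⟩) (Subtype.ext hxy)
  exact congrArg Subtype.val this

end Cfsg.Agent.Lib.helper7.SAP
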