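import Cfsg.Agent.Lib.helper7.SAP.Defs

/-!
# SAP PRES5 (core): the six common relators hold in `Perm (Pt p k)`.
Hypotheses: the statements of PRES4 (`evP_basic`, first three parts), PERM1 (`ah_pow`,
`ah_conj_zh`), PERM2 (`bh_conj_ah`, `bh_conj_zh`), PERM3 (`zh_carRel`), PERM6 (`th_pow`),
PERM8 (`glue_perm`), PERM9 (`gh_pow`).
-/

namespace Cfsg.Agent.Lib.helper7.SAP

open Equiv

universe u

theorem sappres5_core (p k l : ℕ) [NeZero p] (hp1 : (0 : ZMod p) ≠ 1) (r : (ZMod p)ˣ) (ez et : ℕ)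
    (Bw Nw : FreeGroup (Fin 2)) (hB : evP p k l Bw = bh k r) (hN : evP p k l Nw = nh p k l)
    (hA : evP p k l wA = ah p k) (hZ : evP p k l (wG ^ ez) = zh (Sum.inl 0))
    (hT : evP p k l (wG ^ et) = th p k l)
    (h_ah_pow : (ah p k) ^ p = 1)
    (h_ah_conj : ∀ y : Ix p k, ah p k * zh y * (ah p k)⁻¹ =
      zh (Sum.elim (fun x => Sum.inl (x + 1)) Sum.inr y : Ix p k))
    (h_bh_ah : bh k r * ah p k * (bh k r)⁻¹ = (ah p k) ^ (r : ZMod p).val)
    (h_bh_zh : ∀ x : ZMod p, bh k r * zh (Sum.inl x) * (bh k r)⁻¹ =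
      (zh (Sum.inl ((r : ZMod p) * x) : Ix p k))⁻¹)
    (h_car : CarRel (zh : Ix p k → Perm (Pt p k)))
    (h_th_pow : (th p k l) ^ (l + k) = 1)
    (h_glue : ((nh p k l)⁻¹ * th p k l) * ((ah p k) ^ l * bh k r * ((ah p k) ^ l)⁻¹) =
      ((ah p k) ^ l * bh k r * ((ah p k) ^ l)⁻¹) * ((nh p k l)⁻¹ * th p k l))
    (h_gh_pow : ∀ e : ℕ, (zh (Sum.inl 0 : Ix p k) * th p k l) ^ e =
      (zh (Sum.inl 0 : Ix p k)) ^ e * (th p k l) ^ e) :
    ∀ w ∈ relsCommon p l k ez et (r : ZMod p).val Bw Nw, evP p k l w = 1 := by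
  have hG : evP p k l wG = zh (Sum.inl 0) * th p k l := by
    simp [evP, wG]
  intro w hw
  simp only [relsCommon, List.mem_cons, List.not_mem_nil, or_false] at hw
  rcases hw with rfl | rfl | rfl | rfl | rfl | rfl
  · rw [map_pow, hA, h_ah_pow]
  · rw [map_pow, hG, h_gh_pow, pow_mul, h_car.1, one_pow, one_mul, mul_comm 3, pow_mul, h_th_pow,
      one_pow]
  · rw [map_pow, map_mul, map_mul, map_mul, map_inv, hZ, hA, h_ah_conj]
    have := h_car.2 (Sum.inl 0) (Sum.inl (0 + 1)) (by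
      intro h
      apply hp1
      have := Sum.inl_injective h
      simpa using this)
    simpa using this
  · rw [map_mul, map_mul, map_mul, map_inv, map_inv, map_pow, hB, hA, h_bh_ah, mul_inv_cancel]
  · rw [map_mul, map_mul, map_mul, map_inv, hB, hZ, h_bh_zh, mul_zero, inv_mul_cancel]
  · simp only [map_mul, map_inv, map_pow, hB, hA, hT, hN]
    rw [h_glue, mul_inv_cancel]

end Cfsg.Agent.Lib.helper7.SAP
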