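import Mathlib
import Cfsg.Agent.Lib.helper4.ElemClassB
import Cfsg.Agent.Lib.helper4.M24Rigid
import Cfsg.Agent.Lib.helper4.FpfCentC
import Cfsg.Agent.Lib.Helper26.SB.Defs

set_option autoImplicit false

/-! SB-LB: fixed-point-free involutions of `M24` (class `2B`): the `2^6` of the sextet of the
involution is normalised by the centralizer and self-centralizing. -/

namespace Cfsg.Agent.Lib.Helper26.SB

open Cfsg Cfsg.Agent.Lib.helper4 Cfsg.Agent.Lib.Helper12.Golay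
open scoped Pointwise

/-- The elementary abelian `2^6` of the standard sextet: the elements of `M24` fixing every tetrad
and squaring to the identity. -/
def lb_Q0 : Subgroup (Equiv.Perm GolayPt) where
  carrier := {q | q ∈ Bset S₁ ∧ q * q = 1}
  mul_mem' := by
    rintro a b ⟨ha, ha2⟩ ⟨hb, hb2⟩
    refine ⟨⟨M24.mul_mem ha.1 hb.1, fun t ht => ?_⟩, sq_mul_S₁ ha hb ha2 hb2⟩
    rw [mul_smul, hb.2 t ht, ha.2 t ht]
  one_mem' := ⟨⟨M24.one_mem, fun t _ => one_smul _ t⟩, one_mul 1⟩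
  inv_mem' := by
    rintro a ⟨ha, ha2⟩
    refine ⟨⟨M24.inv_mem ha.1, fun t ht => ?_⟩, ?_⟩
    · rw [inv_smul_eq_iff, ha.2 t ht]
    · rw [← mul_inv_rev, ha2, inv_one]

theorem lb_mem_Q0 {q : Equiv.Perm GolayPt} : q ∈ lb_Q0 ↔ q ∈ Bset S₁ ∧ q * q = 1 := Iff.rfl

set_option maxRecDepth 100000 in
theorem lb_checks :
    (∀ L ∈ N64, L ∈ B192) ∧ (∀ L ∈ N64, compTbl L L = List.range 24) ∧
    (∀ a < 24, ∀ b < 24, (∀ L ∈ N64, L.getD a 0 = a → L.getD b 0 = b) →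
      ∀ m ∈ tets1, m.testBit a = true → m.testBit b = true) ∧
    (∀ C ∈ B192, (∀ L ∈ N64, compTbl C L = compTbl L C) → compTbl C C = List.range 24) := by
  decide +kernel

theorem lb_fpt {L : List ℕ} (hv : ValidT L) {i : ℕ} (hi : i < 24) :
    fperm L (pt i) = pt (L.getD i 0) := by
  rw [fperm_apply hv]
  unfold tblFun
  rw [idx_pt hi]

theorem lb_valid {L : List ℕ} (hL : L ∈ N64) : ValidT L :=
  okK_valid (B192_checks.2.2.2.1 L (lb_checks.1 L hL)).1

theorem lb_fperm_mem {L : List ℕ} (hL : L ∈ N64) : fperm L ∈ lb_Q0 := by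
  refine ⟨fperm_mem_Bset (lb_checks.1 L hL), ?_⟩
  apply tblOf_injective
  rw [tblOf_mul, tblOf_fperm (lb_valid hL), lb_checks.2.1 L hL, tblOf_one]

/-- Self-centralising, for the standard sextet. -/
theorem lb_std_cent {y : Equiv.Perm GolayPt} (hy : y ∈ M24)
    (hc : ∀ q ∈ lb_Q0, y * q = q * y) : y ∈ lb_Q0 := by
  -- `y` maps every point into its own tetrad
  have hpt : ∀ a < 24, ∀ m ∈ tets1, m.testBit a = true →
      m.testBit (idx (y (pt a))) = true := by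
    intro a ha
    apply lb_checks.2.2.1 a ha (idx (y (pt a))) (idx_lt _)
    intro L hL hLa
    have hv := lb_valid hL
    have e := congrArg (fun f : Equiv.Perm GolayPt => f (pt a)) (hc _ (lb_fperm_mem hL))
    simp only [Equiv.Perm.mul_apply] at e
    rw [lb_fpt hv ha, hLa] at e
    have e2 : fperm L (pt (idx (y (pt a)))) = pt (idx (y (pt a))) := by
      rw [pt_idx]
      exact e.symm
    rw [lb_fpt hv (idx_lt _)] at e2
    exact pt_injOn (getD_lt_of_valid hv.2.1 _) (idx_lt _) e2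
  have hB : y ∈ Bset S₁ := by
    refine ⟨hy, fun t ht => ?_⟩
    obtain ⟨m, hm, rfl⟩ := mem_S₁.mp ht
    apply Finset.eq_of_subset_of_card_le
    · intro p hp
      obtain ⟨p0, hp0, rfl⟩ := Finset.mem_smul_finset.mp hp
      rw [mem_fs] at hp0
      have h := hpt (idx p0) (idx_lt _) m hm hp0
      rw [pt_idx] at h
      rw [mem_fs]
      exact h
    · rw [Finset.card_smul_finset]
  refine ⟨hB, ?_⟩
  apply tblOf_injective
  rw [tblOf_mul, tblOf_one]
  apply lb_checks.2.2.2 _ (tblOf_mem_B192 hB)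
  intro L hL
  have e := congrArg tblOf (hc _ (lb_fperm_mem hL))
  rwa [tblOf_mul, tblOf_mul, tblOf_fperm (lb_valid hL)] at e

/-- Normalised by the centralizer of `τ₁`, for the standard sextet. -/
theorem lb_std_norm {g : Equiv.Perm GolayPt} (hg : g ∈ M24) (hgt : g * τ₁ = τ₁ * g)
    {q : Equiv.Perm GolayPt} (hq : q ∈ lb_Q0) : g * q * g⁻¹ ∈ lb_Q0 := by
  refine ⟨conj_stab_mem_Bset hg (cent_le_stab hg hgt) hq.1, ?_⟩
  calc g * q * g⁻¹ * (g * q * g⁻¹) = g * (q * q) * g⁻¹ := by group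
    _ = 1 := by rw [hq.2]; group

/-- LB: fixed-point-free involutions of `M24` (class `2B`): a conjugate `Q ≅ 2^6` of the kernel
`2^6` of the standard sextet group is normalised by the centralizer and self-centralizing. -/
theorem local2B (t : Equiv.Perm GolayPt) (ht : t ∈ M24) (h2 : t * t = 1) (hf : ∀ p, t p ≠ p) :
    ∃ Q : Subgroup (Equiv.Perm GolayPt), Q ≤ M24 ∧ (∀ q ∈ Q, q * q = 1) ∧
      (∀ g ∈ M24, g * t = t * g → ∀ q ∈ Q, g * q * g⁻¹ ∈ Q) ∧
      (∀ y ∈ M24, y * t = t * y → (∀ q ∈ Q, y * q = q * y) → y ∈ Q) := by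
  have ht2 : t ^ 2 = 1 := by rw [pow_two]; exact h2
  obtain ⟨w1, hw1, e1⟩ := class2B ht ht2 hf
  obtain ⟨w0, hw0, e0⟩ := class2B τ₁_mem_Bset.1 (by rw [pow_two]; exact τ₁_sq) τ₁_fpf
  -- `t = u τ₁ u⁻¹`
  obtain ⟨u, hu, hut⟩ : ∃ u ∈ M24, u * τ₁ * u⁻¹ = t := by
    refine ⟨w1⁻¹ * w0, M24.mul_mem (M24.inv_mem hw1) hw0, ?_⟩
    calc w1⁻¹ * w0 * τ₁ * (w1⁻¹ * w0)⁻¹ = w1⁻¹ * (w0 * τ₁ * w0⁻¹) * w1 := by group
      _ = w1⁻¹ * (w1 * t * w1⁻¹) * w1 := by rw [e0, e1]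
      _ = t := by group
  have hmem : ∀ q, q ∈ lb_Q0.map (MulAut.conj u).toMonoidHom ↔ u⁻¹ * q * u ∈ lb_Q0 := by
    intro q
    rw [Subgroup.mem_map]
    constructor
    · rintro ⟨q0, hq0, rfl⟩
      have e : u⁻¹ * ((MulAut.conj u).toMonoidHom q0) * u = q0 := by
        show u⁻¹ * (u * q0 * u⁻¹) * u = q0
        group
      rwa [e]
    · intro h
      refine ⟨_, h, ?_⟩
      show u * (u⁻¹ * q * u) * u⁻¹ = q
      group
  have hcomm : ∀ c : Equiv.Perm GolayPt, c * t = t * c →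
      (u⁻¹ * c * u) * τ₁ = τ₁ * (u⁻¹ * c * u) := by
    intro c h
    have et : τ₁ = u⁻¹ * t * u := by rw [← hut]; group
    rw [et]
    calc u⁻¹ * c * u * (u⁻¹ * t * u) = u⁻¹ * (c * t) * u := by group
      _ = u⁻¹ * (t * c) * u := by rw [h]
      _ = u⁻¹ * t * u * (u⁻¹ * c * u) := by group
  refine ⟨lb_Q0.map (MulAut.conj u).toMonoidHom, ?_, ?_, ?_, ?_⟩
  · intro q hq
    rw [hmem] at hq
    have h := M24.mul_mem (M24.mul_mem hu hq.1.1) (M24.inv_mem hu)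
    have e : u * (u⁻¹ * q * u) * u⁻¹ = q := by group
    rwa [e] at h
  · intro q hq
    rw [hmem] at hq
    calc q * q = u * ((u⁻¹ * q * u) * (u⁻¹ * q * u)) * u⁻¹ := by group
      _ = 1 := by rw [hq.2]; group
  · intro g hg hgt q hq
    rw [hmem] at hq ⊢
    have h := lb_std_norm (M24.mul_mem (M24.mul_mem (M24.inv_mem hu) hg) hu) (hcomm g hgt) hq
    have e : u⁻¹ * g * u * (u⁻¹ * q * u) * (u⁻¹ * g * u)⁻¹ = u⁻¹ * (g * q * g⁻¹) * u := by group
    rwa [e] at h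
  · intro y hy _ hc
    rw [hmem]
    apply lb_std_cent (M24.mul_mem (M24.mul_mem (M24.inv_mem hu) hy) hu)
    intro q0 hq0
    have hq : u * q0 * u⁻¹ ∈ lb_Q0.map (MulAut.conj u).toMonoidHom := by
      rw [hmem]
      have e : u⁻¹ * (u * q0 * u⁻¹) * u = q0 := by group
      rwa [e]
    have e := hc _ hq
    calc u⁻¹ * y * u * q0 = u⁻¹ * (y * (u * q0 * u⁻¹)) * u := by group
      _ = u⁻¹ * (u * q0 * u⁻¹ * y) * u := by rw [e]
      _ = q0 * (u⁻¹ * y * u) := by group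

end Cfsg.Agent.Lib.Helper26.SB
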