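import Mathlib
import Cfsg.Agent.Lib.helper14.SGUDefs
import Cfsg.Agent.Lib.Helper20.SPDK3

set_option autoImplicit false

/-! SGU row CYCGEN (verbatim): an invariant `W` without fixed vectors of dimension `i = ord_r(q)` is
cyclic, and an endomorphism commuting with `y` and preserving `W` acts on `W` as a polynomial in `y`. -/

namespace Cfsg.Agent.Lib.helper14.SGU

open Polynomial Module Cfsg.Agent.Lib.Lead.SPU Cfsg.Agent.Lib.Helper19.SPD

variable {F : Type*} [Field F] {d : ℕ}

/-- an invariant subspace is invariant under polynomials in `y`. -/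
theorem sgucycgen_aeval_mem (y : (Fin d ⊕ Fin d → F) →ₗ[F] (Fin d ⊕ Fin d → F))
    (W : Submodule F (Fin d ⊕ Fin d → F)) (hW : Inv y W) (g : F[X]) :
    ∀ v ∈ W, aeval y g v ∈ W := by
  have hpow : ∀ n : ℕ, ∀ v ∈ W, (y ^ n) v ∈ W := by
    intro n
    induction n with
    | zero =>
      intro v hv
      rw [pow_zero, Module.End.one_apply]
      exact hv
    | succ n ih =>
      intro v hv
      rw [pow_succ, Module.End.mul_apply]
      exact ih _ (hW v hv)
  induction g using Polynomial.induction_on' with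
  | add p q hp hq =>
    intro v hv
    rw [map_add, LinearMap.add_apply]
    exact W.add_mem (hp v hv) (hq v hv)
  | monomial n a =>
    intro v hv
    rw [aeval_monomial, Module.algebraMap_end_eq_smul_id, Module.End.mul_apply,
      LinearMap.smul_apply, LinearMap.id_apply]
    exact W.smul_mem a (hpow n v hv)

theorem cyc_gen [Fintype F] {q : ℕ} (hq : Fintype.card F = q) (r : ℕ) [Fact r.Prime] (i : ℕ) (hi : i = orderOf (q : ZMod r))
    (y : (Fin d ⊕ Fin d → F) →ₗ[F] (Fin d ⊕ Fin d → F)) (hy : y ^ r = 1)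
    (W : Submodule F (Fin d ⊕ Fin d → F)) (hW : Inv y W) (hff : FF y W) (hdim : finrank F W = i)
    (J : (Fin d ⊕ Fin d → F) →ₗ[F] (Fin d ⊕ Fin d → F)) (hJW : ∀ w ∈ W, J w ∈ W) (hJy : ∀ v, J (y v) = y (J v)) :
    ∃ h : F[X], ∀ w ∈ W, J w = aeval y h w := by
  by_cases hbot : W = ⊥
  · refine ⟨0, fun w hw => ?_⟩
    rw [hbot, Submodule.mem_bot] at hw
    rw [hw, map_zero, map_zero]
  obtain ⟨v, hvW, hv0⟩ := Submodule.exists_mem_ne_zero_of_ne_bot hbot
  -- the cyclic subspace of `v`
  let ev : F[X] →ₗ[F] (Fin d ⊕ Fin d → F) :=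
    (LinearMap.applyₗ v).comp (Polynomial.aeval y).toLinearMap
  have hev : ∀ g : F[X], ev g = aeval y g v := fun g => rfl
  have hUW : LinearMap.range ev ≤ W := by
    rintro _ ⟨g, rfl⟩
    rw [hev]
    exact sgucycgen_aeval_mem y W hW g v hvW
  have hUinv : Inv y (LinearMap.range ev) := by
    rintro _ ⟨g, rfl⟩
    refine ⟨X * g, ?_⟩
    rw [hev, hev, map_mul, aeval_X, Module.End.mul_apply]
  have hUff : FF y (LinearMap.range ev) := fun u hu => hff u (hUW hu)
  have hvU : v ∈ LinearMap.range ev := ⟨1, by rw [hev, map_one, Module.End.one_apply]⟩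
  have hk3 := k3_dvd hq r y hy (LinearMap.range ev) hUinv hUff
  rw [← hi] at hk3
  have hle : finrank F (LinearMap.range ev) ≤ i := by
    rw [← hdim]
    exact Submodule.finrank_mono hUW
  have hpos : 0 < finrank F (LinearMap.range ev) := by
    rw [Module.finrank_pos_iff_exists_ne_zero]
    exact ⟨⟨v, hvU⟩, fun h => hv0 (congrArg Subtype.val h)⟩
  have hfU : finrank F (LinearMap.range ev) = i := le_antisymm hle (Nat.le_of_dvd hpos hk3)
  have hUeq : LinearMap.range ev = W := Submodule.eq_of_le_of_finrank_eq hUW (by rw [hfU, hdim])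
  -- `J v` is a polynomial in `y` applied to `v`
  have hJv : J v ∈ LinearMap.range ev := by
    rw [hUeq]
    exact hJW v hvW
  obtain ⟨h, hh⟩ := hJv
  rw [hev] at hh
  have hcomm : Commute J y := by
    apply LinearMap.ext
    intro u
    rw [Module.End.mul_apply, Module.End.mul_apply]
    exact hJy u
  refine ⟨h, fun w hw => ?_⟩
  rw [← hUeq] at hw
  obtain ⟨g, rfl⟩ := hw
  rw [hev]
  have hc : Commute J (aeval y g) :=
    Algebra.commute_of_mem_adjoin_singleton_of_commute (Polynomial.aeval_mem_adjoin_singleton F y)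
      hcomm
  have h1 : J (aeval y g v) = aeval y g (J v) := by
    have := LinearMap.congr_fun hc.eq v
    rw [Module.End.mul_apply, Module.End.mul_apply] at this
    exact this
  rw [h1, ← hh, ← Module.End.mul_apply, ← Module.End.mul_apply, ← map_mul, ← map_mul, mul_comm]

end Cfsg.Agent.Lib.helper14.SGU
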