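import Mathlib
import Cfsg.Agent.Lib.helper14.SGUDefs

set_option autoImplicit false

/-! SGU row ODDANTI (verbatim): an element of odd order anticommutes only with `0`. -/

namespace Cfsg.Agent.Lib.helper14.SGU

open Polynomial Module Cfsg.Agent.Lib.Lead.SPU Cfsg.Agent.Lib.Helper19.SPD

variable {F : Type*} [Field F] {d : ℕ}

/-- `x^k j = (-1)^k j x^k`. -/
theorem sguoddanti_pow {n : Type*} [Fintype n] [DecidableEq n] (x j : Matrix n n F)
    (hanti : x * j = -(j * x)) (k : ℕ) : x ^ k * j = (-1 : F) ^ k • (j * x ^ k) := by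
  induction k with
  | zero => rw [pow_zero, pow_zero, one_mul, mul_one, one_smul]
  | succ k ih =>
    calc x ^ (k + 1) * j = x * (x ^ k * j) := by rw [pow_succ', mul_assoc]
      _ = x * ((-1 : F) ^ k • (j * x ^ k)) := by rw [ih]
      _ = (-1 : F) ^ k • ((x * j) * x ^ k) := by rw [Matrix.mul_smul, mul_assoc]
      _ = (-1 : F) ^ k • (-(j * x) * x ^ k) := by rw [hanti]
      _ = (-1 : F) ^ (k + 1) • (j * x ^ (k + 1)) := by
        rw [pow_succ' x k, ← mul_assoc j x, neg_mul, smul_neg, pow_succ, mul_neg_one, neg_smul]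

theorem odd_anti {n : Type*} [Fintype n] [DecidableEq n] (h2 : (2 : F) ≠ 0) (r : ℕ) (hr : Odd r) (x j : Matrix n n F)
    (hx : x ^ r = 1) (hanti : x * j = -(j * x)) : j = 0 := by
  have h := sguoddanti_pow x j hanti r
  rw [hx, one_mul, mul_one, hr.neg_one_pow] at h
  ext a b
  have h1 := congrFun (congrFun h a) b
  rw [Matrix.smul_apply, smul_eq_mul, neg_one_mul] at h1
  have h3 : (2 : F) * j a b = 0 := by linear_combination h1
  rw [Matrix.zero_apply]
  exact (mul_eq_zero.mp h3).resolve_left h2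

end Cfsg.Agent.Lib.helper14.SGU
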