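import Mathlib
import Cfsg.Agent.Lib.Helper1.SLN.Defs
import Cfsg.Agent.Lib.Helper1.SLN.Defs2

/-!
# Project SL7 (designer helper1, S2288), row Z0c (helper25), VERBATIM: `nu_inv_t23_mem`
-/

set_option autoImplicit false

namespace Cfsg.Agent.Lib.Helper1.SLN

open Matrix Equiv
open Cfsg.Agent.Lib.helper17.SLP

universe u v w

/-- Z0c [S]  `t23` swaps `0, 1`. -/
theorem nu_inv_t23_mem (M : ℕ) (ν : alternatingGroup (Fin (M + 4)))
    (h0 : (ν : Equiv.Perm (Fin (M + 4))) (i0 M) = i1 M) (h1 : (ν : Equiv.Perm (Fin (M + 4))) (i1 M) = i0 M) :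
    ν⁻¹ * t23 M ∈ stab01 M := by
  have ht0 : ((t23 M : alternatingGroup (Fin (M + 4))) : Equiv.Perm (Fin (M + 4))) (i0 M) = i1 M := by
    show (swap (i0 M) (i1 M) * swap (i2 M) (i3 M)) (i0 M) = i1 M
    rw [Equiv.Perm.mul_apply, Equiv.swap_apply_of_ne_of_ne (i02 M) (i03 M), Equiv.swap_apply_left]
  have ht1 : ((t23 M : alternatingGroup (Fin (M + 4))) : Equiv.Perm (Fin (M + 4))) (i1 M) = i0 M := by
    show (swap (i0 M) (i1 M) * swap (i2 M) (i3 M)) (i1 M) = i0 M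
    rw [Equiv.Perm.mul_apply, Equiv.swap_apply_of_ne_of_ne (i12 M) (i13 M), Equiv.swap_apply_right]
  have hn0 : ((ν⁻¹ : alternatingGroup (Fin (M + 4))) : Equiv.Perm (Fin (M + 4))) (i1 M) = i0 M := by
    rw [Subgroup.coe_inv, Equiv.Perm.inv_eq_iff_eq]; exact h0.symm
  have hn1 : ((ν⁻¹ : alternatingGroup (Fin (M + 4))) : Equiv.Perm (Fin (M + 4))) (i0 M) = i1 M := by
    rw [Subgroup.coe_inv, Equiv.Perm.inv_eq_iff_eq]; exact h1.symm
  constructor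
  · show ((ν⁻¹ * t23 M : alternatingGroup (Fin (M + 4))) : Equiv.Perm (Fin (M + 4))) (i0 M) = i0 M
    rw [Subgroup.coe_mul, Equiv.Perm.mul_apply, ht0, hn0]
  · show ((ν⁻¹ * t23 M : alternatingGroup (Fin (M + 4))) : Equiv.Perm (Fin (M + 4))) (i1 M) = i1 M
    rw [Subgroup.coe_mul, Equiv.Perm.mul_apply, ht1, hn1]

end Cfsg.Agent.Lib.Helper1.SLN
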