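import Cfsg.Agent.Lib.Helper25.SLMA5
import Cfsg.Agent.Lib.Helper24.SLMA4
import Cfsg.Agent.Lib.Helper11.SLMD1

set_option autoImplicit false
set_option linter.unusedSectionVars false
set_option linter.unusedVariables false

/-! Project SLM (S2332), piece D3: an irreducible representation of degree at least 2 is
"big" (`k ≥ 2 (q^m - 1)`) or "thin" (`k = q^m - 1 + b`, `χ = b - 1` on `Q \ 1`). -/

namespace Cfsg.Agent.Lib.helper15.SLM

open Matrix

section D

variable {F : Type*} [Field F] [Fintype F] [DecidableEq F]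
  {κ : Type*} [Fintype κ] [DecidableEq κ]
  {V : Type*} [AddCommGroup V] [Module ℂ V] [FiniteDimensional ℂ V]

/-- an idempotent-free fact: an endomorphism whose range has finrank 0 is zero -/
theorem h25_eq_zero_of_finrank_range (e : Module.End ℂ V)
    (h : Module.finrank ℂ (LinearMap.range e) = 0) : e = 0 := by
  have h1 : LinearMap.range e = ⊥ := Submodule.finrank_eq_zero.1 h
  exact LinearMap.range_eq_bot.1 h1

/-- D3 (R1) : big or thin -/
theorem thin_or_big (q m : ℕ) (hq : Fintype.card F = q) (hm : Fintype.card κ = m) (hm2 : 2 ≤ m)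
    (ρ : Representation ℂ (SpecialLinearGroup (Unit ⊕ κ) F) V) (hirr : ρ.IsIrreducible)
    (hk : 2 ≤ Module.finrank ℂ V) :
    2 * (q ^ m - 1) ≤ Module.finrank ℂ V ∨
    ∃ b : ℕ, Module.finrank ℂ V = q ^ m - 1 + b ∧ Module.finrank ℂ (fixSp ρ xQ) = b ∧
      ∀ u : κ → F, u ≠ 0 → ρ.character (xQ u) = (b : ℂ) - 1 := by
  classical
  set χ₀ : AddChar F ℂ := AddChar.FiniteField.primitiveChar_to_Complex F with hχdef
  have hχ₀ : χ₀.IsPrimitive := AddChar.FiniteField.primitiveChar_to_Complex_isPrimitive F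
  have hκ : 2 ≤ Fintype.card κ := by rw [hm]; exact hm2
  -- a nonzero vector
  have hnt : Nontrivial κ := by
    rw [← Fintype.one_lt_card_iff_nontrivial]
    omega
  obtain ⟨i, j, hij⟩ := exists_pair_ne κ
  set w₀ : κ → F := Pi.single i 1 with hw₀
  have hw₀0 : w₀ ≠ 0 := by
    intro h
    have := congrFun h i
    simp [hw₀] at this
  -- a fixed transvection of the big group
  set y : Unit ⊕ κ → F := Pi.single (Sum.inr i) 1 with hy
  set η : Unit ⊕ κ → F := Pi.single (Sum.inr j) 1 with hη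
  have hy0 : y ≠ 0 := by
    intro h
    have := congrFun h (Sum.inr i)
    simp [hy] at this
  have hη0 : η ≠ 0 := by
    intro h
    have := congrFun h (Sum.inr j)
    simp [hη] at this
  have h0 : η ⬝ᵥ y = 0 := by
    rw [hη, single_dotProduct, hy, Pi.single_eq_of_ne (by simpa using hij.symm), mul_zero]
  set c : ℂ := ρ.character (xQ w₀) with hc
  have hconst : ∀ u : κ → F, u ≠ 0 → ρ.character (xQ u) = c := by
    intro u hu
    rw [hc, ← character_tv_eq hκ ρ y η hy0 hη0 h0 u hu, character_tv_eq hκ ρ y η hy0 hη0 h0 w₀ hw₀0]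
  obtain ⟨hA, hB⟩ := mult_of_const χ₀ hχ₀ ρ xQ xQ_add c hconst
  set k : ℕ := Module.finrank ℂ V with hkdef
  set b : ℕ := Module.finrank ℂ (fixSp ρ xQ) with hbdef
  set a : ℕ := Module.finrank ℂ (LinearMap.range (eIdem χ₀ ρ xQ w₀)) with hadef
  have hq1 : 1 ≤ q ^ m := Nat.one_le_pow _ _ (by rw [← hq]; exact Fintype.card_pos)
  have hQ : ((Fintype.card F : ℂ)) ^ Fintype.card κ = ((q ^ m : ℕ) : ℂ) := by
    rw [hq, hm]; push_cast; rfl
  rw [hQ] at hB
  have hA0 := hA w₀ hw₀0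
  rw [hQ] at hA0
  have hQne : ((q ^ m : ℕ) : ℂ) ≠ 0 := by
    exact_mod_cast (by omega : q ^ m ≠ 0)
  -- all ranks are equal to `a`
  have hall : ∀ w : κ → F, w ≠ 0 →
      Module.finrank ℂ (LinearMap.range (eIdem χ₀ ρ xQ w)) = a := by
    intro w hw
    have h1 := hA w hw
    rw [hQ, ← hA0] at h1
    have h2 := mul_right_cancel₀ hQne h1
    exact_mod_cast h2
  -- `k = a (q^m - 1) + b` and `c = b - a`
  have hc_eq : c = (k : ℂ) - (a : ℂ) * ((q ^ m : ℕ) : ℂ) := by
    rw [hA0]; ring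
  have hkab : (k : ℂ) = (a : ℂ) * (((q ^ m : ℕ) : ℂ) - 1) + (b : ℂ) := by
    have h3 : (b : ℂ) * ((q ^ m : ℕ) : ℂ) =
        ((k : ℂ) - (a : ℂ) * (((q ^ m : ℕ) : ℂ) - 1)) * ((q ^ m : ℕ) : ℂ) := by
      rw [hB, hc_eq]; ring
    have h4 := mul_right_cancel₀ hQne h3
    rw [h4]; ring
  have hkabN : k = a * (q ^ m - 1) + b := by
    have : (k : ℂ) = ((a * (q ^ m - 1) + b : ℕ) : ℂ) := by
      rw [hkab]
      push_cast [Nat.cast_sub hq1]
      ring
    exact_mod_cast this
  have hcab : c = (b : ℂ) - (a : ℂ) := by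
    rw [hc_eq, hkab]; ring
  -- `a ≠ 0`
  have ha0 : a ≠ 0 := by
    intro ha
    have hzero : ∀ w : κ → F, w ≠ 0 → eIdem χ₀ ρ xQ w = 0 := by
      intro w hw
      apply h25_eq_zero_of_finrank_range
      rw [hall w hw, ha]
    have hone : eIdem χ₀ ρ xQ 0 = 1 := by
      have hs := sum_eIdem χ₀ hχ₀ ρ xQ xQ_add
      rw [Finset.sum_eq_single (0 : κ → F)] at hs
      · exact hs
      · intro w _ hw
        exact hzero w hw
      · intro h
        exact absurd (Finset.mem_univ _) h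
    have htop : fixSp ρ xQ = ⊤ := by
      rw [← range_eIdem_zero χ₀ ρ xQ xQ_add, hone]
      exact LinearMap.range_eq_top.2 (fun v => ⟨v, rfl⟩)
    obtain ⟨u, hu⟩ := exists_xQ_ne_one hκ ρ hirr hk
    apply hu
    ext v
    have hv : v ∈ fixSp ρ xQ := by rw [htop]; trivial
    exact hv u
  rcases Nat.lt_or_ge a 2 with ha2 | ha2
  · right
    have ha1 : a = 1 := by omega
    refine ⟨b, ?_, rfl, ?_⟩
    · rw [hkabN, ha1, one_mul]
    · intro u hu
      rw [hconst u hu, hcab, ha1, Nat.cast_one]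
  · left
    rw [hkabN]
    calc 2 * (q ^ m - 1) ≤ a * (q ^ m - 1) := Nat.mul_le_mul_right _ ha2
      _ ≤ a * (q ^ m - 1) + b := Nat.le_add_right _ _

end D

end Cfsg.Agent.Lib.helper15.SLM
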