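import Cfsg.Agent.Lib.Helper25.SLMA5
import Cfsg.Agent.Lib.Helper24.SLMA10

set_option autoImplicit false
set_option linter.unusedSectionVars false
set_option linter.unusedVariables false

/-! Project SLM (S2332), piece D7: the rank 3 lower bound `q - 1 ≤ b`. -/

namespace Cfsg.Agent.Lib.helper15.SLM

open Matrix

section D

variable {F : Type*} [Field F] [Fintype F] [DecidableEq F]
  {κ : Type*} [Fintype κ] [DecidableEq κ]
  {V : Type*} [AddCommGroup V] [Module ℂ V] [FiniteDimensional ℂ V]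

/-- explicit form of the normalisation of the radical by `dSL A` -/
theorem h25_dSL_mul_xQ (A : SpecialLinearGroup κ F) (u : κ → F) :
    (dSL A : SpecialLinearGroup (Unit ⊕ κ) F) * xQ u =
      xQ (((A⁻¹ : SpecialLinearGroup κ F) : Matrix κ κ F)ᵀ *ᵥ u) * dSL A := by
  apply Subtype.ext
  rw [Matrix.SpecialLinearGroup.coe_mul, Matrix.SpecialLinearGroup.coe_mul, coe_dSL, coe_xQ, coe_xQ]
  refine dMat_mul_xMat 1 _ u _ ?_
  rw [Matrix.mulVec_transpose, Matrix.vecMul_vecMul, ← Matrix.SpecialLinearGroup.coe_mul,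
    inv_mul_cancel, Matrix.SpecialLinearGroup.coe_one, Matrix.vecMul_one, one_smul]

theorem h25_dSL_isUnit (A : SpecialLinearGroup κ F) :
    IsUnit (((A⁻¹ : SpecialLinearGroup κ F) : Matrix κ κ F)ᵀ).det := by
  rw [Matrix.det_transpose, Matrix.SpecialLinearGroup.det_coe]
  exact isUnit_one

/-- `ρ (dSL A)` commutes with the idempotent `e_0` -/
theorem h25_dSL_comm_eIdem_zero (χ₀ : AddChar F ℂ)
    (ρ : Representation ℂ (SpecialLinearGroup (Unit ⊕ κ) F) V) (A : SpecialLinearGroup κ F) :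
    ρ (dSL A) * eIdem χ₀ ρ xQ 0 = eIdem χ₀ ρ xQ 0 * ρ (dSL A) := by
  have h := eIdem_conj χ₀ ρ xQ (dSL A) _ (h25_dSL_isUnit A) (h25_dSL_mul_xQ A) 0
  rwa [Matrix.zero_vecMul] at h

/-- D7 : rank 3 (`m = 2`) lower bound -/
theorem n3_bound (q : ℕ) (hq : Fintype.card F = q) (hm : Fintype.card κ = 2)
    (χ₀ : AddChar F ℂ) (hχ₀ : χ₀.IsPrimitive)
    (ρ : Representation ℂ (SpecialLinearGroup (Unit ⊕ κ) F) V) (b : ℕ)
    (hb : Module.finrank ℂ (fixSp ρ xQ) = b)
    (htr : ∀ (y η : κ → F) (h : η ⬝ᵥ y = 0), y ≠ 0 → η ≠ 0 →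
      LinearMap.trace ℂ V (ρ (dSL (tv y η h)) * eIdem χ₀ ρ xQ 0) = (b : ℂ) - (q : ℂ) ^ 1) :
    q - 1 ≤ b := by
  have hnt : Nontrivial κ := by
    rw [← Fintype.one_lt_card_iff_nontrivial, hm]
    norm_num
  obtain ⟨i, j, hij⟩ := exists_pair_ne κ
  set y : κ → F := Pi.single i 1 with hy
  set η : κ → F := Pi.single j 1 with hη
  have hy0 : y ≠ 0 := by
    intro h
    have := congrFun h i
    simp [hy] at this
  have hη0 : η ≠ 0 := by
    intro h
    have := congrFun h j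
    simp [hη] at this
  have h0 : η ⬝ᵥ y = 0 := by
    rw [hη, single_dotProduct, hy, Pi.single_eq_of_ne hij.symm, mul_zero]
  have h0a : ∀ a : F, (a • η) ⬝ᵥ y = 0 := by
    intro a
    rw [smul_dotProduct, h0, smul_zero]
  have hmul : ∀ a a' : F, tv y ((a + a') • η) (h0a _) = tv y (a • η) (h0a a) * tv y (a' • η) (h0a a') := by
    intro a a'
    apply Subtype.ext
    show tvMat y ((a + a') • η) = tvMat y (a • η) * tvMat y (a' • η)
    rw [tvMat_mul y _ _ (h0a a), add_smul]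
  have key := lbl ρ (fun a : F => (dSL (tv y (a • η) (h0a a)) : SpecialLinearGroup (Unit ⊕ κ) F))
    (fun a a' => by
      show dSL (tv y ((a + a') • η) (h0a _)) = dSL (tv y (a • η) (h0a a)) * dSL (tv y (a' • η) (h0a a'))
      rw [hmul, map_mul])
    (eIdem χ₀ ρ xQ 0)
    (by rw [eIdem_mul_self χ₀ hχ₀ ρ xQ xQ_add, if_pos rfl])
    (fun a => h25_dSL_comm_eIdem_zero χ₀ ρ _)
    b 0
    (by rw [trace_eIdem_eq_finrank χ₀ hχ₀ ρ xQ xQ_add, range_eIdem_zero χ₀ ρ xQ xQ_add, hb])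
    (fun a ha => by
      have := htr y (a • η) (h0a a) hy0 (smul_ne_zero ha hη0)
      rw [this, hq])
  rw [hq, pow_zero, mul_one] at key
  exact key

end D

end Cfsg.Agent.Lib.helper15.SLM
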