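import Cfsg.Agent.Lib.Helper25.SLNM12core

/-!
# SLN M12 (verbatim): `permSL (o0 o2 o1) = w_12 w_01`.
-/

set_option autoImplicit false

namespace Cfsg.Agent.Lib.helper17.SLN

open Cfsg.Agent.Lib.helper17.SLP

universe u v w v'

section M

open Matrix

variable {F : Type u} [Field F] {ι : Type w} [Fintype ι] [DecidableEq ι]

/-- M12 [M]  deps M1 M4 M5 S3. -/
theorem gen_M (p : Pts ι) (c : alternatingGroup ι) (hc : (c : Equiv.Perm ι) = cyc3 p.o0 p.o2 p.o1) :
    (permSL c : Matrix.SpecialLinearGroup ι F) =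
      wr p permSL (rho p) p.o1 p.o2 * wr p permSL (rho p) p.o0 p.o1 :=
  slnm12_core p c hc (phiR_M p p.o1 p.o2 p.h12 wM) (phiR_M p p.o0 p.o1 p.h01 wM)

end M

end Cfsg.Agent.Lib.helper17.SLN
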