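import Cfsg.Agent.Lib.Helper24.SLNA7
import Cfsg.Agent.Lib.Helper24.SLNM1

/-!
# SLN M12 (core): `permSL (o0 o2 o1) = w_12 w_01` in `SL(ι, F)`.
Hypotheses: the statement of M4 (`phiR_M`) at the pairs `(o1, o2)`, `(o0, o1)` and `m = wM`.
-/

set_option autoImplicit false

namespace Cfsg.Agent.Lib.helper17.SLN

open Cfsg.Agent.Lib.helper17.SLP

universe u v w v'

section M

open Matrix

variable {F : Type u} [Field F] {ι : Type w} [Fintype ι] [DecidableEq ι]

theorem slnm12_inclT_mulVec (f : Fin 2 → ι) (v : ι → F) (b : Fin 2) :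
    ((incl F f)ᵀ *ᵥ v) b = v (f b) := by
  simp [Matrix.mulVec, dotProduct, incl]

omit [Fintype ι] in
theorem slnm12_incl_mulVec (f : Fin 2 → ι) (w : Fin 2 → F) (k : ι) :
    (incl F f *ᵥ w) k = (if k = f 0 then w 0 else 0) + (if k = f 1 then w 1 else 0) := by
  simp [Matrix.mulVec, dotProduct, incl, Fin.sum_univ_two]

/-- the action of the embedded `2 × 2` matrix on a vector -/
theorem slnm12_rhoM_mulVec (f : Fin 2 → ι) (M : Matrix (Fin 2) (Fin 2) F) (v : ι → F) (k : ι) :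
    (rhoM f M *ᵥ v) k = v k +
      ((if k = f 0 then (M - 1) 0 0 * v (f 0) + (M - 1) 0 1 * v (f 1) else 0) +
       (if k = f 1 then (M - 1) 1 0 * v (f 0) + (M - 1) 1 1 * v (f 1) else 0)) := by
  unfold rhoM
  have hw : ∀ (u : Fin 2 → F) (a : Fin 2),
      ((M - 1) *ᵥ u) a = (M - 1) a 0 * u 0 + (M - 1) a 1 * u 1 := by
    intro u a
    simp [Matrix.mulVec, dotProduct, Fin.sum_univ_two]
  rw [Matrix.add_mulVec, Matrix.one_mulVec, ← Matrix.mulVec_mulVec, ← Matrix.mulVec_mulVec,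
    Pi.add_apply, slnm12_incl_mulVec, hw, hw, slnm12_inclT_mulVec, slnm12_inclT_mulVec]

/-- `w_ij` on a vector: `v_i ↦ v_j`, `v_j ↦ -v_i`. -/
theorem slnm12_w_mulVec (i j : ι) (hij : i ≠ j) (v : ι → F) (k : ι) :
    (rhoM (pr i j) (wM : Matrix.SpecialLinearGroup (Fin 2) F).1 *ᵥ v) k =
      if k = i then v j else if k = j then -v i else v k := by
  rw [slnm12_rhoM_mulVec]
  have h0 : pr i j 0 = i := rfl
  have h1 : pr i j 1 = j := rfl
  rw [h0, h1]
  simp only [wM, Matrix.sub_apply, Matrix.one_apply, Matrix.of_apply, Matrix.cons_val',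
    Matrix.cons_val_zero, Matrix.cons_val_one, Matrix.cons_val_fin_one]
  rcases eq_or_ne k i with rfl | hki
  · simp [hij]
  · rcases eq_or_ne k j with rfl | hkj
    · simp [hki]
    · simp [hki, hkj]

/-- a permutation matrix on a vector -/
theorem slnm12_perm_mulVec (σ : alternatingGroup ι) (v : ι → F) (k : ι) :
    (((permSL σ : Matrix.SpecialLinearGroup ι F) : Matrix ι ι F) *ᵥ v) k =
      v ((σ : Equiv.Perm ι)⁻¹ k) := by
  simp only [Matrix.mulVec, dotProduct, permSL_apply]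
  rw [Finset.sum_eq_single ((σ : Equiv.Perm ι)⁻¹ k)]
  · simp
  · intro l _ hl
    rw [if_neg, zero_mul]
    intro h
    apply hl
    rw [h]; simp
  · intro h; exact absurd (Finset.mem_univ _) h

theorem slnm12_core (p : Pts ι) (c : alternatingGroup ι)
    (hc : (c : Equiv.Perm ι) = cyc3 p.o0 p.o2 p.o1)
    (hM4a : phiR p (permSL : alternatingGroup ι →* Matrix.SpecialLinearGroup ι F) (rho p)
      p.o1 p.o2 wM = rhoF (pr p.o1 p.o2) (pr_injective p.h12) wM)
    (hM4b : phiR p (permSL : alternatingGroup ι →* Matrix.SpecialLinearGroup ι F) (rho p)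
      p.o0 p.o1 wM = rhoF (pr p.o0 p.o1) (pr_injective p.h01) wM) :
    (permSL c : Matrix.SpecialLinearGroup ι F) =
      wr p permSL (rho p) p.o1 p.o2 * wr p permSL (rho p) p.o0 p.o1 := by
  obtain ⟨c0, c2, c1, cfix⟩ := cyc3_apply p.o0 p.o2 p.o1 p.h02 p.h01 p.h12.symm
  rw [← hc] at c0 c2 c1 cfix
  -- the inverse permutation
  have i0 : (c : Equiv.Perm ι)⁻¹ p.o0 = p.o1 := by rw [Equiv.Perm.inv_eq_iff_eq]; exact c1.symm
  have i1 : (c : Equiv.Perm ι)⁻¹ p.o1 = p.o2 := by rw [Equiv.Perm.inv_eq_iff_eq]; exact c2.symm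
  have i2 : (c : Equiv.Perm ι)⁻¹ p.o2 = p.o0 := by rw [Equiv.Perm.inv_eq_iff_eq]; exact c0.symm
  have ifix : ∀ k, k ≠ p.o0 → k ≠ p.o2 → k ≠ p.o1 → (c : Equiv.Perm ι)⁻¹ k = k := by
    intro k h0 h2 h1
    rw [Equiv.Perm.inv_eq_iff_eq]; exact (cfix k h0 h2 h1).symm
  unfold wr
  rw [hM4a, hM4b]
  apply Subtype.ext
  rw [Matrix.SpecialLinearGroup.coe_mul, rhoF_coe, rhoF_coe, Matrix.ext_iff_mulVec]
  intro v
  rw [← Matrix.mulVec_mulVec]
  funext k
  rw [slnm12_perm_mulVec, slnm12_w_mulVec _ _ p.h12]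
  simp only [slnm12_w_mulVec _ _ p.h01]
  rcases eq_or_ne k p.o0 with rfl | h0
  · rw [i0]; simp [p.h01, p.h02]
  · rcases eq_or_ne k p.o1 with rfl | h1
    · rw [i1]; simp [p.h12.symm, p.h02.symm]
    · rcases eq_or_ne k p.o2 with rfl | h2
      · rw [i2]; simp [p.h12.symm, p.h01.symm]
      · rw [ifix k h0 h2 h1]; simp [h0, h1, h2]

end M

end Cfsg.Agent.Lib.helper17.SLN
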