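import Cfsg.Agent.Lib.helper17.SLN.Defs

/-!
# SLN M5: the embedded `SL₂` on the coordinates `i, j` sends `xM t`, `yM t` to transvections.
-/

set_option autoImplicit false

namespace Cfsg.Agent.Lib.helper17.SLN

open Cfsg.Agent.Lib.helper17.SLP

universe u v w v'

section M

open Matrix

variable {F : Type u} [Field F] {ι : Type w} [Fintype ι] [DecidableEq ι]

omit [Fintype ι] in
/-- `incl f * M * (incl f)ᵀ` entrywise. -/
theorem slnm5_incl_mul (f : Fin 2 → ι) (M : Matrix (Fin 2) (Fin 2) F) (k l : ι) :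
    (incl F f * M * (incl F f)ᵀ) k l =
      ((if k = f 0 then 1 else 0) * M 0 0 + (if k = f 1 then 1 else 0) * M 1 0) *
          (if l = f 0 then 1 else 0) +
        ((if k = f 0 then 1 else 0) * M 0 1 + (if k = f 1 then 1 else 0) * M 1 1) *
          (if l = f 1 then 1 else 0) := by
  simp only [Matrix.mul_apply, Fin.sum_univ_two, incl, Matrix.of_apply, Matrix.transpose_apply]

/-- M5 [S-M]  `rhoF_coe`, `rhoM`, `incl`, `pr`; `xM t - 1 = Matrix.single 0 1 t` and `incl f * single a b t * (incl f)ᵀ = single (f a) (f b) t` (entrywise: `Matrix.mul_apply`, `Fin.sum_univ_two`); `Matrix.transvection i j t = 1 + Matrix.single i j t`. -/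
theorem rhoF_xM (i j : ι) (hij : i ≠ j) (t : F) :
    ((rhoF (pr i j) (pr_injective hij) (xM t) : Matrix.SpecialLinearGroup ι F) : Matrix ι ι F) =
      Matrix.transvection i j t := by
  rw [rhoF_coe, rhoM, Matrix.transvection]
  congr 1
  ext k l
  rw [slnm5_incl_mul]
  simp only [xM, pr, Matrix.sub_apply, Matrix.one_apply, Matrix.single_apply, Matrix.of_apply,
    Matrix.cons_val', Matrix.cons_val_zero, Matrix.cons_val_one, Matrix.cons_val_fin_one]
  rcases eq_or_ne k i with rfl | hk <;> rcases eq_or_ne l j with rfl | hl <;>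
    simp [*, Ne.symm]

theorem rhoF_yM (i j : ι) (hij : i ≠ j) (t : F) :
    ((rhoF (pr i j) (pr_injective hij) (yM t) : Matrix.SpecialLinearGroup ι F) : Matrix ι ι F) =
      Matrix.transvection j i t := by
  rw [rhoF_coe, rhoM, Matrix.transvection]
  congr 1
  ext k l
  rw [slnm5_incl_mul]
  simp only [yM, pr, Matrix.sub_apply, Matrix.one_apply, Matrix.single_apply, Matrix.of_apply,
    Matrix.cons_val', Matrix.cons_val_zero, Matrix.cons_val_one, Matrix.cons_val_fin_one]
  rcases eq_or_ne k j with rfl | hk <;> rcases eq_or_ne l i with rfl | hl <;>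
    simp [*, Ne.symm]

end M

end Cfsg.Agent.Lib.helper17.SLN
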