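import Cfsg.Agent.Lib.helper17.SLN.Defs

/-!
# SLN S1: 2×2 identities for the swap automorphism `swM`.
-/

set_option autoImplicit false

namespace Cfsg.Agent.Lib.helper17.SLN

open Cfsg.Agent.Lib.helper17.SLP

universe u v w v'

section S

variable {F : Type u} [Field F]

/-- S1 [S]  2×2 identities (`Subtype.ext`, `Matrix.ext`/`fin_cases`, `Matrix.mul_apply`, `Fin.sum_univ_two`; `m.2` with `Matrix.det_fin_two` is not needed). -/
theorem swM_mul (m m' : Matrix.SpecialLinearGroup (Fin 2) F) : swM (m * m') = swM m * swM m' := by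
  apply Subtype.ext
  show (swM (m * m')).1 = (swM m).1 * (swM m').1
  have hmm : (m * m').1 = m.1 * m'.1 := rfl
  ext i j
  fin_cases i <;> fin_cases j <;>
    simp [swM, hmm, Matrix.mul_apply, Fin.sum_univ_two] <;> ring

theorem swM_one : swM (1 : Matrix.SpecialLinearGroup (Fin 2) F) = 1 := by
  apply Subtype.ext
  ext i j
  fin_cases i <;> fin_cases j <;> simp [swM]

theorem swM_swM (m : Matrix.SpecialLinearGroup (Fin 2) F) : swM (swM m) = m := by
  apply Subtype.ext
  ext i j
  fin_cases i <;> fin_cases j <;> simp [swM]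

end S

end Cfsg.Agent.Lib.helper17.SLN
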