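import Cfsg.Agent.Lib.helper17.SLN.Defs

/-!
# SLN S4: the rank-one relator in `SL₂`.
-/

set_option autoImplicit false

namespace Cfsg.Agent.Lib.helper17.SLN

open Cfsg.Agent.Lib.helper17.SLP

universe u v w v'

section S

variable {F : Type u} [Field F]

/-- the matrix of `x(t) y(-t⁻¹) x(t)` -/
theorem slns4_n (t : F) (ht : t ≠ 0) :
    (xM t).1 * (yM (-t⁻¹)).1 * (xM t).1 = !![0, t; -t⁻¹, 0] := by
  ext i j
  fin_cases i <;> fin_cases j <;> simp [xM, yM, Matrix.mul_apply, Fin.sum_univ_two, ht]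

/-- S4 [S-M]  2×2 identity (the rank-one relator of `Sys`): with `n := x(t) y(-t⁻¹) x(t) = !![0,t;-t⁻¹,0]`, `n x(u) n⁻¹ = y(-t⁻² u)`.  `field_simp`. -/
theorem rel_M (t u : F) (ht : t ≠ 0) :
    (xM t * yM (-t⁻¹) * xM t) * xM u * (xM t * yM (-t⁻¹) * xM t)⁻¹ = yM (-(t⁻¹ ^ 2 * u)) := by
  rw [mul_inv_eq_iff_eq_mul]
  apply Subtype.ext
  show ((xM t).1 * (yM (-t⁻¹)).1 * (xM t).1) * (xM u).1 =
    (yM (-(t⁻¹ ^ 2 * u))).1 * ((xM t).1 * (yM (-t⁻¹)).1 * (xM t).1)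
  rw [slns4_n t ht]
  have h11 : -(t⁻¹ * u) = -(t⁻¹ ^ 2 * u) * t := by field_simp
  ext i j
  fin_cases i <;> fin_cases j <;>
    simp [xM, yM, Matrix.mul_apply, Fin.sum_univ_two, h11]

end S

end Cfsg.Agent.Lib.helper17.SLN
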