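import Mathlib
import Cfsg.Agent.Lib.helper17.SLP.Defs

/-!
# SLP row N3 (verbatim): `h ^ (2 m) = 1` from `w ^ 2 = 1` and the rank-one relation when `lam ^ m = -1`
-/

set_option autoImplicit false

namespace Cfsg.Agent.Lib.helper17.SLP

/-- `h ^ n * x t * (h ^ n)⁻¹ = x (lam ^ n * t)`. -/
theorem slpn3_conj_pow {G : Type*} [Group G] {F : Type*} [Field F] (lam : F) (x : F → G) (h : G)
    (hconj : ∀ t, h * x t * h⁻¹ = x (lam * t)) (n : ℕ) (t : F) :
    h ^ n * x t * (h ^ n)⁻¹ = x (lam ^ n * t) := by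
  induction n generalizing t with
  | zero => simp
  | succ n ih =>
    have h1 : h ^ (n + 1) * x t * (h ^ (n + 1))⁻¹ = h ^ n * (h * x t * h⁻¹) * (h ^ n)⁻¹ := by
      rw [pow_succ]; group
    rw [h1, hconj, ih, pow_succ]
    congr 1
    ring

/-- abstract group-theoretic core of N3. -/
theorem slpn3_group {G : Type*} [Group G] (u v w g c : G)
    (huv : u * v = 1) (hw2 : w * w = 1)
    (hR1 : u * w * u * w * u = w)
    (hgu : g * u * g⁻¹ = v) (hgw : g * w * g⁻¹ = c * w)
    (hcv : c * v = v * c) (hwc : w * c = c⁻¹ * w) : c = 1 := by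
  have hwinv : w⁻¹ = w := inv_eq_of_mul_eq_one_right hw2
  have hvinv : u⁻¹ = v := inv_eq_of_mul_eq_one_right huv
  -- R2
  have hR2 : v * w * v * w * v = w := by
    have h1 := congrArg (fun y => y⁻¹) hR1
    simp only [mul_inv_rev, hwinv, hvinv] at h1
    simpa [mul_assoc] using h1
  -- conjugate R1 by g
  have hconj : v * (c * w) * v * (c * w) * v = c * w := by
    have h1 : g * (u * w * u * w * u) * g⁻¹ = g * w * g⁻¹ := by rw [hR1]
    have h2 : g * (u * w * u * w * u) * g⁻¹ =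
        (g * u * g⁻¹) * (g * w * g⁻¹) * (g * u * g⁻¹) * (g * w * g⁻¹) * (g * u * g⁻¹) := by group
    rw [h2, hgu, hgw] at h1
    exact h1
  have hvc' : v * c⁻¹ = c⁻¹ * v := by
    have : Commute c v := hcv
    exact (this.inv_left).symm.eq
  have hLHS : v * (c * w) * v * (c * w) * v = w := by
    calc v * (c * w) * v * (c * w) * v
        = (v * c) * w * (v * c) * w * v := by group
      _ = (c * v) * w * (c * v) * w * v := by rw [hcv]
      _ = c * v * (w * c) * v * w * v := by group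
      _ = c * v * (c⁻¹ * w) * v * w * v := by rw [hwc]
      _ = c * (v * c⁻¹) * w * v * w * v := by group
      _ = c * (c⁻¹ * v) * w * v * w * v := by rw [hvc']
      _ = v * w * v * w * v := by group
      _ = w := hR2
  have h3 : w = c * w := hLHS.symm.trans hconj
  have h4 : c * w = 1 * w := by rw [one_mul]; exact h3.symm
  exact mul_right_cancel h4

/-- N3 [M]. -/
theorem n_psl_even {G : Type*} [Group G] {F : Type*} [Field F] (lam : F) (x : F → G) (h w : G) (m : ℕ)
    (hadd : ∀ s t, x (s + t) = x s * x t) (hconj : ∀ t, h * x t * h⁻¹ = x (lam * t))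
    (hneg : lam ^ m = -1) (hwh : w * h * w⁻¹ = h⁻¹) (hw2 : w ^ 2 = 1)
    (hK1 : relK1 (x 1) w = 1) : h ^ (2 * m) = 1 := by
  have hww : w * w = 1 := by rw [← sq]; exact hw2
  have hwinv : w⁻¹ = w := inv_eq_of_mul_eq_one_right hww
  have hx0 : x 0 = 1 := by
    have h1 := hadd 0 0
    rw [add_zero] at h1
    exact (mul_eq_left).mp h1.symm |> fun h => h
  have huv : x 1 * x (-1) = 1 := by
    rw [← hadd, add_neg_cancel, hx0]
  have hR1 : x 1 * w * x 1 * w * x 1 = w := by
    unfold relK1 at hK1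
    rw [hwinv] at hK1
    have h1 : x 1 * w * x 1 * w * x 1 = w⁻¹ := eq_inv_of_mul_eq_one_left hK1
    rw [h1, hwinv]
  have hgu : h ^ m * x 1 * (h ^ m)⁻¹ = x (-1) := by
    rw [slpn3_conj_pow lam x h hconj, hneg]
    congr 1
    ring
  -- w inverts h ^ m
  have hwhm : w * h ^ m * w⁻¹ = (h ^ m)⁻¹ := by
    rw [← conj_pow, hwh, inv_pow]
  have hgw : h ^ m * w * (h ^ m)⁻¹ = h ^ (2 * m) * w := by
    have h1 : w * h ^ m = (h ^ m)⁻¹ * w := by
      have := congrArg (fun y => y * w) hwhm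
      simpa [mul_assoc] using this
    have h2 : w * (h ^ m)⁻¹ = h ^ m * w := by
      have : h ^ m * (w * h ^ m) * (h ^ m)⁻¹ = h ^ m * ((h ^ m)⁻¹ * w) * (h ^ m)⁻¹ := by rw [h1]
      have e1 : h ^ m * (w * h ^ m) * (h ^ m)⁻¹ = h ^ m * w := by group
      have e2 : h ^ m * ((h ^ m)⁻¹ * w) * (h ^ m)⁻¹ = w * (h ^ m)⁻¹ := by group
      rw [e1, e2] at this
      exact this.symm
    rw [mul_assoc, h2, ← mul_assoc, ← pow_add, two_mul]
  have hcv : h ^ (2 * m) * x (-1) = x (-1) * h ^ (2 * m) := by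
    have h1 := slpn3_conj_pow lam x h hconj (2 * m) (-1)
    have h2 : lam ^ (2 * m) = 1 := by
      rw [mul_comm, pow_mul, hneg]; ring
    rw [h2, one_mul] at h1
    have := congrArg (fun y => y * h ^ (2 * m)) h1
    simpa [mul_assoc] using this
  have hwc : w * h ^ (2 * m) = (h ^ (2 * m))⁻¹ * w := by
    have h1 : w * h ^ (2 * m) * w⁻¹ = (h ^ (2 * m))⁻¹ := by
      rw [← conj_pow, hwh, inv_pow]
    have := congrArg (fun y => y * w) h1
    simpa [mul_assoc] using this
  exact slpn3_group (x 1) (x (-1)) w (h ^ m) (h ^ (2 * m)) huv hww hR1 hgu hgw hcv hwc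

end Cfsg.Agent.Lib.helper17.SLP
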