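import Mathlib
import Cfsg.Agent.Lib.helper17.SLP.Defs
import Cfsg.Agent.Lib.helper3.SP4.Defs
import Cfsg.Agent.Lib.helper2.SLPM1
import Cfsg.Agent.Lib.Helper21.SP4C3core
import Cfsg.Agent.Lib.Helper29.SP4C2
import Cfsg.Agent.Lib.Helper29.SP4T9
import Cfsg.Agent.Lib.Helper18.SP4T3

/-!
# Project SP4 (helper3, S2293), row C7 (`cm_ab`): a spare under an own name (exact Skel statement), helper25.
On the landed C2 (`cm_mul_right`, `cm_conj`), T3 (`sq_span`), T9 (`xcd_add`) and helper21's `sp4c3_conj`.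
-/

set_option autoImplicit false

namespace Cfsg.Agent.Lib.helper3.SP4

open Cfsg.Agent.Lib.helper17.SLP

universe u v

section C

variable {F : Type u} [Field F] [Fintype F] {G : Type v} [Group G]

omit [Fintype F] in
theorem sp4c7_h25_rx_neg (φ : Matrix.SpecialLinearGroup (Fin 2) F →* G) (t : F) :
    rx φ (-t) = (rx φ t)⁻¹ := by
  apply eq_inv_of_mul_eq_one_left
  rw [← sp4c3_rx_add, neg_add_cancel, sp4c3_rx_zero]

theorem sp4c7_h25_cm_inv_right {G : Type*} [Group G] (a b : G) : cm a b⁻¹ = b⁻¹ * (cm a b)⁻¹ * b := by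
  unfold cm
  group

theorem sp4c7_h25_conj_eq {G : Type*} [Group G] {b m : G} (h : Commute b m) : b * m * b⁻¹ = m := by
  rw [h.eq, mul_inv_cancel_right]

theorem sp4c7_h25_conj_eq' {G : Type*} [Group G] {b m : G} (h : Commute b m) : b⁻¹ * m * b = m := by
  rw [mul_assoc, ← h.eq, inv_mul_cancel_left]

/-- **C7**, spare under an own name: the exact Skel statement of `cm_ab`. -/
theorem sp4c7_h25_cm_ab (ζ : Fˣ) (φa φb : Matrix.SpecialLinearGroup (Fin 2) F →* G) (H : Hyp ζ φa φb)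
    (R : Tor4 φa φb) (hbd : ∀ s t, Commute (rx φb s) (xd φa φb t))
    (hcd : ∀ s t, Commute (xc φa φb s) (xd φa φb t)) (hbc : ∀ s t, Commute (rx φb s) (xc φa φb t)) :
    ∀ s t, cm (rx φa s) (rx φb t) = xc φa φb (s * t) * xd φa φb (s ^ 2 * t) := by
  obtain ⟨hcadd, hdadd, hc0, hd0, hcneg, hdneg⟩ := xcd_add φa φb
  intro s
  by_cases hs : s = 0
  · intro t
    rw [hs, sp4c3_rx_zero, zero_mul, zero_pow (by norm_num), zero_mul, hc0, hd0]
    unfold cm
    group
  · set su : Fˣ := Units.mk0 s hs with hsu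
    -- the generators: squares of units
    have hgen : ∀ r : Fˣ, cm (rx φa s) (rx φb ((r : F) ^ 2)) =
        xc φa φb (s * (r : F) ^ 2) * xd φa φb (s ^ 2 * (r : F) ^ 2) := by
      intro r
      set σ : Fˣ := r * su with hσ
      set ρ : Fˣ := r ^ 2 * su with hρ
      have hA := sp4c3_conj φa φb (rx φa) σ ρ _ _ (R.aa σ) (R.ab ρ) 1
      have hB := sp4c3_conj φa φb (rx φb) σ ρ _ _ (R.ba σ) (R.bb ρ) 1
      have hC := sp4c3_conj φa φb (xc φa φb) σ ρ _ _ (R.ca σ) (R.cb ρ) 1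
      have hD := sp4c3_conj φa φb (xd φa φb) σ ρ _ _ (R.da σ) (R.db ρ) 1
      have h9 : (rh φa σ * rh φb ρ) * cm (rx φa 1) (rx φb 1) * (rh φa σ * rh φb ρ)⁻¹ =
          (rh φa σ * rh φb ρ) * (xc φa φb 1 * xd φa φb 1) * (rh φa σ * rh φb ρ)⁻¹ := by
        rw [H.C9]
      have e : (rh φa σ * rh φb ρ) * (xc φa φb 1 * xd φa φb 1) * (rh φa σ * rh φb ρ)⁻¹ =
          ((rh φa σ * rh φb ρ) * xc φa φb 1 * (rh φa σ * rh φb ρ)⁻¹) *
            ((rh φa σ * rh φb ρ) * xd φa φb 1 * (rh φa σ * rh φb ρ)⁻¹) := by group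
      rw [cm_conj, hA, hB, e, hC, hD] at h9
      have hr : (r : F) ≠ 0 := r.ne_zero
      have vσ : (σ : F) = (r : F) * s := by
        rw [hσ, Units.val_mul, hsu, Units.val_mk0]
      have vρ : (ρ : F) = (r : F) ^ 2 * s := by
        rw [hρ, Units.val_mul, Units.val_pow_eq_pow_val, hsu, Units.val_mk0]
      have e1 : (σ : F) ^ 2 * (((ρ⁻¹ : Fˣ) : F) * 1) = s := by
        rw [Units.val_inv_eq_inv_val, vσ, vρ]
        field_simp
      have e2 : ((σ⁻¹ : Fˣ) : F) ^ 2 * ((ρ : F) ^ 2 * 1) = (r : F) ^ 2 := by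
        rw [Units.val_inv_eq_inv_val, vσ, vρ]
        field_simp
      have e3 : (1 : F) * ((ρ : F) * 1) = s * (r : F) ^ 2 := by
        rw [vρ]
        ring
      have e4 : (σ : F) ^ 2 * ((1 : F) * 1) = s ^ 2 * (r : F) ^ 2 := by
        rw [vσ]
        ring
      rw [e1, e2, e3, e4] at h9
      exact h9
    -- the set of good `t` is an additive subgroup
    have hzero : cm (rx φa s) (rx φb 0) = xc φa φb (s * 0) * xd φa φb (s ^ 2 * 0) := by
      rw [sp4c3_rx_zero, mul_zero, mul_zero, hc0, hd0]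
      unfold cm
      group
    have hadd : ∀ x y : F,
        cm (rx φa s) (rx φb x) = xc φa φb (s * x) * xd φa φb (s ^ 2 * x) →
        cm (rx φa s) (rx φb y) = xc φa φb (s * y) * xd φa φb (s ^ 2 * y) →
        cm (rx φa s) (rx φb (x + y)) = xc φa φb (s * (x + y)) * xd φa φb (s ^ 2 * (x + y)) := by
      intro x y hx hy
      have hcomm : Commute (rx φb x) (xc φa φb (s * y) * xd φa φb (s ^ 2 * y)) :=
        (hbc x (s * y)).mul_right (hbd x (s ^ 2 * y))
      rw [sp4c3_rx_add, cm_mul_right, hx, hy, sp4c7_h25_conj_eq hcomm, mul_add, mul_add, hcadd, hdadd]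
      have h1 := (hcd (s * y) (s ^ 2 * x)).eq
      calc xc φa φb (s * x) * xd φa φb (s ^ 2 * x) * (xc φa φb (s * y) * xd φa φb (s ^ 2 * y))
          = xc φa φb (s * x) * (xd φa φb (s ^ 2 * x) * xc φa φb (s * y)) * xd φa φb (s ^ 2 * y) := by
            simp only [mul_assoc]
        _ = xc φa φb (s * x) * (xc φa φb (s * y) * xd φa φb (s ^ 2 * x)) * xd φa φb (s ^ 2 * y) := by
            rw [h1]
        _ = xc φa φb (s * x) * xc φa φb (s * y) * (xd φa φb (s ^ 2 * x) * xd φa φb (s ^ 2 * y)) := by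
            simp only [mul_assoc]
    have hneg : ∀ x : F,
        cm (rx φa s) (rx φb x) = xc φa φb (s * x) * xd φa φb (s ^ 2 * x) →
        cm (rx φa s) (rx φb (-x)) = xc φa φb (s * -x) * xd φa φb (s ^ 2 * -x) := by
      intro x hx
      have hcomm : Commute (rx φb x) (xc φa φb (s * x) * xd φa φb (s ^ 2 * x))⁻¹ :=
        ((hbc x (s * x)).mul_right (hbd x (s ^ 2 * x))).inv_right
      rw [sp4c7_h25_rx_neg, sp4c7_h25_cm_inv_right, hx, sp4c7_h25_conj_eq' hcomm, mul_neg, mul_neg,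
        hcneg, hdneg, mul_inv_rev]
      exact ((hcd (s * x) (s ^ 2 * x)).inv_left.inv_right).eq.symm
    intro t
    have ht : t ∈ AddSubgroup.closure (Set.range fun s : Fˣ => ((s : F)) ^ 2) := by
      rw [sq_span]
      trivial
    induction ht using AddSubgroup.closure_induction with
    | mem x hx =>
      obtain ⟨r, rfl⟩ := hx
      exact hgen r
    | zero => exact hzero
    | add x y _ _ ihx ihy => exact hadd x y ihx ihy
    | neg x _ ih => exact hneg x ih

end C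

end Cfsg.Agent.Lib.helper3.SP4
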