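import Mathlib
import Cfsg.Prelude.Def_GeometricClasses
import Cfsg.Agent.Lib.helper6.SympBasis

set_option autoImplicit false

/-! S5961 / SPD, row (Om3): `Sp_{2d}(F)` is transitive on the ordered orthogonal
decompositions of `F^{2d}` into nondegenerate subspaces of equal dimension. -/

namespace Cfsg.Agent.Lib.Helper25.SPD

open Module Cfsg.Agent.Lib.helper6 Cfsg.Agent.Lib.helper6.SB

variable {F : Type*} [Field F]

/-- an isometric parametrisation of a nondegenerate subspace of dimension `2 k`. -/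
theorem spd_param (d k : ℕ) (W : Submodule F (Fin d ⊕ Fin d → F)) (hfr : finrank F W = 2 * k)
    (hnd : ∀ u ∈ W, u ≠ 0 → ∃ v ∈ W, Cfsg.sympForm d F u v ≠ 0) :
    ∃ φ : (Fin k ⊕ Fin k → F) →ₗ[F] (Fin d ⊕ Fin d → F), LinearMap.range φ = W ∧
      ∀ x y, Cfsg.sympForm d F (φ x) (φ y) = Cfsg.sympForm k F x y := by
  have hnd' : ∀ u ∈ W, (∀ v ∈ W, Cfsg.sympForm d F u v = 0) → u = 0 := by
    intro u hu h
    by_contra hne
    obtain ⟨v, hv, hv'⟩ := hnd u hu hne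
    exact hv' (h v hv)
  obtain ⟨k', φ, hr, hi⟩ := exists_param d (2 * k) W hfr hnd'
  have h1 := finrank_of_param φ hi W hr
  have hk : k' = k := by omega
  subst hk
  exact ⟨φ, hr, hi⟩

/-- gluing isometric parametrisations of pairwise orthogonal nondegenerate subspaces. -/
theorem spd_glue (d k t : ℕ) (hdim : 2 * d = 2 * k * t)
    (D : Fin t → Submodule F (Fin d ⊕ Fin d → F))
    (hfr : ∀ j, finrank F (D j) = 2 * k)
    (hnd : ∀ j, ∀ u ∈ D j, u ≠ 0 → ∃ v ∈ D j, Cfsg.sympForm d F u v ≠ 0)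
    (horth : ∀ j j', j ≠ j' → ∀ u ∈ D j, ∀ v ∈ D j', Cfsg.sympForm d F u v = 0) :
    ∃ Φ : (Fin t → (Fin k ⊕ Fin k → F)) ≃ₗ[F] (Fin d ⊕ Fin d → F),
      (∀ x y, Cfsg.sympForm d F (Φ x) (Φ y) = ∑ j, Cfsg.sympForm k F (x j) (y j)) ∧
      (∀ j z, Φ (Pi.single j z) ∈ D j) ∧
      (∀ j, ∀ u ∈ D j, ∃ z, Φ (Pi.single j z) = u) := by
  classical
  choose φ hφr hφi using fun j => spd_param d k (D j) (hfr j) (hnd j)
  have hφm : ∀ j z, φ j z ∈ D j := by
    intro j z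
    rw [← hφr j]
    exact LinearMap.mem_range_self _ _
  let Φ0 : (Fin t → (Fin k ⊕ Fin k → F)) →ₗ[F] (Fin d ⊕ Fin d → F) :=
    ∑ j, (φ j).comp (LinearMap.proj j)
  have hΦ0 : ∀ x, Φ0 x = ∑ j, φ j (x j) := by
    intro x
    show (∑ j, (φ j).comp (LinearMap.proj j)) x = _
    rw [LinearMap.sum_apply]
    rfl
  have hiso : ∀ x y, Cfsg.sympForm d F (Φ0 x) (Φ0 y) = ∑ j, Cfsg.sympForm k F (x j) (y j) := by
    intro x y
    rw [hΦ0, hΦ0, ← sB_apply, map_sum]
    refine Finset.sum_congr rfl (fun j _ => ?_)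
    rw [map_sum, LinearMap.sum_apply, Finset.sum_eq_single j]
    · rw [sB_apply, hφi]
    · intro j' _ hne
      rw [sB_apply]
      exact horth j' j hne _ (hφm j' _) _ (hφm j _)
    · intro h
      exact absurd (Finset.mem_univ j) h
  have hsingle : ∀ j z, Φ0 (Pi.single j z) = φ j z := by
    intro j z
    rw [hΦ0, Finset.sum_eq_single j]
    · rw [Pi.single_eq_same]
    · intro j' _ hne
      rw [Pi.single_eq_of_ne hne, map_zero]
    · intro h
      exact absurd (Finset.mem_univ j) h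
  have hinj : Function.Injective Φ0 := by
    rw [injective_iff_map_eq_zero]
    intro x hx
    funext j
    by_contra hne
    obtain ⟨w, hw⟩ := sympForm_nondeg k (x j) hne
    apply hw
    have h1 := hiso x (Pi.single j w)
    rw [hx, sympForm_zero_left, Finset.sum_eq_single j] at h1
    · rw [Pi.single_eq_same] at h1
      exact h1.symm
    · intro j' _ hne'
      rw [Pi.single_eq_of_ne hne', sympForm_zero_right]
    · intro h
      exact absurd (Finset.mem_univ j) h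
  have hrank : finrank F (Fin t → (Fin k ⊕ Fin k → F)) = finrank F (Fin d ⊕ Fin d → F) := by
    rw [Module.finrank_pi_fintype]
    simp only [Module.finrank_fintype_fun_eq_card, Fintype.card_sum, Fintype.card_fin,
      Finset.sum_const, Finset.card_univ, smul_eq_mul]
    nlinarith
  refine ⟨LinearEquiv.ofInjectiveOfFinrankEq Φ0 hinj hrank, ?_, ?_, ?_⟩
  · intro x y
    exact hiso x y
  · intro j z
    show Φ0 (Pi.single j z) ∈ D j
    rw [hsingle]
    exact hφm j z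
  · intro j u hu
    rw [← hφr j] at hu
    obtain ⟨z, rfl⟩ := hu
    exact ⟨z, hsingle j z⟩

/-- (Om3) transitivity of the symplectic group on ordered orthogonal decompositions. -/
theorem spd_trans (d k t : ℕ) (hdim : 2 * d = 2 * k * t)
    (D D' : Fin t → Submodule F (Fin d ⊕ Fin d → F))
    (hfr : ∀ j, finrank F (D j) = 2 * k)
    (hnd : ∀ j, ∀ u ∈ D j, u ≠ 0 → ∃ v ∈ D j, Cfsg.sympForm d F u v ≠ 0)
    (horth : ∀ j j', j ≠ j' → ∀ u ∈ D j, ∀ v ∈ D j', Cfsg.sympForm d F u v = 0)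
    (hfr' : ∀ j, finrank F (D' j) = 2 * k)
    (hnd' : ∀ j, ∀ u ∈ D' j, u ≠ 0 → ∃ v ∈ D' j, Cfsg.sympForm d F u v ≠ 0)
    (horth' : ∀ j j', j ≠ j' → ∀ u ∈ D' j, ∀ v ∈ D' j', Cfsg.sympForm d F u v = 0) :
    ∃ g : ↥(Matrix.symplecticGroup (Fin d) F), ∀ j,
      (D j).map (Matrix.toLin' (g : Matrix (Fin d ⊕ Fin d) (Fin d ⊕ Fin d) F)) = D' j := by
  classical
  obtain ⟨Φ, hΦi, hΦm, hΦs⟩ := spd_glue d k t hdim D hfr hnd horth
  obtain ⟨Φ', hΦi', hΦm', hΦs'⟩ := spd_glue d k t hdim D' hfr' hnd' horth'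
  let G : (Fin d ⊕ Fin d → F) ≃ₗ[F] (Fin d ⊕ Fin d → F) := Φ.symm.trans Φ'
  have hG : ∀ u v, Cfsg.sympForm d F (G u) (G v) = Cfsg.sympForm d F u v := by
    intro u v
    show Cfsg.sympForm d F (Φ' (Φ.symm u)) (Φ' (Φ.symm v)) = _
    rw [hΦi', ← hΦi, LinearEquiv.apply_symm_apply, LinearEquiv.apply_symm_apply]
  have hmem : LinearMap.toMatrix' (G : (Fin d ⊕ Fin d → F) →ₗ[F] (Fin d ⊕ Fin d → F)) ∈
      Matrix.symplecticGroup (Fin d) F := by
    rw [mem_symplecticGroup_iff_sympForm]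
    intro u v
    rw [← Matrix.toLin'_apply, ← Matrix.toLin'_apply, Matrix.toLin'_toMatrix']
    exact hG u v
  refine ⟨⟨_, hmem⟩, fun j => ?_⟩
  show (D j).map (Matrix.toLin' (LinearMap.toMatrix'
    (G : (Fin d ⊕ Fin d → F) →ₗ[F] (Fin d ⊕ Fin d → F)))) = D' j
  rw [Matrix.toLin'_toMatrix']
  apply Submodule.eq_of_le_of_finrank_eq
  · rintro _ ⟨u, hu, rfl⟩
    obtain ⟨z, rfl⟩ := hΦs j u hu
    show Φ' (Φ.symm (Φ (Pi.single j z))) ∈ D' j
    rw [LinearEquiv.symm_apply_apply]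
    exact hΦm' j z
  · rw [hfr' j, ← hfr j]
    exact LinearEquiv.finrank_map_eq G (D j)

end Cfsg.Agent.Lib.Helper25.SPD
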