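import Mathlib
import Cfsg.Agent.Lib.Helper19.SPD.Defs
import Cfsg.Agent.Lib.Helper25.SpdOmC
import Cfsg.Agent.Lib.helper14.PolC
import Cfsg.Agent.Lib.helper15.SPDODNE

set_option autoImplicit false

/-! SPD row EXIST, second route (Cauchy + product + embedding), part (E34): from a fixed-point-free
isometry `x₀` of `std m` with `x₀ ^ r = 1` to an element of `Sp_{2d}` whose fixed space has
codimension `2 m j₀`. -/

namespace Cfsg.Agent.Lib.Helper19.SPD

open Module Cfsg.Agent.Lib.helper6 Cfsg.Agent.Lib.helper6.SB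

variable {F : Type*} [Field F]

/-- the product element on `Fin n → std m`, transported to `std k` along an isometric glue `Φ`. -/
theorem spdexist_prod (r m n k : ℕ)
    (Φ : (Fin n → (Fin m ⊕ Fin m → F)) ≃ₗ[F] (Fin k ⊕ Fin k → F))
    (hΦ : ∀ x y, Cfsg.sympForm k F (Φ x) (Φ y) = ∑ j, Cfsg.sympForm m F (x j) (y j))
    (x₀ : (Fin m ⊕ Fin m → F) →ₗ[F] (Fin m ⊕ Fin m → F)) (hiso : Isom x₀) (hx : x₀ ^ r = 1)
    (hff : ∀ v, x₀ v = v → v = 0) :
    ∃ x' : (Fin k ⊕ Fin k → F) →ₗ[F] (Fin k ⊕ Fin k → F),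
      Isom x' ∧ x' ^ r = 1 ∧ ∀ v, x' v = v → v = 0 := by
  let X0 : (Fin n → (Fin m ⊕ Fin m → F)) →ₗ[F] (Fin n → (Fin m ⊕ Fin m → F)) :=
    x₀.compLeft (Fin n)
  have hX0 : ∀ f j, X0 f j = x₀ (f j) := fun f j => rfl
  have hpow : ∀ N : ℕ, ∀ f j, (X0 ^ N) f j = (x₀ ^ N) (f j) := by
    intro N
    induction N with
    | zero =>
      intro f j
      rw [pow_zero, pow_zero, Module.End.one_apply, Module.End.one_apply]
    | succ N ih =>
      intro f j
      rw [pow_succ, Module.End.mul_apply, ih, hX0, pow_succ, Module.End.mul_apply]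
  let x' : (Fin k ⊕ Fin k → F) →ₗ[F] (Fin k ⊕ Fin k → F) :=
    (Φ : (Fin n → (Fin m ⊕ Fin m → F)) →ₗ[F] (Fin k ⊕ Fin k → F)) ∘ₗ X0 ∘ₗ
      (Φ.symm : (Fin k ⊕ Fin k → F) →ₗ[F] (Fin n → (Fin m ⊕ Fin m → F)))
  have hx'a : ∀ v, x' v = Φ (X0 (Φ.symm v)) := fun v => rfl
  have hx'pow : ∀ N : ℕ, ∀ v, (x' ^ N) v = Φ ((X0 ^ N) (Φ.symm v)) := by
    intro N
    induction N with
    | zero =>
      intro v
      rw [pow_zero, pow_zero, Module.End.one_apply, Module.End.one_apply,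
        LinearEquiv.apply_symm_apply]
    | succ N ih =>
      intro v
      rw [pow_succ, Module.End.mul_apply, ih, hx'a, LinearEquiv.symm_apply_apply, pow_succ,
        Module.End.mul_apply]
  refine ⟨x', ?_, ?_, ?_⟩
  · intro u v
    rw [hx'a, hx'a, hΦ]
    have h1 : Cfsg.sympForm k F u v =
        ∑ j, Cfsg.sympForm m F (Φ.symm u j) (Φ.symm v j) := by
      rw [← hΦ, LinearEquiv.apply_symm_apply, LinearEquiv.apply_symm_apply]
    rw [h1]
    refine Finset.sum_congr rfl (fun j _ => ?_)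
    rw [hX0, hX0]
    exact hiso _ _
  · apply LinearMap.ext
    intro v
    rw [hx'pow]
    have h1 : (X0 ^ r) (Φ.symm v) = Φ.symm v := by
      funext j
      rw [hpow, hx, Module.End.one_apply]
    rw [h1, LinearEquiv.apply_symm_apply, Module.End.one_apply]
  · intro v hv
    rw [hx'a] at hv
    have h1 : X0 (Φ.symm v) = Φ.symm v := by
      apply Φ.injective
      rw [hv, LinearEquiv.apply_symm_apply]
    have h2 : Φ.symm v = 0 := by
      funext j
      exact hff _ (congrFun h1 j)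
    rw [← Φ.apply_symm_apply v, h2, map_zero]

/-- an isometric identification of `(std m)^n` with `std (m n)`. -/
theorem spdexist_glue (m n : ℕ) (hm : 1 ≤ m) (hn : 1 ≤ n) :
    ∃ Φ : (Fin n → (Fin m ⊕ Fin m → F)) ≃ₗ[F] (Fin (m * n) ⊕ Fin (m * n) → F),
      ∀ x y, Cfsg.sympForm (m * n) F (Φ x) (Φ y) = ∑ j, Cfsg.sympForm m F (x j) (y j) := by
  have hdim : 2 * (m * n) = 2 * m * n := by ring
  by_cases h1 : n = 1
  · subst h1
    obtain ⟨Φ, hΦ, -, -⟩ := Cfsg.Agent.Lib.Helper25.SPD.spd_glue (F := F) (m * 1) m 1 hdim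
      (fun _ => ⊤)
      (fun _ => by
        rw [finrank_top, Module.finrank_fintype_fun_eq_card, Fintype.card_sum, Fintype.card_fin]
        ring)
      (fun _ u _ hu => by
        obtain ⟨v, hv⟩ := sympForm_nondeg (m * 1) u hu
        exact ⟨v, Submodule.mem_top, hv⟩)
      (fun j j' hne => absurd (Subsingleton.elim j j') hne)
    exact ⟨Φ, hΦ⟩
  · obtain ⟨D, hM, hnd, horth⟩ := od_nonempty (F := F) (d := m * n) (2 * m) n hdim (by omega)
      (even_two_mul m) (by omega)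
    obtain ⟨Φ, hΦ, -, -⟩ := Cfsg.Agent.Lib.Helper25.SPD.spd_glue (F := F) (m * n) m n hdim D
      hM.finrank_eq hnd horth
    exact ⟨Φ, hΦ⟩

/-- the embedded element: identity on the last `k` hyperbolic pairs. -/
theorem spdexist_emb (r j k : ℕ)
    (x' : (Fin j ⊕ Fin j → F) →ₗ[F] (Fin j ⊕ Fin j → F)) (hiso : Isom x') (hx : x' ^ r = 1)
    (hff : ∀ v, x' v = v → v = 0) :
    ∃ x : ↥(Matrix.symplecticGroup (Fin (j + k)) F), x ^ r = 1 ∧
      finrank F ↥(Fx (Matrix.toLin'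
        (x : Matrix (Fin (j + k) ⊕ Fin (j + k)) (Fin (j + k) ⊕ Fin (j + k)) F))) = 2 * k := by
  classical
  let E : (Fin (j + k) ⊕ Fin (j + k) → F) →ₗ[F] (Fin (j + k) ⊕ Fin (j + k) → F) :=
    Cfsg.Agent.Lib.helper14.PolC.emb j k x'
  have hE : ∀ u v, Cfsg.sympForm (j + k) F (E u) (E v) = Cfsg.sympForm (j + k) F u v :=
    Cfsg.Agent.Lib.helper14.PolC.symp_emb j k x' hiso
  have hEr : E ^ r = 1 := by
    show Cfsg.Agent.Lib.helper14.PolC.emb j k x' ^ r = 1
    rw [← Cfsg.Agent.Lib.helper14.PolC.emb_pow, hx, Cfsg.Agent.Lib.helper14.PolC.emb_one]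
  have hmem : LinearMap.toMatrix' E ∈ Matrix.symplecticGroup (Fin (j + k)) F := by
    rw [mem_symplecticGroup_iff_sympForm]
    intro u v
    rw [← Matrix.toLin'_apply, ← Matrix.toLin'_apply, Matrix.toLin'_toMatrix']
    exact hE u v
  refine ⟨⟨_, hmem⟩, ?_, ?_⟩
  · apply Subtype.ext
    rw [SubmonoidClass.coe_pow]
    show (LinearMap.toMatrix' E) ^ r = 1
    apply Matrix.toLin'.injective
    rw [Matrix.toLin'_pow, Matrix.toLin'_toMatrix', hEr, Matrix.toLin'_one]
    rfl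
  · show finrank F ↥(Fx (Matrix.toLin' (LinearMap.toMatrix' E))) = 2 * k
    rw [Matrix.toLin'_toMatrix']
    have hker : Fx E = LinearMap.ker (Cfsg.Agent.Lib.helper14.PolC.pr (F := F) j k) := by
      ext v
      show v ∈ LinearMap.ker (E - 1) ↔ _
      rw [LinearMap.mem_ker, LinearMap.mem_ker, LinearMap.sub_apply, Module.End.one_apply]
      show Cfsg.Agent.Lib.helper14.PolC.emb j k x' v - v = 0 ↔ _
      rw [Cfsg.Agent.Lib.helper14.PolC.emb_apply, add_sub_cancel_left]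
      constructor
      · intro h
        have h2 := congrArg (Cfsg.Agent.Lib.helper14.PolC.pr (F := F) j k) h
        rw [Cfsg.Agent.Lib.helper14.PolC.pr_io, map_zero] at h2
        exact hff _ (sub_eq_zero.mp h2)
      · intro h
        rw [h, map_zero, sub_zero, map_zero]
    rw [hker]
    have hsurj : Function.Surjective (Cfsg.Agent.Lib.helper14.PolC.pr (F := F) j k) := by
      intro y
      exact ⟨Cfsg.Agent.Lib.helper14.PolC.io j k y, Cfsg.Agent.Lib.helper14.PolC.pr_io j k y⟩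
    have h3 := LinearMap.finrank_range_add_finrank_ker
      (Cfsg.Agent.Lib.helper14.PolC.pr (F := F) j k)
    rw [LinearMap.range_eq_top.mpr hsurj, finrank_top, Module.finrank_fintype_fun_eq_card,
      Module.finrank_fintype_fun_eq_card, Fintype.card_sum, Fintype.card_sum, Fintype.card_fin,
      Fintype.card_fin] at h3
    omega

/-- (E34) from a fixed-point-free isometry of `std m` of order dividing `r` to `Sp_{2d}`. -/
theorem spdexist_of_x0 {d : ℕ} (r m j₀ : ℕ) (hm : 1 ≤ m) (hj : 2 * m * j₀ ≤ 2 * d)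
    (x₀ : (Fin m ⊕ Fin m → F) →ₗ[F] (Fin m ⊕ Fin m → F)) (hiso : Isom x₀) (hx : x₀ ^ r = 1)
    (hff : ∀ v, x₀ v = v → v = 0) :
    ∃ x : ↥(Matrix.symplecticGroup (Fin d) F), x ^ r = 1 ∧
      finrank F ↥(Fx (Matrix.toLin' (x : Matrix (Fin d ⊕ Fin d) (Fin d ⊕ Fin d) F))) =
        2 * d - 2 * m * j₀ := by
  by_cases h0 : j₀ = 0
  · subst h0
    refine ⟨1, one_pow r, ?_⟩
    have h1 : Fx (Matrix.toLin' (((1 : ↥(Matrix.symplecticGroup (Fin d) F)) :
        Matrix (Fin d ⊕ Fin d) (Fin d ⊕ Fin d) F))) = ⊤ := by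
      rw [Submonoid.coe_one, Matrix.toLin'_one]
      show LinearMap.ker (LinearMap.id - 1) = ⊤
      rw [LinearMap.ker_eq_top]
      apply LinearMap.ext
      intro v
      rw [LinearMap.sub_apply, LinearMap.id_apply, Module.End.one_apply, sub_self,
        LinearMap.zero_apply]
    rw [h1, finrank_top, Module.finrank_fintype_fun_eq_card, Fintype.card_sum, Fintype.card_fin]
    omega
  · obtain ⟨e, rfl⟩ : ∃ e, d = m * j₀ + e := ⟨d - m * j₀, by nlinarith [Nat.sub_add_cancel (show m * j₀ ≤ d by nlinarith)]⟩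
    obtain ⟨Φ, hΦ⟩ := spdexist_glue (F := F) m j₀ hm (by omega)
    obtain ⟨x', hx'i, hx'r, hx'f⟩ := spdexist_prod r m j₀ (m * j₀) Φ hΦ x₀ hiso hx hff
    obtain ⟨x, hxr, hxf⟩ := spdexist_emb r (m * j₀) e x' hx'i hx'r hx'f
    refine ⟨x, hxr, ?_⟩
    rw [hxf]
    have : 2 * m * j₀ = 2 * (m * j₀) := by ring
    omega

end Cfsg.Agent.Lib.Helper19.SPD
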