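import Mathlib
import Cfsg.Agent.Lib.Helper19.SPD.Defs
import Cfsg.Agent.Lib.Helper25.SpdOmC
import Cfsg.Agent.Lib.Helper24.ElT

set_option autoImplicit false

/-! SPD row ODTRANS (verbatim): the symplectic group is transitive on `IsOD` families. -/

namespace Cfsg.Agent.Lib.Helper19.SPD

open Module

variable {F : Type*} [Field F] {d : ℕ}

/-- the common dimension `a` of an `IsOD` family is even, and `2 d = a t`. -/
theorem spdodtrans_dims {a t : ℕ} (D : Fin t → Submodule F (Fin d ⊕ Fin d → F)) (hD : IsOD a D) :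
    ∃ k, a = 2 * k ∧ 2 * d = 2 * k * t := by
  obtain ⟨hM, hnd, horth⟩ := hD
  have ht := hM.two_le
  have hndx : ∀ u ∈ D ⟨0, by omega⟩, (∀ v ∈ D ⟨0, by omega⟩, Cfsg.sympForm d F u v = 0) → u = 0 := by
    intro u hu h
    by_contra hne
    obtain ⟨v, hv, hv'⟩ := hnd _ u hu hne
    exact hv' (h v hv)
  obtain ⟨k, φ, hr, hi⟩ := Cfsg.Agent.Lib.helper6.SB.exists_param d a (D ⟨0, by omega⟩)
    (hM.finrank_eq _) hndx
  have hk : a = 2 * k := by
    rw [← hM.finrank_eq ⟨0, by omega⟩]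
    exact Cfsg.Agent.Lib.helper6.SB.finrank_of_param φ hi _ hr
  refine ⟨k, hk, ?_⟩
  have h1 := Cfsg.Agent.Lib.Helper24.el_finrank_iSup D hM.indep
  rw [hM.iSup_eq_top, finrank_top, Module.finrank_fintype_fun_eq_card, Fintype.card_sum,
    Fintype.card_fin] at h1
  simp only [hM.finrank_eq, Finset.sum_const, Finset.card_univ, Fintype.card_fin,
    smul_eq_mul] at h1
  rw [hk] at h1
  linarith

theorem od_trans {a t : ℕ} (D D' : Fin t → Submodule F (Fin d ⊕ Fin d → F)) (hD : IsOD a D) (hD' : IsOD a D') :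
    ∃ x : ↥(Matrix.symplecticGroup (Fin d) F),
      ∀ j, (D j).map (Matrix.toLin' (x : Matrix (Fin d ⊕ Fin d) (Fin d ⊕ Fin d) F)) = D' j := by
  obtain ⟨k, hk, hdim⟩ := spdodtrans_dims D hD
  subst hk
  obtain ⟨hM, hnd, horth⟩ := hD
  obtain ⟨hM', hnd', horth'⟩ := hD'
  exact Cfsg.Agent.Lib.Helper25.SPD.spd_trans d k t hdim D D' hM.finrank_eq hnd horth
    hM'.finrank_eq hnd' horth'

end Cfsg.Agent.Lib.Helper19.SPD
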