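import Mathlib
import Cfsg.Agent.Lib.Helper19.SPD.Defs
import Cfsg.Agent.Lib.Helper25.SPDODTRANS
import Cfsg.Agent.Lib.Helper9.SPDOD

set_option autoImplicit false

/-! SPD row ODDVD (verbatim): the number of `IsOD` families divides `|Sp_{2d}(q)|`. -/

namespace Cfsg.Agent.Lib.Helper19.SPD

variable {F : Type*} [Field F] {d : ℕ}

theorem card_od_dvd [Fintype F] {a t : ℕ} (hne : ∃ D : Fin t → Submodule F (Fin d ⊕ Fin d → F), IsOD a D) :
    Nat.card {D : Fin t → Submodule F (Fin d ⊕ Fin d → F) // IsOD a D} ∣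
      Nat.card ↥(Matrix.symplecticGroup (Fin d) F) := by
  classical
  let _ : MulAction ↥(Matrix.symplecticGroup (Fin d) F)
      {D : Fin t → Submodule F (Fin d ⊕ Fin d → F) // IsOD a D} :=
    { smul := fun g D => ⟨fun j => (D.1 j).map
        (Matrix.toLin' (g : Matrix (Fin d ⊕ Fin d) (Fin d ⊕ Fin d) F)), od_map D.1 D.2 g⟩
      one_smul := fun D => Subtype.ext (funext fun j => by
        show (D.1 j).map (Matrix.toLin'
          (((1 : ↥(Matrix.symplecticGroup (Fin d) F)) : Matrix (Fin d ⊕ Fin d) (Fin d ⊕ Fin d) F))) = D.1 j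
        rw [Submonoid.coe_one, Matrix.toLin'_one, Submodule.map_id])
      mul_smul := fun g h D => Subtype.ext (funext fun j => by
        show (D.1 j).map (Matrix.toLin'
          (((g * h : ↥(Matrix.symplecticGroup (Fin d) F)) : Matrix (Fin d ⊕ Fin d) (Fin d ⊕ Fin d) F))) =
          ((D.1 j).map (Matrix.toLin' (h : Matrix (Fin d ⊕ Fin d) (Fin d ⊕ Fin d) F))).map
            (Matrix.toLin' (g : Matrix (Fin d ⊕ Fin d) (Fin d ⊕ Fin d) F))
        rw [Submonoid.coe_mul, Matrix.toLin'_mul, Submodule.map_comp]) }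
  obtain ⟨D₀, hD₀⟩ := hne
  let x₀ : {D : Fin t → Submodule F (Fin d ⊕ Fin d → F) // IsOD a D} := ⟨D₀, hD₀⟩
  have horb : MulAction.orbit ↥(Matrix.symplecticGroup (Fin d) F) x₀ = Set.univ := by
    apply Set.eq_univ_of_forall
    intro D'
    obtain ⟨g, hg⟩ := od_trans D₀ D'.1 hD₀ D'.2
    exact ⟨g, Subtype.ext (funext hg)⟩
  have h1 : Nat.card {D : Fin t → Submodule F (Fin d ⊕ Fin d → F) // IsOD a D} =
      (MulAction.stabilizer ↥(Matrix.symplecticGroup (Fin d) F) x₀).index := by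
    rw [Subgroup.index, ← Nat.card_congr (MulAction.orbitEquivQuotientStabilizer _ x₀), horb]
    exact Nat.card_congr (Equiv.Set.univ _).symm
  rw [h1]
  exact Subgroup.index_dvd_card _

end Cfsg.Agent.Lib.Helper19.SPD
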