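import Mathlib
import Cfsg.Agent.Lib.Helper19.SPD.Defs
import Cfsg.Agent.Lib.Helper24.ElH
import Cfsg.Agent.S0245

set_option autoImplicit false

/-! SPD row ORDER (verbatim): a prime `r ≠ p` dividing `|Sp_{2d}(q)|` has `c ≤ 2 d`. -/

namespace Cfsg.Agent.Lib.Helper19.SPD

variable {F : Type*} [Field F] {d : ℕ}

theorem ord_le [Fintype F] {p q : ℕ} [Fact p.Prime] [CharP F p] (hq : Fintype.card F = q)
    (r : ℕ) [Fact r.Prime] (hrp : r ≠ p) (i : ℕ) (hi : i = orderOf (q : ZMod r))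
    (hdvd : r ∣ Nat.card ↥(Matrix.symplecticGroup (Fin d) F)) : cc i ≤ 2 * d := by
  subst hq
  subst hi
  have hr : r.Prime := Fact.out
  have hp : p.Prime := Fact.out
  have hq1 : 1 ≤ Fintype.card F := Fintype.card_pos
  rw [Cfsg.Agent.S0245.result rfl d] at hdvd
  rcases (Nat.Prime.dvd_mul hr).mp hdvd with h | h
  · exfalso
    have h3 := Nat.Prime.dvd_of_dvd_pow hr h
    obtain ⟨f, _, hf⟩ := FiniteField.card F p
    rw [hf] at h3
    have h4 := Nat.Prime.dvd_of_dvd_pow hr h3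
    exact hrp ((Nat.prime_dvd_prime_iff_eq hr hp).mp h4)
  · obtain ⟨j, hj, hj'⟩ := (Prime.dvd_finsetProd_iff (Nat.Prime.prime hr) _).mp h
    rw [Finset.mem_range] at hj
    rw [Cfsg.Agent.Lib.Helper24.el_ord_dvd_iff _ _ _ hq1] at hj'
    unfold cc
    split_ifs with he
    · exact le_trans (Nat.le_of_dvd (by omega) hj') (by omega)
    · have hodd : Odd (orderOf ((Fintype.card F : ℕ) : ZMod r)) := Nat.not_even_iff_odd.mp he
      have h5 := (Odd.coprime_two_right hodd).dvd_of_dvd_mul_left hj'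
      have h6 := Nat.le_of_dvd (by omega) h5
      omega

end Cfsg.Agent.Lib.Helper19.SPD
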