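import Mathlib
import Cfsg.Agent.Lib.helper3.SPM.Defs
import Cfsg.Agent.Lib.helper3.SPM.Defs2
import Cfsg.Agent.Lib.Helper25.SPMI4core
import Cfsg.Agent.Lib.Helper9.SPME7

/-!
# Project SPM (designer helper3, S2292/S2296), row I4 (helper25), VERBATIM: `xr_ssl`, `xr_ls`, `xr_rel`

The cores `spmi4_*_core` of `Helper25.SPMI4core` applied to the landed row E7 (`Helper9.SPME7`: `xr_pair`).
-/

set_option autoImplicit false
set_option linter.unusedSectionVars false
set_option linter.unusedVariables false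

namespace Cfsg.Agent.Lib.helper3.SPM

open Cfsg.Agent.Lib.helper3.STC Cfsg.Agent.Lib.helper3.STC.Mat Cfsg.Agent.Lib.helper17.SLP

universe u v w v'

section main
variable {F : Type u} [Field F] {ι : Type w} [Fintype ι] [DecidableEq ι] {G : Type v} [Group G]
  (p : Pts ι) (ν : Equiv.Perm ι →* G) (lam : Sp4 F →* G)

theorem xr_ssl (H : Glue p ν lam) (hS : SpFacts F) {a b : ι ⊕ ι} (hab : a ≠ b) (hab' : a ≠ ng b) (t u : F) :
    xr p ν lam a b t * xr p ν lam b (ng a) u * (xr p ν lam a b t)⁻¹ * (xr p ν lam b (ng a) u)⁻¹ =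
      xr p ν lam a (ng a) (2 * t * u) :=
  spmi4_ssl_core p ν lam (fun hij _ _ hab'' t => xr_pair p ν lam H hS hij hab'' t) hab hab' t u

theorem xr_ls (H : Glue p ν lam) (hS : SpFacts F) {a b : ι ⊕ ι} (hab : a ≠ b) (hab' : a ≠ ng b) (t u : F) :
    xr p ν lam a (ng a) t * xr p ν lam (ng a) b u * (xr p ν lam a (ng a) t)⁻¹ * (xr p ν lam (ng a) b u)⁻¹ =
      xr p ν lam a b (t * u) * xr p ν lam (ng b) b (sg a * sg b * t * u ^ 2) :=
  spmi4_ls_core p ν lam (fun hij _ _ hab'' t => xr_pair p ν lam H hS hij hab'' t) hab hab' t u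

theorem xr_rel (H : Glue p ν lam) (hS : SpFacts F) {a b : ι ⊕ ι} (hab : a ≠ b) (t u : F) (ht : t ≠ 0) :
    Cfsg.Agent.Lib.helper15.St2.cj (xr p ν lam a b t * xr p ν lam b a (-t⁻¹) * xr p ν lam a b t) (xr p ν lam a b u) =
      xr p ν lam b a (-(t⁻¹ ^ 2 * u)) :=
  spmi4_rel_core p ν lam (fun hij _ _ hab'' t => xr_pair p ν lam H hS hij hab'' t) hab t u ht

end main

end Cfsg.Agent.Lib.helper3.SPM
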