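import Mathlib
import Cfsg.Agent.Lib.helper3.SPM.Defs
import Cfsg.Agent.Lib.helper3.SPM.Defs2
import Cfsg.Agent.Lib.Helper25.SPMT5core
import Cfsg.Agent.Lib.helper14.SPMT1
import Cfsg.Agent.Lib.Helper21.SPM.I6

/-!
# Project SPM (designer helper3, S2292/S2296), row T5 (helper25), VERBATIM: `d3_base`

The core `spmt5_core` of `Helper25.SPMT5core` applied to the landed rows T3 (`helper14.SPMT1`: `LB_comm`) and T4 (`Helper21.SPM.I6`: `hl_pair`).
-/

set_option autoImplicit false
set_option linter.unusedSectionVars false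
set_option linter.unusedVariables false

namespace Cfsg.Agent.Lib.helper3.SPM

open Cfsg.Agent.Lib.helper3.STC Cfsg.Agent.Lib.helper3.STC.Mat Cfsg.Agent.Lib.helper17.SLP

universe u v w v'

section main
variable {F : Type u} [Field F] {ι : Type w} [Fintype ι] [DecidableEq ι] {G : Type v} [Group G]
  (p : Pts ι) (ν : Equiv.Perm ι →* G) (lam : Sp4 F →* G)

theorem d3_base [Finite F] (H : Glue p ν lam) (hS : SpFacts F) (t : F) {g : G} (hg : g ∈ LB p ν lam p.o2) :
    Commute (xr p ν lam (Sum.inl p.o0) (Sum.inl p.o1) t) g :=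
  spmt5_core p ν lam H (fun hg₁ hg₂ => LB_comm p ν lam H hS p.h02 hg₁ hg₂)
    (fun hu t' => hl_pair p ν lam H hS p.h01 hu (a := Sum.inl p.o0) (b := Sum.inl p.o1)
      (fun h => p.h01 (Sum.inl.inj h)) (Or.inl rfl) (Or.inr rfl) t') t hg

end main

end Cfsg.Agent.Lib.helper3.SPM
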