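import Mathlib
import Cfsg.Prelude.Def_GeometricClasses
import Cfsg.Agent.Lib.Lead.SPU.Defs
import Cfsg.Agent.Lib.Helper20.SPUSTEP1A
import Cfsg.Agent.Lib.Helper11.SPUREFL
import Cfsg.Agent.Lib.Helper11.SPUUNIV3

set_option autoImplicit false
set_option linter.unusedVariables false
set_option linter.unusedSectionVars false

namespace Cfsg.Agent.Lib.Lead.SPU

open Matrix Cfsg.Agent.S5646 Cfsg.Agent.S5647 Cfsg.Agent.Lib.Helper28.SpPair Cfsg.Agent.Lib.helper6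

variable {m : ℕ} {F : Type*} [Field F] {j j1 : Matrix (Fin m ⊕ Fin m) (Fin m ⊕ Fin m) F} {c0 : F}
  {M : Subgroup (Matrix.GeneralLinearGroup (Fin m ⊕ Fin m) F)}

/-- `x, j x` are linearly independent (own copy of `js_li`) -/
theorem spustep1_li (hJ : JS j c0) (x : Fin m ⊕ Fin m → F) (hx : x ≠ 0) (a b : F)
    (h : a • x + b • (j *ᵥ x) = 0) : a = 0 ∧ b = 0 := by
  have hb : b = 0 := by
    by_contra hb
    have h1 : j *ᵥ x = (-(b⁻¹ * a)) • x := by
      have : b • (j *ᵥ x) = -(a • x) := by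
        rw [eq_neg_iff_add_eq_zero, add_comm]
        exact h
      have e : j *ᵥ x = b⁻¹ • (b • (j *ᵥ x)) := by rw [smul_smul, inv_mul_cancel₀ hb, one_smul]
      rw [e, this, smul_neg, smul_smul, neg_smul]
    have h2 : j *ᵥ (j *ᵥ x) = ((-(b⁻¹ * a)) * (-(b⁻¹ * a))) • x := by
      rw [h1, Matrix.mulVec_smul, h1, smul_smul]
    rw [spurefl_jj hJ] at h2
    have h3 : (c0 - (-(b⁻¹ * a)) * (-(b⁻¹ * a))) • x = 0 := by
      rw [sub_smul, h2, sub_self]
    rcases smul_eq_zero.mp h3 with h4 | h4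
    · exact hJ.nsq (-(b⁻¹ * a)) (sub_eq_zero.mp h4).symm
    · exact hx h4
  subst hb
  rw [zero_smul, add_zero] at h
  rcases smul_eq_zero.mp h with h4 | h4
  · exact ⟨h4, rfl⟩
  · exact absurd h4 hx

/-- the norm form of `K` is anisotropic (own copy of `js_norm_ne`) -/
theorem spustep1_norm_ne (hJ : JS j c0) (a b : F) (h : a ≠ 0 ∨ b ≠ 0) : a * a - c0 * b * b ≠ 0 := by
  intro h0
  by_cases hb : b = 0
  · subst hb
    rcases h with h | h
    · apply h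
      have : a * a = 0 := by linear_combination h0
      exact mul_self_eq_zero.mp this
    · exact h rfl
  · apply hJ.nsq (a / b)
    field_simp
    linear_combination h0

/-- the `K`-line is `j`-stable -/
theorem spustep1_kl_j (hJ : JS j c0) {d x : Fin m ⊕ Fin m → F} (hx : x ∈ Klj j d) :
    j *ᵥ x ∈ Klj j d := by
  unfold Klj at hx ⊢
  obtain ⟨a, b, rfl⟩ := Submodule.mem_span_pair.mp hx
  rw [Matrix.mulVec_add, Matrix.mulVec_smul, Matrix.mulVec_smul, spurefl_jj hJ]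
  rw [Submodule.mem_span_pair]
  exact ⟨b * c0, a, by rw [smul_smul]; abel⟩

/-- `K x ≤ K d` for `x ∈ K d` -/
theorem spustep1_kl_le (hJ : JS j c0) {d x : Fin m ⊕ Fin m → F} (hx : x ∈ Klj j d) :
    Klj j x ≤ Klj j d := by
  have hjx := spustep1_kl_j hJ hx
  unfold Klj
  rw [Submodule.span_le]
  intro z hz
  rcases hz with rfl | rfl
  · exact hx
  · exact hjx

theorem spustep1_core (hJ : JS j c0) (hJ1 : JS j1 c0) (hM : M ≤ Cfsg.spGL m F)
    (hC : ∀ g, InC j g → g ∈ M) (hC1 : ∀ g, InC j1 g → g ∈ M)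
    (p : Fin m ⊕ Fin m → F) (hp1 : Qj j1 p = 0) (hp : Qj j p ≠ 0)
    (hexd : ∀ q : Fin m ⊕ Fin m → F, q ∉ Klj j p →
      ∃ d : Fin m ⊕ Fin m → F, HOj j d p ∧ Qj j d ≠ 0 ∧
        (Cfsg.sympForm m F d q ≠ 0 ∨ Cfsg.sympForm m F d (j *ᵥ q) ≠ 0) ∧ q ∉ Klj j d) :
    ∃ u0 v0 : Fin m ⊕ Fin m → F, Cfsg.sympForm m F u0 v0 = 0 ∧ Qj j u0 ≠ 0 ∧ v0 ∉ Klj j u0 ∧
      SR M u0 v0 := by
  have h2 : (2 : F) ≠ 0 := hJ.two
  have hp0 : p ≠ 0 := by
    rintro rfl
    apply hp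
    unfold Qj
    rw [sympForm_zero_left]
  -- `q := j1 p ∉ K p`
  have hq : j1 *ᵥ p ∉ Klj j p := by
    intro hmem
    unfold Klj at hmem
    obtain ⟨a, b, hab⟩ := Submodule.mem_span_pair.mp hmem
    have h0 : Cfsg.sympForm m F p (j1 *ᵥ p) = 0 := hp1
    rw [← hab, sympForm_add_right, sympForm_smul_right, sympForm_smul_right, sympForm_self,
      mul_zero, zero_add] at h0
    have hb : b = 0 := by
      rcases mul_eq_zero.mp h0 with h | h
      · exact h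
      · exact absurd h hp
    rw [hb, zero_smul, add_zero] at hab
    have := spustep1_li hJ1 p hp0 (-a) 1 (by rw [← hab]; simp)
    exact one_ne_zero this.2
  obtain ⟨d, hdp, hd, hdq, hqd⟩ := hexd (j1 *ᵥ p) hq
  obtain ⟨y1, hy1C, hy1⟩ := refl_ex hJ d hd
  have hy1M : y1 ∈ M := hC y1 hy1C
  have hyp : (y1 : Matrix (Fin m ⊕ Fin m) (Fin m ⊕ Fin m) F) *ᵥ p = p := by
    rw [hy1]
    exact refl_fix hJ d p hdp
  have hperp : Cfsg.sympForm m F (j1 *ᵥ p)
      ((y1 : Matrix (Fin m ⊕ Fin m) (Fin m ⊕ Fin m) F) *ᵥ (j1 *ᵥ p)) = 0 := by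
    rw [hy1]
    exact refl_perp hJ d (j1 *ᵥ p)
  have hSR := step1a hJ1 hM hC1 p hp1 y1 hy1M hyp hperp
  refine ⟨_, _, ?_, ?_, ?_, hSR⟩
  · rw [sympForm_sub_left, sympForm_add_right, sympForm_add_right, sympForm_self, sympForm_self,
      hperp, sympForm_swap m _ (j1 *ᵥ p), hperp]
    ring
  · -- `u0 = α d + β j d`
    have hu0 : j1 *ᵥ p - (y1 : Matrix (Fin m ⊕ Fin m) (Fin m ⊕ Fin m) F) *ᵥ (j1 *ᵥ p) =
        (2 / Qj j d * Cfsg.sympForm m F d (j *ᵥ (j1 *ᵥ p))) • d +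
          (2 / Qj j d * Cfsg.sympForm m F d (j1 *ᵥ p)) • (j *ᵥ d) := by
      rw [hy1]
      unfold reflAct
      rw [smul_add, smul_smul, smul_smul]
      abel
    rw [hu0, spuuniv3_Qj_K hJ]
    apply mul_ne_zero _ hd
    have hne : (2 / Qj j d) ≠ 0 := div_ne_zero h2 hd
    have := spustep1_norm_ne hJ (2 / Qj j d * Cfsg.sympForm m F d (j *ᵥ (j1 *ᵥ p)))
      (2 / Qj j d * Cfsg.sympForm m F d (j1 *ᵥ p)) (by
        rcases hdq with h | h
        · right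
          exact mul_ne_zero hne h
        · left
          exact mul_ne_zero hne h)
    exact this
  · intro hv0
    apply hqd
    have hu0d : j1 *ᵥ p - (y1 : Matrix (Fin m ⊕ Fin m) (Fin m ⊕ Fin m) F) *ᵥ (j1 *ᵥ p) ∈
        Klj j d := by
      rw [hy1]
      unfold reflAct Klj
      rw [sub_sub_cancel]
      apply Submodule.smul_mem
      apply Submodule.add_mem
      · exact Submodule.smul_mem _ _ (Submodule.subset_span (Set.mem_insert _ _))
      · exact Submodule.smul_mem _ _ (Submodule.subset_span (Set.mem_insert_of_mem _ rfl))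
    have hv0d := spustep1_kl_le hJ hu0d hv0
    have hsum := (Klj j d).add_mem hu0d hv0d
    have e : j1 *ᵥ p - (y1 : Matrix (Fin m ⊕ Fin m) (Fin m ⊕ Fin m) F) *ᵥ (j1 *ᵥ p) +
        (j1 *ᵥ p + (y1 : Matrix (Fin m ⊕ Fin m) (Fin m ⊕ Fin m) F) *ᵥ (j1 *ᵥ p)) =
          (2 : F) • (j1 *ᵥ p) := by
      rw [two_smul]
      abel
    rw [e] at hsum
    have := (Klj j d).smul_mem (2 : F)⁻¹ hsum
    rw [smul_smul, inv_mul_cancel₀ h2, one_smul] at this
    exact this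

end Cfsg.Agent.Lib.Lead.SPU
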