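import Mathlib
import Cfsg.Prelude.Def_GeometricClasses
import Cfsg.Agent.Lib.Lead.SPU.Defs
import Cfsg.Agent.Lib.Helper25.SPUSTEP1core
import Cfsg.Agent.Lib.Helper27.SPUEXD

set_option autoImplicit false
set_option linter.unusedVariables false
set_option linter.unusedSectionVars false

namespace Cfsg.Agent.Lib.Lead.SPU

open Matrix Cfsg.Agent.S5646 Cfsg.Agent.S5647 Cfsg.Agent.Lib.Helper28.SpPair Cfsg.Agent.Lib.helper6

variable {m : ℕ} {F : Type*} [Field F] {j j1 : Matrix (Fin m ⊕ Fin m) (Fin m ⊕ Fin m) F} {c0 : F}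
  {M : Subgroup (Matrix.GeneralLinearGroup (Fin m ⊕ Fin m) F)}

theorem step1 [Fintype F] (hm : 7 ≤ m) (hJ : JS j c0) (hJ1 : JS j1 c0) (hM : M ≤ Cfsg.spGL m F)
    (hC : ∀ g, InC j g → g ∈ M) (hC1 : ∀ g, InC j1 g → g ∈ M)
    (p : Fin m ⊕ Fin m → F) (hp1 : Qj j1 p = 0) (hp : Qj j p ≠ 0) :
    ∃ u0 v0 : Fin m ⊕ Fin m → F, Cfsg.sympForm m F u0 v0 = 0 ∧ Qj j u0 ≠ 0 ∧ v0 ∉ Klj j u0 ∧
      SR M u0 v0 :=
  spustep1_core hJ hJ1 hM hC hC1 p hp1 hp (fun q hq => exd hm hJ p q hp hq)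

end Cfsg.Agent.Lib.Lead.SPU
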