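import Mathlib
import Cfsg.Prelude.Def_GeometricClasses
import Cfsg.Agent.Lib.Lead.SPU.Defs
import Cfsg.Agent.Lib.Helper20.SPUSTEP1A
import Cfsg.Agent.Lib.Helper11.SPUREFL

set_option autoImplicit false
set_option linter.unusedVariables false
set_option linter.unusedSectionVars false

namespace Cfsg.Agent.Lib.Lead.SPU

open Matrix Cfsg.Agent.S5646 Cfsg.Agent.S5647 Cfsg.Agent.Lib.Helper28.SpPair Cfsg.Agent.Lib.helper6

variable {m : ℕ} {F : Type*} [Field F] {j j1 : Matrix (Fin m ⊕ Fin m) (Fin m ⊕ Fin m) F} {c0 : F}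
  {M : Subgroup (Matrix.GeneralLinearGroup (Fin m ⊕ Fin m) F)}

/-- the key non-vanishing: `B²/c0 - A² ≠ 0` unless `A = B = 0` -/
theorem spustep2_ne (hJ : JS j c0) (A B : F) (h : A ≠ 0 ∨ B ≠ 0) : B * B / c0 - A * A ≠ 0 := by
  have hc0 : c0 ≠ 0 := spustep1a_c0_ne hJ
  intro h0
  have h1 : B * B = c0 * (A * A) := by
    field_simp at h0
    linear_combination h0
  by_cases hA : A = 0
  · subst hA
    have hB : B = 0 := by
      have : B * B = 0 := by rw [h1]; ring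
      exact mul_self_eq_zero.mp this
    rcases h with h | h
    · exact h rfl
    · exact h hB
  · apply hJ.nsq (B / A)
    field_simp
    linear_combination h1

theorem step2 (hJ : JS j c0) (hM : M ≤ Cfsg.spGL m F) (hC : ∀ g, InC j g → g ∈ M)
    (u0 v0 z : Fin m ⊕ Fin m → F) (huv : Cfsg.sympForm m F u0 v0 = 0) (hSR : SR M u0 v0)
    (hz : Qj j z = 0) (hzu : HOj j z u0)
    (hzv : Cfsg.sympForm m F v0 z ≠ 0 ∨ Cfsg.sympForm m F v0 (j *ᵥ z) ≠ 0) : XX M u0 := by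
  obtain ⟨y, hyC, hy⟩ := spustep1a_utv hJ z hz 1
  have hyM : y ∈ M := hC y hyC
  have h1 : Cfsg.sympForm m F u0 z = 0 := by
    rw [sympForm_swap, hzu.1, neg_zero]
  have h2 : Cfsg.sympForm m F u0 (j *ᵥ z) = 0 := by
    rw [spurefl_B_symm hJ, hzu.2]
  have hyu : (y : Matrix (Fin m ⊕ Fin m) (Fin m ⊕ Fin m) F) *ᵥ u0 = u0 := by
    rw [hy]
    unfold tauAct
    rw [h1, h2]
    simp
  have hSR1 : SR M u0 ((y : Matrix (Fin m ⊕ Fin m) (Fin m ⊕ Fin m) F) *ᵥ v0) := by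
    have := SR_conj M hM u0 v0 huv hSR y hyM
    rw [hyu] at this
    exact this
  have hv1 : (y : Matrix (Fin m ⊕ Fin m) (Fin m ⊕ Fin m) F) *ᵥ v0 =
      v0 + Cfsg.sympForm m F v0 z • z - (Cfsg.sympForm m F v0 (j *ᵥ z) / c0) • (j *ᵥ z) := by
    rw [hy]
    unfold tauAct
    rw [one_smul, smul_smul, one_div, inv_mul_eq_div]
  have huv1 : Cfsg.sympForm m F u0 ((y : Matrix (Fin m ⊕ Fin m) (Fin m ⊕ Fin m) F) *ᵥ v0) = 0 := by
    rw [hv1, sympForm_sub_right, sympForm_add_right, sympForm_smul_right, sympForm_smul_right, huv,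
      h1, h2]
    ring
  have hne : Cfsg.sympForm m F ((y : Matrix (Fin m ⊕ Fin m) (Fin m ⊕ Fin m) F) *ᵥ v0) v0 ≠ 0 := by
    have e : Cfsg.sympForm m F ((y : Matrix (Fin m ⊕ Fin m) (Fin m ⊕ Fin m) F) *ᵥ v0) v0 =
        Cfsg.sympForm m F v0 (j *ᵥ z) * Cfsg.sympForm m F v0 (j *ᵥ z) / c0 -
          Cfsg.sympForm m F v0 z * Cfsg.sympForm m F v0 z := by
      rw [hv1, sympForm_sub_left, sympForm_add_left, sympForm_smul_left, sympForm_smul_left,
        sympForm_self, sympForm_swap m z v0, sympForm_swap m (j *ᵥ z) v0]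
      ring
    rw [e]
    exact spustep2_ne hJ _ _ hzv
  intro c g hg
  obtain ⟨C, _, hCa⟩ := sr_ex u0 v0 huv 1
  have hCM : C ∈ M := hSR 1 C hCa
  obtain ⟨S, _, hS⟩ := sr_ex u0 _ huv1
    (c / (2 * Cfsg.sympForm m F ((y : Matrix (Fin m ⊕ Fin m) (Fin m ⊕ Fin m) F) *ᵥ v0) v0))
  have hSM : S ∈ M := hSR1 _ S hS
  have hc := comm2 C S g u0 v0 _ _ huv huv1 hCa hS (by
    rw [hg]
    congr 1
    field_simp [hJ.two])
  have : g = S⁻¹ * (C * S) * C⁻¹ := by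
    rw [hc]
    group
  rw [this]
  exact M.mul_mem (M.mul_mem (M.inv_mem hSM) (M.mul_mem hCM hSM)) (M.inv_mem hCM)

end Cfsg.Agent.Lib.Lead.SPU
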