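import Mathlib
import Cfsg.Prelude.Def_GeometricClasses
import Cfsg.Agent.Lib.Helper27.ASC.Defs
import Cfsg.Agent.Lib.helper6.Symp
import Cfsg.Agent.S5646

/-!
# Project SPX (leader helper6), piece PR2 (helper25) : `pr_sp_dec`
-/

set_option autoImplicit false
set_option linter.unusedVariables false
set_option linter.unusedSectionVars false

namespace Cfsg.Agent.Lib.helper6.SPX

open Cfsg Cfsg.Geo Cfsg.Agent.Lib.Helper27.ASC
open scoped MatrixGroups Matrix Kronecker

variable {m : ℕ} {F : Type*} [Field F] [Fintype F]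

/-- the functional `x ↦ f (x, v)` -/
def spxpr2_phi (m : ℕ) (F : Type*) [Field F] (v : Fin m ⊕ Fin m → F) : (Fin m ⊕ Fin m → F) →ₗ[F] F where
  toFun x := sympForm m F x v
  map_add' x y := Cfsg.Agent.Lib.helper6.sympForm_add_left m x y v
  map_smul' c x := by
    rw [Cfsg.Agent.Lib.helper6.sympForm_smul_left, RingHom.id_apply, smul_eq_mul]

theorem spxpr2_phi_apply (v x : Fin m ⊕ Fin m → F) : spxpr2_phi m F v x = sympForm m F x v := rfl

/-- a subspace of dimension at least two contains a non-zero vector orthogonal to `v` -/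
theorem spxpr2_exists_perp (W : Submodule F (Fin m ⊕ Fin m → F)) (hW : 2 ≤ Module.finrank F W)
    (v : Fin m ⊕ Fin m → F) : ∃ y ∈ W, y ≠ 0 ∧ sympForm m F y v = 0 := by
  let ψ : W →ₗ[F] F := (spxpr2_phi m F v).comp W.subtype
  have h1 := LinearMap.finrank_range_add_finrank_ker ψ
  have h2 : Module.finrank F (LinearMap.range ψ) ≤ 1 := by
    have := Submodule.finrank_le (LinearMap.range ψ)
    rwa [Module.finrank_self] at this
  have h3 : LinearMap.ker ψ ≠ ⊥ := by
    intro hb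
    rw [hb, finrank_bot] at h1
    omega
  obtain ⟨y, hy, hy0⟩ := Submodule.exists_mem_ne_zero_of_ne_bot h3
  refine ⟨(y : Fin m ⊕ Fin m → F), y.2, fun h => hy0 (Subtype.ext h), ?_⟩
  have := LinearMap.mem_ker.mp hy
  exact this

/-- PR2 -/
theorem pr_sp_dec {t k : ℕ} (D : Fin t → Submodule F (Fin m ⊕ Fin m → F)) (hD : IsMDecomposition k D) (hk : 2 ≤ k) :
    ¬ spGL m F ≤ decompositionStabilizer D := by
  intro hle
  have key : ∀ (v : Fin m ⊕ Fin m → F) (i : Fin t) (x : Fin m ⊕ Fin m → F), x ∈ D i →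
      sympForm m F x v ≠ 0 → v ∈ D i := by
    intro v i x hx hne
    obtain ⟨g, hg, hgS⟩ := Cfsg.Agent.S5646.tsGL v (1 : F)
    obtain ⟨σ, hσ⟩ := hle hgS
    have happ : ∀ y, (g : Matrix (Fin m ⊕ Fin m) (Fin m ⊕ Fin m) F) *ᵥ y = y + (sympForm m F y v) • v := by
      intro y
      rw [Cfsg.Agent.S5646.ts_apply g v 1 hg, one_mul]
    have hmap : ∀ j y, y ∈ D j → (g : Matrix (Fin m ⊕ Fin m) (Fin m ⊕ Fin m) F) *ᵥ y ∈ D (σ j) := by
      intro j y hy
      rw [← hσ j]
      exact ⟨y, hy, by rw [Matrix.toLin'_apply]⟩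
    have hσi : σ i = i := by
      by_contra hne'
      obtain ⟨y, hy, hy0, hfy⟩ := spxpr2_exists_perp (D i) (by rw [hD.finrank_eq i]; exact hk) v
      have h1 := hmap i y hy
      rw [happ, hfy, zero_smul, add_zero] at h1
      have hdisj : Disjoint (D (σ i)) (D i) := hD.indep.pairwiseDisjoint hne'
      exact hy0 ((Submodule.disjoint_def.mp hdisj) y h1 hy)
    have h1 := hmap i x hx
    rw [hσi, happ] at h1
    have h2 : sympForm m F x v • v ∈ D i := by
      have := (D i).sub_mem h1 hx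
      simpa using this
    have := (D i).smul_mem (sympForm m F x v)⁻¹ h2
    rwa [smul_smul, inv_mul_cancel₀ hne, one_smul] at this
  have hall : ∀ v : Fin m ⊕ Fin m → F, v ≠ 0 → ∃ i, v ∈ D i := by
    intro v hv
    by_contra hno
    push Not at hno
    have hker : ∀ i, D i ≤ LinearMap.ker (spxpr2_phi m F v) := by
      intro i x hx
      by_contra hne
      exact hno i (key v i x hx hne)
    have htop : (⊤ : Submodule F (Fin m ⊕ Fin m → F)) ≤ LinearMap.ker (spxpr2_phi m F v) := by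
      rw [← hD.iSup_eq_top]
      exact iSup_le hker
    obtain ⟨x, hx⟩ := Cfsg.Agent.Lib.helper6.sympForm_nondeg m v hv
    apply hx
    rw [Cfsg.Agent.Lib.helper6.sympForm_swap]
    have h0 : spxpr2_phi m F v x = 0 := LinearMap.mem_ker.mp (htop Submodule.mem_top)
    rw [spxpr2_phi_apply] at h0
    rw [h0, neg_zero]
  have ht := hD.two_le
  have hne01 : (⟨0, by omega⟩ : Fin t) ≠ ⟨1, by omega⟩ := by
    intro h
    have := congrArg Fin.val h
    simp at this
  have hnb : ∀ i, D i ≠ ⊥ := by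
    intro i hb
    have := hD.finrank_eq i
    rw [hb, finrank_bot] at this
    omega
  obtain ⟨w1, hw1, hw10⟩ := Submodule.exists_mem_ne_zero_of_ne_bot (hnb ⟨0, by omega⟩)
  obtain ⟨w2, hw2, hw20⟩ := Submodule.exists_mem_ne_zero_of_ne_bot (hnb ⟨1, by omega⟩)
  have hdisj : Disjoint (D ⟨0, by omega⟩) (D ⟨1, by omega⟩) := hD.indep.pairwiseDisjoint hne01
  have hv0 : w1 + w2 ≠ 0 := by
    intro h
    have h1 : w1 = -w2 := eq_neg_of_add_eq_zero_left h
    have h2 : w1 ∈ D ⟨1, by omega⟩ := by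
      rw [h1]
      exact (D _).neg_mem hw2
    exact hw10 ((Submodule.disjoint_def.mp hdisj) w1 hw1 h2)
  obtain ⟨i, hi⟩ := hall (w1 + w2) hv0
  by_cases hi0 : i = ⟨0, by omega⟩
  · subst hi0
    have h2 : w2 ∈ D ⟨0, by omega⟩ := by
      have := (D _).sub_mem hi hw1
      simpa using this
    exact hw20 ((Submodule.disjoint_def.mp hdisj) w2 h2 hw2)
  · -- `w1 ∈ D i ⊔ D 1 ≤ ⨆ j ≠ 0, D j`
    have hsup : w1 ∈ ⨆ j, ⨆ (_ : j ≠ (⟨0, by omega⟩ : Fin t)), D j := by
      have e1 : w1 = (w1 + w2) - w2 := by abel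
      rw [e1]
      apply Submodule.sub_mem
      · exact (le_iSup₂ (f := fun j (_ : j ≠ (⟨0, by omega⟩ : Fin t)) => D j) i hi0) hi
      · exact (le_iSup₂ (f := fun j (_ : j ≠ (⟨0, by omega⟩ : Fin t)) => D j) ⟨1, by omega⟩ hne01.symm) hw2
    have := hD.indep (⟨0, by omega⟩ : Fin t)
    exact hw10 ((Submodule.disjoint_def.mp this) w1 hw1 hsup)

end Cfsg.Agent.Lib.helper6.SPX
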