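import Mathlib
import Cfsg.Prelude.Def_GeometricClasses
import Cfsg.Agent.Lib.Helper27.ASC.Defs
import Cfsg.Agent.Lib.helper6.Symp
import Cfsg.Agent.S5646

/-!
# Project SPX (leader helper6), piece PR5 (helper25) : `pr_sp_subfield`

Characteristic-free: `t_c = 1 + c N` (`N² = 0`, `N ≠ 0`) lies in `Sp` for all `c`; with `N' = P⁻¹ N P` and `ν = N' i j ≠ 0`, `i ≠ j`,
`P⁻¹ t_c P = l • G` (`G` over `F₀`) gives `d + N' i i ∈ ν F₀` for every `d ≠ 0`, so all differences of non-zero elements lie in `ν F₀`.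
-/

set_option autoImplicit false
set_option linter.unusedVariables false
set_option linter.unusedSectionVars false

namespace Cfsg.Agent.Lib.helper6.SPX

open Cfsg Cfsg.Geo Cfsg.Agent.Lib.Helper27.ASC
open scoped MatrixGroups Matrix Kronecker

variable {m : ℕ} {F : Type*} [Field F] [Fintype F]

omit [Fintype F] in
/-- membership in a subfield group, in matrix form (any index type) -/
theorem spxpr5_mem {ι : Type} [Fintype ι] [DecidableEq ι] (F₀ : Subfield F) (P g : GL ι F)
    (hg : g ∈ subfieldSubgroup F₀ P) :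
    ∃ (l : F) (G0 : Matrix ι ι F₀), l ≠ 0 ∧
      ((P⁻¹ : GL ι F) : Matrix ι ι F) * (g : Matrix ι ι F) * (P : Matrix ι ι F) =
        l • G0.map (fun x : F₀ => (x : F)) := by
  unfold subfieldSubgroup at hg
  obtain ⟨k, hk, hkt⟩ := hg
  have hkt' : k = P⁻¹ * g * P := by
    have h1 : P * k * P⁻¹ = g := hkt
    rw [← h1]; group
  have hnorm : (scalars ι F).Normal := scalars_normal
  rw [SetLike.mem_coe, Subgroup.mem_sup_of_normal_right] at hk
  obtain ⟨g0, hg0, c, hc, hgc⟩ := hk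
  obtain ⟨g00, rfl⟩ := hg0
  obtain ⟨cc, hcc⟩ := (mem_scalars_iff c).mp hc
  refine ⟨(cc : F), (g00 : Matrix ι ι F₀), cc.ne_zero, ?_⟩
  have hmat : (k : Matrix ι ι F) =
      ((Matrix.GeneralLinearGroup.map (F₀.subtype : F₀ →+* F) g00 : GL ι F) : Matrix ι ι F) *
        (c : Matrix ι ι F) := by
    rw [← hgc]; rfl
  rw [hcc, Matrix.mul_smul, Matrix.mul_one] at hmat
  rw [← Units.val_mul, ← Units.val_mul, ← hkt', hmat]
  rfl

omit [Fintype F] in
/-- a non-zero matrix of square zero has a non-zero off-diagonal entry (any index type) -/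
theorem spxpr5_offdiag {ι : Type} [Fintype ι] [DecidableEq ι] (N : Matrix ι ι F) (hN2 : N * N = 0) (hN : N ≠ 0) :
    ∃ i j : ι, i ≠ j ∧ N i j ≠ 0 := by
  by_contra hcon
  push Not at hcon
  apply hN
  ext i j
  by_cases hij : i = j
  · subst hij
    have h1 : (N * N) i i = 0 := by rw [hN2]; rfl
    rw [Matrix.mul_apply, Finset.sum_eq_single i] at h1
    · exact mul_self_eq_zero.mp h1
    · intro k _ hk
      rw [hcon i k (Ne.symm hk), zero_mul]
    · intro h; exact absurd (Finset.mem_univ i) h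
  · exact hcon i j hij

omit [Fintype F] in
/-- the abstract core: a family `1 + c N` inside a subfield group forces `F₀ = ⊤` -/
theorem spxpr5_core {ι : Type} [Fintype ι] [DecidableEq ι] (F₀ : Subfield F) (hF₀ : F₀ ≠ ⊤) (P : GL ι F)
    (N : Matrix ι ι F) (hN2 : N * N = 0) (hN0 : N ≠ 0) (t : F → GL ι F)
    (htc : ∀ c, ((t c : GL ι F) : Matrix ι ι F) = 1 + c • N)
    (hmem : ∀ c, t c ∈ subfieldSubgroup F₀ P) : False := by
  have hPiP : ((P⁻¹ : GL ι F) : Matrix ι ι F) * (P : Matrix ι ι F) = 1 := by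
    rw [← Units.val_mul, inv_mul_cancel, Units.val_one]
  have hPPi : (P : Matrix ι ι F) * ((P⁻¹ : GL ι F) : Matrix ι ι F) = 1 := by
    rw [← Units.val_mul, mul_inv_cancel, Units.val_one]
  set N' : Matrix ι ι F := ((P⁻¹ : GL ι F) : Matrix ι ι F) * N * (P : Matrix ι ι F) with hN'
  have hN'2 : N' * N' = 0 := by
    have e : N' * N' = ((P⁻¹ : GL ι F) : Matrix ι ι F) *
        (N * ((P : Matrix ι ι F) * ((P⁻¹ : GL ι F) : Matrix ι ι F)) * N) * (P : Matrix ι ι F) := by
      rw [hN']; simp only [Matrix.mul_assoc]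
    rw [e, hPPi, Matrix.mul_one, hN2, Matrix.mul_zero, Matrix.zero_mul]
  have hN'0 : N' ≠ 0 := by
    intro h
    apply hN0
    have e : N = (P : Matrix ι ι F) * N' * ((P⁻¹ : GL ι F) : Matrix ι ι F) := by
      rw [hN']
      have : (P : Matrix ι ι F) * (((P⁻¹ : GL ι F) : Matrix ι ι F) * N * (P : Matrix ι ι F)) *
          ((P⁻¹ : GL ι F) : Matrix ι ι F) =
          ((P : Matrix ι ι F) * ((P⁻¹ : GL ι F) : Matrix ι ι F)) * N *
          ((P : Matrix ι ι F) * ((P⁻¹ : GL ι F) : Matrix ι ι F)) := by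
        simp only [Matrix.mul_assoc]
      rw [this, hPPi, Matrix.one_mul, Matrix.mul_one]
    rw [e, h, Matrix.mul_zero, Matrix.zero_mul]
  obtain ⟨i, j, hij, hNij⟩ := spxpr5_offdiag N' hN'2 hN'0
  -- for every `d ≠ 0` : `d + N' i i ∈ ν F₀`
  have key : ∀ d : F, d ≠ 0 → ∃ r : F₀, d + N' i i = N' i j * (r : F) := by
    intro d hd
    obtain ⟨l, G0, hl, hM⟩ := spxpr5_mem F₀ P (t d⁻¹) (hmem d⁻¹)
    have hM' : 1 + d⁻¹ • N' = l • G0.map (fun x : F₀ => (x : F)) := by
      rw [← hM, htc d⁻¹, Matrix.mul_add, Matrix.add_mul, Matrix.mul_one, hPiP, Matrix.mul_smul,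
        Matrix.smul_mul, hN']
    have e1 : d⁻¹ * N' i j = l * ((G0 i j : F₀) : F) := by
      have := congrFun (congrFun hM' i) j
      simpa [Matrix.add_apply, Matrix.one_apply_ne hij] using this
    have e2 : 1 + d⁻¹ * N' i i = l * ((G0 i i : F₀) : F) := by
      have := congrFun (congrFun hM' i) i
      simpa [Matrix.add_apply] using this
    have hg : ((G0 i j : F₀) : F) ≠ 0 := by
      intro h
      rw [h, mul_zero] at e1
      exact (mul_ne_zero (inv_ne_zero hd) hNij) e1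
    refine ⟨G0 i i * (G0 i j)⁻¹, ?_⟩
    have e1' : N' i j = d * l * ((G0 i j : F₀) : F) := by
      have : d * (d⁻¹ * N' i j) = d * (l * ((G0 i j : F₀) : F)) := by rw [e1]
      rw [← mul_assoc, mul_inv_cancel₀ hd, one_mul] at this
      rw [this, mul_assoc]
    have e2' : d + N' i i = d * l * ((G0 i i : F₀) : F) := by
      have : d * (1 + d⁻¹ * N' i i) = d * (l * ((G0 i i : F₀) : F)) := by rw [e2]
      rw [mul_add, mul_one, ← mul_assoc, mul_inv_cancel₀ hd, one_mul] at this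
      rw [this, mul_assoc]
    rw [e2', e1']
    push_cast
    field_simp
  have diff : ∀ d1 d2 : F, d1 ≠ 0 → d2 ≠ 0 → ∃ r : F₀, d1 - d2 = N' i j * (r : F) := by
    intro d1 d2 h1 h2
    obtain ⟨r1, hr1⟩ := key d1 h1
    obtain ⟨r2, hr2⟩ := key d2 h2
    refine ⟨r1 - r2, ?_⟩
    push_cast
    rw [mul_sub, ← hr1, ← hr2]
    ring
  have claim : ∀ b : F, b ∉ F₀ → N' i j * b + 1 ≠ 0 → False := by
    intro b hb hne
    obtain ⟨r, hr⟩ := diff (N' i j * b + 1) 1 hne one_ne_zero
    have h1 : N' i j * b = N' i j * (r : F) := by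
      rw [← hr]; ring
    have h2 : b = (r : F) := mul_left_cancel₀ hNij h1
    exact hb (h2 ▸ r.2)
  obtain ⟨a, ha⟩ : ∃ a : F, a ∉ F₀ := by
    by_contra hcon
    push Not at hcon
    exact hF₀ (eq_top_iff.mpr fun x _ => hcon x)
  by_cases h : N' i j * a + 1 = 0
  · refine claim (a + 1) (fun hmem' => ha ?_) ?_
    · have : a = (a + 1) - 1 := by ring
      rw [this]
      exact F₀.sub_mem hmem' F₀.one_mem
    · have : N' i j * (a + 1) + 1 = N' i j := by
        rw [mul_add, mul_one]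
        linear_combination h
      rw [this]
      exact hNij
  · exact claim a ha h

/-- PR5 -/
theorem pr_sp_subfield (hm : 1 ≤ m) (F₀ : Subfield F) (hF₀ : F₀ ≠ ⊤) (P : GL (Fin m ⊕ Fin m) F) :
    ¬ spGL m F ≤ subfieldSubgroup F₀ P := by
  intro hle
  set v : Fin m ⊕ Fin m → F := Pi.single (Sum.inl ⟨0, by omega⟩) 1 with hv
  have hv0 : v ≠ 0 := by
    intro h
    have := congrFun h (Sum.inl ⟨0, by omega⟩)
    simp [hv] at this
  choose t ht htS using fun c : F => Cfsg.Agent.S5646.tsGL v c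
  set N : Matrix (Fin m ⊕ Fin m) (Fin m ⊕ Fin m) F := sympTransvection m v 1 - 1 with hN
  have hNx : ∀ x, N *ᵥ x = sympForm m F x v • v := by
    intro x
    rw [hN, Matrix.sub_mulVec, Matrix.one_mulVec, Cfsg.Agent.Lib.helper6.sympTransvection_mulVec, one_mul]
    abel
  have htc : ∀ c, ((t c : GL (Fin m ⊕ Fin m) F) : Matrix (Fin m ⊕ Fin m) (Fin m ⊕ Fin m) F) = 1 + c • N := by
    intro c
    apply Matrix.mulVec_injective
    funext x
    rw [ht c, Cfsg.Agent.Lib.helper6.sympTransvection_mulVec, Matrix.add_mulVec, Matrix.one_mulVec,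
      Matrix.smul_mulVec, hNx, smul_smul]
  have hN2 : N * N = 0 := by
    apply Matrix.mulVec_injective
    funext x
    rw [← Matrix.mulVec_mulVec, hNx x, hNx, Matrix.zero_mulVec,
      Cfsg.Agent.Lib.helper6.sympForm_smul_left, Cfsg.Agent.Lib.helper6.sympForm_self, mul_zero, zero_smul]
  have hN0 : N ≠ 0 := by
    intro h
    obtain ⟨x, hx⟩ := Cfsg.Agent.Lib.helper6.sympForm_nondeg m v hv0
    have h1 := hNx x
    rw [h, Matrix.zero_mulVec] at h1
    have h2 : sympForm m F x v = 0 := by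
      by_contra hne
      have := smul_eq_zero.mp h1.symm
      rcases this with h3 | h3
      · exact hne h3
      · exact hv0 h3
    apply hx
    rw [Cfsg.Agent.Lib.helper6.sympForm_swap, h2, neg_zero]
  exact spxpr5_core F₀ hF₀ P N hN2 hN0 t htc (fun c => hle (htS c))

end Cfsg.Agent.Lib.helper6.SPX
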