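import Mathlib
import Cfsg.Prelude.Def_LieTypeChar
import Cfsg.Prelude.Def_ChevStructure
import Cfsg.Prelude.Def_ChevF4
import Cfsg.Prelude.Def_LieTwisted
import Cfsg.Agent.Lib.helper8.ChevTF35
import Cfsg.Agent.Lib.helper8.ChevTwU2
import Cfsg.Agent.Lib.helper14.SQD.Defs
import Cfsg.Agent.Lib.helper14.SQD.DefsTF
import Cfsg.Agent.Lib.helper14.SQD.TF1

/-!
Project SQD = S4625, block TF, row TF5 (`tf_sep`): the separation lemma.
-/

set_option autoImplicit false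

namespace Cfsg.Agent.Lib.helper14.SQD

open Cfsg Cfsg.Lie Cfsg.Lie.ChevalleyDatum Cfsg.Agent.Lib.helper8

universe u v

/-- TF5 [E-M]. The separation lemma. -/
theorem tf_sep {K : Type u} [Field K] (hB : H8Base.{u} chevF4) (k : ℕ) (hk : chevF4.IsPosRoot k) (c c' : K)
    (y y' : GL chevF4.Idx K) (hy : y ∈ Subgroup.closure (h8WkSet chevF4 K posiF4 k))
    (hy' : y' ∈ Subgroup.closure (h8WkSet chevF4 K posiF4 k))
    (h : (h8xU chevF4 hB k c * y)⁻¹ * (h8xU chevF4 hB k c' * y') ∈ h8Ub chevF4 K posiF4 (posiF4 k + 1)) :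
    c = c' := by
  obtain ⟨hO, hO2⟩ := h8ord_all chevF4 h8tf_F4_mem
  have hmid := h8Ub_le_Wk chevF4 posiF4 k h
  have hx : h8xU chevF4 hB k (c' - c) =
      y * ((h8xU chevF4 hB k c * y)⁻¹ * (h8xU chevF4 hB k c' * y')) * y'⁻¹ := by
    have e : c' - c = -c + c' := by ring
    rw [e, ← h8xU_add chevF4 hB k hk.1, ← h8xU_inv]
    group
  have hmem : h8xU chevF4 hB k (c' - c) ∈ Subgroup.closure (h8WkSet chevF4 K posiF4 k) := by
    rw [hx]
    exact mul_mem (mul_mem hy hmid) (inv_mem hy')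
  have h0 := h8x_not_mem_Wk chevF4 hB hO2 posiF4 posiF4_read k hk (c' - c) hmem
  exact (sub_eq_zero.mp h0).symm

end Cfsg.Agent.Lib.helper14.SQD
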