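import Mathlib
import Cfsg.Agent.Lib.helper15.SQM.Defs
import Cfsg.Agent.Lib.Helper25.SQMD4core
import Cfsg.Agent.Lib.Helper25.SQMD3
import Cfsg.Agent.Lib.helper6.SQMD4a

/-!
# SQM row D4 (helper25): `sqm_ex_minus3`, verbatim (`= sqmd4_core` + D3 `sqm_ex_plus3` + D4a `sqm_ex_plane`).
-/

set_option autoImplicit false

namespace Cfsg.Agent.Lib.helper15.SQM

open Matrix Module

variable {ι : Type} [Fintype ι] [DecidableEq ι] {F : Type*} [Field F]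

/-- D4 [M-L]: `-1` not a square, standard minus space with an even number `2k` of hyperbolic pairs (`d = 2k + 1` odd): block diagonal of D3 and D4a. -/
theorem sqm_ex_minus3 [Fintype F] (h2 : (2 : F) ≠ 0) (hns : ¬ IsSquare (-1 : F)) (k : ℕ) (a b : F)
    (hab : ∀ x y : F, x ^ 2 + a * x * y + b * y ^ 2 = 0 → x = 0 ∧ y = 0) :
    ∃ x : Matrix.GeneralLinearGroup ((Fin (2 * k) ⊕ Fin (2 * k)) ⊕ Fin 2) F,
      x ∈ Cfsg.isometryGroup F (Cfsg.quadFormMinus (2 * k) F a b) ∧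
      (x : Matrix ((Fin (2 * k) ⊕ Fin (2 * k)) ⊕ Fin 2) ((Fin (2 * k) ⊕ Fin (2 * k)) ⊕ Fin 2) F) *
        (x : Matrix ((Fin (2 * k) ⊕ Fin (2 * k)) ⊕ Fin 2) ((Fin (2 * k) ⊕ Fin (2 * k)) ⊕ Fin 2) F) = -1 := by
  obtain ⟨x, hx, hx2⟩ := sqm_ex_plus3 (F := F) k
  obtain ⟨y, hy2, hy⟩ := sqm_ex_plane h2 hns a b hab
  exact sqmd4_core (2 * k) a b x hx hx2 y hy2 hy

end Cfsg.Agent.Lib.helper15.SQM
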