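import Mathlib
import Cfsg.Agent.Lib.helper6.SSCONJ.Defs

set_option autoImplicit false

/-! SSCONJ row DESC, core: descent of a semisimple matrix to a perfect subfield, with the statements of
COMP (`exists_ss_matrix` over `F₀`) and MAT (`ss_conj_matrix` over `F`) as hypotheses. -/

open Polynomial

namespace Cfsg.Agent.Lib.helper6.SSCONJ

variable {F : Type*} [Field F]

/-- `aeval (y₀.map i) (m.map i) = (aeval y₀ m).map i`. -/
theorem ssconjdesc_aeval_map {F₀ : Type*} [Field F₀] (i : F₀ →+* F) {n : ℕ}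
    (y₀ : Matrix (Fin n) (Fin n) F₀) (m : F₀[X]) :
    aeval (y₀.map i) (m.map i) = (aeval y₀ m).map i := by
  have hcomp : (algebraMap F (Matrix (Fin n) (Fin n) F)).comp i =
      (i.mapMatrix : Matrix (Fin n) (Fin n) F₀ →+* Matrix (Fin n) (Fin n) F).comp
        (algebraMap F₀ (Matrix (Fin n) (Fin n) F₀)) := by
    ext a j k
    by_cases h : j = k <;> simp [Matrix.algebraMap_matrix_apply, h]
  have h1 := Polynomial.hom_eval₂ m (algebraMap F₀ (Matrix (Fin n) (Fin n) F₀))
    (i.mapMatrix : Matrix (Fin n) (Fin n) F₀ →+* Matrix (Fin n) (Fin n) F) y₀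
  rw [RingHom.mapMatrix_apply, RingHom.mapMatrix_apply] at h1
  rw [Polynomial.aeval_def, Polynomial.eval₂_map, hcomp, ← h1, Polynomial.aeval_def]

/-- base change of a semisimple matrix from a perfect field stays semisimple. -/
theorem ssconjdesc_ss_map {F₀ : Type*} [Field F₀] [PerfectField F₀] (i : F₀ →+* F) {n : ℕ}
    (y₀ : Matrix (Fin n) (Fin n) F₀) (hy₀ : Module.End.IsSemisimple (Matrix.toLin' y₀)) :
    Module.End.IsSemisimple (Matrix.toLin' (y₀.map i)) := by
  have hsq : Squarefree (minpoly F₀ (Matrix.toLin' y₀)) := hy₀.minpoly_squarefree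
  have hsep : (minpoly F₀ (Matrix.toLin' y₀)).Separable :=
    PerfectField.separable_iff_squarefree.mpr hsq
  have hsq' : Squarefree ((minpoly F₀ (Matrix.toLin' y₀)).map i) := hsep.map.squarefree
  apply Module.End.isSemisimple_of_squarefree_aeval_eq_zero hsq'
  -- the minimal polynomial kills `y₀` as a matrix
  have h0 : aeval (Matrix.toLin' y₀) (minpoly F₀ (Matrix.toLin' y₀)) = 0 := minpoly.aeval _ _
  have h1 : aeval y₀ (minpoly F₀ (Matrix.toLin' y₀)) = 0 := by
    have h2 := Polynomial.aeval_algHom_apply (Matrix.toLinAlgEquiv' (R := F₀) (n := Fin n)).toAlgHom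
      y₀ (minpoly F₀ (Matrix.toLin' y₀))
    have h3 : (Matrix.toLinAlgEquiv' (R := F₀) (n := Fin n)).toAlgHom y₀ = Matrix.toLin' y₀ := rfl
    rw [h3, h0] at h2
    exact (Matrix.toLinAlgEquiv' (R := F₀) (n := Fin n)).injective (by
      rw [map_zero]
      exact h2.symm)
  have h4 := Polynomial.aeval_algHom_apply (Matrix.toLinAlgEquiv' (R := F) (n := Fin n)).toAlgHom
    (y₀.map i) ((minpoly F₀ (Matrix.toLin' y₀)).map i)
  have h5 : (Matrix.toLinAlgEquiv' (R := F) (n := Fin n)).toAlgHom (y₀.map i) =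
      Matrix.toLin' (y₀.map i) := rfl
  rw [h5, ssconjdesc_aeval_map, h1] at h4
  rw [h4]
  simp

theorem ssconjdesc_core {F₀ : Type*} [Field F₀] [PerfectField F₀] (i : F₀ →+* F) {n : ℕ}
    (hcomp : ∀ (c : F₀[X]), c.Monic → (c.Separable ∨ PerfectField F₀) → ∀ (n : ℕ), c.natDegree = n →
      ∃ y : Matrix (Fin n) (Fin n) F₀, y.charpoly = c ∧ Module.End.IsSemisimple (Matrix.toLin' y))
    (hmat : ∀ (x y : Matrix (Fin n) (Fin n) F), Module.End.IsSemisimple (Matrix.toLin' x) →
      Module.End.IsSemisimple (Matrix.toLin' y) → x.charpoly = y.charpoly →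
      ∃ g : GL (Fin n) F, (g : Matrix (Fin n) (Fin n) F) * x *
        ((g⁻¹ : GL (Fin n) F) : Matrix (Fin n) (Fin n) F) = y)
    (y : Matrix (Fin n) (Fin n) F)
    (hy : Module.End.IsSemisimple (Matrix.toLin' y)) (c₀ : F₀[X]) (hc₀ : y.charpoly = c₀.map i) :
    ∃ (g : GL (Fin n) F) (y₀ : Matrix (Fin n) (Fin n) F₀),
      (g : Matrix (Fin n) (Fin n) F) * y * ((g⁻¹ : GL (Fin n) F) : Matrix (Fin n) (Fin n) F) =
        y₀.map i := by
  have hmonic : (c₀.map i).Monic := hc₀ ▸ Matrix.charpoly_monic y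
  have hc₀m : c₀.Monic := by
    have h1 : (c₀.map i).leadingCoeff = i c₀.leadingCoeff := Polynomial.leadingCoeff_map i
    rw [hmonic.leadingCoeff] at h1
    show c₀.leadingCoeff = 1
    apply i.injective
    rw [← h1, map_one]
  have hdeg : c₀.natDegree = n := by
    have h1 : (c₀.map i).natDegree = c₀.natDegree := Polynomial.natDegree_map i
    rw [← h1, ← hc₀, Matrix.charpoly_natDegree_eq_dim, Fintype.card_fin]
  obtain ⟨y₀, hy₀c, hy₀s⟩ := hcomp c₀ hc₀m (Or.inr inferInstance) n hdeg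
  have hss := ssconjdesc_ss_map i y₀ hy₀s
  have hch : y.charpoly = (y₀.map i).charpoly := by
    rw [Matrix.charpoly_map, hy₀c, hc₀]
  obtain ⟨g, hg⟩ := hmat y (y₀.map i) hy hss hch
  exact ⟨g, y₀, hg⟩

end Cfsg.Agent.Lib.helper6.SSCONJ
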