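import Mathlib
import Cfsg.Agent.Lib.Helper25.SSCONJDESCcore
import Cfsg.Agent.Lib.Helper20.SSCONJCOMP
import Cfsg.Agent.Lib.Helper20.SSCONJMATcore
import Cfsg.Agent.Lib.helper6.SSCONJMAIN

set_option autoImplicit false

/-! SSCONJ row DESC, verbatim: descent of a semisimple matrix to a perfect subfield. -/

open Polynomial

namespace Cfsg.Agent.Lib.helper6.SSCONJ

variable {F : Type*} [Field F]

/-- the matrix form of `ss_equiv` (statement of row MAT), from `ssconjmat_core` + `ss_equiv`. -/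
theorem ssconjdesc_mat {n : Type*} [Fintype n] [DecidableEq n] (x y : Matrix n n F)
    (hx : Module.End.IsSemisimple (Matrix.toLin' x)) (hy : Module.End.IsSemisimple (Matrix.toLin' y))
    (hc : x.charpoly = y.charpoly) :
    ∃ g : GL n F, (g : Matrix n n F) * x * ((g⁻¹ : GL n F) : Matrix n n F) = y := by
  apply ssconjmat_core
  apply ss_equiv (Matrix.toLin' x) (Matrix.toLin' y) hx hy
  rw [Matrix.charpoly_toLin', Matrix.charpoly_toLin', hc]

theorem ss_descent {F₀ : Type*} [Field F₀] [PerfectField F₀] (i : F₀ →+* F) {n : ℕ} (y : Matrix (Fin n) (Fin n) F)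
    (hy : Module.End.IsSemisimple (Matrix.toLin' y)) (c₀ : F₀[X]) (hc₀ : y.charpoly = c₀.map i) :
    ∃ (g : GL (Fin n) F) (y₀ : Matrix (Fin n) (Fin n) F₀),
      (g : Matrix (Fin n) (Fin n) F) * y * ((g⁻¹ : GL (Fin n) F) : Matrix (Fin n) (Fin n) F) = y₀.map i :=
  ssconjdesc_core i (fun c hc hsep n hn => exists_ss_matrix c hc hsep n hn)
    (fun x y hx hy hc => ssconjdesc_mat x y hx hy hc) y hy c₀ hc₀

end Cfsg.Agent.Lib.helper6.SSCONJ
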