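import Mathlib
import Cfsg.Agent.Lib.Helper24.SU3M.Defs
import Cfsg.Agent.Lib.Helper25.SU3MP5bcore
import Cfsg.Agent.Lib.helper14.SU3MP2
import Cfsg.Agent.Lib.Helper26.SU3MP5a

/-!
# Project SU3M (designer helper24), row P5b `Vg_inter`, verbatim (helper25): `su3mp5b_core` + P5a `Vg_eq` (helper26) + P2b `A0_inter` (helper14).
-/

set_option autoImplicit false
set_option linter.unusedSectionVars false

namespace Cfsg.Agent.Lib.Helper24.SU3M

open Cfsg.Agent.Lib.Helper19.U3P Cfsg.Agent.Lib.Helper25.SU3P Cfsg.Agent.Lib.helper14.SU3J Cfsg.Agent.Lib.helper7.Ce Matrix Polynomial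

universe u

section P

variable {F : Type u} [Field F] [Fintype F] {K : Type u} [Field K] [Fintype K] {q : ℕ} {Γ : Type*} [Group Γ] {π : Γ →* ↥(Cfsg.SU 3 F q)}

/-- P5b [M]  `Vg_eq`; `π (cm t x * a) = 1`: first coordinate `(al - 1) * α(π x) = 0` (`ex_alpha`, `hz_conj`), so `π x ∈ Ag D`, `cm t x ∈ A0`, and `A0_inter`. -/
theorem Vg_inter (D : Par F K q) (hF : Fintype.card F = q ^ 2) (hq : 3 ≤ q) (h : IsCE π) {hz : ↥(Cfsg.SU 3 F q)} (hhz : D.c.cj hz = dd D.σ (D.ζ : F))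
    {t : Γ} (ht : π t = hz) : ∀ g ∈ Vg D π t, π g = 1 → g = 1 :=
  su3mp5b_core D hF hq h hhz ht (Vg_eq D hF hq h hhz ht) (A0_inter D hF hq h hhz ht)

end P

end Cfsg.Agent.Lib.Helper24.SU3M
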