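import Mathlib
import Cfsg.Agent.Lib.Helper19.SU5.Defs
import Cfsg.Agent.Lib.Helper19.SU5.Defs2
import Cfsg.Agent.Lib.Helper25.SU5Z4core
import Cfsg.Agent.Lib.Helper21.SU5Z1core
import Cfsg.Agent.Lib.Helper21.SU5Z2

/-!
# SU5 (designer helper19), part 2, row Z4 `model_commHU`, verbatim (helper25): `su5z4_core` + helper21's `su5z1_dict6` (the first six parts of Z1) + Z2 `match_rootsU`.
-/

set_option autoImplicit false

namespace Cfsg.Agent.Lib.Helper19.SU5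

open Cfsg.Agent.Lib.helper17.SLP Cfsg.Agent.Lib.helper3.SP4 Cfsg.Agent.Lib.Helper22.SU4
open Cfsg.Agent.Lib.Helper27.STU (Lam XpM XmM XpS XmS SUm XpU XmU SysU)
open Cfsg.Agent.Lib.helper3.STC (ng sws)

universe u v w

section Z

variable {F : Type u} {K : Type u} [Field F] [Field K] [StarRing F] [Fintype F] [Fintype K] {D : Tw F K}

variable {G₀ : Type v} [Group G₀] (S : SysU F True (Fin 2) G₀)

/-- Z4 [M]  deps Z1 Z2.  For ALL parameters (the fields `U5 … U8b` of `HypU` are instances). -/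
theorem model_commHU (hFK : Fintype.card F = Fintype.card K ^ 2) (P : RO D)
    (ψa : Matrix.SpecialLinearGroup (Fin 2) F →* G₀) (ψb : ↥(SUm F True) →* G₀) (M : MatchU S ψa ψb) :
    (∀ ξ, Commute (rn (phiL P ψb)) (ydU ψa ψb ξ)) ∧ (∀ ξ t, Commute (yb ψb ξ) (xcU P ψa ψb t)) ∧
      (∀ t ξ, cm (rx ψa t) (yb ψb ξ) =
        xcU P ψa ψb (-(P.kap)⁻¹ * (t * star ξ.c)) * ydU ψa ψb (Lam.act (-t) ξ)) ∧
      ∀ ξ η, cm (yb ψb ξ) (ydU ψa ψb η) = xcU P ψa ψb (-(P.kap)⁻¹ * (star ξ.v * η.v)) := by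
  obtain ⟨hx, -, -, hyb, -, hwb⟩ := su5z1_dict6 S P ψa ψb M
  obtain ⟨hxc, hyd, -, -⟩ := match_rootsU S hFK P ψa ψb M
  exact su5z4_core S hFK P ψa ψb hx hyb hwb hxc hyd

end Z

end Cfsg.Agent.Lib.Helper19.SU5
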