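import Mathlib

/-! Split extension has the largest class number among extensions with abelian kernel and given action (S4965). -/

set_option autoImplicit false

namespace Cfsg.Agent.Lib.Helper25

open Classical in
/-- base commuting pair over a given pair of cosets -/
noncomputable def spx_base {X : Type*} [Group X] (V : Subgroup X) [V.Normal]
    (p : (X ⧸ V) × (X ⧸ V)) : X × X :=
  if h : ∃ q : X × X, (QuotientGroup.mk q.1 : X ⧸ V) = p.1 ∧ (QuotientGroup.mk q.2 : X ⧸ V) = p.2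
      ∧ Commute q.1 q.2 then h.choose else (1, 1)

theorem spx_base_spec {X : Type*} [Group X] (V : Subgroup X) [V.Normal]
    (x y : X) (hxy : Commute x y) :
    (QuotientGroup.mk (spx_base V (QuotientGroup.mk x, QuotientGroup.mk y)).1 : X ⧸ V)
        = QuotientGroup.mk x ∧
    (QuotientGroup.mk (spx_base V (QuotientGroup.mk x, QuotientGroup.mk y)).2 : X ⧸ V)
        = QuotientGroup.mk y ∧
    Commute (spx_base V (QuotientGroup.mk x, QuotientGroup.mk y)).1
      (spx_base V (QuotientGroup.mk x, QuotientGroup.mk y)).2 := by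
  have h : ∃ q : X × X, (QuotientGroup.mk q.1 : X ⧸ V) = (QuotientGroup.mk x : X ⧸ V) ∧
      (QuotientGroup.mk q.2 : X ⧸ V) = (QuotientGroup.mk y : X ⧸ V) ∧ Commute q.1 q.2 :=
    ⟨(x, y), rfl, rfl, hxy⟩
  unfold spx_base
  rw [dif_pos h]
  exact h.choose_spec

theorem spx_mem {X : Type*} [Group X] (V : Subgroup X) [V.Normal] (x x0 : X)
    (h : (QuotientGroup.mk x0 : X ⧸ V) = QuotientGroup.mk x) : x * x0⁻¹ ∈ V := by
  rw [← QuotientGroup.eq_one_iff, QuotientGroup.mk_mul, QuotientGroup.mk_inv, h, mul_inv_cancel]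

/-- the key identity -/
theorem spx_identity {X : Type*} [Group X] (V : Subgroup X) [V.Normal]
    (hab : ∀ a ∈ V, ∀ b ∈ V, a * b = b * a) (x y x0 y0 : X)
    (hx : x * x0⁻¹ ∈ V) (hy : y * y0⁻¹ ∈ V) (hxy : x * y = y * x) (h0 : x0 * y0 = y0 * x0) :
    x * x0⁻¹ * (x * (y * y0⁻¹) * x⁻¹) = y * y0⁻¹ * (y * (x * x0⁻¹) * y⁻¹) := by
  have h1 : x * (y * y0⁻¹) * x⁻¹ ∈ V := ‹V.Normal›.conj_mem _ hy x
  have h2 : y * (x * x0⁻¹) * y⁻¹ ∈ V := ‹V.Normal›.conj_mem _ hx y
  rw [hab _ hx _ h1, hab _ hy _ h2]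
  have e1 : x * (y * y0⁻¹) * x⁻¹ * (x * x0⁻¹) = x * y * (x0 * y0)⁻¹ := by group
  have e2 : y * (x * x0⁻¹) * y⁻¹ * (y * y0⁻¹) = y * x * (y0 * x0)⁻¹ := by group
  rw [e1, e2, hxy, h0]

theorem spx_main {X : Type*} [Group X] [Finite X] (V : Subgroup X) [V.Normal]
    (hab : ∀ a ∈ V, ∀ b ∈ V, a * b = b * a) (φ : X ⧸ V →* MulAut ↥V)
    (hφ : ∀ (x : X) (v : ↥V), ((φ (QuotientGroup.mk x) v : ↥V) : X) = x * v * x⁻¹) :
    Nat.card (ConjClasses X) ≤ Nat.card (ConjClasses (SemidirectProduct ↥V (X ⧸ V) φ)) := by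
  classical
  haveI : Finite (SemidirectProduct ↥V (X ⧸ V) φ) :=
    Finite.of_equiv _ SemidirectProduct.equivProd.symm
  have hcard : Nat.card (SemidirectProduct ↥V (X ⧸ V) φ) = Nat.card X := by
    rw [SemidirectProduct.card, mul_comm, ← Subgroup.card_eq_card_quotient_mul_card_subgroup]
  have hX := card_comm_eq_card_conjClasses_mul_card X
  have hS := card_comm_eq_card_conjClasses_mul_card (SemidirectProduct ↥V (X ⧸ V) φ)
  rw [hcard] at hS
  -- the injection
  have key : Nat.card { p : X × X // Commute p.1 p.2 } ≤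
      Nat.card { p : (SemidirectProduct ↥V (X ⧸ V) φ) × (SemidirectProduct ↥V (X ⧸ V) φ) //
        Commute p.1 p.2 } := by
    let F : { p : X × X // Commute p.1 p.2 } →
        { p : (SemidirectProduct ↥V (X ⧸ V) φ) × (SemidirectProduct ↥V (X ⧸ V) φ) //
          Commute p.1 p.2 } := fun p =>
      ⟨(⟨⟨p.1.1 * (spx_base V (QuotientGroup.mk p.1.1, QuotientGroup.mk p.1.2)).1⁻¹,
            spx_mem V _ _ (spx_base_spec V p.1.1 p.1.2 p.2).1⟩, QuotientGroup.mk p.1.1⟩,
         ⟨⟨p.1.2 * (spx_base V (QuotientGroup.mk p.1.1, QuotientGroup.mk p.1.2)).2⁻¹,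
            spx_mem V _ _ (spx_base_spec V p.1.1 p.1.2 p.2).2.1⟩, QuotientGroup.mk p.1.2⟩), by
        obtain ⟨⟨x, y⟩, hxy⟩ := p
        obtain ⟨h1, h2, h3⟩ := spx_base_spec V x y hxy
        simp only
        have hxy' : x * y = y * x := hxy
        unfold Commute SemiconjBy
        ext
        · simp only [SemidirectProduct.mul_left, Subgroup.coe_mul, hφ]
          exact spx_identity V hab x y _ _ (spx_mem V _ _ h1) (spx_mem V _ _ h2) hxy' h3
        · simp only [SemidirectProduct.mul_right]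
          rw [← QuotientGroup.mk_mul, ← QuotientGroup.mk_mul, hxy']⟩
    apply Nat.card_le_card_of_injective F
    rintro ⟨⟨x, y⟩, hxy⟩ ⟨⟨x', y'⟩, hxy'⟩ h
    have h1 := congrArg (fun q => q.1.1) h
    have h2 := congrArg (fun q => q.1.2) h
    have hg : (QuotientGroup.mk x : X ⧸ V) = QuotientGroup.mk x' :=
      congrArg SemidirectProduct.right h1
    have hh : (QuotientGroup.mk y : X ⧸ V) = QuotientGroup.mk y' :=
      congrArg SemidirectProduct.right h2
    have ha : x * (spx_base V (QuotientGroup.mk x, QuotientGroup.mk y)).1⁻¹ =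
        x' * (spx_base V (QuotientGroup.mk x', QuotientGroup.mk y')).1⁻¹ :=
      congrArg (fun q => ((SemidirectProduct.left q : ↥V) : X)) h1
    have hb : y * (spx_base V (QuotientGroup.mk x, QuotientGroup.mk y)).2⁻¹ =
        y' * (spx_base V (QuotientGroup.mk x', QuotientGroup.mk y')).2⁻¹ :=
      congrArg (fun q => ((SemidirectProduct.left q : ↥V) : X)) h2
    rw [← hg, ← hh] at ha hb
    simp only [mul_left_inj] at ha hb
    subst ha hb
    rfl
  rw [hX, hS] at key
  exact Nat.le_of_mul_le_mul_right key Nat.card_pos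

end Cfsg.Agent.Lib.Helper25
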