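import Mathlib
import Cfsg.Agent.Lib.helper3.T2E.Defs
import Cfsg.Agent.Lib.helper8.ChevTwE6H16
import Cfsg.Agent.Lib.helper8.ChevTwE6c
import Cfsg.Agent.Lib.helper4.T2ED4

/-!
# T2E (S2108, designer helper3), row D6 `T1_act` — VERBATIM (helper25), from D4 `XT_conj` and `h8chi_spec`.
-/

set_option autoImplicit false

namespace Cfsg.Agent.Lib.helper3.T2E

open Cfsg.Lie Cfsg.Lie.ChevalleyDatum Matrix
open Cfsg.Agent.Lib.helper8 Cfsg.Agent.Lib.Helper10.TEM Cfsg.Agent.Lib.helper7.Ce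
  Cfsg.Agent.Lib.helper15.St2

universe u

variable {K : Type u} [Field K] {q : ℕ} {f : K ≃+* K}

-- ROW D6 [S]  D4 with `κ = h8chi chevE6 hB h r` (`h8chi_spec`).
theorem T1_act (hF : Frob q f) (h : GG K) (hh : h ∈ T1 K q) (r : ℕ) (hr : r < 72) (t : K)
    (ht : Adm q r t) :
    Adm q r (h8chi chevE6 hB h r * t) ∧
      h * XT q r t * h⁻¹ = XT q r (h8chi chevE6 hB h r * t) :=
  XT_conj hF h hh.2 r r hr hr (h8chi chevE6 hB h r) (fun t => (h8chi_spec chevE6 hB h hh.1 r hr).2 t) t ht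

end Cfsg.Agent.Lib.helper3.T2E
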