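import Mathlib
import Cfsg.Agent.Lib.helper3.T2E.Defs3
import Cfsg.Agent.Lib.helper8.ChevTwE6H16
import Cfsg.Agent.Lib.Helper28.T2ED3

/-!
# T2E (S2108, designer helper3), row R8 `wrel_sig` — CORE (helper25): the conclusion of U4 `family_sig` is the hypothesis `hsig`.
-/

set_option autoImplicit false

namespace Cfsg.Agent.Lib.helper3.T2E

open Cfsg.Lie Cfsg.Lie.ChevalleyDatum Matrix
open Cfsg.Agent.Lib.helper8 Cfsg.Agent.Lib.Helper10.TEM Cfsg.Agent.Lib.helper7.Ce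
  Cfsg.Agent.Lib.helper15.St2

universe u

/-- `pv2 (σ r) = pv2 r` -/
theorem t2er8h25_pv2_sig (r : ℕ) (hr : r < 72) (i : ℕ) : pv2 (h8sE6 r) i = pv2 r i := by
  unfold pv2
  rw [(root_data r hr).2.2.2.1, add_comm]

theorem t2er8h25_InCone_left (a b c : ℕ) (ha : a < 72) : InCone (h8sE6 a) b c ↔ InCone a b c := by
  unfold InCone
  simp only [t2er8h25_pv2_sig a ha]

theorem t2er8h25_InCone_right (a b c : ℕ) (hb : b < 72) : InCone a (h8sE6 b) c ↔ InCone a b c := by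
  unfold InCone
  simp only [t2er8h25_pv2_sig b hb]

variable {K : Type u} [Field K] {q : ℕ} {f : K ≃+* K} {Γ : Type u} [Group Γ]

omit [Group Γ] in
/-- a parameter at `σ r` comes from a parameter at `r` -/
theorem t2er8h25_key (hF : Frob q f) {L : ℕ → K → Γ}
    (hsig : ∀ r < 72, ∀ t, Adm q r t → L (h8sE6 r) (((h8eE6 r : ℤ) : K) * t ^ q) = L r t)
    (r : ℕ) (hr : r < 72) (t' : K) (ht' : Adm q (h8sE6 r) t') :
    ∃ t, Adm q r t ∧ L (h8sE6 r) t' = L r t := by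
  have hr' : h8sE6 r < 72 := (root_data r hr).2.2.1
  have hσσ : h8sE6 (h8sE6 r) = r := (root_data r hr).2.2.2.1
  have h1 := (XT_sig hF (h8sE6 r) hr' t' ht').1
  have h2 := hsig (h8sE6 r) hr' t' ht'
  rw [hσσ] at h1 h2
  exact ⟨_, h1, h2.symm⟩

/-- CORE of R8. -/
theorem t2er8h25_core (hF : Frob q f) {L : ℕ → K → Γ}
    (hsig : ∀ r < 72, ∀ t, Adm q r t → L (h8sE6 r) (((h8eE6 r : ℤ) : K) * t ^ q) = L r t)
    (a b : ℕ) (ha : a < 72) (hb : b < 72) (h : WRel q L a b) :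
    WRel q L (h8sE6 a) b ∧ WRel q L a (h8sE6 b) := by
  constructor
  · intro t' u ht' hu
    obtain ⟨t, ht, e⟩ := t2er8h25_key hF hsig a ha t' ht'
    rw [e]
    have h0 := h t u ht hu
    have hset : {g : Γ | ∃ c, InCone (h8sE6 a) b c ∧ ∃ v, Adm q c v ∧ g = L c v} =
        {g : Γ | ∃ c, InCone a b c ∧ ∃ v, Adm q c v ∧ g = L c v} := by
      ext g
      simp only [Set.mem_ofPred_eq, t2er8h25_InCone_left a b _ ha]
    rw [hset]
    exact h0
  · intro t u' ht hu'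
    obtain ⟨u, hu, e⟩ := t2er8h25_key hF hsig b hb u' hu'
    rw [e]
    have h0 := h t u ht hu
    have hset : {g : Γ | ∃ c, InCone a (h8sE6 b) c ∧ ∃ v, Adm q c v ∧ g = L c v} =
        {g : Γ | ∃ c, InCone a b c ∧ ∃ v, Adm q c v ∧ g = L c v} := by
      ext g
      simp only [Set.mem_ofPred_eq, t2er8h25_InCone_right a b _ hb]
    rw [hset]
    exact h0

end Cfsg.Agent.Lib.helper3.T2E
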