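import Mathlib
import Cfsg.Agent.Lib.helper3.T2E.Defs3
import Cfsg.Agent.Lib.helper8.ChevTwE6H16
import Cfsg.Agent.Lib.Helper25.T2ER8core
import Cfsg.Agent.Lib.Helper10.T2EU4

/-!
# T2E (S2108, designer helper3), row R8 `wrel_sig` — VERBATIM (helper25), from `Helper25.T2ER8core` and U4 `family_sig`.
-/

set_option autoImplicit false

namespace Cfsg.Agent.Lib.helper3.T2E

open Cfsg.Lie Cfsg.Lie.ChevalleyDatum Matrix
open Cfsg.Agent.Lib.helper8 Cfsg.Agent.Lib.Helper10.TEM Cfsg.Agent.Lib.helper7.Ce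
  Cfsg.Agent.Lib.helper15.St2

universe u

variable {K : Type u} [Field K] {q : ℕ} {f : K ≃+* K} {Γ : Type u} [Group Γ]
  {π : Γ →* ↥(twistedE6 K q)}

-- ROW R8 [S-M]  U4: `L (σ a) _ = L a _`, so the generating sets agree; `pv2 (σ r) = pv2 r` (`root_data`: `σ σ r = r`), so the cones agree.
theorem wrel_sig [Fintype K] (hq : IsPrimePow q) (hK : Fintype.card K = q ^ 2) (h2 : q ≠ 2)
    (hF : Frob q f) (hπ : IsCE π) {L : ℕ → K → Γ} (hL : ∀ r < 72, IsRootLift q π r (L r))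
    (a b : ℕ) (ha : a < 72) (hb : b < 72) (h : WRel q L a b) :
    WRel q L (h8sE6 a) b ∧ WRel q L a (h8sE6 b) :=
  t2er8h25_core hF (family_sig hq hK h2 hF hπ hL) a b ha hb h

end Cfsg.Agent.Lib.helper3.T2E
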