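import Mathlib
import Cfsg.Agent.Lib.helper17.T3.DefsC

/-!
# Family T3 (S2110), project T3C (designer helper17), row L8 core (helper25): `exists_longLift` with the STATEMENTS of L1 `Zl_map`, L2 `Zl_add_left`, L7 `Zl_tr` as hypotheses.
-/

set_option autoImplicit false

namespace Cfsg.Agent.Lib.helper17.T3

open Cfsg.Agent.Lib.helper15.St2 Cfsg.Agent.Lib.helper7.Ce Matrix

variable {F K : Type*} [Field F] [Field K] [Algebra F K]

/-- own-name copy of A1a `Cub.tr_add` -/
theorem t3cl8h25_tr_add (C : Cub F K) (x y : K) : C.tr (x + y) = C.tr x + C.tr y := by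
  apply (algebraMap F K).injective
  rw [map_add, C.htr, C.htr, C.htr, map_add, map_add]
  ring

variable {C : Cub F K} {G Γ : Type*} [Group G] [Group Γ]

section L

variable {S : SysT C G} {σ : Γ →* G}

/-- L8 core: hypotheses = the statements of L1 `Zl_map`, L2 `Zl_add_left`, L7 `Zl_tr` (for the given `L`). -/
theorem t3cl8h25_core (hC : C.Good) (L : ShortLift S σ)
    (hmap : ∀ (k : ZMod 6) (s t : K), σ (Zl L k s t) = S.xl k (-(C.tr (s * t))))
    (hadd : ∀ (k : ZMod 6) (s s' t : K), Zl L k (s + s') t = Zl L k s t * Zl L k s' t)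
    (htr : ∀ (k : ZMod 6) {s t s' t' : K}, C.tr (s * t) = C.tr (s' * t') → Zl L k s t = Zl L k s' t') :
    Nonempty (LongLift S σ L) := by
  have hch : ∀ c : F, C.tr (Classical.choose (hC.tr_surj (-c))) = -c := fun c => Classical.choose_spec (hC.tr_surj (-c))
  refine ⟨{ Y := fun k c => Zl L k (Classical.choose (hC.tr_surj (-c))) 1, map := ?_, add := ?_, ss1 := ?_ }⟩
  · intro k c
    rw [hmap, mul_one, hch, neg_neg]
  · intro k c d
    show Zl L k _ 1 * Zl L k _ 1 = Zl L k _ 1
    rw [← hadd]
    apply htr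
    rw [mul_one, mul_one, t3cl8h25_tr_add, hch, hch, hch]
    ring
  · intro k s t
    show Zl L k s t = Zl L k _ 1
    apply htr
    rw [mul_one, hch, neg_neg]

end L

end Cfsg.Agent.Lib.helper17.T3
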