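import Mathlib
import Cfsg.Agent.Lib.helper17.T3.DefsC
import Cfsg.Agent.Lib.Helper22.CECG1

/-!
# Family T3 (S2110), project T3C (designer helper17), row T9 `CL_hs_xl`, VERBATIM (helper25).
-/

set_option autoImplicit false

namespace Cfsg.Agent.Lib.helper17.T3

open Cfsg.Agent.Lib.helper15.St2 Cfsg.Agent.Lib.helper7.Ce Matrix

variable {F K : Type*} [Field F] [Field K] [Algebra F K]

variable {C : Cub F K} {G Γ : Type*} [Group G] [Group Γ]

section T

variable (S : SysT C G) {σ : Γ →* G}

/-- lifts of the torus element `hs j u` commute with lifts of `w` as soon as lifts of the root elements `xs j _`, `xs (j+3) _` do -/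
theorem t3ct9h25_key (h : IsCE σ) (j : ZMod 6) (u : K) (w : G) (h0 : ∀ t, CL σ (S.xs j t) w) (h3 : ∀ t, CL σ (S.xs (j + 3) t) w) :
    CL σ (S.hs j u) w := by
  have hw : ∀ t, CL σ (S.ws j t) w := fun t => by
    unfold SysT.ws
    exact h.CL_mul_left (h.CL_mul_left (h0 t) (h3 _)) (h0 t)
  unfold SysT.hs
  exact h.CL_mul_left (hw u) (Cfsg.Agent.Lib.helper7.CEC.CL_inv h (hw 1))

/-- [T9] [S] lifts of the torus element `hs j u` commute with lifts of every `xl (j+i) c`, `i = 1, 4` (the long roots orthogonal to the short root `2j`). -/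
theorem CL_hs_xl (h : IsCE σ) (hT : CLT S σ) (j : ZMod 6) (u : K) (c : F) : CL σ (S.hs j u) (S.xl (j + 1) c) ∧ CL σ (S.hs j u) (S.xl (j + 4) c) := by
  have e1 : j + 1 + 2 = j + 3 := by ring
  have e2 : j + 4 + 2 = j := by
    have : (4 : ZMod 6) + 2 = 0 := by decide
    rw [add_assoc, this, add_zero]
  have e3 : j + 3 + 1 = j + 4 := by ring
  constructor
  · apply t3ct9h25_key S h
    · intro t
      exact hT.sl1 j t c
    · intro t
      have := hT.ls2 (j + 1) c t
      rw [e1] at this
      exact this.symm
  · apply t3ct9h25_key S h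
    · intro t
      have := hT.ls2 (j + 4) c t
      rw [e2] at this
      exact this.symm
    · intro t
      have := hT.sl1 (j + 3) t c
      rw [e3] at this
      exact this

end T

end Cfsg.Agent.Lib.helper17.T3
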