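import Mathlib
import Cfsg.Agent.Lib.helper17.T3.DefsC
import Cfsg.Agent.Lib.Helper25.T3CL8core
import Cfsg.Agent.Lib.Helper20.T3CL1
import Cfsg.Agent.Lib.Helper27.T3CL6

/-!
# Family T3 (S2110), project T3C (designer helper17), row L8 `exists_longLift`, VERBATIM (helper25), on `Helper25.T3CL8core` and L1 `Zl_map`, L2 `Zl_add_left`, L7 `Zl_tr`.
-/

set_option autoImplicit false

namespace Cfsg.Agent.Lib.helper17.T3

open Cfsg.Agent.Lib.helper15.St2 Cfsg.Agent.Lib.helper7.Ce Matrix

variable {F K : Type*} [Field F] [Field K] [Algebra F K]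

variable {C : Cub F K} {G Γ : Type*} [Group G] [Group Γ]

section L

variable {S : SysT C G} {σ : Γ →* G}

/-- [L8] [S] `Y k c := Zl L k (Classical.choose (hC.tr_surj (-c))) 1`; `map` by `Zl_map`, `add` by `Zl_add_left` + `Zl_tr`, `ss1` by `Zl_tr`. -/
theorem exists_longLift (hC : C.Good) [Finite K] (h : IsCE σ) (hT : CLT S σ) (L : ShortLift S σ) : Nonempty (LongLift S σ L) :=
  t3cl8h25_core hC L (Zl_map L) (Zl_add_left hT L) (fun k _ _ _ _ hst => Zl_tr hC h hT L k hst)

end L

end Cfsg.Agent.Lib.helper17.T3
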