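import Mathlib
import Cfsg.Agent.Lib.helper8.T3M.Defs
import Cfsg.Agent.Lib.Helper5.TD4VN5

/-!
# Project T3M (designer helper8, S2110), row F3 `t3m_nm_surj` — CORE (helper25): the statement of F1 `t3m_card_Fx` is the hypothesis `hF1`.
-/

set_option autoImplicit false

namespace Cfsg.Agent.Lib.helper8.T3M

open Cfsg.Lie Cfsg.Lie.ChevalleyDatum Matrix
open Cfsg.Agent.Lib.helper8
open Cfsg.Agent.Lib.helper23.TD4V
open Cfsg.Agent.Lib.helper17.T3

universe u

variable {K : Type u} [Field K] {q : ℕ}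

/-- CORE of F3: the norm is onto the nonzero elements of the fixed field, given `|D.Fx| = q`. -/
theorem t3mf3h25_core [Fintype K] (D : Dat K q) (hq : IsPrimePow q) (hK : Fintype.card K = q ^ 3)
    (hF1 : Nat.card D.Fx = q) (c : D.Fx) (hc : c ≠ 0) : ∃ t : K, D.nm t = c := by
  classical
  have : Fintype D.Fx := Fintype.ofFinite _
  have hF : Fintype.card D.Fx = q := by
    rw [← Nat.card_eq_fintype_card]; exact hF1
  obtain ⟨s, -, hs⟩ := Nm_surj (D.Fx.subtype) q hq hF hK c hc
  refine ⟨s, Subtype.ext ?_⟩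
  show s * D.f s * D.f (D.f s) = (c : K)
  rw [D.hf, D.hf, ← pow_mul, ← sq]
  exact hs

end Cfsg.Agent.Lib.helper8.T3M
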