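import Mathlib
import Cfsg.Agent.Lib.helper8.T3M.Rel
import Cfsg.Agent.Lib.helper8.TDMU1
import Cfsg.Agent.Lib.Helper19.T3A.Defs
import Cfsg.Agent.Lib.Helper25.T3MF3core
import Cfsg.Agent.Lib.helper15.T3MF1

/-!
# Project T3M (designer helper8, S2110), row F3 `t3m_nm_surj` — VERBATIM (helper25), from `Helper25.T3MF3core` and F1 `t3m_card_Fx`.
-/

set_option autoImplicit false

namespace Cfsg.Agent.Lib.helper8.T3M

open Cfsg.Lie Cfsg.Lie.ChevalleyDatum Matrix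
open Cfsg.Agent.Lib.helper8
open Cfsg.Agent.Lib.helper23.TD4V
open Cfsg.Agent.Lib.helper17.T3
open Cfsg.Agent.Lib.helper15.St2 Cfsg.Agent.Lib.helper7.Ce

universe u

variable {K : Type u} [Field K] {q : ℕ}

/-- **F3** [S-M] (F1).  `Cfsg.Agent.Lib.Helper5.TD4VN5` `Nm_surj`. -/
theorem t3m_nm_surj [Fintype K] (D : Dat K q) (hq : IsPrimePow q) (hK : Fintype.card K = q ^ 3)
    (c : D.Fx) (hc : c ≠ 0) : ∃ t : K, D.nm t = c :=
  t3mf3h25_core D hq hK (t3m_card_Fx D hq hK) c hc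

end Cfsg.Agent.Lib.helper8.T3M
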