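import Cfsg.Agent.Lib.Helper25.TOOTR1

/-! # Project TOO, row TR2 (`tr_omegaGL_eq_Om`): proved in `Cfsg.Agent.Lib.Helper25.TOOTR1` next to TR1. -/
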