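import Cfsg.Agent.Lib.Helper27.TS2.Defs

/-!
# Project TS2, row UFPA (core): `c1A_two` (as a hypothesis) + `StabA` ⟹ `UfpA`
-/

set_option autoImplicit false
set_option linter.unusedSectionVars false
set_option linter.unusedVariables false

namespace Cfsg.Agent.Lib.Helper21.TS

open Matrix
open scoped Kronecker
open Cfsg.Agent.Lib.helper7.TP

variable {b : ℕ} {F : Type*} [Field F]
variable {J1 : Matrix (Fin 2) (Fin 2) F} {J2 : Matrix (Fin b) (Fin b) F}
  {M : Subgroup (Matrix.GeneralLinearGroup (Fin 2 × Fin b) F)}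

/-- UFPA core: the statement of `c1A_two` (for this `M`) as hypothesis `hc1`. -/
theorem ts2ufpa_core (hMS : M ≤ SpV J1 J2) (hS : StabA M)
    (hc1 : ∀ {u : Fin 2 → F} (hu : u ≠ 0) {c : F} (hc : c ≠ 0)
      (x : Matrix.GeneralLinearGroup (Fin 2 × Fin b) F)
      (hx : (x : Matrix (Fin 2 × Fin b) (Fin 2 × Fin b) F) =
        XAm J1 u (c • (1 : Matrix (Fin b) (Fin b) F)))
      (v : Matrix.GeneralLinearGroup (Fin 2 × Fin b) F) (hv : v ∈ M)
      (ht : v * x * v⁻¹ ∈ T0 J1 J2),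
      ∃ u' : Fin 2 → F, u' ≠ 0 ∧ ∀ z : Fin b → F, ∃ z' : Fin b → F,
        (v : Matrix (Fin 2 × Fin b) (Fin 2 × Fin b) F) *ᵥ ten u z = ten u' z') :
    UfpA J1 J2 M := by
  intro u c x hu hc hx v hv ht
  obtain ⟨u', hu', h⟩ := hc1 hu hc x hx v hv ht
  exact ⟨hS v hv u u' hu hu' h, hMS hv⟩

end Cfsg.Agent.Lib.Helper21.TS
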