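import Mathlib
import Cfsg.Agent.Lib.Helper25.TTA1

set_option autoImplicit false

namespace Cfsg.Agent.Lib.Helper25.TT

variable {K : Type*} [Group K]

theorem k54_bound (a b c : K) (ha : a ^ 2 = 1) (hb : b ^ 2 = 1) (hc : c ^ 2 = 1)
    (hab : (a * b) ^ 3 = 1) (hbc : (b * c) ^ 3 = 1) (hca : (c * a) ^ 3 = 1)
    (h4 : (a * (b * c * b)) ^ 3 = 1) :
    ∃ s : Finset K, s.card ≤ 54 ∧ ∀ g ∈ Subgroup.closure ({a, b, c} : Set K), g ∈ s := by
  classical
  have haa : a * a = 1 := by rw [← pow_two]; exact ha
  have hbb : b * b = 1 := by rw [← pow_two]; exact hb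
  have hcc : c * c = 1 := by rw [← pow_two]; exact hc
  have hai : a⁻¹ = a := by rw [eq_comm]; exact eq_inv_of_mul_eq_one_left haa
  have hbi : b⁻¹ = b := by rw [eq_comm]; exact eq_inv_of_mul_eq_one_left hbb
  have hci : c⁻¹ = c := by rw [eq_comm]; exact eq_inv_of_mul_eq_one_left hcc
  set x : K := a * b with hx
  set y : K := b * c with hy
  have hxy : (x * y) ^ 3 = 1 := by
    have e : x * y = (c * a)⁻¹ := by
      rw [hx, hy, mul_inv_rev, hai, hci]
      calc a * b * (b * c) = a * (b * b) * c := by group
        _ = a * c := by rw [hbb]; group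
    rw [e, inv_pow, hca, inv_one]
  have hxy' : (x * y⁻¹) ^ 3 = 1 := by
    have e : x * y⁻¹ = a * (b * c * b) := by
      rw [hx, hy, mul_inv_rev, hbi, hci]; group
    rw [e]; exact h4
  obtain ⟨s0, hs0card, hs0⟩ := b23_bound x y hab hbc hxy hxy'
  set H : Subgroup K := Subgroup.closure ({x, y} : Set K) with hH
  have hxH : x ∈ H := Subgroup.subset_closure (by simp)
  have hyH : y ∈ H := Subgroup.subset_closure (by simp)
  -- a normalises H
  have hnorm : ∀ h ∈ H, a * h * a ∈ H := by
    intro h hh
    induction hh using Subgroup.closure_induction with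
    | mem g hg =>
      rcases hg with rfl | rfl
      · -- a x a = x⁻¹
        have : a * x * a = x⁻¹ := by
          rw [hx, mul_inv_rev, hai, hbi]
          calc a * (a * b) * a = (a * a) * b * a := by group
            _ = b * a := by rw [haa]; group
        rw [this]; exact H.inv_mem hxH
      · -- a y a = x y⁻¹ x⁻¹
        have : a * y * a = x * y⁻¹ * x⁻¹ := by
          rw [hx, hy, mul_inv_rev, mul_inv_rev, hai, hbi, hci]
          calc a * (b * c) * a = a * b * c * (b * b) * a := by rw [hbb]; group
            _ = a * b * (c * b) * (b * a) := by group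
        rw [this]; exact H.mul_mem (H.mul_mem hxH (H.inv_mem hyH)) (H.inv_mem hxH)
    | one => simp [haa]
    | mul g h _ _ ihg ihh =>
      have : a * (g * h) * a = (a * g * a) * (a * h * a) := by
        calc a * (g * h) * a = a * g * 1 * h * a := by group
          _ = a * g * (a * a) * h * a := by rw [haa]
          _ = (a * g * a) * (a * h * a) := by group
      rw [this]; exact H.mul_mem ihg ihh
    | inv g _ ihg =>
      have : a * g⁻¹ * a = (a * g * a)⁻¹ := by
        rw [mul_inv_rev, mul_inv_rev, hai]; group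
      rw [this]; exact H.inv_mem ihg
  let S : Set K := {g | g ∈ H ∨ a * g ∈ H}
  have haS : ∀ s ∈ S, a * s ∈ S := by
    rintro s (hs | hs)
    · right
      have : a * (a * s) = s := by rw [← mul_assoc, haa, one_mul]
      rw [this]; exact hs
    · left; exact hs
  have hb_eq : b = a * x := by rw [hx, ← mul_assoc, haa, one_mul]
  have hc_eq : c = a * (x * y) := by
    rw [hx, hy]
    calc c = (a * a) * (b * b) * c := by rw [haa, hbb]; group
      _ = a * (a * b * (b * c)) := by group
  -- left multiplication by an element of the form a * h (h ∈ H) preserves S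
  have hahS : ∀ h ∈ H, ∀ s ∈ S, (a * h) * s ∈ S := by
    intro h hh s hs
    rcases hs with hs | hs
    · right
      have : a * (a * h * s) = h * s := by
        calc a * (a * h * s) = (a * a) * h * s := by group
          _ = h * s := by rw [haa, one_mul]
      rw [this]; exact H.mul_mem hh hs
    · left
      have : a * h * s = (a * h * a) * (a * s) := by
        calc a * h * s = a * h * 1 * s := by group
          _ = a * h * (a * a) * s := by rw [haa]
          _ = (a * h * a) * (a * s) := by group
      rw [this]; exact H.mul_mem (hnorm h hh) hs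
  have hbS : ∀ s ∈ S, b * s ∈ S := by
    intro s hs; rw [hb_eq]; exact hahS x hxH s hs
  have hcS : ∀ s ∈ S, c * s ∈ S := by
    intro s hs; rw [hc_eq]; exact hahS (x * y) (H.mul_mem hxH hyH) s hs
  have key : ∀ g ∈ Subgroup.closure ({a, b, c} : Set K),
      (∀ s ∈ S, g * s ∈ S) ∧ (∀ s ∈ S, g⁻¹ * s ∈ S) := by
    intro g hg
    induction hg using Subgroup.closure_induction with
    | mem g hg =>
      rcases hg with rfl | rfl | rfl
      · exact ⟨haS, by rw [hai]; exact haS⟩
      · exact ⟨hbS, by rw [hbi]; exact hbS⟩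
      · exact ⟨hcS, by rw [hci]; exact hcS⟩
    | one => simp
    | mul g h _ _ ihg ihh =>
      refine ⟨fun s hs => ?_, fun s hs => ?_⟩
      · rw [mul_assoc]; exact ihg.1 _ (ihh.1 _ hs)
      · rw [mul_inv_rev, mul_assoc]; exact ihh.2 _ (ihg.2 _ hs)
    | inv g _ ihg => exact ⟨ihg.2, by simpa using ihg.1⟩
  refine ⟨s0 ∪ s0.image (fun h => a * h), ?_, ?_⟩
  · refine le_trans (Finset.card_union_le _ _) ?_
    have := Finset.card_image_le (s := s0) (f := fun h => a * h)
    omega
  · intro g hg
    have h1 : (1 : K) ∈ S := Or.inl H.one_mem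
    have hgS : g ∈ S := by simpa using (key g hg).1 1 h1
    rcases hgS with hgH | hgH
    · exact Finset.mem_union_left _ (hs0 g hgH)
    · refine Finset.mem_union_right _ ?_
      rw [Finset.mem_image]
      refine ⟨a * g, hs0 _ hgH, ?_⟩
      rw [← mul_assoc, haa, one_mul]

end Cfsg.Agent.Lib.Helper25.TT
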