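import Mathlib
import Cfsg.Prelude.Def_ChevStructure
import Cfsg.Agent.Lib.helper14.TWI.Defs
import Cfsg.Agent.Lib.helper14.INV.Gen
import Cfsg.Agent.Lib.helper8.ChevIE7b
import Cfsg.Agent.Lib.Helper22.TWIMULR
import Cfsg.Agent.Lib.Helper1.TWIORB3

/-!
# Project TWI (S2183, S2182): piece M1O, core. The cell jump `w ↦ w s_x`, `x` a nonempty sublist of
the orbit `O`, with the conclusions of the pieces ORB2 and PARC as hypotheses.
-/

set_option autoImplicit false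
set_option linter.unusedVariables false

namespace Cfsg.Agent.Lib.helper14.TWI

open Cfsg.Lie Cfsg.Lie.ChevalleyDatum Cfsg.Agent.Lib.helper8 Cfsg.Agent.Lib.helper14
  Cfsg.Agent.Lib.helper14.INV

universe u

variable {F : Type u} [Field F]

/-- a sublist of an orbit is an orbit -/
theorem twim1o_sublist_orb (D : ChevalleyDatum) (O x : List ℕ) (hO : IsOrb D O)
    (hx : x.Sublist O) : IsOrb D x :=
  ⟨hO.1.sublist hx, fun j hj => hO.2.1 j (hx.subset hj),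
    fun j hj k hk hjk => hO.2.2 j (hx.subset hj) k (hx.subset hk) hjk⟩

/-- the group-theoretic identity behind M1O -/
theorem twim1o_alg {G : Type*} [Group G] (nO h0 nw u b1 nx b2 c1 c2 : G)
    (e : nO * u * nO⁻¹ = b1 * nx * b2)
    (e2 : (nO * (h0 * nw) * nO⁻¹) * b1 * nx = c1 * ((nO * (h0 * nw) * nO⁻¹) * nx) * c2) :
    nO * (h0 * nw * u) * nO⁻¹ =
      (c1 * ((nO * (h0 * nw) * nO⁻¹) * nw⁻¹)) * (nw * nx) * (c2 * b2) := by
  calc nO * (h0 * nw * u) * nO⁻¹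
      = (nO * (h0 * nw) * nO⁻¹) * (nO * u * nO⁻¹) := by group
    _ = (nO * (h0 * nw) * nO⁻¹) * (b1 * nx * b2) := by rw [e]
    _ = ((nO * (h0 * nw) * nO⁻¹) * b1 * nx) * b2 := by group
    _ = (c1 * ((nO * (h0 * nw) * nO⁻¹) * nx) * c2) * b2 := by rw [e2]
    _ = _ := by group

/-- M1O, core : the cell jump `w ↦ w s_x`, `x` a nonempty sublist of the orbit `O`; `hORB2` is the
conclusion of `orb_comm_w`, `hPARC` the conclusion of `par_cell` for `b = u` -/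
theorem twim1o_core (D : ChevalleyDatum) (hB : H8Base.{u} D) (hB0 : H8Base.{0} D)
    (hA : H8ReflAll D) (hC : H8CommAll.{u} D) (hBN : H8BN D) (hW : H8BN2 D) (hO2 : H8Ord2 D)
    (w : List ℕ) (hw : ValidW D w) (O : List ℕ) (hO : IsOrb D O) (h0 u : GL D.Idx F)
    (hh : h0 ∈ D.diagonalSubgroup F) (hu : u ∈ D.posUnipotent F) (hp : PermO D w O)
    (hnb : (h8nWU D hB O : GL D.Idx F) * u * (h8nWU D hB O : GL D.Idx F)⁻¹ ∉ D.borelSubgroup F)
    (hORB2 : ∀ r < D.nroots, h8sW D (O ++ w ++ O.reverse) r = h8sW D w r)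
    (hPARC : ∃ x : List ℕ, x.Sublist O ∧
      InCell D hB ((h8nWU D hB O : GL D.Idx F) * u * (h8nWU D hB O : GL D.Idx F)⁻¹) x) :
    ∃ x : List ℕ, x.Sublist O ∧ x ≠ [] ∧
      InCell D hB ((h8nWU D hB O : GL D.Idx F) * (h0 * (h8nWU D hB w : GL D.Idx F) * u) *
        (h8nWU D hB O : GL D.Idx F)⁻¹) (w ++ x) ∧
      len D hA (w ++ x) = len D hA w + x.length := by
  have hOv : ValidW D O := hO.2.1
  obtain ⟨dep, par, horb⟩ := hBN.orb
  have hnormH := h8N_le_normalizer_H (F := F) D hB hA dep par horb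
  have hnwN : (h8nWU D hB w : GL D.Idx F) ∈ D.monomialSubgroup F := h8nWU_mem_N D hB hA w hw
  -- `n'' = n_O (h0 n_w) n_O⁻¹` lies in `N` and acts as `w`
  obtain ⟨hnN, hnact⟩ := conjN_act D hB hA O w hOv hw h0 hh
  have hact : ∀ r < D.nroots, H8Act D hB ((h8nWU D hB O : GL D.Idx F) *
      (h0 * h8nWU D hB w) * (h8nWU D hB O : GL D.Idx F)⁻¹) r (h8sW D w r) := by
    intro r hr
    have h1 := hnact r hr
    rwa [hORB2 r hr] at h1
  -- the cell of `g = n_O u n_O⁻¹`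
  obtain ⟨x, hxs, hxc⟩ := hPARC
  have hxO : IsOrb D x := twim1o_sublist_orb D O x hO hxs
  have hxne : x ≠ [] := by
    rintro rfl
    apply hnb
    obtain ⟨b1, hb1, b2, hb2, e⟩ := hxc
    rw [e]
    have h1 : (h8nWU D hB [] : GL D.Idx F) = 1 := by
      unfold h8nWU
      rw [List.map_nil, List.prod_nil]
    rw [h1, mul_one]
    exact Subgroup.mul_mem _ hb1 hb2
  have hpos : ∀ j ∈ x, D.IsPosRoot (h8sW D w (D.simple j)) := by
    intro j hj
    obtain ⟨k, hk, e⟩ := hp j (hxs.subset hj)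
    rw [e]
    exact h8simple_pos D hBN k (hOv k hk)
  refine ⟨x, hxs, hxne, ?_, len_append_orb D hB0 hA hBN hW hO2 x hxO w hw hpos⟩
  obtain ⟨b1, hb1, b2, hb2, e⟩ := hxc
  obtain ⟨c1, hc1, c2, hc2, e2⟩ := cell_mul_right_orb D hB hA hC hBN x hxO _ hnN (h8sW D w) hact
    hpos b1 hb1
  -- `n'' = h'' n_w` with `h'' ∈ H`
  have hH : (h8nWU D hB w : GL D.Idx F)⁻¹ * ((h8nWU D hB O : GL D.Idx F) *
      (h0 * h8nWU D hB w) * (h8nWU D hB O : GL D.Idx F)⁻¹) ∈ D.diagonalSubgroup F :=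
    N_same_perm D hB hA hBN hW hO2 _ _ hnwN hnN (h8sW D w)
      (fun r hr => h8nWU_act (F := F) D hB hA w hw r hr) hact
  have hH' : ((h8nWU D hB O : GL D.Idx F) * (h0 * h8nWU D hB w) *
      (h8nWU D hB O : GL D.Idx F)⁻¹) * (h8nWU D hB w : GL D.Idx F)⁻¹ ∈ D.diagonalSubgroup F := by
    have h1 := ((Subgroup.mem_normalizer_iff.1 (hnormH hnwN)) _).1 hH
    have e3 : (h8nWU D hB w : GL D.Idx F) * ((h8nWU D hB w : GL D.Idx F)⁻¹ *
        ((h8nWU D hB O : GL D.Idx F) * (h0 * h8nWU D hB w) * (h8nWU D hB O : GL D.Idx F)⁻¹)) *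
        (h8nWU D hB w : GL D.Idx F)⁻¹ = ((h8nWU D hB O : GL D.Idx F) * (h0 * h8nWU D hB w) *
      (h8nWU D hB O : GL D.Idx F)⁻¹) * (h8nWU D hB w : GL D.Idx F)⁻¹ := by group
    rwa [e3] at h1
  refine ⟨_, Subgroup.mul_mem _ hc1 (h8H_le_B D hH'), _, Subgroup.mul_mem _ hc2 hb2, ?_⟩
  rw [h8nWU_append]
  exact twim1o_alg _ h0 _ u b1 _ b2 c1 c2 e e2

end Cfsg.Agent.Lib.helper14.TWI
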