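import Mathlib
import Cfsg.Prelude.Def_ChevStructure
import Cfsg.Agent.Lib.helper14.TWI.Defs
import Cfsg.Agent.Lib.helper14.INV.Gen
import Cfsg.Agent.Lib.helper8.ChevIE7b
import Cfsg.Agent.Lib.Helper25.TWIM1Ocore
import Cfsg.Agent.Lib.Helper22.TWIORB2b
import Cfsg.Agent.Lib.Helper10.TWIPARC

/-!
# Project TWI (S2183, S2182): piece M1O. The cell jump `w ↦ w s_x`, `x` a nonempty sublist of the
orbit `O`.
-/

set_option autoImplicit false
set_option linter.unusedVariables false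

namespace Cfsg.Agent.Lib.helper14.TWI

open Cfsg.Lie Cfsg.Lie.ChevalleyDatum Cfsg.Agent.Lib.helper8 Cfsg.Agent.Lib.helper14
  Cfsg.Agent.Lib.helper14.INV

universe u

variable {F : Type u} [Field F]

/-- M1O : the cell jump `w ↦ w s_x`, `x` a nonempty sublist of the orbit `O` -/
theorem cell_conj_n_orb (D : ChevalleyDatum) (hB : H8Base.{u} D) (hB0 : H8Base.{0} D)
    (hA : H8ReflAll D) (hC : H8CommAll.{u} D) (hBN : H8BN D) (hW : H8BN2 D) (hO2 : H8Ord2 D)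
    (w : List ℕ) (hw : ValidW D w) (O : List ℕ) (hO : IsOrb D O) (h0 u : GL D.Idx F)
    (hh : h0 ∈ D.diagonalSubgroup F) (hu : u ∈ D.posUnipotent F) (hp : PermO D w O)
    (hnb : (h8nWU D hB O : GL D.Idx F) * u * (h8nWU D hB O : GL D.Idx F)⁻¹ ∉ D.borelSubgroup F) :
    ∃ x : List ℕ, x.Sublist O ∧ x ≠ [] ∧
      InCell D hB ((h8nWU D hB O : GL D.Idx F) * (h0 * (h8nWU D hB w : GL D.Idx F) * u) *
        (h8nWU D hB O : GL D.Idx F)⁻¹) (w ++ x) ∧
      len D hA (w ++ x) = len D hA w + x.length :=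
  twim1o_core D hB hB0 hA hC hBN hW hO2 w hw O hO h0 u hh hu hp hnb
    (twiorb2b_comm_w D hB0 hA hBN hW hO2 O hO w hw hp)
    (par_cell D hB hB0 hA hC hBN hW hO2 O hO u (h8U_le_B D hu))

end Cfsg.Agent.Lib.helper14.TWI
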