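import Mathlib

set_option autoImplicit false

namespace Cfsg.Agent.Lib.Helper25.U34

open Subgroup

/-- the difference map `f ↦ (i, j) ↦ f i - f j`. -/
def delta (n r : ℕ) : (Fin n → ZMod r) →+ (Fin n → Fin n → ZMod r) where
  toFun f := fun i j => f i - f j
  map_zero' := by funext i j; simp
  map_add' f g := by funext i j; simp; abel

/-- the module of differences of the code `D`. -/
abbrev diffMod {n r : ℕ} (D : AddSubgroup (Fin n → ZMod r)) : AddSubgroup (Fin n → Fin n → ZMod r) :=
  D.map (delta n r)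

theorem exists_module {n : ℕ} (L : Subgroup (Equiv.Perm (Fin n))) (r : ℕ) [Fact r.Prime]
    (D : AddSubgroup (Fin n → ZMod r))
    (hinv : ∀ g ∈ L, ∀ f ∈ D, (fun i => f (g i)) ∈ D)
    (hnc : ∃ f ∈ D, ∃ i j, f i ≠ f j) :
    ∃ (V : Type) (_ : AddCommGroup V) (_ : Finite V) (_ : Nontrivial V)
      (_ : DistribMulAction ↥L V),
      (∀ v : V, r • v = 0) ∧
      ∀ y : ↥L, (orderOf y).Coprime r → (∃ v : V, v ≠ 0 ∧ y • v = v) →
        ∃ f ∈ D, (∃ i j, f i ≠ f j) ∧ ∀ i, f ((y : Equiv.Perm (Fin n)) i) = f i := by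
  have hr : r.Prime := Fact.out
  have : NeZero r := ⟨hr.ne_zero⟩
  -- stability of the difference module
  have hstab : ∀ y : ↥L, ∀ h ∈ diffMod D,
      (fun i j => h ((y : Equiv.Perm (Fin n))⁻¹ i) ((y : Equiv.Perm (Fin n))⁻¹ j)) ∈ diffMod D := by
    intro y h hh
    obtain ⟨f, hfD, rfl⟩ := hh
    refine ⟨fun i => f ((y : Equiv.Perm (Fin n))⁻¹ i), ?_, ?_⟩
    · have := hinv ((y⁻¹ : ↥L) : Equiv.Perm (Fin n)) (y⁻¹).2 f hfD
      simpa using this
    · rfl
  let act : DistribMulAction ↥L ↥(diffMod D) :=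
    { smul := fun y v => ⟨fun i j => v.1 ((y : Equiv.Perm (Fin n))⁻¹ i) ((y : Equiv.Perm (Fin n))⁻¹ j),
        hstab y v.1 v.2⟩
      one_smul := by
        intro v; apply Subtype.ext; funext i j
        show v.1 (((1 : ↥L) : Equiv.Perm (Fin n))⁻¹ i) (((1 : ↥L) : Equiv.Perm (Fin n))⁻¹ j) = v.1 i j
        simp
      mul_smul := by
        intro y z v; apply Subtype.ext; funext i j
        show v.1 (((y * z : ↥L) : Equiv.Perm (Fin n))⁻¹ i) (((y * z : ↥L) : Equiv.Perm (Fin n))⁻¹ j)
          = v.1 ((z : Equiv.Perm (Fin n))⁻¹ ((y : Equiv.Perm (Fin n))⁻¹ i))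
              ((z : Equiv.Perm (Fin n))⁻¹ ((y : Equiv.Perm (Fin n))⁻¹ j))
        simp [mul_inv_rev, Equiv.Perm.mul_apply]
      smul_zero := by
        intro y; apply Subtype.ext; funext i j; rfl
      smul_add := by
        intro y v w; apply Subtype.ext; funext i j; rfl }
  refine ⟨↥(diffMod D), inferInstance, inferInstance, ?_, act, ?_, ?_⟩
  · -- nontrivial
    obtain ⟨f, hfD, i, j, hij⟩ := hnc
    refine ⟨⟨⟨delta n r f, ⟨f, hfD, rfl⟩⟩, 0, ?_⟩⟩
    intro h
    have h1 := congrArg (fun v : ↥(diffMod D) => v.1 i j) h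
    simp only [delta, AddMonoidHom.coe_mk, ZeroHom.coe_mk, ZeroMemClass.coe_zero, Pi.zero_apply] at h1
    exact hij (sub_eq_zero.mp h1)
  · intro v
    apply Subtype.ext
    funext i j
    show (r • v.1) i j = 0
    simp [nsmul_eq_mul]
  · intro y hy hfix
    obtain ⟨v, hv0, hvfix⟩ := hfix
    obtain ⟨h, f, hfD, hfh⟩ := v
    -- h = delta f
    have hne : ∃ i j, f i ≠ f j := by
      by_contra hcon
      push Not at hcon
      apply hv0
      apply Subtype.ext
      funext i j
      show h i j = 0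
      rw [← hfh]
      simp [delta, hcon i j]
    obtain ⟨i0, j0, hij0⟩ := hne
    set σ : Equiv.Perm (Fin n) := (y : Equiv.Perm (Fin n))⁻¹ with hσ
    have hfixe : ∀ i j, f (σ i) - f (σ j) = f i - f j := by
      intro i j
      have := congrArg (fun v : ↥(diffMod D) => v.1 i j) hvfix
      have e1 : (y • (⟨h, f, hfD, hfh⟩ : ↥(diffMod D))).1 i j = h (σ i) (σ j) := rfl
      simp only [e1] at this
      rw [← hfh] at this
      exact this
    set c : ZMod r := f (σ i0) - f i0 with hc
    have hstep : ∀ i, f (σ i) = f i + c := by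
      intro i
      have := hfixe i i0
      rw [hc]
      linear_combination this
    have hiter : ∀ m : ℕ, ∀ i, f ((σ ^ m) i) = f i + m • c := by
      intro m
      induction m with
      | zero => intro i; simp
      | succ m ih =>
        intro i
        rw [pow_succ', Equiv.Perm.mul_apply, hstep, ih, succ_nsmul]
        abel
    have hσord : σ ^ orderOf y = 1 := by
      rw [hσ, inv_pow, ← Subgroup.coe_pow, pow_orderOf_eq_one]; simp
    have hmc : (orderOf y) • c = 0 := by
      have := hiter (orderOf y) i0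
      rw [hσord] at this
      simpa using this.symm
    have hc0 : c = 0 := by
      rw [nsmul_eq_mul] at hmc
      have hu : IsUnit ((orderOf y : ℕ) : ZMod r) := (ZMod.isUnit_iff_coprime _ _).mpr hy
      exact (hu.mul_right_eq_zero).mp hmc
    refine ⟨f, hfD, ⟨i0, j0, hij0⟩, ?_⟩
    intro i
    have := hstep ((y : Equiv.Perm (Fin n)) i)
    rw [hc0, add_zero, hσ] at this
    simpa using this.symm

end Cfsg.Agent.Lib.Helper25.U34
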