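import Mathlib

set_option autoImplicit false

namespace Cfsg.Agent.Lib.Helper25.U34

open Subgroup

/-- a subgroup of prime order `q` of a finite group whose order is not divisible by `q^2`
is (the underlying subgroup of) a Sylow `q`-subgroup. -/
theorem exists_sylow_eq_zpowers {G : Type*} [Group G] [Finite G] (q : ℕ) [Fact q.Prime]
    (hq : ¬ q ^ 2 ∣ Nat.card G) (y : G) (hy : orderOf y = q) :
    ∃ S : Sylow q G, (S : Subgroup G) = zpowers y := by
  have hqp : q.Prime := Fact.out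
  have hp : IsPGroup q (zpowers y) := by
    apply IsPGroup.of_card (n := 1)
    rw [Nat.card_zpowers, hy, pow_one]
  obtain ⟨S, hS⟩ := hp.exists_le_sylow
  refine ⟨S, ?_⟩
  have hcard : Nat.card S = q ^ (Nat.card G).factorization q := S.card_eq_multiplicity
  have hdvd : q ∣ Nat.card G := hy ▸ orderOf_dvd_natCard y
  have hpos : Nat.card G ≠ 0 := Nat.card_pos.ne'
  have hfac : (Nat.card G).factorization q = 1 := by
    have h1 : 1 ≤ (Nat.card G).factorization q :=
      (hqp.dvd_iff_one_le_factorization hpos).mp hdvd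
    have h2 : ¬ 2 ≤ (Nat.card G).factorization q := by
      intro h
      exact hq ((hqp.pow_dvd_iff_le_factorization hpos).mpr h)
    omega
  rw [hfac, pow_one] at hcard
  have hzc : Nat.card (zpowers y) = q := by rw [Nat.card_zpowers, hy]
  symm
  apply Subgroup.eq_of_le_of_card_ge hS
  rw [hzc]; exact hcard.le

theorem invariant_word_transfer {n : ℕ} (L : Subgroup (Equiv.Perm (Fin n))) [Finite ↥L] (r q : ℕ)
    [Fact q.Prime] (D : AddSubgroup (Fin n → ZMod r))
    (hinv : ∀ g ∈ L, ∀ f ∈ D, (fun i => f (g i)) ∈ D)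
    (hq : ¬ q ^ 2 ∣ Nat.card ↥L) (g y : ↥L) (hg : orderOf g = q) (hy : orderOf y = q)
    (h : ∃ f ∈ D, (∃ i j, f i ≠ f j) ∧ ∀ i, f ((y : Equiv.Perm (Fin n)) i) = f i) :
    ∃ f ∈ D, (∃ i j, f i ≠ f j) ∧ ∀ i, f ((g : Equiv.Perm (Fin n)) i) = f i := by
  obtain ⟨f, hfD, ⟨i0, j0, hij⟩, hfy⟩ := h
  obtain ⟨Sy, hSy⟩ := exists_sylow_eq_zpowers q hq y hy
  obtain ⟨Sg, hSg⟩ := exists_sylow_eq_zpowers q hq g hg
  obtain ⟨x, hx⟩ := MulAction.exists_smul_eq (↥L) Sy Sg
  -- g ∈ x • Sy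
  have hgmem : g ∈ ((x • Sy : Sylow q ↥L) : Subgroup ↥L) := by
    rw [hx, hSg]; exact mem_zpowers g
  rw [Sylow.coe_subgroup_smul, Subgroup.mem_pointwise_smul_iff_inv_smul_mem, hSy] at hgmem
  -- x⁻¹ g x ∈ zpowers y
  have hconj : x⁻¹ * g * x ∈ zpowers y := by
    simpa [MulAut.smul_def, MulAut.conj_apply] using hgmem
  -- the stabiliser of f
  let Stab : Subgroup ↥L :=
    { carrier := {σ | ∀ i, f ((σ : Equiv.Perm (Fin n)) i) = f i}
      one_mem' := by intro i; simp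
      mul_mem' := by
        intro σ τ hσ hτ i
        simp only [Set.mem_ofPred_eq] at hσ hτ ⊢
        rw [Subgroup.coe_mul, Equiv.Perm.mul_apply, hσ, hτ]
      inv_mem' := by
        intro σ hσ i
        simp only [Set.mem_ofPred_eq] at hσ ⊢
        have := hσ (((σ : Equiv.Perm (Fin n))⁻¹) i)
        rw [Subgroup.coe_inv]
        rw [← this]; simp }
  have hyS : y ∈ Stab := hfy
  have hle : zpowers y ≤ Stab := (Subgroup.zpowers_le).mpr hyS
  have hcS : x⁻¹ * g * x ∈ Stab := hle hconj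
  refine ⟨fun i => f (((x⁻¹ : ↥L) : Equiv.Perm (Fin n)) i), hinv _ (x⁻¹).2 f hfD, ?_, ?_⟩
  · refine ⟨(x : Equiv.Perm (Fin n)) i0, (x : Equiv.Perm (Fin n)) j0, ?_⟩
    simpa using hij
  · intro i
    have := hcS (((x⁻¹ : ↥L) : Equiv.Perm (Fin n)) i)
    simp only [Subgroup.coe_mul, Equiv.Perm.mul_apply] at this
    simpa using this

end Cfsg.Agent.Lib.Helper25.U34
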