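import Cfsg.Agent.Lib.Helper25.UDISOSUMcore
import Cfsg.Agent.Lib.Helper21.UDHYP
import Cfsg.Agent.Lib.helper4.UDPERPA
-- project UD (S5655), piece ISOSUM (verbatim wrapper)

set_option autoImplicit false
set_option linter.unusedVariables false
set_option linter.unusedSectionVars false

namespace Cfsg.Agent.Lib.helper15.UD

open Matrix Cfsg.Agent.Lib.Helper28 Cfsg.Agent.Lib.Helper29.ExtrL

variable {n q : ℕ} {F : Type*} [Field F] [Fintype F] {σ : F ≃+* F}

section blockB
variable {f : (Fin n → F) → (Fin n → F) → F}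

theorem iso_sum (hf : Cfsg.Geo.IsUnitaryForm σ f) (W : Submodule F (Fin n → F))
    (hW : Cfsg.Geo.IsNondegenerateOn f W) (hk : 2 ≤ Module.finrank F W) (x : Fin n → F)
    (hx : x ∈ W) : ∃ u v w, u ∈ W ∧ v ∈ W ∧ w ∈ W ∧ f u u = 0 ∧ f v v = 0 ∧ f w w = 0 ∧
      x = u + v + w :=
  isosum_core hf W hk (fun c hcW hcc => perp_noniso hf W hW hk c hcW hcc)
    (fun c hcW hc0 hcc => hyp_partner hf W hW c hcW hc0 hcc) x hx

end blockB

end Cfsg.Agent.Lib.helper15.UD
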