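import Cfsg.Agent.Lib.helper15.UD.Defs
-- project UD (S5655), piece ISOSUM (core, with HYP and PERPA as hypotheses): every vector of a non-degenerate subspace of dimension >= 2 is a sum of three
-- isotropic vectors of the subspace.

set_option autoImplicit false
set_option linter.unusedVariables false
set_option linter.unusedSectionVars false

namespace Cfsg.Agent.Lib.helper15.UD

open Matrix Cfsg.Agent.Lib.Helper28 Cfsg.Agent.Lib.Helper29.ExtrL

variable {n q : ℕ} {F : Type*} [Field F] [Fintype F] {σ : F ≃+* F}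

section blockB
variable {f : (Fin n → F) → (Fin n → F) → F}

/-- a non-zero isotropic vector in a non-degenerate subspace of dimension `≥ 2`. -/
theorem isosum_exists_iso (hf : Cfsg.Geo.IsUnitaryForm σ f) (W : Submodule F (Fin n → F))
    (hk : 2 ≤ Module.finrank F W)
    (hPERPA : ∀ c ∈ W, f c c ≠ 0 → ∃ d ∈ W, f d c = 0 ∧ f d d ≠ 0) :
    ∃ u₀ ∈ W, u₀ ≠ 0 ∧ f u₀ u₀ = 0 := by
  have hne : W ≠ ⊥ := by
    intro h
    rw [h, finrank_bot] at hk
    omega
  obtain ⟨c, hcW, hc0⟩ := Submodule.exists_mem_ne_zero_of_ne_bot hne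
  by_cases hcc : f c c = 0
  · exact ⟨c, hcW, hc0, hcc⟩
  · obtain ⟨d, hdW, hdc, hdd⟩ := hPERPA c hcW hcc
    have hcd : f c d = 0 := UForm.f_swap_zero hf hdc
    have hfix : σ (-(f c c) / f d d) = -(f c c) / f d d := by
      rw [map_div₀, map_neg, UForm.f_self_fixed hf, UForm.f_self_fixed hf]
    obtain ⟨y, hy⟩ := UForm.norm_surj hf _ hfix
    refine ⟨c + y • d, W.add_mem hcW (W.smul_mem _ hdW), ?_, ?_⟩
    · intro h0
      have h1 : f (c + y • d) c = f c c := by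
        rw [hf.add_left, hf.smul_left, hdc, mul_zero, add_zero]
      rw [h0, UForm.f_zero_left hf] at h1
      exact hcc h1.symm
    · rw [hf.add_left, hf.smul_left, UForm.f_add_right hf, UForm.f_add_right hf,
        UForm.f_smul_right hf, UForm.f_smul_right hf, hdc, hcd]
      have : y * σ y * f d d = -(f c c) := by
        rw [hy]; field_simp
      linear_combination this

theorem isosum_core (hf : Cfsg.Geo.IsUnitaryForm σ f) (W : Submodule F (Fin n → F))
    (hk : 2 ≤ Module.finrank F W)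
    (hPERPA : ∀ c ∈ W, f c c ≠ 0 → ∃ d ∈ W, f d c = 0 ∧ f d d ≠ 0)
    (hHYP : ∀ c ∈ W, c ≠ 0 → f c c = 0 → ∃ d ∈ W, f d d = 0 ∧ f c d = 1) (x : Fin n → F)
    (hx : x ∈ W) : ∃ u v w, u ∈ W ∧ v ∈ W ∧ w ∈ W ∧ f u u = 0 ∧ f v v = 0 ∧ f w w = 0 ∧
      x = u + v + w := by
  obtain ⟨u₀, hu₀W, hu₀0, hu₀⟩ := isosum_exists_iso hf W hk hPERPA
  obtain ⟨v₀, hv₀W, hv₀, huv⟩ := hHYP u₀ hu₀W hu₀0 hu₀
  have hvu : f v₀ u₀ = 1 := by rw [hf.herm, huv, map_one]
  set a := f x v₀ with ha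
  set b := f x u₀ with hb
  set x' := x - a • u₀ - b • v₀ with hx'
  have hx'W : x' ∈ W :=
    W.sub_mem (W.sub_mem hx (W.smul_mem _ hu₀W)) (W.smul_mem _ hv₀W)
  have h1 : f x' u₀ = 0 := by
    rw [hx', UForm.f_sub_left hf, UForm.f_sub_left hf, hf.smul_left, hf.smul_left, hu₀, hvu]
    ring
  have h2 : f x' v₀ = 0 := by
    rw [hx', UForm.f_sub_left hf, UForm.f_sub_left hf, hf.smul_left, hf.smul_left, huv, hv₀]
    ring
  have h1' : f u₀ x' = 0 := UForm.f_swap_zero hf h1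
  have h2' : f v₀ x' = 0 := UForm.f_swap_zero hf h2
  have hfix : σ (-(f x' x')) = -(f x' x') := by rw [map_neg, UForm.f_self_fixed hf]
  obtain ⟨α, hα⟩ := UForm.trace_surj hf _ hfix
  refine ⟨x' + α • u₀ + v₀, (a - α) • u₀, (b - 1) • v₀,
    W.add_mem (W.add_mem hx'W (W.smul_mem _ hu₀W)) hv₀W, W.smul_mem _ hu₀W, W.smul_mem _ hv₀W,
    ?_, ?_, ?_, ?_⟩
  · simp only [hf.add_left, hf.smul_left, UForm.f_add_right hf, UForm.f_smul_right hf, h1, h2, h1',
      h2', hu₀, hv₀, huv, hvu]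
    linear_combination hα
  · rw [hf.smul_left, UForm.f_smul_right hf, hu₀]; ring
  · rw [hf.smul_left, UForm.f_smul_right hf, hv₀]; ring
  · rw [hx']
    module

end blockB

end Cfsg.Agent.Lib.helper15.UD
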