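import Cfsg.Agent.Lib.helper15.UD.Defs
-- project UD (S5655), piece QREFL (core, with the DIL statement as a hypothesis): quasi-reflections.

set_option autoImplicit false
set_option linter.unusedVariables false
set_option linter.unusedSectionVars false

namespace Cfsg.Agent.Lib.helper15.UD

open Matrix Cfsg.Agent.Lib.Helper28 Cfsg.Agent.Lib.Helper29.ExtrL

variable {n q : ℕ} {F : Type*} [Field F] [Fintype F] {σ : F ≃+* F}

section blockB
variable {f : (Fin n → F) → (Fin n → F) → F}

theorem qrefl_core (hf : Cfsg.Geo.IsUnitaryForm σ f)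
    (hDIL : ∀ w u : Fin n → F, 1 + f w u ≠ 0 →
      ∃ g : Matrix.GeneralLinearGroup (Fin n) F, (g : Matrix (Fin n) (Fin n) F).det = 1 + f w u ∧
        ∀ x, (g : Matrix (Fin n) (Fin n) F) *ᵥ x = x + f x u • w)
    (r : Fin n → F) (hr : f r r ≠ 0) (ε : F) (hε : ε * σ ε = 1) :
    ∃ g : Matrix.GeneralLinearGroup (Fin n) F, (g : Matrix (Fin n) (Fin n) F).det = ε ∧
      (∀ x, (g : Matrix (Fin n) (Fin n) F) *ᵥ x = x + ((ε - 1) * f x r / f r r) • r) ∧
      (∀ x y, f ((g : Matrix (Fin n) (Fin n) F) *ᵥ x) ((g : Matrix (Fin n) (Fin n) F) *ᵥ y) = f x y) := by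
  have hε0 : ε ≠ 0 := by
    intro h
    rw [h, zero_mul] at hε
    exact zero_ne_one hε
  have hrr : σ (f r r) = f r r := UForm.f_self_fixed hf r
  set u : Fin n → F := σ ((ε - 1) / f r r) • r with hu
  have hfu : ∀ x, f x u = (ε - 1) * f x r / f r r := by
    intro x
    rw [hu, UForm.f_smul_right hf, hf.involutive]
    ring
  have hdet : 1 + f r u = ε := by
    rw [hfu]
    field_simp
    ring
  obtain ⟨g, hgdet, hg⟩ := hDIL r u (by rw [hdet]; exact hε0)
  have hgx : ∀ x, (g : Matrix (Fin n) (Fin n) F) *ᵥ x = x + ((ε - 1) * f x r / f r r) • r := by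
    intro x
    rw [hg, hfu]
  refine ⟨g, by rw [hgdet, hdet], hgx, ?_⟩
  intro x y
  rw [hgx, hgx, hf.add_left, hf.smul_left, UForm.f_add_right hf, UForm.f_add_right hf,
    UForm.f_smul_right hf, UForm.f_smul_right hf]
  have h1 : σ ((ε - 1) * f y r / f r r) = (σ ε - 1) * f r y / f r r := by
    rw [map_div₀, map_mul, map_sub, map_one, hrr, ← hf.herm r y]
  rw [h1]
  field_simp
  linear_combination (f r y * f x r) * hε

end blockB

end Cfsg.Agent.Lib.helper15.UD
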