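import Cfsg.Agent.Lib.Helper25.UTE1core
import Cfsg.Agent.Lib.Helper20.UTTV
import Cfsg.Agent.Lib.helper8.UTCARD
-- project UT (S5655, k = 1), piece E1 (verbatim): e1_even, from ute1_core with the rows TV and CARD.

set_option autoImplicit false
set_option linter.unusedSectionVars false
set_option linter.unusedVariables false

open Cfsg

namespace Cfsg.Agent.Lib.Helper9.UT

open Matrix Cfsg.Agent.Lib.Helper29.ExtrL Cfsg.Agent.Lib.Helper28.UMax Cfsg.Agent.Lib.Helper28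

variable {n q : ℕ} {F : Type*} [Field F] [Fintype F] {σ : F ≃+* F}
  {M : Subgroup (Matrix.GeneralLinearGroup (Fin n) F)}

theorem e1_even (S : UTS n q σ M) (hq : 3 ≤ q) (hn : 4 ≤ n) (h2 : (2 : F) = 0) (hC0 : ¬ C0 M) :
    ∃ t ∈ M, ∃ (w : Fin n → F) (k : Fin n), IsTv n q t w 1 ∧ Cfsg.hermForm n F q w w = 0 ∧
      w k = 0 ∧ ∃ i1 i2 i3 : Fin n, i1 ≠ i2 ∧ i1 ≠ i3 ∧ i2 ≠ i3 ∧ w i1 ≠ 0 ∧ w i2 ≠ 0 ∧ w i3 ≠ 0 :=
  ute1_core S hq hn h2 hC0 (fun w hw c hc => tv_exists S.toUF w hw c hc)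
    (fun hg _ _ ht => tv_conj S.toUF hg ht) (card_norm_one S.toUF)

end Cfsg.Agent.Lib.Helper9.UT
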