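import Cfsg.Agent.Lib.Helper9.UT.Defs
import Cfsg.Agent.Lib.Helper27.ExtrLFb0
import Cfsg.Agent.Lib.helper7.TP.MeetB
-- project UT (S5655, k = 1), piece E1A: pure linear algebra, a plane with four points of weight <= 2 lies in a
-- coordinate plane.

set_option autoImplicit false
set_option linter.unusedSectionVars false

open Cfsg

namespace Cfsg.Agent.Lib.Helper9.UT

open Matrix Cfsg.Agent.Lib.Helper29.ExtrL Cfsg.Agent.Lib.Helper28.UMax

variable {n q : ℕ} {F : Type*} [Field F] [Fintype F] {σ : F ≃+* F}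
  {M : Subgroup (Matrix.GeneralLinearGroup (Fin n) F)}

omit [Fintype F] in
/-- a coordinate on which the plane `⟨c1, c2⟩` is not zero vanishes on at most one point `c1 + u c2`. -/
theorem ute1a_unique (c1 c2 : Fin n → F) (m : Fin n) (hm : ¬ (c1 m = 0 ∧ c2 m = 0)) (u u' : F)
    (hu : (c1 + u • c2) m = 0) (hu' : (c1 + u' • c2) m = 0) : u = u' := by
  by_contra hne
  apply hm
  simp only [Pi.add_apply, Pi.smul_apply, smul_eq_mul] at hu hu'
  have h2 : (u - u') * c2 m = 0 := by linear_combination hu - hu'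
  have h3 : c2 m = 0 := by
    rcases mul_eq_zero.mp h2 with h | h
    · exact absurd (sub_eq_zero.mp h) hne
    · exact h
  refine ⟨?_, h3⟩
  rw [h3, mul_zero, add_zero] at hu
  exact hu

theorem coord_plane (c1 c2 : Fin n → F) (u1 u2 u3 u4 : F) (h12 : u1 ≠ u2) (h13 : u1 ≠ u3)
    (h14 : u1 ≠ u4) (h23 : u2 ≠ u3) (h24 : u2 ≠ u4) (h34 : u3 ≠ u4)
    (hw : ∀ u : F, u = u1 ∨ u = u2 ∨ u = u3 ∨ u = u4 →
      ∃ p r : Fin n, ∀ m, m ≠ p → m ≠ r → (c1 + u • c2) m = 0) :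
    ∃ p r : Fin n, ∀ m, m ≠ p → m ≠ r → c1 m = 0 ∧ c2 m = 0 := by
  by_contra hcon
  push Not at hcon
  -- three distinct coordinates on which the plane is non-zero
  obtain ⟨p0, -, -⟩ := hw u1 (Or.inl rfl)
  obtain ⟨m1, -, -, hZ1⟩ := hcon p0 p0
  obtain ⟨m2, h21, -, hZ2⟩ := hcon m1 m1
  obtain ⟨m3, h31, h32, hZ3⟩ := hcon m1 m2
  have hZ1' : ¬ (c1 m1 = 0 ∧ c2 m1 = 0) := fun h => hZ1 h.1 h.2
  have hZ2' : ¬ (c1 m2 = 0 ∧ c2 m2 = 0) := fun h => hZ2 h.1 h.2
  have hZ3' : ¬ (c1 m3 = 0 ∧ c2 m3 = 0) := fun h => hZ3 h.1 h.2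
  -- each of the four points vanishes on one of them
  have hpt : ∀ u : F, u = u1 ∨ u = u2 ∨ u = u3 ∨ u = u4 →
      (c1 + u • c2) m1 = 0 ∨ (c1 + u • c2) m2 = 0 ∨ (c1 + u • c2) m3 = 0 := by
    intro u hu
    obtain ⟨p, r, hpr⟩ := hw u hu
    by_cases a1 : m1 = p
    · by_cases a2 : m2 = r
      · refine Or.inr (Or.inr (hpr m3 ?_ ?_))
        · rw [← a1]; exact h31
        · rw [← a2]; exact h32
      · refine Or.inr (Or.inl (hpr m2 ?_ a2))
        rw [← a1]; exact h21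
    · by_cases b1 : m1 = r
      · by_cases b2 : m2 = p
        · refine Or.inr (Or.inr (hpr m3 ?_ ?_))
          · rw [← b2]; exact h32
          · rw [← b1]; exact h31
        · refine Or.inr (Or.inl (hpr m2 b2 ?_))
          rw [← b1]; exact h21
      · exact Or.inl (hpr m1 a1 b1)
  have e1 := hpt u1 (Or.inl rfl)
  have e2 := hpt u2 (Or.inr (Or.inl rfl))
  have e3 := hpt u3 (Or.inr (Or.inr (Or.inl rfl)))
  have e4 := hpt u4 (Or.inr (Or.inr (Or.inr rfl)))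
  have k1 := ute1a_unique c1 c2 m1 hZ1'
  have k2 := ute1a_unique c1 c2 m2 hZ2'
  have k3 := ute1a_unique c1 c2 m3 hZ3'
  rcases e1 with a | a | a <;> rcases e2 with b | b | b <;> rcases e3 with c | c | c <;>
    rcases e4 with d | d | d <;>
    first
    | exact h12 (k1 _ _ a b) | exact h12 (k2 _ _ a b) | exact h12 (k3 _ _ a b)
    | exact h13 (k1 _ _ a c) | exact h13 (k2 _ _ a c) | exact h13 (k3 _ _ a c)
    | exact h14 (k1 _ _ a d) | exact h14 (k2 _ _ a d) | exact h14 (k3 _ _ a d)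
    | exact h23 (k1 _ _ b c) | exact h23 (k2 _ _ b c) | exact h23 (k3 _ _ b c)
    | exact h24 (k1 _ _ b d) | exact h24 (k2 _ _ b d) | exact h24 (k3 _ _ b d)
    | exact h34 (k1 _ _ c d) | exact h34 (k2 _ _ c d) | exact h34 (k3 _ _ c d)

end Cfsg.Agent.Lib.Helper9.UT
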