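import Cfsg.Agent.Lib.Helper25.UTE1A
-- project UT (S5655, k = 1), piece E1 (core): q even, not C0 => a transvection t_{w,1} in M with w_k = 0 and w of
-- weight >= 3.  The statements of tv_exists, tv_conj, card_norm_one (rows TV, CARD) enter as hypotheses.

set_option autoImplicit false
set_option linter.unusedSectionVars false
set_option linter.unusedVariables false

open Cfsg

namespace Cfsg.Agent.Lib.Helper9.UT

open Matrix Cfsg.Agent.Lib.Helper29.ExtrL Cfsg.Agent.Lib.Helper28.UMax Cfsg.Agent.Lib.Helper28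

variable {n q : ℕ} {F : Type*} [Field F] [Fintype F] {σ : F ≃+* F}
  {M : Subgroup (Matrix.GeneralLinearGroup (Fin n) F)}

/-- a vector has three non-zero coordinates or is supported on two coordinates. -/
theorem ute1_wt (hn : 1 ≤ n) (v : Fin n → F) :
    (∃ i1 i2 i3 : Fin n, i1 ≠ i2 ∧ i1 ≠ i3 ∧ i2 ≠ i3 ∧ v i1 ≠ 0 ∧ v i2 ≠ 0 ∧ v i3 ≠ 0) ∨
      ∃ p r : Fin n, ∀ m, m ≠ p → m ≠ r → v m = 0 := by
  by_cases h : ∃ p r : Fin n, ∀ m, m ≠ p → m ≠ r → v m = 0
  · exact Or.inr h
  · left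
    push Not at h
    obtain ⟨m1, -, -, h1⟩ := h ⟨0, hn⟩ ⟨0, hn⟩
    obtain ⟨m2, h21, -, h2⟩ := h m1 m1
    obtain ⟨m3, h31, h32, h3⟩ := h m1 m2
    exact ⟨m1, m2, m3, fun e => h21 e.symm, fun e => h31 e.symm, fun e => h32 e.symm, h1, h2, h3⟩

/-- the form on a vector supported on two coordinates. -/
theorem ute1_herm_pair (S : UF n q σ) {i1 i2 : Fin n} (h12 : i1 ≠ i2) (v w : Fin n → F)
    (hv : ∀ m, m ≠ i1 → m ≠ i2 → v m = 0) :
    Cfsg.hermForm n F q v w = v i1 * σ (w i1) + v i2 * σ (w i2) := by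
  rw [herm_apply S]
  apply Finset.sum_eq_add i1 i2 h12
  · intro c _ hc
    rw [hv c hc.1 hc.2, zero_mul]
  · intro h; exact absurd (Finset.mem_univ _) h
  · intro h; exact absurd (Finset.mem_univ _) h

/-- three orthonormal vectors cannot be supported on the same two coordinates. -/
theorem ute1_three (S : UF n q σ) {i1 i2 : Fin n} (h12 : i1 ≠ i2) (x y z : Fin n → F)
    (hx : ∀ m, m ≠ i1 → m ≠ i2 → x m = 0) (hy : ∀ m, m ≠ i1 → m ≠ i2 → y m = 0)
    (hz : ∀ m, m ≠ i1 → m ≠ i2 → z m = 0)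
    (hxx : Cfsg.hermForm n F q x x = 1) (hyy : Cfsg.hermForm n F q y y = 1)
    (hzz : Cfsg.hermForm n F q z z = 1) (hxy : Cfsg.hermForm n F q x y = 0)
    (hzx : Cfsg.hermForm n F q z x = 0) (hzy : Cfsg.hermForm n F q z y = 0) : False := by
  rw [ute1_herm_pair S h12 _ _ hx] at hxx hxy
  rw [ute1_herm_pair S h12 _ _ hy] at hyy
  rw [ute1_herm_pair S h12 _ _ hz] at hzz hzx hzy
  set x1 := x i1
  set x2 := x i2
  set y1 := y i1
  set y2 := y i2
  set z1 := z i1
  set z2 := z i2
  by_cases hD : x1 * y2 - x2 * y1 = 0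
  · have e2 : x2 = 0 := by
      have : x2 = y2 * (x1 * σ y1 + x2 * σ y2) := by
        linear_combination x2 * hyy.symm - (σ y1) * hD
      rw [this, hxy, mul_zero]
    have e1 : x1 = 0 := by
      have : x1 = y1 * (x1 * σ y1 + x2 * σ y2) := by
        linear_combination x1 * hyy.symm + (σ y2) * hD
      rw [this, hxy, mul_zero]
    rw [e1, e2] at hxx
    simp at hxx
  · have hσD : σ (x1 * y2 - x2 * y1) ≠ 0 := by
      intro h
      exact hD ((map_eq_zero σ).mp h)
    have hz1 : z1 * σ (x1 * y2 - x2 * y1) = 0 := by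
      rw [map_sub, map_mul, map_mul]
      linear_combination (σ y2) * hzx - (σ x2) * hzy
    have hz2 : z2 * σ (x1 * y2 - x2 * y1) = 0 := by
      rw [map_sub, map_mul, map_mul]
      linear_combination (σ x1) * hzy - (σ y1) * hzx
    have e1 : z1 = 0 := (mul_eq_zero.mp hz1).resolve_right hσD
    have e2 : z2 = 0 := (mul_eq_zero.mp hz2).resolve_right hσD
    rw [e1, e2] at hzz
    simp at hzz

/-- the `a`-th column of a matrix as `g *ᵥ e_a`. -/
theorem ute1_col (g : Matrix (Fin n) (Fin n) F) (a i : Fin n) :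
    (g *ᵥ Pi.single a (1 : F)) i = g i a := by
  rw [Matrix.mulVec_single_one]
  rfl

/-- an element of `Fin n` outside three given ones. -/
theorem ute1_fresh (hn : 4 ≤ n) (a b c : Fin n) : ∃ x : Fin n, x ≠ a ∧ x ≠ b ∧ x ≠ c := by
  classical
  have hcard : ({a, b, c} : Finset (Fin n)).card < (Finset.univ : Finset (Fin n)).card := by
    rw [Finset.card_univ, Fintype.card_fin]
    calc ({a, b, c} : Finset (Fin n)).card ≤ 3 := Finset.card_le_three
      _ < n := by omega
  obtain ⟨x, -, hx⟩ := Finset.exists_mem_notMem_of_card_lt_card hcard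
  simp only [Finset.mem_insert, Finset.mem_singleton, not_or] at hx
  exact ⟨x, hx.1, hx.2.1, hx.2.2⟩

/-- in characteristic 2 the transvection at `e_i + u e_j` (`u` of norm one) with parameter `1` is monomial. -/
theorem ute1_mono (S : UF n q σ) (h2 : (2 : F) = 0) {i j : Fin n} (hij : i ≠ j) (u : F)
    (hu : u * σ u = 1) (t : Matrix.GeneralLinearGroup (Fin n) F)
    (ht : IsTv n q t (Pi.single i (1 : F) + u • Pi.single j (1 : F)) 1) :
    IsMono (t : Matrix (Fin n) (Fin n) F) := by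
  have hU := S.hU
  have h11 : (1 : F) + 1 = 0 := by rw [← h2]; norm_num
  have hcol : ∀ a i', (t : Matrix (Fin n) (Fin n) F) i' a =
      ((Pi.single a (1 : F) + (σ ((Pi.single i (1 : F) + u • Pi.single j (1 : F) : Fin n → F) a)) •
        (Pi.single i (1 : F) + u • Pi.single j (1 : F)) : Fin n → F)) i' := by
    intro a i'
    rw [← ute1_col (t : Matrix (Fin n) (Fin n) F) a i', ht, one_smul, herm_single_left S, one_mul]
  intro a
  by_cases hai : a = i
  · refine ⟨j, fun i' hi' => ?_⟩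
    rw [hcol, hai]
    simp only [Pi.add_apply, Pi.smul_apply, Pi.single_eq_same, smul_eq_mul, Pi.single_eq_of_ne hij,
      mul_zero, add_zero, map_one, one_mul, Pi.single_eq_of_ne hi']
    by_cases h : i' = i
    · rw [h, Pi.single_eq_same]; exact h11
    · rw [Pi.single_eq_of_ne h]; ring
  · by_cases haj : a = j
    · refine ⟨i, fun i' hi' => ?_⟩
      rw [hcol, haj]
      simp only [Pi.add_apply, Pi.smul_apply, Pi.single_eq_same, smul_eq_mul,
        Pi.single_eq_of_ne (Ne.symm hij), zero_add, mul_one, Pi.single_eq_of_ne hi', zero_add]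
      by_cases h : i' = j
      · rw [h, Pi.single_eq_same, mul_one]
        have : σ u * u = 1 := by rw [mul_comm]; exact hu
        rw [this]; exact h11
      · rw [Pi.single_eq_of_ne h]; ring
    · refine ⟨a, fun i' hi' => ?_⟩
      rw [hcol]
      simp only [Pi.add_apply, Pi.smul_apply, smul_eq_mul, Pi.single_eq_of_ne hai,
        Pi.single_eq_of_ne haj, mul_zero, add_zero, map_zero, zero_mul, Pi.single_eq_of_ne hi']

theorem ute1_core (S : UTS n q σ M) (hq : 3 ≤ q) (hn : 4 ≤ n) (h2 : (2 : F) = 0) (hC0 : ¬ C0 M)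
    (hTV : ∀ (w : Fin n → F), Cfsg.hermForm n F q w w = 0 → ∀ c : F, σ c = -c →
      ∃ t : Matrix.GeneralLinearGroup (Fin n) F, t ∈ SUg n F q ∧ IsTv n q t w c)
    (hCONJ : ∀ {g t : Matrix.GeneralLinearGroup (Fin n) F}, g ∈ SUg n F q →
      ∀ {w : Fin n → F} {c : F}, IsTv n q t w c →
        IsTv n q (g * t * g⁻¹) ((g : Matrix (Fin n) (Fin n) F) *ᵥ w) c)
    (hCARD : Nat.card {x : F // x * σ x = 1} = q + 1) :
    ∃ t ∈ M, ∃ (w : Fin n → F) (k : Fin n), IsTv n q t w 1 ∧ Cfsg.hermForm n F q w w = 0 ∧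
      w k = 0 ∧ ∃ i1 i2 i3 : Fin n, i1 ≠ i2 ∧ i1 ≠ i3 ∧ i2 ≠ i3 ∧ w i1 ≠ 0 ∧ w i2 ≠ 0 ∧ w i3 ≠ 0 := by
  classical
  have SF : UF n q σ := S.toUF
  have hU := S.hU
  have h11 : (1 : F) + 1 = 0 := by rw [← h2]; norm_num
  have hneg1 : σ (1 : F) = -1 := by
    rw [map_one]; linear_combination h11
  -- the data from `¬ C0`
  unfold C0 at hC0
  push Not at hC0
  obtain ⟨g, hgM, ⟨a, k, hak⟩, hnm⟩ := hC0
  have hgS : g ∈ SUg n F q := S.hMS hgM
  have hiso := fun x y => iso_of_mem S hgM x y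
  unfold IsMono at hnm
  push Not at hnm
  obtain ⟨b, hb⟩ := hnm
  -- column `b` has two non-zero entries
  obtain ⟨i1, hi1⟩ := gl_col_ne_zero g b
  have hb1 := hb i1
  unfold ColAt at hb1
  push Not at hb1
  obtain ⟨i2, hi21, hi2⟩ := hb1
  have hab : a ≠ b := by
    intro h
    rw [h] at hak
    exact hb k hak
  -- the column `a`
  have hgka : (g : Matrix (Fin n) (Fin n) F) k a ≠ 0 := by
    obtain ⟨i, hi⟩ := gl_col_ne_zero g a
    by_cases hik : i = k
    · rw [← hik]; exact hi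
    · exact absurd (hak i hik) hi
  have hcola : (g : Matrix (Fin n) (Fin n) F) *ᵥ Pi.single a (1 : F) =
      Pi.single k ((g : Matrix (Fin n) (Fin n) F) k a) := by
    funext i
    rw [ute1_col]
    by_cases hik : i = k
    · rw [hik, Pi.single_eq_same]
    · rw [Pi.single_eq_of_ne hik, hak i hik]
  -- four elements of `U`
  haveI : Fintype {x : F // x * σ x = 1} := Fintype.ofFinite _
  have hcardU : Fintype.card (Fin 4) ≤ Fintype.card {x : F // x * σ x = 1} := by
    have hc : Fintype.card {x : F // x * σ x = 1} = q + 1 :=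
      Nat.card_eq_fintype_card.symm.trans hCARD
    rw [hc, Fintype.card_fin]
    omega
  obtain ⟨emb⟩ := Function.Embedding.nonempty_of_card_le hcardU
  have hne : ∀ s s' : Fin 4, s ≠ s' → ((emb s : {x : F // x * σ x = 1}) : F) ≠ (emb s' : F) := by
    intro s s' hs h
    exact hs (emb.injective (Subtype.ext h))
  -- the key step for a column `j ≠ a, b`
  have key : ∀ j : Fin n, j ≠ a → j ≠ b →
      (∃ t ∈ M, ∃ (w : Fin n → F) (k : Fin n), IsTv n q t w 1 ∧ Cfsg.hermForm n F q w w = 0 ∧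
        w k = 0 ∧ ∃ i1 i2 i3 : Fin n, i1 ≠ i2 ∧ i1 ≠ i3 ∧ i2 ≠ i3 ∧ w i1 ≠ 0 ∧ w i2 ≠ 0 ∧ w i3 ≠ 0) ∨
      ∀ m, m ≠ i1 → m ≠ i2 → (g : Matrix (Fin n) (Fin n) F) m j = 0 ∧
        (g : Matrix (Fin n) (Fin n) F) m b = 0 := by
    intro j hja hjb
    -- for `u ∈ U` the transvection at `g (e_b + u e_j)`
    have step : ∀ u : F, u * σ u = 1 →
        (∃ t ∈ M, ∃ (w : Fin n → F) (k : Fin n), IsTv n q t w 1 ∧ Cfsg.hermForm n F q w w = 0 ∧
          w k = 0 ∧ ∃ i1 i2 i3 : Fin n, i1 ≠ i2 ∧ i1 ≠ i3 ∧ i2 ≠ i3 ∧ w i1 ≠ 0 ∧ w i2 ≠ 0 ∧ w i3 ≠ 0) ∨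
        ∃ p r : Fin n, ∀ m, m ≠ p → m ≠ r →
          ((g : Matrix (Fin n) (Fin n) F) *ᵥ Pi.single b (1 : F) +
            u • ((g : Matrix (Fin n) (Fin n) F) *ᵥ Pi.single j (1 : F))) m = 0 := by
      intro u hu
      set z : Fin n → F := Pi.single b (1 : F) + u • Pi.single j (1 : F) with hz
      have hzz : Cfsg.hermForm n F q z z = 0 := by
        rw [hz, hU.add_left, hU.smul_left, herm_single_left SF, herm_single_left SF]
        simp only [Pi.add_apply, Pi.smul_apply, Pi.single_eq_same, smul_eq_mul,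
          Pi.single_eq_of_ne (Ne.symm hjb), Pi.single_eq_of_ne hjb, mul_zero, add_zero, zero_add,
          mul_one, map_one, one_mul]
        rw [hu]; exact h11
      obtain ⟨t, htS, htv⟩ := hTV z hzz 1 hneg1
      have htM : t ∈ M := S.hN t htS (ute1_mono SF h2 (Ne.symm hjb) u hu t htv)
      have ht' := hCONJ hgS htv
      have hgz : (g : Matrix (Fin n) (Fin n) F) *ᵥ z =
          (g : Matrix (Fin n) (Fin n) F) *ᵥ Pi.single b (1 : F) +
            u • ((g : Matrix (Fin n) (Fin n) F) *ᵥ Pi.single j (1 : F)) := by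
        rw [hz, Matrix.mulVec_add, Matrix.mulVec_smul]
      have hiso0 : Cfsg.hermForm n F q ((g : Matrix (Fin n) (Fin n) F) *ᵥ z)
          ((g : Matrix (Fin n) (Fin n) F) *ᵥ z) = 0 := by rw [hiso, hzz]
      have hk0 : ((g : Matrix (Fin n) (Fin n) F) *ᵥ z) k = 0 := by
        have h1 : Cfsg.hermForm n F q ((g : Matrix (Fin n) (Fin n) F) *ᵥ z)
            ((g : Matrix (Fin n) (Fin n) F) *ᵥ Pi.single a (1 : F)) = 0 := by
          rw [hiso, herm_single_right SF, hz]
          simp only [Pi.add_apply, Pi.smul_apply, smul_eq_mul, Pi.single_eq_of_ne hab,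
            Pi.single_eq_of_ne (Ne.symm hja), mul_zero, add_zero, zero_mul]
        rw [hcola, herm_single_right SF] at h1
        rcases mul_eq_zero.mp h1 with h | h
        · exact h
        · exact absurd ((map_eq_zero σ).mp h) hgka
      rcases ute1_wt (by omega) ((g : Matrix (Fin n) (Fin n) F) *ᵥ z) with h3 | h3
      · left
        exact ⟨g * t * g⁻¹, M.mul_mem (M.mul_mem hgM htM) (M.inv_mem hgM), _, k, ht', hiso0, hk0, h3⟩
      · right
        rw [hgz] at h3
        exact h3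
    by_cases hdone : ∃ t ∈ M, ∃ (w : Fin n → F) (k : Fin n), IsTv n q t w 1 ∧
        Cfsg.hermForm n F q w w = 0 ∧ w k = 0 ∧ ∃ i1 i2 i3 : Fin n, i1 ≠ i2 ∧ i1 ≠ i3 ∧ i2 ≠ i3 ∧
          w i1 ≠ 0 ∧ w i2 ≠ 0 ∧ w i3 ≠ 0
    · exact Or.inl hdone
    · right
      have hall : ∀ u : F, u = (emb 0 : F) ∨ u = (emb 1 : F) ∨ u = (emb 2 : F) ∨ u = (emb 3 : F) →
          ∃ p r : Fin n, ∀ m, m ≠ p → m ≠ r →
            ((g : Matrix (Fin n) (Fin n) F) *ᵥ Pi.single b (1 : F) +
              u • ((g : Matrix (Fin n) (Fin n) F) *ᵥ Pi.single j (1 : F))) m = 0 := by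
        intro u hu
        have huU : u * σ u = 1 := by
          rcases hu with h | h | h | h <;> rw [h]
          · exact (emb 0).2
          · exact (emb 1).2
          · exact (emb 2).2
          · exact (emb 3).2
        exact (step u huU).resolve_left hdone
      obtain ⟨p, r, hpr⟩ := coord_plane _ _ _ _ _ _ (hne 0 1 (by decide)) (hne 0 2 (by decide))
        (hne 0 3 (by decide)) (hne 1 2 (by decide)) (hne 1 3 (by decide)) (hne 2 3 (by decide)) hall
      -- `{p, r} = {i1, i2}`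
      have hpi1 : i1 = p ∨ i1 = r := by
        by_contra hcon
        push Not at hcon
        have := (hpr i1 hcon.1 hcon.2).1
        rw [ute1_col] at this
        exact hi1 this
      have hpi2 : i2 = p ∨ i2 = r := by
        by_contra hcon
        push Not at hcon
        have := (hpr i2 hcon.1 hcon.2).1
        rw [ute1_col] at this
        exact hi2 this
      intro m hm1 hm2
      have hmp : m ≠ p := by
        intro h
        rcases hpi1 with e | e
        · exact hm1 (h.trans e.symm)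
        · rcases hpi2 with e' | e'
          · exact hm2 (h.trans e'.symm)
          · exact hi21 (e'.trans e.symm)
      have hmr : m ≠ r := by
        intro h
        rcases hpi1 with e | e
        · rcases hpi2 with e' | e'
          · exact hi21 (e'.trans e.symm)
          · exact hm2 (h.trans e'.symm)
        · exact hm1 (h.trans e.symm)
      have := hpr m hmp hmr
      rw [ute1_col, ute1_col] at this
      exact ⟨this.2, this.1⟩
  -- two columns `j, j'`
  obtain ⟨j, hja, hjb, -⟩ := ute1_fresh hn a b b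
  obtain ⟨j', hj'a, hj'b, hj'j⟩ := ute1_fresh hn a b j
  rcases key j hja hjb with h | hj
  · exact h
  rcases key j' hj'a hj'b with h | hj'
  · exact h
  exfalso
  -- three orthonormal columns supported on `{i1, i2}`
  have hsupp : ∀ c : Fin n, (∀ m, m ≠ i1 → m ≠ i2 → (g : Matrix (Fin n) (Fin n) F) m c = 0) →
      ∀ m, m ≠ i1 → m ≠ i2 → ((g : Matrix (Fin n) (Fin n) F) *ᵥ Pi.single c (1 : F)) m = 0 := by
    intro c hc m h1 h2'
    rw [ute1_col]; exact hc m h1 h2'
  have horth : ∀ c c' : Fin n, Cfsg.hermForm n F q ((g : Matrix (Fin n) (Fin n) F) *ᵥ Pi.single c (1 : F))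
      ((g : Matrix (Fin n) (Fin n) F) *ᵥ Pi.single c' (1 : F)) = if c = c' then 1 else 0 := by
    intro c c'
    rw [hiso, herm_single_left SF, one_mul]
    by_cases h : c = c'
    · rw [if_pos h, h, Pi.single_eq_same, map_one]
    · rw [if_neg h, Pi.single_eq_of_ne h, map_zero]
  apply ute1_three SF (Ne.symm hi21) _ _ _
    (hsupp b (fun m h1 h2' => (hj m h1 h2').2)) (hsupp j (fun m h1 h2' => (hj m h1 h2').1))
    (hsupp j' (fun m h1 h2' => (hj' m h1 h2').1))
  · rw [horth, if_pos rfl]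
  · rw [horth, if_pos rfl]
  · rw [horth, if_pos rfl]
  · rw [horth, if_neg (Ne.symm hjb)]
  · rw [horth, if_neg hj'b]
  · rw [horth, if_neg hj'j]

end Cfsg.Agent.Lib.Helper9.UT
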