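import Cfsg.Agent.Lib.Helper25.UTRCTVcore
import Cfsg.Agent.Lib.Helper13.UTPIG
import Cfsg.Agent.Lib.Helper1.UTRCG
-- project UT (S5655, k = 1), piece RCTV (verbatim): rc_tv, from utrctv_core with the rows PIG and RCG.

set_option autoImplicit false
set_option linter.unusedSectionVars false
set_option linter.unusedVariables false

open Cfsg

namespace Cfsg.Agent.Lib.Helper9.UT

open Matrix Cfsg.Agent.Lib.Helper29.ExtrL Cfsg.Agent.Lib.Helper28.UMax Cfsg.Agent.Lib.Helper28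

variable {n q : ℕ} {F : Type*} [Field F] [Fintype F] {σ : F ≃+* F}
  {M : Subgroup (Matrix.GeneralLinearGroup (Fin n) F)}

theorem rc_tv (S : UTS n q σ M) (hq : 3 ≤ q) (h2 : (2 : F) ≠ 0) {k : Fin n} {y : Fin n → F}
    (hRC : RC n q σ M k y) (l : Fin n) (hl : y l ≠ 0) (hν1 : y l * σ (y l) ≠ 1) :
    ∃ t ∈ M, ∃ (w : Fin n → F) (c : F), w ≠ 0 ∧ Cfsg.hermForm n F q w w = 0 ∧ w k = 0 ∧ c ≠ 0 ∧
      σ c = -c ∧ IsTv n q t w c :=
  utrctv_core S hq h2 hRC l hl hν1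
    (fun ν hν hν0 hν1' => pig S.toUF hq h2 ν hν hν0 hν1')
    (fun lam mu hlam hmu hl1 hm1 hm2 htr =>
      rc_g S h2 hRC l hl hν1 lam mu hlam hmu hl1 hm1 hm2 htr)

end Cfsg.Agent.Lib.Helper9.UT
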