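import Cfsg.Agent.Lib.Helper1.UTUNIP
-- project UT (S5655, k = 1), piece RCTV (core): q odd, a reflection centre with a coordinate norm not 0, 1 gives a
-- transvection of M centred in <e_l, y>.  The statements of pig and rc_g (rows PIG, RCG) enter as hypotheses.

set_option autoImplicit false
set_option linter.unusedSectionVars false
set_option linter.unusedVariables false

open Cfsg

namespace Cfsg.Agent.Lib.Helper9.UT

open Matrix Cfsg.Agent.Lib.Helper29.ExtrL Cfsg.Agent.Lib.Helper28.UMax Cfsg.Agent.Lib.Helper28.UForm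

variable {n q : ℕ} {F : Type*} [Field F] [Fintype F] {σ : F ≃+* F}
  {M : Subgroup (Matrix.GeneralLinearGroup (Fin n) F)}

/-- a matrix acting on the plane `<e, y>` by `C` with `tr C = -2`, `det C = 1`, and moving every vector inside
the plane: its square `T` satisfies `(T - 1)² = 0`. -/
theorem utrctv_sq (A : Matrix (Fin n) (Fin n) F) (e y : Fin n → F) (C11 C12 C21 C22 : F)
    (hGe : A *ᵥ e = C11 • e + C21 • y) (hGy : A *ᵥ y = C12 • e + C22 • y)
    (htr : C11 + C22 = -2) (hdet : C11 * C22 - C12 * C21 = 1)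
    (hPl : ∀ x : Fin n → F, A *ᵥ x - x ∈ Submodule.span F ({e, y} : Set (Fin n → F))) :
    (∀ x : Fin n → F, ∃ a b : F, A *ᵥ x = x + (a • e + b • y) ∧
      A *ᵥ (A *ᵥ x) = x + ((a + C11 * a + C12 * b) • e + (b + C21 * a + C22 * b) • y)) ∧
    ∀ a b : F, A *ᵥ (A *ᵥ ((a + C11 * a + C12 * b) • e + (b + C21 * a + C22 * b) • y)) =
      (a + C11 * a + C12 * b) • e + (b + C21 * a + C22 * b) • y := by
  have hGab : ∀ a b : F, A *ᵥ (a • e + b • y) =
      (C11 * a + C12 * b) • e + (C21 * a + C22 * b) • y := by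
    intro a b
    rw [Matrix.mulVec_add, Matrix.mulVec_smul, Matrix.mulVec_smul, hGe, hGy]
    funext i
    simp only [Pi.add_apply, Pi.smul_apply, smul_eq_mul]
    ring
  obtain rfl : C22 = -2 - C11 := by linear_combination htr
  have hdet' : C12 * C21 + (C11 + 1) ^ 2 = 0 := by linear_combination -hdet
  refine ⟨fun x => ?_, fun a b => ?_⟩
  · obtain ⟨a, b, hab⟩ := Submodule.mem_span_pair.mp (hPl x)
    have hx : A *ᵥ x = x + (a • e + b • y) := by rw [hab]; abel
    refine ⟨a, b, hx, ?_⟩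
    rw [hx, Matrix.mulVec_add, hx, hGab]
    funext i
    simp only [Pi.add_apply, Pi.smul_apply, smul_eq_mul]
    ring
  · rw [hGab, hGab]
    funext i
    simp only [Pi.add_apply, Pi.smul_apply, smul_eq_mul]
    linear_combination (((C11 - 1) * a + C12 * b) * e i + (C21 * a + (-2 - C11 - 1) * b) * y i) * hdet'

theorem utrctv_core (S : UTS n q σ M) (hq : 3 ≤ q) (h2 : (2 : F) ≠ 0) {k : Fin n} {y : Fin n → F}
    (hRC : RC n q σ M k y) (l : Fin n) (hl : y l ≠ 0) (hν1 : y l * σ (y l) ≠ 1)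
    (hPIG : ∀ ν : F, σ ν = ν → ν ≠ 0 → ν ≠ 1 →
      ∃ lam mu : F, lam * σ lam = 1 ∧ mu * σ mu = 1 ∧ lam ≠ 1 ∧ mu ≠ 1 ∧ mu ≠ -1 ∧
        (2 - (lam + lam⁻¹)) * (2 - (mu + mu⁻¹)) * (ν * (1 - ν)) = 4)
    (hRCG : ∀ lam mu : F, lam * σ lam = 1 → mu * σ mu = 1 → lam ≠ 1 → mu ≠ 1 → mu ≠ -1 →
      (2 - (lam + lam⁻¹)) * (2 - (mu + mu⁻¹)) * ((y l * σ (y l)) * (1 - y l * σ (y l))) = 4 →
      ∃ G ∈ M, ∃ C11 C12 C21 C22 : F,
        (G : Matrix (Fin n) (Fin n) F) *ᵥ Pi.single l (1 : F) = C11 • Pi.single l (1 : F) + C21 • y ∧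
        (G : Matrix (Fin n) (Fin n) F) *ᵥ y = C12 • Pi.single l (1 : F) + C22 • y ∧
        C11 + C22 = -2 ∧ C11 * C22 - C12 * C21 = 1 ∧ C21 ≠ 0 ∧
        (∀ x : Fin n → F, Cfsg.hermForm n F q x (Pi.single l (1 : F)) = 0 →
          Cfsg.hermForm n F q x y = 0 → (G : Matrix (Fin n) (Fin n) F) *ᵥ x = x) ∧
        (∀ x : Fin n → F, (G : Matrix (Fin n) (Fin n) F) *ᵥ x - x ∈
          Submodule.span F ({Pi.single l (1 : F), y} : Set (Fin n → F)))) :
    ∃ t ∈ M, ∃ (w : Fin n → F) (c : F), w ≠ 0 ∧ Cfsg.hermForm n F q w w = 0 ∧ w k = 0 ∧ c ≠ 0 ∧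
      σ c = -c ∧ IsTv n q t w c := by
  classical
  have SF : UF n q σ := S.toUF
  have hU := S.hU
  obtain ⟨hyy, hyk, -⟩ := hRC
  have hlk : l ≠ k := by
    intro h
    rw [h] at hl
    exact hl hyk
  set ν := y l * σ (y l) with hν
  have hσν : σ ν = ν := by
    rw [hν, map_mul, hU.involutive, mul_comm]
  have hν0 : ν ≠ 0 := by
    rw [hν]
    exact mul_ne_zero hl (fun h => hl ((map_eq_zero σ).mp h))
  obtain ⟨lam, mu, hlam, hmu, hl1, hm1, hm2, htr⟩ := hPIG ν hσν hν0 hν1
  obtain ⟨G, hGM, C11, C12, C21, C22, hGe, hGy, hC1, hC2, hC21, hfix, hPl⟩ :=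
    hRCG lam mu hlam hmu hl1 hm1 hm2 htr
  set e : Fin n → F := Pi.single l (1 : F) with he
  set A : Matrix (Fin n) (Fin n) F := (G : Matrix (Fin n) (Fin n) F) with hA
  obtain ⟨hT1, hT2⟩ := utrctv_sq A e y C11 C12 C21 C22 hGe hGy hC1 hC2 hPl
  have hTcoe : ((G * G : Matrix.GeneralLinearGroup (Fin n) F) : Matrix (Fin n) (Fin n) F) = A * A := by
    rw [Matrix.GeneralLinearGroup.coe_mul]
  have hTv : ∀ x : Fin n → F, ((G * G : Matrix.GeneralLinearGroup (Fin n) F) :
      Matrix (Fin n) (Fin n) F) *ᵥ x = A *ᵥ (A *ᵥ x) := by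
    intro x
    rw [hTcoe, Matrix.mulVec_mulVec]
  have hTM : G * G ∈ M := M.mul_mem hGM hGM
  -- the forms on `e`, `y`
  have hee : Cfsg.hermForm n F q e e = 1 := by
    rw [he, herm_single_left SF, Pi.single_eq_same, map_one, one_mul]
  have hey : Cfsg.hermForm n F q e y = σ (y l) := by
    rw [he, herm_single_left SF, one_mul]
  have hye : Cfsg.hermForm n F q y e = y l := by
    rw [he, herm_single_right SF, map_one, mul_one]
  have hgram : Cfsg.hermForm n F q e e * Cfsg.hermForm n F q y y -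
      Cfsg.hermForm n F q e y * Cfsg.hermForm n F q y e ≠ 0 := by
    rw [hee, hyy, hey, hye]
    intro h
    apply hν1
    rw [hν] at *
    linear_combination -h
  -- `T ≠ 1`
  have hne : G * G ≠ 1 := by
    intro h1
    have hTe : A *ᵥ (A *ᵥ e) = e := by
      rw [← hTv, h1]
      simp
    obtain ⟨a, b, hab, hab2⟩ := hT1 e
    -- `a = C11 - 1`, `b = C21` up to the relation; use the forms
    have h0 : (a + C11 * a + C12 * b) • e + (b + C21 * a + C22 * b) • y = 0 := by
      have := hab2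
      rw [hTe] at this
      have h' : e + ((a + C11 * a + C12 * b) • e + (b + C21 * a + C22 * b) • y) = e + 0 := by
        rw [add_zero]; exact this.symm
      exact add_left_cancel h'
    have hab' : (a - (C11 - 1)) • e + (b - C21) • y = 0 := by
      have h3 : e + (a • e + b • y) = C11 • e + C21 • y := by rw [← hab, hGe]
      funext i
      have := congrFun h3 i
      simp only [Pi.add_apply, Pi.smul_apply, smul_eq_mul, Pi.zero_apply] at this ⊢
      linear_combination this
    -- independence of `e`, `y`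
    have hind : ∀ s r : F, s • e + r • y = 0 → r = 0 := by
      intro s r hsr
      have f1 : Cfsg.hermForm n F q (s • e + r • y) e = 0 := by
        rw [hsr]
        have := hU.smul_left 0 (0 : Fin n → F) e
        rw [zero_smul, zero_mul] at this
        exact this
      have f2 : Cfsg.hermForm n F q (s • e + r • y) y = 0 := by
        rw [hsr]
        have := hU.smul_left 0 (0 : Fin n → F) y
        rw [zero_smul, zero_mul] at this
        exact this
      rw [hU.add_left, hU.smul_left, hU.smul_left, hee, hye] at f1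
      rw [hU.add_left, hU.smul_left, hU.smul_left, hey, hyy] at f2
      have : r * (1 - ν) = 0 := by
        rw [hν]
        linear_combination f2 - σ (y l) * f1
      rcases mul_eq_zero.mp this with h | h
      · exact h
      · exact absurd (by linear_combination -h) hν1
    have hb : b = C21 := by
      have := hind _ _ hab'
      linear_combination this
    have hbb : b + C21 * a + C22 * b = 0 := hind _ _ h0
    have ha : a = C11 - 1 := by
      have h4 : (a - (C11 - 1)) • e = 0 := by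
        have := hab'
        rw [hb, sub_self, zero_smul, add_zero] at this
        exact this
      have := congrFun h4 l
      simp only [Pi.smul_apply, he, Pi.single_eq_same, smul_eq_mul, mul_one, Pi.zero_apply] at this
      linear_combination this
    rw [ha, hb] at hbb
    have : (2 : F) * C21 = 0 := by
      linear_combination -hbb + C21 * hC1
    rcases mul_eq_zero.mp this with h | h
    · exact h2 h
    · exact hC21 h
  -- `(T - 1)² = 0`
  have hsq : ∀ x : Fin n → F,
      ((G * G : Matrix.GeneralLinearGroup (Fin n) F) : Matrix (Fin n) (Fin n) F) *ᵥ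
        (((G * G : Matrix.GeneralLinearGroup (Fin n) F) : Matrix (Fin n) (Fin n) F) *ᵥ x) -
      ((G * G : Matrix.GeneralLinearGroup (Fin n) F) : Matrix (Fin n) (Fin n) F) *ᵥ x =
      ((G * G : Matrix.GeneralLinearGroup (Fin n) F) : Matrix (Fin n) (Fin n) F) *ᵥ x - x := by
    intro x
    obtain ⟨a, b, hab, hab2⟩ := hT1 x
    rw [hTv, hTv, hab2, Matrix.mulVec_add, Matrix.mulVec_add, hab2, hT2 a b]
    abel
  have hfixT : ∀ x : Fin n → F, Cfsg.hermForm n F q x e = 0 → Cfsg.hermForm n F q x y = 0 →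
      ((G * G : Matrix.GeneralLinearGroup (Fin n) F) : Matrix (Fin n) (Fin n) F) *ᵥ x = x := by
    intro x h1 h2'
    rw [hTv, hfix x h1 h2', hfix x h1 h2']
  obtain ⟨w, c, hwPl, hw0, hww, hc0, hσc, hTvw⟩ :=
    unip SF (G * G) (S.hMS hTM) e y hgram hfixT hsq hne
  refine ⟨G * G, hTM, w, c, hw0, hww, ?_, hc0, hσc, hTvw⟩
  obtain ⟨a, b, rfl⟩ := Submodule.mem_span_pair.mp hwPl
  simp only [Pi.add_apply, Pi.smul_apply, smul_eq_mul, hyk, he, Pi.single_eq_of_ne (Ne.symm hlk),
    mul_zero, add_zero]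

end Cfsg.Agent.Lib.Helper9.UT
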