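import Mathlib
import Cfsg.Prelude.Def_GeometricClasses
import Cfsg.Agent.Lib.Helper27.ASC.Defs
import Cfsg.Agent.Lib.Lead.ASCU.Defs
import Cfsg.Agent.Lib.helper2.UXDefs
import Cfsg.Agent.Lib.Helper19.ASU.Defs
import Cfsg.Agent.Lib.Helper19.ASUADJ
import Cfsg.Agent.Lib.Helper24.UXFLD62.Defs
import Cfsg.Agent.Lib.Helper24.UXFLD62K0A
import Cfsg.Agent.Lib.Helper20.UXFLD62COORD

set_option autoImplicit false
set_option linter.unusedVariables false
set_option linter.unusedSectionVars false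
set_option linter.style.haveILetI false

/-!
# Project UX, sub-project FLD62 (helper24), piece DETV : an alternative proof (helper25) of `fld62_det_V0`

(The official `fld62_det_V0` is in `Cfsg.Agent.Lib.Helper24.UXFLD62DETV`; this file only keeps `uxfld62detvb_core` and
`uxfld62detvb_alt` under their own names, so that both files can be imported together.)

The semilinear involution `J (a u + b w) = a* u + b* w` fixes `V₀` pointwise, `V = V₀ + ω V₀`, so `J` commutes with every matrix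
`g₀` preserving `V₀`; `J x = C *ᵥ x^(2)`, hence `g₀ C = C g₀^(2)` and `det g₀ = (det g₀)²`.
Extra: `uxfld62detvb_core` (the piece with the coordinate statements and the decomposition `K = K₀ + ω K₀` as hypotheses).
-/

namespace Cfsg.Agent.Lib.helper2.UX

open Cfsg Cfsg.Geo Cfsg.Agent.Lib.Helper27.ASC Cfsg.Agent.Lib.Lead.ASCU Cfsg.Agent.Lib.Helper19.ASU
open scoped MatrixGroups Matrix

variable {F : Type*} [Field F] [Fintype F]

/-- DET-V with the coordinate statements and the decomposition `K = K₀ + ω K₀` as hypotheses. -/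
theorem uxfld62detvb_core (hF : Fintype.card F = 4) (K : Subalgebra F (Matrix (Fin 6) (Fin 6) F))
    (hstar : ∀ k ∈ K, uadj 2 k ∈ K) {u w : Fin 6 → F}
    (hinj : ∀ a ∈ K, ∀ b ∈ K, a *ᵥ u + b *ᵥ w = 0 → a = 0 ∧ b = 0)
    (hsurj : ∀ x : Fin 6 → F, ∃ a ∈ K, ∃ b ∈ K, x = a *ᵥ u + b *ᵥ w)
    (ω : F) (hdec : ∀ k ∈ K, ∃ a ∈ fld62K0 K, ∃ b ∈ fld62K0 K, k = a + ω • b)
    (g₀ : Matrix (Fin 6) (Fin 6) F) (hg₀ : g₀.det ≠ 0) (h : ∀ v ∈ fld62V0 K u w, g₀ *ᵥ v ∈ fld62V0 K u w) :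
    g₀.det = 1 := by
  classical
  have hF2 : Fintype.card F = 2 ^ 2 := by rw [hF]; norm_num
  -- coordinates
  choose a ha b hb hx using hsurj
  have huniq : ∀ a' ∈ K, ∀ b' ∈ K, ∀ x, x = a' *ᵥ u + b' *ᵥ w → a x = a' ∧ b x = b' := by
    intro a' ha' b' hb' x hxx
    have h1 : (a x - a') *ᵥ u + (b x - b') *ᵥ w = 0 := by
      rw [Matrix.sub_mulVec, Matrix.sub_mulVec]
      have h2 := hx x
      rw [hxx] at h2
      have h3 : a (a' *ᵥ u + b' *ᵥ w) *ᵥ u + b (a' *ᵥ u + b' *ᵥ w) *ᵥ w = a' *ᵥ u + b' *ᵥ w := h2.symm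
      rw [hxx]
      rw [sub_add_sub_comm, h3, sub_self]
    obtain ⟨h2, h3⟩ := hinj _ (K.sub_mem (ha x) ha') _ (K.sub_mem (hb x) hb') h1
    exact ⟨sub_eq_zero.mp h2, sub_eq_zero.mp h3⟩
  -- the semilinear involution
  let J : (Fin 6 → F) → (Fin 6 → F) := fun x => uadj 2 (a x) *ᵥ u + uadj 2 (b x) *ᵥ w
  have hJ : ∀ a' ∈ K, ∀ b' ∈ K, J (a' *ᵥ u + b' *ᵥ w) = uadj 2 a' *ᵥ u + uadj 2 b' *ᵥ w := by
    intro a' ha' b' hb'
    obtain ⟨h1, h2⟩ := huniq a' ha' b' hb' _ rfl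
    show uadj 2 (a _) *ᵥ u + uadj 2 (b _) *ᵥ w = _
    rw [h1, h2]
  have hJadd : ∀ x y, J (x + y) = J x + J y := by
    intro x y
    have h1 : x + y = (a x + a y) *ᵥ u + (b x + b y) *ᵥ w := by
      rw [Matrix.add_mulVec, Matrix.add_mulVec]
      nth_rewrite 1 [hx x, hx y]
      abel
    rw [h1, hJ _ (K.add_mem (ha x) (ha y)) _ (K.add_mem (hb x) (hb y)), uadj_add hF2, uadj_add hF2,
      Matrix.add_mulVec, Matrix.add_mulVec]
    show _ = (uadj 2 (a x) *ᵥ u + uadj 2 (b x) *ᵥ w) + (uadj 2 (a y) *ᵥ u + uadj 2 (b y) *ᵥ w)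
    abel
  have hJsmul : ∀ (t : F) x, J (t • x) = (t ^ 2) • J x := by
    intro t x
    have h1 : t • x = (t • a x) *ᵥ u + (t • b x) *ᵥ w := by
      rw [Matrix.smul_mulVec, Matrix.smul_mulVec, ← smul_add, ← hx x]
    rw [h1, hJ _ (K.smul_mem (ha x) t) _ (K.smul_mem (hb x) t), uadj_smul hF2, uadj_smul hF2,
      Matrix.smul_mulVec, Matrix.smul_mulVec, ← smul_add]
  have hJfix : ∀ v ∈ fld62V0 K u w, J v = v := by
    rintro v ⟨a', ha', b', hb', rfl⟩
    rw [hJ _ ha'.1 _ hb'.1, ha'.2, hb'.2]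
  have hJJ : ∀ x, J (J x) = x := by
    intro x
    show J (uadj 2 (a x) *ᵥ u + uadj 2 (b x) *ᵥ w) = x
    rw [hJ _ (hstar _ (ha x)) _ (hstar _ (hb x)), uadj_uadj hF2, uadj_uadj hF2, ← hx x]
  -- `V = V₀ + ω V₀`
  have hVdec : ∀ x, ∃ v ∈ fld62V0 K u w, ∃ v' ∈ fld62V0 K u w, x = v + ω • v' := by
    intro x
    obtain ⟨a0, ha0, a1, ha1, hax⟩ := hdec _ (ha x)
    obtain ⟨b0, hb0, b1, hb1, hbx⟩ := hdec _ (hb x)
    refine ⟨a0 *ᵥ u + b0 *ᵥ w, ⟨a0, ha0, b0, hb0, rfl⟩, a1 *ᵥ u + b1 *ᵥ w, ⟨a1, ha1, b1, hb1, rfl⟩, ?_⟩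
    nth_rewrite 1 [hx x]
    rw [hax, hbx, Matrix.add_mulVec, Matrix.add_mulVec, Matrix.smul_mulVec, Matrix.smul_mulVec, smul_add]
    abel
  -- `g₀` commutes with `J`
  have hcomm : ∀ x, g₀ *ᵥ J x = J (g₀ *ᵥ x) := by
    intro x
    obtain ⟨v, hv, v', hv', rfl⟩ := hVdec x
    rw [hJadd, hJsmul, hJfix v hv, hJfix v' hv', Matrix.mulVec_add, Matrix.mulVec_smul, Matrix.mulVec_add,
      Matrix.mulVec_smul, hJadd, hJsmul, hJfix _ (h v hv), hJfix _ (h v' hv')]
  -- the matrix of `J`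
  let φ : F →+* F := ufrob hF2
  have hφ : ∀ t : F, φ t = t ^ 2 := fun t => ufrob_apply hF2 t
  have hφφ : ∀ t : F, φ (φ t) = t := fun t => ufrob_ufrob hF2 t
  let Jhom : (Fin 6 → F) →+ (Fin 6 → F) :=
    { toFun := J
      map_zero' := by
        have h1 := hJadd 0 0
        rw [add_zero] at h1
        exact left_eq_add.mp h1
      map_add' := hJadd }
  let C : Matrix (Fin 6) (Fin 6) F := Matrix.of (fun i j => J (Pi.single j 1) i)
  have hJC : ∀ x, J x = C *ᵥ (φ ∘ x) := by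
    intro x
    have h1 : x = ∑ j, x j • (Pi.single j (1 : F) : Fin 6 → F) := by
      funext i
      simp [Finset.sum_apply, Pi.single_apply]
    have h2 : J x = ∑ j, (x j) ^ 2 • J (Pi.single j (1 : F)) := by
      have h3 : Jhom x = ∑ j, Jhom (x j • (Pi.single j (1 : F) : Fin 6 → F)) := by
        nth_rewrite 1 [h1]
        exact map_sum Jhom _ _
      have h4 : ∀ j, Jhom (x j • (Pi.single j (1 : F) : Fin 6 → F)) = (x j) ^ 2 • J (Pi.single j (1 : F)) :=
        fun j => hJsmul _ _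
      simp only [h4] at h3
      exact h3
    rw [h2]
    funext i
    simp only [Finset.sum_apply, Pi.smul_apply, smul_eq_mul, Matrix.mulVec, dotProduct, C, Matrix.of_apply,
      Function.comp_apply, hφ]
    apply Finset.sum_congr rfl
    intro j _
    ring
  have hφvec : ∀ (M : Matrix (Fin 6) (Fin 6) F) (x : Fin 6 → F), φ ∘ (M *ᵥ x) = M.map φ *ᵥ (φ ∘ x) := by
    intro M x
    funext i
    exact RingHom.map_mulVec φ M x i
  have hφφvec : ∀ x : Fin 6 → F, φ ∘ (φ ∘ x) = x := by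
    intro x
    funext i
    exact hφφ (x i)
  have hext : ∀ M N : Matrix (Fin 6) (Fin 6) F, (∀ y, M *ᵥ y = N *ᵥ y) → M = N := by
    intro M N hMN
    apply Matrix.toLin'.injective
    apply LinearMap.ext
    intro y
    simpa using hMN y
  -- `g₀ C = C g₀^(2)`
  have hgC : g₀ * C = C * g₀.map φ := by
    apply hext
    intro y
    have h1 := hcomm (φ ∘ y)
    rw [hJC, hJC, hφvec, hφφvec] at h1
    rw [← Matrix.mulVec_mulVec, ← Matrix.mulVec_mulVec]
    exact h1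
  -- `C C^(2) = 1`
  have hCC : C * C.map φ = 1 := by
    apply hext
    intro y
    have h1 := hJJ y
    rw [hJC (J y), hJC y, hφvec, hφφvec] at h1
    rw [← Matrix.mulVec_mulVec, Matrix.one_mulVec]
    exact h1
  have hdetC : C.det ≠ 0 := by
    intro h0
    have h1 := congrArg Matrix.det hCC
    rw [Matrix.det_mul, h0, zero_mul, Matrix.det_one] at h1
    exact zero_ne_one h1
  have hdetφ : (g₀.map φ).det = g₀.det ^ 2 := by
    have h1 := RingHom.map_det φ g₀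
    rw [RingHom.mapMatrix_apply] at h1
    rw [← h1, hφ]
  have h1 := congrArg Matrix.det hgC
  rw [Matrix.det_mul, Matrix.det_mul, hdetφ] at h1
  have h2 : C.det * (g₀.det * (g₀.det - 1)) = 0 := by
    have : C.det * (g₀.det * (g₀.det - 1)) = C.det * g₀.det ^ 2 - g₀.det * C.det := by ring
    rw [this, h1, sub_self]
  rcases mul_eq_zero.mp h2 with h3 | h3
  · exact absurd h3 hdetC
  · rcases mul_eq_zero.mp h3 with h4 | h4
    · exact absurd h4 hg₀
    · exact sub_eq_zero.mp h4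

/-- DET-V : a matrix preserving `V₀` has its determinant in `F_2`: the semilinear involution `J (a u + b w) = a* u + b* w`
is `x ↦ C *ᵥ x^(2)` for a matrix `C` (`x^(2)` entrywise), it commutes with `g₀` (`V = V₀ ⊕ ω V₀`, `fld62_K0_decomp`), so
`g₀ C = C g₀^(2)`, `det g₀ = (det g₀)²`. -/
theorem uxfld62detvb_alt (hF : Fintype.card F = 4) (K : Subalgebra F (Matrix (Fin 6) (Fin 6) F))
    (hK : IsFieldSubalgebra 3 K) (hstar : ∀ k ∈ K, uadj 2 k ∈ K) {u w : Fin 6 → F} (hp : Fld62Pair K u w)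
    (g₀ : Matrix (Fin 6) (Fin 6) F) (hg₀ : g₀.det ≠ 0) (h : ∀ v ∈ fld62V0 K u w, g₀ *ᵥ v ∈ fld62V0 K u w) :
    g₀.det = 1 := by
  obtain ⟨ω, hω, -, -⟩ := fld62_omega hF
  exact uxfld62detvb_core hF K hstar (fun a ha b hb h => fld62_coord_inj hF K hK hstar hp a b ha hb h)
    (fun x => fld62_coord_surj hF K hK hstar hp x) ω (fld62_K0_decomp hF K hK hstar ω hω).1 g₀ hg₀ h

end Cfsg.Agent.Lib.helper2.UX
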