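import Cfsg.Agent.Lib.Helper27.WSP.Defs
import Cfsg.Agent.Lib.helper23.WSPC1
import Cfsg.Agent.Lib.helper23.WSPC2

set_option autoImplicit false

namespace Cfsg.Agent.Lib.Helper27.WSP

open Matrix

section C

variable {F : Type*} [Field F] {n : ℕ}

/-- C3 -/
theorem wc_spAct (ψ : AddChar F ℂ) (g : ↥(Matrix.symplecticGroup (Fin n) F))
    (v w : Fin n ⊕ Fin n → F) : wc ψ (spAct n F g v) (spAct n F g w) = wc ψ v w := by
  unfold wc
  rw [spAct_apply, spAct_apply,
    (Cfsg.Agent.Lib.helper6.mem_symplecticGroup_iff_sympForm (m := n) (F := F) _).mp g.2 v w]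

/-- C3 -/
theorem isWeyl_weyl [Fintype F] (h2 : (2 : F) ≠ 0) (ψ : AddChar F ℂ) (hψ : ψ ≠ 1) :
    IsWeyl (wc (n := n) ψ) (weyl ψ) := by
  classical
  have hfr : Module.finrank ℂ ((Fin n → F) → ℂ) = Fintype.card F ^ n := by
    rw [Module.finrank_pi_fintype]
    simp
  refine ⟨fun v w => weyl_mul h2 ψ v w, weyl_zero ψ, fun v w => ?_, fun v hv => trace_weyl ψ hψ v hv,
    ?_, ?_⟩
  · unfold wc
    intro h
    have h1 := AddChar.map_neg_eq_inv ψ (2⁻¹ * Cfsg.sympForm n F v w)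
    have h3 : ψ (2⁻¹ * Cfsg.sympForm n F v w) * ψ (-(2⁻¹ * Cfsg.sympForm n F v w)) = 1 := by
      rw [← AddChar.map_add_eq_mul, add_neg_cancel, AddChar.map_zero_eq_one]
    rw [h, zero_mul] at h3
    exact zero_ne_one h3
  · rw [hfr, Fintype.card_pi, ← pow_mul]
    simp only [Finset.prod_const, Finset.card_univ, Fintype.card_sum, Fintype.card_fin]
    rw [← two_mul, mul_comm]
  · rw [hfr]
    exact pow_pos Fintype.card_pos n

end C

end Cfsg.Agent.Lib.Helper27.WSP
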