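import Cfsg.Agent.Lib.Helper27.WSP.Defs
import Cfsg.Agent.Lib.Helper25.WSPC3
import Cfsg.Agent.Lib.Helper13.WSPA3
import Cfsg.Agent.Lib.helper23.WSPO1

set_option autoImplicit false

/-! WSP-O3: the odd functions are invariant under any intertwining representation. -/

namespace Cfsg.Agent.Lib.Helper27.WSP

open Matrix

section O

variable {F : Type*} [Field F] {n : ℕ}

/-- the central element `-1` of the symplectic group -/
def h25_negOne (n : ℕ) (F : Type*) [Field F] : ↥(Matrix.symplecticGroup (Fin n) F) :=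
  ⟨-1, _root_.SymplecticGroup.neg_mem (Submonoid.one_mem _)⟩

theorem h25_negOne_coe :
    ((h25_negOne n F : ↥(Matrix.symplecticGroup (Fin n) F)) :
      Matrix (Fin n ⊕ Fin n) (Fin n ⊕ Fin n) F) = -1 := rfl

theorem h25_negOne_comm (g : ↥(Matrix.symplecticGroup (Fin n) F)) :
    g * h25_negOne n F = h25_negOne n F * g := by
  apply Subtype.ext
  rw [Submonoid.coe_mul, Submonoid.coe_mul, h25_negOne_coe, mul_neg, neg_mul, mul_one, one_mul]

theorem h25_spAct_negOne (v : Fin n ⊕ Fin n → F) : spAct n F (h25_negOne n F) v = -v := by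
  rw [spAct_apply, h25_negOne_coe, Matrix.neg_mulVec, Matrix.one_mulVec]

theorem h25_two_ne_zero [Fintype F] (hodd : Odd (Fintype.card F)) : (2 : F) ≠ 0 := by
  intro h
  have h2 : ringChar F = 2 := by
    have hdvd : ringChar F ∣ 2 := by
      apply (ringChar.spec F 2).mp
      exact_mod_cast h
    have hp : (ringChar F).Prime := CharP.char_is_prime F (ringChar F)
    exact (Nat.prime_dvd_prime_iff_eq hp Nat.prime_two).mp hdvd
  have h3 := FiniteField.even_card_iff_char_two.mp h2
  have h4 := Nat.odd_iff.mp hodd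
  omega

/-- an intertwining representation sends `-1` to a nonzero multiple of `negOp` -/
theorem h25_omega_negOne [Fintype F] (hodd : Odd (Fintype.card F)) (ψ : AddChar F ℂ) (hψ : ψ ≠ 1)
    (ω : ↥(Matrix.symplecticGroup (Fin n) F) →* (Module.End ℂ ((Fin n → F) → ℂ))ˣ)
    (hω : Intertwines ψ ω) :
    ∃ z : ℂ, z ≠ 0 ∧
      (ω (h25_negOne n F) : Module.End ℂ ((Fin n → F) → ℂ)) = z • negOp n F := by
  have hW := isWeyl_weyl (n := n) (h25_two_ne_zero hodd) ψ hψ
  obtain ⟨T, hT⟩ : ∃ T : Module.End ℂ ((Fin n → F) → ℂ),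
      T = (ω (h25_negOne n F) : Module.End ℂ ((Fin n → F) → ℂ)) := ⟨_, rfl⟩
  have hcomm : ∀ v, (negOp n F * T) * weyl ψ v = weyl ψ v * (negOp n F * T) := by
    intro v
    have h1 := hω (h25_negOne n F) v
    rw [h25_spAct_negOne, ← hT] at h1
    have h2 := negOp_weyl ψ (-v)
    rw [neg_neg] at h2
    rw [mul_assoc, h1, ← mul_assoc, h2, mul_assoc]
  obtain ⟨z, hz⟩ := weyl_commutant hW _ hcomm
  have hTz : T = z • negOp n F := by
    calc T = (negOp n F * negOp n F) * T := by rw [negOp_mul_self, one_mul]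
      _ = negOp n F * (negOp n F * T) := by rw [mul_assoc]
      _ = z • negOp n F := by rw [hz, mul_smul_comm, mul_one]
  refine ⟨z, ?_, hT ▸ hTz⟩
  intro h0
  rw [h0, zero_smul] at hTz
  have h1 : T * ((ω (h25_negOne n F))⁻¹ : (Module.End ℂ ((Fin n → F) → ℂ))ˣ) = 1 := by
    rw [hT]
    exact Units.mul_inv _
  rw [hTz, zero_mul] at h1
  have h2 := congrArg (fun A : Module.End ℂ ((Fin n → F) → ℂ) => A (fun _ => (1 : ℂ)) 0) h1
  simp at h2

/-- O3 : the odd functions are invariant under any intertwining representation -/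
theorem Wodd_invariant [Fintype F] (hodd : Odd (Fintype.card F)) (ψ : AddChar F ℂ) (hψ : ψ ≠ 1)
    (ω : ↥(Matrix.symplecticGroup (Fin n) F) →* (Module.End ℂ ((Fin n → F) → ℂ))ˣ)
    (hω : Intertwines ψ ω) (g : ↥(Matrix.symplecticGroup (Fin n) F))
    (f : (Fin n → F) → ℂ) (hf : f ∈ Wodd n F) :
    (ω g : Module.End ℂ ((Fin n → F) → ℂ)) f ∈ Wodd n F := by
  obtain ⟨z, hz0, hz⟩ := h25_omega_negOne hodd ψ hψ ω hω
  -- `ω g` commutes with `negOp`
  have hc : (ω g : Module.End ℂ ((Fin n → F) → ℂ)) * negOp n F =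
      negOp n F * (ω g : Module.End ℂ ((Fin n → F) → ℂ)) := by
    have h1 : ω g * ω (h25_negOne n F) = ω (h25_negOne n F) * ω g := by
      rw [← map_mul, ← map_mul, h25_negOne_comm]
    have h2 := congrArg (fun u : (Module.End ℂ ((Fin n → F) → ℂ))ˣ =>
      (u : Module.End ℂ ((Fin n → F) → ℂ))) h1
    simp only [Units.val_mul] at h2
    rw [hz, mul_smul_comm, smul_mul_assoc] at h2
    exact smul_right_injective _ hz0 h2
  rw [mem_Wodd]
  intro x
  have hneg : negOp n F f = -f := by
    funext y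
    rw [negOp_apply, Pi.neg_apply]
    exact hf y
  have h3 := congrArg (fun A : Module.End ℂ ((Fin n → F) → ℂ) => A f x) hc
  simp only [Module.End.mul_apply] at h3
  rw [hneg, map_neg, negOp_apply, Pi.neg_apply] at h3
  exact h3.symm

end O

end Cfsg.Agent.Lib.Helper27.WSP
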